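import Mathlib

/-!
# Dimension theory of finitely generated domains over a field (helper7)

All maximal ideals of a finitely generated domain over a field have height equal to the Krull
dimension.
-/

universe u v

namespace Groth.Agent.Lib.Helper7.DimFT

open Polynomial

/-- every maximal ideal of `k[X₁, …, X_d]` has height `d`. -/
theorem height_eq_of_isMaximal_mvPolynomial (k : Type u) [Field k] :
    ∀ (d : ℕ) (M : Ideal (MvPolynomial (Fin d) k)), M.IsMaximal → M.height = d := by
  intro d
  induction d with
  | zero =>
    intro M hM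
    have h1 : ringKrullDim (MvPolynomial (Fin 0) k) = 0 := by
      rw [MvPolynomial.ringKrullDim_of_isNoetherianRing, ringKrullDim_eq_zero_of_field]
      simp
    have h2 := Ideal.height_le_ringKrullDim_of_ne_top hM.ne_top
    rw [h1] at h2
    have h3 : M.height ≤ 0 := by exact_mod_cast h2
    simpa using h3
  | succ d ih =>
    intro M hM
    let e : MvPolynomial (Fin (d + 1)) k ≃+* Polynomial (MvPolynomial (Fin d) k) :=
      (MvPolynomial.finSuccEquiv k d).toRingEquiv
    have hM' : (M.map e).IsMaximal := Ideal.map_isMaximal_of_equiv e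
    have hp : ((M.map e).comap (C : MvPolynomial (Fin d) k →+* _)).IsMaximal :=
      Polynomial.isMaximal_comap_C_of_isJacobsonRing (M.map e)
    haveI : (M.map e).LiesOver ((M.map e).comap (C : MvPolynomial (Fin d) k →+* _)) := ⟨rfl⟩
    have h1 := Polynomial.height_eq_height_add_one
      ((M.map e).comap (C : MvPolynomial (Fin d) k →+* _)) (M.map e)
    rw [ih _ hp, e.height_map] at h1
    rw [h1]
    simp

/-- all maximal ideals of a finitely generated domain over a field have the same height. -/
theorem exists_forall_isMaximal_height_eq (k : Type u) [Field k] (R : Type v) [CommRing R]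
    [IsDomain R] [Algebra k R] [Algebra.FiniteType k R] :
    ∃ s : ℕ, ∀ Q : Ideal R, Q.IsMaximal → Q.height = s := by
  obtain ⟨s, g, hinj, hfin⟩ := exists_finite_inj_algHom_of_fg k R
  refine ⟨s, fun Q hQ => ?_⟩
  algebraize [g.toRingHom]
  haveI : FaithfulSMul (MvPolynomial (Fin s) k) R :=
    (faithfulSMul_iff_algebraMap_injective _ _).2 hinj
  haveI : Module.Finite (MvPolynomial (Fin s) k) R := hfin
  haveI : Algebra.IsIntegral (MvPolynomial (Fin s) k) R := Algebra.IsIntegral.of_finite _ _
  haveI : IsNoetherianRing R := Algebra.FiniteType.isNoetherianRing k R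
  set q := Q.under (MvPolynomial (Fin s) k) with hq
  haveI hqmax : q.IsMaximal := Ideal.isMaximal_comap_of_isIntegral_of_isMaximal Q
  haveI : Q.LiesOver q := ⟨rfl⟩
  have h1 := Ideal.height_eq_height_add_of_liesOver_of_hasGoingDown q Q
  have h2 : q.height = s := height_eq_of_isMaximal_mvPolynomial k s q hqmax
  have h3 : (Q.map (Ideal.Quotient.mk (q.map (algebraMap (MvPolynomial (Fin s) k) R)))).height
      = 0 := by
    have hmin : Q ∈ (q.map (algebraMap (MvPolynomial (Fin s) k) R)).minimalPrimes :=
      Ideal.IsIntegral.mem_minimalPrimes_map_under Q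
    rw [Ideal.minimalPrimes_eq_comap] at hmin
    obtain ⟨Q', hQ', hQQ'⟩ := hmin
    have h4 : Q.map (Ideal.Quotient.mk (q.map (algebraMap (MvPolynomial (Fin s) k) R))) = Q' := by
      rw [← hQQ', Ideal.map_comap_of_surjective _ Ideal.Quotient.mk_surjective]
    rw [h4]
    haveI := hQ'.1.1
    exact Ideal.height_eq_zero_iff.2 hQ'
  rw [h1, h2, h3, add_zero]

/-- the height of a maximal ideal of a finitely generated domain over a field is the Krull
dimension. -/
theorem height_eq_ringKrullDim_of_isMaximal (k : Type u) [Field k] (R : Type v) [CommRing R]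
    [IsDomain R] [Algebra k R] [Algebra.FiniteType k R] (P : Ideal R) [hP : P.IsMaximal] :
    (P.height : WithBot ℕ∞) = ringKrullDim R := by
  obtain ⟨s, hs⟩ := exists_forall_isMaximal_height_eq k R
  rw [← Ideal.sup_isMaximal_height_eq_ringKrullDim, WithBot.coe_inj, hs P hP]
  apply le_antisymm
  · exact le_iSup₂_of_le P hP (hs P hP).ge
  · exact iSup₂_le fun Q hQ => (hs Q hQ).le

end Groth.Agent.Lib.Helper7.DimFT
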