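import Groth.Agent.Lib.Helper7.HopfLieInv
import Groth.Prelude.Def_Lie2

/-!
# Infinitesimal invariance, in terms of `LieHopf.Lie` (helper7)
-/

universe u w

open TensorProduct

namespace Groth.Agent.Lib.Helper7.LieInv

open HopfRep Groth.Agent.Lib.Helper7.Comod Groth.Agent.Lib.Helper7.HopfCot

section Lie

variable {k : Type u} [Field k] {A : Type u} [CommRing A] [HopfAlgebra k A]

/-- the `ε`-derivation attached to a cotangent functional. -/
noncomputable def lieOf (l : (augI k A).Cotangent →ₗ[k] k) : LieHopf.Lie k A where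
  toLinearMap := (dOf l : A →ₗ[k] k)
  map_one_eq_zero' := dOf_one l
  leibniz' a b := by
    change dOf l (a * b) = _
    rw [LieHopf.smul_def, LieHopf.smul_def, dOf_mul]
    change _ = Coalgebra.counit (R := k) a * dOf l b + Coalgebra.counit (R := k) b * dOf l a
    ring

variable {V : Type w} [AddCommGroup V] [Module k V]

lemma rid_lTensor_lieOf (l : (augI k A).Cotangent →ₗ[k] k) (y : V ⊗[k] A) :
    TensorProduct.rid k V
      (LinearMap.lTensor V ((lieOf l).toLinearMap.restrictScalars k) y) = contr V (dOf l) y := rfl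

lemma lTensor_dOf_eq (l : (augI k A).Cotangent →ₗ[k] k) (y : V ⊗[k] A) :
    (LinearMap.lTensor V (dOf l) y : V ⊗[k] k) =
      LinearMap.lTensor V ((lieOf l).toLinearMap.restrictScalars k) y := rfl

lemma contr_eq_zero_of_lTensor (l : (augI k A).Cotangent →ₗ[k] k) (y : V ⊗[k] A)
    (h : LinearMap.lTensor V ((lieOf l).toLinearMap.restrictScalars k) y = 0) :
    contr V (dOf l) y = 0 := by
  have h' : LinearMap.lTensor V (dOf l) y = 0 := h
  change TensorProduct.rid k V (LinearMap.lTensor V (dOf l) y) = 0
  rw [h', map_zero]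

lemma contr_mem_of_lTensor (l : (augI k A).Cotangent →ₗ[k] k) (W : Submodule k V) (y : V ⊗[k] A)
    (h : LinearMap.lTensor V ((lieOf l).toLinearMap.restrictScalars k) y ∈
      LinearMap.range (LinearMap.rTensor (LieHopf.K k A) W.subtype)) :
    contr V (dOf l) y ∈ W := by
  have h' : LinearMap.lTensor V (dOf l) y ∈ LinearMap.range (LinearMap.rTensor k W.subtype) := h
  obtain ⟨z, hz⟩ := h'
  change TensorProduct.rid k V (LinearMap.lTensor V (dOf l) y) ∈ W
  rw [← hz]
  have : ∀ z : W ⊗[k] k, TensorProduct.rid k V (LinearMap.rTensor k W.subtype z) =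
      W.subtype (TensorProduct.rid k W z) := by
    intro z
    induction z using TensorProduct.induction_on with
    | zero => simp
    | tmul w c => simp
    | add a b ha hb => simp only [map_add, ha, hb]
  rw [this]
  exact (TensorProduct.rid k W z).2

lemma contr_eq_of_lTensor {V' : Type w} [AddCommGroup V'] [Module k V']
    (l : (augI k A).Cotangent →ₗ[k] k) (e : V →ₗ[k] V') (y : V ⊗[k] A) (y' : V' ⊗[k] A)
    (h : LinearMap.lTensor V' ((lieOf l).toLinearMap.restrictScalars k) y' =
      LinearMap.rTensor (LieHopf.K k A) e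
        (LinearMap.lTensor V ((lieOf l).toLinearMap.restrictScalars k) y)) :
    contr V' (dOf l) y' = e (contr V (dOf l) y) := by
  have h' : LinearMap.lTensor V' (dOf l) y' =
      LinearMap.rTensor k e (LinearMap.lTensor V (dOf l) y) := h
  change TensorProduct.rid k V' (LinearMap.lTensor V' (dOf l) y') =
    e (TensorProduct.rid k V (LinearMap.lTensor V (dOf l) y))
  rw [h']
  generalize LinearMap.lTensor V (dOf l) y = z
  induction z using TensorProduct.induction_on with
  | zero => simp
  | tmul w c => simp
  | add a b ha hb => simp only [map_add, ha, hb]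

end Lie

end Groth.Agent.Lib.Helper7.LieInv
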