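import Groth.Agent.Lib.Helper7.HopfRed
import Groth.Agent.Lib.Helper7.HopfLieInv2
import Groth.Agent.Lib.Helper25.RegularSmooth
import Groth.Agent.Lib.Helper21.RegularLocal
import Mathlib

/-!
# A smooth subgroup with the same Lie algebra as a connected group is the whole group (helper7)
-/

universe u

open TensorProduct

namespace Groth.Agent.Lib.Helper7.HopfLieEq

open Groth.Agent.Lib.Helper7.HopfCot Groth.Agent.Lib.Helper7.HopfDim

theorem reg_field (k : Type u) [Field k] : IsRegularLocalRing (Localization.AtPrime (⊥ : Ideal k)) := by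
  have h : (⊥ : Ideal k).primeCompl ≤ IsUnit.submonoid k := by
    intro x hx
    have : x ≠ 0 := fun h => hx (by rw [h]; exact Ideal.zero_mem _)
    exact this.isUnit
  exact IsRegularLocalRing.of_ringEquiv
    (IsLocalization.atUnits k (⊥ : Ideal k).primeCompl (S := Localization.AtPrime (⊥ : Ideal k)) h).toRingEquiv

/-- the local rings of a smooth algebra over a field are domains. -/
theorem isDomain_localization_of_smooth (k A : Type u) [Field k] [CommRing A] [Algebra k A]
    [Algebra.Smooth k A] (q : Ideal A) [q.IsPrime] : IsDomain (Localization.AtPrime q) := by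
  haveI := reg_field k
  haveI : q.LiesOver (⊥ : Ideal k) := ⟨by
    symm
    apply Ideal.eq_bot_of_prime⟩
  haveI := Groth.Agent.Lib.Helper25.RegularSmooth.isRegularLocalRing_of_smooth (A := k) (B := A) ⊥ q
  exact Groth.Agent.Lib.Helper21.isDomain_of_isRegularLocalRing _

/-- a Noetherian ring without nontrivial idempotents whose local rings are domains is a domain. -/
theorem isDomain_of_connected {R : Type*} [CommRing R] [IsNoetherianRing R] [Nontrivial R]
    (hloc : ∀ m : Ideal R, ∀ _ : m.IsMaximal, IsDomain (Localization.AtPrime m))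
    (hconn : ∀ e : R, IsIdempotentElem e → e = 0 ∨ e = 1) : IsDomain R := by
  classical
  -- reduced
  haveI hred : IsReduced R := by
    apply isReduced_ofLocalizationMaximal
    intro m hm
    haveI := hloc m hm
    infer_instance
  have hfin : (minimalPrimes R).Finite := minimalPrimes.finite_of_isNoetherianRing R
  obtain ⟨⟨p, hp⟩⟩ : Nonempty (minimalPrimes R) :=
    Ideal.nonempty_minimalPrimes (I := (⊥ : Ideal R)) bot_ne_top
  haveI hpp : p.IsPrime := hp.1.1
  -- distinct minimal primes are coprime
  have hcop : ∀ q ∈ minimalPrimes R, q ≠ p → p ⊔ q = ⊤ := by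
    intro q hq hne
    by_contra htop
    obtain ⟨m, hm, hle⟩ := Ideal.exists_le_maximal _ htop
    haveI := hloc m hm
    haveI : q.IsPrime := hq.1.1
    set K : Ideal R := RingHom.ker (algebraMap R (Localization.AtPrime m)) with hK
    haveI hKp : K.IsPrime := RingHom.ker_isPrime _
    have hKle : ∀ P : Ideal R, P.IsPrime → P ≤ m → K ≤ P := by
      intro P hP hPm x hx
      rw [hK, RingHom.mem_ker, IsLocalization.map_eq_zero_iff m.primeCompl] at hx
      obtain ⟨s, hs⟩ := hx
      rcases hP.mem_or_mem (show (s : R) * x ∈ P by rw [hs]; exact P.zero_mem) with h | h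
      · exact absurd (hPm h) s.2
      · exact h
    have h1 : K = p := le_antisymm (hKle p hpp (le_sup_left.trans hle))
      (hp.2 ⟨hKp, bot_le⟩ (hKle p hpp (le_sup_left.trans hle)))
    have h2 : K = q := le_antisymm (hKle q inferInstance (le_sup_right.trans hle))
      (hq.2 ⟨hKp, bot_le⟩ (hKle q inferInstance (le_sup_right.trans hle)))
    exact hne (h2.symm.trans h1)
  set s : Finset (Ideal R) := hfin.toFinset.erase p with hs
  set J : Ideal R := ⨅ q ∈ s, q with hJ
  have hsup : p ⊔ J = ⊤ := by
    apply Ideal.sup_iInf_eq_top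
    intro q hq
    rw [hs, Finset.mem_erase, Set.Finite.mem_toFinset] at hq
    exact hcop q hq.2 hq.1
  have hinf : p ⊓ J = ⊥ := by
    rw [eq_bot_iff]
    intro x hx
    have hx' : x ∈ sInf (minimalPrimes R) := by
      rw [Ideal.mem_sInf]
      intro q hq
      by_cases hqp : q = p
      · rw [hqp]; exact hx.1
      · have h2 : x ∈ J := hx.2
        rw [hJ, Ideal.mem_iInf] at h2
        have h3 := h2 q
        rw [Ideal.mem_iInf] at h3
        exact h3 (by rw [hs, Finset.mem_erase, Set.Finite.mem_toFinset]; exact ⟨hqp, hq⟩)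
    have h4 : sInf (minimalPrimes R) = nilradical R := by
      change sInf (⊥ : Ideal R).minimalPrimes = _
      rw [Ideal.sInf_minimalPrimes]
      rfl
    rw [h4, nilradical_eq_zero] at hx'
    exact hx'
  obtain ⟨a, ha, b, hb, hab⟩ := Submodule.mem_sup.1 (by rw [hsup]; exact Submodule.mem_top : (1 : R) ∈ p ⊔ J)
  have hab0 : a * b = 0 := by
    have : a * b ∈ p ⊓ J := ⟨p.mul_mem_right _ ha, J.mul_mem_left _ hb⟩
    rw [hinf] at this
    exact this
  have hidem : IsIdempotentElem a := by
    change a * a = a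
    have : a = a * (a + b) := by rw [hab, mul_one]
    rw [mul_add, hab0, add_zero] at this
    exact this.symm
  rcases hconn a hidem with h0 | h1
  · rw [h0, zero_add] at hab
    have hJtop : J = ⊤ := by rw [Ideal.eq_top_iff_one, ← hab]; exact hb
    rw [hJtop, inf_top_eq] at hinf
    haveI : (⊥ : Ideal R).IsPrime := hinf ▸ hpp
    exact IsDomain.of_bot_isPrime R
  · exfalso
    rw [h1] at ha
    exact hpp.ne_top ((Ideal.eq_top_iff_one p).2 ha)


section Main

variable (k A : Type u) [Field k] [CommRing A] [HopfAlgebra k A] [Algebra.FiniteType k A]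

/-- a Hopf ideal on which all `ε`-derivations vanish lies in `I²`. -/
theorem le_sq_of_lie (I : Ideal A) [I.IsHopfIdeal k]
    (hLie : ∀ (D : LieHopf.Lie k A) (a : A), a ∈ I → D a = 0) : I ≤ augI k A ^ 2 := by
  have hI : I ≤ augI k A := by
    intro a ha
    rw [mem_augI]
    exact Submodule.IsCoideal.counit_eq_zero (R := k) (I := I.restrictScalars k) ha
  intro a ha
  have ha' := hI ha
  rw [← Ideal.toCotangent_eq_zero (augI k A) ⟨a, ha'⟩]
  by_contra hne
  obtain ⟨l, hl⟩ : ∃ l : (augI k A).Cotangent →ₗ[k] k, l ((augI k A).toCotangent ⟨a, ha'⟩) ≠ 0 := by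
    by_contra hall
    push Not at hall
    exact hne ((Module.forall_dual_apply_eq_zero_iff k _).1 hall)
  apply hl
  rw [← dOf_of_mem l ha']
  exact hLie (Groth.Agent.Lib.Helper7.LieInv.lieOf l) a ha

/-- **a smooth Hopf quotient with the same Lie algebra of a connected group is everything.** -/
theorem main (hconn : ∀ e : A, IsIdempotentElem e → e = 0 ∨ e = 1)
    (I : Ideal A) [I.IsHopfIdeal k] [Algebra.FormallySmooth k (A ⧸ I)]
    (hLie : ∀ (D : LieHopf.Lie k A) (a : A), a ∈ I → D a = 0) : I = ⊥ := by
  have h := le_sq_of_lie k A I hLie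
  haveI := finite_cotangent (k := k) (A := A ⧸ I)
  haveI := finite_cotangent (k := k) (A := A)
  have hle : augI k A ≤ (augI k (A ⧸ I)).comap (Ideal.Quotient.mkₐ k I) := by
    intro a ha
    rw [Ideal.mem_comap, mem_augI]
    change Coalgebra.counit (R := k) (Ideal.Quotient.mk I a) = 0
    rw [Bialgebra.Quotient.counit_mk]
    exact (mem_augI a).1 ha
  have hinj : Function.Injective (Ideal.mapCotangent (augI k A) (augI k (A ⧸ I))
      (Ideal.Quotient.mkₐ k I) hle) := by
    rw [← LinearMap.ker_eq_bot, eq_bot_iff]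
    intro x hx
    obtain ⟨x, rfl⟩ := (augI k A).toCotangent_surjective x
    rw [LinearMap.mem_ker, Ideal.mapCotangent_toCotangent, Ideal.toCotangent_eq_zero] at hx
    rw [Submodule.mem_bot, Ideal.toCotangent_eq_zero]
    have h1 : augI k (A ⧸ I) ≤ (augI k A).map (Ideal.Quotient.mk I) := by
      intro y hy
      obtain ⟨a, rfl⟩ := Ideal.Quotient.mk_surjective y
      have ha : a ∈ augI k A := by
        rw [mem_augI] at hy ⊢
        rw [← Bialgebra.Quotient.counit_mk (R := k) I]
        exact hy
      exact Ideal.mem_map_of_mem _ ha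
    have h2 : Ideal.Quotient.mk I (x : A) ∈ (augI k A ^ 2).map (Ideal.Quotient.mk I) := by
      rw [Ideal.map_pow]
      exact Ideal.pow_right_mono h1 2 hx
    rw [Ideal.mem_map_iff_of_surjective _ Ideal.Quotient.mk_surjective] at h2
    obtain ⟨y, hy, hxy⟩ := h2
    have h3 : (x : A) - y ∈ I := by
      rw [← Ideal.Quotient.eq, hxy]
    have : (x : A) = y + ((x : A) - y) := by ring
    rw [this]
    exact Ideal.add_mem _ hy (h h3)
  have hcot := LinearMap.finrank_le_finrank_of_injective hinj
  have hB := Groth.Agent.Lib.Helper7.HopfDim.main k (A ⧸ I)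
  have hA := Groth.Agent.Lib.Helper7.HopfDim.main k A
  have hdimB : ringKrullDim (A ⧸ I) = (Module.finrank k (augI k (A ⧸ I)).Cotangent : ℕ) :=
    hB.2.2 inferInstance
  have hcot' : ((Module.finrank k (augI k A).Cotangent : ℕ) : WithBot ℕ∞) ≤
      (Module.finrank k (augI k (A ⧸ I)).Cotangent : ℕ) := by exact_mod_cast hcot
  have hdimle : ringKrullDim (A ⧸ I) ≤ ringKrullDim A := ringKrullDim_quotient_le I
  have heqA : ringKrullDim A = (Module.finrank k (augI k A).Cotangent : ℕ) :=
    le_antisymm hA.1 (hcot'.trans (hdimB ▸ hdimle))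
  have hdimeq : ringKrullDim (A ⧸ I) = ringKrullDim A :=
    le_antisymm hdimle (heqA ▸ hdimB ▸ hcot')
  haveI hfs : Algebra.FormallySmooth k A := hA.2.1 heqA
  haveI : IsNoetherianRing A := Algebra.FiniteType.isNoetherianRing k A
  haveI : Algebra.FinitePresentation k A := Algebra.FinitePresentation.of_finiteType.1 inferInstance
  haveI : Algebra.Smooth k A := ⟨hfs, inferInstance⟩
  haveI : Nontrivial A := (Bialgebra.counitAlgHom k A).toRingHom.domain_nontrivial
  haveI : IsDomain A := isDomain_of_connected
    (fun m hm => isDomain_localization_of_smooth k A m) hconn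
  by_contra hne
  obtain ⟨a, haI, ha0⟩ := Submodule.exists_mem_ne_zero_of_ne_bot hne
  have h5 := ringKrullDim_quotient_succ_le_of_nonZeroDivisor (mem_nonZeroDivisors_of_ne_zero ha0)
  have h6 : ringKrullDim (A ⧸ I) ≤ ringKrullDim (A ⧸ Ideal.span {a}) :=
    ringKrullDim_le_of_surjective (Ideal.Quotient.factor
      ((Ideal.span_singleton_le_iff_mem I).2 haI)) (Ideal.Quotient.factor_surjective _)
  have h7 : ringKrullDim A + 1 ≤ ringKrullDim A := by
    calc ringKrullDim A + 1 = ringKrullDim (A ⧸ I) + 1 := by rw [hdimeq]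
      _ ≤ ringKrullDim (A ⧸ Ideal.span {a}) + 1 := by gcongr
      _ ≤ ringKrullDim A := h5
  rw [heqA] at h7
  have : ((Module.finrank k (augI k A).Cotangent + 1 : ℕ) : WithBot ℕ∞) ≤
      (Module.finrank k (augI k A).Cotangent : ℕ) := by exact_mod_cast h7
  have h8 : Module.finrank k (augI k A).Cotangent + 1 ≤ Module.finrank k (augI k A).Cotangent := by
    exact_mod_cast this
  omega

end Main

end Groth.Agent.Lib.Helper7.HopfLieEq
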