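import Groth.Agent.Lib.Helper6.GeomReduced

/-!
# Reducedness of tensor products over a perfect field

* `isReduced_field_tensor_of_perfectField`: `k` perfect, `S` reduced `k`-algebra, `K/k` any field
  extension (same universe): `K ⊗[k] S` is reduced.
* `isReduced_tensorProduct_of_perfectField`: `k` perfect, `R`, `S` reduced `k`-algebras:
  `R ⊗[k] S` is reduced.
-/

set_option autoImplicit false

namespace Groth.Agent.Lib.Helper7

open TensorProduct

universe u

/-- Over a perfect field `k`, a reduced algebra stays reduced after any field extension. -/
theorem isReduced_field_tensor_of_perfectField {k S : Type u} [Field k] [PerfectField k]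
    [CommRing S] [Algebra k S] [IsReduced S] (K : Type u) [Field K] [Algebra k K] :
    IsReduced (K ⊗[k] S) := by
  have h0 : IsReduced (k ⊗[k] S) :=
    isReduced_of_injective (Algebra.TensorProduct.lid k S).toAlgHom
      (Algebra.TensorProduct.lid k S).injective
  have h1 : IsReduced (AlgebraicClosure k ⊗[k] S) :=
    Groth.Agent.Lib.Helper6.isReduced_tensor_of_perfectField_of_isAlgebraic (P := k) h0
  exact Groth.Agent.Lib.Helper6.isReduced_of_isReduced_algClosure h1 K

/-- Over a perfect field, the tensor product of two reduced algebras is reduced. -/
theorem isReduced_tensorProduct_of_perfectField {k R S : Type u} [Field k] [PerfectField k]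
    [CommRing R] [CommRing S] [Algebra k R] [Algebra k S] [IsReduced R] [IsReduced S] :
    IsReduced (R ⊗[k] S) := by
  apply Groth.Agent.Lib.Helper6.isReduced_tensor_of_forall_residueField
  intro p hp
  have h := isReduced_field_tensor_of_perfectField (k := k) (S := R) p.ResidueField
  exact isReduced_of_injective (Algebra.TensorProduct.comm k R p.ResidueField).toAlgHom
    (Algebra.TensorProduct.comm k R p.ResidueField).injective

end Groth.Agent.Lib.Helper7
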