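import Groth.Agent.Lib.Helper7.ComodSS
import Mathlib.LinearAlgebra.FiniteDimensional.Basic

/-!
# Comodule maps, projections, types of simple subcomodules, isotypic components (helper7 toolbox)
-/

universe u v v' w w' w''

open TensorProduct

namespace Groth.Agent.Lib.Helper7.Comod

open HopfRep

section Hom

variable {k : Type u} {C : Type v} [CommRing k] [AddCommGroup C] [Module k C] [Coalgebra k C]
variable {V : Type w} [AddCommGroup V] [Module k V] [Comod k C V]
variable {S : Type w'} [AddCommGroup S] [Module k S] [Comod k C S]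
variable {K : Type w''} [AddCommGroup K] [Module k K] [Comod k C K]

/-- If `f ∘ h` and `f` are comodule maps and `f ⊗ id` is injective, then `h` is a comodule map. -/
lemma isComodHom_of_comp_injective {f : S →ₗ[k] V} (hf : Hoch.IsComodHom C f)
    (hinj : Function.Injective (f.rTensor C)) {h : K →ₗ[k] S}
    (hfh : Hoch.IsComodHom C (f ∘ₗ h)) : Hoch.IsComodHom C h := by
  rw [isComodHom_iff] at *
  intro x
  apply hinj
  rw [← hf, ← LinearMap.comp_apply f h, hfh, LinearMap.rTensor_comp, LinearMap.comp_apply]

/-- The inverse of a bijective comodule map is a comodule map. -/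
lemma isComodHom_symm (e : K ≃ₗ[k] S) (he : Hoch.IsComodHom C (e : K →ₗ[k] S)) :
    Hoch.IsComodHom C (e.symm : S →ₗ[k] K) := by
  rw [isComodHom_iff] at *
  intro s
  obtain ⟨x, rfl⟩ := e.surjective s
  have h1 := he x
  simp only [LinearEquiv.coe_coe] at h1 ⊢
  rw [h1, LinearEquiv.symm_apply_apply, ← LinearMap.comp_apply, ← LinearMap.rTensor_comp]
  have : (e.symm : S →ₗ[k] K) ∘ₗ (e : K →ₗ[k] S) = LinearMap.id := by
    ext y; simp
  rw [this, LinearMap.rTensor_id, LinearMap.id_apply]

/-- The projection onto a subcomodule along a complementary subcomodule is a comodule map. -/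
lemma isComodHom_proj {W W' : Submodule k V} (hW : IsSubcomod (k := k) (A := C) W)
    (hW' : IsSubcomod (k := k) (A := C) W') (h : IsCompl W W') :
    Hoch.IsComodHom C (W.subtype ∘ₗ Submodule.projectionOnto W W' h) := by
  rw [isComodHom_iff]
  intro v
  set p := W.subtype ∘ₗ Submodule.projectionOnto W W' h with hp
  have hpW : p ∘ₗ W.subtype = W.subtype := by
    ext w
    simp only [hp, LinearMap.comp_apply, Submodule.subtype_apply]
    rw [Submodule.projectionOnto_apply_left]
  have hpW' : p ∘ₗ W'.subtype = 0 := by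
    ext w
    simp only [hp, LinearMap.comp_apply, Submodule.subtype_apply]
    rw [Submodule.projectionOnto_apply_right]
    simp
  have hv : v ∈ W ⊔ W' := by rw [h.sup_eq_top]; trivial
  obtain ⟨a, ha, b, hb, rfl⟩ := Submodule.mem_sup.1 hv
  have hpa : p a = a := LinearMap.congr_fun hpW ⟨a, ha⟩
  have hpb : p b = 0 := LinearMap.congr_fun hpW' ⟨b, hb⟩
  obtain ⟨x, hx⟩ := hW a ha
  obtain ⟨y, hy⟩ := hW' b hb
  rw [map_add, hpa, hpb, add_zero, map_add, map_add]
  change _ = p.rTensor C (Comod.coact (k := k) (A := C) a) + p.rTensor C (Comod.coact (k := k) (A := C) b)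
  rw [← hx, ← hy, ← LinearMap.comp_apply, ← LinearMap.rTensor_comp, hpW,
    ← LinearMap.comp_apply, ← LinearMap.rTensor_comp, hpW']
  simp

end Hom

section Types

variable {k : Type u} {C : Type v} [Field k] [AddCommGroup C] [Module k C] [Coalgebra k C]
variable {V : Type w} [AddCommGroup V] [Module k V] [Comod k C V]
variable {S : Type w'} [AddCommGroup S] [Module k S] [Comod k C S]

/-- A nonzero comodule map out of a simple comodule is injective. -/
lemma injective_of_isSimpleComod (hS : IsSimpleComod k C S) {f : S →ₗ[k] V}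
    (hf : Hoch.IsComodHom C f) (hf0 : f ≠ 0) : Function.Injective f := by
  rcases hS.2 _ (isSubcomod_ker hf) with h | h
  · exact LinearMap.ker_eq_bot.1 h
  · exact absurd (LinearMap.ker_eq_top.1 h) hf0

/-- The range of a nonzero comodule map out of a simple comodule is a simple subcomodule. -/
lemma isSimpleSub_range (hS : IsSimpleComod k C S) {f : S →ₗ[k] V}
    (hf : Hoch.IsComodHom C f) (hf0 : f ≠ 0) : IsSimpleSub k C (LinearMap.range f) := by
  have hinj := injective_of_isSimpleComod hS hf hf0
  refine ⟨isSubcomod_range hf, fun h => hf0 (LinearMap.range_eq_bot.1 h), fun W' hW' hle => ?_⟩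
  rcases hS.2 _ (isSubcomod_comap hf hW') with h | h
  · left
    rw [eq_bot_iff]
    intro x hx
    obtain ⟨s, rfl⟩ := hle hx
    have : s ∈ W'.comap f := hx
    rw [h, Submodule.mem_bot] at this
    rw [this, map_zero]
    exact Submodule.zero_mem _
  · right
    apply le_antisymm hle
    rintro _ ⟨s, rfl⟩
    have : s ∈ W'.comap f := by rw [h]; trivial
    exact this

/-- S18819 (general index type): a simple comodule mapping nontrivially to a sum of images of simple
comodules is isomorphic to one of them. -/
theorem exists_comodIso_of_iSup_range_eq_top {ι : Type*} (K : ι → Type w'')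
    [∀ i, AddCommGroup (K i)] [∀ i, Module k (K i)] [∀ i, Comod k C (K i)]
    (hK : ∀ i, IsSimpleComod k C (K i)) (g : ∀ i, K i →ₗ[k] V)
    (hg : ∀ i, Hoch.IsComodHom C (g i)) (hsum : (⨆ i, LinearMap.range (g i)) = ⊤)
    (hS : IsSimpleComod k C S) (f : S →ₗ[k] V) (hf : Hoch.IsComodHom C f) (hf0 : f ≠ 0) :
    ∃ (i : ι) (e : S ≃ₗ[k] K i), Hoch.IsComodHom C (e : S →ₗ[k] K i) := by
  classical
  have hinj := injective_of_isSimpleComod hS hf hf0
  -- `V` is semisimple
  have hss : IsSemisimpleComod k C V := by
    let J := {i : ι // g i ≠ 0}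
    apply isSemisimpleComod_of_iSup_simple_eq_top (fun j : J => LinearMap.range (g j.1))
      (fun j => isSimpleSub_range (hK j.1) (hg j.1) j.2)
    rw [eq_top_iff, ← hsum]
    apply iSup_le
    intro i
    by_cases hi : g i = 0
    · rw [hi, LinearMap.range_zero]; exact bot_le
    · exact le_iSup (fun j : J => LinearMap.range (g j.1)) ⟨i, hi⟩
  obtain ⟨F', hF', hcompl⟩ := hss _ (isSubcomod_range hf)
  set p : V →ₗ[k] V := (LinearMap.range f).subtype ∘ₗ
    Submodule.projectionOnto (LinearMap.range f) F' hcompl with hp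
  have hpc : Hoch.IsComodHom C p := isComodHom_proj (isSubcomod_range hf) hF' hcompl
  have hpr : ∀ v, p v ∈ LinearMap.range f := fun v => by
    rw [hp]; exact Submodule.coe_mem _
  have hpf : ∀ s, p (f s) = f s := fun s => by
    rw [hp, LinearMap.comp_apply]
    have := Submodule.projectionOnto_apply_left hcompl ⟨f s, s, rfl⟩
    rw [this]; rfl
  -- the maps `h i : K i → S` with `f ∘ h i = p ∘ g i`
  let e0 := LinearEquiv.ofInjective f hinj
  let h : ∀ i, K i →ₗ[k] S := fun i =>
    e0.symm.toLinearMap ∘ₗ LinearMap.codRestrict (LinearMap.range f) (p ∘ₗ g i) (fun x => hpr _)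
  have hfh : ∀ i, f ∘ₗ h i = p ∘ₗ g i := by
    intro i
    ext x
    change f (e0.symm ⟨p (g i x), hpr _⟩) = p (g i x)
    have := LinearEquiv.ofInjective_apply (f := f) (h := hinj) (e0.symm ⟨p (g i x), hpr _⟩)
    rw [← this, LinearEquiv.apply_symm_apply]
  have hfinj : Function.Injective (f.rTensor C) :=
    Module.Flat.rTensor_preserves_injective_linearMap _ hinj
  have hhc : ∀ i, Hoch.IsComodHom C (h i) := fun i =>
    isComodHom_of_comp_injective hf hfinj (by rw [hfh]; exact isComodHom_comp hpc (hg i))
  -- some `h i` is nonzero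
  have hex : ∃ i, h i ≠ 0 := by
    by_contra hall
    push Not at hall
    have hp0 : p = 0 := by
      have : ∀ v ∈ (⊤ : Submodule k V), p v = 0 := by
        rw [← hsum]
        intro v hv
        refine Submodule.iSup_induction _ (motive := fun v => p v = 0) hv ?_ (map_zero _) ?_
        · rintro i _ ⟨x, rfl⟩
          rw [← LinearMap.comp_apply, ← hfh, hall i]
          simp
        · intro a b ha hb
          rw [map_add, ha, hb, add_zero]
      exact LinearMap.ext fun v => this v trivial
    apply hf0
    ext s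
    rw [← hpf s, hp0]
    simp
  obtain ⟨i, hi⟩ := hex
  rcases eq_zero_or_bijective_of_isComodHom (hK i) hS (h i) (hhc i) with h0 | hbij
  · exact absurd h0 hi
  · let e := LinearEquiv.ofBijective (h i) hbij
    exact ⟨i, e.symm, isComodHom_symm e (hhc i)⟩

end Types

section Restr

variable {k : Type u} {C : Type v} [Field k] [AddCommGroup C] [Module k C] [Coalgebra k C]
variable {V : Type w} [AddCommGroup V] [Module k V] [c : Comod k C V]
variable {K : Type w''} [AddCommGroup K] [Module k K] [Comod k C K]

/-- Corestriction of a comodule map to a subcomodule containing its range. -/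
lemma isComodHom_codRestrict (W : Submodule k V) (hW : IsSubcomod (k := k) (A := C) W)
    {g : K →ₗ[k] V} (hg : Hoch.IsComodHom C g) (h : ∀ x, g x ∈ W) :
    @Hoch.IsComodHom k _ C _ _ _ K _ _ _ W _ _ (ComodSub.Comod.restr c W hW)
      (LinearMap.codRestrict W g h) := by
  letI : Comod k C W := ComodSub.Comod.restr c W hW
  exact isComodHom_of_comp_injective (f := W.subtype) (ComodSub.isComodHom_subtype c W hW)
    (Module.Flat.rTensor_preserves_injective_linearMap _ W.injective_subtype) (by
      have : W.subtype ∘ₗ LinearMap.codRestrict W g h = g := by ext x; rfl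
      rw [this]; exact hg)

/-- Subcomodules of a subcomodule `W` (with its induced structure) are subcomodules of `V`. -/
lemma isSubcomod_map_subtype (W : Submodule k V) (hW : IsSubcomod (k := k) (A := C) W)
    {N : Submodule k W}
    (hN : @IsSubcomod k C _ _ _ _ W _ _ (ComodSub.Comod.restr c W hW) N) :
    IsSubcomod (k := k) (A := C) (N.map W.subtype) := by
  letI : Comod k C W := ComodSub.Comod.restr c W hW
  exact isSubcomod_map (ComodSub.isComodHom_subtype c W hW) hN

/-- A simple subcomodule is a simple comodule for its induced structure. -/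
lemma isSimpleComod_restr {W : Submodule k V} (hW : IsSimpleSub k C W) :
    @IsSimpleComod k C _ _ _ _ W _ _ (ComodSub.Comod.restr c W hW.1) := by
  refine ⟨?_, fun N hN => ?_⟩
  · rw [Submodule.nontrivial_iff_ne_bot]
    exact hW.2.1
  · rcases hW.2.2 _ (isSubcomod_map_subtype W hW.1 hN) (Submodule.map_subtype_le W N) with h | h
    · left
      rw [eq_bot_iff]
      intro x hx
      have : (x : V) ∈ N.map W.subtype := ⟨x, hx, rfl⟩
      rw [h, Submodule.mem_bot] at this
      rw [Submodule.mem_bot]
      exact Subtype.ext this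
    · right
      rw [eq_top_iff]
      intro x _
      have : (x : V) ∈ N.map W.subtype := by rw [h]; exact x.2
      obtain ⟨y, hy, hyx⟩ := this
      rw [← Subtype.ext hyx]
      exact hy

/-- Every nonzero subcomodule contains a simple subcomodule. -/
theorem exists_isSimpleSub_le {W : Submodule k V} (hW : IsSubcomod (k := k) (A := C) W)
    (hne : W ≠ ⊥) : ∃ T : Submodule k V, T ≤ W ∧ IsSimpleSub k C T := by
  obtain ⟨w, hwW, hw0⟩ := Submodule.exists_mem_ne_zero_of_ne_bot hne
  obtain ⟨U, hUfin, hwU, hU⟩ := exists_finite_subcomod_mem (k := k) (C := C) (V := V) w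
  let P : Submodule k V → Prop := fun T => IsSubcomod (k := k) (A := C) T ∧ T ≠ ⊥ ∧ T ≤ U ⊓ W
  have hP : ∃ T, P T := ⟨U ⊓ W, isSubcomod_inf hU hW, fun h => hw0 (by
    have : w ∈ U ⊓ W := ⟨hwU, hwW⟩
    rw [h] at this
    exact (Submodule.mem_bot k).1 this), le_rfl⟩
  obtain ⟨T, hT, hmin⟩ := exists_minimalFor_of_wellFoundedLT P
    (fun T : Submodule k V => Module.finrank k T) hP
  refine ⟨T, hT.2.2.trans inf_le_right, hT.1, hT.2.1, fun T' hT' hle => ?_⟩
  by_cases h0 : T' = ⊥
  · exact Or.inl h0
  · right
    have hTfin : Module.Finite k T := by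
      have : Module.Finite k U := hUfin
      exact Submodule.finiteDimensional_of_le (hT.2.2.trans inf_le_left)
    have h1 : Module.finrank k T' ≤ Module.finrank k T := Submodule.finrank_mono hle
    have h2 := hmin ⟨hT', h0, hle.trans hT.2.2⟩ h1
    exact Submodule.eq_of_le_of_finrank_le hle h2

end Restr

section TypesSub

variable {k : Type u} {C : Type v} [Field k] [AddCommGroup C] [Module k C] [Coalgebra k C]
variable {V : Type w} [AddCommGroup V] [Module k V] [c : Comod k C V]
variable {S : Type w'} [AddCommGroup S] [Module k S] [Comod k C S]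

/-- A simple comodule mapping nontrivially into a sum of images of simple comodules is
isomorphic to one of them. -/
theorem exists_comodIso_of_range_le_iSup_range {ι : Type*} (K : ι → Type w'')
    [∀ i, AddCommGroup (K i)] [∀ i, Module k (K i)] [∀ i, Comod k C (K i)]
    (hK : ∀ i, IsSimpleComod k C (K i)) (g : ∀ i, K i →ₗ[k] V)
    (hg : ∀ i, Hoch.IsComodHom C (g i))
    (hS : IsSimpleComod k C S) (f : S →ₗ[k] V) (hf : Hoch.IsComodHom C f) (hf0 : f ≠ 0)
    (hle : LinearMap.range f ≤ ⨆ i, LinearMap.range (g i)) :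
    ∃ (i : ι) (e : S ≃ₗ[k] K i), Hoch.IsComodHom C (e : S →ₗ[k] K i) := by
  set M : Submodule k V := ⨆ i, LinearMap.range (g i) with hMdef
  have hM : IsSubcomod (k := k) (A := C) M := isSubcomod_iSup fun i => isSubcomod_range (hg i)
  letI cM : Comod k C M := ComodSub.Comod.restr c M hM
  have hgM : ∀ i x, g i x ∈ M := fun i x =>
    (le_iSup (fun i => LinearMap.range (g i)) i) ⟨x, rfl⟩
  have hfM : ∀ s, f s ∈ M := fun s => hle ⟨s, rfl⟩
  let g' : ∀ i, K i →ₗ[k] M := fun i => LinearMap.codRestrict M (g i) (hgM i)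
  let f' : S →ₗ[k] M := LinearMap.codRestrict M f hfM
  have hg' : ∀ i, Hoch.IsComodHom C (g' i) := fun i => isComodHom_codRestrict M hM (hg i) (hgM i)
  have hf' : Hoch.IsComodHom C f' := isComodHom_codRestrict M hM hf hfM
  have hsum : (⨆ i, LinearMap.range (g' i)) = ⊤ := by
    apply Submodule.map_injective_of_injective M.injective_subtype
    rw [Submodule.map_iSup, Submodule.map_top, Submodule.range_subtype]
    have : ∀ i, (LinearMap.range (g' i)).map M.subtype = LinearMap.range (g i) := by
      intro i
      rw [← LinearMap.range_comp]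
      rfl
    simp_rw [this]
    exact hMdef.symm
  have hf0' : f' ≠ 0 := by
    intro h
    apply hf0
    ext s
    have := congrArg (fun φ : S →ₗ[k] M => (φ s : V)) h
    simpa [f'] using this
  exact exists_comodIso_of_iSup_range_eq_top K hK g' hg' hsum hS f' hf' hf0'

/-- S18810: isotypic components of pairwise non-isomorphic simple types are independent. -/
theorem iSupIndep_isotypic {ι : Type*} (S : ι → Type w')
    [∀ j, AddCommGroup (S j)] [∀ j, Module k (S j)] [∀ j, Comod k C (S j)]
    (hS : ∀ j, IsSimpleComod k C (S j))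
    (hne : ∀ j j', j ≠ j' → ∀ e : S j ≃ₗ[k] S j', ¬ Hoch.IsComodHom C (e : S j →ₗ[k] S j')) :
    iSupIndep (fun j => ⨆ f : {f : S j →ₗ[k] V // Hoch.IsComodHom C f}, LinearMap.range f.1) := by
  intro j
  rw [disjoint_iff]
  by_contra hne0
  have hsub1 : IsSubcomod (k := k) (A := C)
      (⨆ f : {f : S j →ₗ[k] V // Hoch.IsComodHom C f}, LinearMap.range f.1) :=
    isSubcomod_iSup fun f => isSubcomod_range f.2
  have hsub2 : IsSubcomod (k := k) (A := C)
      (⨆ (j') (_ : j' ≠ j), ⨆ f : {f : S j' →ₗ[k] V // Hoch.IsComodHom C f},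
        LinearMap.range f.1) :=
    isSubcomod_iSup fun j' => isSubcomod_iSup fun _ => isSubcomod_iSup fun f => isSubcomod_range f.2
  obtain ⟨T, hTle, hT⟩ := exists_isSimpleSub_le (isSubcomod_inf hsub1 hsub2) hne0
  letI cT : Comod k C T := ComodSub.Comod.restr c T hT.1
  have hTs : IsSimpleComod k C T := isSimpleComod_restr hT
  have hι : Hoch.IsComodHom C T.subtype := ComodSub.isComodHom_subtype c T hT.1
  have hι0 : T.subtype ≠ 0 := by
    intro h
    apply hT.2.1
    rw [eq_bot_iff]
    intro x hx
    have := LinearMap.congr_fun h ⟨x, hx⟩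
    simpa using this
  -- type `j`
  obtain ⟨_, e1, he1⟩ := exists_comodIso_of_range_le_iSup_range
    (fun _ : {f : S j →ₗ[k] V // Hoch.IsComodHom C f} => S j) (fun _ => hS j)
    (fun f => f.1) (fun f => f.2) hTs T.subtype hι hι0
    (by rw [Submodule.range_subtype]; exact hTle.trans inf_le_left)
  -- another type
  obtain ⟨x, e2, he2⟩ := exists_comodIso_of_range_le_iSup_range
    (fun x : (Σ j' : {j' : ι // j' ≠ j}, {f : S j'.1 →ₗ[k] V // Hoch.IsComodHom C f}) => S x.1.1)
    (fun x => hS x.1.1) (fun x => x.2.1) (fun x => x.2.2) hTs T.subtype hι hι0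
    (by
      rw [Submodule.range_subtype]
      refine (hTle.trans inf_le_right).trans ?_
      apply iSup_le
      intro j'
      apply iSup_le
      intro hj'
      apply iSup_le
      intro f
      exact le_iSup (fun x : (Σ j' : {j' : ι // j' ≠ j},
        {f : S j'.1 →ₗ[k] V // Hoch.IsComodHom C f}) => LinearMap.range x.2.1) ⟨⟨j', hj'⟩, f⟩)
  have hcomp : Hoch.IsComodHom C ((e1.symm.trans e2 : S j ≃ₗ[k] S x.1.1) : S j →ₗ[k] S x.1.1) := by
    have : ((e1.symm.trans e2 : S j ≃ₗ[k] S x.1.1) : S j →ₗ[k] S x.1.1) =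
        (e2 : T →ₗ[k] S x.1.1) ∘ₗ (e1.symm : S j →ₗ[k] T) := by
      ext y; rfl
    rw [this]
    exact isComodHom_comp he2 (isComodHom_symm e1 he1)
  exact hne j x.1.1 (fun h => x.1.2 h.symm) _ hcomp

end TypesSub

section Commuting

variable {k : Type u} [Field k]
variable {C : Type v} [AddCommGroup C] [Module k C] [Coalgebra k C]
variable {D : Type v'} [AddCommGroup D] [Module k D] [Coalgebra k D]
variable {V : Type w} [AddCommGroup V] [Module k V] [Comod k C V] [Comod k D V]

/-- Contraction of the `C`-factor of `V ⊗ (C ⊗ D)` against a functional. -/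
noncomputable def contrMid (V : Type w) [AddCommGroup V] [Module k V] (D : Type v')
    [AddCommGroup D] [Module k D] (φ : C →ₗ[k] k) : V ⊗[k] (C ⊗[k] D) →ₗ[k] V ⊗[k] D :=
  LinearMap.lTensor V ((TensorProduct.lid k D).toLinearMap ∘ₗ LinearMap.rTensor D φ)

omit [Coalgebra k C] [Coalgebra k D] [Comod k C V] [Comod k D V] in
lemma contrMid_assoc_tmul (φ : C →ₗ[k] k) (x : V ⊗[k] C) (d : D) :
    contrMid V D φ (TensorProduct.assoc k V C D (x ⊗ₜ[k] d)) = contr V φ x ⊗ₜ[k] d := by
  induction x using TensorProduct.induction_on with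
  | zero => simp
  | tmul u c => simp [contrMid, TensorProduct.smul_tmul]
  | add a b ha hb => rw [TensorProduct.add_tmul, map_add, map_add, ha, hb, map_add,
      TensorProduct.add_tmul]

omit [Coalgebra k C] [Coalgebra k D] [Comod k C V] [Comod k D V] in
lemma contrMid_comm_assoc_tmul (φ : C →ₗ[k] k) (z : V ⊗[k] D) (c : C) :
    contrMid V D φ ((TensorProduct.comm k D C).toLinearMap.lTensor V
      (TensorProduct.assoc k V D C (z ⊗ₜ[k] c))) = φ c • z := by
  induction z using TensorProduct.induction_on with
  | zero => simp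
  | tmul u d => simp [contrMid, TensorProduct.tmul_smul]
  | add a b ha hb => rw [TensorProduct.add_tmul, map_add, map_add, map_add, ha, hb, smul_add]

/-- For commuting coactions of `C` and `D` on `V`, the "matrix coefficient operators"
`v ↦ (id ⊗ φ)(ρ_C v)` are `D`-comodule endomorphisms. -/
lemma isComodHom_contr_coact
    (hcomm : (TensorProduct.assoc k V C D).toLinearMap ∘ₗ
        (Comod.coact (k := k) (A := C) (V := V)).rTensor D ∘ₗ Comod.coact (k := k) (A := D) =
      (TensorProduct.comm k D C).toLinearMap.lTensor V ∘ₗ (TensorProduct.assoc k V D C).toLinearMap ∘ₗ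
        (Comod.coact (k := k) (A := D) (V := V)).rTensor C ∘ₗ Comod.coact (k := k) (A := C))
    (φ : C →ₗ[k] k) :
    Hoch.IsComodHom D (contr V φ ∘ₗ Comod.coact (k := k) (A := C) (V := V)) := by
  rw [isComodHom_iff]
  intro v
  have h := congrArg (contrMid V D φ) (LinearMap.congr_fun hcomm v)
  simp only [LinearMap.comp_apply, LinearEquiv.coe_coe] at h
  have h1 : ∀ y : V ⊗[k] D, contrMid V D φ (TensorProduct.assoc k V C D
      ((Comod.coact (k := k) (A := C) (V := V)).rTensor D y)) =
      (contr V φ ∘ₗ Comod.coact (k := k) (A := C) (V := V)).rTensor D y := by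
    intro y
    induction y using TensorProduct.induction_on with
    | zero => simp
    | tmul u d => simp [contrMid_assoc_tmul]
    | add a b ha hb => simp only [map_add, ha, hb]
  have h2 : ∀ x : V ⊗[k] C, contrMid V D φ ((TensorProduct.comm k D C).toLinearMap.lTensor V
      (TensorProduct.assoc k V D C ((Comod.coact (k := k) (A := D) (V := V)).rTensor C x))) =
      Comod.coact (k := k) (A := D) (contr V φ x) := by
    intro x
    induction x using TensorProduct.induction_on with
    | zero => simp
    | tmul u c => simp [contrMid_comm_assoc_tmul]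
    | add a b ha hb => simp only [map_add, ha, hb]
  rw [h1, h2] at h
  exact h.symm

/-- S18814: isotypic components for `D` are `C`-subcomodules when the coactions commute. -/
theorem isSubcomod_isotypic_of_commuting
    (hcomm : (TensorProduct.assoc k V C D).toLinearMap ∘ₗ
        (Comod.coact (k := k) (A := C) (V := V)).rTensor D ∘ₗ Comod.coact (k := k) (A := D) =
      (TensorProduct.comm k D C).toLinearMap.lTensor V ∘ₗ (TensorProduct.assoc k V D C).toLinearMap ∘ₗ
        (Comod.coact (k := k) (A := D) (V := V)).rTensor C ∘ₗ Comod.coact (k := k) (A := C))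
    (S : Type w') [AddCommGroup S] [Module k S] [Comod k D S] :
    IsSubcomod (k := k) (A := C)
      (⨆ f : {f : S →ₗ[k] V // Hoch.IsComodHom D f}, LinearMap.range f.1) := by
  intro v hv
  rw [mem_range_rTensor_iff_contr]
  intro φ
  have hT := isComodHom_contr_coact hcomm φ
  refine Submodule.iSup_induction _ (motive := fun v => contr V φ (Comod.coact (k := k) (A := C) v) ∈
    (⨆ f : {f : S →ₗ[k] V // Hoch.IsComodHom D f}, LinearMap.range f.1)) hv ?_ ?_ ?_
  · rintro f _ ⟨s, rfl⟩
    exact (le_iSup (fun f : {f : S →ₗ[k] V // Hoch.IsComodHom D f} => LinearMap.range f.1)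
      ⟨_, isComodHom_comp hT f.2⟩) ⟨s, rfl⟩
  · simp
  · intro a b ha hb
    rw [map_add, map_add]
    exact Submodule.add_mem _ ha hb

end Commuting

end Groth.Agent.Lib.Helper7.Comod
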