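import Groth.Agent.Lib.Helper7.ComodPoints
import Groth.Agent.Lib.Helper7.ComodIsotypic
import Mathlib.LinearAlgebra.Dual.Lemmas

/-!
# Matrix coefficients and restriction to a subgroup (helper7)
-/

universe u v v' w w' w''

open TensorProduct

namespace Groth.Agent.Lib.Helper7.Comod

open HopfRep

section Coeff

variable {k : Type u} [Field k] {A : Type v} [AddCommGroup A] [Module k A] [Coalgebra k A]
variable {B : Type v'} [AddCommGroup B] [Module k B]
variable {V : Type w} [AddCommGroup V] [Module k V] [Comod k A V]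

omit [Coalgebra k A] [Comod k A V] in
lemma contrL_assoc_tmul (φ : V →ₗ[k] k) (x : V ⊗[k] A) (b : B) :
    contrL (A ⊗[k] B) φ (TensorProduct.assoc k V A B (x ⊗ₜ[k] b)) = contrL A φ x ⊗ₜ[k] b := by
  induction x using TensorProduct.induction_on with
  | zero => simp
  | tmul v a => simp [TensorProduct.smul_tmul']
  | add y z hy hz => simp only [TensorProduct.add_tmul, map_add, hy, hz]

/-- Comultiplication of a matrix coefficient `(φ ⊗ id)(ρ v)`. -/
lemma comul_contrL_coact (φ : V →ₗ[k] k) (v : V) :
    Coalgebra.comul (R := k) (contrL A φ (Comod.coact (k := k) (A := A) v)) =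
      contrL (A ⊗[k] A) φ (TensorProduct.assoc k V A A
        ((Comod.coact (k := k) (A := A)).rTensor A (Comod.coact (k := k) (A := A) v))) := by
  have hc := LinearMap.congr_fun (Comod.coassoc (k := k) (A := A) (V := V)) v
  simp only [LinearMap.comp_apply, LinearEquiv.coe_coe] at hc
  rw [hc, contrL_lTensor]

lemma counit_contrL_coact (φ : V →ₗ[k] k) (v : V) :
    Coalgebra.counit (R := k) (contrL A φ (Comod.coact (k := k) (A := A) v)) = φ v := by
  rw [apply_contrL_eq]
  have hu := LinearMap.congr_fun (Comod.counit_comp (k := k) (A := A) (V := V)) v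
  simp only [LinearMap.comp_apply, LinearMap.flip_apply, TensorProduct.mk_apply] at hu
  rw [contr, LinearMap.comp_apply, hu]
  simp

/-- `(id ⊗ (id ⊗ π))(assoc ((ρ ⊗ id) y)) = assoc ((ρ ⊗ id)((id ⊗ π) y))`. -/
lemma lTensor_lTensor_assoc_rTensor (π : A →ₗ[k] B) (y : V ⊗[k] A) :
    (π.lTensor A).lTensor V (TensorProduct.assoc k V A A
      ((Comod.coact (k := k) (A := A)).rTensor A y)) =
    TensorProduct.assoc k V A B ((Comod.coact (k := k) (A := A)).rTensor B (π.lTensor V y)) := by
  induction y using TensorProduct.induction_on with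
  | zero => simp
  | tmul u a =>
    simp only [LinearMap.rTensor_tmul, LinearMap.lTensor_tmul]
    generalize Comod.coact (k := k) (A := A) u = z
    induction z using TensorProduct.induction_on with
    | zero => simp
    | tmul w b => simp
    | add y z hy hz => simp only [TensorProduct.add_tmul, map_add, hy, hz]
  | add y z hy hz => simp only [map_add, hy, hz]

/-- `(id ⊗ (π ⊗ id))(assoc ((ρ ⊗ id) y))` in terms of `(id ⊗ π) ∘ ρ`. -/
lemma lTensor_rTensor_assoc_rTensor (π : A →ₗ[k] B) (y : V ⊗[k] A) :
    (π.rTensor A).lTensor V (TensorProduct.assoc k V A A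
      ((Comod.coact (k := k) (A := A)).rTensor A y)) =
    TensorProduct.assoc k V B A ((π.lTensor V ∘ₗ Comod.coact (k := k) (A := A)).rTensor A y) := by
  induction y using TensorProduct.induction_on with
  | zero => simp
  | tmul u a =>
    simp only [LinearMap.rTensor_tmul, LinearMap.comp_apply]
    generalize Comod.coact (k := k) (A := A) u = z
    induction z using TensorProduct.induction_on with
    | zero => simp
    | tmul w b => simp
    | add y z hy hz => simp only [TensorProduct.add_tmul, map_add, hy, hz]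
  | add y z hy hz => simp only [map_add, hy, hz]

/-- S8010: a character occurring in a representation occurs in the regular representation. -/
theorem exists_regular_eigenvector (π : A →ₗ[k] B) (χ : B) (v : V) (hv : v ≠ 0)
    (hocc : π.lTensor V (Comod.coact (k := k) (A := A) v) = v ⊗ₜ[k] χ) :
    ∃ a : A, a ≠ 0 ∧ π.lTensor A (Coalgebra.comul (R := k) a) = a ⊗ₜ[k] χ := by
  obtain ⟨φ, hφ⟩ : ∃ φ : V →ₗ[k] k, φ v = 1 := Module.Projective.exists_dual_eq_one k hv
  refine ⟨contrL A φ (Comod.coact (k := k) (A := A) v), ?_, ?_⟩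
  · intro h
    have := counit_contrL_coact (A := A) φ v
    rw [h, map_zero, hφ] at this
    exact zero_ne_one this
  · rw [comul_contrL_coact, ← contrL_lTensor, lTensor_lTensor_assoc_rTensor, hocc,
      LinearMap.rTensor_tmul, contrL_assoc_tmul]

end Coeff

section Coinv

variable {k : Type u} [Field k] {A : Type v} [AddCommGroup A] [Module k A] [Coalgebra k A]
variable {B : Type v'} [AddCommGroup B] [Module k B]
variable {V : Type w} [AddCommGroup V] [Module k V] [c : Comod k A V]

omit [Coalgebra k A] c in
lemma contrL_assoc_rTensor_flip (φ : V →ₗ[k] k) (one : B) (y : V ⊗[k] A) :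
    contrL (B ⊗[k] A) φ (TensorProduct.assoc k V B A
      (((TensorProduct.mk k V B).flip one).rTensor A y)) = one ⊗ₜ[k] contrL A φ y := by
  induction y using TensorProduct.induction_on with
  | zero => simp
  | tmul u a => simp [TensorProduct.tmul_smul]
  | add y z hy hz => simp only [map_add, TensorProduct.tmul_add, hy, hz]

/-- If `V` restricted along `π` is trivial (`(id ⊗ π) ρ v = v ⊗ 1`), then all matrix coefficients of
`V` are left-coinvariant. -/
theorem coact_mem_span_of_fixed (π : A →ₗ[k] B) (one : B)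
    (hfix : ∀ v : V, π.lTensor V (Comod.coact (k := k) (A := A) v) = v ⊗ₜ[k] one) (v : V) :
    Comod.coact (k := k) (A := A) v ∈
      Submodule.span k {x : V ⊗[k] A | ∃ w : V, ∃ a : A,
        π.rTensor A (Coalgebra.comul (R := k) a) = one ⊗ₜ[k] a ∧ x = w ⊗ₜ[k] a} := by
  classical
  let b := Module.Basis.ofVectorSpace k V
  have hmap : π.lTensor V ∘ₗ Comod.coact (k := k) (A := A) = (TensorProduct.mk k V B).flip one :=
    LinearMap.ext hfix
  have hcoef : ∀ φ : V →ₗ[k] k, π.rTensor A (Coalgebra.comul (R := k)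
      (contrL A φ (Comod.coact (k := k) (A := A) v))) =
      one ⊗ₜ[k] contrL A φ (Comod.coact (k := k) (A := A) v) := by
    intro φ
    rw [comul_contrL_coact, ← contrL_lTensor, lTensor_rTensor_assoc_rTensor, hmap,
      contrL_assoc_rTensor_flip]
  have hx := (TensorProduct.equivFinsuppOfBasisLeft b).symm_apply_apply
    (Comod.coact (k := k) (A := A) v)
  rw [TensorProduct.equivFinsuppOfBasisLeft_symm_apply, Finsupp.sum] at hx
  rw [← hx]
  refine Submodule.sum_mem _ fun i _ => Submodule.subset_span ⟨b i, _, ?_, rfl⟩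
  rw [TensorProduct.equivFinsuppOfBasisLeft_apply]
  exact hcoef (b.coord i)

/-- S15117. -/
theorem coact_mem_span_of_subcomod_fixed (π : A →ₗ[k] B) (one : B) (U : Submodule k V)
    (hU : IsSubcomod (k := k) (A := A) U)
    (hfix : ∀ v ∈ U, π.lTensor V (Comod.coact (k := k) (A := A) v) = v ⊗ₜ[k] one)
    (v : V) (hv : v ∈ U) :
    Comod.coact (k := k) (A := A) v ∈
      Submodule.span k {x : V ⊗[k] A | ∃ w ∈ U, ∃ a : A,
        π.rTensor A (Coalgebra.comul (R := k) a) = one ⊗ₜ[k] a ∧ x = w ⊗ₜ[k] a} := by
  letI cU : Comod k A U := ComodSub.Comod.restr c U hU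
  have hinj : Function.Injective (U.subtype.rTensor B) :=
    Module.Flat.rTensor_preserves_injective_linearMap _ U.injective_subtype
  have hfix' : ∀ u : U, π.lTensor U (Comod.coact (k := k) (A := A) u) = u ⊗ₜ[k] one := by
    intro u
    apply hinj
    rw [← ComodTens.lTensor_rTensor_comm, ComodSub.restr_coact_coe c U hU u, hfix u u.2]
    simp
  have h := coact_mem_span_of_fixed π one hfix' ⟨v, hv⟩
  have h2 := Submodule.mem_map_of_mem (f := U.subtype.rTensor A) h
  rw [ComodSub.restr_coact_coe c U hU ⟨v, hv⟩, Submodule.map_span] at h2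
  refine Submodule.span_mono ?_ h2
  rintro _ ⟨_, ⟨w, a, ha, rfl⟩, rfl⟩
  exact ⟨w, w.2, a, ha, by simp⟩

end Coinv

end Groth.Agent.Lib.Helper7.Comod
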