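import Mathlib.RingTheory.HopfAlgebra.Convolution
import Mathlib.RingTheory.Bialgebra.Hom

/-!
# Convolution monoid of algebra homs out of a commutative Hopf algebra: inverses

`G(T) = WithConv (E →ₐ[k] T)` is a monoid for a bialgebra `E` and commutative `T` (Mathlib). Here:
every element has the two-sided inverse `f ∘ S` (only `Algebra k T` needed on the target);
pre/postcomposition preserve `1`.
-/

set_option autoImplicit false

namespace Groth.Agent.Lib.Helper7.HopfConv

open WithConv Bialgebra

variable {k : Type*} [CommSemiring k] {E T T' : Type*} [CommSemiring T] [Algebra k T]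
  [CommSemiring T'] [Algebra k T']

section Bialg
variable [Semiring E] [Bialgebra k E]

theorem comp_convOne (h : T →ₐ[k] T') :
    h.comp (1 : WithConv (E →ₐ[k] T)).ofConv = (1 : WithConv (E →ₐ[k] T')).ofConv := by
  ext x
  simp [AlgHom.convOne_def]

theorem convOne_comp_bialgHom {B : Type*} [Semiring B] [Bialgebra k B] (h : B →ₐc[k] E) :
    (1 : WithConv (E →ₐ[k] T)).ofConv.comp (h : B →ₐ[k] E) =
      (1 : WithConv (B →ₐ[k] T)).ofConv := by
  ext x
  simp [AlgHom.convOne_def]

end Bialg

variable [CommSemiring E] [HopfAlgebra k E]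

theorem id_mul_antipodeAlgHom :
    toConv (AlgHom.id k E) * toConv (HopfAlgebra.antipodeAlgHom k E) = 1 := by
  apply WithConv.ofConv_injective
  apply AlgHom.toLinearMap_injective
  apply WithConv.toConv_injective
  rw [AlgHom.toLinearMap_convMul, AlgHom.toLinearMap_convOne]
  simp [LinearMap.id_mul_antipode]

theorem antipode_mul_self (f : E →ₐ[k] T) :
    toConv (f.comp (HopfAlgebra.antipodeAlgHom k E)) * toConv f = 1 := by
  have h := AlgHom.comp_convMul_distrib f (toConv (HopfAlgebra.antipodeAlgHom k E))
    (toConv (AlgHom.id k E))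
  rw [AlgHom.antipode_id_cancel, comp_convOne] at h
  apply WithConv.ofConv_injective
  rw [h]
  rfl

theorem self_mul_antipode (f : E →ₐ[k] T) :
    toConv f * toConv (f.comp (HopfAlgebra.antipodeAlgHom k E)) = 1 := by
  have h := AlgHom.comp_convMul_distrib f (toConv (AlgHom.id k E))
    (toConv (HopfAlgebra.antipodeAlgHom k E))
  rw [id_mul_antipodeAlgHom, comp_convOne] at h
  apply WithConv.ofConv_injective
  rw [h]
  rfl

end Groth.Agent.Lib.Helper7.HopfConv
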