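import Groth.Agent.Lib.Helper7.HilbertFin
import Groth.Agent.Lib.Helper7.ComodCoinv
import Groth.Agent.Lib.Helper7.HopfConv
import Mathlib.RingTheory.Jacobson.Ring
import Mathlib.FieldTheory.IsAlgClosed.Basic

/-!
# Basic geometric invariant theory in coaction form (helper7)

Orbit ideals are invariant, invariants are constant on orbit closures, invariants separate disjoint
invariant closed sets, Nullstellensatz for rational points.
-/

universe u v v' w w' w''

open TensorProduct

namespace Groth.Agent.Lib.Helper7.Comod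

open HopfRep

section Null

/-- Rational points of a finite type algebra over an algebraically closed field: every proper ideal
is killed by a rational point. -/
theorem exists_algHom_of_ne_top {k : Type u} {R : Type w} [Field k] [IsAlgClosed k] [CommRing R]
    [Algebra k R] [Algebra.FiniteType k R] (J : Ideal R) (hJ : J ≠ ⊤) :
    ∃ z : R →ₐ[k] k, J ≤ RingHom.ker z := by
  obtain ⟨m, hm, hJm⟩ := Ideal.exists_le_maximal J hJ
  letI := Ideal.Quotient.field m
  haveI : Algebra.FiniteType k (R ⧸ m) :=
    Algebra.FiniteType.of_surjective (Ideal.Quotient.mkₐ k m) (Ideal.Quotient.mkₐ_surjective k m)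
  haveI : Module.Finite k (R ⧸ m) := finite_of_finite_type_of_isJacobsonRing k (R ⧸ m)
  haveI : Algebra.IsIntegral k (R ⧸ m) := Algebra.IsIntegral.of_finite k _
  have hbij := IsAlgClosed.algebraMap_bijective_of_isIntegral (k := k) (K := R ⧸ m)
  let e : k ≃ₐ[k] (R ⧸ m) := AlgEquiv.ofBijective (Algebra.ofId k (R ⧸ m)) hbij
  refine ⟨(e.symm : (R ⧸ m) →ₐ[k] k).comp (Ideal.Quotient.mkₐ k m), fun x hx => ?_⟩
  rw [RingHom.mem_ker, AlgHom.comp_apply, Ideal.Quotient.mkₐ_eq_mk,
    Ideal.Quotient.eq_zero_iff_mem.2 (hJm hx), map_zero]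

/-- An element of a finite type algebra over an algebraically closed field killed by all rational
points is nilpotent. -/
theorem isNilpotent_of_forall_algHom_eq_zero {k : Type u} {R : Type w} [Field k] [IsAlgClosed k]
    [CommRing R] [Algebra k R] [Algebra.FiniteType k R] (a : R)
    (h : ∀ g : R →ₐ[k] k, g a = 0) : IsNilpotent a := by
  -- otherwise `1 - a t` generates a proper ideal of `R[t]`... use the ideal `(1 - a X)` of `R[X]`
  by_contra hn
  -- the ideal generated by `a * X - 1` in `R[X]`
  let P := Polynomial R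
  have hne : Ideal.span {(Polynomial.C a * Polynomial.X - 1 : Polynomial R)} ≠ ⊤ := by
    intro htop
    rw [Ideal.span_singleton_eq_top] at htop
    -- `a X - 1` unit in `R[X]` forces `a` nilpotent
    have hu : IsUnit (1 - Polynomial.C a * Polynomial.X : Polynomial R) := by
      have : (1 - Polynomial.C a * Polynomial.X : Polynomial R) =
          -(Polynomial.C a * Polynomial.X - 1) := by ring
      rw [this]; exact htop.neg
    have := (Polynomial.isUnit_iff_coeff_isUnit_isNilpotent.1 hu).2 1 one_ne_zero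
    apply hn
    have h1 : (1 - Polynomial.C a * Polynomial.X : Polynomial R).coeff 1 = -a := by
      simp [Polynomial.coeff_one, Polynomial.coeff_X]
    rw [h1] at this
    simpa using this
  obtain ⟨z, hz⟩ := exists_algHom_of_ne_top (k := k)
    (Ideal.span {(Polynomial.C a * Polynomial.X - 1 : Polynomial R)}) hne
  have h1 : z (Polynomial.C a * Polynomial.X - 1) = 0 := hz (Ideal.subset_span rfl)
  have h2 := h (z.comp (IsScalarTower.toAlgHom k R (Polynomial R)))
  simp only [AlgHom.comp_apply, IsScalarTower.coe_toAlgHom', Polynomial.algebraMap_apply,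
    Algebra.algebraMap_self, RingHom.id_apply] at h2
  rw [map_sub, map_mul, h2, zero_mul, map_one, zero_sub] at h1
  exact one_ne_zero (neg_eq_zero.1 h1)

end Null

section Orbit

variable {k : Type u} [Field k] {A : Type v} [CommRing A] [Bialgebra k A]
variable {R : Type w} [CommRing R] [Algebra k R] [Comod k A R] [GLin.IsCoactAlg k A R]

lemma orbitHom_apply (x : R →ₐ[k] k) (f : R) :
    GLin.orbitHom k A x f = contrL A x.toLinearMap (Comod.coact (k := k) (A := A) f) := by
  simp only [GLin.orbitHom, AlgHom.comp_apply, GLin.coactAlgHom_apply]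
  generalize Comod.coact (k := k) (A := A) f = y
  induction y using TensorProduct.induction_on with
  | zero => simp
  | tmul r a => simp
  | add y z hy hz => simp only [map_add, hy, hz]

/-- The orbit morphism is a comodule map to the regular comodule. -/
theorem isComodHom_orbitHom (x : R →ₐ[k] k) :
    Hoch.IsComodHom A (GLin.orbitHom k A x).toLinearMap := by
  rw [isComodHom_iff]
  intro f
  change Coalgebra.comul (R := k) (GLin.orbitHom k A x f) = _
  rw [orbitHom_apply, comul_contrL_coact]
  generalize Comod.coact (k := k) (A := A) f = y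
  induction y using TensorProduct.induction_on with
  | zero => simp
  | tmul u a =>
    rw [LinearMap.rTensor_tmul, contrL_assoc_tmul, LinearMap.rTensor_tmul]
    congr 1
  | add y z hy hz => simp only [map_add, hy, hz]

/-- The ideal of an orbit closure is invariant. -/
theorem isSubcomod_ker_orbitHom (x : R →ₐ[k] k) :
    IsSubcomod (k := k) (A := A)
      ((RingHom.ker (GLin.orbitHom k A x).toRingHom).restrictScalars k) := by
  have h := isSubcomod_ker (isComodHom_orbitHom (A := A) x)
  have e : (RingHom.ker (GLin.orbitHom k A x).toRingHom).restrictScalars k =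
      LinearMap.ker (GLin.orbitHom k A x).toLinearMap := by
    ext f; simp [RingHom.mem_ker]
  rw [e]; exact h

lemma counit_orbitHom (x : R →ₐ[k] k) (f : R) :
    Coalgebra.counit (R := k) (GLin.orbitHom k A x f) = x f := by
  rw [orbitHom_apply, counit_contrL_coact]
  rfl

lemma ker_orbitHom_le_ker (x : R →ₐ[k] k) :
    RingHom.ker (GLin.orbitHom k A x).toRingHom ≤ RingHom.ker x.toRingHom := by
  intro f hf
  rw [RingHom.mem_ker] at hf ⊢
  change x f = 0
  rw [← counit_orbitHom (A := A) x f]
  change Coalgebra.counit (R := k) ((GLin.orbitHom k A x).toRingHom f) = 0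
  rw [hf, map_zero]

lemma orbitHom_of_mem_invariants (x : R →ₐ[k] k) {f : R} (hf : f ∈ GLin.invariants k A R) :
    GLin.orbitHom k A x f = algebraMap k A (x f) := by
  rw [orbitHom_apply, (GLin.mem_invariants_iff k A R f).1 hf, contrL_tmul,
    Algebra.algebraMap_eq_smul_one]
  rfl

/-- Invariants are constant on orbit closures. -/
theorem apply_eq_of_inOrbitClosure {x z : R →ₐ[k] k} (h : GLin.InOrbitClosure k A x z) {f : R}
    (hf : f ∈ GLin.invariants k A R) : z f = x f := by
  have h1 : f - algebraMap k R (x f) ∈ RingHom.ker (GLin.orbitHom k A x) := by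
    rw [RingHom.mem_ker, map_sub, orbitHom_of_mem_invariants x hf, AlgHom.commutes, sub_self]
  have h2 := h h1
  rw [RingHom.mem_ker, map_sub, AlgHom.commutes] at h2
  rw [sub_eq_zero] at h2
  rw [h2]
  rfl

/-- Invariants separate disjoint invariant closed subschemes. -/
theorem exists_invariant_separating (hR : IsSemisimpleComod k A R) (I₁ I₂ : Ideal R)
    (h₁ : IsSubcomod (k := k) (A := A) (I₁.restrictScalars k))
    (h₂ : IsSubcomod (k := k) (A := A) (I₂.restrictScalars k)) (h : I₁ ⊔ I₂ = ⊤) :
    ∃ f ∈ GLin.invariants k A R, f ∈ I₁ ∧ f - 1 ∈ I₂ := by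
  obtain ⟨E, hE⟩ := exists_isReynolds hR
  have h1 : (1 : R) ∈ I₁ ⊔ I₂ := by rw [h]; trivial
  obtain ⟨a, ha, b, hb, hab⟩ := Submodule.mem_sup.1 h1
  refine ⟨E a, hE.apply_mem a, IsReynolds.apply_mem_of_mem hR hE h₁ ha, ?_⟩
  have hE1 : E 1 = 1 := (hE.2.2 1).2 (one_mem (GLin.invariants k A R))
  have : E a - 1 = -E b := by
    rw [← hE1, ← hab, map_add]; ring
  rw [this]
  exact I₂.neg_mem (IsReynolds.apply_mem_of_mem hR hE h₂ hb)

end Orbit

section Closure

variable {k : Type u} [Field k] [IsAlgClosed k] {A : Type v} [CommRing A] [Bialgebra k A]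
variable {R : Type w} [CommRing R] [Algebra k R] [Algebra.FiniteType k R] [Comod k A R]
  [GLin.IsCoactAlg k A R]

/-- S19602: two points have the same invariants iff their orbit closures meet. -/
theorem comp_invariants_eq_iff (hR : IsSemisimpleComod k A R) (x₁ x₂ : R →ₐ[k] k) :
    x₁.comp (GLin.invariants k A R).val = x₂.comp (GLin.invariants k A R).val ↔
      ∃ z : R →ₐ[k] k, GLin.InOrbitClosure k A x₁ z ∧ GLin.InOrbitClosure k A x₂ z := by
  constructor
  · intro h
    by_contra hno
    have htop : RingHom.ker (GLin.orbitHom k A x₁).toRingHom ⊔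
        RingHom.ker (GLin.orbitHom k A x₂).toRingHom = ⊤ := by
      by_contra hne
      obtain ⟨z, hz⟩ := exists_algHom_of_ne_top (k := k) _ hne
      exact hno ⟨z, le_trans le_sup_left hz, le_trans le_sup_right hz⟩
    obtain ⟨f, hf, hf1, hf2⟩ := exists_invariant_separating hR _ _
      (isSubcomod_ker_orbitHom x₁) (isSubcomod_ker_orbitHom x₂) htop
    have e1 : x₁ f = 0 := ker_orbitHom_le_ker (A := A) x₁ hf1
    have e2 : x₂ (f - 1) = 0 := ker_orbitHom_le_ker (A := A) x₂ hf2
    rw [map_sub, map_one, sub_eq_zero] at e2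
    have := AlgHom.congr_fun h ⟨f, hf⟩
    simp only [AlgHom.comp_apply, Subalgebra.coe_val] at this
    rw [e1, e2] at this
    exact zero_ne_one this
  · rintro ⟨z, h1, h2⟩
    apply AlgHom.ext
    intro f
    simp only [AlgHom.comp_apply, Subalgebra.coe_val]
    rw [← apply_eq_of_inOrbitClosure h1 f.2, ← apply_eq_of_inOrbitClosure h2 f.2]

end Closure

end Groth.Agent.Lib.Helper7.Comod

namespace Groth.Agent.Lib.Helper7.Comod

open HopfRep

section Points

variable {k : Type u} [Field k] {A : Type v} [CommRing A] [Bialgebra k A]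
variable {R : Type w} [CommRing R] [Algebra k R] [Comod k A R] [GLin.IsCoactAlg k A R]

/-- `x (g · f) = g (orbit map of x at f)`. -/
lemma apply_act_eq (x : R →ₐ[k] k) (g : A →ₐ[k] k) (f : R) :
    x (Comod.act k A R g f) = g (GLin.orbitHom k A x f) := by
  rw [orbitHom_apply, act_eq_contr]
  exact (apply_contrL_eq x.toLinearMap g.toLinearMap _).symm

end Points

section Closure2

variable {k : Type u} [Field k] [IsAlgClosed k] {A : Type v} [CommRing A] [Bialgebra k A]
  [Algebra.FiniteType k A]
variable {R : Type w} [CommRing R] [Algebra k R] [Algebra.FiniteType k R] [Comod k A R]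
  [GLin.IsCoactAlg k A R]

/-- A point kills the functions vanishing on the rational points of an orbit as soon as it kills the
ideal of the orbit. -/
lemma apply_eq_zero_of_forall_act {x z : R →ₐ[k] k} (hz : GLin.InOrbitClosure k A x z) {f : R}
    (hf : ∀ g : A →ₐ[k] k, x (Comod.act k A R g f) = 0) : z f = 0 := by
  have hnil : IsNilpotent (GLin.orbitHom k A x f) :=
    isNilpotent_of_forall_algHom_eq_zero (k := k) _ fun g => by rw [← apply_act_eq]; exact hf g
  obtain ⟨n, hn⟩ := hnil
  have h1 : f ^ n ∈ RingHom.ker (GLin.orbitHom k A x) := by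
    rw [RingHom.mem_ker, map_pow, hn]
  have h2 := hz h1
  rw [RingHom.mem_ker, map_pow] at h2
  exact pow_eq_zero_iff (M₀ := k) (by
    rintro rfl
    rw [pow_zero] at h2
    exact one_ne_zero h2) |>.1 h2

/-- S11794. -/
theorem forall_fixedPts_eq_iff (hR : IsSemisimpleComod k A R) (x y : R →ₐ[k] k) :
    (∀ f ∈ fixedPts k A R, x f = y f) ↔
      ∃ z : R →ₐ[k] k,
        (∀ f : R, (∀ g : A →ₐ[k] k, x (Comod.act k A R g f) = 0) → z f = 0) ∧
        (∀ f : R, (∀ g : A →ₐ[k] k, y (Comod.act k A R g f) = 0) → z f = 0) := by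
  constructor
  · intro h
    have h' : x.comp (GLin.invariants k A R).val = y.comp (GLin.invariants k A R).val := by
      apply AlgHom.ext
      intro f
      exact h f f.2
    obtain ⟨z, hz1, hz2⟩ := (comp_invariants_eq_iff hR x y).1 h'
    exact ⟨z, fun f hf => apply_eq_zero_of_forall_act hz1 hf,
      fun f hf => apply_eq_zero_of_forall_act hz2 hf⟩
  · rintro ⟨z, hz1, hz2⟩ f hf
    have hx : GLin.InOrbitClosure k A x z := by
      intro f hf
      rw [RingHom.mem_ker] at hf ⊢
      exact hz1 f fun g => by rw [apply_act_eq, hf, map_zero]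
    have hy : GLin.InOrbitClosure k A y z := by
      intro f hf
      rw [RingHom.mem_ker] at hf ⊢
      exact hz2 f fun g => by rw [apply_act_eq, hf, map_zero]
    rw [← apply_eq_of_inOrbitClosure hx hf, ← apply_eq_of_inOrbitClosure hy hf]

end Closure2

end Groth.Agent.Lib.Helper7.Comod

namespace Groth.Agent.Lib.Helper7.Comod

open HopfRep

section Lift

variable {k : Type u} [Field k] [IsAlgClosed k] {A : Type v} [CommRing A] [Bialgebra k A]
variable {R : Type w} [CommRing R] [Algebra k R] [Algebra.FiniteType k R] [Comod k A R]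
  [GLin.IsCoactAlg k A R]

/-- S11795: rational points of the quotient vanishing on `I ∩ R^G` lift to rational points
vanishing on the invariant ideal `I`. -/
theorem exists_point_over (hR : IsSemisimpleComod k A R) (I : Ideal R)
    (hI : IsSubcomod (k := k) (A := A) (I.restrictScalars k)) (S : Subalgebra k R)
    (hS : ∀ f, f ∈ S ↔ f ∈ fixedPts k A R) (φ : S →ₐ[k] k)
    (hφ : ∀ f : S, (f : R) ∈ I → φ f = 0) :
    ∃ x : R →ₐ[k] k, (∀ f ∈ I, x f = 0) ∧ ∀ f : S, x (f : R) = φ f := by
  obtain ⟨E, hE⟩ := exists_isReynolds hR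
  have hES : ∀ r, E r ∈ S := fun r => (hS _).2 (hE.apply_mem r)
  -- the functional `ψ = φ ∘ E`
  let ψ : R → k := fun r => φ ⟨E r, hES r⟩
  have hψadd : ∀ a b, ψ (a + b) = ψ a + ψ b := fun a b => by
    change φ ⟨E (a + b), _⟩ = φ ⟨E a, _⟩ + φ ⟨E b, _⟩
    rw [← map_add]; congr 1; apply Subtype.ext; simp
  have hψI : ∀ i ∈ I, ψ i = 0 := fun i hi =>
    hφ ⟨E i, hES i⟩ (IsReynolds.apply_mem_of_mem hR hE hI hi)
  have hψmul : ∀ r (c : S), ψ (r * c) = ψ r * φ c := fun r c => by
    change φ ⟨E (r * c), _⟩ = φ ⟨E r, _⟩ * φ c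
    rw [← map_mul]; congr 1; apply Subtype.ext
    exact IsReynolds.map_mul hR hE r ((hS _).1 c.2)
  have hψ1 : ψ 1 = 1 := by
    change φ ⟨E 1, _⟩ = 1
    have : (⟨E 1, hES 1⟩ : S) = 1 := Subtype.ext ((hE.2.2 1).2 ((hS _).1 (one_mem S)))
    rw [this, map_one]
  set K : Set R := (fun c : S => (c : R)) '' {c : S | φ c = 0} with hK
  have hψK : ∀ w ∈ Ideal.span K, ∀ r, ψ (r * w) = 0 := by
    intro w hw
    refine Submodule.span_induction (p := fun w _ => ∀ r, ψ (r * w) = 0) ?_ ?_ ?_ ?_ hw
    · rintro _ ⟨c, hc, rfl⟩ r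
      rw [hψmul, (hc : φ c = 0), mul_zero]
    · intro r
      rw [mul_zero]
      have := hψadd 0 0
      rw [add_zero] at this
      exact left_eq_add.mp this
    · intro a b _ _ ha hb r
      rw [mul_add, hψadd, ha, hb, add_zero]
    · intro s a _ ha r
      rw [smul_eq_mul, ← mul_assoc]
      exact ha (r * s)
  have hJ : I ⊔ Ideal.span K ≠ ⊤ := by
    intro htop
    have h1 : (1 : R) ∈ I ⊔ Ideal.span K := by rw [htop]; trivial
    obtain ⟨i, hi, w, hw, hiw⟩ := Submodule.mem_sup.1 h1
    have := hψadd i w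
    rw [hiw, hψ1, hψI i hi, zero_add] at this
    have h2 := hψK w hw 1
    rw [one_mul] at h2
    rw [h2] at this
    exact one_ne_zero this
  obtain ⟨z, hz⟩ := exists_algHom_of_ne_top (k := k) _ hJ
  refine ⟨z, fun f hf => hz (Ideal.mem_sup_left hf), fun c => ?_⟩
  have hc : c - algebraMap k S (φ c) ∈ {c : S | φ c = 0} := by
    change φ (c - algebraMap k S (φ c)) = 0
    rw [map_sub, AlgHom.commutes]
    simp
  have h3 : ((c - algebraMap k S (φ c) : S) : R) ∈ I ⊔ Ideal.span K :=
    Ideal.mem_sup_right (Ideal.subset_span ⟨_, hc, rfl⟩)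
  have h4 := hz h3
  rw [RingHom.mem_ker] at h4
  have h5 : ((c - algebraMap k S (φ c) : S) : R) = (c : R) - algebraMap k R (φ c) := rfl
  rw [h5, map_sub, AlgHom.commutes, sub_eq_zero] at h4
  rw [h4]
  rfl

end Lift

end Groth.Agent.Lib.Helper7.Comod

namespace Groth.Agent.Lib.Helper7.Comod

open HopfRep

section Group

variable {k : Type u} [Field k] {A : Type v} [CommRing A] [Bialgebra k A]
variable {R : Type w} [CommRing R] [Algebra k R] [Comod k A R] [GLin.IsCoactAlg k A R]

lemma actPt_apply (g : A →ₐ[k] k) (x : R →ₐ[k] k) (f : R) :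
    GLin.actPt k g x f = g (GLin.orbitHom k A x f) := rfl

/-- Moving by `g` then by `h` is moving by the product `g h`. -/
theorem actPt_actPt (g h : A →ₐ[k] k) (x : R →ₐ[k] k) :
    GLin.actPt k h (GLin.actPt k g x) =
      GLin.actPt k (WithConv.toConv g * WithConv.toConv h).ofConv x := by
  apply AlgHom.ext
  intro f
  rw [actPt_apply, actPt_apply, orbitHom_apply, AlgHom.convMul_apply]
  have hc := isComodHom_apply (isComodHom_orbitHom (A := A) x) f
  have hc' : Coalgebra.comul (R := k) (GLin.orbitHom k A x f) =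
      (GLin.orbitHom k A x).toLinearMap.rTensor A (Comod.coact (k := k) (A := A) f) := hc
  rw [hc']
  generalize Comod.coact (k := k) (A := A) f = y
  induction y using TensorProduct.induction_on with
  | zero => simp
  | tmul u a =>
    simp only [contrL_tmul, AlgHom.toLinearMap_apply, map_smul, smul_eq_mul,
      LinearMap.rTensor_tmul, Algebra.TensorProduct.lift_tmul, WithConv.ofConv_toConv]
    rfl
  | add y z hy hz => simp only [map_add, hy, hz]

theorem actPt_one (x : R →ₐ[k] k) :
    GLin.actPt k (1 : WithConv (A →ₐ[k] k)).ofConv x = x := by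
  apply AlgHom.ext
  intro f
  rw [actPt_apply]
  change algebraMap k k (Coalgebra.counit (R := k) (GLin.orbitHom k A x f)) = x f
  rw [counit_orbitHom]
  rfl

end Group

section GroupHopf

variable {k : Type u} [Field k] {A : Type v} [CommRing A] [HopfAlgebra k A]
variable {R : Type w} [CommRing R] [Algebra k R] [Comod k A R] [GLin.IsCoactAlg k A R]

theorem actPt_inv_actPt (g : A →ₐ[k] k) (x : R →ₐ[k] k) :
    GLin.actPt k (g.comp (HopfAlgebra.antipodeAlgHom k A)) (GLin.actPt k g x) = x := by
  rw [actPt_actPt, Groth.Agent.Lib.Helper7.HopfConv.self_mul_antipode, actPt_one]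

end GroupHopf

section ClosedOrbit

variable {k : Type u} [Field k] [IsAlgClosed k] {A : Type v} [CommRing A] [Bialgebra k A]
  [Algebra.FiniteType k A]
variable {R : Type w} [CommRing R] [Algebra k R] [Comod k A R] [GLin.IsCoactAlg k A R]

/-- Two rational points one of whose kernels contains the other's are equal. -/
lemma algHom_eq_of_ker_le {R : Type*} [CommRing R] [Algebra k R] {z z' : R →ₐ[k] k}
    (h : RingHom.ker z ≤ RingHom.ker z') : z' = z := by
  apply AlgHom.ext
  intro f
  have h1 : f - algebraMap k R (z f) ∈ RingHom.ker z := by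
    rw [RingHom.mem_ker, map_sub, AlgHom.commutes]; simp
  have h2 := h h1
  rw [RingHom.mem_ker, map_sub, AlgHom.commutes, sub_eq_zero] at h2
  rw [h2]; rfl

/-- A rational point in the closure of a closed orbit lies in the orbit. -/
theorem exists_actPt_eq_of_isClosedOrbit {x z : R →ₐ[k] k} (hcl : GLin.IsClosedOrbit k A x)
    (hz : GLin.InOrbitClosure k A x z) : ∃ g : A →ₐ[k] k, z = GLin.actPt k g x := by
  have hmax : (RingHom.ker z).IsMaximal := RingHom.ker_isMaximal_of_surjective z (fun c =>
    ⟨algebraMap k R c, by simp⟩)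
  have hmem : (⟨RingHom.ker z, hmax.isPrime⟩ : PrimeSpectrum R) ∈
      Set.range (PrimeSpectrum.comap (GLin.orbitHom k A x).toRingHom) := by
    have hcl' : IsClosed (Set.range (PrimeSpectrum.comap (GLin.orbitHom k A x).toRingHom)) := hcl
    rw [← hcl'.closure_eq, PrimeSpectrum.closure_range_comap, PrimeSpectrum.mem_zeroLocus]
    exact hz
  obtain ⟨p, hp⟩ := hmem
  have hp' : Ideal.comap (GLin.orbitHom k A x).toRingHom p.asIdeal = RingHom.ker z :=
    congrArg PrimeSpectrum.asIdeal hp
  have hJ : Ideal.map (GLin.orbitHom k A x).toRingHom (RingHom.ker z) ≠ ⊤ := by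
    intro htop
    have hle : Ideal.map (GLin.orbitHom k A x).toRingHom (RingHom.ker z) ≤ p.asIdeal := by
      rw [Ideal.map_le_iff_le_comap, hp']
    rw [htop] at hle
    exact p.2.ne_top (top_le_iff.1 hle)
  obtain ⟨g, hg⟩ := exists_algHom_of_ne_top (k := k) _ hJ
  refine ⟨g, ?_⟩
  refine (algHom_eq_of_ker_le (z := z) (z' := GLin.actPt k g x) ?_).symm
  intro f hf
  rw [RingHom.mem_ker, actPt_apply]
  exact hg (Ideal.mem_map_of_mem _ hf)

end ClosedOrbit

end Groth.Agent.Lib.Helper7.Comod
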