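import Groth.Agent.Lib.Helper7.HopfIntegral
import Groth.Prelude.Def_ConstGrp

/-!
# Linear reductivity of a commutative Hopf algebra via total integrals (helper7)
-/

universe u v v' w w' w''

open TensorProduct

namespace Groth.Agent.Lib.Helper7.Comod

open HopfRep

section Iff

variable {k : Type u} [Field k] {A : Type v} [CommRing A] [HopfAlgebra k A]

/-- A commutative Hopf algebra over a field is linearly reductive iff it has a total integral. -/
theorem isLinearlyReductive_iff_exists_isTrivIntegral :
    IsLinearlyReductive k A ↔ ∃ α : A →ₗ[k] k, IsTrivIntegral k A α := by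
  constructor
  · intro hG
    have hA : IsSemisimpleComod k A A := isSemisimpleComod_of_isLinearlyReductive hG A
    obtain ⟨H, hH, hc⟩ := hA _ (isSubcomod_span_one (k := k) (A := A))
    exact exists_isTrivIntegral_of_isCompl H hH hc
  · rintro ⟨α, hα⟩ V _ _ _ _
    exact isSemisimpleComod_of_isTrivIntegral hα V

/-- A linearly reductive commutative Hopf algebra has all comodules semisimple, in every universe. -/
theorem isSemisimpleComod_of_isLinearlyReductive' (hG : IsLinearlyReductive k A)
    (V : Type w) [AddCommGroup V] [Module k V] [Comod k A V] : IsSemisimpleComod k A V := by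
  obtain ⟨α, hα⟩ := isLinearlyReductive_iff_exists_isTrivIntegral.1 hG
  exact isSemisimpleComod_of_isTrivIntegral hα V

end Iff

section ConstGrp

variable {k : Type u} [Field k] {G : Type v} [Group G] [Fintype G] [DecidableEq G]

/-- Averaging over a finite group of invertible order is a total integral on the function algebra. -/
theorem exists_isTrivIntegral_constGrp (hG : ((Fintype.card G : ℕ) : k) ≠ 0) :
    ∃ α : ConstGrp.F k G →ₗ[k] k, IsTrivIntegral k (ConstGrp.F k G) α := by
  let α : ConstGrp.F k G →ₗ[k] k :=
    ((Fintype.card G : k)⁻¹) • ∑ g : G, (ConstGrp.ev k g).toLinearMap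
  have hα : ∀ f : ConstGrp.F k G, α f = (Fintype.card G : k)⁻¹ * ∑ g : G, f g := by
    intro f
    simp [α, LinearMap.sum_apply]
  have hαe : ∀ g : G, α (ConstGrp.e k g) = (Fintype.card G : k)⁻¹ := by
    intro g
    rw [hα, Finset.sum_eq_single g]
    · simp
    · intro h _ hh
      exact ConstGrp.e_apply_of_ne hh
    · intro h; exact absurd (Finset.mem_univ g) h
  refine ⟨α, (isTrivIntegral_iff α).2 ⟨?_, ?_⟩⟩
  · intro f
    have key : (TensorProduct.mk k k (ConstGrp.F k G)).flip 1 ∘ₗ α =
        α.rTensor (ConstGrp.F k G) ∘ₗ Coalgebra.comul (R := k) (A := ConstGrp.F k G) := by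
      apply ConstGrp.linearMap_ext
      intro g
      simp only [LinearMap.comp_apply, LinearMap.flip_apply, TensorProduct.mk_apply,
        ConstGrp.comul_e, map_sum, LinearMap.rTensor_tmul, hαe]
      rw [← TensorProduct.tmul_sum]
      congr 1
      rw [← ConstGrp.sum_e (R := k) (G := G)]
      exact (Fintype.sum_equiv ((Equiv.inv G).trans (Equiv.mulRight g)) _ _ fun a => rfl).symm
    exact LinearMap.congr_fun key f
  · rw [hα]
    simp only [ConstGrp.one_apply, Finset.sum_const, Finset.card_univ, nsmul_eq_mul, mul_one]
    exact inv_mul_cancel₀ hG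

end ConstGrp

end Groth.Agent.Lib.Helper7.Comod
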