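import Groth.Agent.Lib.Helper7.ComodSS
import Mathlib.RingTheory.Bialgebra.Hom

/-!
# Comodules and dense sets of points (helper7)
-/

universe u v v' w w' w''

open TensorProduct

namespace Groth.Agent.Lib.Helper7.Comod

open HopfRep

section ContrL

variable {k : Type u} [Field k] {V : Type w} [AddCommGroup V] [Module k V]
variable {N : Type v} [AddCommGroup N] [Module k N] {N' : Type v'} [AddCommGroup N'] [Module k N']

/-- Contraction of the left factor against a functional: `V ⊗ N → N`. -/
noncomputable def contrL (N : Type v) [AddCommGroup N] [Module k N] (φ : V →ₗ[k] k) :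
    V ⊗[k] N →ₗ[k] N :=
  (TensorProduct.lid k N).toLinearMap ∘ₗ LinearMap.rTensor N φ

@[simp] lemma contrL_tmul (φ : V →ₗ[k] k) (v : V) (n : N) : contrL N φ (v ⊗ₜ[k] n) = φ v • n := by
  simp [contrL]

lemma contrL_lTensor (φ : V →ₗ[k] k) (g : N →ₗ[k] N') (x : V ⊗[k] N) :
    contrL N' φ (g.lTensor V x) = g (contrL N φ x) := by
  induction x using TensorProduct.induction_on with
  | zero => simp
  | tmul v n => simp
  | add y z hy hz => simp only [map_add, hy, hz]

lemma contrL_rTensor {U : Type w'} [AddCommGroup U] [Module k U] (φ : V →ₗ[k] k) (h : U →ₗ[k] V)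
    (x : U ⊗[k] N) : contrL N φ (h.rTensor N x) = contrL N (φ ∘ₗ h) x := by
  induction x using TensorProduct.induction_on with
  | zero => simp
  | tmul v n => simp
  | add y z hy hz => simp only [map_add, hy, hz]

/-- An element of `V ⊗ N` all of whose left contractions vanish is zero. -/
lemma eq_zero_of_forall_contrL_eq_zero (x : V ⊗[k] N) (h : ∀ φ : V →ₗ[k] k, contrL N φ x = 0) :
    x = 0 := by
  classical
  let b := Module.Basis.ofVectorSpace k V
  apply (TensorProduct.equivFinsuppOfBasisLeft b).injective
  rw [map_zero]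
  ext i
  rw [TensorProduct.equivFinsuppOfBasisLeft_apply]
  exact h (b.coord i)

lemma apply_contrL_eq {C : Type v} [AddCommGroup C] [Module k C] (φ : V →ₗ[k] k) (g : C →ₗ[k] k)
    (y : V ⊗[k] C) : g (contrL C φ y) = φ (contr V g y) := by
  induction y using TensorProduct.induction_on with
  | zero => simp
  | tmul v c => simp [mul_comm]
  | add y z hy hz => simp only [map_add, hy, hz]

/-- If a family of functionals `g` on `C` separates points, then `x ∈ V ⊗ C` vanishes as soon as
all `(id ⊗ g) x` vanish. -/
lemma eq_zero_of_forall_contr_eq_zero_of_dense {C : Type v} [AddCommGroup C] [Module k C]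
    (S : Set (C →ₗ[k] k)) (hS : ∀ c : C, (∀ g ∈ S, g c = 0) → c = 0) (x : V ⊗[k] C)
    (h : ∀ g ∈ S, contr V g x = 0) : x = 0 := by
  apply eq_zero_of_forall_contrL_eq_zero
  intro φ
  apply hS
  intro g hg
  rw [apply_contrL_eq, h g hg, map_zero]

end ContrL

section Dense

variable {k : Type u} [Field k] {A : Type v} [CommRing A] [Bialgebra k A]
variable {V : Type w} [AddCommGroup V] [Module k V] [Comod k A V]

lemma act_eq_contr (g : A →ₐ[k] k) (v : V) :
    Comod.act k A V g v = contr V g.toLinearMap (Comod.coact (k := k) (A := A) v) := rfl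

/-- S8024: a subspace is a subcomodule iff it is stable under a dense set of rational points. -/
theorem isSubcomod_iff_forall_act_le (S : Set (A →ₐ[k] k))
    (hS : ∀ a : A, (∀ g ∈ S, g a = 0) → a = 0) (W : Submodule k V) :
    IsSubcomod (k := k) (A := A) W ↔ ∀ g ∈ S, Submodule.map (Comod.act k A V g) W ≤ W := by
  constructor
  · rintro hW g - _ ⟨w, hw, rfl⟩
    rw [act_eq_contr]
    exact (mem_range_rTensor_iff_contr W _).1 (hW w hw) _
  · intro h w hw
    have hex := rTensor_exact A (LinearMap.exact_subtype_mkQ W) (Submodule.mkQ_surjective W)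
    refine (hex _).1 ?_
    apply eq_zero_of_forall_contr_eq_zero_of_dense ((fun g : A →ₐ[k] k => g.toLinearMap) '' S)
    · intro a ha
      exact hS a fun g hg => ha _ ⟨g, hg, rfl⟩
    · rintro _ ⟨g, hg, rfl⟩
      rw [contr_rTensor, ← act_eq_contr, Submodule.mkQ_apply, Submodule.Quotient.mk_eq_zero]
      exact h g hg ⟨w, hw, rfl⟩

end Dense

section DenseK

variable {k : Type u} [Field k] {A : Type v} [CommRing A] [Bialgebra k A]
variable {K : Type v'} [Field K] [Algebra k K]
variable {V : Type w} [AddCommGroup V] [Module k V] [Comod k A V]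

/-- S8011: fixed vectors are detected on a dense set of `K`-points. -/
theorem mem_fixedPts_iff_forall_points
    (hd : ∀ a : A, (∀ g : A →ₐ[k] K, g a = 0) → a = 0) (v : V) :
    v ∈ fixedPts k A V ↔
      ∀ g : A →ₐ[k] K, LinearMap.lTensor V g.toLinearMap (Comod.coact (k := k) (A := A) v) =
        v ⊗ₜ[k] (1 : K) := by
  constructor
  · intro hv g
    have : Comod.coact (k := k) (A := A) v = v ⊗ₜ[k] (1 : A) := hv
    rw [this, LinearMap.lTensor_tmul]
    simp
  · intro h
    change Comod.coact (k := k) (A := A) v = v ⊗ₜ[k] (1 : A)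
    rw [← sub_eq_zero]
    apply eq_zero_of_forall_contrL_eq_zero
    intro φ
    apply hd
    intro g
    have h1 := contrL_lTensor φ g.toLinearMap
      (Comod.coact (k := k) (A := A) v - v ⊗ₜ[k] (1 : A))
    change _ = g _ at h1
    rw [← h1, map_sub, h g, LinearMap.lTensor_tmul]
    simp

end DenseK

end Groth.Agent.Lib.Helper7.Comod
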