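import Groth.Agent.Lib.Helper7.FComplete
import Mathlib.RingTheory.Ideal.Operations
import Mathlib.Algebra.Module.Submodule.Pointwise

/-!
# Nakayama's lemma for `f`-complete modules
-/

set_option autoImplicit false
universe u v

namespace Groth.Agent.Lib.Helper7.FComplete

variable {A : Type u} [CommRing A]

/-- If `M = gM` and `M` is `g`-complete, then `M = 0`. -/
lemma subsingleton_of_isFComplete_of_forall_exists_smul {g : A} {M : Type v} [AddCommGroup M]
    [Module A M] (hg : IsFComplete g M) (h : ∀ x : M, ∃ y : M, g • y = x) : Subsingleton M := by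
  choose d hd using h
  refine ⟨fun x y => ?_⟩
  suffices ∀ x : M, x = 0 by rw [this x, this y]
  intro x
  let m : ℕ → M := fun n => Nat.rec x (fun _ z => d z) n
  have hm : ∀ n, m n = g • m (n + 1) := fun n => (hd (m n)).symm
  have := hg.eq_zero m hm
  exact congrFun this 0

/-- Nakayama's lemma: a module which is `f`-complete for all `f` in a finite generating set of `I`
and satisfies `IM = M` is zero. -/
theorem subsingleton_of_isFComplete_of_smul_top_eq_top (s : Finset A) :
    ∀ (M : Type v) [AddCommGroup M] [Module A M], (∀ f ∈ s, IsFComplete f M) →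
      (Ideal.span (s : Set A) • (⊤ : Submodule A M) = ⊤) → Subsingleton M := by
  classical
  induction s using Finset.induction_on with
  | empty =>
    intro M _ _ _ h
    rw [Finset.coe_empty, Ideal.span_empty, Submodule.bot_smul] at h
    exact (Submodule.subsingleton_iff A).mp (subsingleton_of_bot_eq_top h)
  | insert g s _ ih =>
    intro M _ _ hM h
    let u : M →ₗ[A] M := g • LinearMap.id
    have hg : IsFComplete g M := hM g (Finset.mem_insert_self g s)
    have hM' : ∀ f ∈ s, IsFComplete f (M ⧸ LinearMap.range u) := fun f hf =>
      (hM f (Finset.mem_insert_of_mem hf)).coker u (hM f (Finset.mem_insert_of_mem hf))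
    have hrange : LinearMap.range u = (Ideal.span {g} : Ideal A) • (⊤ : Submodule A M) := by
      rw [Submodule.ideal_span_singleton_smul]
      ext x
      simp [u, Submodule.mem_smul_pointwise_iff_exists]
    have htop : Ideal.span (s : Set A) • (⊤ : Submodule A (M ⧸ LinearMap.range u)) = ⊤ := by
      have h1 : Submodule.map (LinearMap.range u).mkQ (⊤ : Submodule A M) = ⊤ := by
        rw [Submodule.map_top, Submodule.range_mkQ]
      rw [← h1, ← Submodule.map_smul'']
      conv_rhs => rw [← h]
      rw [Finset.coe_insert, Ideal.span_insert, Submodule.sup_smul, Submodule.map_sup, ← hrange]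
      rw [Submodule.mkQ_map_self, bot_sup_eq]
    have hsub : Subsingleton (M ⧸ LinearMap.range u) := ih _ hM' htop
    have hu : LinearMap.range u = ⊤ := Submodule.Quotient.subsingleton_iff.mp hsub
    refine subsingleton_of_isFComplete_of_forall_exists_smul hg fun x => ?_
    have : x ∈ LinearMap.range u := hu ▸ Submodule.mem_top
    obtain ⟨y, hy⟩ := this
    exact ⟨y, hy⟩

end Groth.Agent.Lib.Helper7.FComplete
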