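import Groth.Agent.Lib.Helper7.FComplete
import Groth.Agent.Lib.Helper7.FCompleteNakayama
import Mathlib.RingTheory.Ideal.Operations

/-!
# The set of `f` for which a module is `f`-complete is a radical ideal
-/

set_option autoImplicit false
universe u v

namespace Groth.Agent.Lib.Helper7.FComplete

variable {A : Type u} [CommRing A] {N : Type v} [AddCommGroup N] [Module A N]

/-- The shift operator on sequences. -/
def σ (A : Type u) [CommRing A] (N : Type v) [AddCommGroup N] [Module A N] : (ℕ → N) →ₗ[A] (ℕ → N) where
  toFun m n := m (n + 1)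
  map_add' _ _ := rfl
  map_smul' _ _ := rfl

@[simp] lemma σ_apply (m : ℕ → N) (n : ℕ) : σ A N m n = m (n + 1) := rfl

lemma Δ_σ (h : A) (m : ℕ → N) : Δ h N (σ A N m) = σ A N (Δ h N m) := rfl

lemma eq_Δ_add (h : A) (m : ℕ → N) : m = Δ h N m + h • σ A N m := by
  funext n
  simp [Δ_apply]

lemma exists_pow_smul_eq {E : Type*} [AddCommGroup E] [Module A E] {h : A}
    (hE : ∀ x : E, ∃ y : E, h • y = x) (k : ℕ) (x : E) : ∃ y : E, h ^ k • y = x := by
  induction k generalizing x with
  | zero => exact ⟨x, by simp⟩
  | succ k ih =>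
    obtain ⟨y, hy⟩ := hE x
    obtain ⟨z, hz⟩ := ih y
    exact ⟨z, by rw [pow_succ', mul_smul, hz, hy]⟩

/-- If `N` is `f`-complete for all `f` in a finite set `s` and `x ∈ √(s)`, then `N` is `x`-complete. -/
theorem isFComplete_of_mem_radical_span (s : Finset A) (hs : ∀ f ∈ s, IsFComplete f N) {x : A}
    (hx : x ∈ (Ideal.span (s : Set A)).radical) : IsFComplete x N := by
  obtain ⟨k, hk⟩ := hx
  have hpi : ∀ f ∈ s, IsFComplete f (ℕ → N) := fun f hf => IsFComplete.pi fun _ => hs f hf
  -- a module `E` that is `f`-complete for `f ∈ s` with `x` acting surjectively is zero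
  have key : ∀ (E : Type v) [AddCommGroup E] [Module A E], (∀ f ∈ s, IsFComplete f E) →
      (∀ e : E, ∃ y : E, x • y = e) → Subsingleton E := by
    intro E _ _ hE hsurj
    refine subsingleton_of_isFComplete_of_smul_top_eq_top s E hE ?_
    rw [eq_top_iff]
    intro e _
    obtain ⟨y, rfl⟩ := exists_pow_smul_eq hsurj k e
    exact Submodule.smul_mem_smul hk Submodule.mem_top
  constructor
  · -- kernel
    have h1 : Subsingleton (LinearMap.ker (Δ x N)) := by
      refine key _ (fun f hf => (hpi f hf).ker _ (hpi f hf)) ?_
      rintro ⟨m, hm⟩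
      rw [LinearMap.mem_ker] at hm
      refine ⟨⟨σ A N m, ?_⟩, ?_⟩
      · rw [LinearMap.mem_ker, Δ_σ, hm, map_zero]
      · apply Subtype.ext
        have := eq_Δ_add x m
        rw [hm, zero_add] at this
        exact this.symm
    rw [← LinearMap.ker_eq_bot]
    exact (Submodule.subsingleton_iff_eq_bot).mp h1
  · -- cokernel
    have h2 : Subsingleton ((ℕ → N) ⧸ LinearMap.range (Δ x N)) := by
      refine key _ (fun f hf => (hpi f hf).coker _ (hpi f hf)) ?_
      intro e
      obtain ⟨m, rfl⟩ := Submodule.Quotient.mk_surjective _ e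
      refine ⟨Submodule.Quotient.mk (σ A N m), ?_⟩
      rw [← Submodule.Quotient.mk_smul, eq_comm, Submodule.Quotient.eq]
      have := eq_Δ_add x m
      rw [← sub_eq_iff_eq_add] at this
      rw [this]
      exact LinearMap.mem_range_self _ _
    rw [← LinearMap.range_eq_top]
    exact Submodule.Quotient.subsingleton_iff.mp h2

variable (N) in
/-- The ideal of elements `f` such that `N` is `f`-complete. -/
def completeIdeal : Ideal A where
  carrier := {f | IsFComplete f N}
  zero_mem' := by
    have : Δ (0 : A) N = LinearMap.id := by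
      ext m n
      simp [Δ_apply]
    change Function.Bijective (Δ (0 : A) N)
    rw [this]
    exact Function.bijective_id
  add_mem' := by
    classical
    intro f g hf hg
    refine isFComplete_of_mem_radical_span {f, g} (fun x hx => ?_) (Ideal.le_radical ?_)
    · rcases Finset.mem_insert.mp hx with rfl | hx
      · exact hf
      · rw [Finset.mem_singleton.mp hx]; exact hg
    · exact Ideal.add_mem _ (Ideal.subset_span (by simp)) (Ideal.subset_span (by simp))
  smul_mem' := by
    intro a f hf
    refine isFComplete_of_mem_radical_span {f} (fun x hx => ?_) (Ideal.le_radical ?_)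
    · rw [Finset.mem_singleton.mp hx]; exact hf
    · rw [smul_eq_mul]
      exact Ideal.mul_mem_left _ _ (Ideal.subset_span (by simp))

@[simp] lemma mem_completeIdeal {f : A} : f ∈ completeIdeal N ↔ IsFComplete f N := Iff.rfl

lemma completeIdeal_isRadical : (completeIdeal (A := A) N).IsRadical := by
  intro f hf
  obtain ⟨k, hk⟩ := hf
  exact isFComplete_of_mem_radical_span {f ^ k}
    (fun x hx => by rw [Finset.mem_singleton.mp hx]; exact hk)
    ⟨k, Ideal.subset_span (by simp)⟩

/-- `f`-completeness for generators of an ideal implies `f`-completeness for all elements. -/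
lemma isFComplete_of_mem_span {S : Set A} (hS : ∀ f ∈ S, IsFComplete f N) {x : A}
    (hx : x ∈ Ideal.span S) : IsFComplete x N := by
  have : Ideal.span S ≤ completeIdeal N := Ideal.span_le.mpr hS
  exact this hx

end Groth.Agent.Lib.Helper7.FComplete
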