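import Groth.Agent.Lib.Helper7.FCompletePrecomplete
import Groth.Agent.Lib.Helper7.FCompleteNakayama

/-!
# `f`-complete modules that are `f`-power torsion have bounded torsion
-/

set_option autoImplicit false
universe u v

namespace Groth.Agent.Lib.Helper7.FComplete

variable {A : Type u} [CommRing A] {M : Type v} [AddCommGroup M] [Module A M]

section SumLinear

variable {g : A} (hg : IsFComplete g M)

lemma IsFComplete.sum_add (c c' : ℕ → M) : hg.sum (c + c') = hg.sum c + hg.sum c' := by
  have : hg.sol (c + c') = hg.sol c + hg.sol c' := by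
    apply hg.sol_eq
    rw [map_add, hg.sol_spec, hg.sol_spec]
  rw [IsFComplete.sum, this]
  rfl

lemma IsFComplete.sum_zero : hg.sum (0 : ℕ → M) = 0 := by
  have : hg.sol (0 : ℕ → M) = 0 := hg.sol_eq _ _ (map_zero _)
  rw [IsFComplete.sum, this]
  rfl

/-- If the first `K` terms vanish, the sum is divisible by `g^K`. -/
lemma IsFComplete.sum_eq_pow_smul (c : ℕ → M) (K : ℕ) (hc : ∀ k < K, c k = 0) :
    hg.sum c = g ^ K • hg.sum (fun n => c (n + K)) := by
  rw [hg.sum_eq c K, Finset.sum_eq_zero, zero_add]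
  intro k hk
  rw [hc k (Finset.mem_range.mp hk), smul_zero]

lemma IsFComplete.sum_single [DecidableEq ℕ] (j : ℕ) (x : M) :
    hg.sum (Pi.single j x) = g ^ j • x := by
  rw [hg.sum_eq _ (j + 1)]
  have h0 : (fun n => (Pi.single j x : ℕ → M) (n + (j + 1))) = 0 := by
    funext n
    have : n + (j + 1) ≠ j := by omega
    simp [this]
  rw [h0, hg.sum_zero, smul_zero, add_zero, Finset.sum_eq_single j]
  · simp
  · intro k _ hk
    simp [hk]
  · intro h
    simp at h

end SumLinear

lemma pow_smul_eq_zero_of_le {f : A} {x : M} {a b : ℕ} (hab : a ≤ b) (h : f ^ a • x = 0) :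
    f ^ b • x = 0 := by
  obtain ⟨d, rfl⟩ := Nat.exists_eq_add_of_le hab
  rw [add_comm, pow_add, mul_smul, h, smul_zero]

/-- Chase-type lemma: for an `f`-complete `f`-power-torsion module there are `N, j` such that
`f^N • ∑ f^k c_k` is infinitely `f`-divisible whenever `c` vanishes below `j`. -/
theorem exists_pow_smul_sum_divisible {f : A} (hf : IsFComplete f M)
    (ht : ∀ x : M, ∃ n : ℕ, f ^ n • x = 0) :
    ∃ N j : ℕ, ∀ c : ℕ → M, (∀ k < j, c k = 0) → ∀ K : ℕ, ∃ z : M, f ^ K • z = f ^ N • hf.sum c := by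
  by_contra hcon
  push Not at hcon
  choose tord htord using ht
  choose Φc hΦc ΦK hΦK using hcon
  -- the recursive construction
  let Nof : ℕ → (ℕ → M) × ℕ → ℕ := fun i p => max (tord (hf.sum p.1)) i
  let step : ℕ → (ℕ → M) × ℕ → (ℕ → M) × ℕ := fun i p =>
    (p.1 + Φc (Nof i p) p.2, max (ΦK (Nof i p) p.2) (p.2 + 1))
  let st : ℕ → (ℕ → M) × ℕ := fun i => Nat.rec (0, 0) (fun i p => step i p) i
  have hst_succ : ∀ i, st (i + 1) = step i (st i) := fun i => rfl
  have hj_lt : ∀ i, (st i).2 < (st (i + 1)).2 := by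
    intro i
    rw [hst_succ]
    exact lt_of_lt_of_le (Nat.lt_succ_self _) (le_max_right _ _)
  have hj_ge : ∀ i, i ≤ (st i).2 := by
    intro i
    induction i with
    | zero => exact Nat.zero_le _
    | succ i ih => exact Nat.succ_le_of_lt (lt_of_le_of_lt ih (hj_lt i))
  have hj_mono : ∀ i i', i ≤ i' → (st i).2 ≤ (st i').2 := by
    intro i i' hii'
    induction hii' with
    | refl => exact le_rfl
    | step _ ih => exact ih.trans (hj_lt _).le
  have hs_succ : ∀ i k, k < (st i).2 → (st (i + 1)).1 k = (st i).1 k := by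
    intro i k hk
    rw [hst_succ]
    change (st i).1 k + Φc _ _ k = _
    rw [hΦc _ _ k hk, add_zero]
  have hs_stable : ∀ i i', i ≤ i' → ∀ k, k < (st i).2 → (st i').1 k = (st i).1 k := by
    intro i i' hii' k hk
    induction hii' with
    | refl => rfl
    | step h ih => rw [hs_succ _ k (lt_of_lt_of_le hk (hj_mono _ _ h)), ih]
  let cinf : ℕ → M := fun k => (st (k + 1)).1 k
  have hcinf : ∀ i k, k < (st i).2 → cinf k = (st i).1 k := by
    intro i k hk
    have hk1 : k < (st (k + 1)).2 := lt_of_lt_of_le (Nat.lt_succ_self k) (hj_ge (k + 1))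
    rcases le_total (k + 1) i with h | h
    · exact (hs_stable (k + 1) i h k hk1).symm
    · exact hs_stable i (k + 1) h k hk
  -- the key non-vanishing
  have hne : ∀ i, f ^ (Nof i (st i)) • hf.sum cinf ≠ 0 := by
    intro i heq
    set N := Nof i (st i) with hN
    set j' := (st (i + 1)).2 with hj'
    have htail : ∀ k < j', (cinf - (st (i + 1)).1) k = 0 := by
      intro k hk
      rw [Pi.sub_apply, hcinf (i + 1) k hk, sub_self]
    have h1 : hf.sum cinf = hf.sum (st (i + 1)).1 + hf.sum (cinf - (st (i + 1)).1) := by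
      rw [← hf.sum_add, add_sub_cancel]
    have h2 : hf.sum (st (i + 1)).1 = hf.sum (st i).1 + hf.sum (Φc N (st i).2) := by
      rw [← hf.sum_add]
    have h3 : f ^ N • hf.sum (st i).1 = 0 :=
      pow_smul_eq_zero_of_le (le_max_left _ _) (htord _)
    have h4 := hf.sum_eq_pow_smul _ j' htail
    set y := hf.sum (fun n => (cinf - (st (i + 1)).1) (n + j')) with hy
    have hK : ΦK N (st i).2 ≤ j' := le_max_left _ _
    rw [h1, h2, smul_add, smul_add, h3, zero_add, h4] at heq
    apply hΦK N (st i).2 (-(f ^ (N + j' - ΦK N (st i).2) • y))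
    rw [smul_neg, smul_smul, ← pow_add, Nat.add_sub_cancel' (hK.trans (Nat.le_add_left _ _)),
      eq_comm, ← add_eq_zero_iff_eq_neg, pow_add, mul_smul]
    exact heq
  obtain ⟨n, hn⟩ : ∃ n, f ^ n • hf.sum cinf = 0 := ⟨_, htord _⟩
  exact hne n (pow_smul_eq_zero_of_le (le_max_right _ _) hn)

/-- An `f`-complete module in which every element is killed by a power of `f` is killed by a single power
of `f`. -/
theorem exists_pow_smul_eq_zero_of_isFComplete {f : A} (hf : IsFComplete f M)
    (ht : ∀ x : M, ∃ n : ℕ, f ^ n • x = 0) : ∃ n : ℕ, ∀ x : M, f ^ n • x = 0 := by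
  classical
  obtain ⟨N, j, hNj⟩ := exists_pow_smul_sum_divisible hf ht
  refine ⟨N + j, fun x => ?_⟩
  have hdiv : ∀ (x : M) (K : ℕ), ∃ z : M, f ^ K • z = f ^ (N + j) • x := by
    intro x K
    obtain ⟨z, hz⟩ := hNj (Pi.single j x) (fun k hk => by simp [hk.ne]) K
    refine ⟨z, ?_⟩
    rw [hz, hf.sum_single, smul_smul, pow_add]
  let u : M →ₗ[A] M := f ^ (N + j) • LinearMap.id
  have hD : IsFComplete f (LinearMap.range u) := hf.range u hf
  have hsub : Subsingleton (LinearMap.range u) := by
    refine subsingleton_of_isFComplete_of_forall_exists_smul hD ?_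
    rintro ⟨y, x, rfl⟩
    obtain ⟨z, hz⟩ := hdiv x (N + j + 1)
    refine ⟨⟨u z, LinearMap.mem_range_self u z⟩, ?_⟩
    apply Subtype.ext
    change f • (f ^ (N + j) • z) = f ^ (N + j) • x
    rw [← hz, smul_smul, ← pow_succ']
  have : (⟨u x, LinearMap.mem_range_self u x⟩ : LinearMap.range u) = 0 := Subsingleton.elim _ _
  exact congrArg Subtype.val this

end Groth.Agent.Lib.Helper7.FComplete
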