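import Groth.Agent.Lib.Helper7.FComplete
import Mathlib.RingTheory.AdicCompletion.Basic

/-!
# Adically complete modules are `f`-complete for every `f ∈ I`
-/

set_option autoImplicit false
universe u v

namespace Groth.Agent.Lib.Helper7.FComplete

variable {A : Type u} [CommRing A] {I : Ideal A} {f : A}

lemma pow_smul_mem (hf : f ∈ I) {M : Type v} [AddCommGroup M] [Module A M] (k : ℕ) (x : M) :
    f ^ k • x ∈ (I ^ k • ⊤ : Submodule A M) :=
  Submodule.smul_mem_smul (Ideal.pow_mem_pow hf k) Submodule.mem_top

lemma eq_pow_smul_of_rec {M : Type v} [AddCommGroup M] [Module A M] (m : ℕ → M)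
    (hrec : ∀ n, m n = f • m (n + 1)) (k n : ℕ) : m n = f ^ k • m (n + k) := by
  induction k generalizing n with
  | zero => simp
  | succ k ih => rw [ih n, hrec (n + k), smul_smul, ← pow_succ, add_assoc]

/-- A Hausdorff module has no nonzero `f`-divisible sequences. -/
lemma Δ_injective_of_isHausdorff (hf : f ∈ I) (M : Type v) [AddCommGroup M] [Module A M]
    [IsHausdorff I M] : Function.Injective (Δ f M) := by
  rw [injective_iff_map_eq_zero]
  intro m hm
  have hrec : ∀ n, m n = f • m (n + 1) := fun n => sub_eq_zero.mp (congrFun hm n)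
  funext n
  apply IsHausdorff.haus (inferInstance : IsHausdorff I M)
  intro k
  rw [SModEq.zero, eq_pow_smul_of_rec m hrec k n]
  exact pow_smul_mem hf k _

theorem isFComplete_of_isAdicComplete (hf : f ∈ I) (M : Type v) [AddCommGroup M] [Module A M]
    [IsAdicComplete I M] : IsFComplete f M := by
  refine ⟨Δ_injective_of_isHausdorff hf M, fun c => ?_⟩
  let s : ℕ → ℕ → M := fun n k => ∑ j ∈ Finset.range k, f ^ j • c (n + j)
  have hs : ∀ n {k k' : ℕ}, k ≤ k' → s n k ≡ s n k' [SMOD (I ^ k • ⊤ : Submodule A M)] := by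
    intro n k k' hkk'
    rw [SModEq.comm, SModEq.sub_mem]
    simp only [s]
    rw [← Finset.sum_Ico_eq_sub _ hkk']
    refine Submodule.sum_mem _ fun j hj => ?_
    have hkj : k ≤ j := (Finset.mem_Ico.mp hj).1
    exact Submodule.smul_mono_left (Ideal.pow_le_pow_right hkj) (pow_smul_mem hf j _)
  choose m hm using fun n => IsPrecomplete.prec (inferInstance : IsPrecomplete I M) (hs n)
  refine ⟨m, ?_⟩
  funext n
  rw [Δ_apply, sub_eq_iff_eq_add, ← sub_eq_zero]
  apply IsHausdorff.haus (inferInstance : IsHausdorff I M)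
  intro k
  rw [SModEq.zero]
  have h1 : s n (k + 1) - m n ∈ (I ^ k • ⊤ : Submodule A M) := by
    have := (hm n (k + 1))
    rw [SModEq.sub_mem] at this
    exact Submodule.smul_mono_left (Ideal.pow_le_pow_right (Nat.le_succ k)) this
  have h2 : s n (k + 1) = c n + f • s (n + 1) k := by
    simp only [s]
    rw [Finset.sum_range_succ', Finset.smul_sum, add_comm]
    congr 1
    · simp
    · refine Finset.sum_congr rfl fun j _ => ?_
      rw [smul_smul, ← pow_succ', add_assoc, add_comm 1 j]
  have h3 : f • (s (n + 1) k - m (n + 1)) ∈ (I ^ k • ⊤ : Submodule A M) := by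
    have := (hm (n + 1) k)
    rw [SModEq.sub_mem] at this
    exact Submodule.smul_mem _ _ this
  have : m n - (c n + f • m (n + 1)) =
      -(s n (k + 1) - m n) + f • (s (n + 1) k - m (n + 1)) := by
    rw [h2, smul_sub]
    abel
  rw [this]
  exact Submodule.add_mem _ (Submodule.neg_mem _ h1) h3

end Groth.Agent.Lib.Helper7.FComplete
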