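import Groth.Agent.Lib.Helper7.HopfTotalInt
import Mathlib.LinearAlgebra.Charpoly.ToMatrix
import Mathlib.LinearAlgebra.Charpoly.BaseChange
import Mathlib.RingTheory.TensorProduct.Free

set_option autoImplicit false

namespace Groth.Agent.Lib.Helper7.FiniteInv

open TensorProduct HopfRep Module

universe u v w w'

section Mat

variable (k : Type u) [Field k] (A : Type v) [CommRing A] [Algebra k A] [Module.Finite k A]
variable (T : Type w) [CommRing T] [Algebra k T] {T' : Type w'} [CommRing T'] [Algebra k T']

/-- the `T`-basis `1 ⊗ aᵢ` of `T ⊗ A`. -/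
noncomputable def bT : Basis (Free.ChooseBasisIndex k A) T (T ⊗[k] A) :=
  Algebra.TensorProduct.basis T (Free.chooseBasis k A)

/-- the characteristic polynomial of left multiplication by `x` on the free `T`-module `T ⊗ A`. -/
noncomputable def cp (x : T ⊗[k] A) : Polynomial T := (LinearMap.mulLeft T x).charpoly

open Classical in
lemma cp_eq (x : T ⊗[k] A) :
    cp k A T x = (LinearMap.toMatrix (bT k A T) (bT k A T) (LinearMap.mulLeft T x)).charpoly :=
  (LinearMap.charpoly_toMatrix _ _).symm

open Classical in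
lemma toMatrix_map (φ : T →ₐ[k] T') (x : T ⊗[k] A) :
    (LinearMap.toMatrix (bT k A T) (bT k A T) (LinearMap.mulLeft T x)).map φ =
      LinearMap.toMatrix (bT k A T') (bT k A T') (LinearMap.mulLeft T'
        (Algebra.TensorProduct.map φ (AlgHom.id k A) x)) := by
  ext i l
  rw [Matrix.map_apply, LinearMap.toMatrix_apply, LinearMap.toMatrix_apply]
  simp only [bT, Algebra.TensorProduct.basis_apply, LinearMap.mulLeft_apply]
  induction x using TensorProduct.induction_on with
  | zero => simp
  | tmul t a =>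
    rw [Algebra.TensorProduct.map_tmul, Algebra.TensorProduct.tmul_mul_tmul,
      Algebra.TensorProduct.tmul_mul_tmul, Algebra.TensorProduct.basis_repr_tmul,
      Algebra.TensorProduct.basis_repr_tmul]
    simp
  | add y z hy hz =>
    rw [add_mul, map_add, map_add, add_mul, map_add, Finsupp.add_apply, Finsupp.add_apply,
      map_add, hy, hz]

lemma cp_map (φ : T →ₐ[k] T') (x : T ⊗[k] A) :
    (cp k A T x).map (φ : T →+* T') = cp k A T' (Algebra.TensorProduct.map φ (AlgHom.id k A) x) := by
  classical
  rw [cp_eq, cp_eq, ← toMatrix_map]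
  exact (Matrix.charpoly_map _ (φ : T →+* T')).symm

lemma aeval_cp (x : T ⊗[k] A) : Polynomial.aeval x (cp k A T x) = 0 := by
  have h := LinearMap.aeval_self_charpoly (LinearMap.mulLeft T x)
  have h2 : Polynomial.aeval (Algebra.lmul T (T ⊗[k] A) x) (cp k A T x) =
      Algebra.lmul T (T ⊗[k] A) (Polynomial.aeval x (cp k A T x)) :=
    Polynomial.aeval_algHom_apply (Algebra.lmul T (T ⊗[k] A)) x _
  have h3 : Algebra.lmul T (T ⊗[k] A) x = LinearMap.mulLeft T x := rfl
  rw [h3] at h2
  have h4 : Algebra.lmul T (T ⊗[k] A) (Polynomial.aeval x (cp k A T x)) = 0 := by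
    rw [← h2]; exact h
  have := LinearMap.congr_fun h4 1
  simpa using this

lemma cp_monic (x : T ⊗[k] A) : (cp k A T x).Monic := LinearMap.charpoly_monic _

end Mat

section Theta

variable (k : Type u) [Field k] (A : Type v) [CommRing A] [HopfAlgebra k A]
variable (T : Type w) [CommRing T] [Algebra k T]

/-- `b ↦ Σ (1 ⊗ b₁) ⊗ b₂`. -/
noncomputable def gmap : A →ₐ[k] (T ⊗[k] A) ⊗[k] A :=
  (Algebra.TensorProduct.map (Algebra.TensorProduct.includeRight : A →ₐ[k] T ⊗[k] A)
    (AlgHom.id k A)).comp (Bialgebra.comulAlgHom k A)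

/-- the shear automorphism `(t ⊗ a) ⊗ b ↦ Σ (t ⊗ a b₁) ⊗ b₂`, linear over `T ⊗ A`. -/
noncomputable def Theta : (T ⊗[k] A) ⊗[k] A →ₐ[T ⊗[k] A] (T ⊗[k] A) ⊗[k] A :=
  Algebra.TensorProduct.lift (Algebra.ofId (T ⊗[k] A) ((T ⊗[k] A) ⊗[k] A)) (gmap k A T)
    (fun _ _ => Commute.all _ _)

lemma Theta_tmul (s : T ⊗[k] A) (b : A) :
    Theta k A T (s ⊗ₜ[k] b) = (s ⊗ₜ[k] (1 : A)) * gmap k A T b := by
  unfold Theta
  rw [Algebra.TensorProduct.lift_tmul]
  rfl

lemma Theta_incl (y : T ⊗[k] A) :
    Theta k A T (Algebra.TensorProduct.map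
      (Algebra.TensorProduct.includeLeft : T →ₐ[k] T ⊗[k] A) (AlgHom.id k A) y) =
      (TensorProduct.assoc k T A A).symm (LinearMap.lTensor T (Coalgebra.comul (R := k)) y) := by
  induction y using TensorProduct.induction_on with
  | zero => simp
  | tmul t b =>
    rw [Algebra.TensorProduct.map_tmul, Theta_tmul, LinearMap.lTensor_tmul]
    change ((t ⊗ₜ[k] (1 : A)) ⊗ₜ[k] (1 : A)) * (Algebra.TensorProduct.map
      (Algebra.TensorProduct.includeRight : A →ₐ[k] T ⊗[k] A) (AlgHom.id k A))
        (Coalgebra.comul (R := k) b) = _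
    generalize Coalgebra.comul (R := k) b = d
    induction d using TensorProduct.induction_on with
    | zero => simp
    | tmul b' b'' =>
      rw [Algebra.TensorProduct.map_tmul]
      simp
    | add y z hy hz => simp only [map_add, mul_add, TensorProduct.tmul_add, hy, hz]
  | add y z hy hz => simp only [map_add, hy, hz]

/-- `a ⊗ b ↦ Σ S(a) b₁ ⊗ b₂`. -/
noncomputable def Phi : A ⊗[k] A →ₗ[k] A ⊗[k] A :=
  LinearMap.rTensor A (LinearMap.mul' k A ∘ₗ LinearMap.rTensor A (HopfAlgebra.antipode k (A := A))) ∘ₗ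
    (TensorProduct.assoc k A A A).symm.toLinearMap ∘ₗ
      LinearMap.lTensor A (Coalgebra.comul (R := k) (A := A))

lemma Phi_comul (b : A) : Phi k A (Coalgebra.comul (R := k) b) = (1 : A) ⊗ₜ[k] b := by
  unfold Phi
  rw [LinearMap.comp_apply, LinearMap.comp_apply, LinearEquiv.coe_coe,
    Coalgebra.coassoc_symm_apply, ← LinearMap.comp_apply, ← LinearMap.rTensor_comp,
    LinearMap.comp_assoc, HopfAlgebra.mul_antipode_rTensor_comul, LinearMap.rTensor_comp,
    LinearMap.comp_apply, Coalgebra.rTensor_counit_comul]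
  simp [Algebra.algebraMap_eq_smul_one]

/-- `b ↦ Σ (1 ⊗ S b₁) ⊗ b₂`. -/
noncomputable def gmap' : A →ₗ[k] (T ⊗[k] A) ⊗[k] A :=
  (TensorProduct.map ((Algebra.TensorProduct.includeRight : A →ₐ[k] T ⊗[k] A).toLinearMap ∘ₗ
    HopfAlgebra.antipode k (A := A)) LinearMap.id) ∘ₗ Coalgebra.comul (R := k) (A := A)

lemma Theta_map_antipode (d : A ⊗[k] A) :
    Theta k A T (TensorProduct.map
      ((Algebra.TensorProduct.includeRight : A →ₐ[k] T ⊗[k] A).toLinearMap ∘ₗ
        HopfAlgebra.antipode k (A := A)) LinearMap.id d) =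
      TensorProduct.map (Algebra.TensorProduct.includeRight : A →ₐ[k] T ⊗[k] A).toLinearMap
        LinearMap.id (Phi k A d) := by
  induction d using TensorProduct.induction_on with
  | zero => simp
  | tmul a b =>
    rw [TensorProduct.map_tmul, LinearMap.comp_apply, LinearMap.id_apply, Theta_tmul]
    unfold Phi
    rw [LinearMap.comp_apply, LinearMap.comp_apply, LinearMap.lTensor_tmul]
    change _ * (Algebra.TensorProduct.map
      (Algebra.TensorProduct.includeRight : A →ₐ[k] T ⊗[k] A) (AlgHom.id k A))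
        (Coalgebra.comul (R := k) b) = _
    generalize Coalgebra.comul (R := k) b = e
    induction e using TensorProduct.induction_on with
    | zero => simp
    | tmul b' b'' =>
      simp
    | add y z hy hz => simp only [map_add, mul_add, TensorProduct.tmul_add, hy, hz]
  | add y z hy hz => simp only [map_add, hy, hz]

lemma Theta_gmap' (b : A) : Theta k A T (gmap' k A T b) = (1 : T ⊗[k] A) ⊗ₜ[k] b := by
  unfold gmap'
  rw [LinearMap.comp_apply, Theta_map_antipode, Phi_comul, TensorProduct.map_tmul]
  simp [Algebra.TensorProduct.one_def]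

lemma Theta_surjective : Function.Surjective (Theta k A T) := by
  intro z
  induction z using TensorProduct.induction_on with
  | zero => exact ⟨0, map_zero _⟩
  | tmul s b =>
    refine ⟨(s ⊗ₜ[k] (1 : A)) * gmap' k A T b, ?_⟩
    rw [map_mul, Theta_gmap', Theta_tmul, map_one, mul_one, Algebra.TensorProduct.tmul_mul_tmul,
      mul_one, one_mul]
  | add y z hy hz =>
    obtain ⟨y', rfl⟩ := hy
    obtain ⟨z', rfl⟩ := hz
    exact ⟨y' + z', map_add _ _ _⟩

variable [Module.Finite k A]

lemma Theta_bijective : Function.Bijective (Theta k A T) := by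
  refine ⟨?_, Theta_surjective k A T⟩
  exact OrzechProperty.injective_of_surjective_endomorphism (Theta k A T).toLinearMap
    (Theta_surjective k A T)

lemma cp_Theta (y : (T ⊗[k] A) ⊗[k] A) :
    cp k A (T ⊗[k] A) (Theta k A T y) = cp k A (T ⊗[k] A) y := by
  let e : (T ⊗[k] A) ⊗[k] A ≃ₗ[T ⊗[k] A] (T ⊗[k] A) ⊗[k] A :=
    LinearEquiv.ofBijective (Theta k A T).toLinearMap (Theta_bijective k A T)
  have h := LinearEquiv.charpoly_conj e (LinearMap.mulLeft (T ⊗[k] A) y)
  have h2 : e.conj (LinearMap.mulLeft (T ⊗[k] A) y) =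
      LinearMap.mulLeft (T ⊗[k] A) (Theta k A T y) := by
    apply LinearMap.ext
    intro z
    rw [LinearEquiv.conj_apply]
    change Theta k A T (y * e.symm z) = Theta k A T y * z
    rw [map_mul]
    congr 1
    exact e.apply_symm_apply z
  unfold cp
  rw [← h2, h]

end Theta

section Main

variable {k : Type u} [Field k] {A : Type v} [CommRing A] [HopfAlgebra k A] [Module.Finite k A]
variable {R : Type w} [CommRing R] [Algebra k R] [Comod k A R] [GLin.IsCoactAlg k A R]

/-- the counit retraction `R ⊗ A → R`. -/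
noncomputable def epsR : R ⊗[k] A →ₐ[R] R :=
  Algebra.TensorProduct.lift (AlgHom.id R R) ((Algebra.ofId k R).comp (Bialgebra.counitAlgHom k A))
    (fun _ _ => Commute.all _ _)

omit [Module.Finite k A] [Comod k A R] [GLin.IsCoactAlg k A R] in
lemma epsR_eq (x : R ⊗[k] A) :
    epsR (k := k) (A := A) x =
      TensorProduct.rid k R (LinearMap.lTensor R (Coalgebra.counit (R := k) (A := A)) x) := by
  induction x using TensorProduct.induction_on with
  | zero => simp
  | tmul r a =>
    unfold epsR
    rw [Algebra.TensorProduct.lift_tmul, LinearMap.lTensor_tmul, TensorProduct.rid_tmul]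
    simp [Algebra.ofId_apply, Algebra.algebraMap_eq_smul_one]
  | add y z hy hz => simp only [map_add, hy, hz]

omit [Module.Finite k A] in
lemma epsR_coact (r : R) : epsR (k := k) (A := A) (Comod.coact (k := k) (A := A) r) = r := by
  rw [epsR_eq]
  have h := LinearMap.congr_fun (Comod.counit_comp (k := k) (A := A) (V := R)) r
  simp only [LinearMap.comp_apply, LinearMap.flip_apply, TensorProduct.mk_apply] at h
  rw [h, TensorProduct.rid_tmul, one_smul]

/-- the characteristic polynomial of `ρ r`. -/
noncomputable def cpol (r : R) : Polynomial R := cp k A R (Comod.coact (k := k) (A := A) r)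

lemma aeval_cpol (r : R) : Polynomial.aeval r (cpol (k := k) (A := A) r) = 0 := by
  have h := aeval_cp k A R (Comod.coact (k := k) (A := A) r)
  have h2 := Polynomial.aeval_algHom_apply (epsR (k := k) (A := A))
    (Comod.coact (k := k) (A := A) r) (cpol (k := k) (A := A) r)
  rw [epsR_coact] at h2
  rw [h2]
  unfold cpol
  rw [h, map_zero]

lemma coeff_cpol_mem (r : R) (n : ℕ) :
    (cpol (k := k) (A := A) r).coeff n ∈ GLin.invariants k A R := by
  have h1 := cp_map k A R (GLin.coactAlgHom k A R) (Comod.coact (k := k) (A := A) r)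
  have h2 := cp_map k A R (Algebra.TensorProduct.includeLeft : R →ₐ[k] R ⊗[k] A)
    (Comod.coact (k := k) (A := A) r)
  have h3 : Algebra.TensorProduct.map (GLin.coactAlgHom k A R) (AlgHom.id k A)
      (Comod.coact (k := k) (A := A) r) =
      Theta k A R (Algebra.TensorProduct.map
        (Algebra.TensorProduct.includeLeft : R →ₐ[k] R ⊗[k] A) (AlgHom.id k A)
          (Comod.coact (k := k) (A := A) r)) := by
    rw [Theta_incl]
    have hc := LinearMap.congr_fun (Comod.coassoc (k := k) (A := A) (V := R)) r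
    simp only [LinearMap.comp_apply, LinearEquiv.coe_coe] at hc
    rw [← hc, LinearEquiv.symm_apply_apply]
    generalize Comod.coact (k := k) (A := A) r = y
    induction y using TensorProduct.induction_on with
    | zero => simp
    | tmul x a => rfl
    | add y z hy hz => simp only [map_add, hy, hz]
  rw [h3, cp_Theta, ← h2] at h1
  have h4 := congrArg (fun p => Polynomial.coeff p n) h1
  simp only [Polynomial.coeff_map] at h4
  exact h4

theorem isIntegral_invariants (r : R) : IsIntegral (GLin.invariants k A R) r := by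
  rcases subsingleton_or_nontrivial R with hs | hn
  · rw [Subsingleton.elim r 0]
    exact isIntegral_zero
  have hl : cpol (k := k) (A := A) r ∈
      Polynomial.lifts (algebraMap (GLin.invariants k A R) R) := by
    rw [Polynomial.lifts_iff_coeff_lifts]
    intro n
    exact ⟨⟨_, coeff_cpol_mem r n⟩, rfl⟩
  obtain ⟨q, hq, -, hqm⟩ := Polynomial.lifts_and_degree_eq_and_monic hl
    (cp_monic k A R _)
  refine ⟨q, hqm, ?_⟩
  rw [Polynomial.eval₂_eq_eval_map, hq]
  have := aeval_cpol (k := k) (A := A) r
  rwa [Polynomial.coe_aeval_eq_eval] at this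

theorem finiteType_and_finite [Algebra.FiniteType k R] :
    Algebra.FiniteType k ↥(GLin.invariants k A R) ∧ Module.Finite ↥(GLin.invariants k A R) R := by
  have : Algebra.IsIntegral (GLin.invariants k A R) R := ⟨isIntegral_invariants⟩
  have : Algebra.FiniteType (GLin.invariants k A R) R :=
    Algebra.FiniteType.of_restrictScalars_finiteType k (GLin.invariants k A R) R
  have hfin : Module.Finite (GLin.invariants k A R) R := Algebra.IsIntegral.finite
  refine ⟨⟨?_⟩, hfin⟩
  exact fg_of_fg_of_fg k (GLin.invariants k A R) R (Algebra.FiniteType.out)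
    (Module.finite_def.1 hfin) Subtype.val_injective

end Main

end Groth.Agent.Lib.Helper7.FiniteInv
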