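import Groth.Agent.Lib.Helper7.ComodLR
import Groth.Prelude.Def_GLin

/-!
# Comodule algebras over a linearly reductive bialgebra (helper7)
-/

universe u v v' w w' w''

open TensorProduct

namespace Groth.Agent.Lib.Helper7.Comod

open HopfRep

section CoactAlg

variable {k : Type u} [Field k] {A : Type v} [CommRing A] [Bialgebra k A]
variable {R : Type w} [CommRing R] [Algebra k R] [Comod k A R] [GLin.IsCoactAlg k A R]

lemma mem_invariants_iff_mem_fixedPts (x : R) :
    x ∈ GLin.invariants k A R ↔ x ∈ fixedPts k A R := Iff.rfl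

omit [GLin.IsCoactAlg k A R] [Comod k A R] in
lemma rTensor_mulRight (y : R) (z : R ⊗[k] A) :
    (LinearMap.mulRight k y).rTensor A z = z * (y ⊗ₜ[k] (1 : A)) := by
  induction z using TensorProduct.induction_on with
  | zero => simp
  | tmul r a => simp [Algebra.TensorProduct.tmul_mul_tmul]
  | add a b ha hb => rw [map_add, ha, hb, add_mul]

/-- Multiplication by an invariant is a comodule endomorphism. -/
lemma isComodHom_mulRight {y : R} (hy : y ∈ GLin.invariants k A R) :
    Hoch.IsComodHom A (LinearMap.mulRight k y : R →ₗ[k] R) := by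
  rw [isComodHom_iff]
  intro x
  rw [rTensor_mulRight, LinearMap.mulRight_apply, GLin.IsCoactAlg.coact_mul,
    (GLin.mem_invariants_iff k A R y).1 hy]

/-- S12556: a Reynolds operator is linear over the invariants. -/
theorem IsReynolds.map_mul (hR : IsSemisimpleComod k A R) {E : R →ₗ[k] R} (hE : IsReynolds k A E)
    (x : R) {y : R} (hy : y ∈ GLin.invariants k A R) : E (x * y) = E x * y := by
  have := LinearMap.congr_fun (IsReynolds.comp_eq hR hE hE (isComodHom_mulRight hy)) x
  simpa using this

/-- `I·R ∩ R^G = I` for every ideal `I` of the invariants. -/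
theorem comap_map_invariants (hR : IsSemisimpleComod k A R) (I : Ideal (GLin.invariants k A R)) :
    Ideal.comap (GLin.invariants k A R).val.toRingHom
        (Ideal.map (GLin.invariants k A R).val.toRingHom I) = I := by
  obtain ⟨E, hE⟩ := exists_isReynolds hR
  apply le_antisymm _ Ideal.le_comap_map
  intro x hx
  rw [Ideal.mem_comap] at hx
  set ι := (GLin.invariants k A R).val.toRingHom with hι
  have key : ∀ z ∈ Ideal.map ι I, ∀ r : R, ∃ a ∈ I, E (r * z) = ι a := by
    intro z hz
    rw [Ideal.map] at hz
    refine Submodule.span_induction (p := fun z _ => ∀ r : R, ∃ a ∈ I, E (r * z) = ι a)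
      ?_ ?_ ?_ ?_ hz
    · rintro _ ⟨a, ha, rfl⟩ r
      have hEr : E r ∈ GLin.invariants k A R :=
        (mem_invariants_iff_mem_fixedPts (E r)).2 (hE.apply_mem r)
      refine ⟨⟨E r, hEr⟩ * a, I.mul_mem_left _ ha, ?_⟩
      have h1 : ι a = (a : R) := rfl
      rw [h1, IsReynolds.map_mul hR hE r a.2]
      rfl
    · intro r
      exact ⟨0, I.zero_mem, by simp⟩
    · intro z z' _ _ hz hz' r
      obtain ⟨a, ha, h1⟩ := hz r
      obtain ⟨a', ha', h2⟩ := hz' r
      exact ⟨a + a', I.add_mem ha ha', by rw [mul_add, map_add, h1, h2, map_add]⟩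
    · intro s z _ hz r
      obtain ⟨a, ha, h1⟩ := hz (r * s)
      exact ⟨a, ha, by rw [smul_eq_mul, ← mul_assoc, h1]⟩
  obtain ⟨a, ha, h⟩ := key _ hx 1
  rw [one_mul] at h
  have hx' : E (ι x) = ι x := (hE.2.2 _).2 x.2
  rw [hx'] at h
  have : x = a := Subtype.ext h
  rw [this]
  exact ha

/-- S17526: the invariants of a Noetherian comodule algebra form a Noetherian ring. -/
theorem isNoetherianRing_invariants (hR : IsSemisimpleComod k A R) [IsNoetherianRing R] :
    IsNoetherianRing (GLin.invariants k A R) := by
  rw [isNoetherianRing_iff, isNoetherian_iff']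
  have hmono : StrictMono (Ideal.map (GLin.invariants k A R).val.toRingHom :
      Ideal (GLin.invariants k A R) → Ideal R) := by
    intro I J hIJ
    refine lt_of_le_of_ne (Ideal.map_mono hIJ.le) fun h => hIJ.ne ?_
    rw [← comap_map_invariants hR I, ← comap_map_invariants hR J, h]
  have : WellFoundedGT (Ideal R) := (isNoetherian_iff' (R := R) (M := R)).1 inferInstance
  exact hmono.wellFoundedGT

/-- S12557: sums of invariant ideals commute with taking invariants. -/
theorem iSup_inf_fixedPts {V : Type w'} [AddCommGroup V] [Module k V] [Comod k A V]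
    (hV : IsSemisimpleComod k A V) {ι : Sort*} (U : ι → Submodule k V)
    (hU : ∀ i, IsSubcomod (k := k) (A := A) (U i)) :
    (⨆ i, U i) ⊓ fixedPts k A V = ⨆ i, (U i ⊓ fixedPts k A V) := by
  obtain ⟨E, hE⟩ := exists_isReynolds hV
  apply le_antisymm _ (iSup_le fun i => inf_le_inf_right _ (le_iSup U i))
  rintro x ⟨hx1, hx2⟩
  have hEx : E x = x := (hE.2.2 x).2 hx2
  rw [← hEx]
  refine Submodule.iSup_induction U (motive := fun x => E x ∈ ⨆ i, (U i ⊓ fixedPts k A V))
    hx1 ?_ ?_ ?_
  · intro i y hy
    exact (le_iSup (fun i => U i ⊓ fixedPts k A V) i)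
      ⟨IsReynolds.apply_mem_of_mem hV hE (hU i) hy, hE.apply_mem y⟩
  · simp
  · intro a b ha hb
    rw [map_add]
    exact Submodule.add_mem _ ha hb

end CoactAlg

section Ideal

variable {k : Type u} [Field k] {A : Type v} [CommRing A] [Bialgebra k A]
variable {R : Type w} [CommRing R] [Algebra k R] [Comod k A R]

/-- A finite set is contained in a finite-dimensional subcomodule. -/
theorem exists_finite_subcomod_le {V : Type w'} [AddCommGroup V] [Module k V] [Comod k A V]
    (s : Finset V) : ∃ U : Submodule k V, Module.Finite k U ∧ (s : Set V) ⊆ U ∧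
      IsSubcomod (k := k) (A := A) U := by
  classical
  induction s using Finset.induction_on with
  | empty => exact ⟨⊥, inferInstance, by simp, isSubcomod_bot⟩
  | insert a s _ ih =>
    obtain ⟨U, hUfin, hsU, hU⟩ := ih
    obtain ⟨U', hU'fin, haU', hU'⟩ := exists_finite_subcomod_mem (k := k) (C := A) (V := V) a
    refine ⟨U ⊔ U', ?_, ?_, isSubcomod_sup hU hU'⟩
    · have := hUfin; have := hU'fin
      exact Submodule.finite_sup U U'
    · intro x hx
      rw [Finset.coe_insert] at hx
      rcases hx with rfl | hx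
      · exact (le_sup_right : U' ≤ U ⊔ U') haU'
      · exact (le_sup_left : U ≤ U ⊔ U') (hsU hx)

/-- S16718: an invariant ideal of a Noetherian comodule algebra is generated by a finite-dimensional
subcomodule. -/
theorem exists_finite_isSubcomod_le_ideal_span_eq [IsNoetherianRing R] (I : Ideal R)
    (hI : IsSubcomod (k := k) (A := A) (I.restrictScalars k)) :
    ∃ W : Submodule k R, Module.Finite k W ∧ IsSubcomod (k := k) (A := A) W ∧
      W ≤ I.restrictScalars k ∧ Ideal.span (W : Set R) = I := by
  obtain ⟨s, hs⟩ := (isNoetherianRing_iff_ideal_fg R).1 inferInstance I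
  obtain ⟨U, hUfin, hsU, hU⟩ := exists_finite_subcomod_le (k := k) (A := A) s
  refine ⟨U ⊓ I.restrictScalars k, ?_, isSubcomod_inf hU hI, inf_le_right, ?_⟩
  · have := hUfin
    exact Submodule.finiteDimensional_inf_left U _
  · apply le_antisymm
    · rw [Ideal.span_le]
      intro x hx
      exact hx.2
    · rw [← hs, Ideal.span_le]
      intro x hx
      apply Ideal.subset_span
      refine ⟨hsU hx, ?_⟩
      exact Ideal.subset_span hx

end Ideal

end Groth.Agent.Lib.Helper7.Comod
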