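import Mathlib.Algebra.Module.Submodule.Range
import Mathlib.LinearAlgebra.Quotient.Basic
import Mathlib.LinearAlgebra.Isomorphisms
import Mathlib.Algebra.Polynomial.Basis
import Mathlib.Algebra.Polynomial.Coeff
import Mathlib.LinearAlgebra.Basis.Defs
import Mathlib.Tactic.Abel
import Mathlib.Tactic.Ring

/-!
# `f`-completeness of a module in the sequence sense

`IsFComplete f M` says that the operator `Δ : (m_n) ↦ (m_n - f m_{n+1})` on sequences in `M` is bijective.
Its kernel is `Hom_A(A_f, M)` and its cokernel is `Ext^1_A(A_f, M)`, so this is derived completeness of the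
module `M` with respect to `f`.  This file contains pure algebra only.
-/

set_option autoImplicit false
universe u v w

namespace Groth.Agent.Lib.Helper7.FComplete

variable {A : Type u} [CommRing A] (f : A)

section Defs

variable (M : Type v) [AddCommGroup M] [Module A M]

/-- The operator `m ↦ (n ↦ m n - f • m (n+1))` on sequences. -/
def Δ : (ℕ → M) →ₗ[A] (ℕ → M) where
  toFun m n := m n - f • m (n + 1)
  map_add' m m' := by
    funext n
    simp only [Pi.add_apply, smul_add]
    abel
  map_smul' a m := by
    funext n
    simp only [Pi.smul_apply, RingHom.id_apply, smul_sub, smul_comm a f]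

@[simp] lemma Δ_apply (m : ℕ → M) (n : ℕ) : Δ f M m n = m n - f • m (n + 1) := rfl

/-- `M` is `f`-complete in the sequence sense. -/
def IsFComplete : Prop := Function.Bijective (Δ f M)

end Defs

variable {M : Type v} [AddCommGroup M] [Module A M] {N : Type w} [AddCommGroup N] [Module A N]

lemma Δ_comp {F : Type*} [FunLike F M N] [LinearMapClass F A M N] (u : F) (m : ℕ → M) :
    Δ f N (fun n => u (m n)) = fun n => u (Δ f M m n) := by
  funext n
  simp [Δ_apply, map_sub, map_smul]

lemma Δ_coe (S : Submodule A M) (m : ℕ → S) :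
    Δ f M (fun n => (m n : M)) = fun n => ((Δ f S m n : S) : M) := rfl

variable {f}

lemma IsFComplete.eq_zero (h : IsFComplete f M) (m : ℕ → M) (hm : ∀ n, m n = f • m (n + 1)) :
    m = 0 := by
  apply h.1
  rw [map_zero]
  funext n
  simp [Δ_apply, ← hm n]

lemma IsFComplete.exists_solution (h : IsFComplete f M) (c : ℕ → M) :
    ∃ m : ℕ → M, ∀ n, m n - f • m (n + 1) = c n := by
  obtain ⟨m, hm⟩ := h.2 c
  exact ⟨m, fun n => congrFun hm n⟩

lemma isFComplete_of_subsingleton [Subsingleton M] : IsFComplete f M :=
  ⟨fun _ _ _ => Subsingleton.elim _ _, fun _ => ⟨0, Subsingleton.elim _ _⟩⟩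

lemma IsFComplete.of_linearEquiv (e : M ≃ₗ[A] N) (h : IsFComplete f M) : IsFComplete f N := by
  constructor
  · intro m m' hmm
    have : Δ f M (fun n => e.symm (m n)) = Δ f M (fun n => e.symm (m' n)) := by
      rw [Δ_comp f e.symm m, Δ_comp f e.symm m', hmm]
    have := h.1 this
    funext n
    simpa using congrArg e (congrFun this n)
  · intro c
    obtain ⟨m, hm⟩ := h.2 (fun n => e.symm (c n))
    refine ⟨fun n => e (m n), ?_⟩
    rw [Δ_comp f e m, hm]
    funext n
    simp

/-- The kernel of a linear map between `f`-complete modules is `f`-complete. -/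
lemma IsFComplete.ker (u : M →ₗ[A] N) (hM : IsFComplete f M) (hN : IsFComplete f N) :
    IsFComplete f (LinearMap.ker u) := by
  constructor
  · intro m m' hmm
    have : Δ f M (fun n => (m n : M)) = Δ f M (fun n => (m' n : M)) := by
      rw [Δ_coe, Δ_coe, hmm]
    have := hM.1 this
    funext n
    exact Subtype.ext (congrFun this n)
  · intro c
    obtain ⟨m, hm⟩ := hM.2 (fun n => (c n : M))
    have hum : (fun n => u (m n)) = 0 := by
      apply hN.1
      rw [map_zero, Δ_comp f u m, hm]
      funext n
      exact (c n).2
    refine ⟨fun n => ⟨m n, congrFun hum n⟩, ?_⟩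
    funext n
    apply Subtype.ext
    have := congrFun hm n
    simpa [Δ_apply] using this

/-- The cokernel of a linear map between `f`-complete modules is `f`-complete. -/
lemma IsFComplete.coker (u : M →ₗ[A] N) (hM : IsFComplete f M) (hN : IsFComplete f N) :
    IsFComplete f (N ⧸ LinearMap.range u) := by
  set p := (LinearMap.range u).mkQ with hp
  have hsurj : Function.Surjective p := Submodule.mkQ_surjective _
  constructor
  · intro m m' hmm
    -- reduce to `m - m' = 0`
    suffices h0 : ∀ d : ℕ → (N ⧸ LinearMap.range u), Δ f _ d = 0 → d = 0 by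
      have := h0 (m - m') (by rw [map_sub, hmm, sub_self])
      exact sub_eq_zero.mp this
    intro d hd
    choose d' hd' using fun n => hsurj (d n)
    have hmem : ∀ n, Δ f N d' n ∈ LinearMap.range u := by
      intro n
      rw [← Submodule.Quotient.mk_eq_zero, ← Submodule.mkQ_apply]
      have := congrFun (Δ_comp f p d') n
      rw [← this]
      simp only [hd']
      exact congrFun hd n
    choose x hx using hmem
    obtain ⟨y, hy⟩ := hM.2 x
    have : d' = fun n => u (y n) := by
      apply hN.1
      rw [Δ_comp f u y, hy]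
      funext n
      exact (hx n).symm
    funext n
    rw [← hd' n, this]
    simp [hp]
  · intro c
    choose c' hc' using fun n => hsurj (c n)
    obtain ⟨m, hm⟩ := hN.2 c'
    refine ⟨fun n => p (m n), ?_⟩
    rw [Δ_comp f p m, hm]
    funext n
    exact hc' n

/-- The quotient of an `f`-complete module by an `f`-complete submodule is `f`-complete. -/
lemma IsFComplete.quotient (S : Submodule A M) (hS : IsFComplete f S) (hM : IsFComplete f M) :
    IsFComplete f (M ⧸ S) := by
  have := IsFComplete.coker S.subtype hS hM
  rw [Submodule.range_subtype] at this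
  exact this

/-- The range of a linear map between `f`-complete modules is `f`-complete. -/
lemma IsFComplete.range (u : M →ₗ[A] N) (hM : IsFComplete f M) (hN : IsFComplete f N) :
    IsFComplete f (LinearMap.range u) :=
  ((hM.ker u hN).quotient _ hM).of_linearEquiv u.quotKerEquivRange

/-- A submodule `S` of an `f`-complete module with `f`-complete quotient is `f`-complete. -/
lemma IsFComplete.of_quotient (S : Submodule A M) (hM : IsFComplete f M) (hQ : IsFComplete f (M ⧸ S)) :
    IsFComplete f S := by
  have := IsFComplete.ker S.mkQ hM hQ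
  rw [Submodule.ker_mkQ] at this
  exact this

/-- Extensions of `f`-complete modules are `f`-complete. -/
lemma IsFComplete.of_submodule_quotient (S : Submodule A M) (hS : IsFComplete f S)
    (hQ : IsFComplete f (M ⧸ S)) : IsFComplete f M := by
  constructor
  · intro m m' hmm
    suffices h0 : ∀ d : ℕ → M, Δ f _ d = 0 → d = 0 by
      exact sub_eq_zero.mp (h0 (m - m') (by rw [map_sub, hmm, sub_self]))
    intro d hd
    have h1 : (fun n => S.mkQ (d n)) = 0 := by
      apply hQ.1
      rw [map_zero, Δ_comp f S.mkQ d, hd]
      funext n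
      simp
    have hmem : ∀ n, d n ∈ S := fun n => (Submodule.Quotient.mk_eq_zero S).mp (congrFun h1 n)
    have h2 : (fun n => (⟨d n, hmem n⟩ : S)) = 0 := by
      apply hS.1
      rw [map_zero]
      funext n
      apply Subtype.ext
      have := congrFun hd n
      simpa [Δ_apply] using this
    funext n
    exact congrArg Subtype.val (congrFun h2 n)
  · intro c
    obtain ⟨q, hq⟩ := hQ.2 (fun n => S.mkQ (c n))
    choose q' hq' using fun n => Submodule.mkQ_surjective S (q n)
    have hmem : ∀ n, c n - Δ f M q' n ∈ S := by
      intro n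
      rw [← Submodule.Quotient.mk_eq_zero, Submodule.Quotient.mk_sub, sub_eq_zero]
      have := congrFun (Δ_comp f S.mkQ q') n
      simp only [hq'] at this
      rw [← Submodule.mkQ_apply, ← Submodule.mkQ_apply, ← this, hq]
    obtain ⟨s, hs⟩ := hS.2 (fun n => ⟨_, hmem n⟩)
    refine ⟨q' + fun n => (s n : M), ?_⟩
    rw [map_add, Δ_coe, hs]
    funext n
    simp

/-- Products of `f`-complete modules are `f`-complete. -/
lemma IsFComplete.pi {ι : Type*} {M : ι → Type v} [∀ i, AddCommGroup (M i)] [∀ i, Module A (M i)]
    (h : ∀ i, IsFComplete f (M i)) : IsFComplete f (∀ i, M i) := by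
  constructor
  · intro m m' hmm
    funext n i
    have : Δ f (M i) (fun n => m n i) = Δ f (M i) (fun n => m' n i) := by
      funext n
      exact congrFun (congrFun hmm n) i
    exact congrFun ((h i).1 this) n
  · intro c
    choose m hm using fun i => (h i).2 (fun n => c n i)
    refine ⟨fun n i => m i n, ?_⟩
    funext n i
    exact congrFun (hm i) n

section Polynomial

open Polynomial

/-- Linear maps out of `A[X]` are sequences. -/
noncomputable def homEquiv (M : Type v) [AddCommGroup M] [Module A M] :
    (A[X] →ₗ[A] M) ≃ (ℕ → M) :=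
  ((Polynomial.basisMonomials A).constr ℤ).symm.toEquiv

lemma homEquiv_apply (φ : A[X] →ₗ[A] M) (n : ℕ) : homEquiv M φ n = φ (X ^ n) := by
  simp [homEquiv, Module.Basis.constr_symm_apply, Polynomial.coe_basisMonomials, X_pow_eq_monomial]

/-- `f`-completeness in terms of precomposition with multiplication by `fX - 1` on `A[X]`. -/
lemma isFComplete_iff_bijective_comp (μ : A[X] →ₗ[A] A[X])
    (hμ : ∀ n : ℕ, μ (X ^ n) = C f * X ^ (n + 1) - X ^ n) :
    IsFComplete f M ↔ Function.Bijective (fun φ : A[X] →ₗ[A] M => φ ∘ₗ μ) := by
  have key : ∀ φ : A[X] →ₗ[A] M, homEquiv M (φ ∘ₗ μ) = - Δ f M (homEquiv M φ) := by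
    intro φ
    funext n
    simp only [homEquiv_apply, LinearMap.comp_apply, hμ, map_sub, Pi.neg_apply, Δ_apply, neg_sub]
    rw [Polynomial.C_mul', map_smul]
  have h2 : (fun φ : A[X] →ₗ[A] M => φ ∘ₗ μ) =
      (homEquiv M).symm ∘ (fun m => - m) ∘ (Δ f M) ∘ (homEquiv M) := by
    funext φ
    apply (homEquiv M).injective
    simp [key]
  rw [h2, IsFComplete]
  rw [Function.Bijective.of_comp_iff' (homEquiv M).symm.bijective,
    Function.Bijective.of_comp_iff' (neg_involutive (G := ℕ → M)).bijective,
    Function.Bijective.of_comp_iff _ (homEquiv M).bijective]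

end Polynomial

end Groth.Agent.Lib.Helper7.FComplete
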