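import Mathlib.Algebra.Homology.DerivedCategory.KProjective
import Mathlib.Algebra.Homology.DerivedCategory.FullyFaithful
import Mathlib.Algebra.Homology.DerivedCategory.HomologySequence
import Mathlib.Algebra.Homology.HomotopyCategory.HomComplexSingle

/-!
# Morphisms from a projective object in degree `0` in the derived category

For a projective object `P` of an abelian category `C` and `K : DerivedCategory C`, the map
`Hom_{D(C)}(P[0], K) → Hom_C(P, H^0 K)` is bijective.
-/

set_option autoImplicit false
universe w v u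

open CategoryTheory CategoryTheory.Limits DerivedCategory

namespace Groth.Agent.Lib.Helper7.HomProjective

variable {C : Type u} [Category.{v} C] [Abelian C] [HasDerivedCategory.{w} C]

/-- Morphisms out of a K-projective complex in the derived category come from chain maps. -/
lemma exists_Q_map_eq (X L : CochainComplex C ℤ) [X.IsKProjective] (φ : Q.obj X ⟶ Q.obj L) :
    ∃ c : X ⟶ L, Q.map c = φ := by
  obtain ⟨ψ, hψ⟩ := (CochainComplex.IsKProjective.Qh_map_bijective X
    ((HomotopyCategory.quotient _ _).obj L)).2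
    ((quotientCompQhIso C).hom.app X ≫ φ ≫ (quotientCompQhIso C).inv.app L)
  obtain ⟨c, rfl⟩ := (HomotopyCategory.quotient _ _).map_surjective ψ
  refine ⟨c, ?_⟩
  have h1 := quotientCompQhIso_hom_naturality c
  dsimp at h1
  rw [hψ] at h1
  simp only [Category.assoc, Iso.inv_hom_id_app, Category.comp_id] at h1
  exact ((cancel_epi _).mp h1).symm

/-- The single complex of a projective object is K-projective. -/
instance isKProjective_single (P : C) [Projective P] (n : ℤ) :
    CochainComplex.IsKProjective ((HomologicalComplex.single C (ComplexShape.up ℤ) n).obj P) := by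
  have : ∀ i : ℤ, Projective (((HomologicalComplex.single C (ComplexShape.up ℤ) n).obj P).X i) := by
    intro i
    by_cases h : i = n
    · subst h
      exact Projective.of_iso (HomologicalComplex.singleObjXSelf (ComplexShape.up ℤ) i P).symm
        inferInstance
    · exact (HomologicalComplex.isZero_single_obj_X _ _ _ _ h).projective
  exact CochainComplex.isKProjective_of_projective _ n

section ChainLevel

open HomologicalComplex CochainComplex.HomComplex

variable (P : C) (L : CochainComplex C ℤ)

/-- The single complex with `P` in degree `0`. -/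
noncomputable abbrev sgl : CochainComplex C ℤ :=
  (HomologicalComplex.single C (ComplexShape.up ℤ) 0).obj P

variable {P L}

/-- The degree `0` component of a chain map out of a single complex. -/
noncomputable def comp0 (c : sgl P ⟶ L) : P ⟶ L.X 0 :=
  (singleObjXSelf (ComplexShape.up ℤ) 0 P).inv ≫ c.f 0

omit [HasDerivedCategory.{w} C] in
lemma comp0_d (c : sgl P ⟶ L) : comp0 c ≫ L.d 0 1 = 0 := by
  have := c.comm 0 1
  rw [HomologicalComplex.single_obj_d, zero_comp] at this
  rw [comp0, Category.assoc, this, comp_zero]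

/-- The chain-level comparison map `Hom(P[0], L) → Hom(P, H^0 L)`. -/
noncomputable def Ψ' (c : sgl P ⟶ L) : P ⟶ L.homology 0 :=
  (singleObjHomologySelfIso (ComplexShape.up ℤ) 0 P).inv ≫ homologyMap c 0

omit [HasDerivedCategory.{w} C] in
lemma Ψ'_eq (c : sgl P ⟶ L) :
    Ψ' c = L.liftCycles (comp0 c) 1 (by simp) (comp0_d c) ≫ L.homologyπ 0 := by
  have h1 : (singleObjCyclesSelfIso (ComplexShape.up ℤ) 0 P).inv ≫ cyclesMap c 0 =
      L.liftCycles (comp0 c) 1 (by simp) (comp0_d c) := by
    rw [← cancel_mono (L.iCycles 0), Category.assoc, cyclesMap_i, liftCycles_i,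
      singleObjCyclesSelfIso_inv_iCycles_assoc, comp0]
  rw [Ψ', ← singleObjCyclesSelfIso_inv_homologyπ, Category.assoc, homologyπ_naturality,
    ← Category.assoc, h1]

omit [HasDerivedCategory.{w} C] in
lemma homologyMap_eq (c : sgl P ⟶ L) :
    homologyMap c 0 = (singleObjHomologySelfIso (ComplexShape.up ℤ) 0 P).hom ≫ Ψ' c := by
  simp [Ψ']

omit [HasDerivedCategory.{w} C] in
lemma Ψ'_surjective [Projective P] (g : P ⟶ L.homology 0) : ∃ c : sgl P ⟶ L, Ψ' c = g := by
  let z : P ⟶ L.cycles 0 := Projective.factorThru g (L.homologyπ 0)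
  have hz : z ≫ L.homologyπ 0 = g := Projective.factorThru_comp _ _
  let c : sgl P ⟶ L := mkHomFromSingle (z ≫ L.iCycles 0) (fun k _ => by simp)
  refine ⟨c, ?_⟩
  have hc : comp0 c = z ≫ L.iCycles 0 := by
    simp [comp0, c, mkHomFromSingle_f]
  rw [Ψ'_eq, ← hz]
  congr 1
  rw [← cancel_mono (L.iCycles 0), liftCycles_i, hc]

lemma Q_map_eq_zero_of_Ψ'_eq_zero [Projective P] (c : sgl P ⟶ L) (hc : Ψ' c = 0) :
    Q.map c = 0 := by
  rw [Ψ'_eq] at hc
  set z := L.liftCycles (comp0 c) 1 (by simp) (comp0_d c) with hz
  let S : ShortComplex C := ShortComplex.mk (L.toCycles (-1) 0) (L.homologyπ 0) (by simp)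
  have hS : S.Exact := ShortComplex.exact_of_g_is_cokernel _ (L.homologyIsCokernel (-1) 0 (by simp))
  let h : P ⟶ L.X (-1) := hS.liftFromProjective z hc
  have hh : h ≫ L.d (-1) 0 = comp0 c := by
    have h1 : h ≫ L.toCycles (-1) 0 = z := hS.liftFromProjective_comp z hc
    rw [← L.toCycles_i (-1) 0, ← Category.assoc, h1, hz, liftCycles_i]
  let β : Cochain (sgl P) L (-1) :=
    Cochain.fromSingleMk (X := P) (K := L) (p := 0) (q := -1) h (n := -1) (by simp)
  have hβ : δ (-1) 0 β = Cochain.fromSingleMk (X := P) (K := L) (p := 0) (q := 0) (comp0 c) (n := 0)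
      (by simp) := by
    rw [← hh]
    exact Cochain.δ_fromSingleMk (X := P) (K := L) (p := 0) (q := -1) h (n := -1) (by simp) 0 0 (by simp)
  have key : Cochain.ofHom c = δ (-1) 0 β + Cochain.ofHom (0 : sgl P ⟶ L) := by
    rw [Cochain.ofHom_zero, add_zero, hβ]
    apply (Cochain.fromSingleEquiv (X := P) (K := L) (p := 0) (q := 0) (n := 0) (by simp)).injective
    erw [Cochain.fromSingleEquiv_fromSingleMk]
    simp only [Cochain.fromSingleEquiv, comp0, AddEquiv.coe_mk, Equiv.coe_fn_mk]
    erw [Cochain.ofHom_v]
  have hom : Homotopy c 0 := (Cochain.equivHomotopy c 0).symm ⟨_, key⟩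
  rw [Q_map_eq_of_homotopy C hom, Functor.map_zero]

end ChainLevel

section Main

variable (P : C) [Projective P] (K : DerivedCategory C)

/-- Injectivity half of `(K)`, for `Q.obj` of the single complex. -/
lemma eq_zero_of_homologyFunctor_map_eq_zero' (φ : Q.obj (sgl P) ⟶ K)
    (h : (DerivedCategory.homologyFunctor C 0).map φ = 0) : φ = 0 := by
  let L := Q.objPreimage K
  let e : Q.obj L ≅ K := Q.objObjPreimageIso K
  obtain ⟨c, hc⟩ := exists_Q_map_eq (sgl P) L (φ ≫ e.inv)
  have h1 : (DerivedCategory.homologyFunctor C 0).map (Q.map c) = 0 := by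
    rw [hc, Functor.map_comp, h, zero_comp]
  have h2 : HomologicalComplex.homologyMap c 0 = 0 := by
    have := homologyFunctorFactors_hom_naturality c 0
    rw [h1, zero_comp] at this
    exact (cancel_epi ((homologyFunctorFactors C 0).hom.app (sgl P))).mp
      (this.symm.trans comp_zero.symm)
  have h3 : Ψ' c = 0 := by rw [Ψ', h2, comp_zero]
  have h4 := Q_map_eq_zero_of_Ψ'_eq_zero c h3
  rw [hc] at h4
  have : φ = (φ ≫ e.inv) ≫ e.hom := by simp
  rw [this, h4, zero_comp]

lemma exists_homologyFunctor_map_eq'
    (g : (DerivedCategory.homologyFunctor C 0).obj (Q.obj (sgl P)) ⟶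
      (DerivedCategory.homologyFunctor C 0).obj K) :
    ∃ φ : Q.obj (sgl P) ⟶ K, (DerivedCategory.homologyFunctor C 0).map φ = g := by
  let L := Q.objPreimage K
  let e : Q.obj L ≅ K := Q.objObjPreimageIso K
  let g' : (sgl P).homology 0 ⟶ L.homology 0 :=
    (homologyFunctorFactors C 0).inv.app (sgl P) ≫ g ≫ (DerivedCategory.homologyFunctor C 0).map e.inv ≫
      (homologyFunctorFactors C 0).hom.app L
  obtain ⟨c, hc⟩ := Ψ'_surjective
    ((HomologicalComplex.singleObjHomologySelfIso (ComplexShape.up ℤ) 0 P).inv ≫ g')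
  have h2 : HomologicalComplex.homologyMap c 0 = g' := by
    rw [homologyMap_eq, hc, Iso.hom_inv_id_assoc]
  refine ⟨Q.map c ≫ e.hom, ?_⟩
  have h3 := homologyFunctorFactors_hom_naturality c 0
  rw [h2] at h3
  have h4 : (DerivedCategory.homologyFunctor C 0).map (Q.map c) =
      g ≫ (DerivedCategory.homologyFunctor C 0).map e.inv := by
    rw [← cancel_mono ((homologyFunctorFactors C 0).hom.app L), h3]
    simp only [g', Category.assoc]
    exact Iso.hom_inv_id_app_assoc (homologyFunctorFactors C 0) (sgl P) _
  rw [CategoryTheory.Functor.map_comp, h4, Category.assoc, ← CategoryTheory.Functor.map_comp,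
    e.inv_hom_id, CategoryTheory.Functor.map_id, Category.comp_id]

/-- **Key lemma `(K)`**: for `P` projective, the homology functor induces a bijection
`Hom_{D(C)}(P[0], K) ≃ Hom_C(H^0(P[0]), H^0(K))`. -/
theorem bijective_homologyFunctor_map :
    Function.Bijective (fun φ : (singleFunctor C 0).obj P ⟶ K =>
      (DerivedCategory.homologyFunctor C 0).map φ) := by
  constructor
  · intro φ φ' hφ
    have : (DerivedCategory.homologyFunctor C 0).map (φ - φ') = 0 := by
      rw [Functor.map_sub, sub_eq_zero]
      exact hφ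
    exact sub_eq_zero.mp (eq_zero_of_homologyFunctor_map_eq_zero' P K _ this)
  · intro g
    exact exists_homologyFunctor_map_eq' P K g

end Main

end Groth.Agent.Lib.Helper7.HomProjective
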