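import Groth.Prelude.Def_DRing3
import Mathlib.Algebra.Homology.DerivedCategory.SingleTriangle
import Mathlib.Algebra.Homology.ShortComplex.ModuleCat

/-!
# Basic closure properties of `DRing.IsDerivedComplete`

Closure under isomorphisms, shifts, and two-out-of-three in distinguished triangles.
-/

set_option autoImplicit false
universe u
attribute [local instance] HasDerivedCategory.standard
open CategoryTheory CategoryTheory.Limits CategoryTheory.Pretriangulated

namespace Groth.Agent.Lib.Helper7.DerivedComplete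

variable {A : Type u} [CommRing A]

/-- The "f-local vanishing" predicate: all maps `A_f ⟶ K[n]` vanish. -/
def HomVanish (f : A) (K : Dual.D A) : Prop :=
  ∀ n : ℤ, Subsingleton (Dual.inD A (Localization.Away f) ⟶ K⟦n⟧)

lemma isDerivedComplete_iff (I : Ideal A) (K : Dual.D A) :
    DRing.IsDerivedComplete I K ↔ ∀ f ∈ I, HomVanish f K := Iff.rfl

lemma subsingleton_hom_of_iso {X Y Z : Dual.D A} (e : Y ≅ Z) (h : Subsingleton (X ⟶ Y)) :
    Subsingleton (X ⟶ Z) :=
  ⟨fun a b => by
    have : a ≫ e.inv = b ≫ e.inv := Subsingleton.elim _ _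
    simpa using congrArg (· ≫ e.hom) this⟩

lemma HomVanish.of_iso {f : A} {K L : Dual.D A} (e : K ≅ L) (h : HomVanish f K) : HomVanish f L :=
  fun n => subsingleton_hom_of_iso ((shiftFunctor (Dual.D A) n).mapIso e) (h n)

lemma HomVanish.shift {f : A} {K : Dual.D A} (h : HomVanish f K) (m : ℤ) : HomVanish f (K⟦m⟧) :=
  fun n => subsingleton_hom_of_iso ((shiftFunctorAdd' (Dual.D A) m n (m + n) rfl).app K) (h (m + n))

lemma HomVanish.of_shift {f : A} {K : Dual.D A} (m : ℤ) (h : HomVanish f (K⟦m⟧)) : HomVanish f K :=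
  (h.shift (-m)).of_iso ((shiftFunctorCompIsoId (Dual.D A) m (-m) (by simp)).app K)

/-- Middle term of a distinguished triangle. -/
lemma HomVanish.of_distTriang₂ {f : A} (T : Triangle (Dual.D A)) (hT : T ∈ distTriang (Dual.D A))
    (h₁ : HomVanish f T.obj₁) (h₃ : HomVanish f T.obj₃) : HomVanish f T.obj₂ := by
  intro n
  have hTn := Triangle.shift_distinguished T hT n
  refine ⟨fun a b => ?_⟩
  suffices ∀ c : Dual.inD A (Localization.Away f) ⟶ T.obj₂⟦n⟧, c = 0 by rw [this a, this b]
  intro c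
  obtain ⟨g, hg⟩ := Triangle.coyoneda_exact₂ _ hTn c ((h₃ n).elim _ _)
  have hg0 : g = 0 := (h₁ n).elim g 0
  rw [hg, hg0]
  exact zero_comp

lemma HomVanish.of_distTriang₃ {f : A} (T : Triangle (Dual.D A)) (hT : T ∈ distTriang (Dual.D A))
    (h₁ : HomVanish f T.obj₁) (h₂ : HomVanish f T.obj₂) : HomVanish f T.obj₃ :=
  HomVanish.of_distTriang₂ T.rotate (rot_of_distTriang _ hT) h₂ (h₁.shift 1)

lemma HomVanish.of_distTriang₁ {f : A} (T : Triangle (Dual.D A)) (hT : T ∈ distTriang (Dual.D A))
    (h₂ : HomVanish f T.obj₂) (h₃ : HomVanish f T.obj₃) : HomVanish f T.obj₁ :=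
  HomVanish.of_distTriang₂ T.invRotate (inv_rot_of_distTriang _ hT) (h₃.shift (-1)) h₂

lemma HomVanish.zero (f : A) {K : Dual.D A} (hK : IsZero K) : HomVanish f K :=
  fun n => ⟨fun a b => ((shiftFunctor (Dual.D A) n).map_isZero hK).eq_of_tgt a b⟩

variable (I : Ideal A)

lemma of_iso {K L : Dual.D A} (e : K ≅ L) (h : DRing.IsDerivedComplete I K) :
    DRing.IsDerivedComplete I L := fun f hf => HomVanish.of_iso e (h f hf)

lemma shift {K : Dual.D A} (h : DRing.IsDerivedComplete I K) (m : ℤ) :
    DRing.IsDerivedComplete I (K⟦m⟧) := fun f hf => HomVanish.shift (h f hf) m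

lemma of_distTriang₂ (T : Triangle (Dual.D A)) (hT : T ∈ distTriang (Dual.D A))
    (h₁ : DRing.IsDerivedComplete I T.obj₁) (h₃ : DRing.IsDerivedComplete I T.obj₃) :
    DRing.IsDerivedComplete I T.obj₂ :=
  fun f hf => HomVanish.of_distTriang₂ T hT (h₁ f hf) (h₃ f hf)

lemma of_distTriang₃ (T : Triangle (Dual.D A)) (hT : T ∈ distTriang (Dual.D A))
    (h₁ : DRing.IsDerivedComplete I T.obj₁) (h₂ : DRing.IsDerivedComplete I T.obj₂) :
    DRing.IsDerivedComplete I T.obj₃ :=
  fun f hf => HomVanish.of_distTriang₃ T hT (h₁ f hf) (h₂ f hf)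

lemma of_distTriang₁ (T : Triangle (Dual.D A)) (hT : T ∈ distTriang (Dual.D A))
    (h₂ : DRing.IsDerivedComplete I T.obj₂) (h₃ : DRing.IsDerivedComplete I T.obj₃) :
    DRing.IsDerivedComplete I T.obj₁ :=
  fun f hf => HomVanish.of_distTriang₁ T hT (h₂ f hf) (h₃ f hf)

lemma of_isZero {K : Dual.D A} (hK : IsZero K) : DRing.IsDerivedComplete I K :=
  fun f _ => HomVanish.zero f hK

/-- Short exact sequences of modules give two-out-of-three for derived completeness. -/
lemma of_shortExact₂ (S : ShortComplex (ModuleCat.{u} A)) (hS : S.ShortExact)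
    (h₁ : DRing.IsDerivedComplete I ((DerivedCategory.singleFunctor _ 0).obj S.X₁))
    (h₃ : DRing.IsDerivedComplete I ((DerivedCategory.singleFunctor _ 0).obj S.X₃)) :
    DRing.IsDerivedComplete I ((DerivedCategory.singleFunctor _ 0).obj S.X₂) :=
  of_distTriang₂ I _ hS.singleTriangle_distinguished h₁ h₃

lemma of_shortExact₃ (S : ShortComplex (ModuleCat.{u} A)) (hS : S.ShortExact)
    (h₁ : DRing.IsDerivedComplete I ((DerivedCategory.singleFunctor _ 0).obj S.X₁))
    (h₂ : DRing.IsDerivedComplete I ((DerivedCategory.singleFunctor _ 0).obj S.X₂)) :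
    DRing.IsDerivedComplete I ((DerivedCategory.singleFunctor _ 0).obj S.X₃) :=
  of_distTriang₃ I _ hS.singleTriangle_distinguished h₁ h₂

lemma of_shortExact₁ (S : ShortComplex (ModuleCat.{u} A)) (hS : S.ShortExact)
    (h₂ : DRing.IsDerivedComplete I ((DerivedCategory.singleFunctor _ 0).obj S.X₂))
    (h₃ : DRing.IsDerivedComplete I ((DerivedCategory.singleFunctor _ 0).obj S.X₃)) :
    DRing.IsDerivedComplete I ((DerivedCategory.singleFunctor _ 0).obj S.X₁) :=
  of_distTriang₁ I _ hS.singleTriangle_distinguished h₂ h₃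

section LinearMaps

variable {M₁ M₂ M₃ : Type u} [AddCommGroup M₁] [Module A M₁] [AddCommGroup M₂] [Module A M₂]
  [AddCommGroup M₃] [Module A M₃] (i : M₁ →ₗ[A] M₂) (p : M₂ →ₗ[A] M₃)

/-- The short complex of modules attached to an exact pair of linear maps. -/
noncomputable abbrev sc (h : Function.Exact i p) : ShortComplex (ModuleCat.{u} A) :=
  ModuleCat.shortComplexOfCompEqZero i p h.linearMap_comp_eq_zero

lemma sc_shortExact (hi : Function.Injective i) (h : Function.Exact i p)
    (hp : Function.Surjective p) : (sc i p h).ShortExact :=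
  ModuleCat.shortComplex_shortExact _ h hi hp

/-- The distinguished triangle `M₁[0] ⟶ M₂[0] ⟶ M₃[0] ⟶ M₁[1]` of a short exact sequence of modules. -/
lemma exists_distTriang (hi : Function.Injective i) (h : Function.Exact i p)
    (hp : Function.Surjective p) :
    ∃ δ : Dual.inD A M₃ ⟶ (Dual.inD A M₁)⟦(1 : ℤ)⟧,
      Triangle.mk ((DerivedCategory.singleFunctor (ModuleCat.{u} A) 0).map (ModuleCat.ofHom i))
        ((DerivedCategory.singleFunctor (ModuleCat.{u} A) 0).map (ModuleCat.ofHom p)) δ ∈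
        distTriang (Dual.D A) :=
  ⟨_, (sc_shortExact i p hi h hp).singleTriangle_distinguished⟩

lemma of_exact₂ (hi : Function.Injective i) (h : Function.Exact i p) (hp : Function.Surjective p)
    (h₁ : DRing.IsDerivedComplete I (Dual.inD A M₁)) (h₃ : DRing.IsDerivedComplete I (Dual.inD A M₃)) :
    DRing.IsDerivedComplete I (Dual.inD A M₂) :=
  of_shortExact₂ I _ (sc_shortExact i p hi h hp) h₁ h₃

lemma of_exact₃ (hi : Function.Injective i) (h : Function.Exact i p) (hp : Function.Surjective p)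
    (h₁ : DRing.IsDerivedComplete I (Dual.inD A M₁)) (h₂ : DRing.IsDerivedComplete I (Dual.inD A M₂)) :
    DRing.IsDerivedComplete I (Dual.inD A M₃) :=
  of_shortExact₃ I _ (sc_shortExact i p hi h hp) h₁ h₂

lemma of_exact₁ (hi : Function.Injective i) (h : Function.Exact i p) (hp : Function.Surjective p)
    (h₂ : DRing.IsDerivedComplete I (Dual.inD A M₂)) (h₃ : DRing.IsDerivedComplete I (Dual.inD A M₃)) :
    DRing.IsDerivedComplete I (Dual.inD A M₁) :=
  of_shortExact₁ I _ (sc_shortExact i p hi h hp) h₂ h₃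

/-- Derived completeness of `M[0]` is invariant under linear equivalence. -/
lemma of_linearEquiv (e : M₁ ≃ₗ[A] M₂) (h : DRing.IsDerivedComplete I (Dual.inD A M₁)) :
    DRing.IsDerivedComplete I (Dual.inD A M₂) :=
  of_iso I ((DerivedCategory.singleFunctor (ModuleCat.{u} A) 0).mapIso e.toModuleIso) h

end LinearMaps

end Groth.Agent.Lib.Helper7.DerivedComplete
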