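import Groth.Prelude.Def_DRing3
import Mathlib.RingTheory.Localization.Away.AdjoinRoot
import Groth.Agent.Lib.Helper7.DerivedComplete

/-!
# The telescope presentation `0 → A[X] --(fX-1)--> A[X] → A_f → 0`
-/

set_option autoImplicit false
universe u
attribute [local instance] HasDerivedCategory.standard
open CategoryTheory CategoryTheory.Limits CategoryTheory.Pretriangulated Polynomial

namespace Groth.Agent.Lib.Helper7.Telescope

variable {A : Type u} [CommRing A] (f : A)

/-- The polynomial `fX - 1`. -/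
noncomputable abbrev g : A[X] := C f * X - 1

/-- Multiplication by `fX - 1` on `A[X]`, as an `A`-linear map. -/
noncomputable def μ : A[X] →ₗ[A] A[X] := LinearMap.mulLeft A (g f)

/-- The evaluation `A[X] → A_f`, `X ↦ 1/f`. -/
noncomputable def π : A[X] →ₗ[A] Localization.Away f :=
  (Localization.awayEquivAdjoin f).symm.toLinearMap ∘ₗ (AdjoinRoot.mkₐ (g f)).toLinearMap

lemma μ_apply (p : A[X]) : μ f p = (C f * X - 1) * p := rfl

lemma μ_monomial (n : ℕ) : μ f (X ^ n) = C f * X ^ (n + 1) - X ^ n := by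
  rw [μ_apply]; ring

lemma π_surjective : Function.Surjective (π f) := by
  intro y
  obtain ⟨p, hp⟩ := AdjoinRoot.mk_surjective (g := g f) (Localization.awayEquivAdjoin f y)
  refine ⟨p, ?_⟩
  simp only [π, LinearMap.coe_comp, AlgEquiv.toLinearMap_apply, Function.comp_apply,
    AlgHom.toLinearMap_apply]
  rw [AlgEquiv.symm_apply_eq]
  exact hp

lemma exact_μ_π : Function.Exact (μ f) (π f) := by
  intro p
  simp only [π, LinearMap.coe_comp, AlgEquiv.toLinearMap_apply, Function.comp_apply,
    AlgHom.toLinearMap_apply, Set.mem_range]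
  rw [EmbeddingLike.map_eq_zero_iff]
  change AdjoinRoot.mk (g f) p = 0 ↔ _
  rw [AdjoinRoot.mk_eq_zero]
  constructor
  · rintro ⟨q, rfl⟩
    exact ⟨q, rfl⟩
  · rintro ⟨q, rfl⟩
    exact ⟨q, rfl⟩

lemma μ_injective : Function.Injective (μ f) := by
  rw [← LinearMap.ker_eq_bot, LinearMap.ker_eq_bot']
  intro p hp
  rw [μ_apply] at hp
  ext n
  rw [coeff_zero]
  induction n with
  | zero =>
    have := congrArg (fun q => coeff q 0) hp
    simp only [sub_mul, one_mul, mul_assoc, coeff_sub, coeff_C_mul, coeff_X_mul_zero, mul_zero,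
      zero_sub, coeff_zero, neg_eq_zero] at this
    exact this
  | succ n ih =>
    have := congrArg (fun q => coeff q (n + 1)) hp
    simp only [sub_mul, one_mul, mul_assoc, coeff_sub, coeff_C_mul, coeff_X_mul, ih, mul_zero,
      zero_sub, coeff_zero, neg_eq_zero] at this
    exact this

/-- The telescope triangle `A[X][0] ⟶ A[X][0] ⟶ A_f[0] ⟶ A[X][1]`. -/
lemma exists_distTriang :
    ∃ δ : Dual.inD A (Localization.Away f) ⟶ (Dual.inD A A[X])⟦(1 : ℤ)⟧,
      Triangle.mk ((DerivedCategory.singleFunctor (ModuleCat.{u} A) 0).map (ModuleCat.ofHom (μ f)))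
        ((DerivedCategory.singleFunctor (ModuleCat.{u} A) 0).map (ModuleCat.ofHom (π f))) δ ∈
        distTriang (Dual.D A) :=
  DerivedComplete.exists_distTriang (μ f) (π f) (μ_injective f) (exact_μ_π f) (π_surjective f)

end Groth.Agent.Lib.Helper7.Telescope
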