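import Groth.Agent.Lib.Helper7.DerivedComplete
import Groth.Agent.Lib.Helper7.Telescope
import Groth.Agent.Lib.Helper7.FComplete
import Groth.Agent.Lib.Helper7.HomProjective

/-!
# Derived completeness in terms of cohomology modules

`HomVanish f K ↔ ∀ i, IsFComplete f (H^i K)`.
-/

set_option autoImplicit false
universe u
attribute [local instance] HasDerivedCategory.standard
open CategoryTheory CategoryTheory.Limits CategoryTheory.Pretriangulated Polynomial

namespace Groth.Agent.Lib.Helper7.DerivedCompleteMT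

open DerivedComplete FComplete

section Triangulated

variable {D : Type*} [Category D] [Preadditive D] [HasZeroObject D] [HasShift D ℤ]
  [∀ n : ℤ, (shiftFunctor D n).Additive] [Pretriangulated D]

omit [HasZeroObject D] [Pretriangulated D] in
lemma subsingleton_shift_hom {Z Y : D} (h : ∀ n : ℤ, Subsingleton (Z ⟶ Y⟦n⟧)) (m n : ℤ) :
    Subsingleton (Z⟦m⟧ ⟶ Y⟦n⟧) := by
  suffices ∀ a : Z⟦m⟧ ⟶ Y⟦n⟧, a = 0 from ⟨fun a b => by rw [this a, this b]⟩
  intro a
  let e1 : Z ≅ Z⟦m⟧⟦-m⟧ := ((shiftFunctorCompIsoId D m (-m) (by simp)).app Z).symm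
  let e2 : Y⟦n⟧⟦-m⟧ ≅ Y⟦n + -m⟧ := ((shiftFunctorAdd' D n (-m) (n + -m) rfl).app Y).symm
  have h0 : e1.hom ≫ a⟦-m⟧' ≫ e2.hom = 0 := (h _).elim _ _
  have h1 : a⟦-m⟧' = 0 := by
    have := congrArg (fun x => e1.inv ≫ x ≫ e2.inv) h0
    simpa using this
  apply (shiftFunctor D (-m)).map_injective
  rw [h1, Functor.map_zero]

lemma bijective_conj {X Y : Type*} (Θ : X → Y) (hΘ : Function.Bijective Θ) (a : X → X) (b : Y → Y)
    (h : ∀ x, Θ (a x) = b (Θ x)) : Function.Bijective a ↔ Function.Bijective b := by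
  have hcomp : Θ ∘ a = b ∘ Θ := funext h
  rw [← Function.Bijective.of_comp_iff' hΘ a, hcomp, Function.Bijective.of_comp_iff b hΘ]

/-- For a distinguished triangle `X ⟶ X' ⟶ Z ⟶ X⟦1⟧`: all maps `Z ⟶ Y⟦n⟧` vanish iff precomposition
with `X ⟶ X'` is bijective on `Hom(-, Y⟦n⟧)` for all `n`. -/
lemma subsingleton_iff_bijective (T : Triangle D) (hT : T ∈ distTriang D) (Y : D) :
    (∀ n : ℤ, Subsingleton (T.obj₃ ⟶ Y⟦n⟧)) ↔
      ∀ n : ℤ, Function.Bijective (fun φ : T.obj₂ ⟶ Y⟦n⟧ => T.mor₁ ≫ φ) := by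
  constructor
  · intro h n
    constructor
    · intro φ φ' hφ
      have h0 : T.mor₁ ≫ (φ - φ') = 0 := by
        rw [Preadditive.comp_sub, sub_eq_zero]
        exact hφ
      obtain ⟨χ, hχ⟩ := Triangle.yoneda_exact₂ T hT _ h0
      rw [(h n).elim χ 0, Limits.comp_zero] at hχ
      exact sub_eq_zero.mp hχ
    · intro ψ
      have hT' := inv_rot_of_distTriang _ hT
      have h1 : T.invRotate.mor₁ ≫ ψ = 0 :=
        (subsingleton_shift_hom h (-1) n).elim _ _
      obtain ⟨g, hg⟩ := Triangle.yoneda_exact₂ _ hT' ψ h1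
      exact ⟨g, hg.symm⟩
  · intro h n
    suffices ∀ φ : T.obj₃ ⟶ Y⟦n⟧, φ = 0 from ⟨fun a b => by rw [this a, this b]⟩
    intro φ
    have h1 : T.mor₂ ≫ φ = 0 := by
      apply (h n).1
      change T.mor₁ ≫ T.mor₂ ≫ φ = T.mor₁ ≫ 0
      rw [Limits.comp_zero, ← Category.assoc, comp_distTriang_mor_zero₁₂ _ hT, Limits.zero_comp]
    obtain ⟨ψ, hψ⟩ := Triangle.yoneda_exact₃ T hT φ h1
    let e : Y⟦n⟧ ≅ (Y⟦n - 1⟧)⟦(1 : ℤ)⟧ := (shiftFunctorAdd' D (n - 1) 1 n (by simp)).app Y
    obtain ⟨ψ', hψ'⟩ := (shiftFunctor D (1 : ℤ)).map_surjective (ψ ≫ e.hom)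
    obtain ⟨χ, hχ⟩ := (h (n - 1)).2 ψ'
    have h2 : T.mor₃ ≫ ψ ≫ e.hom = 0 := by
      rw [← hψ', ← hχ]
      dsimp only
      rw [Functor.map_comp, ← Category.assoc, comp_distTriang_mor_zero₃₁ _ hT, Limits.zero_comp]
    have h3 : T.mor₃ ≫ ψ = 0 := by
      have := congrArg (fun x => x ≫ e.inv) h2
      simpa using this
    rw [hψ, h3]

end Triangulated

section MT

variable {A : Type u} [CommRing A] (f : A)

/-- `A[X]` as an object of `ModuleCat A`. -/
noncomputable abbrev PX : ModuleCat.{u} A := ModuleCat.of A A[X]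

/-- Multiplication by `fX - 1` as a morphism of `ModuleCat A`. -/
noncomputable abbrev μX : PX (A := A) ⟶ PX := ModuleCat.ofHom (Telescope.μ f)

lemma bijective_precomp_iff_isFComplete (N : ModuleCat.{u} A) :
    Function.Bijective (fun φ : PX (A := A) ⟶ N => μX f ≫ φ) ↔ IsFComplete f N := by
  rw [isFComplete_iff_bijective_comp (Telescope.μ f) (Telescope.μ_monomial f)]
  exact bijective_conj (fun φ : PX (A := A) ⟶ N => φ.hom) ModuleCat.homEquiv.bijective _ _
    (fun φ => rfl)

/-- Transport of the bijectivity of precomposition along isomorphisms. -/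
lemma bijective_precomp_iff_of_iso {C : Type*} [Category C] {X X' Y Y' : C} (a : X ⟶ X) (a' : X' ⟶ X')
    (eX : X ≅ X') (eY : Y ≅ Y') (h : a ≫ eX.hom = eX.hom ≫ a') :
    Function.Bijective (fun φ : X ⟶ Y => a ≫ φ) ↔ Function.Bijective (fun φ : X' ⟶ Y' => a' ≫ φ) := by
  refine bijective_conj (fun φ : X ⟶ Y => eX.inv ≫ φ ≫ eY.hom) ?_ _ _ ?_
  · refine ⟨fun φ φ' hφ => ?_, fun ψ => ⟨eX.hom ≫ ψ ≫ eY.inv, by simp⟩⟩
    have := congrArg (fun x => eX.hom ≫ x ≫ eY.inv) hφ
    simpa using this
  · intro φ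
    have h' : eX.inv ≫ a = a' ≫ eX.inv := by
      rw [← cancel_epi eX.hom, Iso.hom_inv_id_assoc, ← Category.assoc, ← h]
      simp
    change eX.inv ≫ (a ≫ φ) ≫ eY.hom = a' ≫ eX.inv ≫ φ ≫ eY.hom
    rw [Category.assoc, ← Category.assoc eX.inv, h', Category.assoc]

/-- **Master theorem**: all maps `A_f ⟶ K[n]` vanish iff every cohomology module of `K` is `f`-complete
in the sequence sense. -/
theorem homVanish_iff (K : Dual.D A) :
    HomVanish f K ↔ ∀ i : ℤ, IsFComplete f (Dual.HD A K i) := by
  obtain ⟨δ, hT⟩ := Telescope.exists_distTriang f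
  rw [HomVanish]
  refine (subsingleton_iff_bijective _ hT K).trans ?_
  refine forall_congr' fun n => ?_
  have : Projective (PX (A := A)) := inferInstance
  rw [← bijective_precomp_iff_isFComplete f]
  -- Step 1: pass to `H^0` via `(K)`
  let H := DerivedCategory.homologyFunctor (ModuleCat.{u} A) 0
  let m := (DerivedCategory.singleFunctor (ModuleCat.{u} A) 0).map (μX f)
  have hK := HomProjective.bijective_homologyFunctor_map (PX (A := A)) (K⟦n⟧)
  refine (bijective_conj _ hK (fun φ => m ≫ φ) (fun ψ => H.map m ≫ ψ)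
    (fun φ => H.map_comp m φ)).trans ?_
  -- Step 2: transport along isos
  let iP := (DerivedCategory.singleFunctorCompHomologyFunctorIso (ModuleCat.{u} A) 0).app (PX (A := A))
  let iK : H.obj (K⟦n⟧) ≅ (DerivedCategory.homologyFunctor (ModuleCat.{u} A) n).obj K :=
    ((DerivedCategory.homologyFunctor (ModuleCat.{u} A) 0).shiftIso n 0 n (add_zero n)).app K
  exact bijective_precomp_iff_of_iso (H.map m) (μX f) iP iK
    ((DerivedCategory.singleFunctorCompHomologyFunctorIso (ModuleCat.{u} A) 0).hom.naturality (μX f))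

/-- The cohomology of `M[0]` in degree `0` is `M`. -/
noncomputable def HDinDZero (M : Type u) [AddCommGroup M] [Module A M] :
    Dual.HD A (Dual.inD A M) 0 ≃ₗ[A] M :=
  ((DerivedCategory.singleFunctorCompHomologyFunctorIso (ModuleCat.{u} A) 0).app
    (ModuleCat.of A M)).toLinearEquiv

lemma subsingleton_HD_inD (M : Type u) [AddCommGroup M] [Module A M] (i : ℤ) (hi : i ≠ 0) :
    Subsingleton (Dual.HD A (Dual.inD A M) i) := by
  apply ModuleCat.subsingleton_of_isZero
  have h1 : IsZero (((HomologicalComplex.single (ModuleCat.{u} A) (ComplexShape.up ℤ) 0).obj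
      (ModuleCat.of A M)).homology i) :=
    HomologicalComplex.isZero_single_obj_homology _ _ _ _ hi
  exact h1.of_iso ((DerivedCategory.homologyFunctorFactors (ModuleCat.{u} A) i).app
    ((HomologicalComplex.single (ModuleCat.{u} A) (ComplexShape.up ℤ) 0).obj (ModuleCat.of A M)))

/-- **Module-level master theorem.** -/
theorem homVanish_inD_iff (M : Type u) [AddCommGroup M] [Module A M] :
    HomVanish f (Dual.inD A M) ↔ IsFComplete f M := by
  rw [homVanish_iff]
  constructor
  · intro h
    exact (h 0).of_linearEquiv (HDinDZero (A := A) M)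
  · intro h i
    by_cases hi : i = 0
    · subst hi
      exact h.of_linearEquiv (HDinDZero (A := A) M).symm
    · have := subsingleton_HD_inD (A := A) M i hi
      exact isFComplete_of_subsingleton (A := A)

variable (I : Ideal A)

theorem isDerivedComplete_iff (K : Dual.D A) :
    DRing.IsDerivedComplete I K ↔ ∀ f ∈ I, ∀ i : ℤ, IsFComplete f (Dual.HD A K i) := by
  rw [DerivedComplete.isDerivedComplete_iff]
  exact forall₂_congr fun f _ => homVanish_iff f K

theorem isDerivedComplete_inD_iff (M : Type u) [AddCommGroup M] [Module A M] :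
    DRing.IsDerivedComplete I (Dual.inD A M) ↔ ∀ f ∈ I, IsFComplete f M := by
  rw [DerivedComplete.isDerivedComplete_iff]
  exact forall₂_congr fun f _ => homVanish_inD_iff f M

end MT

section Homology

variable {A : Type u} [CommRing A] {f : A}

/-- The homology of a short complex of `f`-complete modules is `f`-complete. -/
lemma isFComplete_shortComplex_homology (S : ShortComplex (ModuleCat.{u} A))
    (h₁ : IsFComplete f S.X₁) (h₂ : IsFComplete f S.X₂) (h₃ : IsFComplete f S.X₃) :
    IsFComplete f S.homology := by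
  have hk : IsFComplete f (LinearMap.ker S.g.hom) := h₂.ker S.g.hom h₃
  have hq : IsFComplete f (LinearMap.ker S.g.hom ⧸ LinearMap.range S.moduleCatToCycles) :=
    h₁.coker S.moduleCatToCycles hk
  exact hq.of_linearEquiv S.moduleCatHomologyIso.toLinearEquiv.symm

/-- The cohomology of a complex of `f`-complete modules is `f`-complete. -/
lemma isFComplete_homology (E : CochainComplex (ModuleCat.{u} A) ℤ)
    (h : ∀ i, IsFComplete f (E.X i)) (i : ℤ) : IsFComplete f (E.homology i) :=
  isFComplete_shortComplex_homology (E.sc i) (h _) (h _) (h _)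

/-- The cohomology of `Q.obj E` for a complex of `f`-complete modules is `f`-complete. -/
lemma isFComplete_HD_Q (E : CochainComplex (ModuleCat.{u} A) ℤ)
    (h : ∀ i, IsFComplete f (E.X i)) (i : ℤ) :
    IsFComplete f (Dual.HD A (DerivedCategory.Q.obj E) i) :=
  (isFComplete_homology E h i).of_linearEquiv
    ((DerivedCategory.homologyFunctorFactors (ModuleCat.{u} A) i).app E).toLinearEquiv.symm

/-- A finite free module over an `f`-complete ring is `f`-complete. -/
lemma isFComplete_of_finite_free (hA : IsFComplete f A) (M : Type u) [AddCommGroup M] [Module A M]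
    [Module.Finite A M] [Module.Free A M] : IsFComplete f M := by
  have h : IsFComplete f (Fin (Module.finrank A M) → A) := IsFComplete.pi fun _ => hA
  rcases subsingleton_or_nontrivial A with hA' | hA'
  · have : Subsingleton M := Module.subsingleton A M
    exact isFComplete_of_subsingleton (A := A)
  · exact h.of_linearEquiv (Module.finBasis A M).equivFun.symm

end Homology

end Groth.Agent.Lib.Helper7.DerivedCompleteMT
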