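import Mathlib.RingTheory.Localization.Ideal
import Mathlib.RingTheory.Localization.AtPrime.Basic
import Mathlib.RingTheory.Localization.Away.Basic
import Mathlib.RingTheory.Noetherian.Basic
import Mathlib.RingTheory.Nilpotent.Lemmas

/-! Spreading out ideal containments from a localization at a prime to a basic open. -/

set_option autoImplicit false

namespace Groth.Agent.Lib.Helper7

variable {A : Type*} [CommRing A]

/-- If `N` is finitely generated and `N A_p ≤ I A_p`, there is `f ∉ p` with `f N ≤ I`. -/
theorem exists_notMem_mul_mem (p : Ideal A) [p.IsPrime] (N I : Ideal A) (hN : N.FG)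
    (Ap : Type*) [CommRing Ap] [Algebra A Ap] [IsLocalization.AtPrime Ap p]
    (h : N.map (algebraMap A Ap) ≤ I.map (algebraMap A Ap)) :
    ∃ f, f ∉ p ∧ ∀ a ∈ N, f * a ∈ I := by
  classical
  obtain ⟨T, rfl⟩ := hN
  have h1 : ∀ t : A, ∃ s : A, s ∉ p ∧ (t ∈ T → s * t ∈ I) := by
    intro t
    by_cases ht : t ∈ T
    · have : algebraMap A Ap t ∈ I.map (algebraMap A Ap) :=
        h (Ideal.mem_map_of_mem _ (Ideal.subset_span ht))
      rw [IsLocalization.algebraMap_mem_map_algebraMap_iff p.primeCompl] at this
      obtain ⟨m, hm, hmI⟩ := this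
      exact ⟨m, hm, fun _ => hmI⟩
    · exact ⟨1, fun h1 => ‹p.IsPrime›.ne_top (p.eq_top_iff_one.mpr h1), fun h => (ht h).elim⟩
  choose s hs hsI using h1
  refine ⟨∏ t ∈ T, s t, ?_, ?_⟩
  · intro hmem
    obtain ⟨t, -, ht⟩ := (Ideal.IsPrime.prod_mem_iff).mp hmem
    exact hs t ht
  · intro a ha
    refine Submodule.span_induction (p := fun a _ => (∏ t ∈ T, s t) * a ∈ I) ?_ ?_ ?_ ?_ ha
    · intro t ht
      rw [← Finset.mul_prod_erase T s ht, mul_assoc, mul_comm _ t, ← mul_assoc]
      exact I.mul_mem_right _ (hsI t ht)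
    · simp
    · intro x y _ _ hx hy
      rw [mul_add]; exact I.add_mem hx hy
    · intro r x _ hx
      rw [smul_eq_mul, mul_left_comm]; exact I.mul_mem_left _ hx

/-- Consequence in a localization away from `f`. -/
theorem map_le_map_of_mul_mem (N I : Ideal A) (f : A) (hf : ∀ a ∈ N, f * a ∈ I)
    (Af : Type*) [CommRing Af] [Algebra A Af] [IsLocalization.Away f Af] :
    N.map (algebraMap A Af) ≤ I.map (algebraMap A Af) := by
  rw [Ideal.map_le_iff_le_comap]
  intro a ha
  rw [Ideal.mem_comap, IsLocalization.algebraMap_mem_map_algebraMap_iff (Submonoid.powers f)]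
  exact ⟨f, Submonoid.mem_powers f, hf a ha⟩

/-- The nilradical commutes with localization. -/
theorem map_nilradical_of_isLocalization (M : Submonoid A) (S : Type*) [CommRing S] [Algebra A S]
    [IsLocalization M S] : (nilradical A).map (algebraMap A S) = nilradical S := by
  have := IsLocalization.map_radical M S (⊥ : Ideal A)
  rw [Ideal.map_bot] at this
  exact this

/-- Reducedness spreads out from a localization at a prime of a Noetherian ring. -/
theorem exists_notMem_isReduced_away [IsNoetherianRing A] (p : Ideal A) [p.IsPrime]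
    (Ap : Type*) [CommRing Ap] [Algebra A Ap] [IsLocalization.AtPrime Ap p] [IsReduced Ap] :
    ∃ f, f ∉ p ∧ ∀ (Af : Type _) [CommRing Af] [Algebra A Af] [IsLocalization.Away f Af],
      IsReduced Af := by
  have hN : (nilradical A).FG := IsNoetherian.noetherian _
  have h : (nilradical A).map (algebraMap A Ap) ≤ (⊥ : Ideal A).map (algebraMap A Ap) := by
    rw [map_nilradical_of_isLocalization p.primeCompl Ap, Ideal.map_bot]
    exact (nilradical_eq_zero Ap).le
  obtain ⟨f, hfp, hf⟩ := exists_notMem_mul_mem p _ _ hN Ap h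
  refine ⟨f, hfp, fun Af _ _ _ => ?_⟩
  have h2 := map_le_map_of_mul_mem _ _ f hf Af
  rw [map_nilradical_of_isLocalization (Submonoid.powers f) Af, Ideal.map_bot, le_bot_iff] at h2
  exact nilradical_eq_bot_iff.mp h2

/-- Primality of the nilradical spreads out from a localization at a prime of a Noetherian ring. -/
theorem exists_notMem_nilradical_isPrime_away [IsNoetherianRing A] (p : Ideal A) [p.IsPrime]
    (Ap : Type*) [CommRing Ap] [Algebra A Ap] [IsLocalization.AtPrime Ap p]
    (hp : (nilradical Ap).IsPrime) :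
    ∃ f, f ∉ p ∧ ∀ (Af : Type _) [CommRing Af] [Algebra A Af] [IsLocalization.Away f Af],
      (nilradical Af).IsPrime := by
  set q : Ideal A := (nilradical Ap).comap (algebraMap A Ap) with hq
  have hqprime : q.IsPrime := Ideal.comap_isPrime _ _
  have hqp : q ≤ p := by
    intro a ha
    by_contra hap
    have hu : IsUnit (algebraMap A Ap a) :=
      IsLocalization.map_units Ap (⟨a, hap⟩ : p.primeCompl)
    exact hp.ne_top (Ideal.eq_top_of_isUnit_mem _ ha hu)
  have hN : q.FG := IsNoetherian.noetherian _
  have h : q.map (algebraMap A Ap) ≤ (nilradical A).map (algebraMap A Ap) := by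
    rw [map_nilradical_of_isLocalization p.primeCompl Ap, hq]
    exact Ideal.map_comap_le
  obtain ⟨f, hfp, hf⟩ := exists_notMem_mul_mem p _ _ hN Ap h
  refine ⟨f, hfp, fun Af _ _ _ => ?_⟩
  have h2 := map_le_map_of_mul_mem _ _ f hf Af
  rw [map_nilradical_of_isLocalization (Submonoid.powers f) Af] at h2
  have hdisj : Disjoint ((Submonoid.powers f : Submonoid A) : Set A) (q : Set A) := by
    rw [Set.disjoint_left]
    rintro _ ⟨n, rfl⟩ hmem
    exact hfp (hqp (hqprime.mem_of_pow_mem n hmem))
  have hprime := IsLocalization.isPrime_of_isPrime_disjoint (Submonoid.powers f) Af q hqprime hdisj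
  have : nilradical Af = q.map (algebraMap A Af) :=
    le_antisymm (nilradical_le_prime _) h2
  rw [this]
  exact hprime

end Groth.Agent.Lib.Helper7
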