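import Mathlib.AlgebraicGeometry.Noetherian
import Groth.Agent.Lib.Helper7.SpreadOut

/-! Neighbourhoods of a point in a locally Noetherian scheme inheriting properties of the stalk. -/

set_option autoImplicit false
universe u
open AlgebraicGeometry CategoryTheory

namespace Groth.Agent.Lib.Helper7

theorem mem_basicOpen_iff_notMem_primeIdealOf (X : Scheme.{u}) {U : X.Opens} (hU : IsAffineOpen U)
    (x : X) (hxU : x ∈ U) (f : Γ(X, U)) :
    x ∈ X.basicOpen f ↔ f ∉ (hU.primeIdealOf ⟨x, hxU⟩).asIdeal := by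
  let : Algebra Γ(X, U) (X.presheaf.stalk x) :=
    TopCat.Presheaf.algebra_section_stalk X.presheaf ⟨x, hxU⟩
  have := hU.isLocalization_stalk ⟨x, hxU⟩
  rw [Scheme.mem_basicOpen _ _ _ hxU]
  exact IsLocalization.AtPrime.isUnit_to_map_iff (X.presheaf.stalk x)
    (hU.primeIdealOf ⟨x, hxU⟩).asIdeal f

theorem isReduced_opens_of_isAffineOpen (X : Scheme.{u}) {U : X.Opens} (hU : IsAffineOpen U)
    [IsReduced Γ(X, U)] : IsReduced (U : Scheme.{u}) := by
  have : IsAffine U := hU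
  have : IsReduced Γ(U, ⊤) := by
    apply isReduced_of_injective U.topIso.hom.hom
    exact (ConcreteCategory.bijective_of_isIso U.topIso.hom).injective
  exact isReduced_of_isAffine_isReduced _

theorem isIrreducible_opens_of_isAffineOpen (X : Scheme.{u}) {U : X.Opens} (hU : IsAffineOpen U)
    (h : (nilradical Γ(X, U)).IsPrime) : IsIrreducible (U : Set X) := by
  have h1 : IrreducibleSpace (PrimeSpectrum Γ(X, U)) :=
    PrimeSpectrum.irreducibleSpace_iff_isPrime_nilradical.mpr h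
  have h2 : IrreducibleSpace (U : Scheme.{u}) :=
    (Scheme.homeoOfIso hU.isoSpec).irreducibleSpace_iff.mpr h1
  exact (isIrreducible_iff_irreducibleSpace (s := (U : Set X))).mpr h2

theorem exists_reduced_nhd
    (X : Scheme.{u}) [IsLocallyNoetherian X] (x : X) [IsReduced (X.presheaf.stalk x)] :
    ∃ U : X.Opens, x ∈ U ∧ IsReduced (U : Scheme.{u}) := by
  obtain ⟨U, hU, hxU, -⟩ := exists_isAffineOpen_mem_and_subset (x := x) (U := ⊤) trivial
  have : IsNoetherianRing Γ(X, U) := IsLocallyNoetherian.component_noetherian ⟨U, hU⟩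
  let : Algebra Γ(X, U) (X.presheaf.stalk x) :=
    TopCat.Presheaf.algebra_section_stalk X.presheaf ⟨x, hxU⟩
  have := hU.isLocalization_stalk ⟨x, hxU⟩
  obtain ⟨f, hfp, hf⟩ := exists_notMem_isReduced_away (hU.primeIdealOf ⟨x, hxU⟩).asIdeal
    (X.presheaf.stalk x)
  refine ⟨X.basicOpen f, (mem_basicOpen_iff_notMem_primeIdealOf X hU x hxU f).mpr hfp, ?_⟩
  have := hU.isLocalization_basicOpen f
  have : IsReduced Γ(X, X.basicOpen f) := hf _
  exact isReduced_opens_of_isAffineOpen X (hU.basicOpen f)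

theorem exists_irreducible_nhd
    (X : Scheme.{u}) [IsLocallyNoetherian X] (x : X)
    (hx : (nilradical (X.presheaf.stalk x)).IsPrime) :
    ∃ U : X.Opens, x ∈ U ∧ IsIrreducible (U : Set X) := by
  obtain ⟨U, hU, hxU, -⟩ := exists_isAffineOpen_mem_and_subset (x := x) (U := ⊤) trivial
  have : IsNoetherianRing Γ(X, U) := IsLocallyNoetherian.component_noetherian ⟨U, hU⟩
  let : Algebra Γ(X, U) (X.presheaf.stalk x) :=
    TopCat.Presheaf.algebra_section_stalk X.presheaf ⟨x, hxU⟩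
  have := hU.isLocalization_stalk ⟨x, hxU⟩
  obtain ⟨f, hfp, hf⟩ := exists_notMem_nilradical_isPrime_away
    (hU.primeIdealOf ⟨x, hxU⟩).asIdeal (X.presheaf.stalk x) hx
  refine ⟨X.basicOpen f, (mem_basicOpen_iff_notMem_primeIdealOf X hU x hxU f).mpr hfp, ?_⟩
  have := hU.isLocalization_basicOpen f
  exact isIrreducible_opens_of_isAffineOpen X (hU.basicOpen f) (hf _)

theorem exists_integral_nhd
    (X : Scheme.{u}) [IsLocallyNoetherian X] (x : X) [IsDomain (X.presheaf.stalk x)] :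
    ∃ U : X.Opens, x ∈ U ∧ IsIntegral (U : Scheme.{u}) := by
  have hx : (nilradical (X.presheaf.stalk x)).IsPrime := by
    rw [nilradical_eq_zero]; exact Ideal.isPrime_bot
  obtain ⟨U₁, hxU₁, hU₁⟩ := exists_irreducible_nhd X x hx
  obtain ⟨U₂, hxU₂, hU₂⟩ := exists_reduced_nhd X x
  refine ⟨U₁ ⊓ U₂, ⟨hxU₁, hxU₂⟩, ?_⟩
  have hred : IsReduced ((U₁ ⊓ U₂ : X.Opens) : Scheme.{u}) :=
    isReduced_of_isOpenImmersion (X.homOfLE (inf_le_right : U₁ ⊓ U₂ ≤ U₂))
  have hirr : IsIrreducible ((U₁ ⊓ U₂ : X.Opens) : Set X) := by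
    refine ⟨⟨x, hxU₁, hxU₂⟩, ?_⟩
    have := hU₁.isPreirreducible.open_subset (U₁ ⊓ U₂).2 (Set.inter_subset_left)
    exact this
  have : IrreducibleSpace ((U₁ ⊓ U₂ : X.Opens) : Scheme.{u}) :=
    (isIrreducible_iff_irreducibleSpace (s := ((U₁ ⊓ U₂ : X.Opens) : Set X))).mp hirr
  exact isIntegral_of_irreducibleSpace_of_isReduced _

end Groth.Agent.Lib.Helper7
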