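import Mathlib.RingTheory.SurjectiveOnStalks
import Mathlib.RingTheory.FiniteType
import Mathlib.RingTheory.Localization.Away.Basic

/-!
# Spreading out surjectivity of a local homomorphism for finite type algebras
-/

set_option autoImplicit false
universe u

namespace Groth.Agent.Lib.Helper7

section
variable {A C : Type*} [CommRing A] [CommRing C] [Algebra A C]

/-- elements of the form `y / a ^ n` -/
def fracSub (a : A) : Subalgebra A C where
  carrier := {z | ∃ (y : A) (n : ℕ), z * (algebraMap A C a) ^ n = algebraMap A C y}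
  mul_mem' := by
    rintro z₁ z₂ ⟨y₁, n₁, h₁⟩ ⟨y₂, n₂, h₂⟩
    refine ⟨y₁ * y₂, n₁ + n₂, ?_⟩
    rw [map_mul, ← h₁, ← h₂, pow_add]; ring
  add_mem' := by
    rintro z₁ z₂ ⟨y₁, n₁, h₁⟩ ⟨y₂, n₂, h₂⟩
    refine ⟨y₁ * a ^ n₂ + y₂ * a ^ n₁, n₁ + n₂, ?_⟩
    rw [map_add, map_mul, map_mul, ← h₁, ← h₂, pow_add, map_pow, map_pow]; ring
  algebraMap_mem' y := ⟨y, 0, by simp⟩

theorem mem_fracSub {a : A} {z : C} :
    z ∈ (fracSub a : Subalgebra A C) ↔
      ∃ (y : A) (n : ℕ), z * (algebraMap A C a) ^ n = algebraMap A C y := Iff.rfl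

theorem fracSub_le_mul (a b : A) : (fracSub a : Subalgebra A C) ≤ fracSub (a * b) := by
  rintro z ⟨y, n, h⟩
  refine ⟨y * b ^ n, n, ?_⟩
  rw [map_mul, mul_pow, ← mul_assoc, h, map_mul, map_pow]

end

section
variable {A B : Type u} [CommRing A] [CommRing B] [Algebra A B]

theorem exists_common_denominators (P : Ideal B) [P.IsPrime]
    (h : ∀ s : B, ∃ x r : A, ∃ c ∉ P, algebraMap A B r ∉ P ∧
      c * algebraMap A B r * s = c * algebraMap A B x) (S : Finset B) :
    ∃ (r : A) (c : B), c ∉ P ∧ algebraMap A B r ∉ P ∧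
      ∀ b ∈ S, ∃ x : A, c * algebraMap A B r * b = c * algebraMap A B x := by
  classical
  induction S using Finset.induction_on with
  | empty => exact ⟨1, 1, by simpa using P.ne_top_iff_one.mp ‹P.IsPrime›.ne_top,
      by simpa using P.ne_top_iff_one.mp ‹P.IsPrime›.ne_top, by simp⟩
  | insert b₀ S _ ih =>
    obtain ⟨r, c, hc, hr, hS⟩ := ih
    obtain ⟨x₀, r₀, c₀, hc₀, hr₀, h₀⟩ := h b₀
    refine ⟨r * r₀, c * c₀, ?_, ?_, ?_⟩
    · exact fun H => (‹P.IsPrime›.mem_or_mem H).elim hc hc₀
    · rw [map_mul]; exact fun H => (‹P.IsPrime›.mem_or_mem H).elim hr hr₀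
    · intro b hb
      rcases Finset.mem_insert.mp hb with rfl | hb
      · refine ⟨r * x₀, ?_⟩
        rw [map_mul, map_mul]
        calc c * c₀ * (algebraMap A B r * algebraMap A B r₀) * b
            = c * algebraMap A B r * (c₀ * algebraMap A B r₀ * b) := by ring
          _ = c * algebraMap A B r * (c₀ * algebraMap A B x₀) := by rw [h₀]
          _ = _ := by ring
      · obtain ⟨x, hx⟩ := hS b hb
        refine ⟨x * r₀, ?_⟩
        rw [map_mul, map_mul]
        calc c * c₀ * (algebraMap A B r * algebraMap A B r₀) * b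
            = c₀ * algebraMap A B r₀ * (c * algebraMap A B r * b) := by ring
          _ = c₀ * algebraMap A B r₀ * (c * algebraMap A B x) := by rw [hx]
          _ = _ := by ring

end


section
variable {A B : Type u} [CommRing A] [CommRing B] [Algebra A B]

/-- Lemma G -/
theorem algebraMap_mem_fracSub_of_generators {C : Type*} [CommRing C] [Algebra A C] [Algebra B C]
    [IsScalarTower A B C] {S : Finset B} (hS : Algebra.adjoin A (S : Set B) = ⊤) {r : A} {c : B}
    (hc : IsUnit (algebraMap B C c))
    (h : ∀ b ∈ S, ∃ x : A, c * algebraMap A B r * b = c * algebraMap A B x) (b : B) :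
    algebraMap B C b ∈ (fracSub r : Subalgebra A C) := by
  have : (⊤ : Subalgebra A B) ≤ (fracSub r : Subalgebra A C).comap (IsScalarTower.toAlgHom A B C) := by
    rw [← hS, Algebra.adjoin_le_iff]
    intro b hb
    obtain ⟨x, hx⟩ := h b hb
    refine ⟨x, 1, ?_⟩
    show algebraMap B C b * algebraMap A C r ^ 1 = algebraMap A C x
    apply hc.mul_left_cancel
    rw [pow_one, IsScalarTower.algebraMap_apply A B C, IsScalarTower.algebraMap_apply A B C,
      ← map_mul, ← map_mul, ← map_mul, ← hx]
    ring_nf
  exact this (Algebra.mem_top (x := b))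

theorem exists_away_surjective [Algebra.FiniteType A B] (P : Ideal B) [P.IsPrime]
    (h : ∀ s : B, ∃ x r : A, ∃ c ∉ P, algebraMap A B r ∉ P ∧
      c * algebraMap A B r * s = c * algebraMap A B x) :
    ∃ (a : A) (t : B), t ∉ P ∧ ∀ (B' : Type u) [CommRing B'] [Algebra B B']
      [IsLocalization.Away t B'],
      IsUnit (algebraMap B B' (algebraMap A B a)) ∧
      ∀ (A' : Type u) [CommRing A'] [Algebra A A'] [IsLocalization.Away a A'] (g : A' →+* B'),
        g.comp (algebraMap A A') = (algebraMap B B').comp (algebraMap A B) →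
          Function.Surjective g := by
  obtain ⟨S, hS⟩ := (Algebra.FiniteType.out : (⊤ : Subalgebra A B).FG)
  obtain ⟨r, c, hc, hr, hSr⟩ := exists_common_denominators P h S
  have ht₁ : c * algebraMap A B r ∉ P := fun H => (‹P.IsPrime›.mem_or_mem H).elim hc hr
  -- choose α
  obtain ⟨α, k, j, hα⟩ : ∃ (α : A) (k j : ℕ), (c * algebraMap A B r) ^ j * (c * algebraMap A B r ^ k) =
      (c * algebraMap A B r) ^ j * algebraMap A B α := by
    have hu : IsUnit (algebraMap B (Localization.Away (c * algebraMap A B r)) c) := by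
      have := IsLocalization.Away.algebraMap_isUnit (S := Localization.Away (c * algebraMap A B r))
        (c * algebraMap A B r)
      rw [map_mul] at this
      exact isUnit_of_mul_isUnit_left this
    obtain ⟨α, k, hk⟩ := algebraMap_mem_fracSub_of_generators
      (C := Localization.Away (c * algebraMap A B r)) hS hu hSr c
    rw [IsScalarTower.algebraMap_apply A B (Localization.Away (c * algebraMap A B r)),
      IsScalarTower.algebraMap_apply A B (Localization.Away (c * algebraMap A B r)),
      ← map_pow, ← map_mul,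
      IsLocalization.eq_iff_exists (Submonoid.powers (c * algebraMap A B r))] at hk
    obtain ⟨⟨_, j, rfl⟩, hj⟩ := hk
    exact ⟨α, k, j, hj⟩
  refine ⟨r * α, c * algebraMap A B r, ht₁, ?_⟩
  intro B' _ _ _
  let _ : Algebra A B' := ((algebraMap B B').comp (algebraMap A B)).toAlgebra
  have : IsScalarTower A B B' := .of_algebraMap_eq fun _ => rfl
  have hut : IsUnit (algebraMap B B' (c * algebraMap A B r)) :=
    IsLocalization.Away.algebraMap_isUnit _
  have huc : IsUnit (algebraMap B B' c) := by
    rw [map_mul] at hut; exact isUnit_of_mul_isUnit_left hut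
  have hur : IsUnit (algebraMap B B' (algebraMap A B r)) := by
    rw [map_mul] at hut; exact isUnit_of_mul_isUnit_right hut
  have hα' : algebraMap B B' c * algebraMap B B' (algebraMap A B r) ^ k =
      algebraMap B B' (algebraMap A B α) := by
    have := congr_arg (algebraMap B B') hα
    rw [map_mul, map_mul (algebraMap B B') _ (algebraMap A B α), map_pow] at this
    have h2 := (hut.pow j).mul_left_cancel this
    rw [← h2, map_mul, map_pow]
  have huα : IsUnit (algebraMap B B' (algebraMap A B α)) := by
    rw [← hα']; exact huc.mul (hur.pow k)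
  have hua : IsUnit (algebraMap B B' (algebraMap A B (r * α))) := by
    rw [map_mul, map_mul]; exact hur.mul huα
  refine ⟨hua, ?_⟩
  -- every element of B' is in fracSub (r * α)
  have hall : ∀ z : B', z ∈ (fracSub (r * α) : Subalgebra A B') := by
    intro z
    obtain ⟨⟨b, ⟨_, m, rfl⟩⟩, hz⟩ := IsLocalization.surj (Submonoid.powers (c * algebraMap A B r)) z
    simp only [map_pow] at hz
    have hb : algebraMap B B' b ∈ (fracSub (r * α) : Subalgebra A B') :=
      fracSub_le_mul r α (algebraMap_mem_fracSub_of_generators hS huc hSr b)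
    obtain ⟨v, hv⟩ := hut.exists_right_inv
    have hvmem : v ∈ (fracSub (r * α) : Subalgebra A B') := by
      refine ⟨r ^ k, 1, ?_⟩
      rw [pow_one, IsScalarTower.algebraMap_apply A B B', IsScalarTower.algebraMap_apply A B B',
        map_mul, map_mul, ← hα', map_pow, map_pow]
      calc v * ((algebraMap B B') ((algebraMap A B) r) * ((algebraMap B B') c *
            (algebraMap B B') ((algebraMap A B) r) ^ k))
          = ((algebraMap B B') (c * (algebraMap A B) r) * v) *
            (algebraMap B B') ((algebraMap A B) r) ^ k := by rw [map_mul]; ring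
        _ = _ := by rw [hv, one_mul]
    have : z = algebraMap B B' b * v ^ m := by
      rw [← hz, mul_assoc, ← mul_pow, hv, one_pow, mul_one]
    rw [this]
    exact mul_mem hb (pow_mem hvmem m)
  intro A' _ _ _ g hg z
  obtain ⟨y, n, hyn⟩ := hall z
  refine ⟨IsLocalization.mk' A' y (⟨(r * α) ^ n, n, rfl⟩ : Submonoid.powers (r * α)), ?_⟩
  have hga : ∀ a' : A, g (algebraMap A A' a') = algebraMap A B' a' := fun a' => by
    rw [← RingHom.comp_apply, hg]; rfl
  have hun : IsUnit (algebraMap A B' (r * α) ^ n) := by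
    rw [IsScalarTower.algebraMap_apply A B B']; exact hua.pow n
  apply hun.mul_left_injective
  simp only
  rw [hyn, ← map_pow, ← hga, ← hga, ← map_mul, IsLocalization.mk'_spec]

end

end Groth.Agent.Lib.Helper7
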