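import Mathlib.AlgebraicGeometry.Morphisms.FiniteType
import Mathlib.AlgebraicGeometry.Morphisms.ClosedImmersion
import Mathlib.RingTheory.RingHom.Surjective
import Mathlib.RingTheory.SurjectiveOnStalks
import Groth.Agent.Lib.Helper7.LocalNhd
import Groth.Agent.Lib.Helper7.AwaySurjective

/-!
# A morphism locally of finite type with surjective stalk map at `x` is a closed immersion
locally around `x`.
-/

set_option autoImplicit false
universe u
open AlgebraicGeometry CategoryTheory

namespace Groth.Agent.Lib.Helper7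

theorem surjective_iff_of_arrow_iso {R S R' S' : CommRingCat.{u}} {g : R ⟶ S} {h : R' ⟶ S'}
    (e : Arrow.mk g ≅ Arrow.mk h) : Function.Surjective g ↔ Function.Surjective h := by
  have := RingHom.toMorphismProperty_respectsIso_iff.mp RingHom.surjective_respectsIso
  exact (RingHom.toMorphismProperty (fun f => Function.Surjective f)).arrow_mk_iso_iff e

variable {X Y : Scheme.{u}} (f : X ⟶ Y)

theorem exists_affine_nhds (x : X) :
    ∃ (V : Y.Opens) (U : X.Opens), IsAffineOpen V ∧ IsAffineOpen U ∧ x ∈ U ∧ U ≤ f ⁻¹ᵁ V := by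
  obtain ⟨_, ⟨V, hV, rfl⟩, hxV, -⟩ :=
    Y.isBasis_affineOpens.exists_subset_of_mem_open (Set.mem_univ (f x)) isOpen_univ
  obtain ⟨_, ⟨U, hU, rfl⟩, hxU, hle⟩ := X.isBasis_affineOpens.exists_subset_of_mem_open
    (show x ∈ ((f ⁻¹ᵁ V : X.Opens) : Set X) from hxV) (f ⁻¹ᵁ V).2
  exact ⟨V, U, hV, hU, hxU, hle⟩

theorem exists_appLE_surjective_of_stalkMap_surjective [LocallyOfFiniteType f] (x : X)
    (hs : Function.Surjective (f.stalkMap x)) :
    ∃ (U : X.Opens) (V : Y.Opens) (h : U ≤ f ⁻¹ᵁ V), x ∈ U ∧ IsAffineOpen U ∧ IsAffineOpen V ∧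
      Function.Surjective (f.appLE V U h) := by
  obtain ⟨V, U', hV, hU', hxU', hU'V⟩ := exists_affine_nhds f x
  have hft : (f.appLE V U' hU'V).hom.FiniteType := f.finiteType_appLE hV hU' hU'V
  have hs' := (surjective_iff_of_arrow_iso
    (IsAffineOpen.arrowStalkMapIso f V hV U' hU' hU'V hxU')).mp hs
  have key : ∀ (I : Ideal Γ(Y, V)) [I.IsPrime]
      (hI : I = (hU'.primeIdealOf ⟨x, hxU'⟩).asIdeal.comap (f.appLE V U' hU'V).hom),
      Function.Surjective (Localization.localRingHom I (hU'.primeIdealOf ⟨x, hxU'⟩).asIdeal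
        (f.appLE V U' hU'V).hom hI) →
      ∀ s : Γ(X, U'), ∃ (x' r : Γ(Y, V)), ∃ c ∉ (hU'.primeIdealOf ⟨x, hxU'⟩).asIdeal,
        (f.appLE V U' hU'V).hom r ∉ (hU'.primeIdealOf ⟨x, hxU'⟩).asIdeal ∧
        c * (f.appLE V U' hU'V).hom r * s = c * (f.appLE V U' hU'V).hom x' := by
    intro I _ hI
    subst hI
    exact (RingHom.surjective_localRingHom_iff _).mp
  have hcond := key _ (congr($(IsAffineOpen.comap_primeIdealOf_appLE V hV U' hU' hU'V hxU').1).symm) hs'
  algebraize [(f.appLE V U' hU'V).hom]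
  obtain ⟨a, t, ht, H⟩ := exists_away_surjective (A := Γ(Y, V)) (B := Γ(X, U'))
    (hU'.primeIdealOf ⟨x, hxU'⟩).asIdeal hcond
  have := hU'.isLocalization_basicOpen t
  have := hV.isLocalization_basicOpen a
  obtain ⟨hunit, Hs⟩ := H Γ(X, X.basicOpen t)
  have hle : X.basicOpen t ≤ f ⁻¹ᵁ (Y.basicOpen a) := by
    have h1 := X.basicOpen_of_isUnit hunit
    change X.basicOpen (X.presheaf.map (homOfLE (X.basicOpen_le t)).op
      (f.appLE V U' hU'V a)) = _ at h1
    rw [Scheme.basicOpen_res, Scheme.basicOpen_appLE] at h1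
    rw [← h1]
    exact inf_le_right.trans inf_le_right
  refine ⟨X.basicOpen t, Y.basicOpen a, hle,
    (mem_basicOpen_iff_notMem_primeIdealOf X hU' x hxU' t).mpr ht, hU'.basicOpen t,
    hV.basicOpen a, ?_⟩
  apply Hs Γ(Y, Y.basicOpen a) (f.appLE (Y.basicOpen a) (X.basicOpen t) hle).hom
  change (f.appLE (Y.basicOpen a) (X.basicOpen t) hle).hom.comp
    (Y.presheaf.map (homOfLE (Y.basicOpen_le a)).op).hom =
    (X.presheaf.map (homOfLE (X.basicOpen_le t)).op).hom.comp (f.appLE V U' hU'V).hom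
  rw [← CommRingCat.hom_comp, ← CommRingCat.hom_comp, Scheme.Hom.map_appLE, Scheme.Hom.appLE_map]

/-- Surjectivity of the stalk map of `f.resLE` is the same as for `f`. -/
theorem stalkMap_resLE_surjective_iff {U : X.Opens} {V : Y.Opens} (h : U ≤ f ⁻¹ᵁ V) (x : U) :
    Function.Surjective ((f.resLE V U h).stalkMap x) ↔ Function.Surjective (f.stalkMap x) :=
  surjective_iff_of_arrow_iso (Scheme.Hom.resLEStalkMap f h x)

theorem isClosedImmersion_resLE_of_appLE_surjective {U : X.Opens} {V : Y.Opens}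
    (h : U ≤ f ⁻¹ᵁ V) (hU : IsAffineOpen U) (hV : IsAffineOpen V)
    (hs : Function.Surjective (f.appLE V U h)) : IsClosedImmersion (f.resLE V U h) := by
  have : IsAffine U.toScheme := hU
  have : IsAffine V.toScheme := hV
  apply IsClosedImmersion.of_surjective_of_isAffine
  change Function.Surjective ((f.resLE V U h).app ⊤)
  rw [Scheme.Hom.resLE_app_top]
  exact ((ConcreteCategory.bijective_of_isIso U.topIso.inv).surjective.comp hs).comp
    (ConcreteCategory.bijective_of_isIso V.topIso.hom).surjective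

end Groth.Agent.Lib.Helper7
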