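import Mathlib.AlgebraicGeometry.Morphisms.FiniteType
import Mathlib.AlgebraicGeometry.Morphisms.ClosedImmersion
import Mathlib.AlgebraicGeometry.Morphisms.IsIso
import Mathlib.AlgebraicGeometry.Noetherian
import Groth.Agent.Lib.Helper7.StalkSurjective

/-!
# A morphism locally of finite type to a locally Noetherian scheme with bijective stalk map at `x`
is an isomorphism locally around `x`.
-/

set_option autoImplicit false
universe u
open AlgebraicGeometry CategoryTheory

namespace Groth.Agent.Lib.Helper7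

section Alg
variable {A B : Type*} [CommRing A] [CommRing B]

theorem exists_notMem_forall_mul_eq_zero (φ : A →+* B) (hK : (RingHom.ker φ).FG) (q : Ideal A)
    [q.IsPrime] (h : ∀ k ∈ RingHom.ker φ, ∃ s ∉ q, s * k = 0) :
    ∃ a ∉ q, ∀ k ∈ RingHom.ker φ, a * k = 0 := by
  classical
  obtain ⟨S, hS⟩ := hK
  choose! s hsq hs using h
  refine ⟨∏ k ∈ S, s k, ?_, ?_⟩
  · intro H
    obtain ⟨k, hk, hkq⟩ := (Ideal.IsPrime.prod_mem_iff).mp H
    exact hsq k (hS ▸ Ideal.subset_span hk) hkq
  · intro k hk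
    rw [← hS] at hk
    refine Submodule.span_induction ?_ ?_ ?_ ?_ hk
    · intro k hk
      rw [← Finset.mul_prod_erase S s hk, mul_comm (s k), mul_assoc,
        hs k (hS ▸ Ideal.subset_span hk), mul_zero]
    · simp
    · intro x y _ _ hx hy; rw [mul_add, hx, hy, add_zero]
    · intro c x _ hx; rw [smul_eq_mul, mul_left_comm, hx, mul_zero]

theorem away_map_bijective (φ : A →+* B) (hφ : Function.Surjective φ) (a : A)
    (ha : ∀ k ∈ RingHom.ker φ, a * k = 0)
    (A' B' : Type*) [CommRing A'] [CommRing B'] [Algebra A A'] [Algebra B B']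
    [IsLocalization.Away a A'] [IsLocalization.Away (φ a) B'] :
    Function.Bijective (IsLocalization.Away.map A' B' φ a) := by
  constructor
  · rw [injective_iff_map_eq_zero]
    intro z hz
    obtain ⟨y, ⟨_, n, rfl⟩, rfl⟩ := IsLocalization.exists_mk'_eq (Submonoid.powers a) z
    rw [IsLocalization.Away.map, IsLocalization.map_mk', IsLocalization.mk'_eq_zero_iff] at hz
    obtain ⟨⟨_, m, rfl⟩, hm⟩ := hz
    rw [IsLocalization.mk'_eq_zero_iff]
    refine ⟨⟨a ^ (m + 1), m + 1, rfl⟩, ?_⟩
    have : a ^ m * y ∈ RingHom.ker φ := by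
      rw [RingHom.mem_ker, map_mul, map_pow]; exact hm
    simp only
    rw [pow_succ', mul_assoc]
    exact ha _ this
  · have : IsLocalization ((Submonoid.powers a).map φ) B' := by
      rw [Submonoid.map_powers]; infer_instance
    exact IsLocalization.map_surjective_of_surjective (Submonoid.powers a) A' B' hφ

end Alg

section Scheme
variable {X Y : Scheme.{u}} (f : X ⟶ Y)

theorem exists_isIso_resLE_of_stalkMap_bijective [IsLocallyNoetherian Y] [LocallyOfFiniteType f]
    (x : X) (hs : Function.Bijective (f.stalkMap x)) :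
    ∃ (U : X.Opens) (V : Y.Opens) (h : U ≤ f ⁻¹ᵁ V), x ∈ U ∧ IsIso (f.resLE V U h) := by
  obtain ⟨U, V, h, hx, hU, hV, hsurj⟩ :=
    exists_appLE_surjective_of_stalkMap_surjective f x hs.2
  have : IsNoetherianRing Γ(Y, V) := IsLocallyNoetherian.component_noetherian ⟨V, hV⟩
  have hker : ∀ k ∈ RingHom.ker (f.appLE V U h).hom,
      ∃ s ∉ (hV.primeIdealOf ⟨f x, h hx⟩).asIdeal, s * k = 0 := by
    intro k hk
    have h1 : f.stalkMap x (Y.presheaf.germ V (f x) (h hx) k) = 0 := by
      rw [Scheme.Hom.germ_stalkMap_apply]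
      have : X.presheaf.germ U x hx (f.appLE V U h k) =
          X.presheaf.germ (f ⁻¹ᵁ V) x (h hx) (f.app V k) := by
        rw [Scheme.Hom.appLE, CommRingCat.comp_apply, TopCat.Presheaf.germ_res_apply]
      rw [← this]
      have hk' : f.appLE V U h k = 0 := hk
      rw [hk', map_zero]
    have h2 : Y.presheaf.germ V (f x) (h hx) k = 0 := hs.1 (by rw [h1, map_zero])
    let _ : Algebra Γ(Y, V) (Y.presheaf.stalk (f x)) :=
      TopCat.Presheaf.algebra_section_stalk Y.presheaf ⟨f x, h hx⟩
    have := hV.isLocalization_stalk ⟨f x, h hx⟩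
    obtain ⟨⟨s, hs⟩, hsk⟩ := (IsLocalization.map_eq_zero_iff
      (hV.primeIdealOf ⟨f x, h hx⟩).asIdeal.primeCompl (Y.presheaf.stalk (f x)) k).mp h2
    exact ⟨s, hs, hsk⟩
  obtain ⟨a, haq, ha⟩ := exists_notMem_forall_mul_eq_zero (f.appLE V U h).hom
    (IsNoetherian.noetherian _) _ hker
  have := hV.isLocalization_basicOpen a
  have := hU.isLocalization_basicOpen (f.appLE V U h a)
  have hbij := away_map_bijective (f.appLE V U h).hom hsurj a ha Γ(Y, Y.basicOpen a)
    Γ(X, X.basicOpen (f.appLE V U h a))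
  have e := IsAffineOpen.appLE_eq_away_map f hV hU h a
  have hle : X.basicOpen (f.appLE V U h a) ≤ f ⁻¹ᵁ Y.basicOpen a := by
    rw [Scheme.basicOpen_appLE]; exact inf_le_right
  refine ⟨X.basicOpen (f.appLE V U h a), Y.basicOpen a, hle, ?_, ?_⟩
  · rw [Scheme.basicOpen_appLE]
    exact ⟨hx, (mem_basicOpen_iff_notMem_primeIdealOf Y hV (f x) (h hx) a).mpr haq⟩
  · have hiso : IsIso (f.appLE (Y.basicOpen a) (X.basicOpen (f.appLE V U h a)) hle) := by
      rw [ConcreteCategory.isIso_iff_bijective, e]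
      exact hbij
    have : IsAffine (Y.basicOpen a).toScheme := hV.basicOpen a
    have : IsAffine (X.basicOpen (f.appLE V U h a)).toScheme := hU.basicOpen _
    have := (HasAffineProperty.iff_of_isAffine (P := MorphismProperty.isomorphisms Scheme)
      (f := f.resLE (Y.basicOpen a) (X.basicOpen (f.appLE V U h a)) hle)).mpr
    apply this
    refine ⟨inferInstance, ?_⟩
    change IsIso ((f.resLE (Y.basicOpen a) (X.basicOpen (f.appLE V U h a)) hle).app ⊤)
    rw [Scheme.Hom.resLE_app_top]
    exact IsIso.comp_isIso' inferInstance (IsIso.comp_isIso' hiso inferInstance)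

end Scheme

end Groth.Agent.Lib.Helper7
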