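import Groth.Prelude.Def_FlatCA
import Mathlib.RingTheory.Ideal.MinimalPrime.Localization
import Mathlib.RingTheory.Ideal.AssociatedPrime.Basic
import Mathlib.RingTheory.Localization.Ideal
import Mathlib.RingTheory.Localization.AtPrime.Basic
import Mathlib.RingTheory.Flat.TorsionFree
import Mathlib.RingTheory.Finiteness.Ideal

/-!
# Weakly associated primes (helper7 toolbox)

`FlatCA.weakAss R M` = primes minimal over the annihilator of an element;
`FlatCA.ass R M` = primes equal to the annihilator of an element.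
-/

universe u v

namespace Groth.Agent.Lib.Helper7.WeakAss

open FlatCA

section Basic

variable {R : Type u} [CommRing R] {M : Type v} [AddCommGroup M] [Module R M]

lemma mem_ann {m : M} {r : R} : r ∈ (R ∙ m).annihilator ↔ r • m = 0 :=
  Submodule.mem_annihilator_span_singleton _ _

lemma ann_eq_top_iff {m : M} : (R ∙ m).annihilator = ⊤ ↔ m = 0 := by
  rw [Ideal.eq_top_iff_one, mem_ann, one_smul]

lemma mem_weakAss_iff {p : Ideal R} : p ∈ weakAss R M ↔ ∃ m : M, p ∈ ((R ∙ m).annihilator).minimalPrimes :=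
  Iff.rfl

lemma mem_ass_iff {p : Ideal R} : p ∈ ass R M ↔ p.IsPrime ∧ ∃ m : M, p = (R ∙ m).annihilator := Iff.rfl

lemma isPrime_of_mem_weakAss {p : Ideal R} (hp : p ∈ weakAss R M) : p.IsPrime := by
  obtain ⟨m, hm⟩ := hp
  exact hm.1.1

/-- If `p` is minimal over `I ≤ J ≤ p` then it is minimal over `J`. -/
lemma minimalPrimes_of_le {I J p : Ideal R} (hp : p ∈ I.minimalPrimes) (hIJ : I ≤ J) (hJp : J ≤ p) :
    p ∈ J.minimalPrimes :=
  ⟨⟨hp.1.1, hJp⟩, fun _ hq hqp => hp.2 ⟨hq.1, hIJ.trans hq.2⟩ hqp⟩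

/-- `Ann(s • m) = (Ann m : s)`. -/
lemma mem_ann_smul {m : M} {s r : R} : r ∈ (R ∙ (s • m)).annihilator ↔ r * s ∈ (R ∙ m).annihilator := by
  rw [mem_ann, mem_ann, mul_smul]

lemma ann_le_ann_smul (m : M) (s : R) : (R ∙ m).annihilator ≤ (R ∙ (s • m)).annihilator := by
  intro r hr
  rw [mem_ann_smul]
  exact Ideal.mul_mem_right _ _ hr

/-- Minimality over an annihilator is stable under multiplying the element by `s ∉ p`. -/
lemma minimalPrimes_ann_smul {m : M} {p : Ideal R} (hp : p ∈ ((R ∙ m).annihilator).minimalPrimes) {s : R}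
    (hs : s ∉ p) : p ∈ ((R ∙ (s • m)).annihilator).minimalPrimes := by
  have := hp.1.1
  refine minimalPrimes_of_le hp (ann_le_ann_smul m s) ?_
  intro r hr
  rw [mem_ann_smul] at hr
  exact (this.mem_or_mem (hp.1.2 hr)).resolve_right hs

lemma ne_zero_of_minimalPrimes_ann {m : M} {p : Ideal R} (hp : p ∈ ((R ∙ m).annihilator).minimalPrimes) :
    m ≠ 0 := by
  rintro rfl
  have h : (R ∙ (0 : M)).annihilator = ⊤ := ann_eq_top_iff.2 rfl
  exact hp.1.1.ne_top (top_le_iff.1 (h ▸ hp.1.2))

lemma exists_minimalPrimes_ann {m : M} (hm : m ≠ 0) : ∃ p, p ∈ ((R ∙ m).annihilator).minimalPrimes := by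
  have h : (R ∙ m).annihilator ≠ ⊤ := fun h => hm (ann_eq_top_iff.1 h)
  obtain ⟨⟨p, hp⟩⟩ := Ideal.nonempty_minimalPrimes h
  exact ⟨p, hp⟩

/-- `weakAss = ∅ ↔ M = 0`. -/
lemma weakAss_eq_empty_iff : weakAss R M = ∅ ↔ Subsingleton M := by
  constructor
  · intro h
    refine ⟨fun a b => ?_⟩
    by_contra hab
    obtain ⟨p, hp⟩ := exists_minimalPrimes_ann (R := R) (sub_ne_zero.2 hab)
    have : p ∈ weakAss R M := ⟨_, hp⟩
    rw [h] at this
    exact this
  · intro h
    ext p
    simp only [Set.mem_empty_iff_false, iff_false]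
    rintro ⟨m, hm⟩
    exact ne_zero_of_minimalPrimes_ann hm (Subsingleton.elim _ _)

/-- Primes in `ass` are in `weakAss`. -/
lemma ass_subset_weakAss : ass R M ⊆ weakAss R M := by
  rintro p ⟨hp, m, rfl⟩
  refine ⟨m, ?_⟩
  rw [Ideal.minimalPrimes_eq_subsingleton_self]
  rfl

/-- The union of the weakly associated primes is the set of zero divisors. -/
lemma biUnion_weakAss : ⋃ q ∈ weakAss R M, (q : Set R) = {f : R | ¬ IsSMulRegular M f} := by
  ext f
  simp only [Set.mem_iUnion, SetLike.mem_coe, exists_prop, Set.mem_ofPred_eq]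
  constructor
  · rintro ⟨q, ⟨m, hm⟩, hfq⟩
    obtain ⟨y, hy, hfy⟩ := Ideal.exists_mul_mem_of_mem_minimalPrimes hm hfq
    intro hreg
    apply hy
    rw [mem_ann] at hfy ⊢
    rw [mul_smul] at hfy
    exact hreg (by simpa using hfy)
  · intro hf
    rw [IsSMulRegular, Function.Injective] at hf
    push Not at hf
    obtain ⟨a, b, hab, hne⟩ := hf
    have hne' : a - b ≠ 0 := sub_ne_zero.2 hne
    obtain ⟨p, hp⟩ := exists_minimalPrimes_ann (R := R) hne'
    refine ⟨p, ⟨_, hp⟩, hp.1.2 ?_⟩
    rw [mem_ann, smul_sub]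
    exact sub_eq_zero.2 hab

end Basic

section Exact

variable {R : Type u} [CommRing R] {M' M M'' : Type v} [AddCommGroup M'] [Module R M']
  [AddCommGroup M] [Module R M] [AddCommGroup M''] [Module R M'']

lemma ann_map_of_injective (f : M' →ₗ[R] M) (hf : Function.Injective f) (m : M') :
    (R ∙ (f m)).annihilator = (R ∙ m).annihilator := by
  ext r
  rw [mem_ann, mem_ann, ← map_smul, map_eq_zero_iff f hf]

lemma ann_le_ann_map (f : M →ₗ[R] M'') (m : M) : (R ∙ m).annihilator ≤ (R ∙ (f m)).annihilator := by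
  intro r hr
  rw [mem_ann] at hr ⊢
  rw [← map_smul, hr, map_zero]

lemma weakAss_subset_of_injective (f : M' →ₗ[R] M) (hf : Function.Injective f) :
    weakAss R M' ⊆ weakAss R M := by
  rintro p ⟨m, hm⟩
  exact ⟨f m, by rwa [ann_map_of_injective f hf]⟩

lemma ass_subset_of_injective (f : M' →ₗ[R] M) (hf : Function.Injective f) :
    ass R M' ⊆ ass R M := by
  rintro p ⟨hp, m, rfl⟩
  exact ⟨hp, f m, (ann_map_of_injective f hf m).symm⟩

lemma weakAss_congr (e : M' ≃ₗ[R] M) : weakAss R M' = weakAss R M :=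
  Set.Subset.antisymm (weakAss_subset_of_injective e.toLinearMap e.injective)
    (weakAss_subset_of_injective e.symm.toLinearMap e.symm.injective)

lemma ass_congr (e : M' ≃ₗ[R] M) : ass R M' = ass R M :=
  Set.Subset.antisymm (ass_subset_of_injective e.toLinearMap e.injective)
    (ass_subset_of_injective e.symm.toLinearMap e.symm.injective)

lemma weakAss_subset_union_of_exact (f : M' →ₗ[R] M) (g : M →ₗ[R] M'')
    (hf : Function.Injective f) (hfg : Function.Exact f g) :
    weakAss R M ⊆ weakAss R M' ∪ weakAss R M'' := by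
  rintro p ⟨m, hm⟩
  have hp := hm.1.1
  by_cases h : (R ∙ (g m)).annihilator ≤ p
  · exact Or.inr ⟨g m, minimalPrimes_of_le hm (ann_le_ann_map g m) h⟩
  · left
    obtain ⟨s, hs, hsp⟩ := SetLike.not_le_iff_exists.1 h
    rw [mem_ann, ← map_smul] at hs
    obtain ⟨m', hm'⟩ := (hfg _).1 hs
    refine ⟨m', ?_⟩
    have h1 := ann_map_of_injective f hf m'
    rw [hm'] at h1
    have h2 := minimalPrimes_ann_smul hm hsp
    rw [h1] at h2
    exact h2

end Exact

section Tower

variable {R : Type u} [CommRing R] {A : Type u} [CommRing A] [Algebra R A]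
  {N : Type v} [AddCommGroup N] [Module A N] [Module R N] [IsScalarTower R A N]

/-- `Ann_R(x) = Ann_A(x) ∩ R`. -/
lemma ann_eq_comap (x : N) :
    (R ∙ x).annihilator = ((A ∙ x).annihilator).comap (algebraMap R A) := by
  ext r
  rw [Ideal.mem_comap, mem_ann, mem_ann, algebraMap_smul]

/-- Contractions of (exactly) associated primes are associated. -/
lemma image_comap_ass_subset : Ideal.comap (algebraMap R A) '' ass A N ⊆ ass R N := by
  rintro _ ⟨q, ⟨hq, x, rfl⟩, rfl⟩
  exact ⟨Ideal.IsPrime.comap _, x, (ann_eq_comap x).symm⟩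

end Tower

section Localization

variable {R : Type u} [CommRing R] (S : Submonoid R) {M : Type v} [AddCommGroup M] [Module R M]

lemma mk_eq_zero_iff {m : M} {s : S} : LocalizedModule.mk m s = 0 ↔ ∃ t : S, t • m = 0 := by
  rw [← LocalizedModule.zero_mk (1 : S), LocalizedModule.mk_eq]
  simp

lemma mem_ann_mk_iff {m : M} {s : S} {r : R} :
    r ∈ (R ∙ (LocalizedModule.mk m s)).annihilator ↔ ∃ t : S, t • r • m = 0 := by
  rw [mem_ann, LocalizedModule.smul'_mk, mk_eq_zero_iff]

/-- `Ann_{S⁻¹R}(m/s) = S⁻¹ Ann_R(m)`. -/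
lemma ann_mk_eq_map (m : M) (s : S) :
    ((Localization S) ∙ (LocalizedModule.mk m s)).annihilator =
      ((R ∙ m).annihilator).map (algebraMap R (Localization S)) := by
  ext z
  rw [mem_ann, IsLocalization.mem_map_algebraMap_iff S]
  constructor
  · intro hz
    induction z using Localization.induction_on with
    | H y =>
      obtain ⟨a, t⟩ := y
      rw [LocalizedModule.mk_smul_mk, mk_eq_zero_iff] at hz
      obtain ⟨u, hu⟩ := hz
      refine ⟨⟨⟨(u : R) * a, ?_⟩, t * u⟩, ?_⟩
      · rw [mem_ann, mul_smul]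
        exact hu
      · simp only
        rw [← Localization.mk_one_eq_algebraMap, ← Localization.mk_one_eq_algebraMap,
          Localization.mk_mul, Localization.mk_eq_mk_iff, Localization.r_iff_exists]
        exact ⟨1, by simp; ring⟩
  · rintro ⟨⟨⟨x, hx⟩, v⟩, h⟩
    simp only at h
    rw [mem_ann] at hx
    have h1 : (z * algebraMap R (Localization S) v) • LocalizedModule.mk m s = 0 := by
      rw [h, algebraMap_smul, LocalizedModule.smul'_mk, hx, LocalizedModule.zero_mk]
    rw [mul_comm, mul_smul, algebraMap_smul] at h1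
    exact LocalizedModule.eq_zero_of_smul_eq_zero (v : R) v.2 _ h1

end Localization

section LocalizationMain

variable {R : Type u} [CommRing R] (S : Submonoid R) (M : Type v) [AddCommGroup M] [Module R M]

/-- S9588 -/
lemma weakAss_localizedModule_eq_image_comap :
    weakAss R (LocalizedModule S M) =
      Ideal.comap (algebraMap R (Localization S)) '' weakAss (Localization S) (LocalizedModule S M) := by
  ext p
  constructor
  · rintro ⟨x, hx⟩
    rw [ann_eq_comap (A := Localization S) x, IsLocalization.minimalPrimes_comap S] at hx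
    obtain ⟨q, hq, rfl⟩ := hx
    exact ⟨q, ⟨x, hq⟩, rfl⟩
  · rintro ⟨q, ⟨x, hq⟩, rfl⟩
    refine ⟨x, ?_⟩
    rw [ann_eq_comap (A := Localization S) x, IsLocalization.minimalPrimes_comap S]
    exact ⟨q, hq, rfl⟩

variable {M}

/-- S9589 -/
lemma mem_weakAss_iff_map_mem (p : Ideal R) [p.IsPrime] (hS : Disjoint (S : Set R) (p : Set R)) :
    p ∈ weakAss R M ↔
      Ideal.map (algebraMap R (Localization S)) p ∈ weakAss (Localization S) (LocalizedModule S M) := by
  have hunder : (Ideal.map (algebraMap R (Localization S)) p).under R = p :=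
    IsLocalization.under_map_of_isPrime_disjoint S _ inferInstance hS
  constructor
  · rintro ⟨m, hm⟩
    refine ⟨LocalizedModule.mk m 1, ?_⟩
    rw [ann_mk_eq_map, IsLocalization.minimalPrimes_map S]
    simpa [hunder] using hm
  · rintro ⟨x, hx⟩
    induction x using LocalizedModule.induction_on with
    | h m s =>
      rw [ann_mk_eq_map, IsLocalization.minimalPrimes_map S] at hx
      refine ⟨m, ?_⟩
      simpa [hunder] using hx

/-- If `S` acts by nonzerodivisors on `M`, `Ann_R(m/s) = Ann_R(m)`. -/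
lemma ann_mk_eq_of_isSMulRegular (hS : ∀ s ∈ S, IsSMulRegular M s) (m : M) (s : S) :
    (R ∙ (LocalizedModule.mk m s)).annihilator = (R ∙ m).annihilator := by
  ext r
  rw [mem_ann_mk_iff, mem_ann]
  constructor
  · rintro ⟨t, ht⟩
    exact (hS t t.2).right_eq_zero_of_smul ht
  · intro h
    exact ⟨1, by rw [h, smul_zero]⟩

/-- S9590 -/
lemma weakAss_eq_weakAss_localizedModule (hS : ∀ s ∈ S, IsSMulRegular M s) :
    weakAss R M = weakAss R (LocalizedModule S M) := by
  ext p
  constructor
  · rintro ⟨m, hm⟩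
    exact ⟨LocalizedModule.mk m 1, by rwa [ann_mk_eq_of_isSMulRegular S hS]⟩
  · rintro ⟨x, hx⟩
    induction x using LocalizedModule.induction_on with
    | h m s =>
      rw [ann_mk_eq_of_isSMulRegular S hS] at hx
      exact ⟨m, hx⟩

/-- S9595 -/
lemma ass_eq_ass_localizedModule (hS : ∀ s ∈ S, IsSMulRegular M s) :
    ass R M = ass R (LocalizedModule S M) := by
  ext p
  constructor
  · rintro ⟨hp, m, rfl⟩
    exact ⟨hp, LocalizedModule.mk m 1, (ann_mk_eq_of_isSMulRegular S hS m 1).symm⟩
  · rintro ⟨hp, x, rfl⟩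
    induction x using LocalizedModule.induction_on with
    | h m s =>
      exact ⟨hp, m, ann_mk_eq_of_isSMulRegular S hS m s⟩

end LocalizationMain

section More

variable {R : Type u} [CommRing R]

/-- S9591 -/
lemma eq_zero_of_forall_mk_eq_zero {M : Type v} [AddCommGroup M] [Module R M] (x : M)
    (hx : ∀ (p : Ideal R) [p.IsPrime], p ∈ weakAss R M →
      LocalizedModule.mkLinearMap p.primeCompl M x = 0) : x = 0 := by
  by_contra hne
  obtain ⟨p, hp⟩ := exists_minimalPrimes_ann (R := R) hne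
  have := hp.1.1
  have h0 := hx p ⟨x, hp⟩
  rw [LocalizedModule.mkLinearMap_apply, mk_eq_zero_iff] at h0
  obtain ⟨t, ht⟩ := h0
  exact t.2 (hp.1.2 (mem_ann.2 ht))

/-- Surjective ring maps: S9587 in general form. -/
lemma weakAss_eq_image_comap_of_surjective {A : Type u} [CommRing A] [Algebra R A]
    (hA : Function.Surjective (algebraMap R A))
    (N : Type v) [AddCommGroup N] [Module A N] [Module R N] [IsScalarTower R A N] :
    weakAss R N = Ideal.comap (algebraMap R A) '' weakAss A N := by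
  ext p
  constructor
  · rintro ⟨x, hx⟩
    rw [ann_eq_comap (A := A) x, Ideal.comap_minimalPrimes_eq_of_surjective hA] at hx
    obtain ⟨q, hq, rfl⟩ := hx
    exact ⟨q, ⟨x, hq⟩, rfl⟩
  · rintro ⟨q, ⟨x, hq⟩, rfl⟩
    refine ⟨x, ?_⟩
    rw [ann_eq_comap (A := A) x, Ideal.comap_minimalPrimes_eq_of_surjective hA]
    exact ⟨q, hq, rfl⟩

variable (S : Submonoid R) (M : Type v) [AddCommGroup M] [Module R M]

/-- S9594 (1) -/
lemma ass_localizedModule_eq_image_comap :
    ass R (LocalizedModule S M) =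
      Ideal.comap (algebraMap R (Localization S)) '' ass (Localization S) (LocalizedModule S M) := by
  refine Set.Subset.antisymm ?_ image_comap_ass_subset
  rintro p ⟨hp, x, rfl⟩
  refine ⟨((Localization S) ∙ x).annihilator, ⟨?_, x, rfl⟩, (ann_eq_comap x).symm⟩
  have hxne : x ≠ 0 := by
    rintro rfl
    exact hp.ne_top (ann_eq_top_iff.2 rfl)
  rw [IsLocalization.isPrime_iff_isPrime_disjoint S (Localization S)]
  have hu : (((Localization S) ∙ x).annihilator).under R = (R ∙ x).annihilator :=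
    (ann_eq_comap x).symm
  refine ⟨hu ▸ hp, ?_⟩
  rw [IsLocalization.disjoint_under_iff S]
  intro h
  exact hxne (ann_eq_top_iff.1 h)

variable {M}

/-- S9594 (2) -/
lemma mem_ass_localizedModule_of_disjoint {p : Ideal R} (hp : p ∈ ass R M)
    (hS : Disjoint (S : Set R) (p : Set R)) : p ∈ ass R (LocalizedModule S M) := by
  obtain ⟨hpp, m, rfl⟩ := hp
  refine ⟨hpp, LocalizedModule.mk m 1, ?_⟩
  ext r
  rw [mem_ann_mk_iff, mem_ann]
  constructor
  · intro h
    exact ⟨1, by rw [h, smul_zero]⟩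
  · rintro ⟨t, ht⟩
    have h1 : (t : R) * r ∈ (R ∙ m).annihilator := by
      rw [mem_ann, mul_smul]; exact ht
    have h2 : (t : R) ∉ (R ∙ m).annihilator := fun h => Set.disjoint_left.1 hS t.2 h
    exact mem_ann.1 ((hpp.mem_or_mem h1).resolve_left h2)

end More

section FlatDomain

variable {R S : Type u} [CommRing R] [CommRing S] [Algebra R S]
  (N : Type v) [AddCommGroup N] [Module S N] [Module R N] [IsScalarTower R S N] [Module.Flat R N]

lemma isSMulRegular_of_mem_algebraMapSubmonoid :
    ∀ t ∈ Algebra.algebraMapSubmonoid S (nonZeroDivisors R), IsSMulRegular N t := by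
  rintro t ⟨r, hr, rfl⟩
  have h := Module.Flat.isSMulRegular_of_nonZeroDivisors (M := N) hr
  intro a b hab
  apply h
  simpa [algebraMap_smul] using hab

end FlatDomain

section Local

variable {A : Type u} [CommRing A] [IsLocalRing A] {N : Type v} [AddCommGroup N] [Module A N]

omit [IsLocalRing A] in
lemma colon_bot_singleton (x : N) :
    (⊥ : Submodule A N).colon {x} = (A ∙ x).annihilator := by
  ext r
  rw [Submodule.mem_colon_singleton, mem_ann, Submodule.mem_bot]

/-- In a local ring the maximal ideal is weakly associated iff it is the radical of an annihilator. -/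
lemma maximalIdeal_mem_weakAss_iff :
    IsLocalRing.maximalIdeal A ∈ weakAss A N ↔ IsAssociatedPrime (IsLocalRing.maximalIdeal A) N := by
  constructor
  · rintro ⟨x, hx⟩
    refine ⟨inferInstance, x, ?_⟩
    rw [colon_bot_singleton]
    apply le_antisymm
    · rw [Ideal.radical_eq_sInf]
      refine le_sInf ?_
      rintro q ⟨hIq, hq⟩
      exact hx.2 ⟨hq, hIq⟩ (IsLocalRing.le_maximalIdeal hq.ne_top)
    · exact (Ideal.IsPrime.radical_le_iff inferInstance).2 hx.1.2
  · rintro ⟨hm, x, hx⟩
    rw [colon_bot_singleton] at hx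
    refine ⟨x, ⟨hm, ?_⟩, ?_⟩
    · rw [hx]; exact Ideal.le_radical
    · rintro q ⟨hq, hIq⟩ _
      rw [hx]
      exact (Ideal.IsPrime.radical_le_iff hq).2 hIq

end Local

section AtPrime

variable {R : Type u} [CommRing R] (M : Type v) [AddCommGroup M] [Module R M]

/-- S9581 -/
lemma mem_weakAss_iff_isAssociatedPrime_maximalIdeal (p : Ideal R) [p.IsPrime] :
    p ∈ weakAss R M ↔ IsAssociatedPrime (IsLocalRing.maximalIdeal (Localization.AtPrime p))
      (LocalizedModule p.primeCompl M) := by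
  rw [mem_weakAss_iff_map_mem p.primeCompl p (Set.disjoint_left.2 fun x hx hxp => hx hxp)]
  rw [← maximalIdeal_mem_weakAss_iff, ← Localization.AtPrime.map_eq_maximalIdeal]

end AtPrime

section Reduced

variable {R : Type u} [CommRing R]

/-- S9582 -/
lemma weakAss_self_eq_minimalPrimes [IsReduced R] : weakAss R R = minimalPrimes R := by
  ext p
  constructor
  · rintro ⟨x, hx⟩
    have hpp := hx.1.1
    have hxp : x ∉ p := by
      intro hxp
      obtain ⟨y, hy, hxy⟩ := Ideal.exists_mul_mem_of_mem_minimalPrimes hx hxp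
      apply hy
      rw [mem_ann, smul_eq_mul] at hxy ⊢
      have h2 : (y * x) ^ 2 = 0 := by
        have : (y * x) ^ 2 = y * (x * y * x) := by ring
        rw [this, hxy, mul_zero]
      exact IsReduced.eq_zero _ ⟨2, h2⟩
    refine ⟨⟨hpp, bot_le⟩, fun q hq hqp => hx.2 ⟨hq.1, ?_⟩ hqp⟩
    intro r hr
    rw [mem_ann, smul_eq_mul] at hr
    have : r * x ∈ q := by rw [hr]; exact q.zero_mem
    exact (hq.1.mem_or_mem this).resolve_right fun h => hxp (hqp h)
  · intro hp
    refine ⟨1, ?_⟩
    have : (R ∙ (1 : R)).annihilator = ⊥ := by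
      ext r
      rw [mem_ann, smul_eq_mul, mul_one, Ideal.mem_bot]
    rw [this]
    exact hp

end Reduced

section FG

variable {R : Type u} [CommRing R]

/-- If `p` is minimal over `I` and `f ∈ p`, some `g ∉ p` and power `n` satisfy `g f^n ∈ I`. -/
lemma exists_mul_pow_mem_of_mem_minimalPrimes {I p : Ideal R} (hp : p ∈ I.minimalPrimes) {f : R}
    (hf : f ∈ p) : ∃ g, g ∉ p ∧ ∃ n : ℕ, g * f ^ n ∈ I := by
  have hpp := hp.1.1
  by_contra h
  push Not at h
  have hdisj : Disjoint (I : Set R) ((p.primeCompl ⊔ Submonoid.powers f : Submonoid R) : Set R) := by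
    rw [Set.disjoint_left]
    intro x hxI hxT
    obtain ⟨y, hy, z, ⟨n, rfl⟩, rfl⟩ := Submonoid.mem_sup.1 hxT
    exact h y hy n hxI
  obtain ⟨q, hq, hIq, hqT⟩ := Ideal.exists_le_prime_disjoint I _ hdisj
  have hqp : q ≤ p := by
    intro r hr
    by_contra hrp
    exact Set.disjoint_left.1 hqT hr
      ((le_sup_left : p.primeCompl ≤ p.primeCompl ⊔ Submonoid.powers f) hrp)
  have hfq : f ∉ q := fun hfq => Set.disjoint_left.1 hqT hfq
    ((le_sup_right : Submonoid.powers f ≤ p.primeCompl ⊔ Submonoid.powers f)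
      (Submonoid.mem_powers f))
  exact hfq (hp.2 ⟨hq, hIq⟩ hqp hf)

variable {M : Type v} [AddCommGroup M] [Module R M]

/-- S9586, the nontrivial direction. -/
lemma mem_ass_of_mem_weakAss_of_fg {p : Ideal R} (hfg : p.FG) (hp : p ∈ weakAss R M) :
    p ∈ ass R M := by
  classical
  obtain ⟨m, hm⟩ := hp
  have hpp := hm.1.1
  -- the saturation of `Ann m` with respect to `p`
  let J : Ideal R :=
    { carrier := {r | ∃ g, g ∉ p ∧ g * r ∈ (R ∙ m).annihilator}
      add_mem' := by
        rintro a b ⟨g, hg, hga⟩ ⟨g', hg', hgb⟩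
        refine ⟨g * g', fun h => (hpp.mem_or_mem h).elim hg hg', ?_⟩
        have : g * g' * (a + b) = g' * (g * a) + g * (g' * b) := by ring
        rw [this]
        exact Ideal.add_mem _ (Ideal.mul_mem_left _ _ hga) (Ideal.mul_mem_left _ _ hgb)
      zero_mem' := ⟨1, fun h => hpp.ne_top (p.eq_top_iff_one.2 h), by simp⟩
      smul_mem' := by
        rintro c a ⟨g, hg, hga⟩
        refine ⟨g, hg, ?_⟩
        have : g * (c • a) = c * (g * a) := by rw [smul_eq_mul]; ring
        rw [this]
        exact Ideal.mul_mem_left _ _ hga }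
  have hJ : ∀ r, r ∈ J ↔ ∃ g, g ∉ p ∧ g * r ∈ (R ∙ m).annihilator := fun r => Iff.rfl
  have hprad : p ≤ J.radical := by
    intro f hf
    obtain ⟨g, hg, n, hn⟩ := exists_mul_pow_mem_of_mem_minimalPrimes hm hf
    exact ⟨n, (hJ _).2 ⟨g, hg, hn⟩⟩
  have hex : ∃ n : ℕ, p ^ n ≤ J := Ideal.exists_pow_le_of_le_radical_of_fg hprad hfg
  have hk0 : Nat.find hex ≠ 0 := by
    intro h0
    have h1 := Nat.find_spec hex
    rw [h0, pow_zero, Ideal.one_eq_top] at h1
    obtain ⟨g, hg, hg1⟩ := (hJ 1).1 (h1 trivial)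
    rw [mul_one] at hg1
    exact hg (hm.1.2 hg1)
  have hmin : ¬ p ^ (Nat.find hex - 1) ≤ J := Nat.find_min hex (Nat.sub_one_lt hk0)
  obtain ⟨y, hy, hyJ⟩ := SetLike.not_le_iff_exists.1 hmin
  have hpy : ∀ f ∈ p, f * y ∈ J := by
    intro f hf
    apply Nat.find_spec hex
    have : Nat.find hex = (Nat.find hex - 1) + 1 := (Nat.sub_add_cancel (Nat.pos_of_ne_zero hk0)).symm
    rw [this, pow_succ, mul_comm f y]
    exact Ideal.mul_mem_mul hy hf
  -- uniform multiplier
  obtain ⟨s, hs⟩ := hfg
  have huni : ∀ t : Finset R, (∀ f ∈ t, f ∈ p) →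
      ∃ g, g ∉ p ∧ ∀ f ∈ t, g * (f * y) ∈ (R ∙ m).annihilator := by
    intro t
    induction t using Finset.induction_on with
    | empty => exact fun _ => ⟨1, fun h => hpp.ne_top (p.eq_top_iff_one.2 h), by simp⟩
    | insert a t _ ih =>
      intro ht
      obtain ⟨g, hg, hgt⟩ := ih fun f hf => ht f (Finset.mem_insert_of_mem hf)
      obtain ⟨g', hg', hga⟩ := (hJ _).1 (hpy a (ht a (Finset.mem_insert_self a t)))
      refine ⟨g' * g, fun h => (hpp.mem_or_mem h).elim hg' hg, ?_⟩
      intro f hf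
      rcases Finset.mem_insert.1 hf with rfl | hf
      · have : g' * g * (f * y) = g * (g' * (f * y)) := by ring
        rw [this]; exact Ideal.mul_mem_left _ _ hga
      · rw [mul_assoc]; exact Ideal.mul_mem_left _ _ (hgt f hf)
  obtain ⟨G, hG, hGs⟩ := huni s fun f hf => hs ▸ Ideal.subset_span hf
  have hGp : ∀ r ∈ p, G * (r * y) ∈ (R ∙ m).annihilator := by
    intro r hr
    rw [← hs] at hr
    induction hr using Submodule.span_induction with
    | mem x hx => exact hGs x hx
    | zero => simp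
    | add a b _ _ ha hb =>
      have : G * ((a + b) * y) = G * (a * y) + G * (b * y) := by ring
      rw [this]; exact Ideal.add_mem _ ha hb
    | smul c a _ ha =>
      have : G * (c • a * y) = c * (G * (a * y)) := by rw [smul_eq_mul]; ring
      rw [this]; exact Ideal.mul_mem_left _ _ ha
  refine ⟨hpp, (G * y) • m, ?_⟩
  ext r
  rw [mem_ann_smul]
  constructor
  · intro hr
    have := hGp r hr
    have e : r * (G * y) = G * (r * y) := by ring
    rw [e]; exact this
  · intro hr
    by_contra hrp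
    apply hyJ
    refine (hJ y).2 ⟨r * G, fun h => (hpp.mem_or_mem h).elim hrp hG, ?_⟩
    rw [mul_assoc]; exact hr

end FG

end Groth.Agent.Lib.Helper7.WeakAss
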