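import Groth.Agent.Lib.Helper7.ComodIntegral
import Mathlib.RingTheory.HopfAlgebra.TensorProduct

/-!
# Base change of total integrals to an arbitrary commutative algebra; primitive elements (helper7)
-/

universe u v w

open TensorProduct

namespace Groth.Agent.Lib.Helper7.BCR

open HopfRep Groth.Agent.Lib.Helper7.Comod

section BaseChange

variable {k : Type u} {K : Type v} {A : Type w} [CommRing k] [CommRing K] [Algebra k K] [CommRing A]
  [Bialgebra k A]

/-- `Δ_K(x ⊗ a)` in terms of a general element `d` standing for `Δ a`. -/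
noncomputable def bcPair (x : K) (d : A ⊗[k] A) : (K ⊗[k] A) ⊗[K] (K ⊗[k] A) :=
  AlgebraTensorModule.tensorTensorTensorComm k K k K K K A A (((1 : K) ⊗ₜ[K] x) ⊗ₜ[k] d)

lemma comul_tmul_eq (x : K) (a : A) :
    Coalgebra.comul (R := K) (x ⊗ₜ[k] a : K ⊗[k] A) = bcPair x (Coalgebra.comul (R := k) a) := by
  rw [TensorProduct.comul_tmul, CommSemiring.comul_apply]
  rfl

@[simp] lemma bcPair_tmul (x : K) (a b : A) :
    bcPair x (a ⊗ₜ[k] b) = ((1 : K) ⊗ₜ[k] a) ⊗ₜ[K] (x ⊗ₜ[k] b) := by
  simp [bcPair]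

lemma bcPair_add (x : K) (d e : A ⊗[k] A) : bcPair x (d + e) = bcPair x d + bcPair x e := by
  simp [bcPair, TensorProduct.tmul_add]

lemma bcPair_sub (x : K) (d e : A ⊗[k] A) : bcPair x (d - e) = bcPair x d - bcPair x e := by
  simp [bcPair, TensorProduct.tmul_sub]

@[simp] lemma bcPair_zero (x : K) : bcPair x (0 : A ⊗[k] A) = 0 := by
  simp [bcPair]

/-- The base change of a functional. -/
noncomputable def bcFun (K : Type v) [CommRing K] [Algebra k K] (α : A →ₗ[k] k) :
    K ⊗[k] A →ₗ[K] K :=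
  (AlgebraTensorModule.rid k K K).toLinearMap ∘ₗ LinearMap.baseChange K α

@[simp] lemma bcFun_tmul (α : A →ₗ[k] k) (x : K) (a : A) : bcFun K α (x ⊗ₜ[k] a) = α a • x := by
  simp [bcFun]

lemma smul_one_tmul_tmul (c : k) (x : K) (b : A) :
    (c • (1 : K)) ⊗ₜ[K] (x ⊗ₜ[k] b) = (1 : K) ⊗ₜ[K] (x ⊗ₜ[k] (c • b)) := by
  rw [TensorProduct.tmul_smul]
  rw [show (c • (1:K)) = (algebraMap k K c) • (1 : K) by rw [algebraMap_smul]]
  rw [TensorProduct.smul_tmul]
  congr 1
  rw [TensorProduct.smul_tmul', TensorProduct.smul_tmul', smul_eq_mul, Algebra.smul_def]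

lemma one_tmul_tmul_smul_one (c : k) (x : K) :
    (1 : K) ⊗ₜ[K] (x ⊗ₜ[k] (c • (1 : A))) = (c • x) ⊗ₜ[K] ((1 : K) ⊗ₜ[k] (1 : A)) := by
  rw [TensorProduct.tmul_smul]
  rw [show (c • x) = (algebraMap k K c * x) • (1 : K) by rw [smul_eq_mul, mul_one, Algebra.smul_def]]
  rw [TensorProduct.smul_tmul]
  congr 1
  rw [TensorProduct.smul_tmul', TensorProduct.smul_tmul', smul_eq_mul, Algebra.smul_def, mul_one]

lemma rTensor_bcFun_bcPair (α : A →ₗ[k] k) (x : K) (d : A ⊗[k] A) :
    (bcFun K α).rTensor (K ⊗[k] A) (bcPair x d) =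
      (1 : K) ⊗ₜ[K] (x ⊗ₜ[k] (TensorProduct.lid k A (α.rTensor A d))) := by
  induction d using TensorProduct.induction_on with
  | zero => simp
  | tmul a b =>
    rw [bcPair_tmul, LinearMap.rTensor_tmul, bcFun_tmul, LinearMap.rTensor_tmul,
      TensorProduct.lid_tmul, smul_one_tmul_tmul]
  | add d e hd he =>
    rw [bcPair_add, map_add, hd, he, map_add, map_add, TensorProduct.tmul_add,
      TensorProduct.tmul_add]

/-- A total integral on `A` gives one on `K ⊗ A`, for any commutative `k`-algebra `K`. -/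
theorem isTrivIntegral_bcFun {α : A →ₗ[k] k} (hα : IsTrivIntegral k A α) :
    IsTrivIntegral K (K ⊗[k] A) (bcFun K α) := by
  rw [isTrivIntegral_iff] at hα ⊢
  refine ⟨fun z => ?_, ?_⟩
  · induction z using TensorProduct.induction_on with
    | zero => simp
    | tmul x a =>
      rw [comul_tmul_eq, rTensor_bcFun_bcPair, ← hα.1 a, TensorProduct.lid_tmul, bcFun_tmul,
        Algebra.TensorProduct.one_def, one_tmul_tmul_smul_one]
    | add y z hy hz => simp only [map_add, TensorProduct.add_tmul, hy, hz]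
  · rw [Algebra.TensorProduct.one_def, bcFun_tmul, hα.2, one_smul]

end BaseChange

section Prim

variable {k : Type u} [CommRing k] {A : Type v} [CommRing A] [Bialgebra k A]

/-- A bialgebra with a total integral has no nonzero primitive elements. -/
theorem eq_zero_of_primitive {α : A →ₗ[k] k} (hα : IsTrivIntegral k A α) {b : A}
    (hb : Coalgebra.comul (R := k) b = b ⊗ₜ[k] (1 : A) + (1 : A) ⊗ₜ[k] b) : b = 0 := by
  rw [isTrivIntegral_iff] at hα
  have h1 := hα.1 b
  rw [hb, map_add, LinearMap.rTensor_tmul, LinearMap.rTensor_tmul, hα.2] at h1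
  have h2 : (1 : k) ⊗ₜ[k] b = 0 := by
    have := sub_eq_zero.2 h1.symm
    rwa [add_sub_cancel_left] at this
  have := congrArg (TensorProduct.lid k A) h2
  simpa using this

end Prim

end Groth.Agent.Lib.Helper7.BCR
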