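import Mathlib
import Groth.Agent.Lib.Helper7.HopfBCRing

/-!
# Cancellation of base change `T ⊗[S] (S ⊗[R] A) ≃ T ⊗[R] A` as a bialgebra isomorphism (helper7)
-/

namespace Groth.Agent.Lib.Helper7.CancelBC
open TensorProduct Groth.Agent.Lib.Helper7.BCR
universe u v w x

variable (R : Type u) (S : Type v) (T : Type w) (A : Type x) [CommRing R] [CommRing S] [CommRing T]
  [Algebra R S] [Algebra R T] [Algebra S T] [IsScalarTower R S T] [CommRing A] [Bialgebra R A]

lemma map_cancel_bcPair (t : T) (s : S) (d : A ⊗[R] A) :
    Algebra.TensorProduct.map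
      (Algebra.TensorProduct.cancelBaseChange R S T T A : T ⊗[S] (S ⊗[R] A) →ₐ[T] T ⊗[R] A)
      (Algebra.TensorProduct.cancelBaseChange R S T T A : T ⊗[S] (S ⊗[R] A) →ₐ[T] T ⊗[R] A)
      (bcPair (k := S) (K := T) (A := S ⊗[R] A) t (bcPair (k := R) (K := S) (A := A) s d)) =
      bcPair (k := R) (K := T) (A := A) (s • t) d := by
  induction d using TensorProduct.induction_on with
  | zero => simp
  | add x y hx hy => rw [bcPair_add, bcPair_add, map_add, hx, hy, bcPair_add]
  | tmul a b =>
    rw [bcPair_tmul, bcPair_tmul, bcPair_tmul, Algebra.TensorProduct.map_tmul]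
    change (Algebra.TensorProduct.cancelBaseChange R S T T A _) ⊗ₜ[T]
      (Algebra.TensorProduct.cancelBaseChange R S T T A _) = _
    rw [Algebra.TensorProduct.cancelBaseChange_tmul, Algebra.TensorProduct.cancelBaseChange_tmul,
      one_smul]

/-- cancellation of base change, as a bialgebra isomorphism. -/
noncomputable def cancelBC : T ⊗[S] (S ⊗[R] A) ≃ₐc[T] T ⊗[R] A :=
  BialgEquiv.ofAlgEquiv (Algebra.TensorProduct.cancelBaseChange R S T T A)
    (by
      apply AlgHom.ext
      intro z
      induction z using TensorProduct.induction_on with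
      | zero => simp
      | add x y hx hy => rw [map_add, map_add, hx, hy]
      | tmul t y =>
        induction y using TensorProduct.induction_on with
        | zero => simp
        | add x y hx hy => rw [TensorProduct.tmul_add, map_add, map_add, hx, hy]
        | tmul s a =>
          change Coalgebra.counit (R := T)
            (Algebra.TensorProduct.cancelBaseChange R S T T A (t ⊗ₜ[S] (s ⊗ₜ[R] a))) =
            Coalgebra.counit (R := T) (t ⊗ₜ[S] (s ⊗ₜ[R] a))
          rw [Algebra.TensorProduct.cancelBaseChange_tmul, TensorProduct.counit_tmul,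
            TensorProduct.counit_tmul, TensorProduct.counit_tmul, CommSemiring.counit_apply,
            CommSemiring.counit_apply, smul_assoc]
          rfl)
    (by
      apply AlgHom.ext
      intro z
      induction z using TensorProduct.induction_on with
      | zero => simp
      | add x y hx hy => rw [map_add, map_add, hx, hy]
      | tmul t y =>
        induction y using TensorProduct.induction_on with
        | zero => simp
        | add x y hx hy => rw [TensorProduct.tmul_add, map_add, map_add, hx, hy]
        | tmul s a =>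
          change Algebra.TensorProduct.map _ _ (Coalgebra.comul (R := T) (t ⊗ₜ[S] (s ⊗ₜ[R] a))) =
            Coalgebra.comul (R := T)
              (Algebra.TensorProduct.cancelBaseChange R S T T A (t ⊗ₜ[S] (s ⊗ₜ[R] a)))
          rw [Algebra.TensorProduct.cancelBaseChange_tmul, comul_tmul_eq, comul_tmul_eq,
            comul_tmul_eq]
          exact map_cancel_bcPair R S T A t s _)

@[simp] lemma cancelBC_tmul (t : T) (s : S) (a : A) :
    cancelBC R S T A (t ⊗ₜ[S] (s ⊗ₜ[R] a)) = (s • t) ⊗ₜ[R] a :=
  Algebra.TensorProduct.cancelBaseChange_tmul R S T T A t s a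

@[simp] lemma cancelBC_symm_tmul (t : T) (a : A) :
    (cancelBC R S T A).symm (t ⊗ₜ[R] a) = t ⊗ₜ[S] ((1 : S) ⊗ₜ[R] a) :=
  Algebra.TensorProduct.cancelBaseChange_symm_tmul R S T T A t a

end Groth.Agent.Lib.Helper7.CancelBC
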