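import Groth.Agent.Lib.Helper7.MultDesc
import Groth.Agent.Lib.Helper7.HopfBCRing
import Groth.Prelude.Def_SGA3b

set_option autoImplicit false

namespace Groth.Agent.Lib.Helper7.DiagSub

open TensorProduct
open Groth.Agent.Lib.Helper7.MultDesc (cf cf_apply cf_single mul_cf_comul cf_mul_cf_comul_of_ne)

universe u

section GLike

variable {R : Type*} [CommRing R] {P : Type*} [Monoid P] {γ : MonoidAlgebra R P}

lemma coeff_mul_self (hγ : IsGroupLikeElem R γ) (p : P) :
    γ.coeff p * γ.coeff p = γ.coeff p := by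
  have h := LinearMap.congr_fun (mul_cf_comul (R := R) p) γ
  simpa only [LinearMap.comp_apply, hγ.comul_eq_tmul_self, TensorProduct.map_tmul,
    LinearMap.mul'_apply, cf_apply] using h

lemma coeff_mul_of_ne (hγ : IsGroupLikeElem R γ) {p q : P} (hpq : p ≠ q) :
    γ.coeff p * γ.coeff q = 0 := by
  have h := LinearMap.congr_fun (cf_mul_cf_comul_of_ne (R := R) hpq) γ
  simpa only [LinearMap.comp_apply, hγ.comul_eq_tmul_self, TensorProduct.map_tmul,
    LinearMap.mul'_apply, cf_apply, LinearMap.zero_apply] using h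

lemma coeff_one_smul_sub_one (hγ : IsGroupLikeElem R γ) : (γ.coeff 1) • (γ - 1) = 0 := by
  classical
  apply MonoidAlgebra.coeff_injective
  ext p
  rw [MonoidAlgebra.coeff_smul, Finsupp.smul_apply, MonoidAlgebra.coeff_sub, Finsupp.sub_apply,
    MonoidAlgebra.one_def, MonoidAlgebra.coeff_single, Finsupp.single_apply, smul_eq_mul,
    MonoidAlgebra.coeff_zero, Finsupp.zero_apply]
  split_ifs with h
  · subst h
    rw [mul_sub, coeff_mul_self hγ, mul_one, sub_self]
  · rw [sub_zero]
    exact coeff_mul_of_ne hγ h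

lemma eq_mul_coeff_one {x : R} (h : x • (γ - 1) = 0) : x = x * γ.coeff 1 := by
  classical
  have h1 := congrArg (fun y : MonoidAlgebra R P => y.coeff 1) h
  simp only [MonoidAlgebra.coeff_smul, Finsupp.smul_apply, MonoidAlgebra.coeff_sub,
    Finsupp.sub_apply, MonoidAlgebra.one_def, MonoidAlgebra.coeff_single, Finsupp.single_apply,
    smul_eq_mul, MonoidAlgebra.coeff_zero, Finsupp.zero_apply, if_true] at h1
  linear_combination (-1 : R) * h1

end GLike

section Flat

/-- annihilator of an element, as an ideal. -/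
def ann {R : Type*} [CommRing R] {B : Type*} [AddCommGroup B] [Module R B] (b : B) : Ideal R :=
  LinearMap.ker (LinearMap.toSpanSingleton R B b)

lemma mem_ann {R : Type*} [CommRing R] {B : Type*} [AddCommGroup B] [Module R B] {b : B} {r : R} :
    r ∈ ann b ↔ r • b = 0 := by
  rw [ann, LinearMap.mem_ker, LinearMap.toSpanSingleton_apply]

lemma mem_map_ann_of_tmul_eq_zero {R : Type*} [CommRing R] (S : Type*) [CommRing S] [Algebra R S]
    [Module.Flat R S] {B : Type*} [AddCommGroup B] [Module R B] (b : B) (x : S)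
    (hx : x ⊗ₜ[R] b = 0) :
    x ∈ Ideal.map (algebraMap R S) (ann (R := R) b) := by
  unfold ann
  set f : R →ₗ[R] B := LinearMap.toSpanSingleton R B b with hf
  have h := Module.Flat.ker_lTensor_eq S S f
  have h1 : x ⊗ₜ[R] (1 : R) ∈ LinearMap.ker (AlgebraTensorModule.lTensor S S f) := by
    rw [LinearMap.mem_ker, AlgebraTensorModule.lTensor_tmul, hf,
      LinearMap.toSpanSingleton_apply, one_smul, hx]
  rw [h] at h1
  obtain ⟨z, hz⟩ := h1
  have h2 : x = AlgebraTensorModule.rid R S S (x ⊗ₜ[R] (1 : R)) := by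
    rw [AlgebraTensorModule.rid_tmul, one_smul]
  rw [h2, ← hz]
  clear hz h2 h
  induction z using TensorProduct.induction_on with
  | zero => simp
  | tmul s r =>
    rw [AlgebraTensorModule.lTensor_tmul, AlgebraTensorModule.rid_tmul, Submodule.subtype_apply,
      Algebra.smul_def]
    exact Ideal.mul_mem_right _ _ (Ideal.mem_map_of_mem _ r.2)
  | add y z hy hz =>
    rw [map_add, map_add]
    exact Ideal.add_mem _ hy hz

end Flat

section GLikeBC

open Groth.Agent.Lib.Helper7.BCR

lemma isGroupLikeElem_one_tmul {R : Type*} [CommRing R] (S : Type*) [CommRing S] [Algebra R S]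
    {B : Type*} [CommRing B] [Bialgebra R B] {g : B} (hg : IsGroupLikeElem R g) :
    IsGroupLikeElem S ((1 : S) ⊗ₜ[R] g : S ⊗[R] B) := by
  refine ⟨?_, ?_⟩
  · rw [TensorProduct.counit_tmul, hg.counit_eq_one, CommSemiring.counit_apply, one_smul]
  · rw [comul_tmul_eq, hg.comul_eq_tmul_self, bcPair_tmul]

end GLikeBC

section Chart

variable {R : Type u} [CommRing R] {B : Type u} [CommRing B] [HopfAlgebra R B]
  {R₁ : Type u} [CommRing R₁] [Algebra R R₁] {R' : Type u} [CommRing R'] [Algebra R₁ R']
  {P : Type u} [CommGroup P]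
  (e : R' ⊗[R₁] (R₁ ⊗[R] B) ≃ₐc[R'] MonoidAlgebra R' P)

/-- The comparison map `B → R'[P]`. -/
noncomputable def theta : B →+* MonoidAlgebra R' P :=
  ((e.toAlgEquiv : R' ⊗[R₁] (R₁ ⊗[R] B) →ₐ[R'] MonoidAlgebra R' P) : _ →+* _).comp
    (((Algebra.TensorProduct.includeRight : R₁ ⊗[R] B →ₐ[R₁] R' ⊗[R₁] (R₁ ⊗[R] B)) :
        R₁ ⊗[R] B →+* R' ⊗[R₁] (R₁ ⊗[R] B)).comp
      ((Algebra.TensorProduct.includeRight : B →ₐ[R] R₁ ⊗[R] B) : B →+* R₁ ⊗[R] B))

lemma theta_apply (b : B) : theta e b = e ((1 : R') ⊗ₜ[R₁] ((1 : R₁) ⊗ₜ[R] b)) := rfl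

variable (R R₁ R') in
/-- The structure map `R → R'`. -/
def iota : R →+* R' := (algebraMap R₁ R').comp (algebraMap R R₁)

lemma iota_apply (r : R) : iota R R₁ R' r = algebraMap R₁ R' (algebraMap R R₁ r) := rfl

lemma theta_smul (r : R) (b : B) : theta e (r • b) = (iota R R₁ R' r) • theta e b := by
  have h1 : (1 : R₁) ⊗ₜ[R] (r • b) = (algebraMap R R₁ r) • ((1 : R₁) ⊗ₜ[R] b) := by
    rw [TensorProduct.tmul_smul, TensorProduct.smul_tmul', TensorProduct.smul_tmul', smul_eq_mul,
      mul_one, Algebra.smul_def, mul_one]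
  have h2 : ∀ (a : R₁) (y : R₁ ⊗[R] B), (1 : R') ⊗ₜ[R₁] (a • y) =
      (algebraMap R₁ R' a) • ((1 : R') ⊗ₜ[R₁] y) := by
    intro a y
    rw [TensorProduct.tmul_smul, TensorProduct.smul_tmul', TensorProduct.smul_tmul', smul_eq_mul,
      mul_one, Algebra.smul_def, mul_one]
  rw [theta_apply, theta_apply, h1, h2, map_smul, iota_apply]

lemma theta_isGroupLikeElem {g : B} (hg : IsGroupLikeElem R g) :
    IsGroupLikeElem R' (theta e g) :=
  (isGroupLikeElem_one_tmul R' (isGroupLikeElem_one_tmul R₁ hg)).map e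

lemma mem_map_ann_of_smul_theta [Module.Flat R R₁] [Module.Flat R₁ R'] (b : B) (x : R')
    (hx : x • theta e b = 0) : x ∈ Ideal.map (iota R R₁ R') (ann (R := R) b) := by
  have h1 : x ⊗ₜ[R₁] ((1 : R₁) ⊗ₜ[R] b) = (0 : R' ⊗[R₁] (R₁ ⊗[R] B)) := by
    apply EquivLike.injective e
    have h0 : x ⊗ₜ[R₁] ((1 : R₁) ⊗ₜ[R] b) = x • ((1 : R') ⊗ₜ[R₁] ((1 : R₁) ⊗ₜ[R] b)) := by
      rw [TensorProduct.smul_tmul', smul_eq_mul, mul_one]
    rw [h0, map_smul, map_zero, ← theta_apply, hx]
  have h2 := mem_map_ann_of_tmul_eq_zero R' ((1 : R₁) ⊗ₜ[R] b) x h1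
  have h3 : ann (R := R₁) ((1 : R₁) ⊗ₜ[R] b) ≤ Ideal.map (algebraMap R R₁) (ann (R := R) b) := by
    intro y hy
    rw [mem_ann, TensorProduct.smul_tmul', smul_eq_mul, mul_one] at hy
    exact mem_map_ann_of_tmul_eq_zero R₁ b y hy
  have h4 := Ideal.map_mono (f := algebraMap R₁ R') h3 h2
  rwa [Ideal.map_map] at h4

end Chart

section Conn

variable {R : Type u} [CommRing R] {B : Type u} [CommRing B] [HopfAlgebra R B]

/-- local-to-global: an element killed in every chart is zero. -/
lemma pow_mul_eq_zero_of_iota_eq_zero (f : R) {R' : Type u} [CommRing R']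
    [Algebra (Localization.Away f) R'] [Module.FaithfullyFlat (Localization.Away f) R'] (r : R)
    (h : iota R (Localization.Away f) R' r = 0) : ∃ n : ℕ, f ^ n * r = 0 := by
  have hinj : Function.Injective (algebraMap (Localization.Away f) R') :=
    FaithfulSMul.algebraMap_injective _ _
  rw [iota_apply, ← map_zero (algebraMap (Localization.Away f) R')] at h
  have h1 := hinj h
  rw [← map_zero (algebraMap R (Localization.Away f)),
    IsLocalization.eq_iff_exists (Submonoid.powers f)] at h1
  obtain ⟨⟨_, n, rfl⟩, hn⟩ := h1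
  exact ⟨n, by simpa using hn⟩

lemma pow_mul_mem_of_iota_mem (f : R) {R' : Type u} [CommRing R']
    [Algebra (Localization.Away f) R'] [Module.FaithfullyFlat (Localization.Away f) R'] (r : R)
    (J : Ideal R) (h : iota R (Localization.Away f) R' r ∈ Ideal.map (iota R (Localization.Away f) R') J) :
    ∃ n : ℕ, f ^ n * r ∈ J := by
  have h1 : algebraMap R (Localization.Away f) r ∈
      Ideal.map (algebraMap R (Localization.Away f)) J := by
    rw [← Ideal.comap_map_eq_self_of_faithfullyFlat (B := R')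
      (Ideal.map (algebraMap R (Localization.Away f)) J), Ideal.mem_comap, Ideal.map_map]
    exact h
  rw [IsLocalization.mem_map_algebraMap_iff (Submonoid.powers f)] at h1
  obtain ⟨⟨⟨a, ha⟩, ⟨_, n, rfl⟩⟩, h2⟩ := h1
  simp only at h2
  rw [← map_mul, IsLocalization.eq_iff_exists (Submonoid.powers f)] at h2
  obtain ⟨⟨_, k, rfl⟩, hk⟩ := h2
  simp only at hk
  refine ⟨k + n, ?_⟩
  have : f ^ (k + n) * r = f ^ k * a := by
    rw [pow_add, mul_assoc, mul_comm (f ^ n) r, hk]
  rw [this]
  exact J.mul_mem_left _ ha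

variable (s : Set R) (hs : Ideal.span s = ⊤)
  (hs' : ∀ f ∈ s, SGA3b.IsMultTypeConst (Localization.Away f) (Localization.Away f ⊗[R] B))
  (hconn : ∀ e : R, IsIdempotentElem e → e = 0 ∨ e = 1)
include hs hs' hconn

/-- Over a connected base, a group-like element `g ≠ 1` of a Hopf algebra of multiplicative type
has `g - 1` with zero annihilator. -/
lemma ann_eq_bot {g : B} (hg : IsGroupLikeElem R g) (hne : g ≠ 1) :
    ann (R := R) (g - 1) = ⊥ := by
  set a : Ideal R := ann (R := R) (g - 1) with ha
  -- the chart facts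
  have chart : ∀ f ∈ s, ∃ (R' : Type u) (_ : CommRing R') (_ : Algebra (Localization.Away f) R')
      (_ : Module.FaithfullyFlat (Localization.Away f) R') (c : R'),
      c ∈ Ideal.map (iota R (Localization.Away f) R') a ∧
      ∀ r ∈ a, iota R (Localization.Away f) R' r = iota R (Localization.Away f) R' r * c := by
    intro f hf
    obtain ⟨R', _, _, hff, P, _, ⟨e⟩⟩ := hs' f hf
    refine ⟨R', inferInstance, inferInstance, hff, (theta e g).coeff 1, ?_, ?_⟩
    · apply mem_map_ann_of_smul_theta e (g - 1)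
      rw [(theta e).map_sub, (theta e).map_one]
      exact coeff_one_smul_sub_one (theta_isGroupLikeElem e hg)
    · intro r hr
      apply eq_mul_coeff_one (γ := theta e g)
      rw [← (theta e).map_one, ← (theta e).map_sub, ← theta_smul, mem_ann.1 hr, (theta e).map_zero]
  have hfg : a.FG := by
    apply Ideal.fg_of_localizationSpan s hs
    rintro ⟨f, hf⟩
    obtain ⟨R', _, _, hff, c, hc, hc'⟩ := chart f hf
    apply Ideal.FG.of_FG_map_of_faithfullyFlat (S := R')
    rw [Ideal.map_map]
    have h1 : Ideal.map (iota R (Localization.Away f) R') a = Ideal.span {c} := by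
      apply le_antisymm
      · rw [Ideal.map_le_iff_le_comap]
        intro r hr
        rw [Ideal.mem_comap, hc' r hr]
        exact Ideal.mul_mem_left _ _ (Ideal.subset_span rfl)
      · rw [Ideal.span_le]
        intro x hx
        rw [Set.mem_singleton_iff.1 hx]
        exact hc
    change (Ideal.map (iota R (Localization.Away f) R') a).FG
    rw [h1]
    exact ⟨{c}, by simp⟩
  have hidem : IsIdempotentElem a := by
    apply le_antisymm Ideal.mul_le_right
    intro r hr
    apply Submodule.mem_of_span_eq_top_of_smul_pow_mem (a * a) s hs r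
    rintro ⟨f, hf⟩
    obtain ⟨R', _, _, hff, c, hc, hc'⟩ := chart f hf
    apply pow_mul_mem_of_iota_mem f (R' := R') r (a * a)
    rw [Ideal.map_mul, hc' r hr]
    exact Ideal.mul_mem_mul (Ideal.mem_map_of_mem _ hr) hc
  obtain ⟨e, he, hae⟩ := (Ideal.isIdempotentElem_iff_of_fg a hfg).1 hidem
  rcases hconn e he with h0 | h1
  · rw [hae, h0]
    simp
  · exfalso
    have : (1 : R) ∈ a := by
      rw [hae, h1]
      exact Ideal.subset_span rfl
    rw [ha, mem_ann, one_smul, sub_eq_zero] at this
    exact hne this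

/-- coefficient at `1` of a nontrivial group-like vanishes in every chart. -/
lemma coeff_one_theta_eq_zero {g : B} (hg : IsGroupLikeElem R g) (hne : g ≠ 1) (f : R)
    {R' : Type u} [CommRing R'] [Algebra (Localization.Away f) R']
    [Module.FaithfullyFlat (Localization.Away f) R'] {P : Type u} [CommGroup P]
    (e : R' ⊗[Localization.Away f] (Localization.Away f ⊗[R] B) ≃ₐc[R'] MonoidAlgebra R' P) :
    (theta e g).coeff 1 = 0 := by
  have h1 := mem_map_ann_of_smul_theta e (g - 1) ((theta e g).coeff 1) (by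
    rw [(theta e).map_sub, (theta e).map_one]
    exact coeff_one_smul_sub_one (theta_isGroupLikeElem e hg))
  rw [ann_eq_bot s hs hs' hconn hg hne, Ideal.map_bot] at h1
  exact h1

theorem lift_injective :
    Function.Injective (MonoidAlgebra.liftGroupLikeBialgHom (R := R) (A := B)) := by
  classical
  set lam := MonoidAlgebra.liftGroupLikeBialgHom (R := R) (A := B) with hlam
  have key : ∀ y : MonoidAlgebra R (GroupLike R B), lam y = 0 → y.coeff 1 = 0 := by
    intro y hy
    have h0 : y.coeff 1 ∈ (⊥ : Ideal R) := by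
      apply Submodule.mem_of_span_eq_top_of_smul_pow_mem ⊥ s hs
      rintro ⟨f, hf⟩
      obtain ⟨R', _, _, hff, P, _, ⟨e⟩⟩ := hs' f hf
      have h1 : ∀ z : MonoidAlgebra R (GroupLike R B),
          (theta e (lam z)).coeff 1 = iota R (Localization.Away f) R' (z.coeff 1) := by
        intro z
        induction z using MonoidAlgebra.induction_linear with
        | zero => simp
        | add a b ha hb =>
          rw [map_add, (theta e).map_add, MonoidAlgebra.coeff_add, Finsupp.add_apply, ha, hb,
            MonoidAlgebra.coeff_add, Finsupp.add_apply, map_add]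
        | single g r =>
          have h2 : lam (MonoidAlgebra.single g r) = r • g.val := by simp [hlam]
          rw [h2, theta_smul, MonoidAlgebra.coeff_smul, Finsupp.smul_apply, smul_eq_mul,
            MonoidAlgebra.coeff_single, Finsupp.single_apply]
          by_cases hg1 : g = 1
          · subst hg1
            rw [if_pos rfl, GroupLike.val_one, (theta e).map_one, MonoidAlgebra.one_def,
              MonoidAlgebra.coeff_single, Finsupp.single_apply, if_pos rfl, mul_one]
          · rw [coeff_one_theta_eq_zero s hs hs' hconn g.isGroupLikeElem_val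
              (fun h => hg1 (GroupLike.val_injective h)) f e, mul_zero, if_neg hg1, map_zero]
      have h2 := h1 y
      rw [hy, (theta e).map_zero, MonoidAlgebra.coeff_zero, Finsupp.zero_apply] at h2
      obtain ⟨n, hn⟩ := pow_mul_eq_zero_of_iota_eq_zero f (R' := R') _ h2.symm
      exact ⟨n, by rw [smul_eq_mul, hn]; exact Submodule.zero_mem _⟩
    simpa using h0
  rw [injective_iff_map_eq_zero]
  intro x hx
  apply MonoidAlgebra.coeff_injective
  ext h
  have h1 := key (x * MonoidAlgebra.single h⁻¹ 1) (by rw [map_mul, hx, zero_mul])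
  rw [MonoidAlgebra.coeff_mul_single_apply, inv_inv, one_mul, mul_one] at h1
  simpa using h1

/-- Over a connected base, a Hopf algebra of multiplicative type which is spanned by group-like
elements is diagonalisable. -/
theorem isDiag_of_surjective
    (hsurj : Function.Surjective (MonoidAlgebra.liftGroupLikeBialgHom (R := R) (A := B))) :
    SGA3b.IsDiag R B :=
  ⟨GroupLike R B, inferInstance,
    ⟨(BialgEquiv.ofBijective _ ⟨lift_injective s hs hs' hconn, hsurj⟩).symm⟩⟩

end Conn

theorem main (R : Type u) [CommRing R] (A : Type u) [CommRing A] [HopfAlgebra R A]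
    (hconn : ∀ e : R, IsIdempotentElem e → e = 0 ∨ e = 1)
    (hG : SGA3b.IsDiagFT R A) (J : Ideal A) [J.IsHopfIdeal R]
    (hH : SGA3b.IsMultType R (A ⧸ J)) : SGA3b.IsDiag R (A ⧸ J) := by
  obtain ⟨s, hs, hs'⟩ := hH
  apply isDiag_of_surjective s hs hs' hconn
  obtain ⟨M, _, _, ⟨e⟩⟩ := hG
  intro b
  obtain ⟨a, rfl⟩ := Ideal.Quotient.mk_surjective b
  obtain ⟨x, rfl⟩ := e.symm.surjective a
  set q : A →ₐc[R] A ⧸ J := Bialgebra.Quotient.mkBialgHom (R := R) J with hq
  change ∃ z, _ = q (e.symm x)
  induction x using MonoidAlgebra.induction_linear with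
  | zero => exact ⟨0, by simp⟩
  | add x y hx hy =>
    obtain ⟨x', hx'⟩ := hx
    obtain ⟨y', hy'⟩ := hy
    exact ⟨x' + y', by rw [map_add, hx', hy', map_add, map_add]⟩
  | single m r =>
    have hg : IsGroupLikeElem R (q (e.symm (MonoidAlgebra.single m (1 : R)))) :=
      ((MonoidAlgebra.isGroupLikeElem_single_one (R := R) (A := R) m).map e.symm).map q
    refine ⟨MonoidAlgebra.single ⟨_, hg⟩ r, ?_⟩
    have h1 : MonoidAlgebra.single m r = r • MonoidAlgebra.single m (1 : R) := by
      rw [MonoidAlgebra.smul_single, smul_eq_mul, mul_one]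
    rw [h1, map_smul, map_smul]
    simp

end Groth.Agent.Lib.Helper7.DiagSub
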