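import Mathlib

/-!
# Bialgebras/coalgebras with a basis of group-like elements: group-likes and nil ideals (helper7)
-/

set_option autoImplicit false

namespace Groth.Agent.Lib.Helper7.NilLift

open TensorProduct

section Basis

variable {S : Type*} [CommRing S] {H : Type*} [AddCommGroup H] [Module S H] [Coalgebra S H]
  {P : Type*} (b : Module.Basis P S H)

/-- the functional `x ⊗ y ↦ x_p y_q`. -/
noncomputable def ff (p q : P) : H ⊗[S] H →ₗ[S] S :=
  LinearMap.mul' S S ∘ₗ TensorProduct.map (b.coord p) (b.coord q)

@[simp] lemma ff_tmul (p q : P) (x y : H) : ff b p q (x ⊗ₜ y) = b.repr x p * b.repr y q := by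
  simp [ff]

lemma mem_of_mem_smul_top {X : Type*} [AddCommGroup X] [Module S X] (f : X →ₗ[S] S) (J : Ideal S)
    {x : X} (hx : x ∈ J • (⊤ : Submodule S X)) : f x ∈ J := by
  refine Submodule.smul_induction_on hx ?_ ?_
  · intro r hr a _
    rw [map_smul, smul_eq_mul]
    exact J.mul_mem_right _ hr
  · intro a c ha hc
    rw [map_add]
    exact J.add_mem ha hc

/-- a sum of group-likes against complete orthogonal idempotents is group-like. -/
lemma isGroupLikeElem_sum {ι : Type*} [Fintype ι] (e : ι → S) (he : CompleteOrthogonalIdempotents e)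
    (y : ι → H) (hy : ∀ i, IsGroupLikeElem S (y i)) :
    IsGroupLikeElem S (∑ i, e i • y i) := by
  classical
  refine ⟨?_, ?_⟩
  · rw [map_sum]
    simp only [map_smul, (hy _).counit_eq_one, smul_eq_mul, mul_one]
    exact he.complete
  · rw [map_sum, TensorProduct.sum_tmul]
    refine Finset.sum_congr rfl fun i _ => ?_
    rw [TensorProduct.tmul_sum, map_smul, (hy i).comul_eq_tmul_self]
    rw [Finset.sum_eq_single i]
    · rw [TensorProduct.smul_tmul_smul, (he.idem i).eq]
    · intro j _ hji
      rw [TensorProduct.smul_tmul_smul, he.ortho (Ne.symm hji), zero_smul]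
    · intro h; exact absurd (Finset.mem_univ i) h

variable (hb : ∀ p, IsGroupLikeElem S (b p))
include hb

lemma ff_comul [DecidableEq P] (p q : P) (x : H) :
    ff b p q (Coalgebra.comul (R := S) x) = if p = q then b.repr x p else 0 := by
  have h : ff b p q ∘ₗ (Coalgebra.comul (R := S) (A := H)) =
      if p = q then b.coord p else 0 := by
    apply b.ext
    intro r
    rw [LinearMap.comp_apply, (hb r).comul_eq_tmul_self, ff_tmul, Module.Basis.repr_self,
      Finsupp.single_apply, Finsupp.single_apply]
    split_ifs with h1 h2 h3 h3 h4 <;> simp_all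
  have := LinearMap.congr_fun h x
  rw [LinearMap.comp_apply] at this
  rw [this]
  split_ifs <;> simp

lemma counit_eq_sum (x : H) :
    Coalgebra.counit (R := S) x = ∑ p ∈ (b.repr x).support, b.repr x p := by
  conv_lhs => rw [← b.linearCombination_repr x, Finsupp.linearCombination_apply, Finsupp.sum,
    map_sum]
  refine Finset.sum_congr rfl fun p _ => ?_
  rw [map_smul, (hb p).counit_eq_one, smul_eq_mul, mul_one]

lemma repr_mul_self {z : H} (hz : IsGroupLikeElem S z) (p : P) :
    b.repr z p * b.repr z p = b.repr z p := by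
  classical
  have := ff_comul b hb p p z
  rwa [hz.comul_eq_tmul_self, ff_tmul, if_pos rfl] at this

lemma repr_mul_of_ne {z : H} (hz : IsGroupLikeElem S z) {p q : P} (hpq : p ≠ q) :
    b.repr z p * b.repr z q = 0 := by
  classical
  have := ff_comul b hb p q z
  rwa [hz.comul_eq_tmul_self, ff_tmul, if_neg hpq] at this

lemma sum_repr_eq_one {z : H} (hz : IsGroupLikeElem S z) :
    ∑ p ∈ (b.repr z).support, b.repr z p = 1 := by
  rw [← counit_eq_sum b hb, hz.counit_eq_one]

/-- uniqueness of group-like elements modulo a nil ideal. -/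
theorem eq_of_sub_mem {J : Ideal S} (hJ : ∀ x ∈ J, IsNilpotent x) {z z' : H}
    (hz : IsGroupLikeElem S z) (hz' : IsGroupLikeElem S z')
    (h : z - z' ∈ J • (⊤ : Submodule S H)) : z = z' := by
  apply b.ext_elem
  intro p
  have h1 : b.repr z p - b.repr z' p ∈ J := by
    have := mem_of_mem_smul_top (b.coord p) J h
    rwa [map_sub] at this
  exact eq_of_isNilpotent_sub_of_isIdempotentElem (repr_mul_self b hb hz p)
    (repr_mul_self b hb hz' p) (hJ _ h1)

/-- existence of group-like lifts modulo a nil ideal. -/
theorem exists_isGroupLikeElem_sub_mem {J : Ideal S} (hJ : ∀ x ∈ J, IsNilpotent x) (z₀ : H)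
    (h1 : Coalgebra.counit (R := S) z₀ - 1 ∈ J)
    (h2 : Coalgebra.comul (R := S) z₀ - z₀ ⊗ₜ[S] z₀ ∈ J • (⊤ : Submodule S (H ⊗[S] H))) :
    ∃ z : H, IsGroupLikeElem S z ∧ z - z₀ ∈ J • (⊤ : Submodule S H) := by
  classical
  set F := (b.repr z₀).support with hF
  set x : P → S := fun p => b.repr z₀ p with hx
  have hxx : ∀ p q, (if p = q then x p else 0) - x p * x q ∈ J := by
    intro p q
    have := mem_of_mem_smul_top (ff b p q) J h2
    rwa [map_sub, ff_comul b hb, ff_tmul] at this
  set π := Ideal.Quotient.mk J with hπ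
  have hcoi : CompleteOrthogonalIdempotents (fun p : F => π (x p)) := by
    refine ⟨⟨?_, ?_⟩, ?_⟩
    · intro p
      have := hxx p p
      rw [if_pos rfl] at this
      change π (x p) * π (x p) = π (x p)
      rw [← map_mul]
      exact ((Ideal.Quotient.mk_eq_mk_iff_sub_mem _ _).2 this).symm
    · intro p q hpq
      have hne : (p : P) ≠ q := fun h => hpq (Subtype.ext h)
      have := hxx p q
      rw [if_neg hne, zero_sub, neg_mem_iff] at this
      change π (x p) * π (x q) = 0
      rw [← map_mul]
      exact Ideal.Quotient.eq_zero_iff_mem.2 this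
    · rw [← map_sum, Finset.sum_coe_sort F x]
      have : ∑ p ∈ F, x p = Coalgebra.counit (R := S) z₀ := (counit_eq_sum b hb z₀).symm
      rw [this, ← map_one π]
      exact (Ideal.Quotient.mk_eq_mk_iff_sub_mem _ _).2 h1
  obtain ⟨e', he', hcomp⟩ := CompleteOrthogonalIdempotents.lift_of_isNilpotent_ker π
    (by intro y hy; rw [Ideal.mk_ker] at hy; exact hJ y hy) hcoi (fun p => ⟨x p, rfl⟩)
  refine ⟨∑ p : F, e' p • b p, isGroupLikeElem_sum e' he' _ (fun p => hb p), ?_⟩
  have hz₀ : z₀ = ∑ p : F, x p • b p := by
    conv_lhs => rw [← b.linearCombination_repr z₀, Finsupp.linearCombination_apply, Finsupp.sum]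
    exact (Finset.sum_coe_sort F (fun p => x p • b p)).symm
  have key : ∑ p : F, e' p • b p - z₀ = ∑ p : F, (e' p - x p) • b p := by
    conv_lhs => rw [hz₀]
    rw [← Finset.sum_sub_distrib]
    refine Finset.sum_congr rfl fun p _ => ?_
    rw [sub_smul]
  rw [key]
  refine Submodule.sum_mem _ fun p _ => ?_
  refine Submodule.smul_mem_smul ?_ Submodule.mem_top
  have := congrFun hcomp p
  rw [Function.comp_apply] at this
  exact (Ideal.Quotient.mk_eq_mk_iff_sub_mem _ _).1 this

end Basis


section Bij

variable {S : Type*} [CommRing S] {H : Type*} [AddCommGroup H] [Module S H] [Coalgebra S H]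
  {P : Type*} (b : Module.Basis P S H)
  {H' : Type*} [AddCommGroup H'] [Module S H'] [Coalgebra S H']
  {P' : Type*} (b' : Module.Basis P' S H') (hb' : ∀ p, IsGroupLikeElem S (b' p))
  (ψ : H →ₗc[S] H') (hb : ∀ p, IsGroupLikeElem S (b p))
include hb' hb

/-- A coalgebra map between coalgebras with bases of group-likes which is "bijective modulo a nil
ideal" (in a weak sense) is bijective. -/
theorem bijective_of_mod_nil {J : Ideal S} (hJ : ∀ x ∈ J, IsNilpotent x)
    (hinj : ∀ p q : P, p ≠ q → ∀ ε : S, IsIdempotentElem ε → ε • (ψ (b p) - ψ (b q)) = 0 → ε = 0)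
    (hsurj : ∀ p' : P', ∃ x₀ : H, b' p' - ψ x₀ ∈ J • (⊤ : Submodule S H')) :
    Function.Bijective ψ := by
  classical
  set ε : P → P' → S := fun p p' => b'.repr (ψ (b p)) p' with hε
  have hgl : ∀ p, IsGroupLikeElem S (ψ (b p)) := fun p => (hb p).map ψ
  have hidem : ∀ p p', ε p p' * ε p p' = ε p p' := fun p p' => repr_mul_self b' hb' (hgl p) p'
  have hcol : ∀ p p' q', p' ≠ q' → ε p p' * ε p q' = 0 :=
    fun p p' q' h => repr_mul_of_ne b' hb' (hgl p) h
  have hsum : ∀ p, ∑ p' ∈ (b'.repr (ψ (b p))).support, ε p p' = 1 :=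
    fun p => sum_repr_eq_one b' hb' (hgl p)
  -- orthogonality in the first index
  have horth : ∀ p q p', p ≠ q → ε p p' * ε q p' = 0 := by
    intro p q p' hpq
    apply hinj p q hpq
    · change (ε p p' * ε q p') * (ε p p' * ε q p') = ε p p' * ε q p'
      calc (ε p p' * ε q p') * (ε p p' * ε q p') = (ε p p' * ε p p') * (ε q p' * ε q p') := by ring
        _ = ε p p' * ε q p' := by rw [hidem, hidem]
    · apply b'.ext_elem
      intro r'
      rw [map_smul, map_sub, Finsupp.smul_apply, Finsupp.sub_apply, map_zero, Finsupp.zero_apply,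
        smul_eq_mul]
      change ε p p' * ε q p' * (ε p r' - ε q r') = 0
      by_cases hr : p' = r'
      · subst hr
        calc ε p p' * ε q p' * (ε p p' - ε q p') =
            (ε p p' * ε p p') * ε q p' - ε p p' * (ε q p' * ε q p') := by ring
          _ = 0 := by rw [hidem, hidem, sub_self]
      · calc ε p p' * ε q p' * (ε p r' - ε q r') =
            ε q p' * (ε p p' * ε p r') - ε p p' * (ε q p' * ε q r') := by ring
          _ = 0 := by rw [hcol p p' r' hr, hcol q p' r' hr, mul_zero, mul_zero, sub_self]
  constructor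
  · -- injectivity
    rw [← LinearMap.coe_coe, ← LinearMap.ker_eq_bot, LinearMap.ker_eq_bot']
    intro x hx
    apply b.ext_elem
    intro q
    rw [map_zero, Finsupp.zero_apply]
    have hx' : ∀ p', ∑ p ∈ (b.repr x).support, b.repr x p * ε p p' = 0 := by
      intro p'
      have h1 : ψ x = ∑ p ∈ (b.repr x).support, b.repr x p • ψ (b p) := by
        conv_lhs => rw [← b.linearCombination_repr x, Finsupp.linearCombination_apply,
          Finsupp.sum, map_sum]
        simp only [map_smul]
      have h2 := congrArg (fun y => b'.repr y p') h1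
      simp only [LinearMap.coe_coe] at hx
      rw [hx] at h2
      simp only [map_zero, Finsupp.zero_apply, map_sum, map_smul, Finsupp.coe_finsetSum,
        Finset.sum_apply, Finsupp.smul_apply, smul_eq_mul] at h2
      exact h2.symm
    by_cases hq : q ∈ (b.repr x).support
    · have h3 : ∀ p', b.repr x q * ε q p' = 0 := by
        intro p'
        have h4 := congrArg (fun y => y * ε q p') (hx' p')
        simp only [zero_mul, Finset.sum_mul] at h4
        rw [Finset.sum_eq_single q] at h4
        · rw [mul_assoc, hidem] at h4; exact h4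
        · intro p _ hpq
          rw [mul_assoc, horth p q p' hpq, mul_zero]
        · intro h; exact absurd hq h
      calc b.repr x q = b.repr x q * ∑ p' ∈ (b'.repr (ψ (b q))).support, ε q p' := by
            rw [hsum, mul_one]
        _ = 0 := by
            rw [Finset.mul_sum]
            exact Finset.sum_eq_zero fun p' _ => h3 p'
    · simpa using hq
  · -- surjectivity
    have hrange : ∀ p', b' p' ∈ LinearMap.range (ψ : H →ₗ[S] H') := by
      intro p'
      obtain ⟨x₀, hx₀⟩ := hsurj p'
      set F := (b.repr x₀).support with hF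
      set c : P → S := fun p => b.repr x₀ p with hc
      set E := ∑ p ∈ F, ε p p' with hE
      have h1 : 1 - ∑ p ∈ F, c p * ε p p' ∈ J := by
        have h2 := mem_of_mem_smul_top (b'.coord p') J hx₀
        have h3 : ψ x₀ = ∑ p ∈ F, c p • ψ (b p) := by
          conv_lhs => rw [← b.linearCombination_repr x₀, Finsupp.linearCombination_apply,
            Finsupp.sum, map_sum]
          simp only [map_smul]
          rfl
        rw [map_sub, h3, map_sum] at h2
        simp only [map_smul, Module.Basis.coord_apply, Module.Basis.repr_self,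
          Finsupp.single_eq_same, smul_eq_mul] at h2
        exact h2
      have hEε : ∀ p ∈ F, E * ε p p' = ε p p' := by
        intro p hp
        rw [hE, Finset.sum_mul, Finset.sum_eq_single p]
        · exact hidem p p'
        · intro q _ hqp
          exact horth q p p' hqp
        · intro h; exact absurd hp h
      have hEidem : E * E = E := by
        conv_lhs => rw [hE, Finset.mul_sum]
        rw [hE]
        exact Finset.sum_congr rfl fun p hp => hEε p hp
      have h4 : (1 - E) * (1 - ∑ p ∈ F, c p * ε p p') = 1 - E := by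
        have : (1 - E) * ∑ p ∈ F, c p * ε p p' = 0 := by
          rw [Finset.mul_sum]
          refine Finset.sum_eq_zero fun p hp => ?_
          calc (1 - E) * (c p * ε p p') = c p * (ε p p' - E * ε p p') := by ring
            _ = 0 := by rw [hEε p hp, sub_self, mul_zero]
        rw [mul_sub, mul_one, this, sub_zero]
      have h5 : 1 - E ∈ J := by
        rw [← h4]
        exact J.mul_mem_left _ h1
      have h6 : IsIdempotentElem (1 - E) := by
        change (1 - E) * (1 - E) = 1 - E
        calc (1 - E) * (1 - E) = 1 - E - E + E * E := by ring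
          _ = 1 - E := by rw [hEidem]; ring
      have h7 : 1 - E = 0 := by
        obtain ⟨n, hn⟩ := hJ _ h5
        rcases Nat.eq_zero_or_pos n with rfl | hn0
        · rw [pow_zero] at hn
          have : (1 - E) = (1 - E) * 1 := (mul_one _).symm
          rw [this, hn, mul_zero]
        · rw [h6.pow_eq hn0.ne'] at hn
          exact hn
      have hE1 : E = 1 := by
        have := sub_eq_zero.1 h7
        exact this.symm
      refine ⟨∑ p ∈ F, ε p p' • b p, ?_⟩
      apply b'.ext_elem
      intro r'
      rw [LinearMap.coe_coe, map_sum]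
      simp only [map_smul, map_sum, Finsupp.coe_finsetSum, Finset.sum_apply, Finsupp.smul_apply,
        smul_eq_mul, Module.Basis.repr_self, Finsupp.single_apply]
      change ∑ p ∈ F, ε p p' * ε p r' = _
      split_ifs with hr
      · subst hr
        rw [← hE1, hE]
        exact Finset.sum_congr rfl fun p _ => hidem p p'
      · exact Finset.sum_eq_zero fun p _ => hcol p p' r' hr
    intro y
    have : (⊤ : Submodule S H') ≤ LinearMap.range (ψ : H →ₗ[S] H') := by
      rw [← b'.span_eq, Submodule.span_le]
      rintro _ ⟨p', rfl⟩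
      exact hrange p'
    exact this Submodule.mem_top

end Bij

end Groth.Agent.Lib.Helper7.NilLift
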