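import Mathlib
import Groth.Agent.Lib.Helper7.NilLift1
import Groth.Agent.Lib.Helper7.CancelBC
import Groth.Agent.Lib.Helper7.DiagSub

/-!
# Group-like elements of base changes `C ⊗[R] A` (helper7)
-/

set_option autoImplicit false

namespace Groth.Agent.Lib.Helper7.NilLift

open TensorProduct Groth.Agent.Lib.Helper7.BCR Groth.Agent.Lib.Helper7.CancelBC

universe u

section BC

variable {R : Type u} [CommRing R] {A : Type u} [CommRing A] [Bialgebra R A]

/-- functoriality of group-likes in the base ring. -/
lemma isGroupLikeElem_map {C D : Type u} [CommRing C] [Algebra R C] [CommRing D] [Algebra R D]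
    (ρ : C →ₐ[R] D) {z : C ⊗[R] A} (hz : IsGroupLikeElem C z) :
    IsGroupLikeElem D (Algebra.TensorProduct.map ρ (AlgHom.id R A) z) := by
  let _ : Algebra C D := ρ.toRingHom.toAlgebra
  have : IsScalarTower R C D := IsScalarTower.of_algebraMap_eq (fun r => (ρ.commutes r).symm)
  have h2 : ∀ z : C ⊗[R] A,
      cancelBC R C D A ((1 : D) ⊗ₜ[C] z) = Algebra.TensorProduct.map ρ (AlgHom.id R A) z := by
    intro z
    induction z using TensorProduct.induction_on with
    | zero => simp
    | add x y hx hy => rw [TensorProduct.tmul_add, map_add, hx, hy, map_add]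
    | tmul c a =>
      rw [cancelBC_tmul, Algebra.TensorProduct.map_tmul, AlgHom.id_apply, Algebra.smul_def, mul_one]
      rfl
  have h1 := (DiagSub.isGroupLikeElem_one_tmul D hz).map (cancelBC R C D A)
  rwa [h2] at h1

/-- a chart (basis of group-likes) over `T` gives one over every `T`-algebra `D`. -/
lemma exists_basis_of_chart {T : Type u} [CommRing T] [Algebra R T] {P : Type u}
    (b : Module.Basis P T (T ⊗[R] A)) (hb : ∀ p, IsGroupLikeElem T (b p))
    (D : Type u) [CommRing D] [Algebra R D] [Algebra T D] [IsScalarTower R T D] :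
    ∃ b' : Module.Basis P D (D ⊗[R] A), ∀ p, IsGroupLikeElem D (b' p) := by
  refine ⟨(Algebra.TensorProduct.basis D b).map (cancelBC R T D A).toLinearEquiv, ?_⟩
  intro p
  rw [Module.Basis.map_apply, Algebra.TensorProduct.basis_apply]
  exact (DiagSub.isGroupLikeElem_one_tmul D (hb p)).map (cancelBC R T D A)

lemma bcPair_eq_distrib {K : Type u} [CommRing K] [Algebra R K] (x : K) (d : A ⊗[R] A) :
    bcPair x d = AlgebraTensorModule.distribBaseChange R K A A (x ⊗ₜ[R] d) := by
  induction d using TensorProduct.induction_on with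
  | zero => simp
  | add d e hd he => rw [bcPair_add, hd, he, TensorProduct.tmul_add, map_add]
  | tmul a c =>
    rw [bcPair_tmul, AlgebraTensorModule.distribBaseChange_tmul]
    have h1 : (x ⊗ₜ[R] a : K ⊗[R] A) = x • ((1 : K) ⊗ₜ[R] a) := by
      rw [TensorProduct.smul_tmul', smul_eq_mul, mul_one]
    have h2 : (x ⊗ₜ[R] c : K ⊗[R] A) = x • ((1 : K) ⊗ₜ[R] c) := by
      rw [TensorProduct.smul_tmul', smul_eq_mul, mul_one]
    rw [h1, h2, TensorProduct.smul_tmul]

lemma comul_eq_distrib {K : Type u} [CommRing K] [Algebra R K] (z : K ⊗[R] A) :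
    Coalgebra.comul (R := K) z = AlgebraTensorModule.distribBaseChange R K A A
      (LinearMap.lTensor K (Coalgebra.comul (R := R) (A := A)) z) := by
  induction z using TensorProduct.induction_on with
  | zero => simp
  | add x y hx hy => rw [map_add, hx, hy, map_add, map_add]
  | tmul x a => rw [comul_tmul_eq, bcPair_eq_distrib, LinearMap.lTensor_tmul]

lemma one_tmul_tmul_one_tmul {K : Type u} [CommRing K] [Algebra R K] (a c : A) :
    ((1 : K) ⊗ₜ[R] a) ⊗ₜ[K] ((1 : K) ⊗ₜ[R] c) =
      AlgebraTensorModule.distribBaseChange R K A A ((1 : K) ⊗ₜ[R] (a ⊗ₜ[R] c)) := by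
  rw [AlgebraTensorModule.distribBaseChange_tmul]

/-- group-likeness of `1 ⊗ g` in elementary terms. -/
lemma isGroupLikeElem_one_tmul_iff {K : Type u} [CommRing K] [Algebra R K] (g : A) :
    IsGroupLikeElem K ((1 : K) ⊗ₜ[R] g : K ⊗[R] A) ↔
      algebraMap R K (Coalgebra.counit (R := R) g - 1) = 0 ∧
      (1 : K) ⊗ₜ[R] (Coalgebra.comul (R := R) g - g ⊗ₜ[R] g) = 0 := by
  rw [isGroupLikeElem_iff]
  refine and_congr ?_ ?_
  · rw [TensorProduct.counit_tmul, CommSemiring.counit_apply, map_sub, map_one, sub_eq_zero,
      Algebra.smul_def, mul_one]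
  · rw [comul_eq_distrib, one_tmul_tmul_one_tmul, LinearMap.lTensor_tmul,
      (AlgebraTensorModule.distribBaseChange R K A A).injective.eq_iff, TensorProduct.tmul_sub,
      sub_eq_zero]

/-- the defect of `1 ⊗ a` from being group-like. -/
lemma comul_one_tmul_sub {K : Type u} [CommRing K] [Algebra R K] (a : A) :
    Coalgebra.comul (R := K) ((1 : K) ⊗ₜ[R] a : K ⊗[R] A) -
        ((1 : K) ⊗ₜ[R] a) ⊗ₜ[K] ((1 : K) ⊗ₜ[R] a) =
      AlgebraTensorModule.distribBaseChange R K A A
        ((1 : K) ⊗ₜ[R] (Coalgebra.comul (R := R) a - a ⊗ₜ[R] a)) := by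
  rw [comul_eq_distrib, one_tmul_tmul_one_tmul, LinearMap.lTensor_tmul, ← map_sub,
    ← TensorProduct.tmul_sub]

end BC


section Family

variable {R : Type u} [CommRing R] {ι : Type u} (T : ι → Type u)
  [∀ i, CommRing (T i)] [∀ i, Algebra R (T i)]

variable (R) in
/-- joint faithfulness of a family of `R`-algebras. -/
def JointlyFaithful : Prop :=
  ∀ (N : Type u) [AddCommGroup N] [Module R N], (∀ i, Subsingleton (T i ⊗[R] N)) → Subsingleton N

variable {T} [∀ i, Module.Flat R (T i)] (hT : JointlyFaithful R T)
include hT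

lemma eq_zero_of_forall_tmul {V : Type u} [AddCommGroup V] [Module R V] (v : V)
    (h : ∀ i, (1 : T i) ⊗ₜ[R] v = 0) : v = 0 := by
  set N : Submodule R V := Submodule.span R {v} with hN
  have hv : v ∈ N := Submodule.mem_span_singleton_self v
  have hsub : Subsingleton N := by
    apply hT N
    intro i
    have hinj : Function.Injective (LinearMap.lTensor (T i) N.subtype) :=
      Module.Flat.lTensor_preserves_injective_linearMap _ N.injective_subtype
    have h0 : (1 : T i) ⊗ₜ[R] (⟨v, hv⟩ : N) = 0 := by
      apply hinj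
      rw [LinearMap.lTensor_tmul, map_zero]
      exact h i
    refine ⟨fun x y => ?_⟩
    have key : ∀ w : T i ⊗[R] N, w = 0 := by
      intro w
      induction w using TensorProduct.induction_on with
      | zero => rfl
      | add x y hx hy => rw [hx, hy, add_zero]
      | tmul t n =>
        obtain ⟨r, hr⟩ := Submodule.mem_span_singleton.1 n.2
        have : n = r • (⟨v, hv⟩ : N) := Subtype.ext hr.symm
        rw [this, TensorProduct.tmul_smul, ← mul_one t, ← smul_eq_mul, ← TensorProduct.smul_tmul',
          h0, smul_zero, smul_zero]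
    rw [key x, key y]
  have : (⟨v, hv⟩ : N) = 0 := Subsingleton.elim _ _
  exact congrArg Subtype.val this

lemma mem_range_of_forall {N P : Type u} [AddCommGroup N] [Module R N] [AddCommGroup P]
    [Module R P] (f : N →ₗ[R] P) (y : P)
    (h : ∀ i, (1 : T i) ⊗ₜ[R] y ∈ LinearMap.range (LinearMap.lTensor (T i) f)) :
    y ∈ LinearMap.range f := by
  have hex : Function.Exact f (LinearMap.range f).mkQ := by
    intro p
    rw [Submodule.mkQ_apply, Submodule.Quotient.mk_eq_zero]
    rfl
  have h1 : (LinearMap.range f).mkQ y = 0 := by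
    apply eq_zero_of_forall_tmul hT
    intro i
    have hex' := lTensor_exact (T i) hex (Submodule.mkQ_surjective _)
    have h0 := (hex' _).mpr (h i)
    rwa [LinearMap.lTensor_tmul] at h0
  rwa [Submodule.mkQ_apply, Submodule.Quotient.mk_eq_zero] at h1

lemma injective_of_forall {N P : Type u} [AddCommGroup N] [Module R N] [AddCommGroup P]
    [Module R P] (f : N →ₗ[R] P)
    (h : ∀ i, Function.Injective (LinearMap.lTensor (T i) f)) : Function.Injective f := by
  rw [← LinearMap.ker_eq_bot, LinearMap.ker_eq_bot']
  intro v hv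
  apply eq_zero_of_forall_tmul hT
  intro i
  apply h i
  rw [LinearMap.lTensor_tmul, hv, TensorProduct.tmul_zero, map_zero]

lemma surjective_of_forall {N P : Type u} [AddCommGroup N] [Module R N] [AddCommGroup P]
    [Module R P] (f : N →ₗ[R] P)
    (h : ∀ i, Function.Surjective (LinearMap.lTensor (T i) f)) : Function.Surjective f := by
  intro y
  exact mem_range_of_forall hT f y (fun i => h i _)

/-- the equalizer (sheaf) property for a jointly faithfully flat finite family. -/
lemma exists_of_compat [Fintype ι] {V : Type u} [AddCommGroup V] [Module R V]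
    (z : ∀ i, T i ⊗[R] V)
    (h : ∀ i j, LinearMap.lTensor (T i) (TensorProduct.mk R (T j) V 1) (z i) =
      (1 : T i) ⊗ₜ[R] (z j)) :
    ∃ v : V, ∀ i, (1 : T i) ⊗ₜ[R] v = z i := by
  classical
  set J : V →ₗ[R] (∀ j, T j ⊗[R] V) := LinearMap.pi (fun j => TensorProduct.mk R (T j) V 1) with hJ
  have hmem : z ∈ LinearMap.range J := by
    apply mem_range_of_forall hT J z
    intro k
    refine ⟨z k, ?_⟩
    apply (TensorProduct.piRight R R (T k) (fun j => T j ⊗[R] V)).injective
    funext j
    have h1 : ∀ w : T k ⊗[R] V,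
        TensorProduct.piRight R R (T k) (fun j => T j ⊗[R] V) (LinearMap.lTensor (T k) J w) j =
          LinearMap.lTensor (T k) (TensorProduct.mk R (T j) V 1) w := by
      intro w
      induction w using TensorProduct.induction_on with
      | zero => simp
      | add x y hx hy => simp only [map_add, Pi.add_apply, hx, hy]
      | tmul t v =>
        rw [LinearMap.lTensor_tmul, TensorProduct.piRight_apply, TensorProduct.piRightHom_tmul,
          LinearMap.lTensor_tmul]
        rfl
    rw [h1, h k j, TensorProduct.piRight_apply, TensorProduct.piRightHom_tmul]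
  obtain ⟨v, hv⟩ := hmem
  refine ⟨v, fun i => ?_⟩
  have := congrFun hv i
  exact this

end Family


section Charts

variable (R : Type u) [CommRing R] (A : Type u) [CommRing A] [HopfAlgebra R A]

/-- a flat `R`-algebra over which `A` acquires a basis of group-like elements. -/
structure Chart where
  T : Type u
  [instCR : CommRing T]
  [instAlg : Algebra R T]
  flat : Module.Flat R T
  P : Type u
  b : Module.Basis P T (T ⊗[R] A)
  hb : ∀ p, IsGroupLikeElem T (b p)

attribute [instance] Chart.instCR Chart.instAlg

instance (c : Chart R A) : Module.Flat R c.T := c.flat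

lemma exists_chart_of_const (f : R)
    (h : SGA3b.IsMultTypeConst (Localization.Away f) (Localization.Away f ⊗[R] A)) :
    ∃ c : Chart R A, ∀ (N : Type u) [AddCommGroup N] [Module R N],
      Subsingleton (c.T ⊗[R] N) → Subsingleton (Localization.Away f ⊗[R] N) := by
  obtain ⟨R', _, _, hff, P, _, ⟨e⟩⟩ := h
  let _ : Algebra R R' :=
    ((algebraMap (Localization.Away f) R').comp (algebraMap R (Localization.Away f))).toAlgebra
  have : IsScalarTower R (Localization.Away f) R' := IsScalarTower.of_algebraMap_eq (fun _ => rfl)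
  have : Module.Flat R R' := Module.Flat.trans R (Localization.Away f) R'
  refine ⟨{ T := R', flat := inferInstance, P := P,
            b := (MonoidAlgebra.basis P R').map
              (e.symm.toLinearEquiv.trans (cancelBC R (Localization.Away f) R' A).toLinearEquiv),
            hb := ?_ }, ?_⟩
  · intro p
    rw [Module.Basis.map_apply, MonoidAlgebra.basis_apply]
    exact ((MonoidAlgebra.isGroupLikeElem_single_one (R := R') (A := R') p).map e.symm).map
      (cancelBC R (Localization.Away f) R' A)
  · intro N _ _ hN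
    change Subsingleton (R' ⊗[R] N) at hN
    have h1 : Subsingleton (R' ⊗[Localization.Away f] (Localization.Away f ⊗[R] N)) :=
      (AlgebraTensorModule.cancelBaseChange R (Localization.Away f) R' R' N).injective.subsingleton
    exact Module.FaithfullyFlat.lTensor_reflects_triviality (Localization.Away f) R' _

variable {R A}

theorem exists_family (h : SGA3b.IsMultType R A) :
    ∃ (ι : Type u) (_ : Fintype ι) (c : ι → Chart R A), JointlyFaithful R (fun i => (c i).T) := by
  obtain ⟨s, hs, hs'⟩ := h
  obtain ⟨s₀, hs₀s, hs₀⟩ := (Ideal.span_eq_top_iff_finite s).1 hs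
  have hc : ∀ i : (s₀ : Set R), ∃ c : Chart R A, ∀ (N : Type u) [AddCommGroup N] [Module R N],
      Subsingleton (c.T ⊗[R] N) → Subsingleton (Localization.Away i.1 ⊗[R] N) :=
    fun i => exists_chart_of_const R A i.1 (hs' i.1 (hs₀s i.2))
  choose c hc' using hc
  refine ⟨(s₀ : Set R), inferInstance, c, ?_⟩
  intro N _ _ hN
  refine ⟨fun x y => ?_⟩
  have key : ∀ v : N, v = 0 := by
    intro v
    apply MultDesc.eq_zero_of_cover (s₀ : Set R) hs₀ v
    intro f hf
    have := hc' ⟨f, hf⟩ N (hN ⟨f, hf⟩)
    exact Subsingleton.elim _ _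
  rw [key x, key y]

end Charts

end Groth.Agent.Lib.Helper7.NilLift
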