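import Mathlib
import Groth.Agent.Lib.Helper7.NilLift2

/-!
# From a basis of group-likes to a diagonalisation over a localisation at an idempotent (helper7)
-/

set_option autoImplicit false

namespace Groth.Agent.Lib.Helper7.IsoTr

open TensorProduct Groth.Agent.Lib.Helper7.BCR Groth.Agent.Lib.Helper7.CancelBC
  Groth.Agent.Lib.Helper7.NilLift

universe u

/-- choose a nonzero idempotent on which finitely many given idempotents are `0` or `1`. -/
lemma exists_idem {T : Type*} [CommRing T] [Nontrivial T] (L : Finset T)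
    (hL : ∀ x ∈ L, IsIdempotentElem x) :
    ∃ e : T, IsIdempotentElem e ∧ e ≠ 0 ∧ ∀ x ∈ L, x * e = e ∨ x * e = 0 := by
  classical
  induction L using Finset.induction_on with
  | empty => exact ⟨1, IsIdempotentElem.one, one_ne_zero, by simp⟩
  | insert a L ha ih =>
    obtain ⟨e, he, he0, hLe⟩ := ih (fun x hx => hL x (Finset.mem_insert_of_mem hx))
    have haI : IsIdempotentElem a := hL a (Finset.mem_insert_self a L)
    by_cases h : a * e = 0
    · refine ⟨e, he, he0, fun x hx => ?_⟩
      rcases Finset.mem_insert.1 hx with rfl | hx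
      · exact Or.inr h
      · exact hLe x hx
    · refine ⟨a * e, haI.mul he, h, fun x hx => ?_⟩
      rcases Finset.mem_insert.1 hx with rfl | hx
      · left
        rw [← mul_assoc, haI.eq]
      · rcases hLe x hx with h1 | h1
        · left
          rw [mul_left_comm, h1]
        · right
          rw [mul_left_comm, h1, mul_zero]

section BC

variable {R : Type u} [CommRing R] {A : Type u} [CommRing A] [Bialgebra R A]
  {T : Type u} [CommRing T] [Algebra R T]
  (D : Type u) [CommRing D] [Algebra R D] [Algebra T D] [IsScalarTower R T D]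

/-- the map `T ⊗ A → D ⊗ A`. -/
noncomputable abbrev bcMap : T ⊗[R] A →ₐ[R] D ⊗[R] A :=
  Algebra.TensorProduct.map (IsScalarTower.toAlgHom R T D) (AlgHom.id R A)

lemma cancelBC_one_tmul (z : T ⊗[R] A) :
    cancelBC R T D A ((1 : D) ⊗ₜ[T] z) = bcMap D z := by
  induction z using TensorProduct.induction_on with
  | zero => simp
  | add x y hx hy => rw [TensorProduct.tmul_add, map_add, hx, hy, map_add]
  | tmul c a =>
    rw [cancelBC_tmul, Algebra.TensorProduct.map_tmul, AlgHom.id_apply, Algebra.smul_def, mul_one]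
    rfl

lemma bcMap_smul (t : T) (w : T ⊗[R] A) :
    bcMap D (t • w) = algebraMap T D t • bcMap (A := A) D w := by
  induction w using TensorProduct.induction_on with
  | zero => simp
  | add x y hx hy => rw [smul_add, map_add, hx, hy, map_add, smul_add]
  | tmul c a =>
    rw [TensorProduct.smul_tmul', Algebra.TensorProduct.map_tmul, Algebra.TensorProduct.map_tmul,
      TensorProduct.smul_tmul', smul_eq_mul, map_mul, smul_eq_mul]
    rfl

variable {P : Type*} (b : Module.Basis P T (T ⊗[R] A))

/-- base change of a basis. -/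
noncomputable def bcBasis : Module.Basis P D (D ⊗[R] A) :=
  (Algebra.TensorProduct.basis D b).map (cancelBC R T D A).toLinearEquiv

lemma bcBasis_apply (p : P) : bcBasis D b p = bcMap D (b p) := by
  rw [bcBasis, Module.Basis.map_apply, Algebra.TensorProduct.basis_apply]
  exact cancelBC_one_tmul D (b p)

lemma isGroupLikeElem_bcBasis (hb : ∀ p, IsGroupLikeElem T (b p)) (p : P) :
    IsGroupLikeElem D (bcBasis D b p) := by
  rw [bcBasis_apply]
  exact isGroupLikeElem_map _ (hb p)

end BC


section Diag

variable {R : Type u} [CommRing R] {A : Type u} [CommRing A] [HopfAlgebra R A]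
  {T : Type u} [CommRing T] [Algebra R T]
  (D : Type u) [CommRing D] [Algebra R D] [Algebra T D] [IsScalarTower R T D] [Nontrivial D]
  {n : ℕ} (b : Module.Basis (Fin n) T (T ⊗[R] A)) (hb : ∀ p, IsGroupLikeElem T (b p))
include hb

lemma exists_bcMap_eq {z : T ⊗[R] A} (hz : IsGroupLikeElem T z)
    (h01 : ∀ k, algebraMap T D (b.repr z k) = 0 ∨ algebraMap T D (b.repr z k) = 1) :
    ∃ k, bcMap D z = bcBasis D b k := by
  classical
  set b' := bcBasis D b with hb'
  have hb'gl : ∀ p, IsGroupLikeElem D (b' p) := isGroupLikeElem_bcBasis D b hb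
  set c : Fin n → D := fun k => algebraMap T D (b.repr z k) with hc
  have h1 : bcMap D z = ∑ k, c k • b' k := by
    conv_lhs => rw [← b.sum_repr z, map_sum]
    refine Finset.sum_congr rfl fun k _ => ?_
    rw [bcMap_smul, hb', bcBasis_apply]
  have hgl : IsGroupLikeElem D (bcMap D z) := isGroupLikeElem_map _ hz
  have hrepr : ∀ k, b'.repr (bcMap D z) k = c k := by
    intro k
    rw [h1, Module.Basis.repr_sum_self]
  have hsum := sum_repr_eq_one b' hb'gl hgl
  obtain ⟨k₀, hk₀⟩ : ∃ k₀, c k₀ = 1 := by
    by_contra hne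
    push Not at hne
    have h0 : ∀ k, c k = 0 := fun k => (h01 k).resolve_right (hne k)
    have : (∑ p ∈ (b'.repr (bcMap D z)).support, b'.repr (bcMap D z) p) = 0 := by
      refine Finset.sum_eq_zero fun p _ => ?_
      rw [hrepr, h0]
    rw [this] at hsum
    exact zero_ne_one hsum
  refine ⟨k₀, ?_⟩
  rw [h1, Finset.sum_eq_single k₀]
  · rw [hk₀, one_smul]
  · intro k _ hk
    have := repr_mul_of_ne b' hb'gl hgl hk
    rw [hrepr, hrepr, hk₀, mul_one] at this
    rw [this, zero_smul]
  · intro h; exact absurd (Finset.mem_univ k₀) h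

/-- If the structure constants of the basis of group-likes become `0` or `1` over `D`, then
`D ⊗ A` is diagonalisable. -/
theorem isDiag_of_basis
    (h1 : ∀ k, algebraMap T D (b.repr 1 k) = 0 ∨ algebraMap T D (b.repr 1 k) = 1)
    (h2 : ∀ i j k, algebraMap T D (b.repr (b i * b j) k) = 0 ∨
      algebraMap T D (b.repr (b i * b j) k) = 1)
    (h3 : ∀ i k, algebraMap T D (b.repr (HopfAlgebra.antipode T (b i)) k) = 0 ∨
      algebraMap T D (b.repr (HopfAlgebra.antipode T (b i)) k) = 1) :
    SGA3b.IsDiag D (D ⊗[R] A) := by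
  classical
  set b' := bcBasis D b with hb'
  have hb'gl : ∀ p, IsGroupLikeElem D (b' p) := isGroupLikeElem_bcBasis D b hb
  have hone : ∃ k, (1 : D ⊗[R] A) = b' k := by
    obtain ⟨k, hk⟩ := exists_bcMap_eq D b hb IsGroupLikeElem.one h1
    exact ⟨k, by rw [← hk, map_one]⟩
  have hmul : ∀ i j, ∃ k, b' i * b' j = b' k := by
    intro i j
    obtain ⟨k, hk⟩ := exists_bcMap_eq D b hb ((hb i).mul (hb j)) (h2 i j)
    exact ⟨k, by rw [← hk, map_mul, hb', bcBasis_apply, bcBasis_apply]⟩
  have hinv : ∀ i, ∃ k, b' i * b' k = 1 := by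
    intro i
    obtain ⟨k, hk⟩ := exists_bcMap_eq D b hb (hb i).antipode (h3 i)
    refine ⟨k, ?_⟩
    rw [← hk, hb', bcBasis_apply, ← map_mul, (hb i).mul_antipode_cancel, map_one]
  let g : Fin n → GroupLike D (D ⊗[R] A) := fun k => ⟨b' k, hb'gl k⟩
  let M : Subgroup (GroupLike D (D ⊗[R] A)) :=
    { carrier := Set.range g
      mul_mem' := by
        rintro _ _ ⟨i, rfl⟩ ⟨j, rfl⟩
        obtain ⟨k, hk⟩ := hmul i j
        exact ⟨k, GroupLike.val_injective hk.symm⟩
      one_mem' := by
        obtain ⟨k, hk⟩ := hone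
        exact ⟨k, GroupLike.val_injective hk.symm⟩
      inv_mem' := by
        rintro _ ⟨i, rfl⟩
        obtain ⟨k, hk⟩ := hinv i
        refine ⟨k, ?_⟩
        symm
        apply inv_eq_of_mul_eq_one_right
        exact GroupLike.val_injective hk }
  have hginj : Function.Injective g := by
    intro i j hij
    exact b'.injective (congrArg GroupLike.val hij)
  let σ : Fin n ≃ M := Equiv.ofBijective (fun k => ⟨g k, ⟨k, rfl⟩⟩)
    ⟨fun i j hij => hginj (congrArg Subtype.val hij), by
      rintro ⟨_, ⟨k, rfl⟩⟩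
      exact ⟨k, rfl⟩⟩
  set φ : MonoidAlgebra D M →ₐc[D] D ⊗[R] A :=
    (MonoidAlgebra.liftGroupLikeBialgHom (R := D) (A := D ⊗[R] A)).comp
      (MonoidAlgebra.mapDomainBialgHom D M.subtype) with hφ
  have hφs : ∀ m : M, φ (MonoidAlgebra.single m 1) = (m : GroupLike D (D ⊗[R] A)).val := by
    intro m
    simp [hφ]
  have hσ : ∀ m : M, b' (σ.symm m) = (m : GroupLike D (D ⊗[R] A)).val := by
    intro m
    have : σ (σ.symm m) = m := σ.apply_symm_apply m
    exact congrArg (fun x : M => (x : GroupLike D (D ⊗[R] A)).val) this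
  have heq : ((φ : MonoidAlgebra D M →ₐ[D] D ⊗[R] A).toLinearMap) =
      ((MonoidAlgebra.basis M D).equiv b' σ.symm).toLinearMap := by
    apply (MonoidAlgebra.basis M D).ext
    intro m
    rw [LinearEquiv.coe_coe, Module.Basis.equiv_apply, MonoidAlgebra.basis_apply, hσ]
    exact hφs m
  have hbij : Function.Bijective φ := by
    have := ((MonoidAlgebra.basis M D).equiv b' σ.symm).bijective
    have h' : (φ : MonoidAlgebra D M → D ⊗[R] A) = ((MonoidAlgebra.basis M D).equiv b' σ.symm) := by
      funext x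
      exact LinearMap.congr_fun heq x
    rw [h']
    exact this
  exact ⟨M, inferInstance, ⟨(BialgEquiv.ofBijective φ hbij).symm⟩⟩

end Diag

end Groth.Agent.Lib.Helper7.IsoTr
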