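import Mathlib
import Groth.Agent.Lib.Helper7.NilLift2

/-!
# Lifting group-like elements of Hopf algebras of multiplicative type along nil ideals (helper7)
-/

set_option autoImplicit false

namespace Groth.Agent.Lib.Helper7.NilLift

open TensorProduct Groth.Agent.Lib.Helper7.BCR Groth.Agent.Lib.Helper7.CancelBC

universe u

section General

variable {R : Type*} [CommRing R]

lemma isNilpotent_of_mem_map {I : Ideal R} (hI : ∀ x ∈ I, IsNilpotent x) {T : Type*} [CommRing T]
    (φ : R →+* T) : ∀ y ∈ I.map φ, IsNilpotent y := by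
  have h1 : I.map φ ≤ nilradical T := by
    rw [Ideal.map_le_iff_le_comap]
    intro x hx
    rw [Ideal.mem_comap, mem_nilradical]
    exact (hI x hx).map φ
  intro y hy
  exact mem_nilradical.1 (h1 hy)

/-- `I • ⊤` over `R` and over an `R`-algebra `T` agree. -/
lemma mem_smul_top_iff (I : Ideal R) {T : Type*} [CommRing T] [Algebra R T] {X : Type*}
    [AddCommGroup X] [Module R X] [Module T X] [IsScalarTower R T X] (x : X) :
    x ∈ I • (⊤ : Submodule R X) ↔ x ∈ (I.map (algebraMap R T)) • (⊤ : Submodule T X) := by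
  constructor
  · intro hx
    refine Submodule.smul_induction_on hx ?_ ?_
    · intro r hr a _
      rw [← algebraMap_smul T r a]
      exact Submodule.smul_mem_smul (Ideal.mem_map_of_mem _ hr) Submodule.mem_top
    · intro a b ha hb
      exact add_mem ha hb
  · intro hx
    refine Submodule.smul_induction_on hx ?_ ?_
    · intro s hs a _
      have key : ∀ a : X, s • a ∈ I • (⊤ : Submodule R X) := by
        rw [Ideal.map] at hs
        induction hs using Submodule.span_induction with
        | mem s hs =>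
          obtain ⟨r, hr, rfl⟩ := hs
          intro a
          rw [algebraMap_smul]
          exact Submodule.smul_mem_smul hr Submodule.mem_top
        | zero => intro a; rw [zero_smul]; exact zero_mem _
        | add s s' _ _ h1 h2 => intro a; rw [add_smul]; exact add_mem (h1 a) (h2 a)
        | smul t s _ h1 => intro a; rw [smul_eq_mul, mul_comm, mul_smul]; exact h1 _
      exact key a
    · intro a b ha hb
      exact add_mem ha hb

lemma tmul_mem_smul_top (I : Ideal R) (T : Type*) [CommRing T] [Algebra R T] {V : Type*}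
    [AddCommGroup V] [Module R V] {d : V} (hd : d ∈ I • (⊤ : Submodule R V)) (t : T) :
    t ⊗ₜ[R] d ∈ I • (⊤ : Submodule R (T ⊗[R] V)) := by
  refine Submodule.smul_induction_on hd ?_ ?_
  · intro r hr a _
    rw [TensorProduct.tmul_smul]
    exact Submodule.smul_mem_smul hr Submodule.mem_top
  · intro a b ha hb
    rw [TensorProduct.tmul_add]
    exact add_mem ha hb

lemma lTensor_mkQ_eq_zero (I : Ideal R) (T : Type*) [CommRing T] [Algebra R T] {V : Type*}
    [AddCommGroup V] [Module R V] {x : T ⊗[R] V} (hx : x ∈ I • (⊤ : Submodule R (T ⊗[R] V))) :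
    LinearMap.lTensor T (I • (⊤ : Submodule R V)).mkQ x = 0 := by
  have key : ∀ r ∈ I, ∀ y : T ⊗[R] (V ⧸ (I • (⊤ : Submodule R V))), r • y = 0 := by
    intro r hr y
    induction y using TensorProduct.induction_on with
    | zero => simp
    | add a b ha hb => rw [smul_add, ha, hb, add_zero]
    | tmul t v =>
      obtain ⟨v, rfl⟩ := Submodule.Quotient.mk_surjective _ v
      rw [← TensorProduct.tmul_smul, ← Submodule.Quotient.mk_smul,
        (Submodule.Quotient.mk_eq_zero _).2 (Submodule.smul_mem_smul hr Submodule.mem_top),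
        TensorProduct.tmul_zero]
  refine Submodule.smul_induction_on hx ?_ ?_
  · intro r hr a _
    rw [map_smul]
    exact key r hr _
  · intro a b ha hb
    rw [map_add, ha, hb, add_zero]

end General

section Main

variable {R : Type u} [CommRing R] {A : Type u} [CommRing A] [HopfAlgebra R A]
  {ι : Type u} [Fintype ι] (c : ι → Chart R A) (hT : JointlyFaithful R (fun i => (c i).T))
  {I : Ideal R} (hI : ∀ x ∈ I, IsNilpotent x)
include hT hI

omit [Fintype ι] in
/-- uniqueness of group-like elements modulo a nil ideal, multiplicative type. -/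
theorem eq_of_isGroupLikeElem {g g' : A} (hg : IsGroupLikeElem R g) (hg' : IsGroupLikeElem R g')
    (h : g - g' ∈ I • (⊤ : Submodule R A)) : g = g' := by
  rw [← sub_eq_zero]
  apply eq_zero_of_forall_tmul hT
  intro i
  rw [TensorProduct.tmul_sub, sub_eq_zero]
  refine eq_of_sub_mem (c i).b (c i).hb (isNilpotent_of_mem_map hI (algebraMap R (c i).T))
    (DiagSub.isGroupLikeElem_one_tmul (c i).T hg) (DiagSub.isGroupLikeElem_one_tmul (c i).T hg') ?_
  rw [← TensorProduct.tmul_sub, ← mem_smul_top_iff]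
  exact tmul_mem_smul_top I _ h 1


omit [Fintype ι] hT in
lemma compat_aux (i j : ι) (a₀ : A) {zi : (c i).T ⊗[R] A} {zj : (c j).T ⊗[R] A}
    (hzi : IsGroupLikeElem (c i).T zi) (hzj : IsGroupLikeElem (c j).T zj)
    (hi : zi - (1 : (c i).T) ⊗ₜ[R] a₀ ∈ I • (⊤ : Submodule R ((c i).T ⊗[R] A)))
    (hj : zj - (1 : (c j).T) ⊗ₜ[R] a₀ ∈ I • (⊤ : Submodule R ((c j).T ⊗[R] A))) :
    LinearMap.lTensor (c i).T (TensorProduct.mk R (c j).T A 1) zi = (1 : (c i).T) ⊗ₜ[R] zj := by
  obtain ⟨bD, hbD⟩ := exists_basis_of_chart (c i).b (c i).hb ((c i).T ⊗[R] (c j).T)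
  set ρ₁ : (c i).T →ₐ[R] (c i).T ⊗[R] (c j).T := Algebra.TensorProduct.includeLeft with hρ₁
  set ρ₂ : (c j).T →ₐ[R] (c i).T ⊗[R] (c j).T := Algebra.TensorProduct.includeRight with hρ₂
  set u := Algebra.TensorProduct.map ρ₁ (AlgHom.id R A) zi with hu
  set v := Algebra.TensorProduct.map ρ₂ (AlgHom.id R A) zj with hv
  have hgu : IsGroupLikeElem ((c i).T ⊗[R] (c j).T) u := isGroupLikeElem_map ρ₁ hzi
  have hgv : IsGroupLikeElem ((c i).T ⊗[R] (c j).T) v := isGroupLikeElem_map ρ₂ hzj
  have huv : u = v := by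
    refine eq_of_sub_mem bD hbD (isNilpotent_of_mem_map hI (algebraMap R _)) hgu hgv ?_
    rw [← mem_smul_top_iff I]
    have e1 : u - v = (Algebra.TensorProduct.map ρ₁ (AlgHom.id R A)).toLinearMap
          (zi - (1 : (c i).T) ⊗ₜ[R] a₀) -
        (Algebra.TensorProduct.map ρ₂ (AlgHom.id R A)).toLinearMap
          (zj - (1 : (c j).T) ⊗ₜ[R] a₀) := by
      rw [map_sub, map_sub, AlgHom.toLinearMap_apply, AlgHom.toLinearMap_apply,
        AlgHom.toLinearMap_apply, AlgHom.toLinearMap_apply, Algebra.TensorProduct.map_tmul,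
        Algebra.TensorProduct.map_tmul, map_one, map_one]
      abel
    rw [e1]
    exact sub_mem (MultDesc.map_mem_smul_top _ I hi) (MultDesc.map_mem_smul_top _ I hj)
  have hα1 : ∀ w : (c i).T ⊗[R] A,
      TensorProduct.assoc R (c i).T (c j).T A (Algebra.TensorProduct.map ρ₁ (AlgHom.id R A) w) =
        LinearMap.lTensor (c i).T (TensorProduct.mk R (c j).T A 1) w := by
    intro w
    induction w using TensorProduct.induction_on with
    | zero => simp
    | add x y hx hy => rw [map_add, map_add, hx, hy, map_add]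
    | tmul t a =>
      rw [Algebra.TensorProduct.map_tmul, LinearMap.lTensor_tmul]
      rfl
  have hα2 : ∀ w : (c j).T ⊗[R] A,
      TensorProduct.assoc R (c i).T (c j).T A (Algebra.TensorProduct.map ρ₂ (AlgHom.id R A) w) =
        (1 : (c i).T) ⊗ₜ[R] w := by
    intro w
    induction w using TensorProduct.induction_on with
    | zero => simp
    | add x y hx hy => rw [map_add, map_add, hx, hy, TensorProduct.tmul_add]
    | tmul t a =>
      rw [Algebra.TensorProduct.map_tmul]
      rfl
  rw [← hα1, ← hα2]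
  exact congrArg _ huv

/-- existence of group-like lifts modulo a nil ideal, multiplicative type. -/
theorem exists_isGroupLikeElem (a₀ : A) (h1 : Coalgebra.counit (R := R) a₀ - 1 ∈ I)
    (h2 : Coalgebra.comul (R := R) a₀ - a₀ ⊗ₜ[R] a₀ ∈ I • (⊤ : Submodule R (A ⊗[R] A))) :
    ∃ g : A, IsGroupLikeElem R g ∧ g - a₀ ∈ I • (⊤ : Submodule R A) := by
  have hloc : ∀ i, ∃ z : (c i).T ⊗[R] A, IsGroupLikeElem (c i).T z ∧
      z - (1 : (c i).T) ⊗ₜ[R] a₀ ∈ I • (⊤ : Submodule R ((c i).T ⊗[R] A)) := by
    intro i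
    have k1 : Coalgebra.counit (R := (c i).T) ((1 : (c i).T) ⊗ₜ[R] a₀) - 1 ∈
        I.map (algebraMap R (c i).T) := by
      rw [TensorProduct.counit_tmul, CommSemiring.counit_apply, Algebra.smul_def, mul_one,
        ← map_one (algebraMap R (c i).T), ← map_sub]
      exact Ideal.mem_map_of_mem _ h1
    have k2 : Coalgebra.comul (R := (c i).T) ((1 : (c i).T) ⊗ₜ[R] a₀) -
        ((1 : (c i).T) ⊗ₜ[R] a₀) ⊗ₜ[(c i).T] ((1 : (c i).T) ⊗ₜ[R] a₀) ∈
        I.map (algebraMap R (c i).T) •
          (⊤ : Submodule (c i).T (((c i).T ⊗[R] A) ⊗[(c i).T] ((c i).T ⊗[R] A))) := by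
      rw [comul_one_tmul_sub]
      exact MultDesc.map_mem_smul_top
        (AlgebraTensorModule.distribBaseChange R (c i).T A A).toLinearMap _
        ((mem_smul_top_iff I _).1 (tmul_mem_smul_top I _ h2 1))
    obtain ⟨z, hz, hz'⟩ := exists_isGroupLikeElem_sub_mem (c i).b (c i).hb
      (isNilpotent_of_mem_map hI (algebraMap R (c i).T)) ((1 : (c i).T) ⊗ₜ[R] a₀) k1 k2
    exact ⟨z, hz, (mem_smul_top_iff I _).2 hz'⟩
  choose z hz hz' using hloc
  obtain ⟨g, hg⟩ := exists_of_compat hT z
    (fun i j => compat_aux c hI i j a₀ (hz i) (hz j) (hz' i) (hz' j))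
  have hgl : ∀ i, IsGroupLikeElem (c i).T ((1 : (c i).T) ⊗ₜ[R] g) := fun i => by
    rw [hg i]; exact hz i
  refine ⟨g, ⟨?_, ?_⟩, ?_⟩
  · rw [← sub_eq_zero]
    apply eq_zero_of_forall_tmul hT
    intro i
    have := ((isGroupLikeElem_one_tmul_iff g).1 (hgl i)).1
    have e1 : (1 : (c i).T) ⊗ₜ[R] (Coalgebra.counit (R := R) g - 1) =
        (algebraMap R (c i).T (Coalgebra.counit (R := R) g - 1)) ⊗ₜ[R] (1 : R) := by
      conv_lhs => rw [← mul_one (Coalgebra.counit (R := R) g - 1), ← smul_eq_mul,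
        TensorProduct.tmul_smul, TensorProduct.smul_tmul', Algebra.smul_def, mul_one]
    rw [e1, this, TensorProduct.zero_tmul]
  · rw [← sub_eq_zero]
    apply eq_zero_of_forall_tmul hT
    intro i
    exact ((isGroupLikeElem_one_tmul_iff g).1 (hgl i)).2
  · have h3 : (I • (⊤ : Submodule R A)).mkQ (g - a₀) = 0 := by
      apply eq_zero_of_forall_tmul hT
      intro i
      have h4 := lTensor_mkQ_eq_zero I (c i).T (hz' i)
      rwa [← hg i, ← TensorProduct.tmul_sub, LinearMap.lTensor_tmul] at h4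
    rwa [Submodule.mkQ_apply, Submodule.Quotient.mk_eq_zero] at h3

end Main

end Groth.Agent.Lib.Helper7.NilLift
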