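import Mathlib
import Groth.Agent.Lib.Helper7.NilLift3

/-!
# A group of multiplicative type which is diagonalisable modulo a nil ideal is diagonalisable
(helper7)
-/

set_option autoImplicit false

namespace Groth.Agent.Lib.Helper7.NilLift

open TensorProduct Groth.Agent.Lib.Helper7.BCR Groth.Agent.Lib.Helper7.CancelBC

universe u

section Main

variable {R : Type u} [CommRing R] {A : Type u} [CommRing A] [HopfAlgebra R A]
  {ι : Type u} [Fintype ι] (c : ι → Chart R A) (hT : JointlyFaithful R (fun i => (c i).T))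
  {I : Ideal R} (hI : ∀ x ∈ I, IsNilpotent x)
include hT hI

theorem isDiag_of_family {M : Type u} [CommGroup M]
    (e₀ : (R ⧸ I) ⊗[R] A ≃ₐc[R ⧸ I] MonoidAlgebra (R ⧸ I) M) : SGA3b.IsDiag R A := by
  classical
  have hsurj0 : ∀ y : (R ⧸ I) ⊗[R] A, ∃ a : A, (1 : R ⧸ I) ⊗ₜ[R] a = y := by
    intro y
    induction y using TensorProduct.induction_on with
    | zero => exact ⟨0, TensorProduct.tmul_zero _ _⟩
    | add x y hx hy =>
      obtain ⟨a, rfl⟩ := hx
      obtain ⟨a', rfl⟩ := hy
      exact ⟨a + a', TensorProduct.tmul_add _ _ _⟩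
    | tmul r a =>
      obtain ⟨r, rfl⟩ := Ideal.Quotient.mk_surjective r
      refine ⟨r • a, ?_⟩
      rw [TensorProduct.tmul_smul, TensorProduct.smul_tmul']
      congr 1
      rw [Algebra.smul_def, mul_one]
      rfl
  set gb : M → (R ⧸ I) ⊗[R] A := fun m => e₀.symm (MonoidAlgebra.single m 1) with hgb
  have hgbl : ∀ m, IsGroupLikeElem (R ⧸ I) (gb m) := fun m =>
    (MonoidAlgebra.isGroupLikeElem_single_one (R := R ⧸ I) (A := R ⧸ I) m).map e₀.symm
  have hex : ∀ m, ∃ g : A, IsGroupLikeElem R g ∧ (1 : R ⧸ I) ⊗ₜ[R] g = gb m := by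
    intro m
    obtain ⟨a₀, ha₀⟩ := hsurj0 (gb m)
    have h1 := hgbl m
    rw [← ha₀, isGroupLikeElem_one_tmul_iff] at h1
    obtain ⟨g, hg, hg'⟩ := exists_isGroupLikeElem c hT hI a₀
      (Ideal.Quotient.eq_zero_iff_mem.1 h1.1) (MultDesc.mem_smul_top_of_one_tmul_eq_zero I h1.2)
    refine ⟨g, hg, ?_⟩
    have h2 := MultDesc.one_tmul_eq_zero_of_mem_smul_top I hg'
    rw [TensorProduct.tmul_sub, sub_eq_zero] at h2
    rw [h2, ha₀]
  have huniq : ∀ g g' : A, IsGroupLikeElem R g → IsGroupLikeElem R g' →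
      (1 : R ⧸ I) ⊗ₜ[R] g = (1 : R ⧸ I) ⊗ₜ[R] g' → g = g' := by
    intro g g' hg hg' h
    apply eq_of_isGroupLikeElem c hT hI hg hg'
    apply MultDesc.mem_smul_top_of_one_tmul_eq_zero I
    rw [TensorProduct.tmul_sub, h, sub_self]
  choose g hg hg1 using hex
  let γ : M →* GroupLike R A :=
    { toFun := fun m => ⟨g m, hg m⟩
      map_one' := by
        apply GroupLike.val_injective
        apply huniq _ _ (hg 1) IsGroupLikeElem.one
        change (1 : R ⧸ I) ⊗ₜ[R] g 1 = (1 : R ⧸ I) ⊗ₜ[R] (1 : A)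
        rw [hg1 1, hgb]
        change e₀.symm (1 : MonoidAlgebra (R ⧸ I) M) = _
        rw [map_one]
        rfl
      map_mul' := by
        intro m m'
        apply GroupLike.val_injective
        apply huniq _ _ (hg (m * m')) ((hg m).mul (hg m'))
        have : (1 : R ⧸ I) ⊗ₜ[R] (g m * g m') =
            ((1 : R ⧸ I) ⊗ₜ[R] g m) * ((1 : R ⧸ I) ⊗ₜ[R] g m') := by
          rw [Algebra.TensorProduct.tmul_mul_tmul, mul_one]
        rw [this, hg1, hg1, hg1, hgb]
        simp only
        rw [← map_mul, MonoidAlgebra.single_mul_single, mul_one] }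
  set φ : MonoidAlgebra R M →ₐc[R] A :=
    (MonoidAlgebra.liftGroupLikeBialgHom (R := R) (A := A)).comp
      (MonoidAlgebra.mapDomainBialgHom R γ) with hφ
  have hφs : ∀ (m : M) (r : R), φ (MonoidAlgebra.single m r) = r • g m := by
    intro m r
    simp [hφ, γ]
  -- surjectivity modulo I
  have hA : ∀ a : A, ∃ x : MonoidAlgebra R M, a - φ x ∈ I • (⊤ : Submodule R A) := by
    have h1 : ∀ w : MonoidAlgebra (R ⧸ I) M, ∃ x : MonoidAlgebra R M,
        (1 : R ⧸ I) ⊗ₜ[R] φ x = e₀.symm w := by
      intro w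
      induction w using MonoidAlgebra.induction_linear with
      | zero => exact ⟨0, by rw [map_zero, map_zero, TensorProduct.tmul_zero]⟩
      | add a b ha hb =>
        obtain ⟨x, hx⟩ := ha
        obtain ⟨y, hy⟩ := hb
        exact ⟨x + y, by rw [map_add, map_add, TensorProduct.tmul_add, hx, hy]⟩
      | single m r =>
        obtain ⟨r, rfl⟩ := Ideal.Quotient.mk_surjective r
        refine ⟨MonoidAlgebra.single m r, ?_⟩
        rw [hφs, TensorProduct.tmul_smul, hg1, ← algebraMap_smul (R ⧸ I) r (gb m), hgb]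
        simp only
        rw [← map_smul, MonoidAlgebra.smul_single, smul_eq_mul, mul_one]
        rfl
    intro a
    obtain ⟨x, hx⟩ := h1 (e₀ ((1 : R ⧸ I) ⊗ₜ[R] a))
    refine ⟨x, ?_⟩
    apply MultDesc.mem_smul_top_of_one_tmul_eq_zero I
    rw [TensorProduct.tmul_sub, hx, BialgEquiv.symm_apply_apply, sub_self]
  -- injectivity modulo I
  have hB : ∀ m n : M, m ≠ n → DiagSub.ann (R := R) (g m - g n) ≤ I := by
    intro m n hmn r hr
    rw [DiagSub.mem_ann] at hr
    have h1 : (1 : R ⧸ I) ⊗ₜ[R] (r • (g m - g n)) = 0 := by rw [hr, TensorProduct.tmul_zero]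
    rw [TensorProduct.tmul_smul, TensorProduct.tmul_sub, hg1, hg1,
      ← algebraMap_smul (R ⧸ I) r (gb m - gb n), hgb] at h1
    simp only at h1
    have h2 := congrArg e₀ h1
    rw [map_smul, map_sub, BialgEquiv.apply_symm_apply, BialgEquiv.apply_symm_apply, map_zero] at h2
    have h3 := congrArg (fun y : MonoidAlgebra (R ⧸ I) M => y.coeff m) h2
    simp only [MonoidAlgebra.coeff_smul, MonoidAlgebra.coeff_sub, Finsupp.smul_apply,
      Finsupp.sub_apply, MonoidAlgebra.coeff_single, Finsupp.single_apply,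
      if_neg (Ne.symm hmn), sub_zero, smul_eq_mul, MonoidAlgebra.coeff_zero,
      Finsupp.zero_apply] at h3
    rw [if_pos trivial, mul_one] at h3
    exact Ideal.Quotient.eq_zero_iff_mem.1 h3
  -- local bijectivity
  have hloc : ∀ i, Function.Bijective
      (LinearMap.lTensor (c i).T ((φ : MonoidAlgebra R M →ₐ[R] A).toLinearMap)) := by
    intro i
    set ψ : (c i).T ⊗[R] MonoidAlgebra R M →ₐc[(c i).T] (c i).T ⊗[R] A :=
      Bialgebra.TensorProduct.map (BialgHom.id (c i).T (c i).T) φ with hψ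
    have hψt : ∀ (t : (c i).T) (x : MonoidAlgebra R M), ψ (t ⊗ₜ[R] x) = t ⊗ₜ[R] φ x :=
      fun t x => rfl
    have hψeq : ∀ w, LinearMap.lTensor (c i).T ((φ : MonoidAlgebra R M →ₐ[R] A).toLinearMap) w =
        ψ w := by
      intro w
      induction w using TensorProduct.induction_on with
      | zero => simp
      | add x y hx hy => rw [map_add, map_add, hx, hy]
      | tmul t x => rw [hψt, LinearMap.lTensor_tmul]; rfl
    set b := Algebra.TensorProduct.basis (c i).T (MonoidAlgebra.basis M R) with hb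
    have hbm : ∀ m, b m = (1 : (c i).T) ⊗ₜ[R] MonoidAlgebra.single m (1 : R) := by
      intro m
      rw [hb, Algebra.TensorProduct.basis_apply, MonoidAlgebra.basis_apply]
    have hbgl : ∀ m, IsGroupLikeElem (c i).T (b m) := by
      intro m
      rw [hbm]
      exact DiagSub.isGroupLikeElem_one_tmul (c i).T
        (MonoidAlgebra.isGroupLikeElem_single_one (R := R) (A := R) m)
    have hψb : ∀ m, ψ (b m) = (1 : (c i).T) ⊗ₜ[R] g m := by
      intro m
      rw [hbm, hψt, hφs, one_smul]
    have hbij : Function.Bijective ψ.toCoalgHom := by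
      refine bijective_of_mod_nil b (c i).b (c i).hb ψ.toCoalgHom hbgl
        (isNilpotent_of_mem_map hI (algebraMap R (c i).T)) ?_ ?_
      · intro m n hmn ε hε h
        change ε • (ψ (b m) - ψ (b n)) = 0 at h
        rw [hψb, hψb, ← TensorProduct.tmul_sub, TensorProduct.smul_tmul', smul_eq_mul, mul_one] at h
        have h1 := DiagSub.mem_map_ann_of_tmul_eq_zero (c i).T (g m - g n) ε h
        have h2 := Ideal.map_mono (f := algebraMap R (c i).T) (hB m n hmn) h1
        exact hε.eq_zero_of_isNilpotent (isNilpotent_of_mem_map hI _ _ h2)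
      · intro p'
        have h1 : ∀ y : (c i).T ⊗[R] A, ∃ x₀ : (c i).T ⊗[R] MonoidAlgebra R M,
            y - ψ x₀ ∈ I • (⊤ : Submodule R ((c i).T ⊗[R] A)) := by
          intro y
          induction y using TensorProduct.induction_on with
          | zero => exact ⟨0, by rw [map_zero, sub_zero]; exact zero_mem _⟩
          | add x y hx hy =>
            obtain ⟨x₀, hx₀⟩ := hx
            obtain ⟨y₀, hy₀⟩ := hy
            refine ⟨x₀ + y₀, ?_⟩
            rw [map_add, add_sub_add_comm]
            exact add_mem hx₀ hy₀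
          | tmul t a =>
            obtain ⟨x, hx⟩ := hA a
            refine ⟨t ⊗ₜ[R] x, ?_⟩
            rw [hψt, ← TensorProduct.tmul_sub]
            exact tmul_mem_smul_top I _ hx t
        obtain ⟨x₀, hx₀⟩ := h1 ((c i).b p')
        exact ⟨x₀, (mem_smul_top_iff I _).1 hx₀⟩
    constructor
    · intro w w' h
      rw [hψeq, hψeq] at h
      exact hbij.1 h
    · intro y
      obtain ⟨w, hw⟩ := hbij.2 y
      exact ⟨w, by rw [hψeq]; exact hw⟩
  have hbij : Function.Bijective φ := by
    constructor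
    · exact injective_of_forall hT ((φ : MonoidAlgebra R M →ₐ[R] A).toLinearMap)
        (fun i => (hloc i).1)
    · exact surjective_of_forall hT ((φ : MonoidAlgebra R M →ₐ[R] A).toLinearMap)
        (fun i => (hloc i).2)
  exact ⟨M, inferInstance, ⟨(BialgEquiv.ofBijective φ hbij).symm⟩⟩

end Main

end Groth.Agent.Lib.Helper7.NilLift
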