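import Mathlib
import Groth.Agent.Lib.Helper7.NilLift5
import Groth.Agent.Lib.Helper7.IsoTr3

/-!
# Base change of charts of a group of multiplicative type (helper7)
-/

set_option autoImplicit false

namespace Groth.Agent.Lib.Helper7.NilLift

open TensorProduct Groth.Agent.Lib.Helper7.BCR Groth.Agent.Lib.Helper7.CancelBC
  Groth.Agent.Lib.Helper7.IsoTr

universe u

section ChartBC

variable {R : Type u} [CommRing R] {A : Type u} [CommRing A] [HopfAlgebra R A]
  (R' : Type u) [CommRing R'] [Algebra R R'] {A' : Type u} [CommRing A'] [HopfAlgebra R' A']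
  (e : A' ≃ₐc[R'] R' ⊗[R] A)

attribute [local instance] Algebra.TensorProduct.rightAlgebra

/-- the linear equivalence `D ⊗[R'] A' ≃ D ⊗[R] A`. -/
noncomputable def chartEquiv (D : Type u) [CommRing D] [Algebra R D] [Algebra R' D]
    [IsScalarTower R R' D] : D ⊗[R'] A' ≃ₗ[D] D ⊗[R] A :=
  (TensorProduct.AlgebraTensorModule.congr (LinearEquiv.refl D D) e.toLinearEquiv).trans
    (cancelBC R R' D A).toLinearEquiv

lemma congr_symm_apply (D : Type u) [CommRing D] [Algebra R D] [Algebra R' D]
    [IsScalarTower R R' D] (w : D ⊗[R'] (R' ⊗[R] A)) :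
    (TensorProduct.AlgebraTensorModule.congr (LinearEquiv.refl D D) e.toLinearEquiv).symm w =
      Bialgebra.TensorProduct.map (BialgHom.id D D) (e.symm : R' ⊗[R] A →ₐc[R'] A') w := by
  induction w using TensorProduct.induction_on with
  | zero => simp
  | add x y hx hy => rw [map_add, map_add, hx, hy]
  | tmul d z => rfl

lemma chartEquiv_symm_apply (D : Type u) [CommRing D] [Algebra R D] [Algebra R' D]
    [IsScalarTower R R' D] (y : D ⊗[R] A) :
    (chartEquiv R' e D).symm y =
      Bialgebra.TensorProduct.map (BialgHom.id D D) (e.symm : R' ⊗[R] A →ₐc[R'] A')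
        ((cancelBC R R' D A).symm y) := by
  unfold chartEquiv
  rw [LinearEquiv.trans_symm, LinearEquiv.trans_apply, congr_symm_apply]
  rfl

/-- base change of a chart. -/
noncomputable def Chart.baseChange (c : Chart R A) : Chart R' A' where
  T := R' ⊗[R] c.T
  flat := inferInstance
  P := c.P
  b := (bcBasis (R' ⊗[R] c.T) c.b).map (chartEquiv R' e (R' ⊗[R] c.T)).symm
  hb := by
    intro p
    rw [Module.Basis.map_apply, chartEquiv_symm_apply]
    exact ((isGroupLikeElem_bcBasis (R' ⊗[R] c.T) c.b c.hb p).map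
      (cancelBC R R' (R' ⊗[R] c.T) A).symm).map _

lemma Chart.baseChange_T (c : Chart R A) : (Chart.baseChange R' e c).T = (R' ⊗[R] c.T) := rfl

omit [HopfAlgebra R A] in
lemma jointlyFaithful_baseChange {ι : Type u} (T : ι → Type u) [∀ i, CommRing (T i)]
    [∀ i, Algebra R (T i)] (hT : JointlyFaithful R T) :
    JointlyFaithful R' (fun i => R' ⊗[R] T i) := by
  intro N _ _ hN
  let _ : Module R N := Module.compHom N (algebraMap R R')
  have : IsScalarTower R R' N := IsScalarTower.of_algebraMap_smul (fun r x => rfl)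
  apply hT N
  intro i
  have h1 := hN i
  have e1 : (R' ⊗[R] T i) ⊗[R'] N ≃ₗ[R'] N ⊗[R'] (R' ⊗[R] T i) := TensorProduct.comm R' _ _
  have e2 : N ⊗[R'] (R' ⊗[R] T i) ≃ₗ[R] N ⊗[R] T i :=
    (TensorProduct.AlgebraTensorModule.cancelBaseChange R R' R' N (T i)).restrictScalars R
  have e3 : N ⊗[R] T i ≃ₗ[R] T i ⊗[R] N := TensorProduct.comm R _ _
  exact (e3.symm.toEquiv.trans (e2.symm.toEquiv.trans e1.symm.toEquiv)).subsingleton

include e in
theorem exists_family_baseChange {ι : Type u} (c : ι → Chart R A)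
    (hT : JointlyFaithful R (fun i => (c i).T)) :
    ∃ c' : ι → Chart R' A', JointlyFaithful R' (fun i => (c' i).T) :=
  ⟨fun i => Chart.baseChange R' e (c i), jointlyFaithful_baseChange R' (fun i => (c i).T) hT⟩

end ChartBC

end Groth.Agent.Lib.Helper7.NilLift
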