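import Mathlib
import Groth.Agent.Lib.Helper7.NilLift6
import Groth.Agent.Lib.Helper4.HenselPairLE

/-!
# Lifting étale trivialisations of groups of multiplicative type along nil ideals (helper7)
-/

set_option autoImplicit false

namespace Groth.Agent.Lib.Helper7.NilLift

open TensorProduct Groth.Agent.Lib.Helper7.BCR Groth.Agent.Lib.Helper7.CancelBC

universe u

section Lift

variable {R₀ : Type u} [CommRing R₀] {R₁ : Type u} [CommRing R₁] [Algebra R₀ R₁]
  {Q : Type u} [CommRing Q] [Algebra R₁ Q] [Algebra R₀ Q] [IsScalarTower R₀ R₁ Q]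

/-- lifting an étale algebra along a surjection. -/
theorem exists_etale_lift' (hsurj : Function.Surjective (algebraMap R₀ R₁)) [Algebra.Etale R₁ Q] :
    ∃ (R' : Type u) (_ : CommRing R') (_ : Algebra R₀ R') (_ : Algebra.Etale R₀ R')
      (ψ : R' →ₐ[R₀] Q), Function.Surjective ψ ∧
        RingHom.ker ψ = (RingHom.ker (algebraMap R₀ R₁)).map (algebraMap R₀ R') := by
  set J : Ideal R₀ := RingHom.ker (algebraMap R₀ R₁) with hJ
  have hle : ∀ a ∈ J, algebraMap R₀ Q a = 0 := by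
    intro a ha
    rw [IsScalarTower.algebraMap_apply R₀ R₁ Q, RingHom.mem_ker.1 ha, map_zero]
  let _ : Algebra (R₀ ⧸ J) Q := (Ideal.Quotient.lift J (algebraMap R₀ Q) hle).toAlgebra
  have : IsScalarTower R₀ (R₀ ⧸ J) Q := IsScalarTower.of_algebraMap_eq (fun r => rfl)
  let σ : (R₀ ⧸ J) ≃+* R₁ := RingHom.quotientKerEquivOfSurjective hsurj
  let _ : Algebra (R₀ ⧸ J) R₁ := σ.toRingHom.toAlgebra
  have hσ : ∀ r : R₀, σ (Ideal.Quotient.mk J r) = algebraMap R₀ R₁ r := fun r => rfl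
  have : IsScalarTower (R₀ ⧸ J) R₁ Q := by
    apply IsScalarTower.of_algebraMap_eq
    intro x
    obtain ⟨r, rfl⟩ := Ideal.Quotient.mk_surjective x
    change algebraMap R₀ Q r = algebraMap R₁ Q (σ (Ideal.Quotient.mk J r))
    rw [hσ, ← IsScalarTower.algebraMap_apply]
  have : Algebra.Etale (R₀ ⧸ J) R₁ := by
    have hb : Function.Bijective (Algebra.ofId (R₀ ⧸ J) R₁) := σ.bijective
    exact Algebra.Etale.of_equiv (AlgEquiv.ofBijective (Algebra.ofId (R₀ ⧸ J) R₁) hb)
  have : Algebra.Etale (R₀ ⧸ J) Q := Algebra.Etale.comp (R₀ ⧸ J) R₁ Q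
  exact Groth.Agent.Lib.Helper4.HenselPair.exists_etale_lift J Q

section Props

variable {R' : Type u} [CommRing R'] [Algebra R₀ R'] (ψ : R' →ₐ[R₀] Q)
  (hψ : Function.Surjective ψ)
  (hnil : ∀ x ∈ RingHom.ker (algebraMap R₀ R₁), IsNilpotent x)

include hnil ψ in
/-- the lift is faithfully flat if the original is. -/
theorem faithfullyFlat_of_lift (hsurj : Function.Surjective (algebraMap R₀ R₁))
    [Module.Flat R₀ R'] [Module.FaithfullyFlat R₁ Q] : Module.FaithfullyFlat R₀ R' := by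
  apply Module.FaithfullyFlat.of_comap_surjective
  intro p
  have hJp : RingHom.ker (algebraMap R₀ R₁) ≤ p.asIdeal := by
    intro x hx
    obtain ⟨n, hn⟩ := hnil x hx
    exact p.isPrime.mem_of_pow_mem n (by rw [hn]; exact zero_mem _)
  have h1 : p ∈ Set.range (PrimeSpectrum.comap (algebraMap R₀ R₁)) := by
    rw [range_comap_of_surjective _ _ hsurj]
    exact hJp
  obtain ⟨p₁, hp₁⟩ := h1
  obtain ⟨q, hq⟩ := PrimeSpectrum.comap_surjective_of_faithfullyFlat (A := R₁) (B := Q) p₁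
  refine ⟨PrimeSpectrum.comap ψ.toRingHom q, ?_⟩
  rw [← hp₁, ← hq]
  apply PrimeSpectrum.ext
  ext x
  simp only [PrimeSpectrum.comap_asIdeal, Ideal.mem_comap]
  rw [← IsScalarTower.algebraMap_apply R₀ R₁ Q]
  change ψ (algebraMap R₀ R' x) ∈ q.asIdeal ↔ _
  rw [AlgHom.commutes]

include hnil in
/-- the lift is finite if the original is. -/
theorem finite_of_lift (hsurj : Function.Surjective (algebraMap R₀ R₁))
    (hker : RingHom.ker ψ = (RingHom.ker (algebraMap R₀ R₁)).map (algebraMap R₀ R'))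
    [Algebra.FiniteType R₀ R'] [Module.Finite R₁ Q] : Module.Finite R₀ R' := by
  have hfin : Module.Finite R₀ Q := by
    have : Module.Finite R₀ R₁ := Module.Finite.of_surjective (Algebra.linearMap R₀ R₁) hsurj
    exact Module.Finite.trans R₁ Q
  have hint : Algebra.IsIntegral R₀ R' := by
    refine ⟨fun x => ?_⟩
    obtain ⟨p, hp, hpx⟩ := Algebra.IsIntegral.isIntegral (R := R₀) (ψ x)
    have h1 : Polynomial.aeval x p ∈ RingHom.ker ψ := by
      rw [RingHom.mem_ker, ← Polynomial.aeval_algHom_apply]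
      exact hpx
    rw [hker] at h1
    obtain ⟨n, hn⟩ := isNilpotent_of_mem_map hnil (algebraMap R₀ R') _ h1
    refine ⟨p ^ n, hp.pow n, ?_⟩
    rw [← Polynomial.aeval_def, map_pow, hn]
  exact Algebra.IsIntegral.finite

end Props

section Diag

variable {A₀ : Type u} [CommRing A₀] [HopfAlgebra R₀ A₀]
  {ι : Type u} [Fintype ι] (c : ι → Chart R₀ A₀) (hT : JointlyFaithful R₀ (fun i => (c i).T))
  {R' : Type u} [CommRing R'] [Algebra R₀ R'] (ψ : R' →ₐ[R₀] Q)
  (hψ : Function.Surjective ψ) (hψnil : ∀ x ∈ RingHom.ker ψ, IsNilpotent x)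

include hT hψ hψnil in
theorem isDiag_of_lift (hQ : SGA3b.IsDiag Q (Q ⊗[R₀] A₀)) : SGA3b.IsDiag R' (R' ⊗[R₀] A₀) := by
  let _ : Algebra R' Q := ψ.toRingHom.toAlgebra
  have : IsScalarTower R₀ R' Q := IsScalarTower.of_algebraMap_eq (fun r => (ψ.commutes r).symm)
  obtain ⟨c', hT'⟩ := exists_family_baseChange R' (BialgEquiv.refl R' (R' ⊗[R₀] A₀)) c hT
  obtain ⟨M, _, ⟨e⟩⟩ := hQ
  exact isDiag_of_family' c' hT' (Q := Q) hψ hψnil ((cancelBC R₀ R' Q A₀).trans e)

end Diag

section Master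

variable {A₀ : Type u} [CommRing A₀] [HopfAlgebra R₀ A₀]
  {ι : Type u} [Fintype ι] (c : ι → Chart R₀ A₀) (hT : JointlyFaithful R₀ (fun i => (c i).T))

include hT in
theorem exists_lift (hsurj : Function.Surjective (algebraMap R₀ R₁))
    (hnil : ∀ x ∈ RingHom.ker (algebraMap R₀ R₁), IsNilpotent x)
    [Algebra.Etale R₁ Q] [Module.FaithfullyFlat R₁ Q]
    (hQ : SGA3b.IsDiag Q (Q ⊗[R₀] A₀)) :
    ∃ (R' : Type u) (_ : CommRing R') (_ : Algebra R₀ R'), Algebra.Etale R₀ R' ∧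
      Module.FaithfullyFlat R₀ R' ∧ (Module.Finite R₁ Q → Module.Finite R₀ R') ∧
      SGA3b.IsDiag R' (R' ⊗[R₀] A₀) := by
  obtain ⟨R', _, _, het, ψ, hψ, hker⟩ := exists_etale_lift' (Q := Q) hsurj
  have hψnil : ∀ x ∈ RingHom.ker ψ, IsNilpotent x := by
    intro x hx
    rw [hker] at hx
    exact isNilpotent_of_mem_map hnil (algebraMap R₀ R') _ hx
  refine ⟨R', inferInstance, inferInstance, het, faithfullyFlat_of_lift ψ hnil hsurj, ?_,
    isDiag_of_lift c hT ψ hψ hψnil hQ⟩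
  intro hfin
  exact finite_of_lift ψ hnil hsurj hker

end Master

end Lift

end Groth.Agent.Lib.Helper7.NilLift
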