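import Groth.Agent.Lib.Helper7.NoetherDifferent
import Mathlib.RingTheory.Trace.Basic
import Mathlib.RingTheory.PicardGroup

/-!
# Noether different vs. the trace-different for finite free algebras
-/

set_option autoImplicit false
universe u
open TensorProduct

namespace Groth.Agent.Lib.Helper7.ND

variable {A B : Type*} [CommRing A] [CommRing B] [Algebra A B]
variable {ι : Type*} [Fintype ι] [DecidableEq ι] (b : Module.Basis ι A B)

theorem trace_eq_sum (y : B) : Algebra.trace A B y = ∑ j, b.coord j (y * b j) := by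
  rw [Algebra.trace_eq_matrix_trace b, Matrix.trace]
  simp [Algebra.leftMulMatrix_eq_repr_mul]

omit [DecidableEq ι] in
theorem theta_eq_sum (ξ : B ⊗[A] B) (l : Module.Dual A B) :
    theta ξ l = ∑ k, l (b k) • theta ξ (b.coord k) := by
  have h := b.sum_dual_apply_smul_coord l
  calc theta ξ l = theta ξ (∑ k, l (b k) • b.coord k) := by rw [h]
    _ = ∑ k, l (b k) • theta ξ (b.coord k) := by
      rw [map_sum]; simp only [map_smul]

omit [DecidableEq ι] in
theorem lmul'_eq_sum (ξ : B ⊗[A] B) :
    Algebra.TensorProduct.lmul' (S := B) A ξ = ∑ k, b k * theta ξ (b.coord k) := by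
  induction ξ using TensorProduct.induction_on with
  | zero => simp
  | tmul x y =>
    simp only [Algebra.TensorProduct.lmul'_apply_tmul, theta_tmul, Module.Basis.coord_apply,
      mul_smul_comm, ← smul_mul_assoc, ← Finset.sum_mul, b.sum_repr]
  | add x y hx hy =>
    simp only [map_add, LinearMap.add_apply, mul_add, Finset.sum_add_distrib, hx, hy]

theorem trace_eq_sum_comp :
    Algebra.trace A B = ∑ j, b.coord j ∘ₗ LinearMap.mulLeft A (b j) := by
  ext y
  rw [trace_eq_sum b, LinearMap.sum_apply]
  simp [mul_comm]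

include b in
/-- `μ(ξ) = Φ(Tr)` for `ξ ∈ Ann(I)`. -/
theorem theta_trace (ξ : B ⊗[A] B)
    (hξ : ∀ (b' : B) (l : Module.Dual A B),
      theta ξ (l ∘ₗ LinearMap.mulLeft A b') = b' * theta ξ l) :
    theta ξ (Algebra.trace A B) = Algebra.TensorProduct.lmul' (S := B) A ξ := by
  rw [trace_eq_sum_comp b, map_sum, lmul'_eq_sum b]
  exact Finset.sum_congr rfl fun j _ => hξ _ _

include b in
/-- `w(μ(ξ) x) = Tr(Φ(w) x)` for `ξ ∈ Ann(I)`. -/
theorem apply_lmul'_mul (ξ : B ⊗[A] B)
    (hξ : ∀ (b' : B) (l : Module.Dual A B),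
      theta ξ (l ∘ₗ LinearMap.mulLeft A b') = b' * theta ξ l)
    (w : Module.Dual A B) (x : B) :
    w (Algebra.TensorProduct.lmul' (S := B) A ξ * x) = Algebra.trace A B (theta ξ w * x) := by
  have h1 : ∀ j, theta ξ w * x * b j =
      ∑ k, w (x * b j * b k) • theta ξ (b.coord k) := fun j => by
    rw [mul_assoc, mul_comm, ← hξ, theta_eq_sum b]
    rfl
  have h2 : ∀ k, b k * theta ξ (b.coord k) * x =
      ∑ j, b.coord j (theta ξ (b.coord k)) • (x * b j * b k) := fun k => by
    conv_lhs => rw [← b.sum_repr (theta ξ (b.coord k))]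
    rw [Finset.mul_sum, Finset.sum_mul]
    refine Finset.sum_congr rfl fun j _ => ?_
    rw [Module.Basis.coord_apply, mul_smul_comm, smul_mul_assoc]
    congr 1; ring
  rw [trace_eq_sum b, lmul'_eq_sum b, Finset.sum_mul, map_sum]
  simp only [h1, h2, map_sum, map_smul, smul_eq_mul]
  rw [Finset.sum_comm]
  refine Finset.sum_congr rfl fun j _ => Finset.sum_congr rfl fun k _ => ?_
  ring

omit [Fintype ι] [DecidableEq ι] in
theorem lmul'_surjective : Function.Surjective (Algebra.TensorProduct.lmul' (S := B) A) :=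
  fun x => ⟨x ⊗ₜ 1, by simp⟩

theorem mem_noetherDifferent_iff (d : B) :
    d ∈ Disc.noetherDifferent A B ↔
      ∃ ξ ∈ Submodule.annihilator (RingHom.ker (Algebra.TensorProduct.lmul' (S := B) A)),
        Algebra.TensorProduct.lmul' (S := B) A ξ = d := by
  rw [Disc.noetherDifferent, Ideal.mem_map_iff_of_surjective _ lmul'_surjective]

theorem noetherDifferent_subset_differentSet [Module.Finite A B] [Module.Free A B] :
    (Disc.noetherDifferent A B : Set B) ⊆ Disc.differentSet A B := by
  classical
  intro d hd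
  obtain ⟨ξ, hξ, rfl⟩ := (mem_noetherDifferent_iff d).mp hd
  rw [mem_annihilator_ker_iff] at hξ
  intro φ
  exact ⟨theta ξ φ, fun x => apply_lmul'_mul (Module.Free.chooseBasis A B) ξ hξ φ x⟩

theorem differentSet_subset_noetherDifferent [Module.Finite A B] [Module.Free A B]
    [Module.Invertible B (Disc.Omega A B)] :
    Disc.differentSet A B ⊆ (Disc.noetherDifferent A B : Set B) := by
  classical
  intro d hd
  have key : ∀ t : Module.Dual B (Disc.Omega A B) ⊗[B] Disc.Omega A B,
      d * contractLeft B (Disc.Omega A B) t ∈ Disc.noetherDifferent A B := by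
    intro t
    induction t using TensorProduct.induction_on with
    | zero => simp
    | tmul f m =>
      obtain ⟨c, hc⟩ := hd m.toLinearMap
      have h1 : d • m = c • (⟨Algebra.trace A B⟩ : Disc.Omega A B) := by
        ext x; exact hc x
      obtain ⟨ξ, ⟨hξ, hξ'⟩, -⟩ := exists_unique_of_omegaHom f
      have h2 : f ⟨Algebra.trace A B⟩ = Algebra.TensorProduct.lmul' (S := B) A ξ := by
        rw [hξ' ⟨Algebra.trace A B⟩]
        exact theta_trace (Module.Free.chooseBasis A B) ξ ((mem_annihilator_ker_iff ξ).mp hξ)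
      rw [contractLeft_apply, ← smul_eq_mul, ← map_smul, h1, map_smul, h2, smul_eq_mul]
      exact Ideal.mul_mem_left _ _ ((mem_noetherDifferent_iff _).mpr ⟨ξ, hξ, rfl⟩)
    | add x y hx hy =>
      rw [map_add, mul_add]; exact add_mem hx hy
  obtain ⟨t, ht⟩ := (Module.Invertible.bijective (R := B) (M := Disc.Omega A B)).2 1
  have := key t
  rwa [ht, mul_one] at this

end Groth.Agent.Lib.Helper7.ND
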