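import Groth.Agent.Lib.Helper7.ComodSS
import Mathlib.RingTheory.Coalgebra.Hom

/-!
# Comodules and morphisms of coalgebras (helper7 toolbox)
-/

universe u v v' w w' w''

open TensorProduct

namespace Groth.Agent.Lib.Helper7.Comod

open HopfRep

section Push

variable {k : Type u} [CommRing k]
variable {C : Type v} [AddCommGroup C] [Module k C] [Coalgebra k C]
variable {D : Type v'} [AddCommGroup D] [Module k D] [Coalgebra k D]
variable {V : Type w} [AddCommGroup V] [Module k V]

omit [Coalgebra k C] [Coalgebra k D] in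
lemma assoc_map_lTensor (i : C →ₗ[k] D) (j : C →ₗ[k] D) (x : (V ⊗[k] C) ⊗[k] C) :
    TensorProduct.assoc k V D D (TensorProduct.map (i.lTensor V) j x) =
      (TensorProduct.map i j).lTensor V (TensorProduct.assoc k V C C x) := by
  induction x using TensorProduct.induction_on with
  | zero => simp
  | tmul y c =>
    induction y using TensorProduct.induction_on with
    | zero => simp
    | tmul v c' => simp
    | add a b ha hb => simp only [TensorProduct.add_tmul, map_add, ha, hb]
  | add a b ha hb => simp only [map_add, ha, hb]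

omit [Coalgebra k C] [Coalgebra k D] in
lemma rTensor_comp_lTensor_apply (i : C →ₗ[k] D) (ρ : V →ₗ[k] V ⊗[k] C) (x : V ⊗[k] C) :
    ((i.lTensor V ∘ₗ ρ).rTensor D) (i.lTensor V x) =
      TensorProduct.map (i.lTensor V) i (ρ.rTensor C x) := by
  induction x using TensorProduct.induction_on with
  | zero => simp
  | tmul v c => simp
  | add a b ha hb => simp only [map_add, ha, hb]

/-- The comodule structure over `D` obtained from one over `C` along a coalgebra map `C → D`. -/
@[reducible] def push (i : C →ₗc[k] D) (c : Comod k C V) : Comod k D V where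
  coact := (i : C →ₗ[k] D).lTensor V ∘ₗ c.coact
  coassoc := by
    apply LinearMap.ext
    intro v
    have hc := LinearMap.congr_fun c.coassoc v
    simp only [LinearMap.comp_apply, LinearEquiv.coe_coe] at hc ⊢
    rw [rTensor_comp_lTensor_apply, assoc_map_lTensor, hc,
      ← LinearMap.comp_apply (LinearMap.lTensor V _) (LinearMap.lTensor V _),
      ← LinearMap.lTensor_comp, CoalgHomClass.map_comp_comul, LinearMap.lTensor_comp,
      LinearMap.comp_apply]
  counit_comp := by
    rw [← LinearMap.comp_assoc, ← LinearMap.lTensor_comp, CoalgHomClass.counit_comp]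
    exact c.counit_comp

lemma push_coact (i : C →ₗc[k] D) (c : Comod k C V) (v : V) :
    (push i c).coact v = (i : C →ₗ[k] D).lTensor V (c.coact v) := rfl

omit [Coalgebra k C] [Coalgebra k D] in
lemma lTensor_range_rTensor_le (i : C →ₗ[k] D) (W : Submodule k V) (x : V ⊗[k] C)
    (hx : x ∈ LinearMap.range (W.subtype.rTensor C)) :
    i.lTensor V x ∈ LinearMap.range (W.subtype.rTensor D) := by
  obtain ⟨y, rfl⟩ := hx
  refine ⟨i.lTensor W y, ?_⟩
  rw [← LinearMap.comp_apply, ← LinearMap.comp_apply, LinearMap.rTensor_comp_lTensor,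
    LinearMap.lTensor_comp_rTensor]

/-- A `C`-subcomodule is a `D`-subcomodule for the pushed structure. -/
lemma isSubcomod_push (i : C →ₗc[k] D) (c : Comod k C V) {W : Submodule k V}
    (hW : @IsSubcomod k C _ _ _ _ V _ _ c W) : @IsSubcomod k D _ _ _ _ V _ _ (push i c) W := by
  intro w hw
  exact lTensor_range_rTensor_le (i : C →ₗ[k] D) W _ (hW w hw)

end Push

section Field

variable {k : Type u} [Field k]
variable {C : Type v} [AddCommGroup C] [Module k C] [Coalgebra k C]
variable {D : Type v'} [AddCommGroup D] [Module k D] [Coalgebra k D]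
variable {V : Type w} [AddCommGroup V] [Module k V]

/-- S18807 (structure form): a `D`-subcomodule of a `C`-comodule is a `C`-subcomodule when `C → D`
is injective. -/
lemma isSubcomod_of_isSubcomod_along_injective (i : C →ₗc[k] D) (hi : Function.Injective i)
    (c : Comod k C V) (d : Comod k D V)
    (hcd : (i : C →ₗ[k] D).lTensor V ∘ₗ c.coact = d.coact)
    {W : Submodule k V} (hW : @IsSubcomod k D _ _ _ _ V _ _ d W) :
    @IsSubcomod k C _ _ _ _ V _ _ c W := by
  intro w hw
  apply mem_range_rTensor_of_lTensor_mem (i : C →ₗ[k] D) hi W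
  have := LinearMap.congr_fun hcd w
  simp only [LinearMap.comp_apply] at this
  rw [this]
  exact hW w hw

/-- S18806: descent of a `D`-comodule structure whose coaction takes values in `V ⊗ C`. -/
theorem exists_comod_of_coact_mem_range (i : C →ₗc[k] D) (hi : Function.Injective i)
    (d : Comod k D V)
    (h : ∀ v : V, d.coact v ∈ LinearMap.range ((i : C →ₗ[k] D).lTensor V)) :
    ∃ c : Comod k C V, (i : C →ₗ[k] D).lTensor V ∘ₗ c.coact = d.coact := by
  have hinj : Function.Injective ((i : C →ₗ[k] D).lTensor V) :=
    Module.Flat.lTensor_preserves_injective_linearMap _ hi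
  let ρ : V →ₗ[k] V ⊗[k] C :=
    (LinearEquiv.ofInjective _ hinj).symm.toLinearMap ∘ₗ
      LinearMap.codRestrict (LinearMap.range ((i : C →ₗ[k] D).lTensor V)) d.coact h
  have hρ : ∀ v, (i : C →ₗ[k] D).lTensor V (ρ v) = d.coact v := by
    intro v
    change (i : C →ₗ[k] D).lTensor V ((LinearEquiv.ofInjective _ hinj).symm ⟨d.coact v, h v⟩) = _
    rw [← LinearEquiv.ofInjective_apply (h := hinj), LinearEquiv.apply_symm_apply]
  have hρ' : (i : C →ₗ[k] D).lTensor V ∘ₗ ρ = d.coact := LinearMap.ext hρ
  refine ⟨{ coact := ρ, coassoc := ?_, counit_comp := ?_ }, hρ'⟩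
  · apply LinearMap.ext
    intro v
    have hinj2 : Function.Injective
        ((TensorProduct.map (i : C →ₗ[k] D) (i : C →ₗ[k] D)).lTensor V) :=
      Module.Flat.lTensor_preserves_injective_linearMap _
        (TensorProduct.map_injective_of_flat_flat _ _ hi hi)
    apply hinj2
    have hd := LinearMap.congr_fun d.coassoc v
    simp only [LinearMap.comp_apply, LinearEquiv.coe_coe] at hd ⊢
    rw [← assoc_map_lTensor, ← rTensor_comp_lTensor_apply, hρ', hρ, hd,
      ← LinearMap.comp_apply (LinearMap.lTensor V _) (LinearMap.lTensor V _),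
      ← LinearMap.lTensor_comp, CoalgHomClass.map_comp_comul, LinearMap.lTensor_comp,
      LinearMap.comp_apply, hρ]
  · have h1 : (CoalgebraStruct.counit (R := k) (A := C)) =
        (CoalgebraStruct.counit (R := k) (A := D)) ∘ₗ (i : C →ₗ[k] D) :=
      (CoalgHomClass.counit_comp i).symm
    rw [h1, LinearMap.lTensor_comp, LinearMap.comp_assoc, hρ']
    exact d.counit_comp

/-- S18809. -/
theorem isSemisimpleComod_of_injective_coalgHom (i : C →ₗc[k] D) (hi : Function.Injective i)
    (hD : ∀ (W : Type w) [AddCommGroup W] [Module k W] [Comod k D W], IsSemisimpleComod k D W)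
    (V : Type w) [AddCommGroup V] [Module k V] [c : Comod k C V] :
    IsSemisimpleComod k C V := by
  intro W hW
  obtain ⟨W', hW', hcompl⟩ := @hD V _ _ (push i c) W (isSubcomod_push i c hW)
  exact ⟨W', isSubcomod_of_isSubcomod_along_injective i hi c (push i c) rfl hW', hcompl⟩

end Field

section Range

variable {k : Type u} [Field k]
variable {C : Type v} [AddCommGroup C] [Module k C]
variable {D : Type v'} [AddCommGroup D] [Module k D]
variable {V : Type w} [AddCommGroup V] [Module k V]

/-- An element of `V ⊗ C` all of whose contractions vanish is zero. -/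
lemma eq_zero_of_forall_contr_eq_zero (z : V ⊗[k] C) (h : ∀ g : C →ₗ[k] k, contr V g z = 0) :
    z = 0 := by
  obtain ⟨s, hs⟩ := sum_coordR_tmul (Module.Basis.ofVectorSpace k C) z
  rw [hs]
  apply Finset.sum_eq_zero
  intro i _
  rw [coordR_eq_contr, h, TensorProduct.zero_tmul]

/-- The image of `V ⊗ C → V ⊗ D` is cut out by the functionals on `D` killing the image of `C`. -/
lemma mem_range_lTensor_iff (i : C →ₗ[k] D) (x : V ⊗[k] D) :
    x ∈ LinearMap.range (i.lTensor V) ↔ ∀ g : D →ₗ[k] k, g ∘ₗ i = 0 → contr V g x = 0 := by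
  constructor
  · rintro ⟨y, rfl⟩ g hg
    rw [contr_lTensor, hg]
    simp [contr]
  · intro h
    have hex := lTensor_exact V (LinearMap.exact_map_mkQ_range i)
      (Submodule.mkQ_surjective (LinearMap.range i))
    refine (hex x).1 ?_
    apply eq_zero_of_forall_contr_eq_zero
    intro g
    rw [contr_lTensor]
    apply h
    apply LinearMap.ext
    intro c
    have : (Submodule.Quotient.mk (i c) : D ⧸ LinearMap.range i) = 0 :=
      (Submodule.Quotient.mk_eq_zero _).2 ⟨c, rfl⟩
    simp [this]

end Range

section Least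

variable {k : Type u} [Field k]
variable {C : Type v} [AddCommGroup C] [Module k C]
variable {D : Type v'} [AddCommGroup D] [Module k D] [Coalgebra k D]
variable {V : Type w} [AddCommGroup V] [Module k V] [Comod k D V]

/-- S18808: the least `D`-subcomodule `K` such that `V ⧸ K` has coefficients in `C`. -/
theorem exists_least_subcomod_quotient (i : C →ₗ[k] D) :
    ∃ K : Submodule k V, IsSubcomod (k := k) (A := D) K ∧
      (∀ v : V, K.mkQ.rTensor D (Comod.coact (k := k) (A := D) v) ∈
        LinearMap.range (i.lTensor (V ⧸ K))) ∧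
      ∀ K' : Submodule k V, IsSubcomod (k := k) (A := D) K' →
        (∀ v : V, K'.mkQ.rTensor D (Comod.coact (k := k) (A := D) v) ∈
          LinearMap.range (i.lTensor (V ⧸ K'))) → K ≤ K' := by
  have key : ∀ K : Submodule k V,
      (∀ v : V, K.mkQ.rTensor D (Comod.coact (k := k) (A := D) v) ∈
        LinearMap.range (i.lTensor (V ⧸ K))) ↔
      ∀ (v : V) (g : D →ₗ[k] k), g ∘ₗ i = 0 → contr V g (Comod.coact (k := k) (A := D) v) ∈ K := by
    intro K
    refine forall_congr' fun v => ?_
    rw [mem_range_lTensor_iff]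
    refine forall_congr' fun g => forall_congr' fun _ => ?_
    rw [contr_rTensor, Submodule.mkQ_apply, Submodule.Quotient.mk_eq_zero]
  refine ⟨sInf {K' | IsSubcomod (k := k) (A := D) K' ∧
      ∀ (v : V) (g : D →ₗ[k] k), g ∘ₗ i = 0 → contr V g (Comod.coact (k := k) (A := D) v) ∈ K'},
    isSubcomod_sInf fun W hW => hW.1, ?_, ?_⟩
  · rw [key]
    intro v g hg
    rw [Submodule.mem_sInf]
    intro K' hK'
    exact hK'.2 v g hg
  · intro K' hK' hadm
    exact sInf_le ⟨hK', (key K').1 hadm⟩

end Least

end Groth.Agent.Lib.Helper7.Comod
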