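import Groth.Agent.Lib.Helper7.Comod

/-!
# Induced comodules `Hoch.Ind` and Frobenius reciprocity (helper7)
-/

universe u v v' w w' w''

open TensorProduct

namespace Groth.Agent.Lib.Helper7.Comod

open HopfRep

section Plain

variable {k : Type u} [CommRing k] {A : Type v} [AddCommGroup A] [Module k A]
variable {N : Type w'} [AddCommGroup N] [Module k N]
variable {P : Type w''} [AddCommGroup P] [Module k P]

lemma assoc_symm_lTensor_rTensor (Δ : A →ₗ[k] A ⊗[k] A) (h : N →ₗ[k] P) (x : N ⊗[k] A) :
    (TensorProduct.assoc k P A A).symm (Δ.lTensor P (h.rTensor A x)) =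
      (h.rTensor A).rTensor A ((TensorProduct.assoc k N A A).symm (Δ.lTensor N x)) := by
  induction x using TensorProduct.induction_on with
  | zero => simp
  | tmul n a =>
    simp only [LinearMap.rTensor_tmul, LinearMap.lTensor_tmul]
    induction (Δ a : A ⊗[k] A) using TensorProduct.induction_on with
    | zero => simp
    | tmul b c => simp
    | add y z hy hz => simp only [TensorProduct.tmul_add, map_add, hy, hz]
  | add y z hy hz => simp only [map_add, hy, hz]

lemma rid_lTensor_rTensor (ε : A →ₗ[k] k) (h : N →ₗ[k] P) (x : N ⊗[k] A) :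
    TensorProduct.rid k P (ε.lTensor P (h.rTensor A x)) =
      h (TensorProduct.rid k N (ε.lTensor N x)) := by
  induction x using TensorProduct.induction_on with
  | zero => simp
  | tmul n a => simp
  | add y z hy hz => simp only [map_add, hy, hz]

lemma rTensor_rid_lTensor_assoc_symm (ε : A →ₗ[k] k) (n : N) (y : A ⊗[k] A) :
    ((TensorProduct.rid k N).toLinearMap ∘ₗ ε.lTensor N).rTensor A
        ((TensorProduct.assoc k N A A).symm (n ⊗ₜ[k] y)) =
      n ⊗ₜ[k] (TensorProduct.lid k A (ε.rTensor A y)) := by
  induction y using TensorProduct.induction_on with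
  | zero => simp
  | tmul b c => simp [TensorProduct.smul_tmul]
  | add y z hy hz => simp only [TensorProduct.tmul_add, map_add, hy, hz]

end Plain

section Ind

variable {k : Type u} [CommRing k] {A : Type v} [AddCommGroup A] [Module k A] [Coalgebra k A]
variable {V : Type w} [AddCommGroup V] [Module k V] [Comod k A V]
variable {N : Type w'} [AddCommGroup N] [Module k N]

/-- The coaction, seen as a map into the induced comodule, is a comodule map. -/
theorem isComodHom_toInd : Hoch.IsComodHom A (Hoch.toInd k A V) := by
  rw [isComodHom_iff]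
  intro v
  have h := LinearMap.congr_fun (Comod.coassoc (k := k) (A := A) (V := V)) v
  simp only [LinearMap.comp_apply, LinearEquiv.coe_coe] at h
  change (TensorProduct.assoc k V A A).symm ((Coalgebra.comul (R := k) (A := A)).lTensor V
    (Comod.coact (k := k) (A := A) v)) = (Comod.coact (k := k) (A := A)).rTensor A
      (Comod.coact (k := k) (A := A) v)
  rw [← h, LinearEquiv.symm_apply_apply]

theorem injective_toInd : Function.Injective (Hoch.toInd k A V) := by
  intro v w h
  have h1 : Comod.coact (k := k) (A := A) v = Comod.coact (k := k) (A := A) w := h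
  have hv := LinearMap.congr_fun (Comod.counit_comp (k := k) (A := A) (V := V)) v
  have hw := LinearMap.congr_fun (Comod.counit_comp (k := k) (A := A) (V := V)) w
  simp only [LinearMap.comp_apply, LinearMap.flip_apply, TensorProduct.mk_apply] at hv hw
  rw [h1, hw] at hv
  have := congrArg (TensorProduct.rid k V) hv
  simpa using this.symm

/-- First half of Frobenius reciprocity. -/
theorem isComodHom_ind_of_linear (h : V →ₗ[k] N) :
    Hoch.IsComodHom A ((Hoch.Ind.equiv k A N).toLinearMap ∘ₗ h.rTensor A ∘ₗ
      Comod.coact (k := k) (A := A)) := by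
  rw [isComodHom_iff]
  intro v
  have hc := LinearMap.congr_fun (Comod.coassoc (k := k) (A := A) (V := V)) v
  simp only [LinearMap.comp_apply, LinearEquiv.coe_coe] at hc
  change (TensorProduct.assoc k N A A).symm ((Coalgebra.comul (R := k) (A := A)).lTensor N
    (h.rTensor A (Comod.coact (k := k) (A := A) v))) =
      (h.rTensor A ∘ₗ Comod.coact (k := k) (A := A)).rTensor A (Comod.coact (k := k) (A := A) v)
  rw [assoc_symm_lTensor_rTensor, ← hc, LinearEquiv.symm_apply_apply, LinearMap.rTensor_comp,
    LinearMap.comp_apply]

/-- Second half of Frobenius reciprocity. -/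
theorem existsUnique_linear_of_isComodHom (f : V →ₗ[k] Hoch.Ind k A N) (hf : Hoch.IsComodHom A f) :
    ∃! h : V →ₗ[k] N, f = (Hoch.Ind.equiv k A N).toLinearMap ∘ₗ h.rTensor A ∘ₗ
      Comod.coact (k := k) (A := A) := by
  -- view `f` as a map to the plain tensor product
  let f' : V →ₗ[k] N ⊗[k] A := f
  let e : N ⊗[k] A →ₗ[k] N :=
    (TensorProduct.rid k N).toLinearMap ∘ₗ (Coalgebra.counit (R := k) (A := A)).lTensor N
  have hf' : ∀ v, (TensorProduct.assoc k N A A).symm
      ((Coalgebra.comul (R := k) (A := A)).lTensor N (f' v)) =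
      f'.rTensor A (Comod.coact (k := k) (A := A) v) := fun v => isComodHom_apply hf v
  have key : ∀ x : N ⊗[k] A, e.rTensor A ((TensorProduct.assoc k N A A).symm
      ((Coalgebra.comul (R := k) (A := A)).lTensor N x)) = x := by
    intro x
    induction x using TensorProduct.induction_on with
    | zero => simp
    | tmul n a =>
      rw [LinearMap.lTensor_tmul, rTensor_rid_lTensor_assoc_symm, Coalgebra.rTensor_counit_comul]
      simp
    | add y z hy hz => simp only [map_add, hy, hz]
  refine ⟨e ∘ₗ f', ?_, ?_⟩
  · apply LinearMap.ext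
    intro v
    change f' v = (e ∘ₗ f').rTensor A (Comod.coact (k := k) (A := A) v)
    rw [LinearMap.rTensor_comp, LinearMap.comp_apply, ← hf', key]
  · intro h hh
    apply LinearMap.ext
    intro v
    have hv := LinearMap.congr_fun (Comod.counit_comp (k := k) (A := A) (V := V)) v
    simp only [LinearMap.comp_apply, LinearMap.flip_apply, TensorProduct.mk_apply] at hv
    have h2 : f' v = h.rTensor A (Comod.coact (k := k) (A := A) v) :=
      LinearMap.congr_fun hh v
    change h v = e (f' v)
    rw [h2]
    symm
    change TensorProduct.rid k N ((Coalgebra.counit (R := k) (A := A)).lTensor N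
      (h.rTensor A (Comod.coact (k := k) (A := A) v))) = h v
    rw [rid_lTensor_rTensor, hv]
    simp

end Ind

end Groth.Agent.Lib.Helper7.Comod
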