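import Groth.Agent.Lib.Helper7.ComodCoinv
import Groth.Agent.Lib.Helper7.ComodCoalgHom
import Groth.Agent.Lib.Helper7.ComodInd

/-!
# Coefficient spaces of comodules and simple subcoalgebras (helper7)
-/

universe u v w w' w''

open TensorProduct

namespace Groth.Agent.Lib.Helper7.Comod

open HopfRep

section Tests

variable {k : Type u} [Field k] {C : Type v} [AddCommGroup C] [Module k C]
variable {V : Type w} [AddCommGroup V] [Module k V]

/-- Membership in `V ⊗ D ⊆ V ⊗ C` is tested by left contractions. -/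
lemma mem_range_lTensor_subtype_iff (D : Submodule k C) (x : V ⊗[k] C) :
    x ∈ LinearMap.range (D.subtype.lTensor V) ↔ ∀ φ : V →ₗ[k] k, contrL C φ x ∈ D := by
  constructor
  · rintro ⟨y, rfl⟩ φ
    rw [contrL_lTensor]
    exact (contrL D φ y).2
  · intro h
    rw [mem_range_lTensor_iff]
    intro g hg
    rw [← Module.forall_dual_apply_eq_zero_iff k]
    intro φ
    change φ (contr V g x) = 0
    rw [← apply_contrL_eq]
    have := LinearMap.congr_fun hg ⟨_, h φ⟩
    simpa using this

lemma map_eq_rTensor_lTensor {M N P Q : Type*} [AddCommGroup M] [Module k M] [AddCommGroup N]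
    [Module k N] [AddCommGroup P] [Module k P] [AddCommGroup Q] [Module k Q]
    (f : M →ₗ[k] P) (g : N →ₗ[k] Q) (y : M ⊗[k] N) :
    TensorProduct.map f g y = f.rTensor Q (g.lTensor M y) := by
  induction y using TensorProduct.induction_on with
  | zero => simp
  | tmul m n => simp
  | add a b ha hb => simp only [map_add, ha, hb]

lemma map_eq_lTensor_rTensor {M N P Q : Type*} [AddCommGroup M] [Module k M] [AddCommGroup N]
    [Module k N] [AddCommGroup P] [Module k P] [AddCommGroup Q] [Module k Q]
    (f : M →ₗ[k] P) (g : N →ₗ[k] Q) (y : M ⊗[k] N) :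
    TensorProduct.map f g y = g.lTensor P (f.rTensor N y) := by
  induction y using TensorProduct.induction_on with
  | zero => simp
  | tmul m n => simp
  | add a b ha hb => simp only [map_add, ha, hb]

/-- `(D ⊗ C) ∩ (C ⊗ D) = D ⊗ D`. -/
lemma mem_range_map_subtype_iff (D : Submodule k C) (z : C ⊗[k] C) :
    z ∈ LinearMap.range (TensorProduct.map D.subtype D.subtype) ↔
      (∀ g : C →ₗ[k] k, contr C g z ∈ D) ∧ (∀ ψ : C →ₗ[k] k, contrL C ψ z ∈ D) := by
  constructor
  · rintro ⟨y, rfl⟩
    constructor
    · intro g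
      rw [map_eq_rTensor_lTensor, contr_rTensor]
      exact (contr D g _).2
    · intro ψ
      rw [map_eq_lTensor_rTensor, contrL_lTensor]
      exact (contrL D ψ _).2
  · rintro ⟨h1, h2⟩
    obtain ⟨y, rfl⟩ := (mem_range_rTensor_iff_contr D z).2 h1
    have hy : y ∈ LinearMap.range (D.subtype.lTensor D) := by
      rw [mem_range_lTensor_subtype_iff]
      intro φ
      obtain ⟨φ', hφ'⟩ := exists_comp_eq_of_injective D.subtype D.injective_subtype φ
      have := h2 φ'
      rw [contrL_rTensor, hφ'] at this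
      exact this
    obtain ⟨w, rfl⟩ := hy
    exact ⟨w, map_eq_rTensor_lTensor _ _ w⟩

end Tests

section Subcoalg

variable {k : Type u} [Field k] {C : Type v} [AddCommGroup C] [Module k C] [Coalgebra k C]

/-- `B` is a subcoalgebra: `Δ(B) ⊆ B ⊗ B`. -/
def IsSubcoalg (B : Submodule k C) : Prop :=
  ∀ b ∈ B, CoalgebraStruct.comul (R := k) b ∈
    LinearMap.range (TensorProduct.map B.subtype B.subtype)

/-- A simple subcoalgebra. -/
def IsSimpleSubcoalg (D : Submodule k C) : Prop :=
  D ≠ ⊥ ∧ (∀ b ∈ D, CoalgebraStruct.comul (R := k) b ∈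
    LinearMap.range (TensorProduct.map D.subtype D.subtype)) ∧
  ∀ B : Submodule k C, B ≤ D → (∀ b ∈ B, CoalgebraStruct.comul (R := k) b ∈
    LinearMap.range (TensorProduct.map B.subtype B.subtype)) → B = ⊥ ∨ B = D

lemma isSubcoalg_iff (B : Submodule k C) :
    IsSubcoalg B ↔ ∀ b ∈ B,
      (∀ g : C →ₗ[k] k, contr C g (CoalgebraStruct.comul (R := k) b) ∈ B) ∧
      (∀ ψ : C →ₗ[k] k, contrL C ψ (CoalgebraStruct.comul (R := k) b) ∈ B) := by
  unfold IsSubcoalg
  refine forall_congr' fun b => forall_congr' fun _ => ?_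
  exact mem_range_map_subtype_iff B _

lemma isSubcoalg_top : IsSubcoalg (⊤ : Submodule k C) := by
  rw [isSubcoalg_iff]
  intro b _
  exact ⟨fun _ => trivial, fun _ => trivial⟩

lemma isSubcoalg_bot : IsSubcoalg (⊥ : Submodule k C) := by
  rw [isSubcoalg_iff]
  intro b hb
  rw [Submodule.mem_bot] at hb
  subst hb
  simp

lemma isSubcoalg_inf {B B' : Submodule k C} (h : IsSubcoalg B) (h' : IsSubcoalg B') :
    IsSubcoalg (B ⊓ B') := by
  rw [isSubcoalg_iff] at *
  intro b hb
  exact ⟨fun g => ⟨(h b hb.1).1 g, (h' b hb.2).1 g⟩, fun ψ => ⟨(h b hb.1).2 ψ, (h' b hb.2).2 ψ⟩⟩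

lemma isSubcoalg_iSup {ι : Sort*} {B : ι → Submodule k C} (h : ∀ i, IsSubcoalg (B i)) :
    IsSubcoalg (⨆ i, B i) := by
  rw [isSubcoalg_iff]
  intro b hb
  refine Submodule.iSup_induction _ (motive := fun b =>
    (∀ g : C →ₗ[k] k, contr C g (CoalgebraStruct.comul (R := k) b) ∈ ⨆ i, B i) ∧
    (∀ ψ : C →ₗ[k] k, contrL C ψ (CoalgebraStruct.comul (R := k) b) ∈ ⨆ i, B i)) hb ?_ ?_ ?_
  · intro i x hx
    have := (isSubcoalg_iff (B i)).1 (h i) x hx
    exact ⟨fun g => (le_iSup B i) (this.1 g), fun ψ => (le_iSup B i) (this.2 ψ)⟩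
  · simp
  · intro x y hx hy
    refine ⟨fun g => ?_, fun ψ => ?_⟩
    · rw [map_add, map_add]; exact Submodule.add_mem _ (hx.1 g) (hy.1 g)
    · rw [map_add, map_add]; exact Submodule.add_mem _ (hx.2 ψ) (hy.2 ψ)

/-- A subcoalgebra is a subcomodule of the regular comodule. -/
lemma IsSubcoalg.isSubcomod {B : Submodule k C} (h : IsSubcoalg B) :
    IsSubcomod (k := k) (A := C) (V := C) B := by
  intro b hb
  change CoalgebraStruct.comul (R := k) b ∈ _
  rw [mem_range_rTensor_iff_contr]
  exact ((isSubcoalg_iff B).1 h b hb).1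

end Subcoalg

section Coeff

variable {k : Type u} [Field k] {C : Type v} [AddCommGroup C] [Module k C] [Coalgebra k C]
variable {V : Type w} [AddCommGroup V] [Module k V] [Comod k C V]
variable {W : Type w'} [AddCommGroup W] [Module k W] [Comod k C W]

/-- The matrix coefficient map `v ↦ Σ φ(v₀) v₁`. -/
noncomputable def coeffMap (φ : V →ₗ[k] k) : V →ₗ[k] C :=
  contrL C φ ∘ₗ Comod.coact (k := k) (A := C)

lemma coeffMap_apply (φ : V →ₗ[k] k) (v : V) :
    coeffMap (C := C) φ v = contrL C φ (Comod.coact (k := k) (A := C) v) := rfl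

variable (k C V) in
/-- The coefficient space of a comodule. -/
noncomputable def coeffSpace : Submodule k C := ⨆ φ : V →ₗ[k] k, LinearMap.range (coeffMap (C := C) φ)

lemma coeffMap_mem (φ : V →ₗ[k] k) (v : V) : coeffMap (C := C) φ v ∈ coeffSpace k C V :=
  (le_iSup (fun φ : V →ₗ[k] k => LinearMap.range (coeffMap (C := C) φ)) φ) ⟨v, rfl⟩

lemma coeffSpace_le_iff (D : Submodule k C) :
    coeffSpace k C V ≤ D ↔ ∀ v : V, Comod.coact (k := k) (A := C) v ∈
      LinearMap.range (D.subtype.lTensor V) := by
  simp_rw [mem_range_lTensor_subtype_iff]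
  constructor
  · intro h v φ
    exact h (coeffMap_mem φ v)
  · intro h
    apply iSup_le
    rintro φ _ ⟨v, rfl⟩
    exact h v φ

lemma coact_mem_coeffSpace (v : V) : Comod.coact (k := k) (A := C) v ∈
    LinearMap.range ((coeffSpace k C V).subtype.lTensor V) :=
  (coeffSpace_le_iff _).1 le_rfl v

lemma isLeast_coeffSpace : IsLeast {D' : Submodule k C |
    ∀ e : V, Comod.coact (k := k) (A := C) e ∈ LinearMap.range (LinearMap.lTensor V D'.subtype)}
    (coeffSpace k C V) :=
  ⟨fun v => coact_mem_coeffSpace v, fun _ hD => (coeffSpace_le_iff _).2 hD⟩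

lemma eq_coeffSpace_of_isLeast {D : Submodule k C} (hD : IsLeast {D' : Submodule k C |
    ∀ e : V, Comod.coact (k := k) (A := C) e ∈ LinearMap.range (LinearMap.lTensor V D'.subtype)} D) :
    D = coeffSpace k C V :=
  hD.unique isLeast_coeffSpace

lemma counit_coeffMap (φ : V →ₗ[k] k) (v : V) :
    Coalgebra.counit (R := k) (coeffMap (C := C) φ v) = φ v :=
  counit_contrL_coact φ v

/-- Matrix coefficient maps are comodule maps into the regular comodule. -/
lemma isComodHom_coeffMap (φ : V →ₗ[k] k) : Hoch.IsComodHom C (coeffMap (C := C) φ) := by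
  rw [isComodHom_iff]
  intro v
  change Coalgebra.comul (R := k) (contrL C φ (Comod.coact (k := k) (A := C) v)) = _
  rw [comul_contrL_coact]
  generalize Comod.coact (k := k) (A := C) v = y
  induction y using TensorProduct.induction_on with
  | zero => simp
  | tmul u c => rw [LinearMap.rTensor_tmul, LinearMap.rTensor_tmul, contrL_assoc_tmul]; rfl
  | add a b ha hb => simp only [map_add, ha, hb]

lemma comul_coeffMap (φ : V →ₗ[k] k) (v : V) :
    Coalgebra.comul (R := k) (coeffMap (C := C) φ v) =
      (coeffMap (C := C) φ).rTensor C (Comod.coact (k := k) (A := C) v) :=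
  isComodHom_apply (isComodHom_coeffMap φ) v

/-- The coefficient space is a subcoalgebra. -/
theorem isSubcoalg_coeffSpace : IsSubcoalg (coeffSpace k C V) := by
  rw [isSubcoalg_iff]
  intro b hb
  refine Submodule.iSup_induction _ (motive := fun b =>
    (∀ g : C →ₗ[k] k, contr C g (CoalgebraStruct.comul (R := k) b) ∈ coeffSpace k C V) ∧
    (∀ ψ : C →ₗ[k] k, contrL C ψ (CoalgebraStruct.comul (R := k) b) ∈ coeffSpace k C V))
    hb ?_ ?_ ?_
  · rintro φ _ ⟨v, rfl⟩
    refine ⟨fun g => ?_, fun ψ => ?_⟩
    · rw [comul_coeffMap, contr_rTensor]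
      exact coeffMap_mem _ _
    · rw [comul_coeffMap, contrL_rTensor]
      exact coeffMap_mem (ψ ∘ₗ coeffMap (C := C) φ) v
  · simp
  · intro x y hx hy
    refine ⟨fun g => ?_, fun ψ => ?_⟩
    · rw [map_add, map_add]; exact Submodule.add_mem _ (hx.1 g) (hy.1 g)
    · rw [map_add, map_add]; exact Submodule.add_mem _ (hx.2 ψ) (hy.2 ψ)

lemma coeffSpace_le_of_surjective {f : V →ₗ[k] W} (hf : Hoch.IsComodHom C f)
    (hs : Function.Surjective f) : coeffSpace k C W ≤ coeffSpace k C V := by
  rw [coeffSpace_le_iff]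
  intro w
  obtain ⟨v, rfl⟩ := hs w
  obtain ⟨y, hy⟩ := coact_mem_coeffSpace (k := k) (C := C) v
  rw [isComodHom_apply hf, ← hy]
  exact ⟨f.rTensor _ y, ComodTens.lTensor_rTensor_comm _ f y⟩

lemma coeffSpace_le_of_injective {f : V →ₗ[k] W} (hf : Hoch.IsComodHom C f)
    (hi : Function.Injective f) : coeffSpace k C V ≤ coeffSpace k C W := by
  apply iSup_le
  rintro φ _ ⟨v, rfl⟩
  obtain ⟨ψ, hψ⟩ := exists_comp_eq_of_injective f hi φ
  have : coeffMap (C := C) φ v = coeffMap (C := C) ψ (f v) := by
    rw [coeffMap_apply, coeffMap_apply, isComodHom_apply hf, contrL_rTensor, hψ]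
  rw [this]
  exact coeffMap_mem _ _

lemma coeffSpace_eq_of_equiv (e : V ≃ₗ[k] W) (he : Hoch.IsComodHom C (e : V →ₗ[k] W)) :
    coeffSpace k C V = coeffSpace k C W :=
  le_antisymm (coeffSpace_le_of_injective he e.injective)
    (coeffSpace_le_of_surjective he e.surjective)

/-- If the coefficient space vanishes, so does the comodule. -/
lemma eq_zero_of_coeffSpace_eq_bot (h : coeffSpace k C V = ⊥) (v : V) : v = 0 := by
  rw [← Module.forall_dual_apply_eq_zero_iff k]
  intro φ
  change φ v = 0
  rw [← counit_coeffMap (C := C) φ v]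
  have := coeffMap_mem (C := C) φ v
  rw [h, Submodule.mem_bot] at this
  rw [this, map_zero]

end Coeff

section CoeffRegular

variable {k : Type u} [Field k] {C : Type v} [AddCommGroup C] [Module k C] [Coalgebra k C]

/-- A right coideal is contained in its coefficient space. -/
lemma le_coeffSpace_restr (E : Submodule k C) (hE : IsSubcomod (k := k) (A := C) (V := C) E) :
    E ≤ @coeffSpace k _ C _ _ _ E _ _ (ComodSub.Comod.restr (Comod.regular k C) E hE) := by
  letI : Comod k C E := ComodSub.Comod.restr (Comod.regular k C) E hE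
  intro e he
  have h1 := ComodSub.restr_coact_coe (Comod.regular k C) E hE ⟨e, he⟩
  have : e = coeffMap (C := C) ((Coalgebra.counit (R := k) (A := C)) ∘ₗ E.subtype) ⟨e, he⟩ := by
    rw [coeffMap_apply, ← contrL_rTensor]
    change _ = contrL C _ (E.subtype.rTensor C
      ((ComodSub.Comod.restr (Comod.regular k C) E hE).coact ⟨e, he⟩))
    rw [h1]
    change e = contrL C _ (Coalgebra.comul (R := k) e)
    rw [contrL, LinearMap.comp_apply, Coalgebra.rTensor_counit_comul]
    simp
  rw [this]
  exact coeffMap_mem _ _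

/-- A right coideal contained in a subcoalgebra `B` has its coefficients in `B`. -/
lemma coeffSpace_restr_le (E : Submodule k C) (hE : IsSubcomod (k := k) (A := C) (V := C) E)
    {B : Submodule k C} (hB : IsSubcoalg B) (hEB : E ≤ B) :
    @coeffSpace k _ C _ _ _ E _ _ (ComodSub.Comod.restr (Comod.regular k C) E hE) ≤ B := by
  letI : Comod k C E := ComodSub.Comod.restr (Comod.regular k C) E hE
  apply iSup_le
  rintro φ _ ⟨e, rfl⟩
  obtain ⟨ψ, hψ⟩ := exists_comp_eq_of_injective E.subtype E.injective_subtype φ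
  have h1 := ComodSub.restr_coact_coe (Comod.regular k C) E hE e
  rw [coeffMap_apply, ← hψ, ← contrL_rTensor]
  change contrL C ψ (E.subtype.rTensor C
    ((ComodSub.Comod.restr (Comod.regular k C) E hE).coact e)) ∈ B
  rw [h1]
  exact ((isSubcoalg_iff B).1 hB _ (hEB e.2)).2 ψ

end CoeffRegular

section Main

variable {k : Type u} [Field k] {C : Type v} [AddCommGroup C] [Module k C] [Coalgebra k C]
variable {V : Type w} [AddCommGroup V] [Module k V] [Comod k C V]
variable {W : Type w'} [AddCommGroup W] [Module k W] [Comod k C W]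

/-- A simple right coideal inside the coefficient space of a simple comodule `V` is isomorphic
to `V`. -/
lemma exists_equiv_of_isSimpleSub_le_coeffSpace (hV : IsSimpleComod k C V) {T : Submodule k C}
    (hT : IsSimpleSub k C (V := C) T) (hle : T ≤ coeffSpace k C V) :
    ∃ e : T ≃ₗ[k] V, @Hoch.IsComodHom k _ C _ _ _ T _ _
      (ComodSub.Comod.restr (Comod.regular k C) T hT.1) V _ _ _ (e : T →ₗ[k] V) := by
  letI : Comod k C T := ComodSub.Comod.restr (Comod.regular k C) T hT.1
  have hTs := isSimpleComod_restr hT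
  have hsub : Hoch.IsComodHom C T.subtype := ComodSub.isComodHom_subtype (Comod.regular k C) T hT.1
  have hne : T.subtype ≠ 0 := by
    intro h
    apply hT.2.1
    rw [eq_bot_iff]
    intro x hx
    have := LinearMap.congr_fun h ⟨x, hx⟩
    simpa using this
  obtain ⟨φ, e, he⟩ := exists_comodIso_of_range_le_iSup_range (V := C)
    (fun _ : V →ₗ[k] k => V) (fun _ => hV) (fun φ => coeffMap (C := C) φ)
    (fun φ => isComodHom_coeffMap φ) hTs T.subtype hsub hne
    (by rw [Submodule.range_subtype]; exact hle)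
  exact ⟨e, he⟩

/-- S14841: the coefficient space of a simple comodule is a simple subcoalgebra. -/
theorem isSimpleSubcoalg_coeffSpace (hV : IsSimpleComod k C V) :
    IsSimpleSubcoalg (coeffSpace k C V) := by
  refine ⟨?_, isSubcoalg_coeffSpace, ?_⟩
  · intro h
    obtain ⟨x, y, hxy⟩ := hV.1
    exact hxy ((eq_zero_of_coeffSpace_eq_bot h x).trans (eq_zero_of_coeffSpace_eq_bot h y).symm)
  · intro B hBD hB
    by_cases hB0 : B = ⊥
    · exact Or.inl hB0
    right
    have hBsub : IsSubcoalg B := hB
    obtain ⟨T, hTB, hT⟩ := exists_isSimpleSub_le (V := C) hBsub.isSubcomod hB0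
    obtain ⟨e, he⟩ := exists_equiv_of_isSimpleSub_le_coeffSpace hV hT (hTB.trans hBD)
    apply le_antisymm hBD
    letI : Comod k C T := ComodSub.Comod.restr (Comod.regular k C) T hT.1
    rw [← coeffSpace_eq_of_equiv e he]
    exact coeffSpace_restr_le T hT.1 hBsub hTB

/-- S14842 (core): a simple subcoalgebra is the coefficient space of a simple right coideal
contained in it. -/
theorem exists_isSimpleSub_coeffSpace_eq {D : Submodule k C} (hD : IsSimpleSubcoalg D) :
    ∃ (E : Submodule k C) (hE : IsSimpleSub k C (V := C) E), E ≤ D ∧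
      @coeffSpace k _ C _ _ _ E _ _ (ComodSub.Comod.restr (Comod.regular k C) E hE.1) = D := by
  have hDsub : IsSubcoalg D := hD.2.1
  obtain ⟨T, hTD, hT⟩ := exists_isSimpleSub_le (V := C) hDsub.isSubcomod hD.1
  refine ⟨T, hT, hTD, ?_⟩
  letI : Comod k C T := ComodSub.Comod.restr (Comod.regular k C) T hT.1
  rcases hD.2.2 _ (coeffSpace_restr_le T hT.1 hDsub hTD) isSubcoalg_coeffSpace with h | h
  · exfalso
    apply hT.2.1
    rw [eq_bot_iff, ← h]
    exact le_coeffSpace_restr T hT.1
  · exact h

/-- For a right coideal `E`, `Δ(E) ⊆ E ⊗ D'` iff the coefficient space of `E` lies in `D'`. -/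
lemma forall_comul_mem_range_map_iff (E : Submodule k C)
    (hE : IsSubcomod (k := k) (A := C) (V := C) E) (D' : Submodule k C) :
    (∀ e ∈ E, CoalgebraStruct.comul (R := k) e ∈
      LinearMap.range (TensorProduct.map E.subtype D'.subtype)) ↔
    @coeffSpace k _ C _ _ _ E _ _ (ComodSub.Comod.restr (Comod.regular k C) E hE) ≤ D' := by
  letI : Comod k C E := ComodSub.Comod.restr (Comod.regular k C) E hE
  rw [coeffSpace_le_iff]
  constructor
  · intro h e
    obtain ⟨y, hy⟩ := h e e.2
    refine ⟨y, ?_⟩
    apply Module.Flat.rTensor_preserves_injective_linearMap (M := C) _ E.injective_subtype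
    have h1 := ComodSub.restr_coact_coe (Comod.regular k C) E hE e
    change E.subtype.rTensor C (Comod.coact (k := k) (A := C) e) =
      CoalgebraStruct.comul (R := k) (e : C) at h1
    rw [h1, ← hy, map_eq_rTensor_lTensor]
  · intro h e he
    obtain ⟨y, hy⟩ := h ⟨e, he⟩
    refine ⟨y, ?_⟩
    have h1 := ComodSub.restr_coact_coe (Comod.regular k C) E hE ⟨e, he⟩
    change E.subtype.rTensor C (Comod.coact (k := k) (A := C) (⟨e, he⟩ : E)) =
      CoalgebraStruct.comul (R := k) e at h1
    rw [← h1, ← hy, map_eq_rTensor_lTensor]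

/-- S14851: simple comodules with the same coefficient space are isomorphic. -/
theorem exists_equiv_of_coeffSpace_eq (hV : IsSimpleComod k C V) (hW : IsSimpleComod k C W)
    (h : coeffSpace k C V = coeffSpace k C W) :
    ∃ e : V ≃ₗ[k] W, Hoch.IsComodHom C (e : V →ₗ[k] W) := by
  obtain ⟨x, y, hxy⟩ := hW.1
  have hne : x - y ≠ 0 := sub_ne_zero.2 hxy
  obtain ⟨ψ, hψ⟩ := Module.Projective.exists_dual_ne_zero k hne
  have hf0 : coeffMap (C := C) ψ ≠ 0 := by
    intro h0
    apply hψ
    rw [← counit_coeffMap (C := C) ψ (x - y), h0, LinearMap.zero_apply, map_zero]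
  obtain ⟨φ, e, he⟩ := exists_comodIso_of_range_le_iSup_range (V := C)
    (fun _ : V →ₗ[k] k => V) (fun _ => hV) (fun φ => coeffMap (C := C) φ)
    (fun φ => isComodHom_coeffMap φ) hW (coeffMap (C := C) ψ) (isComodHom_coeffMap ψ) hf0
    (by
      rintro _ ⟨w, rfl⟩
      have := coeffMap_mem (C := C) ψ w
      rw [← h] at this
      exact this)
  exact ⟨e.symm, isComodHom_symm e he⟩

end Main

section Distinct

variable {k : Type u} [Field k] {C : Type v} [AddCommGroup C] [Module k C] [Coalgebra k C]
variable {V : Type w} [AddCommGroup V] [Module k V] [Comod k C V]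
variable {W : Type w'} [AddCommGroup W] [Module k W] [Comod k C W]

lemma eq_zero_of_coact_eq_zero (v : V) (h : Comod.coact (k := k) (A := C) v = 0) : v = 0 := by
  have hu := LinearMap.congr_fun (Comod.counit_comp (k := k) (A := C) (V := V)) v
  simp only [LinearMap.comp_apply, LinearMap.flip_apply, TensorProduct.mk_apply] at hu
  rw [h, map_zero] at hu
  have := congrArg (TensorProduct.rid k V) hu
  simpa using this.symm

lemma inf_eq_bot_of_isSimpleSubcoalg_of_ne {D₁ D₂ : Submodule k C} (h₁ : IsSimpleSubcoalg D₁)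
    (h₂ : IsSimpleSubcoalg D₂) (hne : D₁ ≠ D₂) : D₁ ⊓ D₂ = ⊥ := by
  have hsub : IsSubcoalg (D₁ ⊓ D₂) := isSubcoalg_inf h₁.2.1 h₂.2.1
  rcases h₁.2.2 _ inf_le_left hsub with h | h
  · exact h
  rcases h₂.2.2 _ inf_le_right hsub with h' | h'
  · exact h'
  · exact absurd (h.symm.trans h') hne

/-- S14852: no nonzero comodule maps between comodules with coefficients in distinct simple
subcoalgebras. -/
theorem eq_zero_of_coeff_in_distinct {D₁ D₂ : Submodule k C} (h₁ : IsSimpleSubcoalg D₁)
    (h₂ : IsSimpleSubcoalg D₂) (hne : D₁ ≠ D₂)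
    (hV : ∀ v : V, Comod.coact (k := k) (A := C) v ∈ LinearMap.range (LinearMap.lTensor V D₁.subtype))
    (hW : ∀ w : W, Comod.coact (k := k) (A := C) w ∈ LinearMap.range (LinearMap.lTensor W D₂.subtype))
    (φ : V →ₗ[k] W) (hφ : Hoch.IsComodHom C φ) : φ = 0 := by
  apply LinearMap.ext
  intro v
  rw [LinearMap.zero_apply]
  apply eq_zero_of_coact_eq_zero (k := k) (C := C)
  apply eq_zero_of_forall_contrL_eq_zero
  intro ψ
  have hbot := inf_eq_bot_of_isSimpleSubcoalg_of_ne h₁ h₂ hne
  have hm : contrL C ψ (Comod.coact (k := k) (A := C) (φ v)) ∈ D₁ ⊓ D₂ := by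
    constructor
    · have : Comod.coact (k := k) (A := C) (φ v) ∈ LinearMap.range (LinearMap.lTensor W D₁.subtype) := by
        obtain ⟨y, hy⟩ := hV v
        rw [isComodHom_apply hφ, ← hy]
        exact ⟨φ.rTensor _ y, ComodTens.lTensor_rTensor_comm _ φ y⟩
      exact (mem_range_lTensor_subtype_iff D₁ _).1 this ψ
    · exact (mem_range_lTensor_subtype_iff D₂ _).1 (hW (φ v)) ψ
  rw [hbot, Submodule.mem_bot] at hm
  exact hm

end Distinct

section Finite

variable {k : Type u} [Field k] {C : Type v} [AddCommGroup C] [Module k C] [Coalgebra k C]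
variable {V : Type w} [AddCommGroup V] [Module k V] [Comod k C V]

/-- `coeffMap` as a bilinear map. -/
noncomputable def coeffMapL : (V →ₗ[k] k) →ₗ[k] V →ₗ[k] C where
  toFun := coeffMap
  map_add' φ ψ := by
    apply LinearMap.ext
    intro v
    simp [coeffMap, contrL, LinearMap.rTensor_add]
  map_smul' a φ := by
    apply LinearMap.ext
    intro v
    simp [coeffMap, contrL, LinearMap.rTensor_smul]

lemma coeffSpace_eq_range_lift :
    coeffSpace k C V = LinearMap.range (TensorProduct.lift (coeffMapL (C := C) (V := V))) := by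
  apply le_antisymm
  · apply iSup_le
    rintro φ _ ⟨v, rfl⟩
    exact ⟨φ ⊗ₜ[k] v, by simp [coeffMapL]⟩
  · rintro _ ⟨x, rfl⟩
    induction x using TensorProduct.induction_on with
    | zero => simp
    | tmul φ v =>
      rw [TensorProduct.lift.tmul]
      exact coeffMap_mem φ v
    | add a b ha hb =>
      rw [map_add]
      exact Submodule.add_mem _ ha hb

/-- The coefficient space of a finite-dimensional comodule is finite-dimensional. -/
theorem finite_coeffSpace [Module.Finite k V] : Module.Finite k (coeffSpace k C V) := by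
  rw [coeffSpace_eq_range_lift]
  exact Module.Finite.range _

/-- S14839: a simple coalgebra over a field is finite-dimensional. -/
theorem finite_of_simple_coalgebra [Nontrivial C]
    (hsimple : ∀ B : Submodule k C, IsSubcoalg B → B = ⊥ ∨ B = ⊤) : Module.Finite k C := by
  have htop : IsSimpleSubcoalg (⊤ : Submodule k C) :=
    ⟨top_ne_bot, isSubcoalg_top, fun B _ hB => hsimple B hB⟩
  obtain ⟨E, hE, _, hcf⟩ := exists_isSimpleSub_coeffSpace_eq htop
  letI : Comod k C E := ComodSub.Comod.restr (Comod.regular k C) E hE.1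
  haveI : Module.Finite k E := finite_of_isSimpleComod (isSimpleComod_restr hE)
  have hfin : Module.Finite k (coeffSpace k C E) := finite_coeffSpace
  rw [Module.Finite.iff_fg] at hfin
  change (coeffSpace k C E) = ⊤ at hcf
  rw [hcf] at hfin
  exact Module.finite_def.2 hfin

end Finite

section Isotypic

variable {k : Type u} [Field k] {C : Type v} [AddCommGroup C] [Module k C] [Coalgebra k C]
variable {V : Type w} [AddCommGroup V] [Module k V] [Comod k C V]

/-- A comodule map into the regular comodule has values in the coefficient space. -/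
lemma apply_mem_coeffSpace_of_isComodHom {f : V →ₗ[k] C} (hf : Hoch.IsComodHom C f) (v : V) :
    f v ∈ coeffSpace k C V := by
  have : f v = coeffMap (C := C) ((Coalgebra.counit (R := k) (A := C)) ∘ₗ f) v := by
    rw [coeffMap_apply, ← contrL_rTensor, ← isComodHom_apply hf]
    change f v = contrL C _ (Coalgebra.comul (R := k) (f v))
    rw [contrL, LinearMap.comp_apply, Coalgebra.rTensor_counit_comul]
    simp
  rw [this]
  exact coeffMap_mem _ _

/-- The regular comodule restricted to the coefficient space of a simple comodule is a sum of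
simple right coideals: here in the form "`C` is semisimple if `coeffSpace = ⊤`". -/
lemma isSemisimpleComod_regular_of_coeffSpace_eq_top (hV : IsSimpleComod k C V)
    (htop : coeffSpace k C V = ⊤) : IsSemisimpleComod k C C := by
  apply isSemisimpleComod_of_iSup_simple_eq_top
    (fun j : {φ : V →ₗ[k] k // coeffMap (C := C) φ ≠ 0} => LinearMap.range (coeffMap (C := C) j.1))
    (fun j => isSimpleSub_range hV (isComodHom_coeffMap j.1) j.2)
  rw [eq_top_iff, ← htop]
  apply iSup_le
  intro φ
  by_cases h : coeffMap (C := C) φ = 0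
  · rw [h, LinearMap.range_zero]; exact bot_le
  · exact le_iSup (fun j : {φ : V →ₗ[k] k // coeffMap (C := C) φ ≠ 0} =>
      LinearMap.range (coeffMap (C := C) j.1)) ⟨φ, h⟩

/-- S14850 (⇒): a simple coalgebra is isotypic as a right comodule over itself. -/
theorem exists_isotypic_of_simple_coalgebra [Nontrivial C]
    (hsimple : ∀ B : Submodule k C, IsSubcoalg B → B = ⊥ ∨ B = ⊤) :
    ∃ (E : Type v) (_ : AddCommGroup E) (_ : Module k E) (_ : Comod k C E),
      IsSimpleComod k C E ∧
      ∃ (ι : Type v) (f : ι → (E →ₗ[k] C)),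
        (∀ i, Hoch.IsComodHom C (f i) ∧ Function.Injective (f i)) ∧
        iSupIndep (fun i => LinearMap.range (f i)) ∧ (⨆ i, LinearMap.range (f i)) = ⊤ := by
  classical
  have htop : IsSimpleSubcoalg (⊤ : Submodule k C) :=
    ⟨top_ne_bot, isSubcoalg_top, fun B _ hB => hsimple B hB⟩
  obtain ⟨E, hE, _, hcf⟩ := exists_isSimpleSub_coeffSpace_eq htop
  letI cE : Comod k C E := ComodSub.Comod.restr (Comod.regular k C) E hE.1
  have hEs : IsSimpleComod k C E := isSimpleComod_restr hE
  have hcf' : coeffSpace k C E = ⊤ := hcf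
  have hss : IsSemisimpleComod k C C := isSemisimpleComod_regular_of_coeffSpace_eq_top hEs hcf'
  have hsum := iSup_simple_eq_top_of_isSemisimpleComod hss
  obtain ⟨J, hind, hcompl⟩ := exists_isCompl_iSup_of_sum_simple
    (fun W : {W : Submodule k C // IsSimpleSub k C (V := C) W} => (W.1 : Submodule k C))
    (fun W => W.2) hsum ⊥ isSubcomod_bot
  have hJtop : (⨆ j : J, (j.1.1 : Submodule k C)) = ⊤ := by
    have := hcompl.sup_eq_top
    rwa [bot_sup_eq] at this
  have hiso : ∀ j : J, ∃ e : (j.1.1 : Submodule k C) ≃ₗ[k] E,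
      @Hoch.IsComodHom k _ C _ _ _ (j.1.1 : Submodule k C) _ _
        (ComodSub.Comod.restr (Comod.regular k C) j.1.1 j.1.2.1) E _ _ cE
        (e : (j.1.1 : Submodule k C) →ₗ[k] E) := by
    intro j
    exact exists_equiv_of_isSimpleSub_le_coeffSpace hEs j.1.2 (by rw [hcf']; exact le_top)
  choose e he using hiso
  refine ⟨E, inferInstance, inferInstance, cE, hEs, J,
    fun j => (j.1.1 : Submodule k C).subtype ∘ₗ ((e j).symm : E →ₗ[k] (j.1.1 : Submodule k C)),
    ?_, ?_, ?_⟩
  · intro j
    letI : Comod k C (j.1.1 : Submodule k C) :=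
      ComodSub.Comod.restr (Comod.regular k C) j.1.1 j.1.2.1
    constructor
    · exact isComodHom_comp (ComodSub.isComodHom_subtype (Comod.regular k C) j.1.1 j.1.2.1)
        (isComodHom_symm (e j) (he j))
    · exact (j.1.1 : Submodule k C).injective_subtype.comp (e j).symm.injective
  · have : (fun j : J => LinearMap.range ((j.1.1 : Submodule k C).subtype ∘ₗ
        ((e j).symm : E →ₗ[k] (j.1.1 : Submodule k C)))) = fun j : J => (j.1.1 : Submodule k C) := by
      funext j
      rw [LinearMap.range_comp, LinearEquiv.range, Submodule.map_top, Submodule.range_subtype]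
    rw [this]
    exact hind
  · have : (fun j : J => LinearMap.range ((j.1.1 : Submodule k C).subtype ∘ₗ
        ((e j).symm : E →ₗ[k] (j.1.1 : Submodule k C)))) = fun j : J => (j.1.1 : Submodule k C) := by
      funext j
      rw [LinearMap.range_comp, LinearEquiv.range, Submodule.map_top, Submodule.range_subtype]
    rw [this]
    exact hJtop

/-- S14850 (⇐): an isotypic coalgebra is simple. -/
theorem simple_coalgebra_of_isotypic (hV : IsSimpleComod k C V) {ι : Type*}
    (f : ι → (V →ₗ[k] C)) (hf : ∀ i, Hoch.IsComodHom C (f i))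
    (htop : (⨆ i, LinearMap.range (f i)) = ⊤)
    (B : Submodule k C) (hB : IsSubcoalg B) : B = ⊥ ∨ B = ⊤ := by
  by_cases hB0 : B = ⊥
  · exact Or.inl hB0
  right
  obtain ⟨T, hTB, hT⟩ := exists_isSimpleSub_le (V := C) hB.isSubcomod hB0
  letI : Comod k C T := ComodSub.Comod.restr (Comod.regular k C) T hT.1
  have hTs := isSimpleComod_restr hT
  have hsub : Hoch.IsComodHom C T.subtype := ComodSub.isComodHom_subtype (Comod.regular k C) T hT.1
  have hne : T.subtype ≠ 0 := by
    intro h
    apply hT.2.1
    rw [eq_bot_iff]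
    intro x hx
    have := LinearMap.congr_fun h ⟨x, hx⟩
    simpa using this
  obtain ⟨i, e, he⟩ := exists_comodIso_of_range_le_iSup_range (V := C)
    (fun _ : ι => V) (fun _ => hV) f hf hTs T.subtype hsub hne (by rw [htop]; exact le_top)
  rw [eq_top_iff, ← htop]
  apply iSup_le
  rintro j _ ⟨v, rfl⟩
  have h1 := apply_mem_coeffSpace_of_isComodHom (hf j) v
  rw [← coeffSpace_eq_of_equiv e he] at h1
  exact coeffSpace_restr_le T hT.1 hB hTB h1

end Isotypic

section Cosemisimple

variable {k : Type u} [Field k] {C : Type v} [AddCommGroup C] [Module k C] [Coalgebra k C]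
variable {V : Type w} [AddCommGroup V] [Module k V] [Comod k C V]

/-- A comodule which is a sum of images of simple comodules is semisimple. -/
theorem isSemisimpleComod_of_iSup_range_eq_top {ι : Type*} (K : ι → Type w'')
    [∀ i, AddCommGroup (K i)] [∀ i, Module k (K i)] [∀ i, Comod k C (K i)]
    (hK : ∀ i, IsSimpleComod k C (K i)) (g : ∀ i, K i →ₗ[k] V)
    (hg : ∀ i, Hoch.IsComodHom C (g i)) (hsum : (⨆ i, LinearMap.range (g i)) = ⊤) :
    IsSemisimpleComod k C V := by
  apply isSemisimpleComod_of_iSup_simple_eq_top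
    (fun j : {i : ι // g i ≠ 0} => LinearMap.range (g j.1))
    (fun j => isSimpleSub_range (hK j.1) (hg j.1) j.2)
  rw [eq_top_iff, ← hsum]
  apply iSup_le
  intro i
  by_cases hi : g i = 0
  · rw [hi, LinearMap.range_zero]; exact bot_le
  · exact le_iSup (fun j : {i : ι // g i ≠ 0} => LinearMap.range (g j.1)) ⟨i, hi⟩

/-- `c ↦ n ⊗ c` as a map into the induced comodule. -/
noncomputable def indMk {N : Type w'} [AddCommGroup N] [Module k N] (n : N) :
    C →ₗ[k] Hoch.Ind k C N :=
  (Hoch.Ind.equiv k C N).toLinearMap ∘ₗ TensorProduct.mk k N C n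

lemma isComodHom_indMk {N : Type w'} [AddCommGroup N] [Module k N] (n : N) :
    Hoch.IsComodHom C (indMk (k := k) (C := C) n) := by
  rw [isComodHom_iff]
  intro c
  change (TensorProduct.assoc k N C C).symm (n ⊗ₜ[k] Coalgebra.comul (R := k) c) =
    (TensorProduct.mk k N C n).rTensor C (Coalgebra.comul (R := k) c)
  generalize Coalgebra.comul (R := k) c = z
  induction z using TensorProduct.induction_on with
  | zero => simp
  | tmul a b => simp
  | add a b ha hb => simp only [TensorProduct.tmul_add, map_add, ha, hb]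

/-- If the regular comodule is semisimple then so is every induced comodule. -/
theorem isSemisimpleComod_ind (hC : IsSemisimpleComod k C C) (N : Type w') [AddCommGroup N]
    [Module k N] : IsSemisimpleComod k C (Hoch.Ind k C N) := by
  have hsum := iSup_simple_eq_top_of_isSemisimpleComod hC
  let ι := N × {W : Submodule k C // IsSimpleSub k C (V := C) W}
  letI inst : ∀ i : ι, Comod k C (i.2.1 : Submodule k C) := fun i =>
    ComodSub.Comod.restr (Comod.regular k C) i.2.1 i.2.2.1
  apply isSemisimpleComod_of_iSup_range_eq_top (ι := ι) (fun i => (i.2.1 : Submodule k C))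
    (fun i => isSimpleComod_restr i.2.2)
    (fun i => indMk (k := k) (C := C) i.1 ∘ₗ (i.2.1 : Submodule k C).subtype)
    (fun i => isComodHom_comp (isComodHom_indMk i.1)
      (ComodSub.isComodHom_subtype (Comod.regular k C) i.2.1 i.2.2.1))
  rw [eq_top_iff]
  intro x _
  change x ∈ ⨆ i : ι, LinearMap.range (indMk (k := k) (C := C) i.1 ∘ₗ (i.2.1 : Submodule k C).subtype)
  have hx : ∀ y : N ⊗[k] C, (Hoch.Ind.equiv k C N y) ∈
      ⨆ i : ι, LinearMap.range (indMk (k := k) (C := C) i.1 ∘ₗ (i.2.1 : Submodule k C).subtype) := by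
    intro y
    induction y using TensorProduct.induction_on with
    | zero => simp
    | tmul n c =>
      have hc : c ∈ ⨆ W : {W : Submodule k C // IsSimpleSub k C (V := C) W}, (W.1 : Submodule k C) := by
        rw [hsum]; trivial
      refine Submodule.iSup_induction _ (motive := fun c => (Hoch.Ind.equiv k C N (n ⊗ₜ[k] c)) ∈
        ⨆ i : ι, LinearMap.range (indMk (k := k) (C := C) i.1 ∘ₗ (i.2.1 : Submodule k C).subtype))
        hc ?_ ?_ ?_
      · intro W c hc
        exact (le_iSup (fun i : ι => LinearMap.range (indMk (k := k) (C := C) i.1 ∘ₗ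
          (i.2.1 : Submodule k C).subtype)) (n, W)) ⟨⟨c, hc⟩, rfl⟩
      · simp
      · intro a b ha hb
        rw [TensorProduct.tmul_add, map_add]
        exact Submodule.add_mem _ ha hb
    | add a b ha hb =>
      rw [map_add]
      exact Submodule.add_mem _ ha hb
  exact hx x

/-- If the regular comodule is semisimple then so is every comodule. -/
theorem isSemisimpleComod_of_regular (hC : IsSemisimpleComod k C C) : IsSemisimpleComod k C V :=
  isSemisimpleComod_of_injective (isComodHom_toInd (k := k) (A := C) (V := V))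
    (injective_toInd (k := k) (A := C) (V := V)) (isSemisimpleComod_ind hC V)

/-- The regular comodule of a coalgebra which is a sum of simple subcoalgebras is semisimple. -/
theorem isSemisimpleComod_regular_of_iSup_simple {ι : Type*} (D : ι → Submodule k C)
    (hD : ∀ i, IsSimpleSubcoalg (D i)) (htop : iSup D = ⊤) : IsSemisimpleComod k C C := by
  choose E hE hED hcf using fun i => exists_isSimpleSub_coeffSpace_eq (hD i)
  letI inst : ∀ i : ι, Comod k C (E i) := fun i =>
    ComodSub.Comod.restr (Comod.regular k C) (E i) (hE i).1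
  apply isSemisimpleComod_of_iSup_range_eq_top (ι := Σ i : ι, (E i →ₗ[k] k)) (fun j => E j.1)
    (fun j => isSimpleComod_restr (hE j.1)) (fun j => coeffMap (C := C) j.2)
    (fun j => isComodHom_coeffMap j.2)
  rw [eq_top_iff, ← htop]
  apply iSup_le
  intro i
  have : D i = coeffSpace k C (E i) := (hcf i).symm
  rw [this]
  apply iSup_le
  intro φ
  exact le_iSup (fun j : Σ i : ι, (E i →ₗ[k] k) => LinearMap.range (coeffMap (C := C) j.2)) ⟨i, φ⟩

/-- Distinct simple subcoalgebras are independent. -/
theorem iSupIndep_isSimpleSubcoalg :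
    iSupIndep (fun D : {D : Submodule k C // IsSimpleSubcoalg D} => (D.1 : Submodule k C)) := by
  intro D
  rw [disjoint_iff]
  set S : Submodule k C := ⨆ (j : {D : Submodule k C // IsSimpleSubcoalg D}) (_ : j ≠ D), j.1
    with hS
  have hSsub : IsSubcoalg S := isSubcoalg_iSup fun j => isSubcoalg_iSup fun _ => j.2.2.1
  rcases D.2.2.2 _ inf_le_left (isSubcoalg_inf D.2.2.1 hSsub) with h | h
  · exact h
  exfalso
  have hDS : D.1 ≤ S := by rw [← h]; exact inf_le_right
  obtain ⟨E, hE, hED, hcf⟩ := exists_isSimpleSub_coeffSpace_eq D.2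
  choose E' hE' hED' hcf' using fun j : {D : Submodule k C // IsSimpleSubcoalg D} =>
    exists_isSimpleSub_coeffSpace_eq j.2
  letI : Comod k C E := ComodSub.Comod.restr (Comod.regular k C) E hE.1
  letI inst : ∀ j, Comod k C (E' j) := fun j =>
    ComodSub.Comod.restr (Comod.regular k C) (E' j) (hE' j).1
  have hEs := isSimpleComod_restr hE
  have hsub : Hoch.IsComodHom C E.subtype := ComodSub.isComodHom_subtype (Comod.regular k C) E hE.1
  have hne : E.subtype ≠ 0 := by
    intro h0
    apply hE.2.1
    rw [eq_bot_iff]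
    intro x hx
    have := LinearMap.congr_fun h0 ⟨x, hx⟩
    simpa using this
  let ι := Σ j : {j : {D : Submodule k C // IsSimpleSubcoalg D} // j ≠ D}, (E' j.1 →ₗ[k] k)
  obtain ⟨i, e, he⟩ := exists_comodIso_of_range_le_iSup_range (V := C) (ι := ι)
    (fun i => E' i.1.1) (fun i => isSimpleComod_restr (hE' i.1.1))
    (fun i => coeffMap (C := C) i.2) (fun i => isComodHom_coeffMap i.2) hEs E.subtype hsub hne
    (by
      rw [Submodule.range_subtype]
      refine (hED.trans hDS).trans ?_
      rw [hS]
      apply iSup_le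
      intro j
      apply iSup_le
      intro hj
      have : j.1 = coeffSpace k C (E' j) := (hcf' j).symm
      rw [this]
      apply iSup_le
      intro φ
      exact le_iSup (fun i : ι => LinearMap.range (coeffMap (C := C) i.2)) ⟨⟨j, hj⟩, φ⟩)
  apply i.1.2
  apply Subtype.ext
  have h1 : coeffSpace k C E = coeffSpace k C (E' i.1.1) := coeffSpace_eq_of_equiv e he
  have h2 : coeffSpace k C E = D.1 := hcf
  have h3 : coeffSpace k C (E' i.1.1) = i.1.1.1 := hcf' i.1.1
  rw [← h3, ← h1, h2]

/-- If the regular comodule is semisimple, the simple subcoalgebras sum to `C`. -/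
theorem iSup_isSimpleSubcoalg_eq_top (hC : IsSemisimpleComod k C C) :
    (⨆ D : {D : Submodule k C // IsSimpleSubcoalg D}, (D.1 : Submodule k C)) = ⊤ := by
  rw [eq_top_iff, ← iSup_simple_eq_top_of_isSemisimpleComod hC]
  apply iSup_le
  intro T
  letI : Comod k C T.1 := ComodSub.Comod.restr (Comod.regular k C) T.1 T.2.1
  refine (le_coeffSpace_restr T.1 T.2.1).trans ?_
  exact le_iSup (fun D : {D : Submodule k C // IsSimpleSubcoalg D} => (D.1 : Submodule k C))
    ⟨coeffSpace k C T.1, isSimpleSubcoalg_coeffSpace (isSimpleComod_restr T.2)⟩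

end Cosemisimple

end Groth.Agent.Lib.Helper7.Comod
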