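import Groth.Agent.Lib.Helper7.CoalgDecomp
import Groth.Agent.Lib.Helper7.CoeffSpace

/-!
# Comodules over cocommutative coalgebras; diagonalizable groups (helper7)
-/

universe u v w

open TensorProduct

namespace Groth.Agent.Lib.Helper7.Comod

open HopfRep

section Cocomm

variable {k : Type u} [Field k] {C : Type v} [AddCommGroup C] [Module k C] [Coalgebra k C]
variable [Coalgebra.IsCocomm k C]
variable {V : Type w} [AddCommGroup V] [Module k V] [Comod k C V]

/-- Over a cocommutative coalgebra, `v ↦ (id ⊗ g)(ρ v)` is a comodule endomorphism. -/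
lemma isComodHom_contr_coact_of_isCocomm (g : C →ₗ[k] k) :
    Hoch.IsComodHom C (contr V g ∘ₗ Comod.coact (k := k) (A := C) (V := V)) := by
  rw [isComodHom_iff]
  intro v
  have h1 := CoalgDecomp.coact_ctr_coact (R := k) (C := C) (V := V) g v
  have h2 := CoalgDecomp.rTensor_ctr_coact_coact (R := k) (C := C) (V := V) g v
  have h3 : CoalgDecomp.ctr C g ∘ₗ Coalgebra.comul (R := k) (A := C) =
      CoalgDecomp.ctl g ∘ₗ Coalgebra.comul (R := k) (A := C) := by
    apply LinearMap.ext
    intro c
    have key : ∀ z : C ⊗[k] C, CoalgDecomp.ctl g z = CoalgDecomp.ctr C g (TensorProduct.comm k C C z) := by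
      intro z
      induction z using TensorProduct.induction_on with
      | zero => simp
      | tmul a b => simp
      | add a b ha hb => simp only [map_add, ha, hb]
    rw [LinearMap.comp_apply, LinearMap.comp_apply, key, Coalgebra.comm_comul]
  rw [h3] at h1
  exact h1.trans h2.symm

/-- S3308 core: over an algebraically closed field, simple comodules over a cocommutative coalgebra
are one-dimensional. -/
theorem finrank_eq_one_of_isSimpleComod_of_isCocomm [IsAlgClosed k] (hV : IsSimpleComod k C V) :
    Module.finrank k V = 1 := by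
  obtain ⟨x, y, hxy⟩ := hV.1
  have hne : x - y ≠ 0 := sub_ne_zero.2 hxy
  set v := x - y with hv
  have hsub : IsSubcomod (k := k) (A := C) (Submodule.span k {v}) := by
    intro w hw
    rw [mem_range_rTensor_iff_contr]
    intro g
    obtain ⟨a, ha⟩ := exists_smul_eq_of_isComodHom hV _ (isComodHom_contr_coact_of_isCocomm (V := V) g)
    have := LinearMap.congr_fun ha w
    simp only [LinearMap.comp_apply, LinearMap.smul_apply, LinearMap.id_apply] at this
    rw [this]
    exact Submodule.smul_mem _ _ hw
  rcases hV.2 _ hsub with h | h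
  · exfalso
    have : v ∈ Submodule.span k {v} := Submodule.subset_span (Set.mem_singleton v)
    rw [h, Submodule.mem_bot] at this
    exact hne this
  · exact (finrank_eq_one_iff_of_nonzero v hne).2 h

end Cocomm

section Diag

variable {k : Type u} [Field k] {A : Type v} [AddCommGroup A] [Module k A] [Coalgebra k A]
variable {V : Type w} [AddCommGroup V] [Module k V] [Comod k A V]

/-- If the group-like elements span `A`, every comodule is spanned by eigenvectors
(general coalgebra version). -/
theorem span_eigenvectors_eq_top_of_span_groupLike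
    (hA : Submodule.span k {a : A | IsGroupLikeElem k a} = ⊤) :
    Submodule.span k {v : V | ∃ a : A, Comod.coact (k := k) (A := A) v = v ⊗ₜ[k] a} = ⊤ := by
  classical
  -- the basis of group-like elements
  have hli : LinearIndependent k (fun g : {a : A | IsGroupLikeElem k a} => (g : A)) :=
    linearIndepOn_isGroupLikeElem (R := k) (A := A)
  have hsp : ⊤ ≤ Submodule.span k (Set.range (fun g : {a : A | IsGroupLikeElem k a} => (g : A))) := by
    rw [Subtype.range_coe_subtype]
    exact hA.ge
  let b : Module.Basis {a : A | IsGroupLikeElem k a} k A := Module.Basis.mk hli hsp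
  have hb : ∀ g, b g = (g : A) := fun g => Module.Basis.mk_apply hli hsp g
  rw [eq_top_iff]
  intro v _
  -- components of `v`
  have hcomp : ∀ g : {a : A | IsGroupLikeElem k a},
      Comod.coact (k := k) (A := A) (contr V (b.coord g) (Comod.coact (k := k) (A := A) v)) =
        contr V (b.coord g) (Comod.coact (k := k) (A := A) v) ⊗ₜ[k] (g : A) := by
    intro g
    have h1 := CoalgDecomp.coact_ctr_coact (R := k) (C := A) (V := V) (b.coord g) v
    have h2 : CoalgDecomp.ctr A (b.coord g) ∘ₗ Coalgebra.comul (R := k) (A := A) =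
        (b.coord g).smulRight (g : A) := by
      apply b.ext
      intro h
      have hh : IsGroupLikeElem k (h : A) := h.2
      rw [LinearMap.comp_apply, hb, hh.comul_eq_tmul_self, CoalgDecomp.ctr_tmul,
        LinearMap.smulRight_apply, ← hb h, Module.Basis.coord_apply, Module.Basis.repr_self]
      by_cases hgh : h = g
      · subst hgh; simp [hb]
      · rw [Finsupp.single_eq_of_ne (Ne.symm hgh), zero_smul, zero_smul]
    have h3 : ∀ x : V ⊗[k] A, LinearMap.lTensor V ((b.coord g).smulRight (g : A)) x =
        contr V (b.coord g) x ⊗ₜ[k] (g : A) := by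
      intro x
      induction x using TensorProduct.induction_on with
      | zero => simp
      | tmul u a => simp [TensorProduct.smul_tmul]
      | add a b ha hb => simp only [map_add, ha, hb, TensorProduct.add_tmul]
    change Comod.coact (k := k) (A := A) (CoalgDecomp.ctr V (b.coord g) _) = _
    rw [h1, h2, h3]
  obtain ⟨s, hs⟩ := sum_coordR_tmul b (Comod.coact (k := k) (A := A) v)
  have hv : v = ∑ g ∈ s, contr V (b.coord g) (Comod.coact (k := k) (A := A) v) := by
    have hu := LinearMap.congr_fun (Comod.counit_comp (k := k) (A := A) (V := V)) v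
    simp only [LinearMap.comp_apply, LinearMap.flip_apply, TensorProduct.mk_apply] at hu
    have h4 := congrArg (TensorProduct.rid k V) hu
    rw [TensorProduct.rid_tmul, one_smul] at h4
    calc v = TensorProduct.rid k V ((Coalgebra.counit (R := k) (A := A)).lTensor V
          (Comod.coact (k := k) (A := A) v)) := h4.symm
      _ = TensorProduct.rid k V ((Coalgebra.counit (R := k) (A := A)).lTensor V
          (∑ g ∈ s, coordR b g (Comod.coact (k := k) (A := A) v) ⊗ₜ[k] b g)) := by rw [← hs]
      _ = ∑ g ∈ s, contr V (b.coord g) (Comod.coact (k := k) (A := A) v) := by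
          rw [map_sum, map_sum]
          apply Finset.sum_congr rfl
          intro g _
          have hg : IsGroupLikeElem k (g : A) := g.2
          rw [LinearMap.lTensor_tmul, TensorProduct.rid_tmul, hb, hg.counit_eq_one, one_smul]
          rfl
  rw [hv]
  exact Submodule.sum_mem _ fun g _ => Submodule.subset_span ⟨(g : A), hcomp g⟩

/-- An eigenvector of the regular comodule is a multiple of a group-like element. -/
lemma mem_span_groupLike_of_comul_eq {w a : A}
    (h : Coalgebra.comul (R := k) w = w ⊗ₜ[k] a) :
    w ∈ Submodule.span k {a : A | IsGroupLikeElem k a} := by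
  by_cases hw : w = 0
  · rw [hw]; exact Submodule.zero_mem _
  have h1 : w = Coalgebra.counit (R := k) w • a := by
    have := Coalgebra.rTensor_counit_comul (R := k) w
    rw [h, LinearMap.rTensor_tmul] at this
    have h' := congrArg (TensorProduct.lid k A) this
    simpa using h'.symm
  have hε : Coalgebra.counit (R := k) w ≠ 0 := by
    intro h0
    rw [h0, zero_smul] at h1
    exact hw h1
  have h2 : Coalgebra.counit (R := k) a = 1 := by
    have := Coalgebra.lTensor_counit_comul (R := k) w
    rw [h, LinearMap.lTensor_tmul] at this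
    have h' := congrArg (TensorProduct.rid k A) this
    rw [TensorProduct.rid_tmul, TensorProduct.rid_tmul, one_smul] at h'
    have h3 : (Coalgebra.counit (R := k) a - 1) • w = 0 := by rw [sub_smul, h', one_smul, sub_self]
    rcases smul_eq_zero.1 h3 with h4 | h4
    · exact sub_eq_zero.1 h4
    · exact absurd h4 hw
  have h3 : Coalgebra.comul (R := k) a = a ⊗ₜ[k] a := by
    have hc := Coalgebra.coassoc_apply (R := k) w
    rw [h, LinearMap.rTensor_tmul, LinearMap.lTensor_tmul, h, TensorProduct.assoc_tmul] at hc
    -- `w ⊗ (a ⊗ a) = w ⊗ Δ a`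
    have h4 := congrArg (TensorProduct.lid k (A ⊗[k] A) ∘
      (Coalgebra.counit (R := k) (A := A)).rTensor (A ⊗[k] A)) hc
    simp only [Function.comp_apply, LinearMap.rTensor_tmul, TensorProduct.lid_tmul] at h4
    have h5 := congrArg (fun z => (Coalgebra.counit (R := k) w)⁻¹ • z) h4
    simp only [smul_smul, inv_mul_cancel₀ hε, one_smul] at h5
    exact h5.symm
  rw [h1]
  exact Submodule.smul_mem _ _ (Submodule.subset_span ⟨h2, h3⟩)

/-- If every finite-dimensional comodule (in the universe of `A`) is spanned by eigenvectors,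
then `A` is spanned by its group-like elements. -/
theorem span_groupLike_eq_top_of_span_eigenvectors
    (h : ∀ (V : Type v) [AddCommGroup V] [Module k V] [Comod k A V], Module.Finite k V →
      Submodule.span k {v : V | ∃ a : A, Comod.coact (k := k) (A := A) v = v ⊗ₜ[k] a} = ⊤) :
    Submodule.span k {a : A | IsGroupLikeElem k a} = ⊤ := by
  rw [eq_top_iff]
  intro a _
  obtain ⟨U, hfin, haU, hU⟩ := exists_finite_subcomod_mem (k := k) (C := A) (V := A) a
  letI cU : Comod k A U := ComodSub.Comod.restr (Comod.regular k A) U hU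
  have hspan := h U hfin
  have hle : Submodule.span k {v : U | ∃ a : A, Comod.coact (k := k) (A := A) v = v ⊗ₜ[k] a} ≤
      (Submodule.span k {a : A | IsGroupLikeElem k a}).comap U.subtype := by
    rw [Submodule.span_le]
    rintro w ⟨a', hw⟩
    have h1 := ComodSub.restr_coact_coe (Comod.regular k A) U hU w
    change U.subtype.rTensor A (Comod.coact (k := k) (A := A) w) =
      Coalgebra.comul (R := k) (w : A) at h1
    rw [hw, LinearMap.rTensor_tmul] at h1
    exact mem_span_groupLike_of_comul_eq h1.symm
  have : (⟨a, haU⟩ : U) ∈ Submodule.span k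
      {v : U | ∃ a : A, Comod.coact (k := k) (A := A) v = v ⊗ₜ[k] a} := by
    rw [hspan]; trivial
  exact hle this

end Diag

section DiagLR

variable {k : Type u} [Field k] {A : Type v} [AddCommGroup A] [Module k A] [Coalgebra k A]
variable {V : Type w} [AddCommGroup V] [Module k V] [Comod k A V]

lemma exists_coact_eq_tmul_of_isSubcomod_span_singleton (t : V)
    (h : IsSubcomod (k := k) (A := A) (Submodule.span k {t})) :
    ∃ a : A, Comod.coact (k := k) (A := A) t = t ⊗ₜ[k] a := by
  obtain ⟨y, hy⟩ := h t (Submodule.subset_span (Set.mem_singleton t))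
  rw [← hy]
  clear hy
  induction y using TensorProduct.induction_on with
  | zero => exact ⟨0, by simp⟩
  | tmul w a' =>
    obtain ⟨c, hc⟩ := Submodule.mem_span_singleton.1 w.2
    refine ⟨c • a', ?_⟩
    rw [LinearMap.rTensor_tmul, Submodule.subtype_apply, ← hc, TensorProduct.smul_tmul]
  | add y z hy hz =>
    obtain ⟨a, ha⟩ := hy
    obtain ⟨b, hb⟩ := hz
    exact ⟨a + b, by rw [map_add, ha, hb, TensorProduct.tmul_add]⟩

/-- A nonzero eigenvector spans a simple subcomodule. -/
lemma isSimpleSub_span_singleton_of_eigenvector {v : V} (hv : v ≠ 0) {a : A}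
    (h : Comod.coact (k := k) (A := A) v = v ⊗ₜ[k] a) :
    IsSimpleSub k A (Submodule.span k {v}) := by
  refine ⟨?_, ?_, ?_⟩
  · apply isSubcomod_span
    intro w hw
    rw [Set.mem_singleton_iff] at hw
    subst hw
    rw [h]
    exact tmul_mem_range_rTensor (Submodule.subset_span (Set.mem_singleton w)) a
  · intro h0
    have : v ∈ Submodule.span k {v} := Submodule.subset_span (Set.mem_singleton v)
    rw [h0, Submodule.mem_bot] at this
    exact hv this
  · intro W' _ hle
    by_cases hW : W' = ⊥
    · exact Or.inl hW
    right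
    apply le_antisymm hle
    obtain ⟨w, hwW, hw0⟩ := Submodule.exists_mem_ne_zero_of_ne_bot hW
    obtain ⟨c, hc⟩ := Submodule.mem_span_singleton.1 (hle hwW)
    have hc0 : c ≠ 0 := by
      intro h0
      rw [h0, zero_smul] at hc
      exact hw0 hc.symm
    rw [Submodule.span_singleton_le_iff_mem]
    have : v = c⁻¹ • w := by rw [← hc, smul_smul, inv_mul_cancel₀ hc0, one_smul]
    rw [this]
    exact Submodule.smul_mem _ _ hwW

/-- A comodule spanned by eigenvectors is semisimple. -/
theorem isSemisimpleComod_of_span_eigenvectors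
    (h : Submodule.span k {v : V | ∃ a : A, Comod.coact (k := k) (A := A) v = v ⊗ₜ[k] a} = ⊤) :
    IsSemisimpleComod k A V := by
  apply isSemisimpleComod_of_iSup_simple_eq_top
    (fun v : {v : V // v ≠ 0 ∧ ∃ a : A, Comod.coact (k := k) (A := A) v = v ⊗ₜ[k] a} =>
      Submodule.span k {(v : V)})
    (fun v => by
      obtain ⟨a, ha⟩ := v.2.2
      exact isSimpleSub_span_singleton_of_eigenvector v.2.1 ha)
  rw [eq_top_iff, ← h, Submodule.span_le]
  rintro v ⟨a, ha⟩
  by_cases hv : v = 0
  · rw [hv]; exact Submodule.zero_mem _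
  · exact (le_iSup (fun v : {v : V // v ≠ 0 ∧ ∃ a : A, Comod.coact (k := k) (A := A) v = v ⊗ₜ[k] a} =>
      Submodule.span k {(v : V)}) ⟨v, hv, a, ha⟩) (Submodule.subset_span (Set.mem_singleton v))

/-- A semisimple comodule all of whose simple subcomodules are one-dimensional is spanned by
eigenvectors. -/
theorem span_eigenvectors_eq_top_of_isSemisimpleComod (hV : IsSemisimpleComod k A V)
    (h1 : ∀ T : Submodule k V, IsSimpleSub k A T → Module.finrank k T = 1) :
    Submodule.span k {v : V | ∃ a : A, Comod.coact (k := k) (A := A) v = v ⊗ₜ[k] a} = ⊤ := by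
  rw [eq_top_iff, ← iSup_simple_eq_top_of_isSemisimpleComod hV]
  apply iSup_le
  intro T
  obtain ⟨t, ht0, hspan⟩ := finrank_eq_one_iff'.1 (h1 T.1 T.2)
  have hT : T.1 = Submodule.span k {(t : V)} := by
    apply le_antisymm
    · intro w hw
      obtain ⟨c, hc⟩ := hspan ⟨w, hw⟩
      rw [Submodule.mem_span_singleton]
      exact ⟨c, by rw [← Submodule.coe_smul, hc]⟩
    · rw [Submodule.span_singleton_le_iff_mem]
      exact t.2
  have hsub : IsSubcomod (k := k) (A := A) (Submodule.span k {(t : V)}) := hT ▸ T.2.1
  obtain ⟨a, ha⟩ := exists_coact_eq_tmul_of_isSubcomod_span_singleton (t : V) hsub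
  rw [hT, Submodule.span_singleton_le_iff_mem]
  exact Submodule.subset_span ⟨a, ha⟩

end DiagLR

end Groth.Agent.Lib.Helper7.Comod
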