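import Groth.Agent.Lib.Helper7.UE4
import Groth.Agent.Lib.Helper7.ComodCocomm

set_option autoImplicit false

namespace Groth.Agent.Lib.Helper7.UnipExt

open TensorProduct WithConv HopfRep Groth.Agent.Lib.Helper7.Comod
  Groth.Agent.Lib.Helper7.HopfConv Groth.Agent.Lib.Helper7.HopfMap
  Groth.Agent.Lib.Helper7.HopfCoinv Groth.Agent.Lib.Helper7.HopfSub

universe u v w w'

section Piece

variable {k : Type u} [Field k] {C : Type v} [AddCommGroup C] [Module k C] [Coalgebra k C]
  {V : Type w} [AddCommGroup V] [Module k V] [Comod k C V]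

variable (V) in
/-- the vectors whose matrix coefficients lie in the subspace `D`. -/
def coeffPiece (D : Submodule k C) : Submodule k V :=
  (LinearMap.range (LinearMap.lTensor V D.subtype)).comap
    (Comod.coact (k := k) (A := C) (V := V))

lemma mem_coeffPiece (D : Submodule k C) (v : V) :
    v ∈ coeffPiece V D ↔ ∀ φ : V →ₗ[k] k, contrL C φ (Comod.coact (k := k) (A := C) v) ∈ D := by
  rw [coeffPiece, Submodule.mem_comap, mem_range_lTensor_subtype_iff]

/-- the vectors with coefficients in a subcoalgebra form a subcomodule. -/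
theorem isSubcomod_coeffPiece {D : Submodule k C} (hD : IsSubcoalg D) :
    IsSubcomod (k := k) (A := C) (coeffPiece V D) := by
  intro v hv
  rw [mem_range_rTensor_iff_contr]
  intro g
  rw [mem_coeffPiece] at hv ⊢
  intro φ
  have h1 := Groth.Agent.Lib.Helper7.CoalgDecomp.coact_ctr_coact (R := k) (C := C) (V := V) g v
  have h2 : Comod.coact (k := k) (A := C) (contr V g (Comod.coact (k := k) (A := C) v)) =
      LinearMap.lTensor V (contr C g ∘ₗ Coalgebra.comul (R := k) (A := C))
        (Comod.coact (k := k) (A := C) v) := h1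
  rw [h2, contrL_lTensor, LinearMap.comp_apply]
  exact ((isSubcoalg_iff D).1 hD _ (hv φ)).1 g

/-- the coaction of the restricted comodule has coefficients in `D`. -/
lemma restr_coact_mem_range {D : Submodule k C} (hD : IsSubcoalg D) (w : ↥(coeffPiece V D)) :
    (ComodSub.Comod.restr (inferInstance : Comod k C V) (coeffPiece V D)
      (isSubcomod_coeffPiece hD)).coact w ∈
      LinearMap.range (LinearMap.lTensor ↥(coeffPiece V D) D.subtype) := by
  rw [mem_range_lTensor_subtype_iff]
  intro φ
  obtain ⟨φ', hφ'⟩ := exists_comp_eq_of_injective (coeffPiece V D).subtype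
    (coeffPiece V D).injective_subtype φ
  have h1 := ComodSub.restr_coact_coe (inferInstance : Comod k C V) (coeffPiece V D)
    (isSubcomod_coeffPiece hD) w
  have h2 : ∀ y : ↥(coeffPiece V D) ⊗[k] C, contrL C φ y =
      contrL C φ' ((coeffPiece V D).subtype.rTensor C y) := by
    intro y
    induction y using TensorProduct.induction_on with
    | zero => simp
    | tmul x c =>
      rw [LinearMap.rTensor_tmul, contrL_tmul, contrL_tmul, ← hφ']
      rfl
    | add y z hy hz => simp only [map_add, hy, hz]
  rw [h2]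
  have h3 : (coeffPiece V D).subtype.rTensor C
      ((ComodSub.Comod.restr (inferInstance : Comod k C V) (coeffPiece V D)
        (isSubcomod_coeffPiece hD)).coact w) = Comod.coact (k := k) (A := C) (w : V) := h1
  rw [h3]
  exact (mem_coeffPiece D (w : V)).1 w.2 φ'

end Piece

section Ext'

variable {k : Type u} [Field k] {A : Type v} [CommRing A] [HopfAlgebra k A]
  {C : Type v} [CommRing C] [HopfAlgebra k C]

/-- the coefficients of a vector fixed by the kernel of `G → Q` lie in `O(Q)`
(universe polymorphic, single vector). -/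
theorem coact_mem_range_of_fixed' (ψ : C →ₐc[k] A) (J : Ideal A)
    (hJ : J = Ideal.map (ψ : C →+* A) (RingHom.ker (Bialgebra.counitAlgHom k C)))
    {W : Type w} [AddCommGroup W] [Module k W] (cW : Comod k A W) (w : W)
    (hfix : LinearMap.lTensor W (Ideal.Quotient.mkₐ k J).toLinearMap (cW.coact w) =
      w ⊗ₜ[k] (1 : A ⧸ J)) :
    cW.coact w ∈ LinearMap.range (LinearMap.lTensor W (ψ : C →ₗ[k] A)) := by
  letI := cW
  rw [mem_range_lTensor_iff]
  intro g hg
  rw [← Module.forall_dual_apply_eq_zero_iff k]
  intro φ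
  rw [← apply_contrL_eq]
  change g (coeffMap (C := A) φ w) = 0
  have hmem : coeffMap (C := A) φ w ∈ (ψ : C →ₐ[k] A).range := by
    apply mem_of_comul_sub_mem (isHopfSub_range ψ)
    rw [← map_ker_counit_eq_augSpan, ← hJ]
    have hex0 : Function.Exact (J.restrictScalars k).subtype
        (Ideal.Quotient.mkₐ k J).toLinearMap := by
      intro a
      constructor
      · intro ha
        exact ⟨⟨a, Ideal.Quotient.eq_zero_iff_mem.1 ha⟩, rfl⟩
      · rintro ⟨j, rfl⟩
        exact Ideal.Quotient.eq_zero_iff_mem.2 j.2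
    have hex := lTensor_exact A hex0 (Ideal.Quotient.mkₐ_surjective k J)
    refine (hex _).1 ?_
    rw [map_sub, comul_coeffMap]
    have h1 : ∀ z : W ⊗[k] A, LinearMap.lTensor A (Ideal.Quotient.mkₐ k J).toLinearMap
        ((coeffMap (C := A) φ).rTensor A z) =
        (coeffMap (C := A) φ).rTensor (A ⧸ J)
          (LinearMap.lTensor W (Ideal.Quotient.mkₐ k J).toLinearMap z) := by
      intro z
      induction z using TensorProduct.induction_on with
      | zero => simp
      | tmul x a => simp
      | add y z hy hz => simp only [map_add, hy, hz]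
    rw [h1, hfix, LinearMap.rTensor_tmul, LinearMap.lTensor_tmul, sub_eq_zero]
    simp
  obtain ⟨c, hc⟩ := hmem
  rw [← hc]
  exact LinearMap.congr_fun hg c

lemma range_lTensor_eq_of_range {W : Type w} [AddCommGroup W] [Module k W]
    {M N : Type*} [AddCommGroup M] [Module k M] [AddCommGroup N] [Module k N]
    (f : M →ₗ[k] N) (D : Submodule k N) (hD : D = LinearMap.range f) :
    LinearMap.range (f.lTensor W) = LinearMap.range (D.subtype.lTensor W) := by
  subst hD
  have h1 : f = (LinearMap.range f).subtype ∘ₗ f.rangeRestrict := rfl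
  have h2 : Function.Surjective (f.rangeRestrict.lTensor W) :=
    LinearMap.lTensor_surjective W f.surjective_rangeRestrict
  conv_lhs => rw [h1, LinearMap.lTensor_comp, LinearMap.range_comp,
    LinearMap.range_eq_top.2 h2, Submodule.map_top]

/-- an extension of a unipotent group by a unipotent group is unipotent (universe polymorphic
version). -/
theorem isUnipotent_of_extension' (ψ : C →ₐc[k] A) (hψ : Function.Injective ψ) (J : Ideal A)
    [J.IsHopfIdeal k]
    (hJ : J = Ideal.map (ψ : C →+* A) (RingHom.ker (Bialgebra.counitAlgHom k C)))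
    (hC : IsUnipotent k C) (hN : IsUnipotent k (A ⧸ J)) : IsUnipotent k A := by
  intro V _ _ cV hfin hnt
  letI := cV
  set D : Submodule k A := Subalgebra.toSubmodule (ψ : C →ₐ[k] A).range with hDdef
  have hDr : D = LinearMap.range (ψ : C →ₗ[k] A) := by
    ext a
    exact Iff.rfl
  have hD : IsSubcoalg D := (isHopfSub_range ψ).comul_mem
  set W : Submodule k V := coeffPiece V D with hWdef
  have hW : IsSubcomod (k := k) (A := A) W := isSubcomod_coeffPiece hD
  have hWne : W ≠ ⊥ := by
    have h := @hN V _ _ (push ((Bialgebra.Quotient.mkBialgHom J : A →ₐc[k] A ⧸ J) :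
      A →ₗc[k] A ⧸ J) cV) hfin hnt
    obtain ⟨v, hv, hv0⟩ := Submodule.exists_mem_ne_zero_of_ne_bot h
    intro hbot
    apply hv0
    have : v ∈ W := by
      rw [hWdef, coeffPiece, Submodule.mem_comap, ← range_lTensor_eq_of_range _ D hDr]
      exact coact_mem_range_of_fixed' ψ J hJ cV v hv
    rwa [hbot, Submodule.mem_bot] at this
  let cW : Comod k A ↥W := ComodSub.Comod.restr cV W hW
  have hmem : ∀ w : ↥W, cW.coact w ∈ LinearMap.range (LinearMap.lTensor ↥W (ψ : C →ₗ[k] A)) := by
    intro w
    rw [range_lTensor_eq_of_range _ D hDr]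
    exact restr_coact_mem_range hD w
  obtain ⟨c, hc⟩ := exists_comod_of_coact_mem_range ((ψ : C →ₐc[k] A) : C →ₗc[k] A) hψ cW hmem
  have hWnt : Nontrivial ↥W := (Submodule.nontrivial_iff_ne_bot).2 hWne
  have hfixC := @hC ↥W _ _ c inferInstance hWnt
  obtain ⟨w, hw, hw0⟩ := Submodule.exists_mem_ne_zero_of_ne_bot hfixC
  intro hbot
  apply hw0
  have hwV : (w : V) ∈ fixedPts k A V := by
    change cV.coact (w : V) = (w : V) ⊗ₜ[k] (1 : A)
    have h1 : c.coact w = w ⊗ₜ[k] (1 : C) := hw
    have h2 : cW.coact w = w ⊗ₜ[k] (1 : A) := by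
      rw [← hc, LinearMap.comp_apply, h1, LinearMap.lTensor_tmul]
      congr 1
      exact map_one ψ
    rw [← ComodSub.restr_coact_coe cV W hW w]
    change W.subtype.rTensor A (cW.coact w) = _
    rw [h2, LinearMap.rTensor_tmul]
    rfl
  rw [hbot, Submodule.mem_bot] at hwV
  exact Subtype.ext hwV

end Ext'

end Groth.Agent.Lib.Helper7.UnipExt
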