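import Groth.Agent.Lib.Helper7.FComplete
import Mathlib.RingTheory.Ideal.Operations
import Mathlib.RingTheory.Ideal.Quotient.Operations
import Mathlib.RingTheory.Ideal.Maps

/-!
# `f`-complete rings: the ideal `⋂ I^n` is nilpotent
-/

set_option autoImplicit false
universe u v

namespace Groth.Agent.Lib.Helper7.FComplete

variable {A : Type u} [CommRing A]

/-- For an `f`-complete module `M`, the ideal `⋂ f^n A` annihilates `⋂ f^n M`. -/
theorem iInf_span_pow_smul_iInf_eq_bot {f : A} {M : Type v} [AddCommGroup M] [Module A M]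
    (hf : IsFComplete f M) :
    (⨅ n : ℕ, Ideal.span {f ^ n}) • (⨅ n : ℕ, (Ideal.span {f ^ n}) • (⊤ : Submodule A M)) =
      (⊥ : Submodule A M) := by
  rw [eq_bot_iff, Submodule.smul_le]
  intro a ha x hx
  rw [Submodule.mem_bot]
  have ha' : ∀ n : ℕ, ∃ b : A, b * f ^ n = a := fun n =>
    Ideal.mem_span_singleton'.mp ((Submodule.mem_iInf _).mp ha n)
  have hx' : ∀ n : ℕ, ∃ y : M, f ^ n • y = x := by
    intro n
    have := (Submodule.mem_iInf _).mp hx n
    rw [Submodule.ideal_span_singleton_smul, Submodule.mem_smul_pointwise_iff_exists] at this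
    obtain ⟨y, -, hy⟩ := this
    exact ⟨y, hy⟩
  choose b hb using ha'
  choose y hy using hx'
  have key : (fun n => b n • x) = 0 := by
    apply hf.eq_zero
    intro n
    rw [smul_smul, ← sub_eq_zero, ← sub_smul]
    conv_lhs => rw [← hy n]
    rw [smul_smul]
    have : (b n - f * b (n + 1)) * f ^ n = 0 := by
      have h1 := hb n
      have h2 := hb (n + 1)
      rw [pow_succ] at h2
      rw [sub_mul, h1, ← h2]
      ring
    rw [this, zero_smul]
  have h0 := congrFun key 0
  have hb0 : b 0 = a := by simpa using hb 0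
  simpa [hb0] using h0

/-- `f`-completeness does not depend on the base ring. -/
lemma isFComplete_algebraMap_iff {B : Type*} [CommRing B] [Algebra A B] {N : Type v} [AddCommGroup N]
    [Module A N] [Module B N] [IsScalarTower A B N] (f : A) :
    IsFComplete (algebraMap A B f) N ↔ IsFComplete f N := by
  have : (Δ (algebraMap A B f) N : (ℕ → N) → (ℕ → N)) = Δ f N := by
    funext m n
    simp [Δ_apply, algebraMap_smul]
  rw [IsFComplete, IsFComplete, this]

lemma isFComplete_quotient_span_singleton {f : A} (x : A) (hA : IsFComplete f A) :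
    IsFComplete f (A ⧸ Ideal.span {x}) := by
  have h : LinearMap.range (x • (LinearMap.id : A →ₗ[A] A)) = Ideal.span {x} := by
    ext y
    simp [Ideal.mem_span_singleton', mul_comm]
  have := hA.coker (x • (LinearMap.id : A →ₗ[A] A)) hA
  rw [h] at this
  exact this

theorem iInf_pow_pow_eq_bot (r : ℕ) : ∀ (A : Type u) [CommRing A] (s : Finset A), s.card ≤ r →
    (∀ f ∈ s, IsFComplete f A) → (⨅ n : ℕ, Ideal.span (s : Set A) ^ n) ^ (2 ^ r) = ⊥ := by
  classical
  induction r with
  | zero =>
    intro A _ s hs _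
    have : s = ∅ := Finset.card_eq_zero.mp (Nat.le_zero.mp hs)
    subst this
    rw [Finset.coe_empty, Ideal.span_empty, pow_zero, pow_one, eq_bot_iff]
    exact (iInf_le _ 1).trans (by simp)
  | succ r ih =>
    intro A _ s hs hA
    rcases s.eq_empty_or_nonempty with rfl | ⟨g, hg⟩
    · rw [Finset.coe_empty, Ideal.span_empty, eq_bot_iff]
      have h1 : (⨅ n : ℕ, (⊥ : Ideal A) ^ n) ≤ ⊥ := (iInf_le _ 1).trans (by simp)
      exact (Ideal.pow_right_mono h1 _).trans (by rw [Ideal.bot_pow (by positivity)])
    · have hs' : (s.erase g).card ≤ r := by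
        rw [Finset.card_erase_of_mem hg]
        omega
      have hspan : Ideal.span (s : Set A) = Ideal.span ((s.erase g : Finset A) : Set A) ⊔ Ideal.span {g} := by
        conv_lhs => rw [← Finset.insert_erase hg, Finset.coe_insert, Ideal.span_insert, sup_comm]
      have hgc : IsFComplete g A := hA g hg
      have key : ∀ n : ℕ, (⨅ n : ℕ, Ideal.span (s : Set A) ^ n) ^ (2 ^ r) ≤ Ideal.span {g ^ n} := by
        intro n
        let π : A →+* A ⧸ Ideal.span {g ^ n} := Ideal.Quotient.mk _
        have ht : ((s.erase g).image π).card ≤ r := Finset.card_image_le.trans hs'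
        have hA' : ∀ f' ∈ (s.erase g).image π, IsFComplete f' (A ⧸ Ideal.span {g ^ n}) := by
          intro f' hf'
          obtain ⟨f, hf, rfl⟩ := Finset.mem_image.mp hf'
          have hfA : IsFComplete f A := hA f (Finset.mem_of_mem_erase hf)
          exact (isFComplete_algebraMap_iff (B := A ⧸ Ideal.span {g ^ n})
            (N := A ⧸ Ideal.span {g ^ n}) f).mpr (isFComplete_quotient_span_singleton _ hfA)
        have h1 := ih (A ⧸ Ideal.span {g ^ n}) ((s.erase g).image π) ht hA'
        have hspan' : Ideal.span (((s.erase g).image π : Finset _) : Set (A ⧸ Ideal.span {g ^ n})) =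
            (Ideal.span ((s.erase g : Finset A) : Set A)).map π := by
          rw [Finset.coe_image, ← Ideal.map_span]
        have h2 : (⨅ n : ℕ, Ideal.span (s : Set A) ^ n).map π ≤
            ⨅ m : ℕ, Ideal.span (((s.erase g).image π : Finset _) : Set (A ⧸ Ideal.span {g ^ n})) ^ m := by
          rw [le_iInf_iff]
          intro m
          rw [hspan', ← Ideal.map_pow]
          have : (⨅ n : ℕ, Ideal.span (s : Set A) ^ n) ≤
              Ideal.span ((s.erase g : Finset A) : Set A) ^ m ⊔ Ideal.span {g ^ n} := by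
            refine (iInf_le _ (m + n)).trans ?_
            rw [hspan]
            refine Ideal.sup_pow_add_le_pow_sup_pow.trans ?_
            rw [Ideal.span_singleton_pow]
          refine (Ideal.map_mono this).trans ?_
          rw [Ideal.map_sup, Ideal.map_quotient_self, sup_bot_eq]
        have h3 : ((⨅ n : ℕ, Ideal.span (s : Set A) ^ n) ^ (2 ^ r)).map π = ⊥ := by
          rw [Ideal.map_pow, eq_bot_iff, ← h1]
          exact Ideal.pow_right_mono h2 _
        rw [Ideal.map_eq_bot_iff_le_ker, Ideal.mk_ker] at h3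
        exact h3
      have h4 : (⨅ n : ℕ, Ideal.span (s : Set A) ^ n) ^ (2 ^ r) ≤ ⨅ n : ℕ, Ideal.span {g ^ n} :=
        le_iInf key
      have h5 : (⨅ n : ℕ, Ideal.span {g ^ n}) * (⨅ n : ℕ, Ideal.span {g ^ n}) = ⊥ := by
        have := iInf_span_pow_smul_iInf_eq_bot (M := A) hgc
        simpa [smul_eq_mul, Ideal.mul_top] using this
      rw [pow_succ, pow_mul, pow_two, eq_bot_iff, ← h5]
      exact Ideal.mul_mono h4 h4

end Groth.Agent.Lib.Helper7.FComplete
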