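import Groth.Agent.Lib.Helper7.FComplete
import Groth.Agent.Lib.Helper7.FCompleteAdic
import Mathlib.RingTheory.AdicCompletion.Basic
import Mathlib.RingTheory.Ideal.Operations

/-!
# Modules `f`-complete for generators of a finitely generated ideal are adically precomplete
-/

set_option autoImplicit false
universe u v

namespace Groth.Agent.Lib.Helper7.FComplete

variable {A : Type u} [CommRing A] {M : Type v} [AddCommGroup M] [Module A M]

section Sum

variable {g : A} (hg : IsFComplete g M)

/-- The unique solution `m` of `m_n - g m_{n+1} = c_n`. -/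
noncomputable def IsFComplete.sol (c : ℕ → M) : ℕ → M := (hg.2 c).choose

lemma IsFComplete.sol_spec (c : ℕ → M) : Δ g M (hg.sol c) = c := (hg.2 c).choose_spec

lemma IsFComplete.sol_eq (c m : ℕ → M) (h : Δ g M m = c) : hg.sol c = m :=
  hg.1 ((hg.sol_spec c).trans h.symm)

lemma IsFComplete.sol_shift (c : ℕ → M) (k : ℕ) :
    hg.sol (fun n => c (n + k)) = fun n => hg.sol c (n + k) := by
  apply hg.sol_eq
  funext n
  have := congrFun (hg.sol_spec c) (n + k)
  simpa [Δ_apply, add_right_comm] using this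

/-- The "sum of the series" `∑ g^n c_n`. -/
noncomputable def IsFComplete.sum (c : ℕ → M) : M := hg.sol c 0

lemma IsFComplete.sum_eq (c : ℕ → M) (k : ℕ) :
    hg.sum c = ∑ j ∈ Finset.range k, g ^ j • c j + g ^ k • hg.sum (fun n => c (n + k)) := by
  induction k with
  | zero => simp
  | succ k ih =>
    rw [ih, Finset.sum_range_succ, add_assoc]
    congr 1
    have h1 : hg.sum (fun n => c (n + k)) = hg.sol c k := by
      rw [IsFComplete.sum, hg.sol_shift c k]
      simp
    have h2 : hg.sum (fun n => c (n + (k + 1))) = hg.sol c (k + 1) := by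
      rw [IsFComplete.sum, hg.sol_shift c (k + 1)]
      simp
    have h3 := congrFun (hg.sol_spec c) k
    rw [Δ_apply] at h3
    rw [h1, h2, pow_succ, mul_smul, ← smul_add, ← h3]
    congr 1
    abel

end Sum

section Decomp

variable (g : A) (I' : Ideal A)

/-- Elements of the form `∑_{j ≤ n} g^j w_j` with `w_j ∈ I'^(n-j) M`. -/
def Dsub (n : ℕ) : Submodule A M where
  carrier := {z | ∃ w : ℕ → M, (∀ j, w j ∈ (I' ^ (n - j) • ⊤ : Submodule A M)) ∧
    (∀ j, n < j → w j = 0) ∧ z = ∑ j ∈ Finset.range (n + 1), g ^ j • w j}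
  zero_mem' := ⟨0, fun _ => Submodule.zero_mem _, fun _ _ => rfl, by simp⟩
  add_mem' := by
    rintro z z' ⟨w, hw1, hw2, rfl⟩ ⟨w', hw1', hw2', rfl⟩
    refine ⟨w + w', fun j => Submodule.add_mem _ (hw1 j) (hw1' j), fun j hj => ?_, ?_⟩
    · simp [hw2 j hj, hw2' j hj]
    · simp [smul_add, Finset.sum_add_distrib]
  smul_mem' := by
    rintro a z ⟨w, hw1, hw2, rfl⟩
    refine ⟨a • w, fun j => Submodule.smul_mem _ _ (hw1 j), fun j hj => ?_, ?_⟩
    · simp [hw2 j hj]
    · simp [Finset.smul_sum, smul_comm a]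

variable {g I'}

/-- Shift a sequence up by one, inserting `0`. -/
def shiftUp (w : ℕ → M) : ℕ → M
  | 0 => 0
  | j + 1 => w j

@[simp] lemma shiftUp_zero (w : ℕ → M) : shiftUp w 0 = 0 := rfl
@[simp] lemma shiftUp_succ (w : ℕ → M) (j : ℕ) : shiftUp w (j + 1) = w j := rfl

/-- The sequence `(z, 0, 0, ...)`. -/
def headSeq (z : M) : ℕ → M
  | 0 => z
  | _ + 1 => 0

@[simp] lemma headSeq_zero (z : M) : headSeq z 0 = z := rfl
@[simp] lemma headSeq_succ (z : M) (j : ℕ) : headSeq z (j + 1) = 0 := rfl

lemma smul_mem_Dsub_succ {n : ℕ} {a : A} (ha : a ∈ I') {z : M} (hz : z ∈ Dsub g I' n) :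
    a • z ∈ Dsub (M := M) g I' (n + 1) := by
  obtain ⟨w, hw1, hw2, rfl⟩ := hz
  refine ⟨a • w, fun j => ?_, fun j hj => ?_, ?_⟩
  · by_cases hj : j ≤ n
    · have : n + 1 - j = (n - j) + 1 := by omega
      rw [this, pow_succ', Submodule.mul_smul]
      exact Submodule.smul_mem_smul ha (hw1 j)
    · rw [Pi.smul_apply, hw2 j (by omega), smul_zero]
      exact Submodule.zero_mem _
  · rw [Pi.smul_apply, hw2 j (by omega), smul_zero]
  · rw [Finset.sum_range_succ _ (n + 1), Pi.smul_apply, hw2 (n + 1) (by omega), smul_zero, smul_zero,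
      add_zero, Finset.smul_sum]
    refine Finset.sum_congr rfl fun j _ => ?_
    rw [Pi.smul_apply, smul_comm]

lemma g_smul_mem_Dsub_succ {n : ℕ} {z : M} (hz : z ∈ Dsub g I' n) :
    g • z ∈ Dsub (M := M) g I' (n + 1) := by
  obtain ⟨w, hw1, hw2, rfl⟩ := hz
  refine ⟨shiftUp w, fun j => ?_, fun j hj => ?_, ?_⟩
  · cases j with
    | zero => exact Submodule.zero_mem _
    | succ j =>
      have : n + 1 - (j + 1) = n - j := by omega
      rw [this]
      exact hw1 j
  · cases j with
    | zero => omega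
    | succ j => exact hw2 j (by omega)
  · rw [Finset.sum_range_succ' _ (n + 1)]
    simp only [Finset.smul_sum, shiftUp_zero, shiftUp_succ, smul_zero, add_zero]
    refine Finset.sum_congr rfl fun j _ => ?_
    rw [smul_smul, ← pow_succ']

lemma pow_smul_top_le_Dsub (n : ℕ) :
    ((I' ⊔ Ideal.span {g}) ^ n • ⊤ : Submodule A M) ≤ Dsub g I' n := by
  induction n with
  | zero =>
    intro z _
    refine ⟨headSeq z, fun j => ?_, fun j hj => ?_, ?_⟩
    · cases j with
      | zero => simp
      | succ j => exact Submodule.zero_mem _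
    · cases j with
      | zero => omega
      | succ j => rfl
    · simp
  | succ n ih =>
    rw [pow_succ', Submodule.mul_smul]
    refine (Submodule.smul_mono le_rfl ih).trans ?_
    rw [Submodule.smul_le]
    intro a ha z hz
    obtain ⟨a', ha', b, hb, rfl⟩ := Submodule.mem_sup.mp ha
    obtain ⟨b', rfl⟩ := Ideal.mem_span_singleton'.mp hb
    rw [add_smul, mul_smul]
    exact Submodule.add_mem _ (smul_mem_Dsub_succ ha' hz)
      (Submodule.smul_mem _ _ (g_smul_mem_Dsub_succ hz))

end Decomp

section Precomplete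

open Finset in
/-- Inductive step: `g`-complete and `I'`-precomplete implies `(I' + (g))`-precomplete. -/
theorem isPrecomplete_sup_span_singleton {g : A} {I' : Ideal A} (hg : IsFComplete g M)
    (hpre : IsPrecomplete I' M) : IsPrecomplete (I' ⊔ Ideal.span {g}) M := by
  have hgI : g ∈ I' ⊔ Ideal.span {g} := Ideal.mem_sup_right (Ideal.subset_span rfl)
  rw [isPrecomplete_iff]
  intro x hx
  have hz : ∀ n, x (n + 1) - x n ∈ Dsub (M := M) g I' n := fun n =>
    pow_smul_top_le_Dsub n (SModEq.sub_mem.mp (hx (Nat.le_succ n)).symm)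
  choose w hw1 hw2 hw3 using hz
  have hw3' : ∀ N n, n < N → x (n + 1) - x n = ∑ j ∈ range N, g ^ j • w n j := by
    intro N n hnN
    rw [hw3 n]
    refine Finset.sum_subset (fun j hj => ?_) (fun j _ hj => ?_)
    · rw [Finset.mem_range] at hj ⊢
      omega
    · rw [Finset.mem_range] at hj
      rw [hw2 n j (by omega), smul_zero]
  let Q : ℕ → ℕ → M := fun j k => ∑ n ∈ range (k + j), w n j
  have hQ : ∀ j {k k' : ℕ}, k ≤ k' → Q j k ≡ Q j k' [SMOD (I' ^ k • ⊤ : Submodule A M)] := by
    intro j k k' hkk'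
    rw [SModEq.comm, SModEq.sub_mem]
    simp only [Q]
    rw [← Finset.sum_Ico_eq_sub _ (by omega : k + j ≤ k' + j)]
    refine Submodule.sum_mem _ fun n hn => ?_
    have : k ≤ n - j := by
      have := (Finset.mem_Ico.mp hn).1
      omega
    exact Submodule.smul_mono_left (Ideal.pow_le_pow_right this) (hw1 n j)
  choose W hW using fun j => hpre.prec (hQ j)
  refine ⟨x 0 + hg.sum W, fun N => ?_⟩
  rw [SModEq.sub_mem]
  have h1 : x N = x 0 + ∑ n ∈ range N, (x (n + 1) - x n) := by
    rw [Finset.sum_range_sub]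
    abel
  have h2 := hg.sum_eq W N
  have h3 : ∑ n ∈ range N, (x (n + 1) - x n) = ∑ j ∈ range N, g ^ j • ∑ n ∈ range N, w n j := by
    rw [Finset.sum_congr rfl (fun n hn => hw3' N n (Finset.mem_range.mp hn)), Finset.sum_comm]
    simp [Finset.smul_sum]
  have h4 : ∀ j ∈ range N, ∑ n ∈ range N, w n j = Q j (N - j) := by
    intro j hj
    have := Finset.mem_range.mp hj
    simp only [Q]
    congr 2
    omega
  have h5 : x N - (x 0 + hg.sum W) =
      ∑ j ∈ range N, g ^ j • (Q j (N - j) - W j) - g ^ N • hg.sum (fun n => W (n + N)) := by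
    rw [h1, h2, h3, Finset.sum_congr rfl (fun j hj => by rw [h4 j hj])]
    simp only [smul_sub, Finset.sum_sub_distrib]
    abel
  rw [h5]
  refine Submodule.sub_mem _ (Submodule.sum_mem _ fun j hj => ?_) ?_
  · have hmem := SModEq.sub_mem.mp (hW j (N - j))
    have hj' : j ≤ N := (Finset.mem_range.mp hj).le
    have : g ^ j • (Q j (N - j) - W j) ∈
        ((I' ⊔ Ideal.span {g}) ^ j • ((I' ⊔ Ideal.span {g}) ^ (N - j) • ⊤) : Submodule A M) :=
      Submodule.smul_mem_smul (Ideal.pow_mem_pow hgI j)
        (Submodule.smul_mono_left (Ideal.pow_right_mono le_sup_left _) hmem)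
    rwa [← Submodule.mul_smul, ← pow_add, Nat.add_sub_cancel' hj'] at this
  · exact pow_smul_mem hgI N _

/-- A module which is `f`-complete for each `f` in a finite set `s` is precomplete with respect to the
ideal generated by `s`. -/
theorem isPrecomplete_span_of_isFComplete (s : Finset A) (h : ∀ f ∈ s, IsFComplete f M) :
    IsPrecomplete (Ideal.span (s : Set A)) M := by
  classical
  induction s using Finset.induction_on with
  | empty =>
    rw [Finset.coe_empty, Ideal.span_empty]
    infer_instance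
  | insert g s _ ih =>
    rw [Finset.coe_insert, Ideal.span_insert, sup_comm]
    exact isPrecomplete_sup_span_singleton (h g (Finset.mem_insert_self g s))
      (ih fun f hf => h f (Finset.mem_insert_of_mem hf))

end Precomplete

end Groth.Agent.Lib.Helper7.FComplete
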