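import Groth.Agent.Lib.Helper7.FCompleteRing
import Groth.Agent.Lib.Helper7.FCompletePrecomplete
import Mathlib.RingTheory.Henselian
import Mathlib.Algebra.Polynomial.Div

/-!
# A ring which is `f`-complete for all `f ∈ I` is henselian along `I`
-/

set_option autoImplicit false
universe u v

namespace Groth.Agent.Lib.Helper7.FComplete

variable {A : Type u} [CommRing A]

/-- In an `f`-complete ring, `1 - f` is a unit (with inverse `∑ f^n`). -/
lemma isUnit_one_sub_of_isFComplete {f : A} (hf : IsFComplete f A) : IsUnit (1 - f) := by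
  obtain ⟨m, hm⟩ := hf.exists_solution (fun _ => (1 : A))
  have hshift : (fun n => m (n + 1)) = m := by
    apply hf.1
    funext n
    simp only [Δ_apply]
    rw [hm (n + 1), hm n]
  have h01 : m 1 = m 0 := congrFun hshift 0
  have := hm 0
  rw [zero_add, h01, smul_eq_mul] at this
  exact IsUnit.of_mul_eq_one (m 0) (by rw [sub_mul, one_mul]; exact this)

/-- A quotient of a precomplete module is precomplete. -/
lemma isPrecomplete_of_surjective {I : Ideal A} {M : Type*} {N : Type*} [AddCommGroup M] [Module A M]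
    [AddCommGroup N] [Module A N] (p : M →ₗ[A] N) (hp : Function.Surjective p)
    (hM : IsPrecomplete I M) : IsPrecomplete I N := by
  have hmap : ∀ n : ℕ, Submodule.map p (I ^ n • ⊤ : Submodule A M) = (I ^ n • ⊤ : Submodule A N) := by
    intro n
    rw [Submodule.map_smul'', Submodule.map_top, LinearMap.range_eq_top.mpr hp]
  rw [isPrecomplete_iff]
  intro y hy
  have hd : ∀ n, ∃ d ∈ (I ^ n • ⊤ : Submodule A M), p d = y (n + 1) - y n := by
    intro n
    have : y (n + 1) - y n ∈ (I ^ n • ⊤ : Submodule A N) :=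
      SModEq.sub_mem.mp (hy (Nat.le_succ n)).symm
    rw [← hmap n] at this
    exact this
  choose d hd1 hd2 using hd
  obtain ⟨x0, hx0⟩ := hp (y 0)
  let x : ℕ → M := fun n => x0 + ∑ k ∈ Finset.range n, d k
  have hpx : ∀ n, p (x n) = y n := by
    intro n
    simp only [x, map_add, map_sum, hd2, hx0, Finset.sum_range_sub]
    abel
  have hx : ∀ {m n : ℕ}, m ≤ n → x m ≡ x n [SMOD (I ^ m • ⊤ : Submodule A M)] := by
    intro m n hmn
    rw [SModEq.comm, SModEq.sub_mem]
    simp only [x]
    rw [add_sub_add_left_eq_sub, ← Finset.sum_Ico_eq_sub _ hmn]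
    refine Submodule.sum_mem _ fun k hk => ?_
    exact Submodule.smul_mono_left (Ideal.pow_le_pow_right (Finset.mem_Ico.mp hk).1) (hd1 k)
  obtain ⟨L, hL⟩ := hM.prec hx
  refine ⟨p L, fun n => ?_⟩
  rw [SModEq.sub_mem, ← hpx n, ← map_sub, ← hmap n]
  exact Submodule.mem_map_of_mem (SModEq.sub_mem.mp (hL n))

/-- `A ⧸ ⋂ I^n` is `I`-adically separated. -/
lemma isHausdorff_quotient_iInf_pow (I : Ideal A) : IsHausdorff I (A ⧸ ⨅ n : ℕ, I ^ n) := by
  refine ⟨fun x hx => ?_⟩
  obtain ⟨a, rfl⟩ := Submodule.Quotient.mk_surjective _ x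
  rw [Submodule.Quotient.mk_eq_zero, Submodule.mem_iInf]
  intro n
  have h1 := hx n
  rw [SModEq.zero] at h1
  have hmap : Submodule.map (⨅ n : ℕ, I ^ n : Ideal A).mkQ (I ^ n • ⊤ : Submodule A A) =
      (I ^ n • ⊤ : Submodule A (A ⧸ ⨅ n : ℕ, I ^ n)) := by
    rw [Submodule.map_smul'', Submodule.map_top, Submodule.range_mkQ]
  rw [← hmap] at h1
  obtain ⟨b, hb, hba⟩ := h1
  rw [smul_eq_mul, Ideal.mul_top] at hb
  rw [Submodule.mkQ_apply, Submodule.Quotient.eq] at hba
  have h2 : b - a ∈ I ^ n := (iInf_le (fun n : ℕ => I ^ n) n) hba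
  have : a = b - (b - a) := by ring
  rw [this]
  exact Ideal.sub_mem _ hb h2

/-- A ring is adically complete with respect to a nilpotent ideal. -/
lemma isAdicComplete_of_pow_eq_bot (K : Ideal A) (N : ℕ) (hK : K ^ N = ⊥) : IsAdicComplete K A := by
  have hbot : (K ^ N • ⊤ : Submodule A A) = ⊥ := by rw [hK, Submodule.bot_smul]
  refine { toIsHausdorff := ⟨fun x hx => ?_⟩, toIsPrecomplete := ⟨fun f hf => ⟨f N, fun n => ?_⟩⟩ }
  · have := hx N
    rw [SModEq.zero, hbot, Submodule.mem_bot] at this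
    exact this
  · rcases le_total n N with h | h
    · exact hf h
    · have := hf h
      rw [SModEq.sub_mem, hbot, Submodule.mem_bot, sub_eq_zero] at this
      rw [this]

open Polynomial in
/-- A ring that is `f`-complete for every `f ∈ I` is henselian along `I`. -/
theorem henselianRing_of_isFComplete (I : Ideal A) (hI : ∀ f ∈ I, IsFComplete f A) :
    HenselianRing A I := by
  classical
  have hunit : ∀ h ∈ I, IsUnit (1 + h) := fun h hh => by
    have := isUnit_one_sub_of_isFComplete (hI (-h) (I.neg_mem hh))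
    simpa using this
  have hjac : I ≤ Ideal.jacobson ⊥ := fun x hx => Ideal.mem_jacobson_bot.mpr fun y => by
    rw [add_comm]
    exact hunit _ (I.mul_mem_right y hx)
  refine ⟨hjac, ?_⟩
  intro f hf a₀ h₁ h₂
  obtain ⟨c', hc'⟩ := h₂.exists_right_inv
  obtain ⟨c, rfl⟩ := Ideal.Quotient.mk_surjective c'
  have heI : f.derivative.eval a₀ * c - 1 ∈ I := by
    rw [← Ideal.Quotient.eq_zero_iff_mem, map_sub, map_mul, hc', map_one, sub_self]
  set t := f.eval a₀ with ht
  set e := f.derivative.eval a₀ * c - 1 with he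
  let s : Finset A := {t, e}
  have hI'I : Ideal.span (s : Set A) ≤ I := by
    refine Ideal.span_le.mpr ?_
    intro x hx
    simp only [s, Finset.coe_insert, Finset.coe_singleton, Set.mem_insert_iff,
      Set.mem_singleton_iff] at hx
    rcases hx with rfl | rfl
    · exact h₁
    · exact heI
  have hs : ∀ x ∈ s, IsFComplete x A := fun x hx => hI x (hI'I (Ideal.subset_span hx))
  have hK : (⨅ n : ℕ, Ideal.span (s : Set A) ^ n) ^ (2 ^ 2) = ⊥ :=
    iInf_pow_pow_eq_bot 2 A s Finset.card_le_two hs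
  have hKI' : (⨅ n : ℕ, Ideal.span (s : Set A) ^ n) ≤ Ideal.span (s : Set A) :=
    (iInf_le _ 1).trans (by simp)
  set I' := Ideal.span (s : Set A) with hI'
  set K := ⨅ n : ℕ, I' ^ n with hKdef
  have htI' : t ∈ I' := Ideal.subset_span (by simp [s])
  have heI' : e ∈ I' := Ideal.subset_span (by simp [s])
  -- `B = A ⧸ K` is `I'`-adically complete
  have hpreA : IsPrecomplete I' A := isPrecomplete_span_of_isFComplete s hs
  have hpreB : IsPrecomplete I' (A ⧸ K) :=
    isPrecomplete_of_surjective K.mkQ (Submodule.mkQ_surjective K) hpreA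
  have hhausB : IsHausdorff I' (A ⧸ K) := isHausdorff_quotient_iInf_pow I'
  have hB : IsAdicComplete (I'.map (algebraMap A (A ⧸ K))) (A ⧸ K) :=
    (IsAdicComplete.map_algebraMap_iff I' (A ⧸ K)).mpr
      { toIsHausdorff := hhausB, toIsPrecomplete := hpreB }
  have henB : HenselianRing (A ⧸ K) (I'.map (algebraMap A (A ⧸ K))) := inferInstance
  let q : A →+* A ⧸ K := Ideal.Quotient.mk K
  have hq : Function.Surjective q := Ideal.Quotient.mk_surjective
  have hqalg : algebraMap A (A ⧸ K) = q := rfl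
  rw [hqalg] at henB
  have hev : ∀ (p : A[X]) (a : A), (p.map q).eval (q a) = q (p.eval a) := fun p a => by
    rw [eval_map, eval₂_at_apply]
  obtain ⟨b, hb_root, hb⟩ := henB.is_henselian (f.map q) (hf.map q) (q a₀)
    (by rw [hev]; exact Ideal.mem_map_of_mem q htI')
    (by
      rw [derivative_map, hev]
      refine IsUnit.of_mul_eq_one (Ideal.Quotient.mk _ (q c)) ?_
      have hqe : q (f.derivative.eval a₀ * c) - 1 = q e := by
        rw [he, map_sub, map_one]
      rw [← map_mul, ← map_mul, ← sub_eq_zero, ← map_one (Ideal.Quotient.mk _), ← map_sub,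
        Ideal.Quotient.eq_zero_iff_mem, hqe]
      exact Ideal.mem_map_of_mem q heI')
  obtain ⟨i, hiI', hi⟩ := (Ideal.mem_map_iff_of_surjective q hq).mp hb
  set a₁ := a₀ + i with ha₁
  have hqa₁ : q a₁ = b := by rw [ha₁, map_add, hi]; ring
  have hfa₁ : f.eval a₁ ∈ K := by
    rw [← Ideal.Quotient.eq_zero_iff_mem]
    change q (f.eval a₁) = 0
    rw [← hev, hqa₁]
    exact hb_root
  have hf'a₁ : IsUnit (f.derivative.eval a₁) := by
    have hdiff : f.derivative.eval a₁ - f.derivative.eval a₀ ∈ I' := by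
      obtain ⟨d, hd⟩ := Polynomial.sub_dvd_eval_sub a₁ a₀ f.derivative
      rw [hd]
      have : a₁ - a₀ = i := by rw [ha₁]; ring
      rw [this]
      exact I'.mul_mem_right d hiI'
    have h1 : f.derivative.eval a₁ * c =
        1 + (e + (f.derivative.eval a₁ - f.derivative.eval a₀) * c) := by
      rw [he]; ring
    have h2 : IsUnit (f.derivative.eval a₁ * c) := by
      rw [h1]
      exact hunit _ (hI'I (I'.add_mem heI' (I'.mul_mem_right c hdiff)))
    exact isUnit_of_mul_isUnit_left h2
  have hKcomplete : IsAdicComplete K A := isAdicComplete_of_pow_eq_bot K _ hK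
  have henA : HenselianRing A K := inferInstance
  obtain ⟨a, ha_root, ha⟩ := henA.is_henselian f hf a₁ hfa₁ (hf'a₁.map _)
  refine ⟨a, ha_root, ?_⟩
  have : a - a₀ = (a - a₁) + i := by rw [ha₁]; ring
  rw [this]
  exact I.add_mem (hI'I (hKI' ha)) (hI'I hiI')

end Groth.Agent.Lib.Helper7.FComplete
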