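import Groth.Agent.Lib.Helper7.EtDual
import Mathlib

/-!
# Deligne's theorem: a commutative finite locally free group scheme is killed by its order (helper7)
-/

universe u v w

open WithConv TensorProduct

namespace Groth.Agent.Lib.Helper7.Deligne

section Post

variable {R : Type*} [CommRing R] {A : Type*} [CommRing A] [HopfAlgebra R A]
  [Coalgebra.IsCocomm R A]

/-- post-composition with an algebra hom, as a ring hom of convolution algebras. -/
noncomputable def post {S T : Type*} [CommRing S] [Algebra R S] [CommRing T] [Algebra R T]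
    (h : S →ₐ[R] T) : WithConv (A →ₗ[R] S) →+* WithConv (A →ₗ[R] T) where
  toFun x := toConv (h.toLinearMap ∘ₗ x.ofConv)
  map_one' := by
    apply WithConv.ofConv_injective
    ext a
    simp [LinearMap.convOne_def]
  map_mul' x y := by
    apply WithConv.ofConv_injective
    exact LinearMap.algHom_comp_convMul_distrib h x y
  map_zero' := by
    apply WithConv.ofConv_injective
    simp
  map_add' x y := by
    apply WithConv.ofConv_injective
    simp [LinearMap.comp_add]

lemma post_apply {S T : Type*} [CommRing S] [Algebra R S] [CommRing T] [Algebra R T]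
    (h : S →ₐ[R] T) (x : WithConv (A →ₗ[R] S)) (a : A) : post h x a = h (x a) := rfl

lemma post_comp {S T U : Type*} [CommRing S] [Algebra R S] [CommRing T] [Algebra R T]
    [CommRing U] [Algebra R U] (h : S →ₐ[R] T) (h' : T →ₐ[R] U) (x : WithConv (A →ₗ[R] S)) :
    post h' (post h x) = post (h'.comp h) x := rfl

lemma post_id {S : Type*} [CommRing S] [Algebra R S] (x : WithConv (A →ₗ[R] S)) :
    post (AlgHom.id R S) x = x := rfl

/-- an algebra map as an element of the convolution algebra. -/
noncomputable def pt {S : Type*} [CommRing S] [Algebra R S] (g : A →ₐ[R] S) :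
    WithConv (A →ₗ[R] S) := toConv g.toLinearMap

lemma pt_mul {S : Type*} [CommRing S] [Algebra R S] (g h : WithConv (A →ₐ[R] S)) :
    pt (g * h).ofConv = pt g.ofConv * pt h.ofConv := AlgHom.toLinearMap_convMul g h

lemma pt_one {S : Type*} [CommRing S] [Algebra R S] :
    pt (1 : WithConv (A →ₐ[R] S)).ofConv = 1 := AlgHom.toLinearMap_convOne

lemma pt_pow {S : Type*} [CommRing S] [Algebra R S] (g : WithConv (A →ₐ[R] S)) (n : ℕ) :
    pt (g ^ n).ofConv = pt g.ofConv ^ n := AlgHom.toLinearMap_convPow g n

lemma pt_injective {S : Type*} [CommRing S] [Algebra R S] :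
    Function.Injective (pt : (A →ₐ[R] S) → WithConv (A →ₗ[R] S)) := by
  intro g h hgh
  exact AlgHom.toLinearMap_injective (WithConv.toConv_injective hgh)

lemma isUnit_pt {S : Type*} [CommRing S] [Algebra R S] (g : A →ₐ[R] S) : IsUnit (pt g) := by
  letI := EtDual.pointsGroup R A S
  have h : pt g * pt ((toConv g : WithConv (A →ₐ[R] S))⁻¹).ofConv = 1 := by
    rw [← pt_one, ← mul_inv_cancel (toConv g : WithConv (A →ₐ[R] S)), pt_mul]
  exact IsUnit.of_mul_eq_one _ h

lemma post_pt {S T : Type*} [CommRing S] [Algebra R S] [CommRing T] [Algebra R T]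
    (h : S →ₐ[R] T) (g : A →ₐ[R] S) : post h (pt g) = pt (h.comp g) := rfl

end Post

section Shear

variable (R : Type*) [CommRing R] (A : Type*) [CommRing A] [HopfAlgebra R A]

/-- the left inclusion as a point. -/
noncomputable def Lp : WithConv (A →ₐ[R] A ⊗[R] A) := toConv Algebra.TensorProduct.includeLeft

/-- the right inclusion as a point. -/
noncomputable def Rp : WithConv (A →ₐ[R] A ⊗[R] A) := toConv Algebra.TensorProduct.includeRight

attribute [local instance] EtDual.pointsGroup

/-- the shear map `s ⊗ a ↦ (s ⊗ 1) Δ(a)`. -/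
noncomputable def shear : A ⊗[R] A →ₐ[R] A ⊗[R] A :=
  Algebra.TensorProduct.lift Algebra.TensorProduct.includeLeft (Lp R A * Rp R A).ofConv
    (fun _ _ => Commute.all _ _)

/-- the inverse shear map. -/
noncomputable def shearInv : A ⊗[R] A →ₐ[R] A ⊗[R] A :=
  Algebra.TensorProduct.lift Algebra.TensorProduct.includeLeft ((Lp R A)⁻¹ * Rp R A).ofConv
    (fun _ _ => Commute.all _ _)

lemma shear_comp_left : (shear R A).comp Algebra.TensorProduct.includeLeft =
    Algebra.TensorProduct.includeLeft := by
  apply AlgHom.ext; intro a; simp [shear]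

lemma shearInv_comp_left : (shearInv R A).comp Algebra.TensorProduct.includeLeft =
    Algebra.TensorProduct.includeLeft := by
  apply AlgHom.ext; intro a; simp [shearInv]

lemma shear_comp_right : (shear R A).comp Algebra.TensorProduct.includeRight =
    (Lp R A * Rp R A).ofConv := by
  apply AlgHom.ext; intro a; simp [shear]

lemma shearInv_comp_right : (shearInv R A).comp Algebra.TensorProduct.includeRight =
    ((Lp R A)⁻¹ * Rp R A).ofConv := by
  apply AlgHom.ext; intro a; simp [shearInv]

/-- post-composition is a group homomorphism on points. -/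
lemma comp_mul {B C : Type*} [CommRing B] [Algebra R B] [CommRing C] [Algebra R C]
    (h : B →ₐ[R] C) (x y : WithConv (A →ₐ[R] B)) :
    (toConv (h.comp (x * y).ofConv) : WithConv (A →ₐ[R] C)) =
      toConv (h.comp x.ofConv) * toConv (h.comp y.ofConv) := by
  rw [AlgHom.comp_convMul_distrib]

lemma comp_inv {B C : Type*} [CommRing B] [Algebra R B] [CommRing C] [Algebra R C]
    (h : B →ₐ[R] C) (x : WithConv (A →ₐ[R] B)) :
    (toConv (h.comp (x⁻¹).ofConv) : WithConv (A →ₐ[R] C)) = (toConv (h.comp x.ofConv))⁻¹ := rfl

lemma shear_comp_shearInv : (shear R A).comp (shearInv R A) = AlgHom.id R _ := by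
  apply Algebra.TensorProduct.ext
  · rw [AlgHom.comp_assoc, shearInv_comp_left, shear_comp_left]; rfl
  · change ((shear R A).comp (shearInv R A)).comp Algebra.TensorProduct.includeRight =
      (AlgHom.id R _).comp Algebra.TensorProduct.includeRight
    rw [AlgHom.comp_assoc, shearInv_comp_right]
    apply WithConv.toConv_injective
    rw [comp_mul, comp_inv]
    change (toConv ((shear R A).comp Algebra.TensorProduct.includeLeft))⁻¹ *
      toConv ((shear R A).comp Algebra.TensorProduct.includeRight) = _
    rw [shear_comp_left, shear_comp_right]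
    change (Lp R A)⁻¹ * (Lp R A * Rp R A) = Rp R A
    rw [inv_mul_cancel_left]

lemma shearInv_comp_shear : (shearInv R A).comp (shear R A) = AlgHom.id R _ := by
  apply Algebra.TensorProduct.ext
  · rw [AlgHom.comp_assoc, shear_comp_left, shearInv_comp_left]; rfl
  · change ((shearInv R A).comp (shear R A)).comp Algebra.TensorProduct.includeRight =
      (AlgHom.id R _).comp Algebra.TensorProduct.includeRight
    rw [AlgHom.comp_assoc, shear_comp_right]
    apply WithConv.toConv_injective
    rw [comp_mul]
    change (toConv ((shearInv R A).comp Algebra.TensorProduct.includeLeft)) *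
      toConv ((shearInv R A).comp Algebra.TensorProduct.includeRight) = _
    rw [shearInv_comp_left, shearInv_comp_right]
    change (Lp R A) * ((Lp R A)⁻¹ * Rp R A) = Rp R A
    rw [mul_inv_cancel_left]

end Shear



section Norm

variable (R : Type*) [CommRing R] (A : Type*) [CommRing A] [HopfAlgebra R A]
  [Coalgebra.IsCocomm R A]

/-- the convolution algebra of `A`-valued linear forms. -/
abbrev EE := WithConv (A →ₗ[R] A)

/-- the convolution algebra of `A ⊗ A`-valued linear forms. -/
abbrev ET := WithConv (A →ₗ[R] A ⊗[R] A)

/-- `ET` as an algebra over `EE` through the left factor. -/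
noncomputable def algET : Algebra (EE R A) (ET R A) :=
  (post (A := A) (Algebra.TensorProduct.includeLeft : A →ₐ[R] A ⊗[R] A)).toAlgebra

attribute [local instance] algET

lemma algebraMap_ET (g : EE R A) :
    algebraMap (EE R A) (ET R A) g =
      post (Algebra.TensorProduct.includeLeft : A →ₐ[R] A ⊗[R] A) g := rfl

lemma smul_ET (g : EE R A) (f : ET R A) :
    g • f = post (Algebra.TensorProduct.includeLeft : A →ₐ[R] A ⊗[R] A) g * f := rfl

/-- post-composition with an algebra endomorphism of `A ⊗ A` fixing the left factor. -/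
noncomputable def postAlg (h : A ⊗[R] A →ₐ[R] A ⊗[R] A)
    (hh : h.comp Algebra.TensorProduct.includeLeft = Algebra.TensorProduct.includeLeft) :
    ET R A →ₐ[EE R A] ET R A :=
  { post (A := A) h with
    commutes' := fun g => by
      change post h (post (Algebra.TensorProduct.includeLeft : A →ₐ[R] A ⊗[R] A) g) =
        post (Algebra.TensorProduct.includeLeft : A →ₐ[R] A ⊗[R] A) g
      rw [post_comp, hh] }

lemma postAlg_apply (h : A ⊗[R] A →ₐ[R] A ⊗[R] A)
    (hh : h.comp Algebra.TensorProduct.includeLeft = Algebra.TensorProduct.includeLeft)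
    (f : ET R A) : postAlg R A h hh f = post h f := rfl

/-- the shear automorphism of `ET` over `EE`. -/
noncomputable def shearEquiv : ET R A ≃ₐ[EE R A] ET R A :=
  AlgEquiv.ofAlgHom (postAlg R A (shear R A) (shear_comp_left R A))
    (postAlg R A (shearInv R A) (shearInv_comp_left R A))
    (by
      apply AlgHom.ext; intro f
      change post (shear R A) (post (shearInv R A) f) = f
      rw [post_comp, shear_comp_shearInv, post_id])
    (by
      apply AlgHom.ext; intro f
      change post (shearInv R A) (post (shear R A) f) = f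
      rw [post_comp, shearInv_comp_shear, post_id])

lemma shearEquiv_apply (f : ET R A) : shearEquiv R A f = post (shear R A) f := rfl


variable {R A} {ι : Type*} [Fintype ι] [DecidableEq ι] (b : Module.Basis ι R A)

/-- the `i`-th coordinate `A ⊗ A → A` with respect to the basis `1 ⊗ b i`. -/
noncomputable def cT (i : ι) : A ⊗[R] A →ₗ[R] A :=
  (TensorProduct.rid R A).toLinearMap ∘ₗ (LinearMap.lTensor A (b.coord i))

omit [Coalgebra.IsCocomm R A] [Fintype ι] [DecidableEq ι] in
lemma cT_tmul (i : ι) (s a : A) : cT b i (s ⊗ₜ[R] a) = b.coord i a • s := by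
  simp [cT]

omit [Coalgebra.IsCocomm R A] [Fintype ι] [DecidableEq ι] in
lemma cT_mul (i : ι) (s : A) (t : A ⊗[R] A) :
    cT b i ((s ⊗ₜ[R] (1 : A)) * t) = s * cT b i t := by
  induction t using TensorProduct.induction_on with
  | zero => simp
  | add x y hx hy => rw [mul_add, map_add, map_add, hx, hy, mul_add]
  | tmul x y =>
    rw [Algebra.TensorProduct.tmul_mul_tmul, cT_tmul, cT_tmul, one_mul, mul_smul_comm]

omit [Coalgebra.IsCocomm R A] [DecidableEq ι] in
lemma sum_cT (t : A ⊗[R] A) : ∑ i, cT b i t ⊗ₜ[R] b i = t := by
  induction t using TensorProduct.induction_on with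
  | zero => simp
  | add x y hx hy =>
    simp only [map_add, TensorProduct.add_tmul, Finset.sum_add_distrib, hx, hy]
  | tmul x y =>
    simp only [cT_tmul]
    have : ∀ i, (b.coord i y • x) ⊗ₜ[R] b i = x ⊗ₜ[R] (b.coord i y • b i) := fun i => by
      rw [TensorProduct.smul_tmul]
    simp only [this]
    rw [← TensorProduct.tmul_sum]
    congr 1
    exact b.sum_repr y

/-- coordinates of `ET` over `EE`. -/
noncomputable def coordE : ET R A ≃ₗ[EE R A] (ι → EE R A) where
  toFun f i := toConv (cT b i ∘ₗ f.ofConv)
  map_add' f g := by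
    funext i
    apply WithConv.ofConv_injective
    simp [LinearMap.comp_add]
  map_smul' g f := by
    funext i
    apply WithConv.ofConv_injective
    rw [smul_ET]
    simp only [RingHom.id_apply, Pi.smul_apply, smul_eq_mul, WithConv.ofConv_toConv]
    apply LinearMap.ext
    intro a
    have key : ∀ w : A ⊗[R] A,
        cT b i (LinearMap.mul' R (A ⊗[R] A) (TensorProduct.map
          ((Algebra.TensorProduct.includeLeft : A →ₐ[R] A ⊗[R] A).toLinearMap ∘ₗ g.ofConv)
          f.ofConv w)) =
        LinearMap.mul' R A (TensorProduct.map g.ofConv (cT b i ∘ₗ f.ofConv) w) := by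
      intro w
      induction w using TensorProduct.induction_on with
      | zero => simp
      | add x y hx hy => simp only [map_add, hx, hy]
      | tmul x y =>
        simp only [TensorProduct.map_tmul, LinearMap.mul'_apply, LinearMap.comp_apply,
          AlgHom.toLinearMap_apply, Algebra.TensorProduct.includeLeft_apply]
        exact cT_mul b i _ _
    exact key _
  invFun g := toConv (∑ i, (TensorProduct.mk R A A).flip (b i) ∘ₗ (g i).ofConv)
  left_inv f := by
    apply WithConv.ofConv_injective
    apply LinearMap.ext
    intro a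
    simp only [WithConv.ofConv_toConv, LinearMap.sum_apply, LinearMap.comp_apply,
      LinearMap.flip_apply, TensorProduct.mk_apply]
    exact sum_cT b _
  right_inv g := by
    funext i
    apply WithConv.ofConv_injective
    apply LinearMap.ext
    intro a
    simp only [WithConv.ofConv_toConv, LinearMap.comp_apply, LinearMap.sum_apply,
      LinearMap.flip_apply, TensorProduct.mk_apply, map_sum, cT_tmul]
    rw [Finset.sum_eq_single i]
    · simp
    · intro j _ hji
      simp [Finsupp.single_apply, hji]
    · intro h; exact absurd (Finset.mem_univ i) h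

include b in
/-- Deligne's theorem, free case. -/
theorem pow_card_eq_one_of_basis :
    (toConv (AlgHom.id R A) : WithConv (A →ₐ[R] A)) ^ (Fintype.card ι) = 1 := by
  let u : EE R A := pt (AlgHom.id R A)
  let ir : ET R A := pt (Algebra.TensorProduct.includeRight : A →ₐ[R] A ⊗[R] A)
  have hu : u ^ (Fintype.card ι) = 1 := by
    let B : Module.Basis ι (EE R A) (ET R A) := Module.Basis.ofEquivFun (coordE b)
    have h1 : Algebra.norm (EE R A) (algebraMap (EE R A) (ET R A) u) = u ^ Fintype.card ι :=
      Algebra.norm_algebraMap_of_basis B u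
    have h2 : Algebra.norm (EE R A) (shearEquiv R A ir) = Algebra.norm (EE R A) ir :=
      Algebra.norm_eq_of_algEquiv _ _
    have h3 : shearEquiv R A ir = ir * algebraMap (EE R A) (ET R A) u := by
      change post (shear R A) (pt _) = pt _ * post _ (pt _)
      rw [post_pt, shear_comp_right, post_pt, AlgHom.comp_id, pt_mul, mul_comm]
      rfl
    have h4 : IsUnit (Algebra.norm (EE R A) ir) := (isUnit_pt _).map _
    rw [h3, map_mul, h1] at h2
    exact h4.mul_left_cancel (h2.trans (mul_one _).symm)
  have h5 := pt_pow (toConv (AlgHom.id R A) : WithConv (A →ₐ[R] A)) (Fintype.card ι)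
  rw [WithConv.ofConv_toConv] at h5
  change _ = u ^ _ at h5
  rw [hu, ← pt_one] at h5
  exact WithConv.ofConv_injective (pt_injective h5)

end Norm

section BaseChangePow

variable {R : Type u} {S : Type w} {A : Type v} [CommRing R] [CommRing S] [Algebra R S] [CommRing A]
  [HopfAlgebra R A]

lemma bc_convMul (f g : WithConv (A →ₐ[R] A)) :
    (toConv (Algebra.TensorProduct.map (AlgHom.id S S) (f * g).ofConv) :
      WithConv (S ⊗[R] A →ₐ[S] S ⊗[R] A)) =
    toConv (Algebra.TensorProduct.map (AlgHom.id S S) f.ofConv) *
      toConv (Algebra.TensorProduct.map (AlgHom.id S S) g.ofConv) := by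
  apply WithConv.ext
  apply AlgHom.ext
  intro z
  have key : ∀ w : A ⊗[R] A,
      (Algebra.TensorProduct.lift (Algebra.TensorProduct.map (AlgHom.id S S) f.ofConv)
        (Algebra.TensorProduct.map (AlgHom.id S S) g.ofConv) (fun _ _ => Commute.all _ _))
        (AlgebraTensorModule.tensorTensorTensorComm R S R S S S A A
          (((1 : S) ⊗ₜ[S] (1 : S)) ⊗ₜ[R] w)) =
      (1 : S) ⊗ₜ[R] (Algebra.TensorProduct.lift f.ofConv g.ofConv (fun _ _ => Commute.all _ _) w) := by
    intro w
    induction w using TensorProduct.induction_on with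
    | zero => simp
    | add x y hx hy =>
      rw [TensorProduct.tmul_add, map_add, map_add, hx, hy, map_add, TensorProduct.tmul_add]
    | tmul x y =>
      rw [AlgebraTensorModule.tensorTensorTensorComm_tmul, Algebra.TensorProduct.lift_tmul,
        Algebra.TensorProduct.map_tmul, Algebra.TensorProduct.map_tmul,
        Algebra.TensorProduct.tmul_mul_tmul, Algebra.TensorProduct.lift_tmul]
      simp
  induction z using TensorProduct.induction_on with
  | zero => simp
  | add x y hx hy => rw [map_add, map_add, hx, hy]
  | tmul s a =>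
    have hs : s ⊗ₜ[R] a = s • ((1 : S) ⊗ₜ[R] a) := by
      rw [TensorProduct.smul_tmul', smul_eq_mul, mul_one]
    rw [hs, map_smul, map_smul]
    congr 1
    rw [WithConv.ofConv_toConv, Algebra.TensorProduct.map_tmul, AlgHom.convMul_apply,
      AlgHom.convMul_apply, TensorProduct.comul_tmul, CommSemiring.comul_apply]
    simp only [AlgHom.id_apply]
    rw [key]

lemma bc_convOne :
    (toConv (Algebra.TensorProduct.map (AlgHom.id S S) (1 : WithConv (A →ₐ[R] A)).ofConv) :
      WithConv (S ⊗[R] A →ₐ[S] S ⊗[R] A)) = 1 := by
  apply WithConv.ext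
  apply AlgHom.ext
  intro z
  induction z using TensorProduct.induction_on with
  | zero => simp
  | add x y hx hy => rw [map_add, map_add, hx, hy]
  | tmul s a =>
    rw [WithConv.ofConv_toConv, Algebra.TensorProduct.map_tmul, AlgHom.convOne_apply,
      AlgHom.convOne_apply, AlgHom.id_apply, TensorProduct.counit_tmul,
      CommSemiring.counit_apply, Algebra.TensorProduct.algebraMap_apply,
      Algebra.algebraMap_self_apply, Algebra.algebraMap_eq_smul_one, TensorProduct.tmul_smul,
      TensorProduct.smul_tmul']

lemma bc_convPow (f : WithConv (A →ₐ[R] A)) (n : ℕ) :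
    (toConv (Algebra.TensorProduct.map (AlgHom.id S S) (f ^ n).ofConv) :
      WithConv (S ⊗[R] A →ₐ[S] S ⊗[R] A)) =
    toConv (Algebra.TensorProduct.map (AlgHom.id S S) f.ofConv) ^ n := by
  induction n with
  | zero => rw [pow_zero, pow_zero, bc_convOne]
  | succ n ih => rw [pow_succ, pow_succ, bc_convMul, ih]

end BaseChangePow

section Final

variable (R : Type u) [CommRing R] (A : Type v) [CommRing A] [HopfAlgebra R A]
    [Coalgebra.IsCocomm R A] [Module.Finite R A] [Module.Projective R A]

/-- Deligne's theorem: a commutative finite locally free group scheme of order `n` is killed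
by `n`. -/
theorem pow_rank_eq_one (n : ℕ)
    (hn : ∀ p : PrimeSpectrum R, Module.rankAtStalk A p = n) :
    (WithConv.toConv (AlgHom.id R A)) ^ n = 1 := by
  classical
  apply WithConv.ofConv_injective
  apply AlgHom.ext
  intro a
  apply Module.eq_of_localization_maximal
    (fun P _ => Localization.AtPrime P ⊗[R] A)
    (fun P _ => TensorProduct.mk R (Localization.AtPrime P) A 1)
  intro P hP
  have hfree : Module.Free (Localization.AtPrime P) (Localization.AtPrime P ⊗[R] A) :=
    Module.free_of_flat_of_isLocalRing
  let b := Module.Free.chooseBasis (Localization.AtPrime P) (Localization.AtPrime P ⊗[R] A)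
  have hcard : Fintype.card (Module.Free.ChooseBasisIndex (Localization.AtPrime P)
      (Localization.AtPrime P ⊗[R] A)) = n := by
    rw [← Module.finrank_eq_card_chooseBasisIndex]
    have := Module.rankAtStalk_eq_finrank_tensorProduct (M := A) ⟨P, hP.isPrime⟩
    rw [hn] at this
    exact this.symm
  have h1 := pow_card_eq_one_of_basis b
  rw [hcard] at h1
  have h2 := bc_convPow (S := Localization.AtPrime P) (toConv (AlgHom.id R A)) n
  rw [WithConv.ofConv_toConv, Algebra.TensorProduct.map_id] at h2
  have h3 : (toConv (AlgHom.id (Localization.AtPrime P) (Localization.AtPrime P ⊗[R] A)) :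
      WithConv (Localization.AtPrime P ⊗[R] A →ₐ[Localization.AtPrime P]
        Localization.AtPrime P ⊗[R] A)) ^ n = 1 := h1
  rw [h3, ← bc_convOne] at h2
  have h4 := congrArg (fun f : WithConv (Localization.AtPrime P ⊗[R] A →ₐ[Localization.AtPrime P]
        Localization.AtPrime P ⊗[R] A) => f.ofConv ((1 : Localization.AtPrime P) ⊗ₜ[R] a)) h2
  simp only [WithConv.ofConv_toConv, Algebra.TensorProduct.map_tmul, AlgHom.id_apply] at h4
  exact h4

end Final

end Groth.Agent.Lib.Helper7.Deligne
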