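import Mathlib.AlgebraicGeometry.Restrict
import Mathlib.AlgebraicGeometry.Gluing
import Mathlib.AlgebraicGeometry.AffineScheme

set_option autoImplicit false

universe u

open CategoryTheory AlgebraicGeometry

namespace Groth.Agent.Lib.Helper7.DescendMorphism

lemma appLE_congr_hom' {X Y : Scheme.{u}} {f g : X ⟶ Y} (h : f = g) (U : Y.Opens) (V : X.Opens)
    (e : V ≤ f ⁻¹ᵁ U) : f.appLE U V e = g.appLE U V (h ▸ e) := by
  subst h; rfl

/-- A morphism restricted to an open mapping into an affine open is determined by `appLE`. -/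
lemma toSpecΓ_SpecMap_appLE_fromSpec {T Z : Scheme.{u}} (f : T ⟶ Z) {W : Z.Opens}
    (hW : IsAffineOpen W) (V : T.Opens) (e : V ≤ f ⁻¹ᵁ W) :
    V.toSpecΓ ≫ Spec.map (f.appLE W V e) ≫ hW.fromSpec = V.ι ≫ f := by
  rw [← Category.assoc, Scheme.Opens.toSpecΓ_SpecMap_appLE, Category.assoc, hW.toSpecΓ_fromSpec,
    Scheme.Hom.resLE_comp_ι]

/-- A surjective morphism which is injective on sections over all opens is an epimorphism
(in the category of schemes). -/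
theorem eq_of_comp_eq {X Y Z : Scheme.{u}} (p : X ⟶ Y) (hsurj : Function.Surjective p.base)
    (hinj : ∀ U : Y.Opens, Function.Injective (p.app U).hom) {a b : Y ⟶ Z}
    (hab : p ≫ a = p ≫ b) : a = b := by
  have hbase : ∀ y, a.base y = b.base y := by
    intro y
    obtain ⟨x, rfl⟩ := hsurj y
    rw [← Scheme.Hom.comp_apply, ← Scheme.Hom.comp_apply, hab]
  apply Scheme.hom_ext_of_forall
  intro y
  obtain ⟨_, ⟨W, hW, rfl⟩, hyW, -⟩ :=
    Z.isBasis_affineOpens.exists_subset_of_mem_open (Set.mem_univ (a.base y)) isOpen_univ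
  have hV : a ⁻¹ᵁ W ≤ b ⁻¹ᵁ W := by
    intro y' hy'
    change b.base y' ∈ W
    rw [← hbase]
    exact hy'
  refine ⟨a ⁻¹ᵁ W, hyW, ?_⟩
  rw [← toSpecΓ_SpecMap_appLE_fromSpec a hW (a ⁻¹ᵁ W) le_rfl,
    ← toSpecΓ_SpecMap_appLE_fromSpec b hW (a ⁻¹ᵁ W) hV]
  have h1 : a.appLE W (a ⁻¹ᵁ W) le_rfl ≫ p.app (a ⁻¹ᵁ W) =
      b.appLE W (a ⁻¹ᵁ W) hV ≫ p.app (a ⁻¹ᵁ W) := by
    rw [Scheme.Hom.app_eq_appLE, Scheme.Hom.appLE_comp_appLE, Scheme.Hom.appLE_comp_appLE,
      appLE_congr_hom' hab]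
  have h2 : a.appLE W (a ⁻¹ᵁ W) le_rfl = b.appLE W (a ⁻¹ᵁ W) hV := by
    ext r
    apply hinj (a ⁻¹ᵁ W)
    exact congrArg (fun f => f.hom r) h1
  rw [h2]

/-- restricted version of `eq_of_comp_eq`. -/
theorem eq_of_restrict_comp_eq {X Y Z : Scheme.{u}} (p : X ⟶ Y) (hsurj : Function.Surjective p.base)
    (hinj : ∀ U : Y.Opens, Function.Injective (p.app U).hom) (V : Y.Opens) {a b : V.toScheme ⟶ Z}
    (hab : p ∣_ V ≫ a = p ∣_ V ≫ b) : a = b := by
  refine eq_of_comp_eq (p ∣_ V) ?_ ?_ hab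
  · rintro ⟨y, hy⟩
    obtain ⟨x, rfl⟩ := hsurj y
    refine ⟨⟨x, hy⟩, ?_⟩
    apply Subtype.ext
    exact morphismRestrict_base_coe p V ⟨x, hy⟩
  · intro V'
    rw [morphismRestrict_app]
    have h1 := hinj (V.ι ''ᵁ V')
    intro s t hst
    apply h1
    have hinj' : Function.Injective (X.presheaf.map
        (eqToHom (image_morphismRestrict_preimage p V V')).op).hom :=
      (ConcreteCategory.bijective_of_isIso _).1
    exact hinj' hst

lemma fst_comp_eq_snd_comp {Y Z : Scheme.{u}} (U V : Y.Opens) (f : U.toScheme ⟶ Z)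
    (g : V.toScheme ⟶ Z)
    (h : Y.homOfLE (inf_le_left : U ⊓ V ≤ U) ≫ f = Y.homOfLE (inf_le_right : U ⊓ V ≤ V) ≫ g) :
    Limits.pullback.fst U.ι V.ι ≫ f = Limits.pullback.snd U.ι V.ι ≫ g := by
  let t := Limits.pullback.fst U.ι V.ι ≫ U.ι
  have ht : t = Limits.pullback.snd U.ι V.ι ≫ V.ι := Limits.pullback.condition
  have hrange : Set.range t.base ⊆ Set.range (U ⊓ V).ι.base := by
    rintro _ ⟨z, rfl⟩
    rw [Scheme.Opens.range_ι]
    refine ⟨?_, ?_⟩
    · exact ((Limits.pullback.fst U.ι V.ι).base z).2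
    · rw [ht]
      exact ((Limits.pullback.snd U.ι V.ι).base z).2
  let l := IsOpenImmersion.lift (U ⊓ V).ι t hrange
  have hl : l ≫ (U ⊓ V).ι = t := IsOpenImmersion.lift_fac _ _ _
  have h1 : Limits.pullback.fst U.ι V.ι = l ≫ Y.homOfLE inf_le_left := by
    rw [← cancel_mono U.ι, Category.assoc, Scheme.homOfLE_ι, hl]
  have h2 : Limits.pullback.snd U.ι V.ι = l ≫ Y.homOfLE inf_le_right := by
    rw [← cancel_mono V.ι, Category.assoc, Scheme.homOfLE_ι, hl, ht]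
  rw [h1, h2, Category.assoc, Category.assoc, h]

/-- Gluing morphisms defined on an open cover by opens, compatible on pairwise intersections. -/
theorem exists_glue {Y Z : Scheme.{u}} {ι : Type u} (U : ι → Y.Opens)
    (hU : TopologicalSpace.IsOpenCover U)
    (f : ∀ i, (U i).toScheme ⟶ Z)
    (hf : ∀ i j, Y.homOfLE (inf_le_left : U i ⊓ U j ≤ U i) ≫ f i =
      Y.homOfLE (inf_le_right : U i ⊓ U j ≤ U j) ≫ f j) :
    ∃ g : Y ⟶ Z, ∀ i, (U i).ι ≫ g = f i := by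
  let 𝒰 := Y.openCoverOfIsOpenCover U hU
  have hcompat : ∀ i j : ι, Limits.pullback.fst (𝒰.f i) (𝒰.f j) ≫ f i =
      Limits.pullback.snd (𝒰.f i) (𝒰.f j) ≫ f j :=
    fun i j => fst_comp_eq_snd_comp (U i) (U j) (f i) (f j) (hf i j)
  exact ⟨𝒰.glueMorphisms f hcompat, fun i => 𝒰.ι_glueMorphisms f hcompat i⟩

/-- A ring hom whose values lie in the range of an injective ring hom factors through it. -/
lemma exists_ringHom_factor {A B C : Type*} [CommRing A] [CommRing B] [CommRing C]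
    (j : B →+* C) (hj : Function.Injective j) (f : A →+* C) (hf : ∀ a, f a ∈ Set.range j) :
    ∃ φ : A →+* B, j.comp φ = f := by
  choose φ hφ using hf
  refine ⟨{ toFun := φ, map_one' := ?_, map_mul' := ?_, map_zero' := ?_, map_add' := ?_ }, ?_⟩
  · apply hj; rw [hφ, map_one, map_one]
  · intro a b; apply hj; rw [hφ, map_mul, map_mul, hφ, hφ]
  · apply hj; rw [hφ, map_zero, map_zero]
  · intro a b; apply hj; rw [hφ, map_add, map_add, hφ, hφ]
  · ext a; exact hφ a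

/-- naturality of `morphismRestrict` with respect to inclusions of opens -/
lemma morphismRestrict_comp_homOfLE {X Y : Scheme.{u}} (p : X ⟶ Y) {V V' : Y.Opens} (e : V ≤ V') :
    p ∣_ V ≫ Y.homOfLE e =
      X.homOfLE (show p ⁻¹ᵁ V ≤ p ⁻¹ᵁ V' from fun _ hx => e hx) ≫ p ∣_ V' := by
  rw [← cancel_mono V'.ι, Category.assoc, Category.assoc, Scheme.homOfLE_ι, morphismRestrict_ι,
    morphismRestrict_ι, ← Category.assoc, Scheme.homOfLE_ι]

/-- **Descent of morphisms.** Let `p : X ⟶ Y` be a morphism whose underlying map is a quotient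
map and which is injective on sections over every open. A morphism `h : X ⟶ Z` which is constant
on the fibres of `p` and whose pulled-back sections all come from `Y` factors uniquely
through `p`. -/
theorem existsUnique_desc {X Y Z : Scheme.{u}} (p : X ⟶ Y)
    (hq : Topology.IsQuotientMap p.base)
    (hinj : ∀ U : Y.Opens, Function.Injective (p.app U).hom)
    (h : X ⟶ Z)
    (hfib : ∀ x x' : X, p.base x = p.base x' → h.base x = h.base x')
    (hrange : ∀ (V : Y.Opens) (W : Z.Opens) (e : p ⁻¹ᵁ V ≤ h ⁻¹ᵁ W) (r : Γ(Z, W)),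
      (h.appLE W (p ⁻¹ᵁ V) e).hom r ∈ Set.range (p.app V).hom) :
    ∃! h' : Y ⟶ Z, p ≫ h' = h := by
  have hsurj : Function.Surjective p.base := hq.surjective
  -- the opens `V_W`
  have hopen : ∀ W : Z.Opens, IsOpen (p.base '' (h ⁻¹ᵁ W : Set X)) := by
    intro W
    rw [← hq.isOpen_preimage]
    have : p.base ⁻¹' (p.base '' (h ⁻¹ᵁ W : Set X)) = (h ⁻¹ᵁ W : Set X) := by
      ext x
      constructor
      · rintro ⟨x', hx', hxx'⟩
        change h.base x ∈ W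
        rw [← hfib x' x hxx']
        exact hx'
      · intro hx
        exact ⟨x, hx, rfl⟩
    rw [this]
    exact (h ⁻¹ᵁ W).isOpen
  let V : Z.affineOpens → Y.Opens := fun W => ⟨p.base '' (h ⁻¹ᵁ W.1 : Set X), hopen W.1⟩
  have hV : ∀ W : Z.affineOpens, p ⁻¹ᵁ (V W) = h ⁻¹ᵁ W.1 := by
    intro W
    ext x
    constructor
    · rintro ⟨x', hx', hxx'⟩
      change h.base x ∈ W.1
      rw [← hfib x' x hxx']
      exact hx'
    · intro hx
      exact ⟨x, hx, rfl⟩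
  have hVle : ∀ W : Z.affineOpens, p ⁻¹ᵁ (V W) ≤ h ⁻¹ᵁ W.1 := fun W => (hV W).le
  have hcover : TopologicalSpace.IsOpenCover V := by
    rw [TopologicalSpace.IsOpenCover, eq_top_iff]
    intro y _
    obtain ⟨x, rfl⟩ := hsurj y
    obtain ⟨_, ⟨W, hW, rfl⟩, hxW, -⟩ :=
      Z.isBasis_affineOpens.exists_subset_of_mem_open (Set.mem_univ (h.base x)) isOpen_univ
    rw [TopologicalSpace.Opens.mem_iSup]
    exact ⟨⟨W, hW⟩, x, hxW, rfl⟩
  -- the ring maps
  have hφ : ∀ W : Z.affineOpens, ∃ φ : Γ(Z, W.1) ⟶ Γ(Y, V W),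
      φ ≫ p.app (V W) = h.appLE W.1 (p ⁻¹ᵁ (V W)) (hVle W) := by
    intro W
    obtain ⟨φ, hφ⟩ := exists_ringHom_factor (p.app (V W)).hom (hinj (V W))
      (h.appLE W.1 (p ⁻¹ᵁ (V W)) (hVle W)).hom (hrange (V W) W.1 (hVle W))
    exact ⟨CommRingCat.ofHom φ, CommRingCat.hom_ext hφ⟩
  choose φ hφ using hφ
  -- local morphisms
  let g : ∀ W : Z.affineOpens, (V W).toScheme ⟶ Z := fun W =>
    (V W).toSpecΓ ≫ Spec.map (φ W) ≫ W.2.fromSpec
  have hg : ∀ W : Z.affineOpens, p ∣_ (V W) ≫ g W = (p ⁻¹ᵁ (V W)).ι ≫ h := by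
    intro W
    change p ∣_ (V W) ≫ (V W).toSpecΓ ≫ Spec.map (φ W) ≫ W.2.fromSpec = _
    rw [← Category.assoc, ← Scheme.Opens.toSpecΓ_naturality, Category.assoc, ← Category.assoc
      (Spec.map _), ← Spec.map_comp, hφ, toSpecΓ_SpecMap_appLE_fromSpec]
  clear_value g V
  have key : ∀ (W : Z.affineOpens) (U : Y.Opens) (e : U ≤ V W),
      p ∣_ U ≫ Y.homOfLE e ≫ g W = (p ⁻¹ᵁ U).ι ≫ h := by
    intro W U e
    calc p ∣_ U ≫ Y.homOfLE e ≫ g W = (p ∣_ U ≫ Y.homOfLE e) ≫ g W := (Category.assoc _ _ _).symm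
      _ = (X.homOfLE (show p ⁻¹ᵁ U ≤ p ⁻¹ᵁ (V W) from fun _ hx => e hx) ≫ p ∣_ (V W)) ≫ g W := by
          rw [morphismRestrict_comp_homOfLE]
      _ = X.homOfLE (show p ⁻¹ᵁ U ≤ p ⁻¹ᵁ (V W) from fun _ hx => e hx) ≫
            (p ⁻¹ᵁ (V W)).ι ≫ h := by rw [Category.assoc, hg]
      _ = (p ⁻¹ᵁ U).ι ≫ h := by rw [← Category.assoc, Scheme.homOfLE_ι]
  -- compatibility
  have hcompat : ∀ W W' : Z.affineOpens,
      Y.homOfLE (inf_le_left : V W ⊓ V W' ≤ V W) ≫ g W =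
        Y.homOfLE (inf_le_right : V W ⊓ V W' ≤ V W') ≫ g W' := by
    intro W W'
    apply eq_of_restrict_comp_eq p hsurj hinj (V W ⊓ V W')
    rw [key, key]
  obtain ⟨h', hh'⟩ := exists_glue V hcover g hcompat
  have hfac : p ≫ h' = h := by
    apply Scheme.hom_ext_of_forall
    intro x
    obtain ⟨_, ⟨W, hW, rfl⟩, hxW, -⟩ :=
      Z.isBasis_affineOpens.exists_subset_of_mem_open (Set.mem_univ (h.base x)) isOpen_univ
    refine ⟨p ⁻¹ᵁ (V ⟨W, hW⟩), (hV ⟨W, hW⟩).ge hxW, ?_⟩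
    rw [← Category.assoc, ← morphismRestrict_ι, Category.assoc, hh', hg]
  refine ⟨h', hfac, fun h'' hh'' => ?_⟩
  exact eq_of_comp_eq p hsurj hinj (hh''.trans hfac.symm)

end Groth.Agent.Lib.Helper7.DescendMorphism
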