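import Mathlib
import Groth.Prelude.Def_HopfRep

/-!
# Comodule structures and actions of points (algebraic core) (helper7)
-/

set_option autoImplicit false

namespace Groth.Agent.Lib.Helper7.GModComod

open TensorProduct WithConv

universe u

variable {R : Type u} [CommRing R] {A : Type u} [CommRing A] [Bialgebra R A]
  {E : Type u} [AddCommGroup E] [Module R E]
  {B : Type u} [CommRing B] [Algebra R B] {B' : Type u} [CommRing B'] [Algebra R B']

/-- `y ↦ Σ f(a_i) ⊗ x_i` on `E ⊗ A`. -/
noncomputable def ev (E : Type u) [AddCommGroup E] [Module R E] (f : A →ₐ[R] B) :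
    E ⊗[R] A →ₗ[R] B ⊗[R] E :=
  (TensorProduct.comm R E B).toLinearMap ∘ₗ f.toLinearMap.lTensor E

@[simp] lemma ev_tmul (f : A →ₐ[R] B) (x : E) (a : A) : ev E f (x ⊗ₜ[R] a) = f a ⊗ₜ[R] x := rfl

/-- the action of the point `f` on `B ⊗ E` defined by `δ`. -/
noncomputable def act (δ : E →ₗ[R] E ⊗[R] A) (f : A →ₐ[R] B) : B ⊗[R] E →ₗ[B] B ⊗[R] E :=
  LinearMap.liftBaseChange B (ev E f ∘ₗ δ)

lemma act_tmul (δ : E →ₗ[R] E ⊗[R] A) (f : A →ₐ[R] B) (b : B) (x : E) :
    act δ f (b ⊗ₜ[R] x) = b • ev E f (δ x) := by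
  rw [act, LinearMap.liftBaseChange_tmul]
  rfl

lemma act_one_tmul (δ : E →ₗ[R] E ⊗[R] A) (f : A →ₐ[R] B) (x : E) :
    act δ f ((1 : B) ⊗ₜ[R] x) = ev E f (δ x) := by
  rw [act_tmul, one_smul]

lemma ext_one_tmul {N : Type*} [AddCommGroup N] [Module B N] {S T : B ⊗[R] E →ₗ[B] N}
    (h : ∀ x : E, S ((1 : B) ⊗ₜ[R] x) = T ((1 : B) ⊗ₜ[R] x)) : S = T := by
  apply LinearMap.ext
  intro y
  induction y using TensorProduct.induction_on with
  | zero => simp
  | add x y hx hy => rw [map_add, map_add, hx, hy]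
  | tmul b x =>
    have : b ⊗ₜ[R] x = b • ((1 : B) ⊗ₜ[R] x) := by
      rw [TensorProduct.smul_tmul', smul_eq_mul, mul_one]
    rw [this, map_smul, map_smul, h]

/-- `x ⊗ (a' ⊗ a) ↦ f a' * g a ⊗ x`. -/
noncomputable def ev2 (E : Type u) [AddCommGroup E] [Module R E] (f g : A →ₐ[R] B) :
    E ⊗[R] (A ⊗[R] A) →ₗ[R] B ⊗[R] E :=
  (TensorProduct.comm R E B).toLinearMap ∘ₗ
    (LinearMap.mul' R B ∘ₗ TensorProduct.map f.toLinearMap g.toLinearMap).lTensor E

@[simp] lemma ev2_tmul (f g : A →ₐ[R] B) (x : E) (a' a : A) :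
    ev2 E f g (x ⊗ₜ[R] (a' ⊗ₜ[R] a)) = (f a' * g a) ⊗ₜ[R] x := rfl

lemma ev_convMul (f g : A →ₐ[R] B) (z : E ⊗[R] A) :
    ev E (toConv f * toConv g).ofConv z =
      ev2 E f g (LinearMap.lTensor E (Coalgebra.comul (R := R) (A := A)) z) := by
  induction z using TensorProduct.induction_on with
  | zero => simp
  | add x y hx hy => rw [map_add, hx, hy, map_add, map_add]
  | tmul x a =>
    rw [ev_tmul, LinearMap.lTensor_tmul, AlgHom.convMul_apply]
    generalize CoalgebraStruct.comul (R := R) a = d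
    induction d using TensorProduct.induction_on with
    | zero => simp
    | add x y hx hy => rw [map_add, TensorProduct.add_tmul, hx, hy, TensorProduct.tmul_add, map_add]
    | tmul a' a'' => rw [ev2_tmul, Algebra.TensorProduct.lift_tmul]

/-- the key computation behind multiplicativity. -/
lemma act_ev (δ : E →ₗ[R] E ⊗[R] A) (f g : A →ₐ[R] B) (y : E ⊗[R] A) :
    act δ f (ev E g y) = ev2 E f g ((TensorProduct.assoc R E A A) (δ.rTensor A y)) := by
  induction y using TensorProduct.induction_on with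
  | zero => simp
  | add x y hx hy => rw [map_add, map_add, hx, hy, map_add, map_add, map_add]
  | tmul x a =>
    rw [ev_tmul, act_tmul, LinearMap.rTensor_tmul]
    generalize δ x = z
    induction z using TensorProduct.induction_on with
    | zero => simp
    | add x y hx hy =>
      rw [map_add, smul_add, hx, hy, TensorProduct.add_tmul, map_add, map_add]
    | tmul x' a' =>
      rw [ev_tmul, TensorProduct.assoc_tmul, ev2_tmul, TensorProduct.smul_tmul', smul_eq_mul,
        mul_comm]

lemma act_mul (δ : E →ₗ[R] E ⊗[R] A)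
    (hδ : (TensorProduct.assoc R E A A).toLinearMap ∘ₗ δ.rTensor A ∘ₗ δ =
      (CoalgebraStruct.comul (R := R) (A := A)).lTensor E ∘ₗ δ)
    (f g : A →ₐ[R] B) :
    act δ (toConv f * toConv g).ofConv = act δ f ∘ₗ act δ g := by
  apply ext_one_tmul
  intro x
  rw [LinearMap.comp_apply, act_one_tmul, act_one_tmul, act_ev, ev_convMul]
  congr 1
  exact (LinearMap.congr_fun hδ x).symm

lemma act_one (δ : E →ₗ[R] E ⊗[R] A)
    (hδ : (CoalgebraStruct.counit (R := R) (A := A)).lTensor E ∘ₗ δ = (TensorProduct.mk R E R).flip 1) :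
    act δ (1 : WithConv (A →ₐ[R] B)).ofConv = LinearMap.id := by
  apply ext_one_tmul
  intro x
  rw [act_one_tmul, LinearMap.id_apply]
  have h1 : ∀ z : E ⊗[R] A, ev E (1 : WithConv (A →ₐ[R] B)).ofConv z =
      (TensorProduct.comm R E B) (LinearMap.lTensor E (Algebra.linearMap R B)
        (LinearMap.lTensor E (CoalgebraStruct.counit (R := R) (A := A)) z)) := by
    intro z
    induction z using TensorProduct.induction_on with
    | zero => simp
    | add x y hx hy => rw [map_add, hx, hy, map_add, map_add, map_add]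
    | tmul x a =>
      rw [ev_tmul, AlgHom.convOne_apply]
      rfl
  have h2 := LinearMap.congr_fun hδ x
  rw [LinearMap.comp_apply] at h2
  rw [h1, h2]
  simp

lemma wmap_ev (φ : B →ₐ[R] B') (f : A →ₐ[R] B) (z : E ⊗[R] A) :
    φ.toLinearMap.rTensor E (ev E f z) = ev E (φ.comp f) z := by
  induction z using TensorProduct.induction_on with
  | zero => simp
  | add x y hx hy => rw [map_add, map_add, hx, hy, map_add]
  | tmul x a => rfl

lemma wmap_act (δ : E →ₗ[R] E ⊗[R] A) (φ : B →ₐ[R] B') (f : A →ₐ[R] B) (y : B ⊗[R] E) :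
    φ.toLinearMap.rTensor E (act δ f y) = act δ (φ.comp f) (φ.toLinearMap.rTensor E y) := by
  induction y using TensorProduct.induction_on with
  | zero => simp
  | add x y hx hy => rw [map_add, map_add, hx, hy, map_add, map_add]
  | tmul b x =>
    rw [act_tmul, LinearMap.rTensor_tmul, AlgHom.toLinearMap_apply, act_tmul, ← wmap_ev]
    generalize ev E f (δ x) = w
    induction w using TensorProduct.induction_on with
    | zero => simp
    | add x y hx hy => rw [smul_add, map_add, hx, hy, map_add, smul_add]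
    | tmul c e =>
      rw [TensorProduct.smul_tmul', LinearMap.rTensor_tmul, LinearMap.rTensor_tmul,
        TensorProduct.smul_tmul', smul_eq_mul, smul_eq_mul, AlgHom.toLinearMap_apply,
        AlgHom.toLinearMap_apply, map_mul]

end Groth.Agent.Lib.Helper7.GModComod
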