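import Mathlib
import Groth.Prelude.Def_VecGrp
import Groth.Prelude.Def_HopfRep
import Groth.Agent.Lib.Helper7.GModComod1

set_option autoImplicit false

namespace Groth.Agent.Lib.Helper7.GModComod

open CategoryTheory MonoidalCategory CartesianMonoidalCategory MonObj GrpObj AlgebraicGeometry
open TensorProduct WithConv

universe u

variable {R : Type u} [CommRing R] {A : Type u} [CommRing A] [HopfAlgebra R A]
  {E : Type u} [AddCommGroup E] [Module R E]
  {B : Type u} [CommRing B] [Algebra R B] {B' : Type u} [CommRing B'] [Algebra R B']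

/-- the algebra map of a point. -/
noncomputable def pf
    (g : (Spec (CommRingCat.of B)).asOver (Spec (CommRingCat.of R)) ⟶
      ((Spec (CommRingCat.of A)).asOver (Spec (CommRingCat.of R)))) :
    A →ₐ[R] B := (Spec.mapMulEquiv.symm g).ofConv

lemma pf_mul (g g' : (Spec (CommRingCat.of B)).asOver (Spec (CommRingCat.of R)) ⟶
      ((Spec (CommRingCat.of A)).asOver (Spec (CommRingCat.of R)))) :
    pf (g * g') = (toConv (pf g) * toConv (pf g')).ofConv := by
  unfold pf
  rw [map_mul]

lemma pf_one :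
    pf (1 : (Spec (CommRingCat.of B)).asOver (Spec (CommRingCat.of R)) ⟶
      ((Spec (CommRingCat.of A)).asOver (Spec (CommRingCat.of R)))) =
      (1 : WithConv (A →ₐ[R] B)).ofConv := by
  unfold pf
  rw [map_one]

/-- the point of an algebra map. -/
noncomputable def pg (f : A →ₐ[R] B) :
    (Spec (CommRingCat.of B)).asOver (Spec (CommRingCat.of R)) ⟶
      ((Spec (CommRingCat.of A)).asOver (Spec (CommRingCat.of R))) :=
  Spec.mapMulEquiv (toConv f)

@[simp] lemma pf_pg (f : A →ₐ[R] B) : pf (pg f) = f := by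
  unfold pf pg
  rw [MulEquiv.symm_apply_apply]

@[simp] lemma pg_pf (g : (Spec (CommRingCat.of B)).asOver (Spec (CommRingCat.of R)) ⟶
      ((Spec (CommRingCat.of A)).asOver (Spec (CommRingCat.of R)))) : pg (pf g) = g := by
  unfold pf pg
  rw [toConv_ofConv, MulEquiv.apply_symm_apply]

lemma ptMap_comp_pg (φ : B →ₐ[R] B') (f : A →ₐ[R] B) :
    VecGrp.ptMap φ ≫ (pg f : VecGrp.pt R B ⟶ _) = (pg (φ.comp f) : VecGrp.pt R B' ⟶ _) := by
  apply Over.OverMorphism.ext
  change Spec.map _ ≫ Spec.map _ = Spec.map _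
  rw [← Spec.map_comp]
  rfl

lemma pf_comp (φ : B →ₐ[R] B')
    (g : (Spec (CommRingCat.of B)).asOver (Spec (CommRingCat.of R)) ⟶
      ((Spec (CommRingCat.of A)).asOver (Spec (CommRingCat.of R)))) :
    pf (VecGrp.ptMap φ ≫ g) = φ.comp (pf g) := by
  have h := ptMap_comp_pg φ (pf g)
  have h' : VecGrp.ptMap φ ≫ g = pg (φ.comp (pf g)) := by
    refine Eq.trans ?_ h
    exact congrArg (fun t => VecGrp.ptMap φ ≫ t) (pg_pf g).symm
  exact (congrArg pf h').trans (pf_pg _)

section Act

variable (δ : E →ₗ[R] E ⊗[R] A)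
    (h1 : (TensorProduct.assoc R E A A).toLinearMap ∘ₗ δ.rTensor A ∘ₗ δ =
      (CoalgebraStruct.comul (R := R) (A := A)).lTensor E ∘ₗ δ)
    (h2 : (CoalgebraStruct.counit (R := R) (A := A)).lTensor E ∘ₗ δ =
      (TensorProduct.mk R E R).flip 1)

include h2 in
lemma act_pf_one : act δ (pf (1 : (Spec (CommRingCat.of B)).asOver (Spec (CommRingCat.of R)) ⟶
      ((Spec (CommRingCat.of A)).asOver (Spec (CommRingCat.of R))))) = LinearMap.id := by
  rw [pf_one, act_one δ h2]

include h1 in
lemma act_pf_mul (g g' : (Spec (CommRingCat.of B)).asOver (Spec (CommRingCat.of R)) ⟶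
      ((Spec (CommRingCat.of A)).asOver (Spec (CommRingCat.of R)))) :
    act δ (pf (g * g')) = act δ (pf g) ∘ₗ act δ (pf g') := by
  rw [pf_mul, act_mul δ h1]

include h1 h2 in
lemma act_pf_inv_right (g : (Spec (CommRingCat.of B)).asOver (Spec (CommRingCat.of R)) ⟶
      ((Spec (CommRingCat.of A)).asOver (Spec (CommRingCat.of R)))) :
    act δ (pf g) ∘ₗ act δ (pf g⁻¹) = LinearMap.id := by
  rw [← act_pf_mul δ h1, mul_inv_cancel, act_pf_one δ h2]

include h1 h2 in
lemma act_pf_inv_left (g : (Spec (CommRingCat.of B)).asOver (Spec (CommRingCat.of R)) ⟶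
      ((Spec (CommRingCat.of A)).asOver (Spec (CommRingCat.of R)))) :
    act δ (pf g⁻¹) ∘ₗ act δ (pf g) = LinearMap.id := by
  rw [← act_pf_mul δ h1, inv_mul_cancel, act_pf_one δ h2]

lemma act_pf_comp (φ : B →ₐ[R] B')
    (g : (Spec (CommRingCat.of B)).asOver (Spec (CommRingCat.of R)) ⟶
      ((Spec (CommRingCat.of A)).asOver (Spec (CommRingCat.of R)))) (x : B ⊗[R] E) :
    φ.toLinearMap.rTensor E (act δ (pf g) x) =
      act δ (pf (VecGrp.ptMap φ ≫ g)) (φ.toLinearMap.rTensor E x) := by
  rw [pf_comp, wmap_act]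

/-- the `G`-module structure defined by a comodule structure. -/
noncomputable def toGMod :
    VecGrp.GMod ((Spec (CommRingCat.of A)).asOver (Spec (CommRingCat.of R))) E where
  ρ B _ _ :=
    { toFun := fun g => LinearEquiv.ofLinearMap (act δ (pf g)) (act δ (pf g⁻¹))
        (act_pf_inv_right δ h1 h2 g) (act_pf_inv_left δ h1 h2 g)
      map_one' := by
        apply LinearEquiv.ext
        intro y
        exact LinearMap.congr_fun (act_pf_one δ h2) y
      map_mul' := fun g g' => by
        apply LinearEquiv.ext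
        intro y
        exact LinearMap.congr_fun (act_pf_mul δ h1 g g') y }
  naturality := fun φ g x => act_pf_comp δ φ g x

lemma toGMod_apply
    (g : VecGrp.pt R B ⟶ ((Spec (CommRingCat.of A)).asOver (Spec (CommRingCat.of R))))
    (y : B ⊗[R] E) : (toGMod δ h1 h2).ρ B g y = act δ (pf g) y := rfl

end Act

end Groth.Agent.Lib.Helper7.GModComod
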