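import Mathlib
import Groth.Agent.Lib.Helper7.GModComod2

set_option autoImplicit false

namespace Groth.Agent.Lib.Helper7.GH

open CategoryTheory MonoidalCategory CartesianMonoidalCategory MonObj GrpObj AlgebraicGeometry
open Opposite TensorProduct WithConv
open Groth.Agent.Lib.Helper7.GModComod

universe u

variable {R : Type u} [CommRing R]

/-- A Hopf algebra model of an affine group scheme. -/
structure Model (G : Over (Spec (CommRingCat.of R))) [GrpObj G] where
  A : Type u
  [cr : CommRing A]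
  [hopf : HopfAlgebra R A]
  e : G ≅ (Spec (CommRingCat.of A)).asOver (Spec (CommRingCat.of R))
  [mon : IsMonHom e.hom]

attribute [instance] Model.cr Model.hopf Model.mon

theorem nonempty_model (G : Over (Spec (CommRingCat.of R))) [GrpObj G] [IsAffine G.left] :
    Nonempty (Model G) := by
  have h : (hopfSpec (CommRingCat.of R)).essImage (Grp.mk G) := essImage_hopfSpec.2 ‹_›
  obtain ⟨H, ⟨e⟩⟩ := h
  let A : Type u := H.unop.X
  let e1 : ((hopfSpec (CommRingCat.of R)).obj H).X ≅ G :=
    ⟨e.hom.hom.hom, e.inv.hom.hom, by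
      have := congrArg (fun f => f.hom.hom) e.hom_inv_id
      exact this, by
      have := congrArg (fun f => f.hom.hom) e.inv_hom_id
      exact this⟩
  haveI : IsMonHom e1.hom := e.hom.hom.isMonHom_hom
  let e2 : G ≅ (Spec (CommRingCat.of A)).asOver (Spec (CommRingCat.of R)) := e1.symm
  haveI : IsMonHom e2.hom := inferInstanceAs (IsMonHom e1.inv)
  exact ⟨⟨A, e2⟩⟩

section Hom

variable {A B : Type u} [CommRing A] [HopfAlgebra R A] [CommRing B] [HopfAlgebra R B]

/-- a homomorphism between spectra of Hopf algebras comes from a bialgebra map. -/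
theorem exists_bialgHom
    (f : (Spec (CommRingCat.of A)).asOver (Spec (CommRingCat.of R)) ⟶
      (Spec (CommRingCat.of B)).asOver (Spec (CommRingCat.of R))) [IsMonHom f] :
    ∃ φ : B →ₐc[R] A, f = pg (φ : B →ₐ[R] A) := by
  let HA : (CommHopfAlgCat (CommRingCat.of R))ᵒᵖ := op (CommHopfAlgCat.of (CommRingCat.of R) A)
  let HB : (CommHopfAlgCat (CommRingCat.of R))ᵒᵖ := op (CommHopfAlgCat.of (CommRingCat.of R) B)
  have hf : IsMonHom f := ‹_›
  let F : (hopfSpec (CommRingCat.of R)).obj HA ⟶ (hopfSpec (CommRingCat.of R)).obj HB :=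
    @Grp.homMk _ _ _ ((hopfSpec (CommRingCat.of R)).obj HA)
      ((hopfSpec (CommRingCat.of R)).obj HB) f hf
  haveI : (hopfSpec (CommRingCat.of R)).Full := hopfSpec.instFull
  obtain ⟨g, hg⟩ := (hopfSpec (CommRingCat.of R)).map_surjective F
  refine ⟨g.unop.hom, ?_⟩
  have h1 : f = F.hom.hom := rfl
  rw [h1, ← hg]
  rfl

/-- the morphism of spectra induced by a bialgebra map is a homomorphism. -/
theorem isMonHom_pg (φ : B →ₐc[R] A) :
    IsMonHom (pg (φ : B →ₐ[R] A) :
      (Spec (CommRingCat.of A)).asOver (Spec (CommRingCat.of R)) ⟶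
      (Spec (CommRingCat.of B)).asOver (Spec (CommRingCat.of R))) := by
  let HA : (CommHopfAlgCat (CommRingCat.of R))ᵒᵖ := op (CommHopfAlgCat.of (CommRingCat.of R) A)
  let HB : (CommHopfAlgCat (CommRingCat.of R))ᵒᵖ := op (CommHopfAlgCat.of (CommRingCat.of R) B)
  let g : HA ⟶ HB := (CommHopfAlgCat.ofHom φ).op
  exact ((hopfSpec (CommRingCat.of R)).map g).hom.isMonHom_hom

end Hom

section Points

lemma tensorUnit_hom' : (𝟙_ (Over (Spec (CommRingCat.of R)))).hom = 𝟙 (Spec (CommRingCat.of R)) :=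
  rfl

lemma asOver_self_hom : ((Spec (CommRingCat.of R)).asOver (Spec (CommRingCat.of R))).hom =
    𝟙 (Spec (CommRingCat.of R)) := Spec.map_id _

variable (R) in
/-- the unit object of `Over (Spec R)` is `Spec R`. -/
noncomputable def unitIso :
    (Spec (CommRingCat.of R)).asOver (Spec (CommRingCat.of R)) ≅
      𝟙_ (Over (Spec (CommRingCat.of R))) :=
  Over.isoMk (Iso.refl (Spec (CommRingCat.of R))) (by
    rw [Iso.refl_hom, tensorUnit_hom', asOver_self_hom]
    exact Category.id_comp _)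

lemma unitIso_hom_left : (unitIso R).hom.left = 𝟙 (Spec (CommRingCat.of R)) := rfl
lemma unitIso_inv_left : (unitIso R).inv.left = 𝟙 (Spec (CommRingCat.of R)) := rfl

variable {A B : Type u} [CommRing A] [HopfAlgebra R A] [CommRing B] [HopfAlgebra R B]

/-- the rational point of an algebra map to the base. -/
noncomputable def ptOf (g : A →ₐ[R] R) :
    𝟙_ (Over (Spec (CommRingCat.of R))) ⟶
      (Spec (CommRingCat.of A)).asOver (Spec (CommRingCat.of R)) :=
  (unitIso R).inv ≫ pg g

/-- the algebra map of a rational point. -/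
noncomputable def algOf (x : 𝟙_ (Over (Spec (CommRingCat.of R))) ⟶
      (Spec (CommRingCat.of A)).asOver (Spec (CommRingCat.of R))) : A →ₐ[R] R :=
  pf ((unitIso R).hom ≫ x)

@[simp] lemma ptOf_algOf (x : 𝟙_ (Over (Spec (CommRingCat.of R))) ⟶
      (Spec (CommRingCat.of A)).asOver (Spec (CommRingCat.of R))) : ptOf (algOf x) = x := by
  unfold ptOf algOf
  rw [pg_pf, Iso.inv_hom_id_assoc]

@[simp] lemma algOf_ptOf (g : A →ₐ[R] R) : algOf (ptOf g) = g := by
  unfold ptOf algOf
  rw [Iso.hom_inv_id_assoc, pf_pg]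

lemma ptOf_left (g : A →ₐ[R] R) :
    (ptOf g).left = Spec.map (CommRingCat.ofHom (g : A →+* R)) := by
  exact Category.id_comp (X := Spec (CommRingCat.of R)) (pg g).left

lemma pg_left {T : Type u} [CommRing T] [Algebra R T] (g : A →ₐ[R] T) :
    (pg g).left = Spec.map (CommRingCat.ofHom (g : A →+* T)) := rfl

lemma pg_comp_pg {T : Type u} [CommRing T] [Algebra R T] (g : A →ₐ[R] T) (φ : B →ₐ[R] A) :
    pg g ≫ pg φ = pg (g.comp φ) := by
  apply Over.OverMorphism.ext
  change Spec.map _ ≫ Spec.map _ = Spec.map _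
  rw [← Spec.map_comp]
  rfl

lemma ptOf_comp_pg (g : A →ₐ[R] R) (φ : B →ₐ[R] A) :
    ptOf g ≫ pg φ = ptOf (g.comp φ) := by
  unfold ptOf
  rw [Category.assoc, pg_comp_pg]

lemma ptOf_base (g : A →ₐ[R] R) (x : PrimeSpectrum R) :
    (ptOf g).left.base x = PrimeSpectrum.comap (g : A →+* R) x := by
  rw [ptOf_left]
  rfl

end Points

end Groth.Agent.Lib.Helper7.GH
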