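import Groth.Agent.Lib.Helper7.FinOrder

/-!
# A finite group scheme of order invertible in the base field is étale (helper7)
-/

universe u v w

open TensorProduct

namespace Groth.Agent.Lib.Helper7.FinOrder

open Groth.Agent.Lib.Helper7.HopfCot Groth.Agent.Lib.Helper7.HopfConv
  Groth.Agent.Lib.Helper7.Comod WithConv HopfRep

section Unramified

variable {k : Type u} [Field k] {A : Type v} [CommRing A] [HopfAlgebra k A]

/-- the shear map `v ⊗ b ↦ Σ v₁ ⊗ S(v₂) b` as an algebra homomorphism. -/
noncomputable def shear (k : Type u) [Field k] (A : Type v) [CommRing A] [HopfAlgebra k A] :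
    A ⊗[k] A →ₐ[k] A ⊗[k] A :=
  Algebra.TensorProduct.lift
    ((Algebra.TensorProduct.map (AlgHom.id k A) (HopfAlgebra.antipodeAlgHom k A)).comp
      (Bialgebra.comulAlgHom k A))
    Algebra.TensorProduct.includeRight (fun _ _ => Commute.all _ _)

lemma shear_eq_tw (z : A ⊗[k] A) : shear k A z = tw A (HopfAlgebra.antipode k (A := A)) z := by
  induction z using TensorProduct.induction_on with
  | zero => simp
  | tmul v b =>
    rw [tw_tmul]
    change Algebra.TensorProduct.map (AlgHom.id k A) (HopfAlgebra.antipodeAlgHom k A)
      (Coalgebra.comul (R := k) v) * ((1 : A) ⊗ₜ[k] b) = _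
    have hc : Comod.coact (k := k) (A := A) v = Coalgebra.comul (R := k) v := rfl
    rw [hc]
    generalize Coalgebra.comul (R := k) v = y
    induction y using TensorProduct.induction_on with
    | zero => simp
    | tmul x c => simp
    | add y z hy hz => simp only [map_add, add_mul, hy, hz]
  | add y z hy hz => simp only [map_add, hy, hz]

lemma shear_bijective : Function.Bijective (shear k A) := by
  have h1 : Function.LeftInverse (tw A (LinearMap.id : A →ₗ[k] A)) (shear k A) := fun z => by
    rw [shear_eq_tw]; exact tw_id_tw_antipode z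
  have h2 : Function.RightInverse (tw A (LinearMap.id : A →ₗ[k] A)) (shear k A) := fun z => by
    rw [shear_eq_tw]; exact tw_antipode_tw_id z
  exact ⟨h1.injective, h2.surjective⟩

lemma lmul'_comp_shear :
    (Algebra.TensorProduct.lmul' k).comp (shear k A) =
      (Algebra.TensorProduct.lid k A).toAlgHom.comp
        (Algebra.TensorProduct.map (Bialgebra.counitAlgHom k A) (AlgHom.id k A)) := by
  apply Algebra.TensorProduct.ext
  · apply AlgHom.ext
    intro v
    simp only [AlgHom.comp_apply, Algebra.TensorProduct.includeLeft_apply]
    change Algebra.TensorProduct.lmul' k (shear k A (v ⊗ₜ[k] (1 : A))) = _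
    unfold shear
    rw [Algebra.TensorProduct.lift_tmul, map_one, mul_one]
    have h := HopfAlgebra.mul_antipode_lTensor_comul_apply (R := k) v
    have h2 : Algebra.TensorProduct.lmul' k
        ((Algebra.TensorProduct.map (AlgHom.id k A) (HopfAlgebra.antipodeAlgHom k A)).comp
          (Bialgebra.comulAlgHom k A) v) = algebraMap k A (Coalgebra.counit (R := k) v) := h
    rw [h2]
    simp [Algebra.algebraMap_eq_smul_one]
  · apply AlgHom.ext
    intro b
    simp [shear]

/-- if the cotangent space at the unit vanishes, the Hopf algebra is unramified. -/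
theorem formallyUnramified_of_isIdempotentElem (h : IsIdempotentElem (augI k A)) :
    Algebra.FormallyUnramified k A := by
  constructor
  change Subsingleton (KaehlerDifferential.ideal k A).Cotangent
  rw [Ideal.cotangent_subsingleton_iff]
  set I' : Ideal (A ⊗[k] A) := (augI k A).map
    (Algebra.TensorProduct.includeLeft : A →ₐ[k] A ⊗[k] A) with hI'
  have hker : (KaehlerDifferential.ideal k A).comap (shear k A) = I' := by
    have h1 : (KaehlerDifferential.ideal k A).comap (shear k A) =
        RingHom.ker ((Algebra.TensorProduct.lmul' k).comp (shear k A)) := by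
      ext z
      simp [RingHom.mem_ker]
    rw [h1, lmul'_comp_shear]
    have h2 : RingHom.ker ((Algebra.TensorProduct.lid k A).toAlgHom.comp
        (Algebra.TensorProduct.map (Bialgebra.counitAlgHom k A) (AlgHom.id k A))) =
        RingHom.ker (Algebra.TensorProduct.map (Bialgebra.counitAlgHom k A) (AlgHom.id k A)) := by
      ext z
      simp only [RingHom.mem_ker, AlgHom.comp_apply]
      constructor
      · intro hz
        exact (Algebra.TensorProduct.lid k A).injective (by rw [map_zero]; exact hz)
      · intro hz
        rw [hz, map_zero]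
    rw [h2, Algebra.TensorProduct.rTensor_ker _ (fun c => ⟨algebraMap k A c, by simp⟩)]
  have hJ : KaehlerDifferential.ideal k A = I'.map (shear k A) := by
    rw [← hker]
    exact (Ideal.map_comap_of_surjective _ shear_bijective.2 _).symm
  have hI'' : I' * I' = I' := by
    rw [hI', ← Ideal.map_mul]
    congr 1
  unfold IsIdempotentElem
  rw [hJ, ← Ideal.map_mul, hI'']

end Unramified

section Etale

variable {k : Type u} [Field k] {A : Type v} [CommRing A] [HopfAlgebra k A]

/-- `ε`-derivations are additive on convolution products of endomorphisms preserving `ε`. -/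
lemma dOf_convMul (l : (augI k A).Cotangent →ₗ[k] k) (P Q : WithConv (A →ₐ[k] A))
    (hP : ∀ a, Coalgebra.counit (R := k) (P.ofConv a) = Coalgebra.counit (R := k) a)
    (hQ : ∀ a, Coalgebra.counit (R := k) (Q.ofConv a) = Coalgebra.counit (R := k) a) (a : A) :
    dOf l ((P * Q).ofConv a) = dOf l (P.ofConv a) + dOf l (Q.ofConv a) := by
  have h1 := AlgHom.convMul_apply P Q a
  change (P * Q).ofConv a = _ at h1
  rw [h1]
  have key : ∀ z : A ⊗[k] A,
      dOf l (Algebra.TensorProduct.lift P.ofConv Q.ofConv (fun _ _ => Commute.all _ _) z) =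
        dOf l (P.ofConv (Algebra.TensorProduct.rid k k A
          (Algebra.TensorProduct.map (AlgHom.id k A) (Bialgebra.counitAlgHom k A) z))) +
        dOf l (Q.ofConv (Algebra.TensorProduct.lid k A
          (Algebra.TensorProduct.map (Bialgebra.counitAlgHom k A) (AlgHom.id k A) z))) := by
    intro z
    induction z using TensorProduct.induction_on with
    | zero => simp
    | tmul x y =>
      simp only [Algebra.TensorProduct.lift_tmul, Algebra.TensorProduct.map_tmul, AlgHom.coe_id,
        id_eq, Algebra.TensorProduct.rid_tmul, Algebra.TensorProduct.lid_tmul,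
        Bialgebra.counitAlgHom_apply, map_smul, smul_eq_mul]
      rw [dOf_mul, hP, hQ]
      ring
    | add y z hy hz =>
      simp only [map_add, hy, hz]
      ring
  rw [key]
  have e1 : Algebra.TensorProduct.map (AlgHom.id k A) (Bialgebra.counitAlgHom k A)
      (Coalgebra.comul (R := k) a) = a ⊗ₜ[k] (1 : k) := Coalgebra.lTensor_counit_comul (R := k) a
  have e2 : Algebra.TensorProduct.map (Bialgebra.counitAlgHom k A) (AlgHom.id k A)
      (Coalgebra.comul (R := k) a) = (1 : k) ⊗ₜ[k] a := Coalgebra.rTensor_counit_comul (R := k) a
  rw [e1, e2]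
  simp

lemma counit_convPow_id (j : ℕ) (a : A) :
    Coalgebra.counit (R := k) (((toConv (AlgHom.id k A)) ^ j).ofConv a) =
      Coalgebra.counit (R := k) a := by
  have h1 := comp_convPow (Bialgebra.counitAlgHom k A) (toConv (AlgHom.id k A)) j
  have h2 : toConv ((Bialgebra.counitAlgHom k A).comp (toConv (AlgHom.id k A)).ofConv) =
      (1 : WithConv (A →ₐ[k] k)) := by
    apply WithConv.ext
    apply AlgHom.ext
    intro x
    rfl
  rw [h2, one_pow] at h1
  exact congrArg (fun F : A →ₐ[k] k => F a) h1

lemma dOf_convPow_id (l : (augI k A).Cotangent →ₗ[k] k) (j : ℕ) (a : A) :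
    dOf l (((toConv (AlgHom.id k A)) ^ j).ofConv a) = j • dOf l a := by
  induction j with
  | zero =>
    rw [pow_zero, zero_smul]
    change dOf l (algebraMap k A (Coalgebra.counit (R := k) a)) = 0
    rw [Algebra.algebraMap_eq_smul_one, map_smul, dOf_one, smul_zero]
  | succ j ih =>
    rw [pow_succ, dOf_convMul l _ _ (counit_convPow_id j) (fun a => rfl), ih, succ_nsmul]
    rfl

variable [Module.Finite k A]

/-- SGA3 VII_A 8.5.1: a finite group scheme whose order is invertible in `k` is étale. -/
theorem etale_of_finrank_ne_zero (h : (Module.finrank k A : k) ≠ 0) : Algebra.Etale k A := by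
  have hkill := convPow_id_finrank k A
  have hcot : ∀ x : (augI k A).Cotangent, x = 0 := by
    intro x
    rw [← Module.forall_dual_apply_eq_zero_iff k x]
    intro l
    obtain ⟨a, rfl⟩ := Ideal.toCotangent_surjective _ x
    have h1 := dOf_convPow_id l (Module.finrank k A) (a : A)
    rw [hkill] at h1
    have h2 : dOf l ((1 : WithConv (A →ₐ[k] A)).ofConv (a : A)) = 0 := by
      change dOf l (algebraMap k A (Coalgebra.counit (R := k) (a : A))) = 0
      rw [Algebra.algebraMap_eq_smul_one, map_smul, dOf_one, smul_zero]
    rw [h2, dOf_of_mem l a.2, nsmul_eq_mul] at h1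
    rcases mul_eq_zero.1 h1.symm with h3 | h3
    · exact absurd h3 h
    · exact h3
  haveI : Subsingleton (augI k A).Cotangent := ⟨fun x y => by rw [hcot x, hcot y]⟩
  have hidem : IsIdempotentElem (augI k A) :=
    (Ideal.cotangent_subsingleton_iff (augI k A)).1 inferInstance
  haveI := formallyUnramified_of_isIdempotentElem hidem
  haveI : Algebra.FormallyEtale k A := Algebra.FormallyEtale.of_formallyUnramified_of_field k A
  haveI : Module.FinitePresentation k A := Module.finitePresentation_of_finite k A
  haveI : Algebra.FinitePresentation k A := Algebra.FinitePresentation.of_finitePresentation k A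
  exact {}

end Etale

end Groth.Agent.Lib.Helper7.FinOrder
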