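import Groth.Agent.Lib.Helper7.HopfConv
import Mathlib.RingTheory.HopfAlgebra.Basic
import Mathlib.RingTheory.Bialgebra.TensorProduct

/-!
# The antipode of a commutative Hopf algebra reverses comultiplication (helper7)

`Δ (S a) = Σ S a₂ ⊗ S a₁`, proved through uniqueness of inverses in the convolution monoid of
algebra maps `A → A ⊗ A`: `Δ = i₁ * i₂` has the inverses `Δ ∘ S` and `(i₂ ∘ S) * (i₁ ∘ S)`.
-/

set_option autoImplicit false

open TensorProduct WithConv

namespace Groth.Agent.Lib.Helper7.HopfConv

variable {k : Type*} [CommSemiring k] {A : Type*} [CommSemiring A] [HopfAlgebra k A]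

/-- `Δ = i₁ * i₂` in the convolution monoid. -/
theorem comul_eq_includeLeft_mul_includeRight :
    toConv (Bialgebra.comulAlgHom k A) =
      toConv (Algebra.TensorProduct.includeLeft : A →ₐ[k] A ⊗[k] A) *
        toConv (Algebra.TensorProduct.includeRight : A →ₐ[k] A ⊗[k] A) := by
  apply WithConv.ofConv_injective
  apply AlgHom.ext
  intro a
  rw [AlgHom.convMul_apply]
  simp only [WithConv.ofConv_toConv, Bialgebra.comulAlgHom_apply]
  generalize Coalgebra.comul (R := k) a = y
  induction y using TensorProduct.induction_on with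
  | zero => simp
  | tmul b c => simp [Algebra.TensorProduct.tmul_mul_tmul]
  | add y z hy hz => rw [map_add, ← hy, ← hz]

/-- Anti-comultiplicativity of the antipode, as an identity of algebra maps. -/
theorem comul_comp_antipode :
    toConv ((Bialgebra.comulAlgHom k A).comp (HopfAlgebra.antipodeAlgHom k A)) =
      toConv ((Algebra.TensorProduct.includeRight : A →ₐ[k] A ⊗[k] A).comp
          (HopfAlgebra.antipodeAlgHom k A)) *
        toConv ((Algebra.TensorProduct.includeLeft : A →ₐ[k] A ⊗[k] A).comp
          (HopfAlgebra.antipodeAlgHom k A)) := by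
  set x := toConv (Bialgebra.comulAlgHom k A) with hx
  set i₁ := toConv (Algebra.TensorProduct.includeLeft : A →ₐ[k] A ⊗[k] A) with hi₁
  set i₂ := toConv (Algebra.TensorProduct.includeRight : A →ₐ[k] A ⊗[k] A) with hi₂
  set z := toConv ((Bialgebra.comulAlgHom k A).comp (HopfAlgebra.antipodeAlgHom k A)) with hz
  set j₁ := toConv ((Algebra.TensorProduct.includeLeft : A →ₐ[k] A ⊗[k] A).comp
    (HopfAlgebra.antipodeAlgHom k A)) with hj₁
  set j₂ := toConv ((Algebra.TensorProduct.includeRight : A →ₐ[k] A ⊗[k] A).comp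
    (HopfAlgebra.antipodeAlgHom k A)) with hj₂
  have hzx : z * x = 1 := antipode_mul_self (Bialgebra.comulAlgHom k A)
  have h1 : i₁ * j₁ = 1 := self_mul_antipode _
  have h2 : i₂ * j₂ = 1 := self_mul_antipode _
  have hxy : x * (j₂ * j₁) = 1 := by
    rw [hx, comul_eq_includeLeft_mul_includeRight, ← hi₁, ← hi₂, mul_assoc, ← mul_assoc i₂, h2,
      one_mul, h1]
  calc z = z * (x * (j₂ * j₁)) := by rw [hxy, mul_one]
    _ = (z * x) * (j₂ * j₁) := by rw [mul_assoc]
    _ = j₂ * j₁ := by rw [hzx, one_mul]

/-- `Δ (S a) = (S ⊗ S) (swap (Δ a))`. -/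
theorem comul_antipode (a : A) :
    Coalgebra.comul (R := k) (HopfAlgebra.antipode k a) =
      TensorProduct.map (HopfAlgebra.antipode k) (HopfAlgebra.antipode k)
        (TensorProduct.comm k A A (Coalgebra.comul (R := k) a)) := by
  have h := congrArg (fun f : WithConv (A →ₐ[k] A ⊗[k] A) => f.ofConv a) (comul_comp_antipode (k := k) (A := A))
  simp only [WithConv.ofConv_toConv, AlgHom.comp_apply, Bialgebra.comulAlgHom_apply] at h
  rw [AlgHom.convMul_apply] at h
  have h' : Coalgebra.comul (R := k) (HopfAlgebra.antipode k a) = _ := h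
  rw [h']
  simp only [WithConv.ofConv_toConv]
  generalize Coalgebra.comul (R := k) a = y
  induction y using TensorProduct.induction_on with
  | zero => simp
  | tmul b c => simp [Algebra.TensorProduct.tmul_mul_tmul]
  | add y z hy hz => simp only [map_add, hy, hz]

end Groth.Agent.Lib.Helper7.HopfConv
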