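import Groth.Agent.Lib.Helper7.Rosen2
import Groth.Agent.Lib.Helper7.ComodPoints

/-!
# Rosenlicht's unit lemma, algebraic form (helper7)

Over an algebraically closed field `k`, for a `k`-algebra `R` which is a domain and a finitely
generated `k`-algebra `S` which is a domain, every unit of `R ⊗ S` is a pure tensor `r ⊗ s`.
-/

universe u v w

open TensorProduct

namespace Groth.Agent.Lib.Helper7.Rosen

open Groth.Agent.Lib.Helper7.GenSubgp Groth.Agent.Lib.Helper7.Comod

section V2

variable {k : Type u} [Field k] [IsAlgClosed k] {K : Type v} [Field K] [Algebra k K]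

/-- an element lying in all valuation subrings containing `k` is a constant. -/
theorem mem_range_of_forall_valuationSubring (f : K)
    (h : ∀ V : ValuationSubring K, (∀ c : k, algebraMap k K c ∈ V) → f ∈ V) :
    ∃ c : k, algebraMap k K c = f := by
  have h1 : f ∈ (⨅ V : {V : ValuationSubring K // Set.range (algebraMap k K) ⊆ V.toSubring},
      V.1.toSubring) := by
    rw [Subring.mem_iInf]
    rintro ⟨V, hV⟩
    exact h V (fun c => hV ⟨c, rfl⟩)
  rw [iInf_valuationSubring_superset] at h1
  have h2 : IsIntegral (Subring.closure (Set.range (algebraMap k K))) f := h1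
  have hcl : Subring.closure (Set.range (algebraMap k K)) = (algebraMap k K).range := by
    rw [← RingHom.coe_range]
    exact Subring.closure_eq _
  have h3 : IsIntegral k f := by
    obtain ⟨p, hp, hpe⟩ := h2
    let φ : k →+* Subring.closure (Set.range (algebraMap k K)) :=
      (algebraMap k K).codRestrict _ (fun c => Subring.subset_closure ⟨c, rfl⟩)
    have hφ : Function.Surjective φ := by
      rintro ⟨x, hx⟩
      rw [hcl] at hx
      obtain ⟨c, rfl⟩ := hx
      exact ⟨c, rfl⟩
    have hp' : p ∈ Polynomial.lifts φ := by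
      rw [Polynomial.lifts_iff_coeff_lifts]
      intro n
      exact hφ _
    obtain ⟨q, hq, -, hqm⟩ := Polynomial.lifts_and_degree_eq_and_monic hp' hp
    refine ⟨q, hqm, ?_⟩
    rw [← hq, Polynomial.eval₂_map] at hpe
    exact hpe
  have h4 : (minpoly k f).degree = 1 :=
    IsAlgClosed.degree_eq_one_of_irreducible k (minpoly.irreducible h3)
  exact minpoly.mem_range_of_degree_eq_one k f h4

end V2

section RL

variable {k : Type u} [Field k] [IsAlgClosed k] {R : Type v} [CommRing R] [Algebra k R] [IsDomain R]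
  {S : Type w} [CommRing S] [Algebra k S] [Algebra.FiniteType k S] [IsDomain S]

omit [IsAlgClosed k] [IsDomain R] [Algebra.FiniteType k S] [IsDomain S] in
lemma contr_eq_evR (y : S →ₐ[k] k) (z : R ⊗[k] S) : contr R y.toLinearMap z = evR y z := by
  induction z using TensorProduct.induction_on with
  | zero => simp
  | tmul r s => simp
  | add a b ha hb => simp only [map_add, ha, hb]

omit [IsAlgClosed k] [IsDomain R] [Algebra.FiniteType k S] [IsDomain S] in
lemma evR_sum (y : S →ₐ[k] k) {κ : Type*} (b : κ → S) (c : κ →₀ R) :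
    evR y (c.sum fun i m => m ⊗ₜ[k] b i) = ∑ i ∈ c.support, y (b i) • c i := by
  unfold Finsupp.sum
  rw [map_sum]
  apply Finset.sum_congr rfl
  intro i _
  rw [evR_tmul]

/-- the fibres of a normalized unit are constants. -/
theorem evR_mem_range (η : R ⊗[k] S) (hη : IsUnit η) (y₀ : S →ₐ[k] k) (h0 : evR y₀ η = 1)
    (y : S →ₐ[k] k) : ∃ c : k, evR y η = algebraMap k R c := by
  classical
  obtain ⟨η', hη', -⟩ := isUnit_iff_exists.1 hη
  let b := Module.Basis.ofVectorSpace k S
  obtain ⟨c, hc⟩ := TensorProduct.eq_repr_basis_right b η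
  obtain ⟨c', hc'⟩ := TensorProduct.eq_repr_basis_right b η'
  let K := FractionRing R
  let r : c.support → K := fun i => algebraMap R K (c i)
  let s : c.support → S := fun i => b i
  let r' : c'.support → K := fun i => algebraMap R K (c' i)
  let s' : c'.support → S := fun i => b i
  have hs : LinearIndependent k s :=
    b.linearIndependent.comp (fun i : c.support => (i : _)) Subtype.val_injective
  have hs' : LinearIndependent k s' :=
    b.linearIndependent.comp (fun i : c'.support => (i : _)) Subtype.val_injective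
  have hsum : ∀ y : S →ₐ[k] k, (∑ i, y (s i) • r i) = algebraMap R K (evR y η) := by
    intro y
    rw [← hc, evR_sum, map_sum,
      ← Finset.sum_coe_sort c.support (fun x => algebraMap R K (y (b x) • c x))]
    apply Finset.sum_congr rfl
    intro i _
    rw [Algebra.smul_def, Algebra.smul_def, map_mul, ← IsScalarTower.algebraMap_apply]
  have hsum' : ∀ y : S →ₐ[k] k, (∑ i, y (s' i) • r' i) = algebraMap R K (evR y η') := by
    intro y
    rw [← hc', evR_sum, map_sum,
      ← Finset.sum_coe_sort c'.support (fun x => algebraMap R K (y (b x) • c' x))]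
    apply Finset.sum_congr rfl
    intro i _
    rw [Algebra.smul_def, Algebra.smul_def, map_mul, ← IsScalarTower.algebraMap_apply]
  have hprod : ∀ y : S →ₐ[k] k, (∑ i, y (s i) • r i) * (∑ j, y (s' j) • r' j) = 1 := by
    intro y
    rw [hsum, hsum', ← map_mul, ← map_mul, hη', map_one, map_one]
  have hval : ∀ V : ValuationSubring K, (∀ a : k, algebraMap k K a ∈ V) →
      algebraMap R K (evR y η) ∈ V := by
    intro V hV
    have h1 := val_const V hV r s hs r' s' hs' hprod y y₀
    rw [hsum, hsum, h0, map_one, map_one] at h1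
    rw [← V.valuation_le_one_iff, h1]
  obtain ⟨a, ha⟩ := mem_range_of_forall_valuationSubring (k := k) _ hval
  refine ⟨a, ?_⟩
  apply IsFractionRing.injective R K
  rw [← ha, ← IsScalarTower.algebraMap_apply]

/-- **Rosenlicht's unit lemma**: units of `R ⊗ S` are pure tensors. -/
theorem exists_eq_tmul (θ : R ⊗[k] S) (hθ : IsUnit θ) : ∃ (r : R) (s : S), θ = r ⊗ₜ[k] s := by
  classical
  obtain ⟨y₀, -⟩ := exists_point_ne_zero (k := k) (1 : S) one_ne_zero
  have hr : IsUnit (evR y₀ θ) := hθ.map (evR (R := R) y₀)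
  obtain ⟨u, hu⟩ := hr
  set η : R ⊗[k] S := θ * ((↑u⁻¹ : R) ⊗ₜ[k] (1 : S)) with hηdef
  have hηu : IsUnit η := by
    apply hθ.mul
    have : IsUnit (↑u⁻¹ : R) := ⟨u⁻¹, rfl⟩
    exact this.map (Algebra.TensorProduct.includeLeft : R →ₐ[k] R ⊗[k] S)
  have h0 : evR y₀ η = 1 := by
    rw [hηdef, map_mul, evR_tmul, map_one, one_smul, ← hu, Units.mul_inv]
  -- a functional with value 1 at 1
  obtain ⟨l₀, hl₀⟩ := Module.Projective.exists_dual_ne_zero k (one_ne_zero : (1 : R) ≠ 0)
  let l : R →ₗ[k] k := (l₀ 1)⁻¹ • l₀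
  have hl : l 1 = 1 := by
    change (l₀ 1)⁻¹ • l₀ 1 = 1
    rw [smul_eq_mul, inv_mul_cancel₀ hl₀]
  set s : S := contrL S l η with hs
  have hkey : η = (1 : R) ⊗ₜ[k] s := by
    rw [← sub_eq_zero]
    apply eq_zero_of_forall_contr_eq_zero_of_dense
      (Set.range fun y : S →ₐ[k] k => y.toLinearMap)
    · intro t ht
      by_contra hne
      obtain ⟨y, hy⟩ := exists_point_ne_zero (k := k) t hne
      exact hy (ht _ ⟨y, rfl⟩)
    · rintro _ ⟨y, rfl⟩
      rw [contr_eq_evR, map_sub, evR_tmul, sub_eq_zero]
      obtain ⟨a, ha⟩ := evR_mem_range η hηu y₀ h0 y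
      have h1 : y s = l (evR y η) := by
        rw [hs]
        generalize η = z
        induction z using TensorProduct.induction_on with
        | zero => simp
        | tmul r t => simp [mul_comm]
        | add p q hp hq => simp only [map_add, hp, hq]
      rw [h1, ha, Algebra.algebraMap_eq_smul_one, map_smul, hl, smul_eq_mul, mul_one]
  refine ⟨(u : R), s, ?_⟩
  have h2 : θ = η * ((u : R) ⊗ₜ[k] (1 : S)) := by
    rw [hηdef, mul_assoc, Algebra.TensorProduct.tmul_mul_tmul, Units.inv_mul, mul_one]
    change θ = θ * 1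
    rw [mul_one]
  rw [h2, hkey, Algebra.TensorProduct.tmul_mul_tmul, one_mul, mul_one]

end RL

end Groth.Agent.Lib.Helper7.Rosen
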