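import Mathlib
import Groth.Agent.Lib.Helper7.NilLift5

/-!
# Adic completeness of finite modules, in tensor form (helper7)
-/

set_option autoImplicit false

namespace Groth.Agent.Lib.Helper7.AL

open TensorProduct

universe u

section Fin

variable {A : Type u} [CommRing A] (I : Ideal A)

lemma isPrecomplete_of_finite [IsNoetherianRing A] [IsPrecomplete I A] (N : Type u)
    [AddCommGroup N] [Module A N] [Module.Finite A N] : IsPrecomplete I N := by
  rw [← AdicCompletion.of_surjective_iff]
  intro y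
  obtain ⟨z, rfl⟩ := (AdicCompletion.ofTensorProduct_bijective_of_finite_of_isNoetherian I N).2 y
  induction z using TensorProduct.induction_on with
  | zero => exact ⟨0, by simp⟩
  | tmul r x =>
    obtain ⟨a, rfl⟩ := AdicCompletion.of_surjective I A r
    refine ⟨a • x, ?_⟩
    rw [AdicCompletion.ofTensorProduct_tmul, map_smul]
    have h0 : AdicCompletion.of I A 1 = (1 : AdicCompletion I A) := by
      apply AdicCompletion.ext
      intro n
      rfl
    have h1 : AdicCompletion.of I A a = a • (1 : AdicCompletion I A) := by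
      rw [← h0, ← map_smul, smul_eq_mul, mul_one]
    rw [h1, smul_assoc, one_smul]
  | add x y hx hy =>
    obtain ⟨a, ha⟩ := hx
    obtain ⟨b, hb⟩ := hy
    exact ⟨a + b, by rw [map_add, ha, hb, map_add]⟩

lemma isHausdorff_of_finite [IsNoetherianRing A] [IsAdicComplete I A] (N : Type u)
    [AddCommGroup N] [Module A N] [Module.Finite A N] : IsHausdorff I N :=
  IsHausdorff.of_le_jacobson I N (IsAdicComplete.le_jacobson_bot I)

end Fin

section Tens

variable {A : Type u} [CommRing A] (I : Ideal A)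

/-- the quotients `A ⧸ I^(n+1)`. -/
abbrev Q (n : ℕ) := A ⧸ I ^ (n + 1)

noncomputable instance instAlgQ (n : ℕ) : Algebra (Q I (n + 1)) (Q I n) :=
  (Ideal.Quotient.factor (Ideal.pow_le_pow_right (Nat.le_succ (n + 1)))).toAlgebra

instance instTowerQ (n : ℕ) : IsScalarTower A (Q I (n + 1)) (Q I n) :=
  IsScalarTower.of_algebraMap_eq (fun _ => rfl)

lemma algebraMap_Q_surjective (n : ℕ) : Function.Surjective (algebraMap (Q I (n + 1)) (Q I n)) :=
  Ideal.Quotient.factor_surjective _

variable {N : Type u} [AddCommGroup N] [Module A N]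

/-- the transition maps. -/
noncomputable def tr (n : ℕ) (N : Type u) [AddCommGroup N] [Module A N] :
    Q I (n + 1) ⊗[A] N →ₗ[A] Q I n ⊗[A] N :=
  LinearMap.rTensor N (IsScalarTower.toAlgHom A (Q I (n + 1)) (Q I n)).toLinearMap

@[simp] lemma tr_one_tmul (n : ℕ) (x : N) :
    tr I n N ((1 : Q I (n + 1)) ⊗ₜ[A] x) = (1 : Q I n) ⊗ₜ[A] x := by
  simp [tr]

lemma one_tmul_eq_zero_iff (n : ℕ) (x : N) :
    (1 : Q I n) ⊗ₜ[A] x = 0 ↔ x ∈ (I ^ (n + 1) • ⊤ : Submodule A N) := by
  constructor
  · intro h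
    have hs : Function.Surjective (algebraMap A (Q I n)) := Ideal.Quotient.mk_surjective
    have := Groth.Agent.Lib.Helper7.NilLift.mem_smul_top_of_one_tmul_eq_zero' hs h
    have hk : RingHom.ker (algebraMap A (Q I n)) = I ^ (n + 1) := Ideal.mk_ker
    rwa [hk] at this
  · intro h
    induction h using Submodule.smul_induction_on' with
    | smul a ha y _ =>
      rw [TensorProduct.tmul_smul, TensorProduct.smul_tmul', ← Algebra.algebraMap_eq_smul_one]
      have : algebraMap A (Q I n) a = 0 := Ideal.Quotient.eq_zero_iff_mem.2 ha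
      rw [this, TensorProduct.zero_tmul]
    | add x _ y _ hx hy => rw [TensorProduct.tmul_add, hx, hy, add_zero]

lemma eq_zero_of_forall_one_tmul [IsHausdorff I N] (x : N)
    (h : ∀ n, (1 : Q I n) ⊗ₜ[A] x = 0) : x = 0 := by
  apply IsHausdorff.haus ‹IsHausdorff I N›
  intro n
  rw [SModEq.zero]
  cases n with
  | zero => simp
  | succ k => exact (one_tmul_eq_zero_iff I k x).1 (h k)

lemma eq_of_forall_one_tmul [IsHausdorff I N] (x y : N)
    (h : ∀ n, (1 : Q I n) ⊗ₜ[A] x = (1 : Q I n) ⊗ₜ[A] y) : x = y := by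
  rw [← sub_eq_zero]
  apply eq_zero_of_forall_one_tmul I
  intro n
  rw [TensorProduct.tmul_sub, h n, sub_self]

lemma exists_one_tmul_eq (n : ℕ) (z : Q I n ⊗[A] N) : ∃ y : N, (1 : Q I n) ⊗ₜ[A] y = z := by
  induction z using TensorProduct.induction_on with
  | zero => exact ⟨0, by simp⟩
  | tmul q v =>
    obtain ⟨a, rfl⟩ := Ideal.Quotient.mk_surjective q
    refine ⟨a • v, ?_⟩
    rw [TensorProduct.tmul_smul, TensorProduct.smul_tmul']
    congr 1
    rw [← Ideal.Quotient.algebraMap_eq, Algebra.algebraMap_eq_smul_one]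
  | add x y hx hy =>
    obtain ⟨a, ha⟩ := hx
    obtain ⟨b, hb⟩ := hy
    exact ⟨a + b, by rw [TensorProduct.tmul_add, ha, hb]⟩

theorem exists_limit [IsPrecomplete I N] (x : ∀ n, Q I n ⊗[A] N)
    (hx : ∀ n, tr I n N (x (n + 1)) = x n) : ∃ y : N, ∀ n, (1 : Q I n) ⊗ₜ[A] y = x n := by
  choose y hy using fun n => exists_one_tmul_eq I n (x n)
  have hstep : ∀ n, y (n + 1) - y n ∈ (I ^ (n + 1) • ⊤ : Submodule A N) := by
    intro n
    rw [← one_tmul_eq_zero_iff, TensorProduct.tmul_sub, sub_eq_zero, hy n, ← hx n, ← hy (n + 1),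
      tr_one_tmul]
  set f : ℕ → N := fun n => Nat.casesOn n (y 0) (fun k => y k) with hf
  have hc : AdicCompletion.IsAdicCauchy I N f := by
    rw [AdicCompletion.isAdicCauchy_iff]
    intro n
    cases n with
    | zero =>
      rw [SModEq.sub_mem]
      simp
    | succ k =>
      rw [SModEq.sub_mem]
      change y k - y (k + 1) ∈ _
      rw [← neg_sub]
      exact Submodule.neg_mem _ (hstep k)
  obtain ⟨L, hL⟩ := IsPrecomplete.prec ‹IsPrecomplete I N› hc
  refine ⟨L, fun n => ?_⟩
  have h1 := hL (n + 1)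
  rw [SModEq.sub_mem] at h1
  change y n - L ∈ _ at h1
  rw [← one_tmul_eq_zero_iff, TensorProduct.tmul_sub, sub_eq_zero] at h1
  rw [← h1, hy]

end Tens

end Groth.Agent.Lib.Helper7.AL
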