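import Groth.Agent.Lib.Helper7.HH8

/-!
# Relative lifting of homomorphisms along nilpotent thickenings with a constraint (helper7)
-/

set_option autoImplicit false

namespace Groth.Agent.Lib.Helper7.HH

open TensorProduct Groth.Agent.Lib.Helper7.CancelBC

universe u

section Rel2

variable {R₀ : Type u} [CommRing R₀] {A₁ : Type u} [CommRing A₁] [HopfAlgebra R₀ A₁]
  {A₂ : Type u} [CommRing A₂] [HopfAlgebra R₀ A₂] {C : Type u} [CommRing C] [HopfAlgebra R₀ C]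

/-- base change of a bialgebra map. -/
noncomputable abbrev bcHom (R : Type u) [CommRing R] [Algebra R₀ R] (α : A₂ →ₐc[R₀] A₁) :
    (R ⊗[R₀] A₂) →ₐc[R] (R ⊗[R₀] A₁) :=
  Bialgebra.TensorProduct.map (BialgHom.id R R) α

lemma bcHom_apply (R : Type u) [CommRing R] [Algebra R₀ R] (α : A₂ →ₐc[R₀] A₁)
    (y : R ⊗[R₀] A₂) :
    bcHom R α y = Algebra.TensorProduct.map (AlgHom.id R R) (α : A₂ →ₐ[R₀] A₁) y := rfl

lemma cancelBC_map (R k : Type u) [CommRing R] [Algebra R₀ R] [CommRing k] [Algebra R₀ k]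
    [Algebra R k] [IsScalarTower R₀ R k] (α : A₂ →ₐc[R₀] A₁) (u : k ⊗[R] (R ⊗[R₀] A₂)) :
    cancelBC R₀ R k A₁ (Algebra.TensorProduct.map (AlgHom.id k k)
      ((bcHom R α : (R ⊗[R₀] A₂) →ₐc[R] (R ⊗[R₀] A₁)) : (R ⊗[R₀] A₂) →ₐ[R] (R ⊗[R₀] A₁)) u) =
      Algebra.TensorProduct.map (AlgHom.id k k) (α : A₂ →ₐ[R₀] A₁) (cancelBC R₀ R k A₂ u) := by
  induction u using TensorProduct.induction_on with
  | zero => simp
  | tmul t y =>
    induction y using TensorProduct.induction_on with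
    | zero => simp
    | tmul s a =>
      rw [Algebra.TensorProduct.map_tmul, AlgHom.id_apply]
      change cancelBC R₀ R k A₁ (t ⊗ₜ[R] (s ⊗ₜ[R₀] α a)) = _
      rw [cancelBC_tmul, cancelBC_tmul, Algebra.TensorProduct.map_tmul, AlgHom.id_apply]
      rfl
    | add x y hx hy => simp only [TensorProduct.tmul_add, map_add, hx, hy]
  | add x y hx hy => simp only [map_add, hx, hy]

theorem rel_sqzero2 {I₁ : A₁ →ₗ[R₀] R₀} (hI₁ : IsInvInt I₁) {I₂ : A₂ →ₗ[R₀] R₀}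
    (hI₂ : IsInvInt I₂) [Algebra.FormallySmooth R₀ C] (α : A₂ →ₐc[R₀] A₁) (β : C →ₐc[R₀] A₁)
    (R k : Type u) [CommRing R] [Algebra R₀ R] [CommRing k] [Algebra R₀ k]
    [Algebra R k] [IsScalarTower R₀ R k] (hk : Function.Surjective (algebraMap R k))
    (hJ : RingHom.ker (algebraMap R k) * RingHom.ker (algebraMap R k) = ⊥)
    (γ₀ : (k ⊗[R₀] C) →ₐc[k] (k ⊗[R₀] A₂))
    (h0 : ∀ c : C, Algebra.TensorProduct.map (AlgHom.id k k) (α : A₂ →ₐ[R₀] A₁)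
      (γ₀ ((1 : k) ⊗ₜ[R₀] c)) = (1 : k) ⊗ₜ[R₀] β c) :
    ∃ γ : (R ⊗[R₀] C) →ₐc[R] (R ⊗[R₀] A₂),
      (∀ c : C, γ₀ ((1 : k) ⊗ₜ[R₀] c) = red R k A₂ (γ ((1 : R) ⊗ₜ[R₀] c))) ∧
      ∀ c : C, Algebra.TensorProduct.map (AlgHom.id R R) (α : A₂ →ₐ[R₀] A₁)
        (γ ((1 : R) ⊗ₜ[R₀] c)) = (1 : R) ⊗ₜ[R₀] β c := by
  set γ' : (k ⊗[R] (R ⊗[R₀] C)) →ₐc[k] (k ⊗[R] (R ⊗[R₀] A₂)) :=
    ((cancelBC R₀ R k A₂).symm : _ →ₐc[k] _).comp
      (γ₀.comp (cancelBC R₀ R k C : _ →ₐc[k] _)) with hγ'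
  have hγ'apply : ∀ u, γ' u = (cancelBC R₀ R k A₂).symm (γ₀ (cancelBC R₀ R k C u)) :=
    fun u => rfl
  have h0' : ∀ x : R ⊗[R₀] C, Algebra.TensorProduct.map (AlgHom.id k k)
      ((bcHom R α : (R ⊗[R₀] A₂) →ₐc[R] (R ⊗[R₀] A₁)) : (R ⊗[R₀] A₂) →ₐ[R] (R ⊗[R₀] A₁))
      (γ' ((1 : k) ⊗ₜ[R] x)) = (1 : k) ⊗ₜ[R] (bcHom R β x) := by
    intro x
    have hinj : Function.Injective (fun u : k ⊗[R] (R ⊗[R₀] A₁) => cancelBC R₀ R k A₁ u) :=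
      (cancelBC R₀ R k A₁).injective
    apply hinj
    change cancelBC R₀ R k A₁ _ = cancelBC R₀ R k A₁ _
    rw [cancelBC_map, hγ'apply, BialgEquiv.apply_symm_apply]
    induction x using TensorProduct.induction_on with
    | zero => simp
    | tmul r c =>
      change _ = cancelBC R₀ R k A₁ ((1 : k) ⊗ₜ[R] (r ⊗ₜ[R₀] β c))
      rw [cancelBC_tmul, cancelBC_tmul]
      have e1 : ((r • (1 : k)) ⊗ₜ[R₀] c : k ⊗[R₀] C) = (r • (1 : k)) • ((1 : k) ⊗ₜ[R₀] c) := by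
        rw [TensorProduct.smul_tmul', smul_eq_mul, mul_one]
      rw [e1, map_smul, map_smul, h0 c, TensorProduct.smul_tmul', smul_eq_mul, mul_one]
    | add x y hx hy => simp only [TensorProduct.tmul_add, map_add, hx, hy]
  obtain ⟨γ, hγ1, hγ2⟩ := sqzero_step2 hk hJ (hI₁.baseChange R) (hI₂.baseChange R)
    (bcHom R α) (bcHom R β) γ' h0'
  refine ⟨γ, fun c => ?_, fun c => ?_⟩
  · have h1 := hγ1 ((1 : R) ⊗ₜ[R₀] c)
    rw [hγ'apply, cancelBC_tmul, one_smul] at h1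
    rw [← cancelBC_one_tmul, ← h1, BialgEquiv.apply_symm_apply]
  · have h2 := hγ2 ((1 : R) ⊗ₜ[R₀] c)
    rw [bcHom_apply] at h2
    rw [h2]
    rfl

theorem rel_nilp2 {I₁ : A₁ →ₗ[R₀] R₀} (hI₁ : IsInvInt I₁) {I₂ : A₂ →ₗ[R₀] R₀}
    (hI₂ : IsInvInt I₂) [Algebra.FormallySmooth R₀ C] (α : A₂ →ₐc[R₀] A₁) (β : C →ₐc[R₀] A₁)
    (n : ℕ) :
    ∀ (R k : Type u) [CommRing R] [Algebra R₀ R] [CommRing k] [Algebra R₀ k]
      [Algebra R k] [IsScalarTower R₀ R k], Function.Surjective (algebraMap R k) →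
      RingHom.ker (algebraMap R k) ^ (n + 1) = ⊥ →
      ∀ γ₀ : (k ⊗[R₀] C) →ₐc[k] (k ⊗[R₀] A₂),
        (∀ c : C, Algebra.TensorProduct.map (AlgHom.id k k) (α : A₂ →ₐ[R₀] A₁)
          (γ₀ ((1 : k) ⊗ₜ[R₀] c)) = (1 : k) ⊗ₜ[R₀] β c) →
        ∃ γ : (R ⊗[R₀] C) →ₐc[R] (R ⊗[R₀] A₂),
          (∀ c : C, γ₀ ((1 : k) ⊗ₜ[R₀] c) = red R k A₂ (γ ((1 : R) ⊗ₜ[R₀] c))) ∧
          ∀ c : C, Algebra.TensorProduct.map (AlgHom.id R R) (α : A₂ →ₐ[R₀] A₁)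
            (γ ((1 : R) ⊗ₜ[R₀] c)) = (1 : R) ⊗ₜ[R₀] β c := by
  induction n with
  | zero =>
    intro R k _ _ _ _ _ _ hk hJ γ₀ h0
    apply rel_sqzero2 hI₁ hI₂ α β R k hk _ γ₀ h0
    rw [zero_add, pow_one] at hJ
    rw [hJ, Ideal.bot_mul]
  | succ n ih =>
    intro R k _ _ _ _ _ _ hk hJ γ₀ h0
    set J := RingHom.ker (algebraMap R k) with hJdef
    have hle : ∀ a ∈ J ^ (n + 1), algebraMap R k a = 0 := by
      intro a ha
      have : a ∈ J := Ideal.pow_le_self (Nat.succ_ne_zero n) ha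
      exact (RingHom.mem_ker).1 this
    let _ : Algebra (R ⧸ J ^ (n + 1)) k :=
      (Ideal.Quotient.lift (J ^ (n + 1)) (algebraMap R k) hle).toAlgebra
    have : IsScalarTower R (R ⧸ J ^ (n + 1)) k :=
      IsScalarTower.of_algebraMap_eq (fun r => rfl)
    have : IsScalarTower R₀ (R ⧸ J ^ (n + 1)) k := by
      refine IsScalarTower.of_algebraMap_eq (fun r => ?_)
      rw [IsScalarTower.algebraMap_apply R₀ R (R ⧸ J ^ (n + 1)),
        ← IsScalarTower.algebraMap_apply R (R ⧸ J ^ (n + 1)) k,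
        ← IsScalarTower.algebraMap_apply R₀ R k]
    have hk' : Function.Surjective (algebraMap (R ⧸ J ^ (n + 1)) k) := by
      intro x
      obtain ⟨r, rfl⟩ := hk x
      exact ⟨Ideal.Quotient.mk _ r, rfl⟩
    have hJ' : RingHom.ker (algebraMap (R ⧸ J ^ (n + 1)) k) ^ (n + 1) = ⊥ := by
      have : RingHom.ker (algebraMap (R ⧸ J ^ (n + 1)) k) =
          J.map (Ideal.Quotient.mk (J ^ (n + 1))) := Ideal.ker_quotient_lift _ hle
      rw [this, ← Ideal.map_pow, Ideal.map_quotient_self]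
    obtain ⟨γ', hγ'1, hγ'2⟩ := ih (R ⧸ J ^ (n + 1)) k hk' hJ' γ₀ h0
    have hk2 : Function.Surjective (algebraMap R (R ⧸ J ^ (n + 1))) :=
      Ideal.Quotient.mk_surjective
    have hJ2 : RingHom.ker (algebraMap R (R ⧸ J ^ (n + 1))) *
        RingHom.ker (algebraMap R (R ⧸ J ^ (n + 1))) = ⊥ := by
      have : RingHom.ker (algebraMap R (R ⧸ J ^ (n + 1))) = J ^ (n + 1) := Ideal.mk_ker
      rw [this, ← pow_add, eq_bot_iff, ← hJ]
      apply Ideal.pow_le_pow_right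
      omega
    obtain ⟨γ, hγ1, hγ2⟩ := rel_sqzero2 hI₁ hI₂ α β R (R ⧸ J ^ (n + 1)) hk2 hJ2 γ' hγ'2
    refine ⟨γ, fun c => ?_, hγ2⟩
    rw [hγ'1 c, hγ1 c, red_red]

end Rel2

end Groth.Agent.Lib.Helper7.HH
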