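import Groth.Agent.Lib.Helper7.AL1
import Groth.Agent.Lib.Helper7.HH9

/-!
# Coefficient functionals of a split group of multiplicative type and separatedness (helper7)
-/

set_option autoImplicit false

namespace Groth.Agent.Lib.Helper7.AL

open TensorProduct

universe u

section Coef

variable {A : Type u} [CommRing A] {A' : Type u} [CommRing A'] [Algebra A A']
  {B : Type u} [CommRing B] [HopfAlgebra A B] {M : Type u} [CommGroup M]
  (e : (A' ⊗[A] B) ≃ₐc[A'] MonoidAlgebra A' M)

/-- the coefficient of `m`. -/
noncomputable def cm (m : M) : MonoidAlgebra A' M →ₗ[A'] A' :=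
  Finsupp.lapply m ∘ₗ (MonoidAlgebra.coeffLinearEquiv A').toLinearMap

omit [CommGroup M] in
lemma cm_single (m p : M) (s : A') [Decidable (p = m)] :
    cm m (MonoidAlgebra.single p s) = if p = m then s else 0 := by
  simp [cm, Finsupp.single_apply]

/-- the `m`-th coefficient functional on `A' ⊗ B`, as an `A`-linear map. -/
noncomputable def kt (m : M) : A' ⊗[A] B →ₗ[A] A' :=
  ((cm (A' := A') m ∘ₗ (e : (A' ⊗[A] B) →ₗ[A'] MonoidAlgebra A' M))).restrictScalars A

lemma kt_apply (m : M) (y : A' ⊗[A] B) : kt e m y = cm m (e y) := rfl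

/-- the `m`-th coefficient functional on `B`. -/
noncomputable def kap (m : M) : B →ₗ[A] A' := kt e m ∘ₗ TensorProduct.mk A A' B 1

lemma kap_apply (m : M) (b : B) : kap e m b = cm m (e ((1 : A') ⊗ₜ[A] b)) := rfl

/-- `A' ⊗ B ≃ (M →₀ A')` as `A`-modules. -/
noncomputable def theta : (A' ⊗[A] B) ≃ₗ[A] (M →₀ A') :=
  (e.toLinearEquiv.trans (MonoidAlgebra.coeffLinearEquiv A')).restrictScalars A

lemma lapply_theta (m : M) (y : A' ⊗[A] B) : theta e y m = kt e m y := rfl

variable (X : Type u) [AddCommGroup X] [Module A X]

/-- joint injectivity of the coefficient functionals after tensoring. -/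
theorem eq_zero_of_kt (z : X ⊗[A] (A' ⊗[A] B))
    (h : ∀ m, LinearMap.lTensor X (kt e m) z = 0) : z = 0 := by
  classical
  have h1 : Function.Injective (LinearMap.lTensor X (theta e).toLinearMap) :=
    (LinearEquiv.lTensor X (theta e)).injective
  apply h1
  rw [map_zero]
  apply (TensorProduct.finsuppRight A A X A' M).injective
  rw [map_zero]
  ext m : 1
  rw [TensorProduct.finsuppRight_apply, Finsupp.zero_apply, ← LinearMap.comp_apply,
    ← LinearMap.lTensor_comp]
  have : (Finsupp.lapply m : (M →₀ A') →ₗ[A] A') ∘ₗ (theta e).toLinearMap = kt e m := by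
    apply LinearMap.ext
    intro y
    rfl
  rw [this]
  exact h m

lemma eq_of_kt (z z' : X ⊗[A] (A' ⊗[A] B))
    (h : ∀ m, LinearMap.lTensor X (kt e m) z = LinearMap.lTensor X (kt e m) z') : z = z' := by
  rw [← sub_eq_zero]
  apply eq_zero_of_kt e X
  intro m
  rw [map_sub, h m, sub_self]

variable [Module.FaithfullyFlat A A']

lemma lTensor_mk_injective (V : Type u) [AddCommGroup V] [Module A V] :
    Function.Injective (LinearMap.lTensor X (TensorProduct.mk A A' V 1)) := by
  have h1 : ∀ z : X ⊗[A] V, TensorProduct.leftComm A X A' V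
      (LinearMap.lTensor X (TensorProduct.mk A A' V 1) z) = (1 : A') ⊗ₜ[A] z := by
    intro z
    induction z using TensorProduct.induction_on with
    | zero => simp
    | tmul x v => simp
    | add x y hx hy => simp only [map_add, TensorProduct.tmul_add, hx, hy]
  intro z z' hz
  have := congrArg (TensorProduct.leftComm A X A' V) hz
  rw [h1, h1] at this
  exact Module.FaithfullyFlat.tensorProduct_mk_injective (A := A) (B := A') (X ⊗[A] V) this

theorem eq_of_kap (z z' : X ⊗[A] B)
    (h : ∀ m, LinearMap.lTensor X (kap e m) z = LinearMap.lTensor X (kap e m) z') : z = z' := by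
  apply lTensor_mk_injective (A' := A') X B
  apply eq_of_kt e X
  intro m
  have := h m
  rw [kap, LinearMap.lTensor_comp, LinearMap.comp_apply, LinearMap.comp_apply] at this
  exact this

end Coef

section Orth

variable {A : Type u} [CommRing A] {A' : Type u} [CommRing A'] [Algebra A A']
  {B : Type u} [CommRing B] [HopfAlgebra A B] {M : Type u} [CommGroup M]
  (e : (A' ⊗[A] B) ≃ₐc[A'] MonoidAlgebra A' M)

omit [CommGroup M] in
open Classical in
lemma cm_orth (m m' : M) (y : MonoidAlgebra A' M) :
    LinearMap.mul' A' A' (TensorProduct.map (cm (A' := A') m) (cm (A' := A') m')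
      (Coalgebra.comul (R := A') y)) = if m = m' then cm m y else 0 := by
  classical
  induction y using MonoidAlgebra.induction_linear with
  | zero => simp
  | add x y hx hy =>
    rw [map_add, map_add, map_add, hx, hy, map_add]
    split_ifs <;> simp
  | single p s =>
    rw [MonoidAlgebra.comul_single, CommSemiring.comul_apply, TensorProduct.map_tmul,
      TensorProduct.map_tmul, LinearMap.mul'_apply, MonoidAlgebra.lsingle_apply,
      MonoidAlgebra.lsingle_apply, cm_single, cm_single, cm_single]
    by_cases h1 : p = m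
    · subst h1
      by_cases h2 : p = m'
      · subst h2
        simp
      · simp [h2]
    · simp [h1]

lemma kap_mul_key (m m' : M) (z : B ⊗[A] B) :
    LinearMap.mul' A A' (TensorProduct.map (kap e m) (kap e m') z) =
      LinearMap.mul' A' A' (TensorProduct.map (cm (A' := A') m) (cm (A' := A') m')
        (TensorProduct.map (e : (A' ⊗[A] B) →ₗ[A'] MonoidAlgebra A' M)
          (e : (A' ⊗[A] B) →ₗ[A'] MonoidAlgebra A' M)
          (AlgebraTensorModule.distribBaseChange A A' B B ((1 : A') ⊗ₜ[A] z)))) := by
  induction z using TensorProduct.induction_on with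
  | zero => simp
  | tmul a b =>
    rw [TensorProduct.map_tmul, LinearMap.mul'_apply, AlgebraTensorModule.distribBaseChange_tmul,
      TensorProduct.map_tmul, TensorProduct.map_tmul, LinearMap.mul'_apply]
    rfl
  | add x y hx hy => simp only [map_add, TensorProduct.tmul_add, hx, hy]

open Classical in
theorem kap_orth (m m' : M) (b : B) :
    LinearMap.mul' A A' (TensorProduct.map (kap e m) (kap e m') (Coalgebra.comul (R := A) b)) =
      if m = m' then kap e m b else 0 := by
  rw [kap_mul_key, Groth.Agent.Lib.Helper7.HH.map_e_comul, cm_orth]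
  rfl

end Orth

section Haus

variable {A : Type u} [CommRing A] (I : Ideal A)

/-- a module with a jointly injective family of maps to separated modules is separated. -/
lemma isHausdorff_of_family {N : Type u} [AddCommGroup N] [Module A N] {ι : Type u}
    {P : ι → Type u} [∀ i, AddCommGroup (P i)] [∀ i, Module A (P i)]
    (hP : ∀ i, IsHausdorff I (P i)) (u : ∀ i, N →ₗ[A] P i)
    (hu : ∀ x : N, (∀ i, u i x = 0) → x = 0) : IsHausdorff I N := by
  refine ⟨fun x hx => hu x (fun i => ?_)⟩
  apply IsHausdorff.haus (hP i)
  intro n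
  have h1 := hx n
  rw [SModEq.zero] at h1 ⊢
  have h2 := Submodule.mem_map_of_mem (f := u i) h1
  rw [Submodule.map_smul''] at h2
  exact Submodule.smul_mono le_rfl le_top h2

end Haus

end Groth.Agent.Lib.Helper7.AL
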