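import Groth.Agent.Lib.Helper7.AL2

/-!
# Orthogonal idempotent functionals on a coalgebra have locally finite support (helper7)
-/

set_option autoImplicit false

namespace Groth.Agent.Lib.Helper7.AL

open TensorProduct WithConv

universe u

section Fin

variable {A : Type u} [CommRing A] {A' : Type u} [CommRing A'] [Algebra A A']
  {C : Type u} [AddCommGroup C] [Module A C] [Coalgebra A C]

/-- `Σ u(c₂) ⊗ c₁`. -/
noncomputable def Wv (c : C) (u : WithConv (C →ₗ[A] A')) : A' ⊗[A] C :=
  LinearMap.rTensor C u.ofConv (TensorProduct.comm A C C (Coalgebra.comul (R := A) c))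

/-- `a ⊗ x ↦ a * v x`. -/
noncomputable def Ev (v : WithConv (C →ₗ[A] A')) : A' ⊗[A] C →ₗ[A'] A' :=
  LinearMap.liftBaseChange A' v.ofConv

omit [Coalgebra A C] in
lemma Ev_tmul (v : WithConv (C →ₗ[A] A')) (a : A') (x : C) : Ev v (a ⊗ₜ[A] x) = a * v x := by
  simp [Ev]

lemma Ev_Wv (c : C) (u v : WithConv (C →ₗ[A] A')) : Ev v (Wv c u) = (v * u) c := by
  rw [LinearMap.convMul_apply, Wv]
  generalize Coalgebra.comul (R := A) c = z
  induction z using TensorProduct.induction_on with
  | zero => simp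
  | tmul x y =>
    rw [TensorProduct.comm_tmul, LinearMap.rTensor_tmul, Ev_tmul, TensorProduct.map_tmul,
      LinearMap.mul'_apply, mul_comm]
  | add x y hx hy => simp only [map_add, hx, hy]

lemma Wv_mem (c : C) : ∃ F : Submodule A' (A' ⊗[A] C), F.FG ∧
    ∀ u : WithConv (C →ₗ[A] A'), Wv c u ∈ F := by
  classical
  obtain ⟨S, hS⟩ := TensorProduct.exists_finset
    (TensorProduct.comm A C C (Coalgebra.comul (R := A) c))
  refine ⟨Submodule.span A' ((fun i : C × C => (1 : A') ⊗ₜ[A] i.2) '' (S : Set (C × C))),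
    ⟨(S.image (fun i : C × C => (1 : A') ⊗ₜ[A] i.2)), by simp⟩, fun u => ?_⟩
  rw [Wv, hS, map_sum]
  apply Submodule.sum_mem
  intro i hi
  rw [LinearMap.rTensor_tmul]
  have : (u.ofConv i.1 ⊗ₜ[A] i.2 : A' ⊗[A] C) = u.ofConv i.1 • ((1 : A') ⊗ₜ[A] i.2) := by
    rw [TensorProduct.smul_tmul', smul_eq_mul, mul_one]
  rw [this]
  apply Submodule.smul_mem
  apply Submodule.subset_span
  exact ⟨i, hi, rfl⟩

theorem finite_support_of_orth [IsNoetherianRing A'] {M : Type u}
    (g : M → WithConv (C →ₗ[A] A')) (horth : ∀ m m', m ≠ m' → g m * g m' = 0)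
    (hidem : ∀ m, g m * g m = g m) (c : C) : {m | g m c ≠ 0}.Finite := by
  classical
  obtain ⟨F, hF, hW⟩ := Wv_mem (A := A) (A' := A') c
  have : IsNoetherian A' F := isNoetherian_of_fg_of_noetherian F hF
  set s : Set (A' ⊗[A] C) := Set.range (fun m => Wv c (g m)) with hs
  have hle : Submodule.span A' s ≤ F := by
    rw [Submodule.span_le]
    rintro _ ⟨m, rfl⟩
    exact hW _
  have hfg : (Submodule.span A' s).FG := by
    have h1 : (Submodule.comap F.subtype (Submodule.span A' s)).FG :=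
      IsNoetherian.noetherian _
    have h2 := h1.map F.subtype
    rwa [Submodule.map_comap_subtype, inf_eq_right.2 hle] at h2
  obtain ⟨s', hs's, hspan⟩ := (Submodule.fg_span_iff_fg_span_finset_subset s).1 hfg
  have hch : ∀ w : (s' : Set (A' ⊗[A] C)), ∃ m : M, Wv c (g m) = w.1 := fun w => hs's w.2
  choose mw hmw using hch
  apply Set.Finite.subset (Set.finite_range mw)
  intro m' hm'
  by_contra hnot
  apply hm'
  have hker : Submodule.span A' (s' : Set (A' ⊗[A] C)) ≤ LinearMap.ker (Ev (g m')) := by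
    rw [Submodule.span_le]
    intro w hw
    have e1 : w = Wv c (g (mw ⟨w, hw⟩)) := (hmw ⟨w, hw⟩).symm
    rw [SetLike.mem_coe, LinearMap.mem_ker, e1, Ev_Wv, horth]
    · rfl
    · intro h
      exact hnot ⟨⟨w, hw⟩, h.symm⟩
  have h1 : Wv c (g m') ∈ Submodule.span A' s := Submodule.subset_span ⟨m', rfl⟩
  rw [hspan] at h1
  have h2 := hker h1
  rw [LinearMap.mem_ker, Ev_Wv, hidem] at h2
  exact h2

end Fin

end Groth.Agent.Lib.Helper7.AL
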