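import Groth.Agent.Lib.Helper7.AL3

/-!
# Homomorphism points, their coefficient functionals and the limit functionals (helper7)
-/

set_option autoImplicit false

namespace Groth.Agent.Lib.Helper7.AL

open TensorProduct WithConv Groth.Agent.Lib.Helper7.HH

universe u

attribute [-instance] AlgHom.convInv AlgHom.convGroup

section HomPt

variable {A : Type u} [CommRing A] {B : Type u} [CommRing B] [HopfAlgebra A B]
  {C : Type u} [CommRing C] [HopfAlgebra A C]

/-- `T ⊗ V → T ⊗ V'`. -/
noncomputable abbrev lT (T : Type u) [CommRing T] [Algebra A T] {V V' : Type u} [CommRing V]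
    [Algebra A V] [CommRing V'] [Algebra A V'] (h : V →ₐ[A] V') : T ⊗[A] V →ₐ[A] T ⊗[A] V' :=
  Algebra.TensorProduct.map (AlgHom.id A T) h

/-- a `T ⊗ B`-valued point of `Spec C` which is a homomorphism `Spec (T ⊗ B) → Spec C`. -/
def IsHomPt (T : Type u) [CommRing T] [Algebra A T] (p : Pt A C (T ⊗[A] B)) : Prop :=
  push (lT T (j1 A B)) p * push (lT T (j2 A B)) p = push (lT T (dl A B)) p

lemma lin_push {T T' : Type u} [CommRing T] [Algebra A T] [CommRing T'] [Algebra A T']
    (h : T →ₐ[A] T') (p : Pt A C T) : lin (push h p) = lcomp h.toLinearMap (lin p) := rfl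

lemma lcomp_mul_two {T T₁ T₂ T' : Type u} [CommRing T] [Algebra A T] [CommRing T₁] [Algebra A T₁]
    [CommRing T₂] [Algebra A T₂] [CommRing T'] [Algebra A T']
    (L : T →ₗ[A] T') (h₁ : T₁ →ₐ[A] T) (h₂ : T₂ →ₐ[A] T) (L₁ : T₁ →ₗ[A] T') (L₂ : T₂ →ₗ[A] T')
    (hL : ∀ y y', L (h₁ y * h₂ y') = L₁ y * L₂ y') (p : Pt A C T₁) (q : Pt A C T₂) :
    lcomp L (lin (push h₁ p) * lin (push h₂ q)) = lcomp L₁ (lin p) * lcomp L₂ (lin q) := by
  apply conv_ext
  intro c
  rw [lcomp_apply, LinearMap.convMul_apply, LinearMap.convMul_apply]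
  generalize Coalgebra.comul (R := A) c = z
  induction z using TensorProduct.induction_on with
  | zero => simp
  | tmul a b =>
    rw [TensorProduct.map_tmul, LinearMap.mul'_apply, TensorProduct.map_tmul,
      LinearMap.mul'_apply]
    exact hL _ _
  | add x y hx hy => simp only [map_add, hx, hy]

end HomPt

section Level

variable {A : Type u} [CommRing A] {A' : Type u} [CommRing A'] [Algebra A A']
  {B : Type u} [CommRing B] [HopfAlgebra A B] {C : Type u} [CommRing C] [HopfAlgebra A C]
  {M : Type u} [CommGroup M] (e : (A' ⊗[A] B) ≃ₐc[A'] MonoidAlgebra A' M)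

/-- `b ⊗ b' ↦ κ_m b * κ_m' b'`. -/
noncomputable def kk (m m' : M) : B ⊗[A] B →ₗ[A] A' :=
  LinearMap.mul' A A' ∘ₗ TensorProduct.map (kap e m) (kap e m')

lemma kk_tmul (m m' : M) (b b' : B) : kk e m m' (b ⊗ₜ[A] b') = kap e m b * kap e m' b' := rfl

open Classical in
lemma kk_comp_dl (m m' : M) :
    kk e m m' ∘ₗ (dl A B).toLinearMap = if m = m' then kap e m else 0 := by
  apply LinearMap.ext
  intro b
  have := kap_orth e m m' b
  rw [LinearMap.comp_apply]
  split_ifs with h
  · rw [if_pos h] at this
    exact this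
  · rw [if_neg h] at this
    exact this

variable (T : Type u) [CommRing T] [Algebra A T]

lemma lT_kk (m m' : M) (y y' : T ⊗[A] B) :
    LinearMap.lTensor T (kk e m m') (lT T (j1 A B) y * lT T (j2 A B) y') =
      LinearMap.lTensor T (kap e m) y * LinearMap.lTensor T (kap e m') y' := by
  induction y using TensorProduct.induction_on with
  | zero => simp
  | tmul t b =>
    induction y' using TensorProduct.induction_on with
    | zero => simp
    | tmul t' b' =>
      simp only [Algebra.TensorProduct.map_tmul, AlgHom.id_apply,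
        Algebra.TensorProduct.includeLeft_apply, Algebra.TensorProduct.includeRight_apply,
        Algebra.TensorProduct.tmul_mul_tmul, mul_one, one_mul, LinearMap.lTensor_tmul, kk_tmul]
    | add x y hx hy => simp only [map_add, mul_add, hx, hy]
  | add x y hx hy => simp only [map_add, add_mul, hx, hy]

/-- the coefficient functionals of a point. -/
noncomputable def gT (p : Pt A C (T ⊗[A] B)) (m : M) : WithConv (C →ₗ[A] T ⊗[A] A') :=
  lcomp (LinearMap.lTensor T (kap e m)) (lin p)

lemma gT_apply (p : Pt A C (T ⊗[A] B)) (m : M) (c : C) :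
    gT e T p m c = LinearMap.lTensor T (kap e m) (p c) := rfl

open Classical in
theorem gT_orth {p : Pt A C (T ⊗[A] B)} (hp : IsHomPt T p) (m m' : M) :
    gT e T p m * gT e T p m' = if m = m' then gT e T p m else 0 := by
  rw [gT, gT, ← lcomp_mul_two (LinearMap.lTensor T (kk e m m')) (lT T (j1 A B)) (lT T (j2 A B))
    (LinearMap.lTensor T (kap e m)) (LinearMap.lTensor T (kap e m')) (lT_kk e T m m') p p,
    ← lin_mul, hp, lin_push, lcomp_lcomp]
  have h1 : LinearMap.lTensor T (kk e m m') ∘ₗ (lT T (dl A B)).toLinearMap =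
      LinearMap.lTensor T (kk e m m' ∘ₗ (dl A B).toLinearMap) := by
    apply TensorProduct.ext'
    intro t b
    rfl
  rw [h1, kk_comp_dl]
  split_ifs with h
  · rfl
  · apply conv_ext
    intro c
    rw [lcomp_apply, LinearMap.lTensor_zero]
    rfl

end Level

end Groth.Agent.Lib.Helper7.AL
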