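import Groth.Agent.Lib.Helper7.AL4

/-!
# Algebraisation of a compatible system of homomorphism points, element-wise (helper7)
-/

set_option autoImplicit false

namespace Groth.Agent.Lib.Helper7.AL

open TensorProduct WithConv Groth.Agent.Lib.Helper7.HH Groth.Agent.Lib.Helper7.NilLift

universe u

attribute [-instance] AlgHom.convInv AlgHom.convGroup

section Sys

variable {A : Type u} [CommRing A] (I : Ideal A) [IsNoetherianRing A] [IsAdicComplete I A]
  {A' : Type u} [CommRing A'] [Algebra A A'] [Module.Finite A A'] [Module.FaithfullyFlat A A']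
  {B : Type u} [CommRing B] [HopfAlgebra A B] {C : Type u} [CommRing C] [HopfAlgebra A C]
  {M : Type u} [CommGroup M] (e : (A' ⊗[A] B) ≃ₐc[A'] MonoidAlgebra A' M)
  (f : ∀ n, Pt A C (Q I n ⊗[A] B)) (hf : ∀ n, IsHomPt (Q I n) (f n))
  (hc : ∀ n c, tr I n B (f (n + 1) c) = f n c)

omit [IsNoetherianRing A] [IsAdicComplete I A] in
lemma tr_lTensor {V V' : Type u} [AddCommGroup V] [Module A V] [AddCommGroup V'] [Module A V']
    (κ : V →ₗ[A] V') (n : ℕ) (y : Q I (n + 1) ⊗[A] V) :
    tr I n V' (LinearMap.lTensor _ κ y) = LinearMap.lTensor _ κ (tr I n V y) := by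
  induction y using TensorProduct.induction_on with
  | zero => simp
  | tmul q b => simp [tr]
  | add x y hx hy => simp only [map_add, hx, hy]

omit [Module.FaithfullyFlat A A'] in
include hc in
theorem exists_gh : ∃ gh : M → WithConv (C →ₗ[A] A'),
    ∀ m n c, (1 : Q I n) ⊗ₜ[A] (gh m c) = gT e (Q I n) (f n) m c := by
  have hpre : IsPrecomplete I A' := isPrecomplete_of_finite I A'
  have hhaus : IsHausdorff I A' := isHausdorff_of_finite I A'
  have hex : ∀ (m : M) (c : C), ∃ y : A', ∀ n, (1 : Q I n) ⊗ₜ[A] y = gT e (Q I n) (f n) m c := by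
    intro m c
    apply exists_limit I
    intro n
    rw [gT_apply, gT_apply, tr_lTensor, hc]
  choose g₀ hg₀ using hex
  refine ⟨fun m => toConv
    { toFun := g₀ m
      map_add' := by
        intro c c'
        apply eq_of_forall_one_tmul I
        intro n
        rw [TensorProduct.tmul_add, hg₀, hg₀, hg₀, gT_apply, gT_apply, gT_apply]
        have : (f n) (c + c') = (f n) c + (f n) c' := map_add (f n).ofConv c c'
        rw [this, map_add]
      map_smul' := by
        intro a c
        apply eq_of_forall_one_tmul I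
        intro n
        rw [RingHom.id_apply, TensorProduct.tmul_smul, hg₀, hg₀, gT_apply, gT_apply]
        have : (f n) (a • c) = a • (f n) c := map_smul (f n).ofConv a c
        rw [this, map_smul] }, fun m n c => hg₀ m c n⟩

omit [Module.FaithfullyFlat A A'] in
open Classical in
include hf in
theorem gh_orth (gh : M → WithConv (C →ₗ[A] A'))
    (hgh : ∀ m n c, (1 : Q I n) ⊗ₜ[A] (gh m c) = gT e (Q I n) (f n) m c) (m m' : M) :
    gh m * gh m' = if m = m' then gh m else 0 := by
  have hhaus : IsHausdorff I A' := isHausdorff_of_finite I A'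
  apply conv_ext
  intro c
  apply eq_of_forall_one_tmul I
  intro n
  set ι : A' →ₐ[A] Q I n ⊗[A] A' := Algebra.TensorProduct.includeRight with hι
  have h1 : ∀ (u : WithConv (C →ₗ[A] A')) (c : C),
      (1 : Q I n) ⊗ₜ[A] (u c) = lcomp ι.toLinearMap u c := fun u c => rfl
  have h2 : ∀ m, lcomp ι.toLinearMap (gh m) = gT e (Q I n) (f n) m := by
    intro m
    apply conv_ext
    intro c
    rw [← h1, hgh]
  have h3 : lcomp ι.toLinearMap (gh m * gh m') =
      lcomp ι.toLinearMap (gh m) * lcomp ι.toLinearMap (gh m') := by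
    apply WithConv.ext
    exact LinearMap.algHom_comp_convMul_distrib ι (gh m) (gh m')
  rw [h1, h3, h2, h2, gT_orth e (Q I n) (hf n), h1]
  split_ifs with h
  · rw [h2]
  · exact (map_zero ι.toLinearMap).symm

include e hf hc in
theorem exists_elem (c : C) : ∃ b : B, ∀ n, (1 : Q I n) ⊗ₜ[A] b = f n c := by
  classical
  obtain ⟨gh, hgh⟩ := exists_gh I e f hc
  have horth := gh_orth I e f hf gh hgh
  have hnoeth : IsNoetherianRing A' := IsNoetherianRing.of_finite A A'
  have hfin : {m | gh m c ≠ 0}.Finite := by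
    apply finite_support_of_orth gh
    · intro m m' h
      rw [horth, if_neg h]
    · intro m
      rw [horth, if_pos rfl]
  set S : Finset M := hfin.toFinset with hS
  set b' : A' ⊗[A] B := ∑ m ∈ S, gh m c • e.symm (MonoidAlgebra.single m 1) with hb'
  have hkt : ∀ m, kt e m b' = gh m c := by
    intro m
    rw [kt_apply, hb', map_sum, map_sum]
    have hx : ∀ x ∈ S, cm m (e (gh x c • e.symm (MonoidAlgebra.single x 1))) =
        if x = m then gh x c else 0 := by
      intro x _
      rw [map_smul, BialgEquiv.apply_symm_apply, map_smul, cm_single, smul_eq_mul]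
      split_ifs <;> simp
    rw [Finset.sum_congr rfl hx, Finset.sum_ite_eq' S m]
    split_ifs with h
    · rfl
    · rw [hS, Set.Finite.mem_toFinset, Set.mem_ofPred_eq, not_not] at h
      exact h.symm
  have key1 : ∀ n, ((1 : Q I n) ⊗ₜ[A] b' : Q I n ⊗[A] (A' ⊗[A] B)) =
      LinearMap.lTensor (Q I n) (TensorProduct.mk A A' B 1) (f n c) := by
    intro n
    apply eq_of_kt e (Q I n)
    intro m
    rw [LinearMap.lTensor_tmul, hkt, hgh, gT_apply, ← LinearMap.comp_apply,
      ← LinearMap.lTensor_comp]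
    rfl
  have hW : IsHausdorff I (A' ⊗[A] (A' ⊗[A] B)) := by
    exact isHausdorff_of_family I (P := fun _ : M => A' ⊗[A] A')
      (fun _ => isHausdorff_of_finite I _) (fun m => LinearMap.lTensor A' (kt e m))
      (fun x hx => eq_zero_of_kt e A' x hx)
  have hdesc : LinearMap.lTensor A' (TensorProduct.mk A A' B 1) b' = (1 : A') ⊗ₜ[A] b' := by
    apply eq_of_forall_one_tmul I
    intro n
    have e1 : ((1 : Q I n) ⊗ₜ[A] (LinearMap.lTensor A' (TensorProduct.mk A A' B 1) b') :
        Q I n ⊗[A] (A' ⊗[A] (A' ⊗[A] B))) =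
        LinearMap.lTensor (Q I n) (LinearMap.lTensor A' (TensorProduct.mk A A' B 1))
          ((1 : Q I n) ⊗ₜ[A] b') := rfl
    have e2 : ((1 : Q I n) ⊗ₜ[A] ((1 : A') ⊗ₜ[A] b') : Q I n ⊗[A] (A' ⊗[A] (A' ⊗[A] B))) =
        LinearMap.lTensor (Q I n) (TensorProduct.mk A A' (A' ⊗[A] B) 1)
          ((1 : Q I n) ⊗ₜ[A] b') := rfl
    rw [e1, e2, key1 n, ← LinearMap.comp_apply, ← LinearMap.comp_apply,
      ← LinearMap.lTensor_comp, ← LinearMap.lTensor_comp]
    rfl
  have hJF : JointlyFaithful A (fun _ : PUnit.{u + 1} => A') := by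
    intro N _ _ hN
    have := hN PUnit.unit
    exact Module.FaithfullyFlat.lTensor_reflects_triviality A A' N
  obtain ⟨b, hb⟩ := exists_of_compat hJF (V := B) (fun _ => b') (fun _ _ => hdesc)
  refine ⟨b, fun n => ?_⟩
  apply lTensor_mk_injective (A' := A') (Q I n) B
  rw [← key1 n, LinearMap.lTensor_tmul, ← hb PUnit.unit]
  rfl

end Sys

end Groth.Agent.Lib.Helper7.AL
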