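import Groth.Agent.Lib.Helper7.AL5

/-!
# Algebraisation of a compatible system of homomorphisms into an isotrivial group (helper7)
-/

set_option autoImplicit false

namespace Groth.Agent.Lib.Helper7.AL

open TensorProduct WithConv Groth.Agent.Lib.Helper7.HH Groth.Agent.Lib.Helper7.NilLift

universe u

attribute [-instance] AlgHom.convInv AlgHom.convGroup

section HomPtBialg

variable {A : Type u} [CommRing A] {B : Type u} [CommRing B] [HopfAlgebra A B]
  {C : Type u} [CommRing C] [HopfAlgebra A C] (T : Type u) [CommRing T] [Algebra A T]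

lemma distrib_lT_mul (y y' : T ⊗[A] B) :
    AlgebraTensorModule.distribBaseChange A T B B (lT T (j1 A B) y * lT T (j2 A B) y') =
      y ⊗ₜ[T] y' := by
  induction y using TensorProduct.induction_on with
  | zero => simp
  | tmul t b =>
    induction y' using TensorProduct.induction_on with
    | zero => simp
    | tmul t' b' =>
      simp only [Algebra.TensorProduct.map_tmul, AlgHom.id_apply,
        Algebra.TensorProduct.includeLeft_apply, Algebra.TensorProduct.includeRight_apply,
        Algebra.TensorProduct.tmul_mul_tmul, mul_one, one_mul,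
        AlgebraTensorModule.distribBaseChange_tmul]
      have h1 : (t' ⊗ₜ[A] b' : T ⊗[A] B) = t' • ((1 : T) ⊗ₜ[A] b') := by
        rw [TensorProduct.smul_tmul', smul_eq_mul, mul_one]
      rw [h1, TensorProduct.tmul_smul, TensorProduct.smul_tmul', TensorProduct.smul_tmul',
        smul_eq_mul, mul_comm]
    | add x y hx hy => simp only [map_add, mul_add, TensorProduct.tmul_add, hx, hy]
  | add x y hx hy => simp only [map_add, add_mul, TensorProduct.add_tmul, hx, hy]

lemma lT_dl_eq (y : T ⊗[A] B) :
    lT T (dl A B) y = LinearMap.lTensor T (Coalgebra.comul (R := A) (A := B)) y := by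
  induction y using TensorProduct.induction_on with
  | zero => simp
  | tmul t b => rfl
  | add x y hx hy => simp only [map_add, hx, hy]

/-- the point of a bialgebra map over `T`. -/
noncomputable def ptOf (ψ : (T ⊗[A] C) →ₐc[T] (T ⊗[A] B)) : Pt A C (T ⊗[A] B) :=
  toConv (((ψ : (T ⊗[A] C) →ₐ[T] (T ⊗[A] B)).restrictScalars A).comp
    Algebra.TensorProduct.includeRight)

lemma ptOf_apply (ψ : (T ⊗[A] C) →ₐc[T] (T ⊗[A] B)) (c : C) :
    ptOf T ψ c = ψ ((1 : T) ⊗ₜ[A] c) := rfl

theorem isHomPt_ptOf (ψ : (T ⊗[A] C) →ₐc[T] (T ⊗[A] B)) : IsHomPt T (ptOf T ψ) := by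
  apply WithConv.ext
  apply AlgHom.ext
  intro c
  change (push (lT T (j1 A B)) (ptOf T ψ) * push (lT T (j2 A B)) (ptOf T ψ)) c =
    lT T (dl A B) (ptOf T ψ c)
  rw [AlgHom.convMul_apply]
  apply (AlgebraTensorModule.distribBaseChange A T B B).injective
  have key : ∀ z : C ⊗[A] C, AlgebraTensorModule.distribBaseChange A T B B
      (Algebra.TensorProduct.lift (push (lT T (j1 A B)) (ptOf T ψ)).ofConv
        (push (lT T (j2 A B)) (ptOf T ψ)).ofConv (fun _ _ => Commute.all _ _) z) =
      TensorProduct.map (ψ : (T ⊗[A] C) →ₗ[T] (T ⊗[A] B)) (ψ : (T ⊗[A] C) →ₗ[T] (T ⊗[A] B))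
        (AlgebraTensorModule.distribBaseChange A T C C ((1 : T) ⊗ₜ[A] z)) := by
    intro z
    induction z using TensorProduct.induction_on with
    | zero => simp
    | tmul a b =>
      rw [Algebra.TensorProduct.lift_tmul, AlgebraTensorModule.distribBaseChange_tmul,
        TensorProduct.map_tmul]
      exact distrib_lT_mul T _ _
    | add x y hx hy => simp only [map_add, TensorProduct.tmul_add, hx, hy]
  rw [key, lT_dl_eq]
  have e1 := Groth.Agent.Lib.Helper7.NilLift.comul_eq_distrib (R := A) (A := B) (K := T)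
    (ptOf T ψ c)
  have e2 := Groth.Agent.Lib.Helper7.NilLift.comul_eq_distrib (R := A) (A := C) (K := T)
    ((1 : T) ⊗ₜ[A] c)
  rw [LinearMap.lTensor_tmul] at e2
  rw [← e1, ← e2, ptOf_apply]
  exact (CoalgHomClass.map_comp_comul_apply ψ _)

end HomPtBialg

section Main

variable {A : Type u} [CommRing A] (I : Ideal A) [IsNoetherianRing A] [IsAdicComplete I A]
  {A' : Type u} [CommRing A'] [Algebra A A'] [Module.Finite A A'] [Module.FaithfullyFlat A A']
  {B : Type u} [CommRing B] [HopfAlgebra A B] {C : Type u} [CommRing C] [HopfAlgebra A C]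
  {M : Type u} [CommGroup M] (e : (A' ⊗[A] B) ≃ₐc[A'] MonoidAlgebra A' M)

include e in
lemma isHausdorff_B : IsHausdorff I B := by
  apply isHausdorff_of_family I (P := fun _ : M => A') (fun _ => isHausdorff_of_finite I A')
    (fun m => kap e m)
  intro x hx
  apply Module.FaithfullyFlat.tensorProduct_mk_injective (A := A) (B := A') B
  change (1 : A') ⊗ₜ[A] x = (1 : A') ⊗ₜ[A] (0 : B)
  rw [TensorProduct.tmul_zero]
  apply (theta e).injective
  rw [map_zero]
  ext m
  rw [lapply_theta]
  exact hx m

include e in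
lemma isHausdorff_BB : IsHausdorff I (B ⊗[A] B) := by
  apply isHausdorff_of_family I (ι := M × M) (P := fun _ => A' ⊗[A] A')
    (fun _ => isHausdorff_of_finite I _)
    (fun p => TensorProduct.map (kap e p.1) (kap e p.2))
  intro z hz
  apply eq_of_kap e B z 0
  intro m'
  rw [map_zero]
  apply (TensorProduct.comm A B A').injective
  rw [map_zero]
  apply eq_of_kap e A' _ 0
  intro m
  rw [map_zero]
  have h1 : ∀ w : B ⊗[A] B, LinearMap.lTensor A' (kap e m)
      (TensorProduct.comm A B A' (LinearMap.lTensor B (kap e m') w)) =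
      TensorProduct.comm A A' A' (TensorProduct.map (kap e m) (kap e m') w) := by
    intro w
    induction w using TensorProduct.induction_on with
    | zero => simp
    | tmul b b' => simp
    | add x y hx hy => simp only [map_add, hx, hy]
  rw [h1, hz (m, m'), map_zero]

include e in
theorem exists_hom_of_system (f : ∀ n, Pt A C (Q I n ⊗[A] B)) (hf : ∀ n, IsHomPt (Q I n) (f n))
    (hc : ∀ n c, tr I n B (f (n + 1) c) = f n c) :
    ∃ φ : C →ₐc[A] B, ∀ n c, (1 : Q I n) ⊗ₜ[A] φ c = f n c := by
  have hB : IsHausdorff I B := isHausdorff_B I e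
  have hBB : IsHausdorff I (B ⊗[A] B) := isHausdorff_BB I e
  choose φ₀ hφ₀ using exists_elem I e f hf hc
  set φl : C →ₗ[A] B :=
    { toFun := φ₀
      map_add' := by
        intro c c'
        apply eq_of_forall_one_tmul I
        intro n
        have : (f n) (c + c') = (f n) c + (f n) c' := map_add (f n).ofConv c c'
        rw [TensorProduct.tmul_add, hφ₀, hφ₀, hφ₀, this]
      map_smul' := by
        intro a c
        apply eq_of_forall_one_tmul I
        intro n
        have : (f n) (a • c) = a • (f n) c := map_smul (f n).ofConv a c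
        rw [RingHom.id_apply, TensorProduct.tmul_smul, hφ₀, hφ₀, this] } with hφl
  set φa : C →ₐ[A] B := AlgHom.ofLinearMap φl
    (by
      apply eq_of_forall_one_tmul I
      intro n
      change (1 : Q I n) ⊗ₜ[A] φ₀ 1 = _
      have : (f n) 1 = 1 := map_one (f n).ofConv
      rw [hφ₀, this]
      rfl)
    (by
      intro c c'
      apply eq_of_forall_one_tmul I
      intro n
      change (1 : Q I n) ⊗ₜ[A] φ₀ (c * c') = (1 : Q I n) ⊗ₜ[A] (φ₀ c * φ₀ c')
      have : (f n) (c * c') = (f n) c * (f n) c' := map_mul (f n).ofConv c c'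
      rw [hφ₀, this, ← hφ₀ c n, ← hφ₀ c' n, Algebra.TensorProduct.tmul_mul_tmul, mul_one]) with hφa
  have hφa_apply : ∀ c, φa c = φ₀ c := fun _ => rfl
  set ψ : Pt A C B := toConv φa with hψ
  have hpush : ∀ n, push (Algebra.TensorProduct.includeRight : B →ₐ[A] Q I n ⊗[A] B) ψ = f n := by
    intro n
    apply WithConv.ext
    apply AlgHom.ext
    intro c
    exact hφ₀ c n
  have hmul : push (j1 A B) ψ * push (j2 A B) ψ = push (dl A B) ψ := by
    apply WithConv.ext
    apply AlgHom.ext
    intro c
    apply eq_of_forall_one_tmul I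
    intro n
    set π2 : B ⊗[A] B →ₐ[A] Q I n ⊗[A] (B ⊗[A] B) := Algebra.TensorProduct.includeRight with hπ2
    set π1 : B →ₐ[A] Q I n ⊗[A] B := Algebra.TensorProduct.includeRight with hπ1
    have e1 : ∀ p : Pt A C (B ⊗[A] B), (1 : Q I n) ⊗ₜ[A] (p c) = push π2 p c := fun p => rfl
    have r1 : π2.comp (j1 A B) = (lT (Q I n) (j1 A B)).comp π1 := by
      apply AlgHom.ext
      intro b
      simp [hπ1, hπ2]
    have r2 : π2.comp (j2 A B) = (lT (Q I n) (j2 A B)).comp π1 := by
      apply AlgHom.ext
      intro b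
      simp [hπ1, hπ2]
    have r3 : π2.comp (dl A B) = (lT (Q I n) (dl A B)).comp π1 := by
      apply AlgHom.ext
      intro b
      simp [hπ1, hπ2]
    change (1 : Q I n) ⊗ₜ[A] ((push (j1 A B) ψ * push (j2 A B) ψ) c) =
      (1 : Q I n) ⊗ₜ[A] ((push (dl A B) ψ) c)
    rw [e1, e1, map_mul, push_push, push_push, push_push, r1, r2, r3, ← push_push, ← push_push,
      ← push_push, hpush n, hf n]
  obtain ⟨φ, hφ⟩ := exists_bialgHom_of_mul ψ hmul
  refine ⟨φ, fun n c => ?_⟩
  rw [hφ]
  exact hφ₀ c n

end Main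

end Groth.Agent.Lib.Helper7.AL
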