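import Groth.Agent.Lib.Helper7.AL6

/-!
# Lifting homomorphisms from an isotrivial group of multiplicative type over a complete
noetherian base (helper7)
-/

set_option autoImplicit false

namespace Groth.Agent.Lib.Helper7.AL

open TensorProduct WithConv Groth.Agent.Lib.Helper7.HH Groth.Agent.Lib.Helper7.NilLift

universe u

section Final

variable {A : Type u} [CommRing A]

lemma ker_factor {S T : Ideal A} (H : S ≤ T) :
    RingHom.ker (Ideal.Quotient.factor H) = T.map (Ideal.Quotient.mk S) := by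
  have := Ideal.ker_quotient_lift (Ideal.Quotient.mk T) (I := S)
    (fun x hx => Ideal.Quotient.eq_zero_iff_mem.2 (H hx))
  rw [Ideal.mk_ker] at this
  exact this

variable (I : Ideal A)

lemma ker_Q_sq (n : ℕ) : RingHom.ker (algebraMap (Q I (n + 1)) (Q I n)) *
    RingHom.ker (algebraMap (Q I (n + 1)) (Q I n)) = ⊥ := by
  have h1 : RingHom.ker (algebraMap (Q I (n + 1)) (Q I n)) =
      (I ^ (n + 1)).map (Ideal.Quotient.mk (I ^ (n + 1 + 1))) :=
    ker_factor (Ideal.pow_le_pow_right (Nat.le_succ (n + 1)))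
  rw [h1, ← Ideal.map_mul, ← pow_add, eq_bot_iff]
  have h2 : I ^ (n + 1 + (n + 1)) ≤ I ^ (n + 1 + 1) := Ideal.pow_le_pow_right (by omega)
  calc Ideal.map (Ideal.Quotient.mk (I ^ (n + 1 + 1))) (I ^ (n + 1 + (n + 1)))
      ≤ Ideal.map (Ideal.Quotient.mk (I ^ (n + 1 + 1))) (I ^ (n + 1 + 1)) := Ideal.map_mono h2
    _ = ⊥ := Ideal.map_quotient_self _

variable {B : Type u} [CommRing B] [HopfAlgebra A B]

lemma red_eq_tr (n : ℕ) (y : Q I (n + 1) ⊗[A] B) :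
    red (Q I (n + 1)) (Q I n) B y = tr I n B y := by
  induction y using TensorProduct.induction_on with
  | zero => simp
  | tmul q b => rfl
  | add x y hx hy => simp only [map_add, hx, hy]

theorem algebraize [IsNoetherianRing A] [IsAdicComplete I A] (hH : SGA3b.IsIsotrivial A B)
    (C : Type u) [CommRing C] [HopfAlgebra A C] [Algebra.FormallySmooth A C]
    (φ₀ : ((A ⧸ I) ⊗[A] C) →ₐc[A ⧸ I] ((A ⧸ I) ⊗[A] B)) :
    ∃ φ : C →ₐc[A] B, ∀ c : C, φ₀ ((1 : A ⧸ I) ⊗ₜ[A] c) = (1 : A ⧸ I) ⊗ₜ[A] (φ c) := by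
  obtain ⟨A', _, _, -, hfin, hff, M, _, ⟨e⟩⟩ := hH
  have hJF : JointlyFaithful A (fun _ : PUnit.{u + 1} => A') := by
    intro N _ _ hN
    have := hN PUnit.unit
    exact Module.FaithfullyFlat.lTensor_reflects_triviality A A' N
  obtain ⟨J, hJ⟩ := exists_isInvInt_of_family hJF (fun _ => lam e) (fun _ => lam_one e)
    (fun _ => lam_linv e) (fun _ => lam_rinv e)
  -- the base of the tower
  have hle : I ^ (0 + 1) ≤ I := by rw [zero_add, pow_one]
  let _ : Algebra (Q I 0) (A ⧸ I) := (Ideal.Quotient.factor hle).toAlgebra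
  have : IsScalarTower A (Q I 0) (A ⧸ I) := IsScalarTower.of_algebraMap_eq (fun _ => rfl)
  have hk0 : Function.Surjective (algebraMap (Q I 0) (A ⧸ I)) :=
    Ideal.Quotient.factor_surjective hle
  have hJ0 : RingHom.ker (algebraMap (Q I 0) (A ⧸ I)) ^ (0 + 1) = ⊥ := by
    have h1 : RingHom.ker (algebraMap (Q I 0) (A ⧸ I)) =
        I.map (Ideal.Quotient.mk (I ^ (0 + 1))) := ker_factor hle
    rw [h1, ← Ideal.map_pow]
    exact Ideal.map_quotient_self _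
  obtain ⟨ψ0, hψ0⟩ := rel_nilp hJ 0 (Q I 0) (A ⧸ I) hk0 hJ0 φ₀
  have step : ∀ (n : ℕ) (ψ : (Q I n ⊗[A] C) →ₐc[Q I n] (Q I n ⊗[A] B)),
      ∃ ψ' : (Q I (n + 1) ⊗[A] C) →ₐc[Q I (n + 1)] (Q I (n + 1) ⊗[A] B),
        ∀ c : C, ψ ((1 : Q I n) ⊗ₜ[A] c) =
          red (Q I (n + 1)) (Q I n) B (ψ' ((1 : Q I (n + 1)) ⊗ₜ[A] c)) :=
    fun n ψ => rel_sqzero hJ (Q I (n + 1)) (Q I n) (algebraMap_Q_surjective I n) (ker_Q_sq I n) ψ
  choose F hF using step
  set Φ : ∀ n, (Q I n ⊗[A] C) →ₐc[Q I n] (Q I n ⊗[A] B) :=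
    fun n => Nat.rec ψ0 (fun n ψ => F n ψ) n with hΦ
  have hΦs : ∀ n, Φ (n + 1) = F n (Φ n) := fun n => rfl
  obtain ⟨φ, hφ⟩ := exists_hom_of_system I e (fun n => ptOf (Q I n) (Φ n))
    (fun n => isHomPt_ptOf (Q I n) (Φ n))
    (by
      intro n c
      rw [ptOf_apply, ptOf_apply, hΦs, ← red_eq_tr, ← hF n (Φ n) c])
  refine ⟨φ, fun c => ?_⟩
  have h0 := hφ 0 c
  rw [ptOf_apply] at h0
  have h1 : Φ 0 = ψ0 := rfl
  rw [hψ0 c, ← h1, ← h0, Algebra.TensorProduct.map_tmul, map_one, AlgHom.id_apply]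

end Final

end Groth.Agent.Lib.Helper7.AL
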