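import Mathlib.RingTheory.AdicCompletion.Basic
import Mathlib.RingTheory.AdicCompletion.Noetherian
import Mathlib.RingTheory.Ideal.KrullsHeightTheorem
import Mathlib.RingTheory.Artinian.Module
import Mathlib.RingTheory.Filtration

/-!
# Linear compactness of finite modules over complete Noetherian local rings (helper7)

* `isPrecomplete_of_finite`: a finite module over an `I`-adically precomplete ring is precomplete.
* `isArtinian_quotient_pow_smul`: `N ⧸ 𝔫^i N` is Artinian.
* `exists_limit_of_filtration`: for a decreasing filtration `F` of a finite module over a complete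
  Noetherian local ring with `𝔫^i N ≤ F i`, every `F`-Cauchy sequence converges.
-/

universe u v

namespace Groth.Agent.Lib.Helper7.AdicLC

open Submodule

section Precomplete

variable {R : Type u} [CommRing R] (I : Ideal R) {N : Type v} [AddCommGroup N] [Module R N]

lemma smodEq_of_succ {f : ℕ → N} (h : ∀ j, f (j + 1) - f j ∈ (I ^ j • ⊤ : Submodule R N))
    {m n : ℕ} (hmn : m ≤ n) : f m ≡ f n [SMOD (I ^ m • ⊤ : Submodule R N)] := by
  induction hmn with
  | refl => exact SModEq.refl _
  | @step n hmn ih =>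
    refine ih.trans ?_
    rw [SModEq.sub_mem]
    have h1 := h n
    have h2 : (I ^ n • ⊤ : Submodule R N) ≤ I ^ m • ⊤ :=
      Submodule.smul_mono_left (Ideal.pow_le_pow_right hmn)
    have := h2 h1
    rw [← neg_sub]
    exact Submodule.neg_mem _ this

theorem isPrecomplete_of_finite [IsPrecomplete I R] [Module.Finite R N] : IsPrecomplete I N := by
  classical
  obtain ⟨r, g, hg⟩ := Module.Finite.exists_fin (R := R) (M := N)
  refine ⟨fun f hf => ?_⟩
  -- coefficients of the differences
  have hdiff : ∀ j, ∃ c : Fin r → R, (∀ l, c l ∈ I ^ j) ∧ ∑ l, c l • g l = f (j + 1) - f j := by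
    intro j
    have h1 : f (j + 1) - f j ∈ (I ^ j • ⊤ : Submodule R N) := by
      rw [← SModEq.sub_mem]
      exact (hf (Nat.le_succ j)).symm
    rw [← hg, Submodule.mem_ideal_smul_span_iff_exists_sum] at h1
    obtain ⟨a, ha, hsum⟩ := h1
    refine ⟨fun l => a l, ha, ?_⟩
    rw [← hsum, Finsupp.sum_fintype]
    simp
  choose c hcI hc using hdiff
  have h0 : ∃ b : Fin r → R, ∑ l, b l • g l = f 0 := by
    have : f 0 ∈ Submodule.span R (Set.range g) := by rw [hg]; trivial
    obtain ⟨b, hb⟩ := (Submodule.mem_span_range_iff_exists_fun R).1 this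
    exact ⟨b, hb⟩
  obtain ⟨b, hb⟩ := h0
  let G : Fin r → ℕ → R := fun l j => b l + ∑ i ∈ Finset.range j, c i l
  have hGf : ∀ j, ∑ l, G l j • g l = f j := by
    intro j
    induction j with
    | zero => simpa [G] using hb
    | succ j ih =>
      have : ∀ l, G l (j + 1) = G l j + c j l := fun l => by
        simp only [G, Finset.sum_range_succ]; ring
      simp only [this, add_smul, Finset.sum_add_distrib, ih, hc j]
      abel
  have hGc : ∀ l, ∃ L : R, ∀ n, G l n ≡ L [SMOD (I ^ n • ⊤ : Submodule R R)] := by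
    intro l
    apply IsPrecomplete.prec (I := I) (M := R) inferInstance
    intro m n hmn
    apply smodEq_of_succ I _ hmn
    intro j
    have : G l (j + 1) - G l j = c j l := by
      simp only [G, Finset.sum_range_succ]; ring
    rw [this, smul_eq_mul, Ideal.mul_top]
    exact hcI j l
  choose L hL using hGc
  refine ⟨∑ l, L l • g l, fun n => ?_⟩
  rw [SModEq.sub_mem, ← hGf n, ← Finset.sum_sub_distrib]
  refine Submodule.sum_mem _ fun l _ => ?_
  rw [← sub_smul]
  have h1 := hL l n
  rw [SModEq.sub_mem, smul_eq_mul, Ideal.mul_top] at h1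
  exact Submodule.smul_mem_smul h1 mem_top

end Precomplete

section Artinian

variable {R : Type u} [CommRing R] [IsLocalRing R] [IsNoetherianRing R]
variable {N : Type v} [AddCommGroup N] [Module R N] [Module.Finite R N]

open IsLocalRing

theorem isArtinian_quotient_pow_smul (i : ℕ) :
    IsArtinian R (N ⧸ (maximalIdeal R ^ (i + 1) • ⊤ : Submodule R N)) := by
  have hmin : maximalIdeal R ∈ (maximalIdeal R ^ (i + 1)).minimalPrimes := by
    refine ⟨⟨inferInstance, Ideal.pow_le_self (Nat.succ_ne_zero i)⟩, fun P hP _ => ?_⟩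
    exact hP.1.le_of_pow_le hP.2
  haveI : IsArtinianRing (R ⧸ maximalIdeal R ^ (i + 1)) :=
    IsLocalRing.quotient_artinian_of_mem_minimalPrimes_of_isLocalRing _ hmin
  haveI : Module.Finite (R ⧸ maximalIdeal R ^ (i + 1))
      (N ⧸ (maximalIdeal R ^ (i + 1) • ⊤ : Submodule R N)) :=
    Module.Finite.of_restrictScalars_finite R _ _
  haveI : IsArtinian (R ⧸ maximalIdeal R ^ (i + 1))
      (N ⧸ (maximalIdeal R ^ (i + 1) • ⊤ : Submodule R N)) := inferInstance
  exact isArtinian_of_surjective_algebraMap (S := R) (R := R ⧸ maximalIdeal R ^ (i + 1))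
    Ideal.Quotient.mk_surjective

/-- Stabilisation of a decreasing filtration modulo `𝔫^i N`. -/
theorem exists_stabilize (F : ℕ → Submodule R N) (hF : Antitone F) (i : ℕ) :
    ∃ J, ∀ j, J ≤ j → F J ≤ F j ⊔ (maximalIdeal R ^ i • ⊤ : Submodule R N) := by
  rcases Nat.eq_zero_or_pos i with rfl | hi
  · refine ⟨0, fun j _ => ?_⟩
    rw [pow_zero, Ideal.one_eq_top, Submodule.top_smul, sup_top_eq]
    exact le_top
  · obtain ⟨i, rfl⟩ : ∃ i', i = i' + 1 := ⟨i - 1, by omega⟩
    haveI := isArtinian_quotient_pow_smul (R := R) (N := N) i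
    set P : Submodule R N := (maximalIdeal R ^ (i + 1) • ⊤ : Submodule R N) with hP
    let f : ℕ →o (Submodule R (N ⧸ P))ᵒᵈ :=
      { toFun := fun j => OrderDual.toDual ((F j).map P.mkQ)
        monotone' := fun a b hab => Submodule.map_mono (hF hab) }
    obtain ⟨J, hJ⟩ := IsArtinian.monotone_stabilizes f
    refine ⟨J, fun j hj x hx => ?_⟩
    have h1 : P.mkQ x ∈ (F J).map P.mkQ := Submodule.mem_map_of_mem hx
    have h2 : (F J).map P.mkQ = (F j).map P.mkQ := by
      have := hJ j hj
      exact congrArg OrderDual.ofDual this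
    rw [h2] at h1
    obtain ⟨y, hy, hxy⟩ := h1
    have h3 : x - y ∈ P := by
      rw [← Submodule.Quotient.mk_eq_zero, Submodule.Quotient.mk_sub]
      change P.mkQ x - P.mkQ y = 0
      rw [hxy, sub_self]
    have : x = y + (x - y) := by abel
    rw [this]
    exact Submodule.add_mem_sup hy h3

end Artinian

end Groth.Agent.Lib.Helper7.AdicLC
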