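import Groth.Agent.Lib.Helper7.AdicLC

universe u v

namespace Groth.Agent.Lib.Helper7.AdicLC

open Submodule IsLocalRing

section Limit

variable {R : Type u} [CommRing R] [IsLocalRing R] [IsNoetherianRing R]
variable {N : Type v} [AddCommGroup N] [Module R N] [Module.Finite R N]

omit [IsLocalRing R] [IsNoetherianRing R] [Module.Finite R N] in
lemma sub_mem_of_succ {F : ℕ → Submodule R N} (hF : Antitone F) {x : ℕ → N}
    (hx : ∀ j, x (j + 1) - x j ∈ F j) {j j' : ℕ} (h : j ≤ j') : x j' - x j ∈ F j := by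
  induction h with
  | refl => rw [sub_self]; exact zero_mem _
  | @step n hmn ih =>
    have : x (n + 1) - x j = (x (n + 1) - x n) + (x n - x j) := by abel
    rw [this]
    exact add_mem (hF hmn (hx n)) ih

/-- Linear compactness: a Cauchy sequence for a filtration coarser than the `𝔫`-adic one converges. -/
theorem exists_limit_of_filtration [IsPrecomplete (maximalIdeal R) R]
    (F : ℕ → Submodule R N) (hF : Antitone F)
    (hnF : ∀ i, (maximalIdeal R ^ i • ⊤ : Submodule R N) ≤ F i)
    (x : ℕ → N) (hx : ∀ j, x (j + 1) - x j ∈ F j) : ∃ y, ∀ j, y - x j ∈ F j := by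
  classical
  have hstab := exists_stabilize (R := R) F hF
  choose J hJ using hstab
  -- a monotone cofinal choice of indices
  let K : ℕ → ℕ := fun i => Nat.rec (J 0) (fun i Ki => max (max Ki (J (i + 1))) (i + 1)) i
  have hK0 : K 0 = J 0 := rfl
  have hKs : ∀ i, K (i + 1) = max (max (K i) (J (i + 1))) (i + 1) := fun i => rfl
  have hKmono : ∀ i, K i ≤ K (i + 1) := fun i => by rw [hKs]; omega
  have hKJ : ∀ i, J i ≤ K i := by
    intro i
    cases i with
    | zero => rw [hK0]
    | succ i => rw [hKs]; omega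
  have hKi : ∀ i, i ≤ K i := by
    intro i
    cases i with
    | zero => exact Nat.zero_le _
    | succ i => rw [hKs]; omega
  have hKstab : ∀ i j, K i ≤ j → F (K i) ≤ F j ⊔ (maximalIdeal R ^ i • ⊤ : Submodule R N) :=
    fun i j hj => (hF (hKJ i)).trans (hJ i j ((hKJ i).trans hj))
  -- the recursive construction
  have hstep : ∀ i (y : N), y - x (K i) ∈ F (K i) →
      ∃ y', y' - x (K (i + 1)) ∈ F (K (i + 1)) ∧
        y' - y ∈ (maximalIdeal R ^ i • ⊤ : Submodule R N) := by
    intro i y hy
    have h1 : y - x (K (i + 1)) ∈ F (K i) := by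
      have : y - x (K (i + 1)) = (y - x (K i)) - (x (K (i + 1)) - x (K i)) := by abel
      rw [this]
      exact sub_mem hy (sub_mem_of_succ hF hx (hKmono i))
    have h2 := hKstab i (K (i + 1)) (hKmono i) h1
    obtain ⟨f, hf, n, hn, hfn⟩ := Submodule.mem_sup.1 h2
    refine ⟨y - n, ?_, ?_⟩
    · have : y - n - x (K (i + 1)) = f := by rw [← add_sub_cancel_right f n, hfn]; abel
      rw [this]; exact hf
    · have : y - n - y = -n := by abel
      rw [this]; exact neg_mem hn
  let step : ∀ i, {y : N // y - x (K i) ∈ F (K i)} → {y : N // y - x (K (i + 1)) ∈ F (K (i + 1))} :=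
    fun i y => ⟨Classical.choose (hstep i y.1 y.2), (Classical.choose_spec (hstep i y.1 y.2)).1⟩
  let seq : ∀ i, {y : N // y - x (K i) ∈ F (K i)} := fun i =>
    Nat.rec (⟨x (K 0), by rw [sub_self]; exact zero_mem _⟩ : {y : N // y - x (K 0) ∈ F (K 0)})
      (fun i y => step i y) i
  have hseq : ∀ i, ((seq (i + 1)).1 - (seq i).1) ∈ (maximalIdeal R ^ i • ⊤ : Submodule R N) :=
    fun i => (Classical.choose_spec (hstep i (seq i).1 (seq i).2)).2
  haveI : IsPrecomplete (maximalIdeal R) N := isPrecomplete_of_finite (maximalIdeal R)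
  obtain ⟨y, hy⟩ := IsPrecomplete.prec (I := maximalIdeal R) (M := N) inferInstance
    (f := fun i => (seq i).1)
    (fun hmn => smodEq_of_succ (maximalIdeal R) (f := fun i => (seq i).1) hseq hmn)
  refine ⟨y, fun j => ?_⟩
  have h1 : (seq j).1 - y ∈ (maximalIdeal R ^ j • ⊤ : Submodule R N) := by
    rw [← SModEq.sub_mem]; exact hy j
  have h2 : (seq j).1 - x (K j) ∈ F j := hF (hKi j) (seq j).2
  have h3 : x (K j) - x j ∈ F j := sub_mem_of_succ hF hx (hKi j)
  have : y - x j = -((seq j).1 - y) + ((seq j).1 - x (K j)) + (x (K j) - x j) := by abel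
  rw [this]
  exact add_mem (add_mem (neg_mem (hnF j h1)) h2) h3

end Limit

end Groth.Agent.Lib.Helper7.AdicLC
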