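import Groth.Agent.Lib.Helper7.PolyCoact

/-!
# Transitivity of a finite locally free group on geometric fibres of the quotient (helper7)
-/

set_option autoImplicit false

namespace Groth.Agent.Lib.Helper7.Transit

open TensorProduct HopfRep Module Polynomial Groth.Agent.Lib.Helper7.PadCP
  Groth.Agent.Lib.Helper7.Shear Groth.Agent.Lib.Helper7.PolyCoact

universe u v w w'

variable {k : Type u} [CommRing k] {A : Type v} [CommRing A] [HopfAlgebra k A]
  [Module.Finite k A] [Module.Projective k A]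
variable {B : Type w} [CommRing B] [Algebra k B] [Comod k A B] [GLin.IsCoactAlg k A B]
variable {K : Type w'} [Field K] [IsAlgClosed K] [Algebra k K]

/-- the point `x · γ`. -/
noncomputable abbrev actP {L : Type w'} [CommRing L] [Algebra k L] (x : B →ₐ[k] L) (γ : A →ₐ[k] L) :
    B →ₐ[k] L :=
  (Algebra.TensorProduct.lift x γ (fun _ _ => Commute.all _ _)).comp (GLin.coactAlgHom k A B)

omit [HopfAlgebra k A] [Module.Finite k A] [Module.Projective k A] [IsAlgClosed K] in
lemma lift_id_map [Algebra k A] {T : Type w} [CommRing T] [Algebra k T] (φ : T →ₐ[k] K) (γ : A →ₐ[k] K)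
    (z : T ⊗[k] A) :
    Algebra.TensorProduct.lift (AlgHom.id k K) γ (fun _ _ => Commute.all _ _)
      (Algebra.TensorProduct.map φ (AlgHom.id k A) z) =
    Algebra.TensorProduct.lift φ γ (fun _ _ => Commute.all _ _) z := by
  induction z using TensorProduct.induction_on with
  | zero => simp
  | tmul t a => simp
  | add y z hy hz => simp only [map_add, hy, hz]

theorem step (x₁ x₂ : B →ₐ[k] K) (hx : ∀ c ∈ GLin.invariants k A B, x₁ c = x₂ c)
    (β : B[X]) (l : K) (hne : aevalTower x₂ l β ≠ 0) :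
    ∃ γ : A →ₐ[k] K, aevalTower (actP x₁ γ) l β = aevalTower x₂ l β := by
  set P := cpP k A B[X] (rhoT k A B β) with hP
  have hinv := cpP_map_coact (rhoT k A B) rhoT_coassoc β
  rw [← hP] at hinv
  have hcoef : ∀ n, rhoT k A B (P.coeff n) = P.coeff n ⊗ₜ[k] (1 : A) := by
    intro n
    have h4 := congrArg (fun p => Polynomial.coeff p n) hinv
    simp only [Polynomial.coeff_map] at h4
    exact h4
  have hφ : ∀ n, aevalTower x₁ l (P.coeff n) = aevalTower x₂ l (P.coeff n) := by
    intro n
    change Polynomial.eval₂ (x₁ : B →+* K) l (P.coeff n) = Polynomial.eval₂ (x₂ : B →+* K) l (P.coeff n)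
    rw [Polynomial.eval₂_eq_sum_range, Polynomial.eval₂_eq_sum_range]
    refine Finset.sum_congr rfl (fun j _ => ?_)
    have := hx _ (coeff_mem_invariants_of_rhoT (hcoef n) j)
    change x₁ _ * _ = x₂ _ * _
    rw [this]
  have hmap : P.map ((aevalTower x₁ l : B[X] →ₐ[k] K) : B[X] →+* K) =
      P.map ((aevalTower x₂ l : B[X] →ₐ[k] K) : B[X] →+* K) := by
    ext n
    rw [Polynomial.coeff_map, Polynomial.coeff_map]
    exact hφ n
  have hroot : (P.map ((aevalTower x₂ l : B[X] →ₐ[k] K) : B[X] →+* K)).IsRoot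
      (aevalTower x₂ l β) := by
    rw [Polynomial.IsRoot.def, Polynomial.eval_map]
    have h0 := aeval_cpP_coact (rhoT k A B) rhoT_counit β
    rw [← hP, Polynomial.coe_aeval_eq_eval] at h0
    have := Polynomial.eval₂_at_apply (p := P) ((aevalTower x₂ l : B[X] →ₐ[k] K) : B[X] →+* K) β
    rw [h0, map_zero] at this
    exact this
  rw [← hmap, hP, cpP_map] at hroot
  obtain ⟨γ, hγ⟩ := exists_algHom_of_isRoot k A K _ _ hne hroot
  refine ⟨γ, ?_⟩
  rw [lift_id_map] at hγ
  rw [← hγ]
  have := AlgHom.congr_fun (lift_aevalTower_comp_rhoT x₁ γ l) β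
  rw [AlgHom.comp_apply] at this
  rw [this]

/-- **Transitivity on geometric fibres**: two points with values in an algebraically closed field
which agree on the invariants differ by a point of the group. -/
theorem exists_actP_eq (x₁ x₂ : B →ₐ[k] K) (hx : ∀ c ∈ GLin.invariants k A B, x₁ c = x₂ c) :
    ∃ γ : A →ₐ[k] K, x₂ = actP x₁ γ := by
  classical
  by_contra hcon
  push Not at hcon
  have hb : ∀ γ : A →ₐ[k] K, ∃ b : B, x₂ b ≠ actP x₁ γ b := by
    intro γ
    by_contra h
    push Not at h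
    exact hcon γ (AlgHom.ext h)
  choose b hb using hb
  haveI : Fintype (A →ₐ[k] K) := Fintype.ofFinite _
  let e : (A →ₐ[k] K) ≃ Fin (Fintype.card (A →ₐ[k] K)) := Fintype.equivFin _
  set q : B[X] := ∑ γ : A →ₐ[k] K, C (b γ) * X ^ ((e γ : ℕ)) with hq
  have hqcoeff : ∀ (ξ : B →ₐ[k] K) (γ : A →ₐ[k] K),
      (q.map (ξ : B →+* K)).coeff (e γ : ℕ) = ξ (b γ) := by
    intro ξ γ
    rw [Polynomial.coeff_map, hq, Polynomial.finsetSum_coeff]
    simp only [Polynomial.coeff_C_mul_X_pow]
    rw [Finset.sum_eq_single γ]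
    · simp
    · intro γ' _ hne
      rw [if_neg]
      intro h
      exact hne (e.injective (Fin.ext h)).symm
    · intro h
      exact absurd (Finset.mem_univ γ) h
  have hev : ∀ (ξ : B →ₐ[k] K) (l : K),
      aevalTower ξ l (1 + X * q) = 1 + l * Polynomial.eval l (q.map (ξ : B →+* K)) := by
    intro ξ l
    rw [map_add, map_one, map_mul, aevalTower_X, Polynomial.eval_map]
    rfl
  -- the set of good parameters
  set Λ : Set K := {l | l ≠ 0 ∧ 1 + l * Polynomial.eval l (q.map (x₂ : B →+* K)) ≠ 0} with hΛ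
  have hΛinf : Λ.Infinite := by
    have hpoly : (1 + X * q.map (x₂ : B →+* K) : K[X]) ≠ 0 := by
      intro h0
      have := congrArg (Polynomial.eval 0) h0
      simp at this
    have hfin : ({0} ∪ {l | (1 + X * q.map (x₂ : B →+* K) : K[X]).IsRoot l} : Set K).Finite :=
      (Set.finite_singleton 0).union (Polynomial.finite_setOfPred_isRoot hpoly)
    have hsub : Λᶜ ⊆ ({0} ∪ {l | (1 + X * q.map (x₂ : B →+* K) : K[X]).IsRoot l} : Set K) := by
      intro l hl
      rw [hΛ, Set.mem_compl_iff, Set.mem_ofPred_eq, not_and_or, not_not, not_not] at hl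
      rcases hl with h | h
      · left; exact h
      · right
        rw [Set.mem_ofPred_eq, Polynomial.IsRoot.def]
        simpa using h
    have := (hfin.subset hsub).infinite_compl
    rwa [compl_compl] at this
  set S : (A →ₐ[k] K) → Set K := fun γ =>
    {l | Polynomial.eval l (q.map ((actP x₁ γ : B →ₐ[k] K) : B →+* K)) =
      Polynomial.eval l (q.map (x₂ : B →+* K))} with hS
  have hcover : Λ ⊆ ⋃ γ, S γ := by
    intro l hl
    obtain ⟨hl0, hl1⟩ := hl
    rw [← hev x₂ l] at hl1
    obtain ⟨γ, hγ⟩ := step x₁ x₂ hx (1 + X * q) l hl1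
    rw [hev, hev] at hγ
    refine Set.mem_iUnion.2 ⟨γ, ?_⟩
    rw [hS, Set.mem_ofPred_eq]
    exact mul_left_cancel₀ hl0 (add_left_cancel hγ)
  have hex : ∃ γ, (S γ).Infinite := by
    by_contra hno
    push Not at hno
    have hall : ∀ γ, (S γ).Finite := hno
    exact hΛinf ((Set.finite_iUnion hall).subset hcover)
  obtain ⟨γ, hγ⟩ := hex
  have heq := Polynomial.eq_of_infinite_eval_eq _ _ hγ
  have h1 := congrArg (fun p => Polynomial.coeff p (e γ : ℕ)) heq
  simp only [hqcoeff] at h1
  exact hb γ h1.symm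

end Groth.Agent.Lib.Helper7.Transit
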