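import Mathlib
import Groth.Prelude.Def_CoactBr
import Groth.Agent.Lib.Helper7.Transit

/-!
# Scheme-valued points of affine schemes over `Spec R` through global sections (helper7)
-/

set_option autoImplicit false
universe u
open TensorProduct
open CategoryTheory MonoidalCategory CartesianMonoidalCategory AlgebraicGeometry MonObj

namespace Groth.Agent.Lib.Helper7.AffPt

open HopfRep Groth.Agent.Lib.Helper7.Transit

section SchLemmas

variable {X : Scheme.{u}} {R S : Type u} [CommRing R] [CommRing S]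

lemma eq_toSpecΓ_comp (a : X ⟶ Spec (CommRingCat.of S)) :
    a = X.toSpecΓ ≫ Spec.map ((Scheme.ΓSpecIso (CommRingCat.of S)).inv ≫ a.appTop) := by
  rw [Spec.map_comp, ← Scheme.toSpecΓ_naturality_assoc, toSpecΓ_SpecMap_ΓSpecIso_inv,
    Category.comp_id]

lemma sharp_comp_apply (a : X ⟶ Spec (CommRingCat.of S)) (φ : R →+* S)
    (h : X ⟶ Spec (CommRingCat.of R)) (hw : a ≫ Spec.map (CommRingCat.ofHom φ) = h) (c : R) :
    ((Scheme.ΓSpecIso (CommRingCat.of S)).inv ≫ a.appTop).hom (φ c) =
      ((Scheme.ΓSpecIso (CommRingCat.of R)).inv ≫ h.appTop).hom c := by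
  subst hw
  rw [Scheme.Hom.comp_appTop]
  have h4 := ConcreteCategory.congr_hom
    (Scheme.ΓSpecIso_inv_naturality (CommRingCat.ofHom φ)) c
  exact congrArg a.appTop.hom h4

lemma inv_comp_toSpecΓ_comp_appTop (φ : CommRingCat.of S ⟶ Γ(X, ⊤)) :
    (Scheme.ΓSpecIso (CommRingCat.of S)).inv ≫ (X.toSpecΓ ≫ Spec.map φ).appTop = φ := by
  rw [Scheme.Hom.comp_appTop, ← Category.assoc, ← Scheme.ΓSpecIso_inv_naturality,
    Scheme.toSpecΓ_appTop, Category.assoc, Iso.inv_hom_id, Category.comp_id]

end SchLemmas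

variable {R : Type u} [CommRing R]

/-- global sections. -/
abbrev Gam (T : Over (Spec (CommRingCat.of R))) : Type u := Γ(T.left, ⊤)

/-- the `R`-algebra structure on global sections. -/
@[instance_reducible] noncomputable def algGam (T : Over (Spec (CommRingCat.of R))) :
    Algebra R (Gam T) :=
  ((Scheme.ΓSpecIso (CommRingCat.of R)).inv ≫ T.hom.appTop).hom.toAlgebra

section Affinization

variable (T : Over (Spec (CommRingCat.of R)))

/-- the affinization `T ⟶ Spec Γ(T)` over `Spec R`. -/
noncomputable def tau : letI : Algebra R (Gam T) := algGam T; T ⟶ CoactBr.sp R (Gam T) :=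
  letI : Algebra R (Gam T) := algGam T
  Over.homMk T.left.toSpecΓ (by
    change T.left.toSpecΓ ≫ Spec.map ((Scheme.ΓSpecIso (CommRingCat.of R)).inv ≫ T.hom.appTop) =
      T.hom
    rw [Spec.map_comp, ← Scheme.toSpecΓ_naturality_assoc, toSpecΓ_SpecMap_ΓSpecIso_inv,
      Category.comp_id])

variable {T} {A : Type u} [CommRing A] [Algebra R A]

/-- the ring map `A → Γ(T)` of a `T`-valued point. -/
noncomputable def sharpR (a : T ⟶ CoactBr.sp R A) : A →+* Gam T :=
  ((Scheme.ΓSpecIso (CommRingCat.of A)).inv ≫ a.left.appTop).hom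

lemma sharpR_algebraMap (a : T ⟶ CoactBr.sp R A) (c : R) :
    sharpR a (algebraMap R A c) = @algebraMap R (Gam T) _ _ (algGam T) c := by
  exact sharp_comp_apply (a.left : T.left ⟶ Spec (CommRingCat.of A)) (algebraMap R A) T.hom
    (Over.w a) c

/-- the algebra map `A → Γ(T)` of a `T`-valued point. -/
noncomputable def sharp (a : T ⟶ CoactBr.sp R A) :
    letI : Algebra R (Gam T) := algGam T; A →ₐ[R] Gam T :=
  letI : Algebra R (Gam T) := algGam T
  { sharpR a with commutes' := sharpR_algebraMap a }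

theorem eq_tau_comp_pt (a : T ⟶ CoactBr.sp R A) :
    letI : Algebra R (Gam T) := algGam T
    a = tau T ≫ CoactBr.pt (sharp a) := by
  letI : Algebra R (Gam T) := algGam T
  apply Over.OverMorphism.ext
  exact eq_toSpecΓ_comp (a.left : T.left ⟶ Spec (CommRingCat.of A))

theorem sharp_tau_comp_pt :
    letI : Algebra R (Gam T) := algGam T
    ∀ (φ : A →ₐ[R] Gam T), sharp (tau T ≫ CoactBr.pt φ) = φ := by
  letI : Algebra R (Gam T) := algGam T
  intro φ
  apply AlgHom.coe_ringHom_injective
  have := inv_comp_toSpecΓ_comp_appTop (X := T.left) (S := A) (CommRingCat.ofHom φ.toRingHom)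
  exact congrArg CommRingCat.Hom.hom this

theorem tau_comp_pt_injective :
    letI : Algebra R (Gam T) := algGam T
    ∀ (φ ψ : A →ₐ[R] Gam T), tau T ≫ CoactBr.pt φ = tau T ≫ CoactBr.pt ψ → φ = ψ := by
  letI : Algebra R (Gam T) := algGam T
  intro φ ψ h
  rw [← sharp_tau_comp_pt φ, ← sharp_tau_comp_pt ψ, h]

theorem sharp_comp_pt {K : Type u} [CommRing K] [Algebra R K] (h : T ⟶ CoactBr.sp R K)
    (x : A →ₐ[R] K) :
    letI : Algebra R (Gam T) := algGam T
    sharp (h ≫ CoactBr.pt x) = (sharp h).comp x := by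
  letI : Algebra R (Gam T) := algGam T
  conv_lhs => rw [eq_tau_comp_pt h, Category.assoc, ← CoactBr.pt_comp]
  exact sharp_tau_comp_pt _

end Affinization

section Action

variable {A B : Type u} [CommRing A] [HopfAlgebra R A] [CommRing B] [Algebra R B]
  [Comod R A B] [GLin.IsCoactAlg R A B]

/-- the unit point. -/
noncomputable abbrev unitHom (A : Type u) [CommRing A] [HopfAlgebra R A] (L : Type u) [CommRing L]
    [Algebra R L] : A →ₐ[R] L :=
  (Algebra.ofId R L).comp (Bialgebra.counitAlgHom R A)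

/-- being fixed for the left action is being fixed for the right action. -/
theorem act_fix_iff {T : Over (Spec (CommRingCat.of R))} (g : T ⟶ CoactBr.sp R A)
    (ζ : T ⟶ CoactBr.sp R B) :
    lift g ζ ≫ (CoactBr.action R A B).act = ζ ↔ lift ζ g ≫ CoactBr.ract R A B = ζ := by
  rw [CoactBr.lift_action_act]
  constructor
  · intro h
    have h2 := congrArg (fun z => lift z g ≫ CoactBr.ract R A B) h
    simp only [CoactBr.lift_ract_ract] at h2
    rw [_root_.inv_mul_cancel, CoactBr.lift_one_ract] at h2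
    exact h2.symm
  · intro h
    have h2 := congrArg (fun z => lift z g⁻¹ ≫ CoactBr.ract R A B) h
    simp only [CoactBr.lift_ract_ract] at h2
    rw [_root_.mul_inv_cancel, CoactBr.lift_one_ract] at h2
    exact h2.symm

theorem ract_fix_iff {T : Over (Spec (CommRingCat.of R))} (g : T ⟶ CoactBr.sp R A)
    (ζ : T ⟶ CoactBr.sp R B) :
    letI : Algebra R (Gam T) := algGam T
    lift ζ g ≫ CoactBr.ract R A B = ζ ↔ actP (sharp ζ) (sharp g) = sharp ζ := by
  letI : Algebra R (Gam T) := algGam T
  have hζ := eq_tau_comp_pt ζ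
  have hg := eq_tau_comp_pt g
  have h1 : lift ζ g ≫ CoactBr.ract R A B = tau T ≫ CoactBr.pt (actP (sharp ζ) (sharp g)) := by
    conv_lhs => rw [hζ, hg, ← comp_lift, Category.assoc, CoactBr.lift_pt_ract]
  rw [h1]
  constructor
  · intro h
    conv_rhs at h => rw [hζ]
    exact tau_comp_pt_injective _ _ h
  · intro h
    rw [h, ← hζ]

theorem eq_one_iff {T : Over (Spec (CommRingCat.of R))} (g : T ⟶ CoactBr.sp R A) :
    letI : Algebra R (Gam T) := algGam T
    g = 1 ↔ sharp g = unitHom A (Gam T) := by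
  letI : Algebra R (Gam T) := algGam T
  have hg := eq_tau_comp_pt g
  have h1 : (1 : T ⟶ CoactBr.sp R A) = tau T ≫ CoactBr.pt (unitHom A (Gam T)) := by
    rw [← CoactBr.one_eq_pt, MonObj.comp_one]
  constructor
  · intro h
    rw [h1] at h
    conv_lhs at h => rw [hg]
    exact tau_comp_pt_injective _ _ h
  · intro h
    rw [h1, ← h, ← hg]

/-- algebraic form of: the inertia at the point `x` is trivial. -/
def InT {K : Type u} [CommRing K] [Algebra R K] (x : B →ₐ[R] K) : Prop :=
  ∀ (L : Type u) [CommRing L] [Algebra R L] (h : K →ₐ[R] L) (gam : A →ₐ[R] L),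
    actP (h.comp x) gam = h.comp x → gam = unitHom A L

/-- algebraic form of: the action is free. -/
def FreeA (R A B : Type u) [CommRing R] [CommRing A] [HopfAlgebra R A] [CommRing B] [Algebra R B]
    [Comod R A B] [GLin.IsCoactAlg R A B] : Prop :=
  ∀ (L : Type u) [CommRing L] [Algebra R L] (ξ : B →ₐ[R] L) (gam : A →ₐ[R] L),
    actP ξ gam = ξ → gam = unitHom A L

theorem pt_fix_iff {L : Type u} [CommRing L] [Algebra R L] (ξ : B →ₐ[R] L) (gam : A →ₐ[R] L) :
    lift (CoactBr.pt gam) (CoactBr.pt ξ) ≫ (CoactBr.action R A B).act = CoactBr.pt ξ ↔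
      actP ξ gam = ξ := by
  rw [act_fix_iff, CoactBr.lift_pt_ract]
  constructor
  · intro h
    exact CoactBr.pt_injective h
  · intro h
    exact congrArg CoactBr.pt h

theorem pt_eq_one_iff {L : Type u} [CommRing L] [Algebra R L] (gam : A →ₐ[R] L) :
    CoactBr.pt gam = 1 ↔ gam = unitHom A L := by
  rw [CoactBr.one_eq_pt]
  constructor
  · intro h
    exact CoactBr.pt_injective h
  · intro h
    exact congrArg CoactBr.pt h

theorem inT_iff {K : Type u} [CommRing K] [Algebra R K] (x : B →ₐ[R] K) :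
    (∀ (T : Over (Spec (CommRingCat.of R))) (h : T ⟶ CoactBr.sp R K) (g : T ⟶ CoactBr.sp R A),
        lift g (h ≫ CoactBr.pt x) ≫ (CoactBr.action R A B).act = h ≫ CoactBr.pt x → g = 1) ↔
      InT (A := A) x := by
  constructor
  · intro H L _ _ h gam hfix
    have h1 := H (CoactBr.sp R L) (CoactBr.pt h) (CoactBr.pt gam)
    rw [← CoactBr.pt_comp, pt_fix_iff, pt_eq_one_iff] at h1
    exact h1 hfix
  · intro H T h g hfix
    letI : Algebra R (Gam T) := algGam T
    rw [act_fix_iff, ract_fix_iff, sharp_comp_pt] at hfix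
    rw [eq_one_iff]
    exact H (Gam T) (sharp h) (sharp g) hfix

theorem free_iff :
    (∀ (T : Over (Spec (CommRingCat.of R))) (ζ : T ⟶ CoactBr.sp R B) (g : T ⟶ CoactBr.sp R A),
        lift g ζ ≫ (CoactBr.action R A B).act = ζ → g = 1) ↔ FreeA R A B := by
  constructor
  · intro H L _ _ ξ gam hfix
    have h1 := H (CoactBr.sp R L) (CoactBr.pt ξ) (CoactBr.pt gam)
    rw [pt_fix_iff, pt_eq_one_iff] at h1
    exact h1 hfix
  · intro H T ζ g hfix
    letI : Algebra R (Gam T) := algGam T
    rw [act_fix_iff, ract_fix_iff] at hfix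
    rw [eq_one_iff]
    exact H (Gam T) (sharp ζ) (sharp g) hfix

end Action

end Groth.Agent.Lib.Helper7.AffPt
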