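import Groth.Agent.Lib.Helper7.GITBasic
import Mathlib.RingTheory.MvPolynomial.Homogeneous

/-!
# Linear coactions on polynomial rings: the grading (helper7)
-/

universe u v v' w w' w''

open TensorProduct

namespace Groth.Agent.Lib.Helper7.Comod

open HopfRep

section Graded

variable {k : Type u} [Field k] {A : Type v} [CommRing A] [Bialgebra k A]
variable {ι : Type w} [Fintype ι] [Comod k A (MvPolynomial ι k)]
  [GLin.IsCoactAlg k A (MvPolynomial ι k)]

/-- For a linear coaction the homogeneous polynomials of each degree form a subcomodule. -/
theorem isSubcomod_homogeneousSubmodule (hlin : GLin.IsLinear k A ι) (d : ℕ) :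
    IsSubcomod (k := k) (A := A) (MvPolynomial.homogeneousSubmodule ι k d) := by
  rw [← MvPolynomial.homogeneousSubmodule_one_pow]
  apply isSubcomod_pow
  rw [MvPolynomial.homogeneousSubmodule_one_eq_span_X]
  apply isSubcomod_span
  rintro _ ⟨i, rfl⟩
  obtain ⟨m, hm⟩ := hlin i
  rw [hm]
  refine Submodule.sum_mem _ fun j _ => ?_
  exact tmul_mem_range_rTensor (Submodule.subset_span (Set.mem_range_self j)) _

/-- For a linear coaction, taking the homogeneous component of degree `d` is a comodule map. -/
theorem isComodHom_homogeneousComponent (hlin : GLin.IsLinear k A ι) (d : ℕ) :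
    Hoch.IsComodHom A (MvPolynomial.homogeneousComponent (R := k) (σ := ι) d) := by
  rw [isComodHom_iff]
  have key : ∀ (i : ℕ) (g : MvPolynomial ι k), g ∈ MvPolynomial.homogeneousSubmodule ι k i →
      Comod.coact (k := k) (A := A) (MvPolynomial.homogeneousComponent d g) =
        (MvPolynomial.homogeneousComponent (R := k) (σ := ι) d).rTensor A
          (Comod.coact (k := k) (A := A) g) := by
    intro i g hg
    obtain ⟨z, hz⟩ := isSubcomod_homogeneousSubmodule hlin i g hg
    rw [← hz, ← LinearMap.rTensor_comp_apply,
      MvPolynomial.homogeneousComponent_of_mem hg]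
    by_cases hdi : d = i
    · subst hdi
      have : MvPolynomial.homogeneousComponent (R := k) (σ := ι) d ∘ₗ
          (MvPolynomial.homogeneousSubmodule ι k d).subtype =
          (MvPolynomial.homogeneousSubmodule ι k d).subtype := by
        ext p
        simp only [LinearMap.comp_apply, Submodule.subtype_apply]
        rw [MvPolynomial.homogeneousComponent_of_mem p.2, if_pos rfl]
      rw [this, if_pos rfl, hz]
    · have : MvPolynomial.homogeneousComponent (R := k) (σ := ι) d ∘ₗ
          (MvPolynomial.homogeneousSubmodule ι k i).subtype = 0 := by
        ext p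
        simp only [LinearMap.comp_apply, Submodule.subtype_apply, LinearMap.zero_apply]
        rw [MvPolynomial.homogeneousComponent_of_mem p.2, if_neg hdi]
      rw [this, if_neg hdi, map_zero, LinearMap.rTensor_zero, LinearMap.zero_apply]
  intro f
  conv_lhs => rw [← MvPolynomial.sum_homogeneousComponent f]
  conv_rhs => rw [← MvPolynomial.sum_homogeneousComponent f]
  simp only [map_sum]
  exact Finset.sum_congr rfl fun i _ => key i _ (MvPolynomial.homogeneousComponent_mem i f)

/-- S19603. -/
theorem isSemistableVec_iff (hR : IsSemisimpleComod k A (MvPolynomial ι k))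
    (hlin : GLin.IsLinear k A ι) (v : ι → k) :
    GLin.IsSemistableVec k A v ↔
      ¬ GLin.InOrbitClosure k A (GLin.vecPt k ι v) (GLin.vecPt k ι (fun _ => (0 : k))) := by
  constructor
  · intro hss hcl
    apply hss
    intro F hF d hd hFd
    have h1 := apply_eq_of_inOrbitClosure hcl hF
    have h2 : GLin.vecPt k ι (fun _ => (0 : k)) F = 0 := by
      change MvPolynomial.aeval (fun _ => (0 : k)) F = 0
      rw [MvPolynomial.aeval_zero']
      have : MvPolynomial.constantCoeff F = 0 := by
        rw [MvPolynomial.constantCoeff_eq]
        exact hFd.coeff_eq_zero (by simpa using hd.ne)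
      rw [this, map_zero]
    rw [h2] at h1
    rw [← MvPolynomial.aeval_eq_eval v]
    exact h1.symm
  · intro hncl
    -- the ideal of the origin is the kernel of the degree-zero component
    set o := GLin.vecPt k ι (fun _ => (0 : k)) with ho
    set x := GLin.vecPt k ι v with hx
    have ho_apply : ∀ f : MvPolynomial ι k, o f = MvPolynomial.coeff 0 f := by
      intro f
      change MvPolynomial.aeval (fun _ => (0 : k)) f = _
      rw [MvPolynomial.aeval_zero', MvPolynomial.constantCoeff_eq]
      rfl
    have hker : IsSubcomod (k := k) (A := A) ((RingHom.ker o.toRingHom).restrictScalars k) := by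
      have h := isSubcomod_ker (isComodHom_homogeneousComponent (A := A) hlin 0)
      have e : (RingHom.ker o.toRingHom).restrictScalars k =
          LinearMap.ker (MvPolynomial.homogeneousComponent (R := k) (σ := ι) 0) := by
        ext f
        simp only [Submodule.restrictScalars_mem, RingHom.mem_ker, LinearMap.mem_ker,
          MvPolynomial.homogeneousComponent_zero]
        change o f = 0 ↔ _
        rw [ho_apply]
        constructor
        · intro h; rw [h, map_zero]
        · intro h
          have := congrArg (MvPolynomial.coeff 0) h
          simpa using this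
      rw [e]; exact h
    have hmax : (RingHom.ker o.toRingHom).IsMaximal :=
      RingHom.ker_isMaximal_of_surjective o.toRingHom (fun c => ⟨algebraMap k _ c, by simp⟩)
    have htop : RingHom.ker o.toRingHom ⊔ RingHom.ker (GLin.orbitHom k A x).toRingHom = ⊤ := by
      by_contra hne
      have := hmax.eq_of_le hne le_sup_left
      apply hncl
      intro f hf
      have hf' : f ∈ RingHom.ker o.toRingHom ⊔ RingHom.ker (GLin.orbitHom k A x).toRingHom :=
        Ideal.mem_sup_right hf
      rw [← this] at hf'
      exact hf'
    obtain ⟨f, hf, hf1, hf2⟩ := exists_invariant_separating hR _ _ hker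
      (isSubcomod_ker_orbitHom x) htop
    have e2 : x (f - 1) = 0 := ker_orbitHom_le_ker (A := A) x hf2
    rw [map_sub, map_one, sub_eq_zero] at e2
    have e1 : MvPolynomial.homogeneousComponent 0 f = 0 := by
      rw [MvPolynomial.homogeneousComponent_zero, ← ho_apply]
      have : o f = 0 := hf1
      rw [this, map_zero]
    intro hnull
    have hsum : x f = ∑ i ∈ Finset.range (f.totalDegree + 1),
        x (MvPolynomial.homogeneousComponent i f) := by
      conv_lhs => rw [← MvPolynomial.sum_homogeneousComponent f]
      rw [map_sum]
    have hzero : ∀ i ∈ Finset.range (f.totalDegree + 1),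
        x (MvPolynomial.homogeneousComponent i f) = 0 := by
      intro i _
      rcases Nat.eq_zero_or_pos i with rfl | hi
      · rw [e1, map_zero]
      · have := hnull _ (map_mem_fixedPts (isComodHom_homogeneousComponent (A := A) hlin i) hf) i hi
          (MvPolynomial.homogeneousComponent_isHomogeneous i f)
        rw [← MvPolynomial.aeval_eq_eval v] at this
        exact this
    rw [Finset.sum_eq_zero hzero, e2] at hsum
    exact one_ne_zero hsum

end Graded

end Groth.Agent.Lib.Helper7.Comod
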