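import Groth.Agent.Lib.Helper7.VC2

/-!
# The valuative criterion for closures of images (Chevalley's extension theorem, assembled)
-/

namespace Groth.Agent.Lib.Helper7.VC

open Polynomial

universe u

section Place

variable {k L : Type*} [Field k] [Field L] [Algebra k L] {T : Subalgebra k (L × k)}

/-- the place: the second coordinate on the graph -/
noncomputable def resHom (hT : Adm T) : ↥(S T) →ₐ[k] k where
  toFun s := Classical.choose s.2
  map_one' := snd_unique hT (Classical.choose_spec (1 : ↥(S T)).2) (one_one_mem T)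
  map_mul' a b := snd_unique hT (Classical.choose_spec (a * b).2)
    (by simpa using T.mul_mem (Classical.choose_spec a.2) (Classical.choose_spec b.2))
  map_zero' := snd_unique hT (Classical.choose_spec (0 : ↥(S T)).2) T.zero_mem
  map_add' a b := snd_unique hT (Classical.choose_spec (a + b).2)
    (by simpa using T.add_mem (Classical.choose_spec a.2) (Classical.choose_spec b.2))
  commutes' r := by
    refine snd_unique hT (Classical.choose_spec (algebraMap k ↥(S T) r).2) ?_
    have := T.algebraMap_mem r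
    have e : algebraMap k (L × k) r = (algebraMap k L r, r) := by
      ext <;> simp [Algebra.algebraMap_eq_smul_one]
    rw [e] at this
    exact this

theorem resHom_eq (hT : Adm T) {s : ↥(S T)} {c : k} (h : ((s : L), c) ∈ T) : resHom hT s = c :=
  snd_unique hT (Classical.choose_spec s.2) h

theorem resHom_surjective (hT : Adm T) : Function.Surjective (resHom hT) := fun c =>
  ⟨algebraMap k _ c, (resHom hT).commutes c⟩

end Place

theorem exists_max_adm {k L : Type*} [Field k] [Field L] [Algebra k L] (T₀ : Subalgebra k (L × k))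
    (h₀ : Adm T₀) :
    ∃ T : Subalgebra k (L × k), T₀ ≤ T ∧ Adm T ∧
      ∀ T' : Subalgebra k (L × k), Adm T' → T ≤ T' → T' ≤ T := by
  have hz : ∀ c ⊆ {T : Subalgebra k (L × k) | Adm T}, IsChain (· ≤ ·) c → ∀ y ∈ c,
      ∃ ub ∈ {T : Subalgebra k (L × k) | Adm T}, ∀ z ∈ c, z ≤ ub := by
    intro c hcs hc y hy
    refine ⟨sSup c, ?_, fun z hz => le_sSup hz⟩
    have hdir : Directed (· ≤ ·) (fun i : c => (i : Subalgebra k (L × k))) :=
      hc.directedOn.directed_val
    haveI : Nonempty c := ⟨⟨y, hy⟩⟩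
    intro hmem
    rw [sSup_eq_iSup'] at hmem
    have hmem' : (((0 : L), (1 : k)) : L × k) ∈
        ((⨆ i : c, (i : Subalgebra k (L × k)) : Subalgebra k (L × k)) : Set (L × k)) := hmem
    rw [Subalgebra.coe_iSup_of_directed hdir, Set.mem_iUnion] at hmem'
    obtain ⟨i, hi⟩ := hmem'
    exact hcs i.2 hi
  obtain ⟨T, hle, hM⟩ := zorn_le_nonempty₀ {T : Subalgebra k (L × k) | Adm T} hz T₀ h₀
  exact ⟨T, hle, hM.1, fun T' h hle' => hM.2 h hle'⟩

/-- Valuative criterion: if `y` lies in the closure of the image of `Spec A → Spec B`, there is a valuation ring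
with residue field `k` and a point of `A` with values in its fraction field specialising to `y`. -/
theorem exists_place (k : Type u) [Field k] [IsAlgClosed k] (B A : Type u) [CommRing B] [CommRing A]
    [Algebra k B] [Algebra k A] (φ : B →ₐ[k] A) (y : B →ₐ[k] k)
    (hy : RingHom.ker φ ≤ RingHom.ker y) :
    ∃ (R : Type u) (_ : CommRing R) (_ : IsDomain R) (_ : ValuationRing R) (_ : Algebra k R)
      (res : R →ₐ[k] k) (Ξ : A →ₐ[k] FractionRing R) (h : B →ₐ[k] R),
      RingHom.ker res = IsLocalRing.maximalIdeal R ∧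
        (IsScalarTower.toAlgHom k R (FractionRing R)).comp h = Ξ.comp φ ∧ res.comp h = y := by
  -- a prime of `A` whose contraction lies in `ker y`
  haveI : (RingHom.ker y).IsPrime := RingHom.ker_isPrime y
  have hcomap : RingHom.ker φ = (⊥ : Ideal A).comap (φ : B →+* A) := by
    ext b; simp [RingHom.mem_ker, Ideal.mem_comap]
  obtain ⟨p, hp, hpy⟩ := Ideal.exists_minimalPrimes_le hy
  rw [hcomap] at hp
  obtain ⟨Q, hQ, -, hQp⟩ := Ideal.exists_comap_eq_of_mem_minimalPrimes (φ : B →+* A) p hp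
  haveI := hQ
  let D := A ⧸ Q
  let L := FractionRing D
  let toL : A →ₐ[k] L := (IsScalarTower.toAlgHom k D L).comp (Ideal.Quotient.mkₐ k Q)
  let ψ : B →ₐ[k] L := toL.comp φ
  have hψ : ∀ b : B, ψ b = 0 → y b = 0 := by
    intro b hb
    have h1 : algebraMap D L (Ideal.Quotient.mk Q (φ b)) = 0 := hb
    have h2 : Ideal.Quotient.mk Q (φ b) = 0 :=
      (IsFractionRing.injective D L) (by rw [h1, map_zero])
    have h3 : φ b ∈ Q := Ideal.Quotient.eq_zero_iff_mem.mp h2
    have h4 : b ∈ p := by rw [← hQp]; exact h3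
    exact (RingHom.mem_ker).mp (hpy h4)
  let T₀ : Subalgebra k (L × k) := (AlgHom.prod ψ y).range
  have hT₀ : Adm T₀ := by
    rintro ⟨b, hb⟩
    have hb' : (ψ b, y b) = ((0 : L), (1 : k)) := hb
    have h1 : ψ b = 0 := congrArg Prod.fst hb'
    have h2 : y b = 1 := congrArg Prod.snd hb'
    rw [hψ b h1] at h2
    exact zero_ne_one h2
  obtain ⟨T, hle, hT, hmax⟩ := exists_max_adm T₀ hT₀
  have hval : ∀ x : L, x ≠ 0 → x ∈ S T ∨ x⁻¹ ∈ S T := fun x hx => mem_or_inv_mem hT hmax hx
  haveI : FaithfulSMul ↥(S T) L :=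
    (faithfulSMul_iff_algebraMap_injective _ _).mpr Subtype.val_injective
  haveI hfr : IsFractionRing ↥(S T) L := by
    refine IsFractionRing.of_field (R := ↥(S T)) L fun z => ?_
    by_cases hz : z = 0
    · exact ⟨0, 1, by simp [hz]⟩
    · rcases hval z hz with h | h
      · exact ⟨⟨z, h⟩, 1, by simp⟩
      · refine ⟨1, ⟨z⁻¹, h⟩, ?_⟩
        change z = algebraMap ↥(S T) L 1 / z⁻¹
        simp
  haveI hvr : ValuationRing ↥(S T) := by
    refine (ValuationRing.iff_isInteger_or_isInteger ↥(S T) L).mpr fun x => ?_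
    by_cases hx : x = 0
    · exact Or.inl ⟨0, by simp [hx]⟩
    · rcases hval x hx with h | h
      · exact Or.inl ⟨⟨x, h⟩, rfl⟩
      · exact Or.inr ⟨⟨x⁻¹, h⟩, rfl⟩
  have hmemT : ∀ b : B, (ψ b, y b) ∈ T := fun b => hle ⟨b, rfl⟩
  let h : B →ₐ[k] ↥(S T) := ψ.codRestrict (S T) (fun b => ⟨y b, hmemT b⟩)
  let e : FractionRing ↥(S T) ≃ₐ[↥(S T)] L := FractionRing.algEquiv ↥(S T) L
  let Ξ : A →ₐ[k] FractionRing ↥(S T) := ((e.symm.restrictScalars k) : L →ₐ[k] FractionRing ↥(S T)).comp toL
  refine ⟨↥(S T), inferInstance, inferInstance, hvr, inferInstance, resHom hT, Ξ, h, ?_, ?_, ?_⟩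
  · exact IsLocalRing.eq_maximalIdeal
      (RingHom.ker_isMaximal_of_surjective (resHom hT) (resHom_surjective hT))
  · apply AlgHom.ext
    intro b
    apply e.injective
    change e (algebraMap ↥(S T) (FractionRing ↥(S T)) (h b)) = e (e.symm (toL (φ b)))
    rw [AlgEquiv.commutes, AlgEquiv.apply_symm_apply]
    rfl
  · apply AlgHom.ext
    intro b
    exact resHom_eq hT (hmemT b)

end Groth.Agent.Lib.Helper7.VC
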