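import Groth.Agent.Lib.Helper7.BF9

/-!
# Binary forms, X: a form with a root of multiplicity at least `d/2` is not stable (helper7)
-/

set_option autoImplicit false

universe u

open TensorProduct

namespace Groth.Agent.Lib.Helper7.BF

open HopfRep CoordGrp Groth.Agent.Lib.Helper7.WZ Groth.Agent.Lib.Helper7.SLnRed

section NotStable

variable {k : Type u} [Field k] [CharZero k] (d : ℕ)

/-- move a root of multiplicity `e` to `x₀`. -/
theorem exists_move_root (a : FormIdx 2 d → k) (ℓ : MvPolynomial (Fin 2) k)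
    (hℓ : ℓ.IsHomogeneous 1) (hℓ0 : ℓ ≠ 0) (e : ℕ) (hdvd : ℓ ^ e ∣ formPoly a) :
    ∃ (N : Matrix (Fin 2) (Fin 2) k) (hN : N.det = 1),
      ∀ m : FormIdx 2 d, Matrix.vecMul a (rep d (SLn.pt 2 k N hN)) m ≠ 0 → e ≤ m.1 0 := by
  classical
  obtain ⟨α, β, rfl⟩ := exists_coeffs ℓ hℓ
  obtain ⟨p, q, hpq⟩ : ∃ p q : k, α * p + β * q = 1 := by
    by_cases hα : α = 0
    · have hβ : β ≠ 0 := by
        rintro rfl
        apply hℓ0
        rw [hα]; simp
      exact ⟨0, β⁻¹, by rw [mul_inv_cancel₀ hβ]; ring⟩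
    · exact ⟨α⁻¹, 0, by rw [mul_inv_cancel₀ hα]; ring⟩
  let N : Matrix (Fin 2) (Fin 2) k := !![p, -β; q, α]
  have hN : N.det = 1 := by
    simp only [N, Matrix.det_fin_two_of]
    linear_combination hpq
  have hτℓ : tau N (α • MvPolynomial.X 0 + β • MvPolynomial.X 1) =
      (MvPolynomial.X 0 : MvPolynomial (Fin 2) k) := by
    unfold tau
    rw [map_add, map_smul, map_smul, MvPolynomial.aeval_X, MvPolynomial.aeval_X,
      Fin.sum_univ_two, Fin.sum_univ_two]
    simp only [N, Matrix.of_apply, Matrix.cons_val', Matrix.cons_val_zero, Matrix.cons_val_one,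
      Matrix.cons_val_fin_one]
    simp only [MvPolynomial.smul_eq_C_mul, map_neg]
    have : (MvPolynomial.C α : MvPolynomial (Fin 2) k) * MvPolynomial.C p +
        MvPolynomial.C β * MvPolynomial.C q = 1 := by
      rw [← map_mul, ← map_mul, ← map_add, hpq, map_one]
    linear_combination (MvPolynomial.X 0 : MvPolynomial (Fin 2) k) * this
  refine ⟨N, hN, ?_⟩
  set b : FormIdx 2 d → k := Matrix.vecMul a (rep d (SLn.pt 2 k N hN)) with hbdef
  have hform : formPoly b = tau N (formPoly a) :=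
    formPoly_vecMul d _ N (fun i j => SLn.pt_X _ _ i j) a
  obtain ⟨g, hg⟩ := hdvd
  have hform' : formPoly b =
      MvPolynomial.monomial (Finsupp.single (0 : Fin 2) e) (1 : k) * tau N g := by
    rw [hform, hg, map_mul, map_pow, hτℓ, MvPolynomial.X_pow_eq_monomial]
  intro m hm
  by_contra hlt
  apply hm
  have h1 := coeff_formPoly b m
  rw [hform', MvPolynomial.coeff_monomial_mul', if_neg] at h1
  · rcases mul_eq_zero.mp h1.symm with h2 | h2
    · exact absurd h2 (multinomial_ne_zero m.1)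
    · exact h2
  · intro hle
    have := hle 0
    simp only [Finsupp.single_eq_same] at this
    omega

variable [IsAlgClosed k]

/-- a closed orbit contains the rational points of its closure. -/
theorem exists_point_of_isClosedOrbit (a y : FormIdx 2 d → k)
    (hclosed : @GLin.IsClosedOrbit k _ (H2 k) _ _ (FormRing k 2 d) _ _ (formsComod k d)
      (formsComod_isCoactAlg k d) (GLin.vecPt k (FormIdx 2 d) a))
    (hcl : @GLin.InOrbitClosure k _ (H2 k) _ _ (FormRing k 2 d) _ _ (formsComod k d)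
      (formsComod_isCoactAlg k d) (GLin.vecPt k (FormIdx 2 d) a) (GLin.vecPt k (FormIdx 2 d) y)) :
    ∃ g : H2 k →ₐ[k] k, Matrix.vecMul a (rep d g) = y := by
  letI := formsComod k d
  haveI := formsComod_isCoactAlg k d
  set φ := GLin.orbitHom k (H2 k) (GLin.vecPt k (FormIdx 2 d) a) with hφ
  haveI : (RingHom.ker (GLin.vecPt k (FormIdx 2 d) y)).IsPrime := RingHom.ker_isPrime _
  let xy : PrimeSpectrum (FormRing k 2 d) := ⟨RingHom.ker (GLin.vecPt k (FormIdx 2 d) y), inferInstance⟩
  have hmem : xy ∈ Set.range (PrimeSpectrum.comap φ.toRingHom) := by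
    have h1 : xy ∈ closure (Set.range (PrimeSpectrum.comap φ.toRingHom)) := by
      rw [PrimeSpectrum.closure_range_comap, PrimeSpectrum.mem_zeroLocus]
      exact hcl
    rwa [IsClosed.closure_eq hclosed] at h1
  obtain ⟨q, hq⟩ := hmem
  obtain ⟨M, hM, hqM⟩ := Ideal.exists_le_maximal q.asIdeal q.2.ne_top
  haveI := finiteType_H2 k
  letI : Field (H2 k ⧸ M) := Ideal.Quotient.field M
  haveI : Algebra.FiniteType k (H2 k ⧸ M) :=
    Algebra.FiniteType.of_surjective (Ideal.Quotient.mkₐ k M) Ideal.Quotient.mk_surjective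
  haveI : Module.Finite k (H2 k ⧸ M) := finite_of_finite_type_of_isJacobsonRing k (H2 k ⧸ M)
  have hbij : Function.Bijective (algebraMap k (H2 k ⧸ M)) :=
    IsAlgClosed.algebraMap_bijective_of_isIntegral
  let ek : k ≃ₐ[k] (H2 k ⧸ M) := AlgEquiv.ofBijective (Algebra.ofId k (H2 k ⧸ M)) hbij
  let g : H2 k →ₐ[k] k := (ek.symm : (H2 k ⧸ M) →ₐ[k] k).comp (Ideal.Quotient.mkₐ k M)
  have hgM : ∀ x ∈ M, g x = 0 := by
    intro x hx
    change ek.symm (Ideal.Quotient.mk M x) = 0
    rw [Ideal.Quotient.eq_zero_iff_mem.mpr hx, map_zero]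
  refine ⟨g, ?_⟩
  funext m
  have h2 := congrArg (fun ψ => ψ (MvPolynomial.X m)) (comp_orbitHom k d a g)
  simp only [AlgHom.comp_apply, MvPolynomial.aeval_X] at h2
  have h3 : (MvPolynomial.X m - MvPolynomial.C (y m) : FormRing k 2 d) ∈ xy.asIdeal := by
    change _ ∈ RingHom.ker (GLin.vecPt k (FormIdx 2 d) y)
    rw [RingHom.mem_ker]; simp
  rw [← hq] at h3
  have h4 : φ (MvPolynomial.X m - MvPolynomial.C (y m)) ∈ M := hqM h3
  have h5 := hgM _ h4
  rw [map_sub, map_sub, sub_eq_zero] at h5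
  have h6 : Matrix.vecMul (fun l => algebraMap k k (a l)) (rep d g) m = y m := by
    rw [← h2, h5, ← MvPolynomial.algebraMap_eq, AlgHom.commutes, AlgHom.commutes]
    rfl
  exact h6

end NotStable

end Groth.Agent.Lib.Helper7.BF
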