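import Groth.Agent.Lib.Helper7.BF10

/-!
# Binary forms, XI: stability of binary forms (helper7)
-/

set_option autoImplicit false

universe u

open TensorProduct

namespace Groth.Agent.Lib.Helper7.BF

open HopfRep CoordGrp Groth.Agent.Lib.Helper7.WZ Groth.Agent.Lib.Helper7.SLnRed

section NotStable

variable {k : Type u} [Field k] [CharZero k] [IsAlgClosed k] (d : ℕ)

theorem not_stable_of_root (a : FormIdx 2 d → k) (ℓ : MvPolynomial (Fin 2) k)
    (hℓ : ℓ.IsHomogeneous 1) (hℓ0 : ℓ ≠ 0) (e : ℕ) (he : d ≤ 2 * e) (hdvd : ℓ ^ e ∣ formPoly a) :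
    ¬ @GLin.IsStablePt k _ (H2 k) _ _ (FormRing k 2 d) _ _ (formsComod k d)
      (formsComod_isCoactAlg k d) (GLin.vecPt k (FormIdx 2 d) a) := by
  classical
  rintro ⟨hclosed, hfin⟩
  letI := formsComod k d
  haveI := formsComod_isCoactAlg k d
  obtain ⟨N, hN, hsuppb⟩ := exists_move_root d a ℓ hℓ hℓ0 e hdvd
  set b : FormIdx 2 d → k := Matrix.vecMul a (rep d (SLn.pt 2 k N hN)) with hbdef
  have hdeg : ∀ m : FormIdx 2 d, m.1 0 + m.1 1 = d := by
    intro m
    have := m.2
    rw [Finsupp.degree_eq_sum, Fin.sum_univ_two] at this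
    exact this
  have hb : ∀ m : FormIdx 2 d, b m ≠ 0 → m.1 1 ≤ m.1 0 := by
    intro m hm
    have := hsuppb m hm
    have := hdeg m
    omega
  -- the limit point
  let y : FormIdx 2 d → k := fun m => if m.1 0 = m.1 1 then b m else 0
  -- the one-parameter subgroup
  let K' := FractionRing (Polynomial k)
  let ι' : Polynomial k →ₐ[k] K' := IsScalarTower.toAlgHom k (Polynomial k) K'
  have hι'inj : Function.Injective ι' := IsFractionRing.injective (Polynomial k) K'
  let T : K' := ι' Polynomial.X
  have hT : T ≠ 0 := by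
    intro h0
    have : (Polynomial.X : Polynomial k) = 0 := hι'inj (by rw [map_zero]; exact h0)
    exact Polynomial.X_ne_zero this
  have hD : (dg K' T).det = 1 := by
    simp [dg, Matrix.det_fin_two, mul_inv_cancel₀ hT]
  let pD : H2 k →ₐ[k] K' := SLn.pt 2 k (dg K' T) hD
  have hrepD : ∀ l m : FormIdx 2 d, rep d pD l m =
      if l = m then T ^ (l.1 0) * (T⁻¹) ^ (l.1 1) else 0 := fun l m =>
    rep_diag d pD T T⁻¹ (by simp [pD, dg]) (by simp [pD, dg]) (by simp [pD, dg])
      (by simp [pD, dg]) l m
  have hvecD : ∀ (v : FormIdx 2 d → K') (m : FormIdx 2 d),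
      Matrix.vecMul v (rep d pD) m = v m * (T ^ (m.1 0) * (T⁻¹) ^ (m.1 1)) := by
    intro v m
    rw [Matrix.vecMul, dotProduct, Finset.sum_eq_single m]
    · rw [hrepD, if_pos rfl]
    · intro l _ hl
      rw [hrepD, if_neg hl, mul_zero]
    · intro h'; exact absurd (Finset.mem_univ m) h'
  -- step 1: y is in the orbit closure
  have hcl : GLin.InOrbitClosure k (H2 k) (GLin.vecPt k (FormIdx 2 d) a)
      (GLin.vecPt k (FormIdx 2 d) y) := by
    let pN : H2 k →ₐ[k] K' := (Algebra.ofId k K').comp (SLn.pt 2 k N hN)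
    let Ξ : H2 k →ₐ[k] K' := cv pN pD
    let c : FormIdx 2 d → Polynomial k :=
      fun m => Polynomial.C (b m) * Polynomial.X ^ (m.1 0 - m.1 1)
    have hmoved : Matrix.vecMul (fun l => algebraMap k K' (a l)) (rep d Ξ) = fun m => ι' (c m) := by
      have h1 : rep d Ξ = (rep d (SLn.pt 2 k N hN)).map (Algebra.ofId k K') * rep d pD := by
        rw [rep_cv, rep_comp]
      rw [h1, ← Matrix.vecMul_vecMul]
      have h2 : Matrix.vecMul (fun l => algebraMap k K' (a l))
          ((rep d (SLn.pt 2 k N hN)).map (Algebra.ofId k K')) = fun m => algebraMap k K' (b m) := by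
        funext m
        have := RingHom.map_vecMul (algebraMap k K') (rep d (SLn.pt 2 k N hN)) a m
        change _ = algebraMap k K' (Matrix.vecMul a (rep d (SLn.pt 2 k N hN)) m)
        rw [this]
        rfl
      rw [h2]
      funext m
      rw [hvecD]
      by_cases hbm : b m = 0
      · simp [c, hbm]
      · have hle := hb m hbm
        have hsplit : m.1 0 = (m.1 0 - m.1 1) + m.1 1 := by omega
        simp only [c, map_mul, map_pow]
        conv_lhs => rw [hsplit, pow_add]
        rw [inv_pow, mul_assoc (T ^ (m.1 0 - m.1 1)), mul_inv_cancel₀ (pow_ne_zero _ hT), mul_one]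
        congr 1
    intro f hf
    rw [RingHom.mem_ker] at hf ⊢
    have h1 : Ξ (GLin.orbitHom k (H2 k) (GLin.vecPt k (FormIdx 2 d) a) f) = 0 := by
      rw [hf, map_zero]
    have h2 := congrArg (fun φ => φ f) (comp_orbitHom k d a Ξ)
    simp only [AlgHom.comp_apply] at h2
    rw [h1, hmoved] at h2
    have h3 : ι' (MvPolynomial.aeval c f) = 0 := by
      have := congrArg (fun φ => φ f) (MvPolynomial.comp_aeval (f := c) ι')
      simp only [AlgHom.comp_apply] at this
      rw [this, ← h2]
    have h4 : MvPolynomial.aeval c f = 0 := hι'inj (by rw [h3, map_zero])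
    have h5 := congrArg (Polynomial.aeval (0 : k)) h4
    have h6 := congrArg (fun φ => φ f)
      (MvPolynomial.comp_aeval (f := c) (Polynomial.aeval (0 : k) : Polynomial k →ₐ[k] k))
    simp only [AlgHom.comp_apply] at h6
    rw [h6, map_zero] at h5
    have h7 : (fun m => Polynomial.aeval (0 : k) (c m)) = y := by
      funext m
      by_cases hbm : b m = 0
      · simp [c, y, hbm]
      · have hle := hb m hbm
        have := hdeg m
        by_cases heq : m.1 0 = m.1 1
        · simp [c, y, heq]
        · have : m.1 0 - m.1 1 ≠ 0 := by omega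
          simp [c, y, heq, this]
    rw [h7] at h5
    exact h5
  -- step 2: y is in the orbit
  obtain ⟨g, hg⟩ := exists_point_of_isClosedOrbit d a y hclosed hcl
  -- step 3: a point of the stabiliser over `k(T)`
  let Mg : Matrix (Fin 2) (Fin 2) k := fun i j => g (SLn.X i j)
  have hMg : Mg.det = 1 := by
    rw [Matrix.det_fin_two]
    have := congrArg g (sl_det k)
    simpa [map_sub, map_mul] using this
  have hgpt : g = SLn.pt 2 k Mg hMg := pt_eq g Mg hMg (fun _ _ => rfl)
  let gi : H2 k →ₐ[k] k := SLn.pt 2 k (adj2 Mg) (adj2_det Mg hMg)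
  let gK : H2 k →ₐ[k] K' := (Algebra.ofId k K').comp g
  let giK : H2 k →ₐ[k] K' := (Algebra.ofId k K').comp gi
  let Ξ : H2 k →ₐ[k] K' := cv (cv gK pD) giK
  have hback : Matrix.vecMul y (rep d gi) = a := by
    rw [← hg, Matrix.vecMul_vecMul]
    have : rep d g * rep d gi = 1 := by
      rw [hgpt]; exact rep_mul_adj2 d Mg hMg
    rw [this, Matrix.vecMul_one]
  have hstab : Matrix.vecMul (fun l => algebraMap k K' (a l)) (rep d Ξ) =
      fun m => algebraMap k K' (a m) := by
    have h1 : rep d Ξ = (rep d g).map (Algebra.ofId k K') * rep d pD *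
        (rep d gi).map (Algebra.ofId k K') := by
      rw [rep_cv, rep_cv, rep_comp, rep_comp]
    rw [h1, ← Matrix.vecMul_vecMul, ← Matrix.vecMul_vecMul]
    have h2 : Matrix.vecMul (fun l => algebraMap k K' (a l))
        ((rep d g).map (Algebra.ofId k K')) = fun m => algebraMap k K' (y m) := by
      funext m
      have := RingHom.map_vecMul (algebraMap k K') (rep d g) a m
      rw [← hg]
      change _ = algebraMap k K' (Matrix.vecMul a (rep d g) m)
      rw [this]
      rfl
    rw [h2]
    have h3 : Matrix.vecMul (fun m => algebraMap k K' (y m)) (rep d pD) =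
        fun m => algebraMap k K' (y m) := by
      funext m
      rw [hvecD]
      by_cases heq : m.1 0 = m.1 1
      · rw [heq, inv_pow, mul_inv_cancel₀ (pow_ne_zero _ hT), mul_one]
      · simp [y, heq]
    rw [h3]
    funext m
    have := RingHom.map_vecMul (algebraMap k K') (rep d gi) y m
    rw [← hback]
    change _ = algebraMap k K' (Matrix.vecMul y (rep d gi) m)
    rw [this]
    rfl
  -- Ξ kills the stabiliser ideal
  set I : Ideal (H2 k) := GLin.stabIdeal k (H2 k) (GLin.vecPt k (FormIdx 2 d) a) with hI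
  have hkill : ∀ x ∈ I, Ξ x = 0 := by
    have hle : I ≤ RingHom.ker Ξ := by
      rw [hI]
      unfold GLin.stabIdeal
      rw [Ideal.map_le_iff_le_comap]
      intro f hf
      rw [Ideal.mem_comap, RingHom.mem_ker]
      have h2 := congrArg (fun φ => φ f) (comp_orbitHom k d a Ξ)
      simp only [AlgHom.comp_apply] at h2
      change Ξ (GLin.orbitHom k (H2 k) (GLin.vecPt k (FormIdx 2 d) a) f) = 0
      rw [h2, hstab]
      have h3 := congrArg (fun φ => φ f)
        (MvPolynomial.comp_aeval (f := a) (Algebra.ofId k K'))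
      simp only [AlgHom.comp_apply] at h3
      change MvPolynomial.aeval (fun m => (Algebra.ofId k K') (a m)) f = 0
      rw [← h3]
      have : MvPolynomial.aeval a f = 0 := (RingHom.mem_ker).mp hf
      rw [this, map_zero]
    intro x hx
    exact (RingHom.mem_ker).mp (hle hx)
  -- the trace of the point is `T + T⁻¹`, which is not algebraic over `k`
  let Ξbar : (H2 k ⧸ I) →ₐ[k] K' := Ideal.Quotient.liftₐ I Ξ hkill
  haveI : Module.Finite k (H2 k ⧸ I) := hfin
  have hint : ∀ x : H2 k, IsIntegral k (Ξ x) := by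
    intro x
    have h1 : IsIntegral k (Ideal.Quotient.mk I x) := Algebra.IsIntegral.isIntegral _
    have h2 := h1.map Ξbar
    exact h2
  have htrace : Ξ (SLn.X 0 0 + SLn.X 1 1) = T + T⁻¹ := by
    have hΞpt : ∀ i j, Ξ (SLn.X i j) = ((Mg.map (algebraMap k K')) * dg K' T *
        ((adj2 Mg).map (algebraMap k K'))) i j := by
      intro i j
      have e1 : gK = SLn.pt 2 k (Mg.map (Algebra.ofId k K')) (by
          have : Mg.map (Algebra.ofId k K') = (algebraMap k K').mapMatrix Mg := rfl
          rw [this, ← RingHom.map_det, hMg, map_one]) := by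
        apply pt_eq; intro i j; rfl
      have e2 : giK = SLn.pt 2 k ((adj2 Mg).map (Algebra.ofId k K')) (by
          have : (adj2 Mg).map (Algebra.ofId k K') = (algebraMap k K').mapMatrix (adj2 Mg) := rfl
          rw [this, ← RingHom.map_det, adj2_det Mg hMg, map_one]) := by
        apply pt_eq; intro i j
        change (Algebra.ofId k K') (gi (SLn.X i j)) = _
        rw [SLn.pt_X]; rfl
      change cv (cv gK pD) giK (SLn.X i j) = _
      rw [e1, e2, cv_pt, cv_pt, SLn.pt_X]
      rfl
    have hmm : (adj2 Mg).map (algebraMap k K') * Mg.map (algebraMap k K') = 1 := by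
      have := congrArg (fun A : Matrix (Fin 2) (Fin 2) k => (algebraMap k K').mapMatrix A)
        (adj2_mul Mg hMg)
      simp only [map_mul, map_one] at this
      exact this
    rw [map_add, hΞpt, hΞpt]
    have htr : Matrix.trace ((Mg.map (algebraMap k K')) * dg K' T *
        ((adj2 Mg).map (algebraMap k K'))) = T + T⁻¹ := by
      rw [Matrix.trace_mul_comm, ← Matrix.mul_assoc, hmm, Matrix.one_mul]
      simp [dg, Matrix.trace_fin_two]
    rw [Matrix.trace_fin_two] at htr
    exact htr
  have hI1 := hint (SLn.X 0 0 + SLn.X 1 1)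
  rw [htrace] at hI1
  have hdeg1 : (minpoly k (T + T⁻¹)).degree = 1 :=
    IsAlgClosed.degree_eq_one_of_irreducible k (minpoly.irreducible hI1)
  obtain ⟨c, hc⟩ := minpoly.mem_range_of_degree_eq_one k (T + T⁻¹) hdeg1
  -- `T² - cT + 1 = 0`
  have hpoly : ι' (Polynomial.X ^ 2 - Polynomial.C c * Polynomial.X + 1) = 0 := by
    rw [map_add, map_sub, map_mul, map_pow, map_one]
    change T ^ 2 - ι' (Polynomial.C c) * T + 1 = 0
    have : ι' (Polynomial.C c) = algebraMap k K' c := by
      rw [← Polynomial.algebraMap_eq]; exact ι'.commutes c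
    rw [this, hc, add_mul, inv_mul_cancel₀ hT]
    ring
  have hzero : (Polynomial.X ^ 2 - Polynomial.C c * Polynomial.X + 1 : Polynomial k) = 0 :=
    hι'inj (by rw [hpoly, map_zero])
  have hcoeff := congrArg (fun p : Polynomial k => p.coeff 2) hzero
  simp [Polynomial.coeff_X, Polynomial.coeff_one] at hcoeff

/-- stability of binary forms. -/
theorem isStableVec_iff_roots (a : FormIdx 2 d → k) :
    @GLin.IsStableVec k _ (H2 k) _ _ (FormIdx 2 d) (formsComod k d)
      (formsComod_isCoactAlg k d) a ↔
    ∀ ℓ : MvPolynomial (Fin 2) k, ℓ.IsHomogeneous 1 → ℓ ≠ 0 →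
      ∀ m : ℕ, ℓ ^ m ∣ formPoly a → 2 * m < d := by
  constructor
  · intro hst ℓ h1 h2 m hdvd
    by_contra hlt
    push Not at hlt
    exact not_stable_of_root d a ℓ h1 h2 m hlt hdvd hst
  · intro hroots
    exact ⟨isClosedOrbit_of_roots k d a hroots, hasFiniteStab_of_roots k d a hroots⟩

end NotStable

end Groth.Agent.Lib.Helper7.BF
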