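import Groth.Agent.Lib.Helper7.ComodIsotypic

/-!
# Linearly reductive bialgebras: semisimplicity of all comodules, Reynolds operators (helper7)
-/

universe u v v' w w' w''

open TensorProduct

namespace Groth.Agent.Lib.Helper7.Comod

open HopfRep

section LocallyFinite

variable {k : Type u} {C : Type v} [Field k] [AddCommGroup C] [Module k C] [Coalgebra k C]
variable {V : Type w} [AddCommGroup V] [Module k V] [c : Comod k C V]

/-- A simple subcomodule of a subcomodule `U` (induced structure) is a simple subcomodule of `V`. -/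
lemma isSimpleSub_map_subtype (U : Submodule k V) (hU : IsSubcomod (k := k) (A := C) U)
    {N : Submodule k U}
    (hN : @IsSimpleSub k C _ _ _ _ U _ _ (ComodSub.Comod.restr c U hU) N) :
    IsSimpleSub k C (N.map U.subtype) := by
  letI cU : Comod k C U := ComodSub.Comod.restr c U hU
  have hι : Hoch.IsComodHom C U.subtype := ComodSub.isComodHom_subtype c U hU
  refine ⟨isSubcomod_map hι hN.1, ?_, fun W' hW' hle => ?_⟩
  · intro h
    apply hN.2.1
    rw [eq_bot_iff]
    intro x hx
    have : (x : V) ∈ N.map U.subtype := ⟨x, hx, rfl⟩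
    rw [h, Submodule.mem_bot] at this
    rw [Submodule.mem_bot]
    exact Subtype.ext this
  · have hle' : W'.comap U.subtype ≤ N := by
      intro x hx
      obtain ⟨y, hy, hyx⟩ := hle hx
      rw [← Subtype.ext hyx]
      exact hy
    have hWU : W' ≤ U := hle.trans (Submodule.map_subtype_le U N)
    have hmap : (W'.comap U.subtype).map U.subtype = W' := by
      rw [Submodule.map_comap_eq, Submodule.range_subtype]
      exact inf_eq_right.2 hWU
    rcases hN.2.2 _ (isSubcomod_comap hι hW') hle' with h | h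
    · left
      rw [← hmap, h, Submodule.map_bot]
    · right
      rw [← hmap, h]

/-- A comodule all of whose finite-dimensional subcomodules are semisimple (for the induced
structure) is semisimple. -/
theorem isSemisimpleComod_of_forall_finite
    (h : ∀ (U : Submodule k V) (hU : IsSubcomod (k := k) (A := C) U), Module.Finite k U →
      @IsSemisimpleComod k C _ _ _ _ U _ _ (ComodSub.Comod.restr c U hU)) :
    IsSemisimpleComod k C V := by
  apply isSemisimpleComod_of_iSup_simple_eq_top
    (fun W : {W : Submodule k V // IsSimpleSub k C W} => W.1) (fun W => W.2)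
  rw [eq_top_iff]
  intro v _
  obtain ⟨U, hUfin, hvU, hU⟩ := exists_finite_subcomod_mem (k := k) (C := C) (V := V) v
  letI cU : Comod k C U := ComodSub.Comod.restr c U hU
  have hss := h U hU hUfin
  have htop := iSup_simple_eq_top_of_isSemisimpleComod hss
  have hv : (⟨v, hvU⟩ : U) ∈ (⊤ : Submodule k U) := trivial
  rw [← htop] at hv
  have : v ∈ (⨆ N : {N : Submodule k U // IsSimpleSub k C N}, (N.1 : Submodule k U)).map U.subtype :=
    ⟨⟨v, hvU⟩, hv, rfl⟩
  rw [Submodule.map_iSup] at this
  refine (iSup_le (a := ⨆ W : {W : Submodule k V // IsSimpleSub k C W}, (W.1 : Submodule k V))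
    fun N => ?_ : _ ≤ _) this
  exact le_iSup (fun W : {W : Submodule k V // IsSimpleSub k C W} => W.1)
    ⟨N.1.map U.subtype, isSimpleSub_map_subtype U hU N.2⟩

end LocallyFinite

section LR

variable {k : Type u} [Field k] {A : Type v} [CommRing A] [Bialgebra k A]

/-- A linearly reductive bialgebra has all its comodules (in the universe of `A`) semisimple. -/
theorem isSemisimpleComod_of_isLinearlyReductive (hG : IsLinearlyReductive k A)
    (V : Type v) [AddCommGroup V] [Module k V] [c : Comod k A V] : IsSemisimpleComod k A V :=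
  isSemisimpleComod_of_forall_finite fun U hU hfin =>
    @hG U _ _ (ComodSub.Comod.restr c U hU) hfin

end LR

section Fixed

variable {k : Type u} [Field k] {A : Type v} [CommRing A] [Bialgebra k A]
variable {V : Type w} [AddCommGroup V] [Module k V] [Comod k A V]
variable {W : Type w'} [AddCommGroup W] [Module k W] [Comod k A W]

lemma mem_fixedPts_iff (v : V) :
    v ∈ fixedPts k A V ↔ Comod.coact (k := k) (A := A) v = v ⊗ₜ[k] (1 : A) := Iff.rfl

/-- The fixed vectors form a subcomodule. -/
lemma isSubcomod_fixedPts : IsSubcomod (k := k) (A := A) (fixedPts k A V) := by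
  intro v hv
  rw [(mem_fixedPts_iff v).1 hv]
  exact tmul_mem_range_rTensor hv 1

/-- Comodule maps preserve fixed vectors. -/
lemma map_mem_fixedPts {f : V →ₗ[k] W} (hf : Hoch.IsComodHom A f) {v : V}
    (hv : v ∈ fixedPts k A V) : f v ∈ fixedPts k A W := by
  rw [mem_fixedPts_iff, isComodHom_apply hf, (mem_fixedPts_iff v).1 hv, LinearMap.rTensor_tmul]

/-- Key lemma: in a semisimple comodule, a subcomodule without nonzero fixed vectors is killed by
every comodule map that sends it into fixed vectors. -/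
theorem le_ker_of_disjoint_fixedPts (hV : IsSemisimpleComod k A V) {N : Submodule k V}
    (hN : IsSubcomod (k := k) (A := A) N) (hNF : N ⊓ fixedPts k A V = ⊥)
    {g : V →ₗ[k] W} (hg : Hoch.IsComodHom A g) (hgN : ∀ x ∈ N, g x ∈ fixedPts k A W) :
    N ≤ LinearMap.ker g := by
  have hK : IsSubcomod (k := k) (A := A) (N ⊓ LinearMap.ker g) :=
    isSubcomod_inf hN (isSubcomod_ker hg)
  obtain ⟨M, hM, hKM⟩ := hV _ hK
  -- `N'' = N ⊓ M` consists of fixed vectors
  have hN'' : IsSubcomod (k := k) (A := A) (N ⊓ M) := isSubcomod_inf hN hM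
  have hinj : Function.Injective (g ∘ₗ (N ⊓ M).subtype) := by
    rw [← LinearMap.ker_eq_bot, eq_bot_iff]
    intro x hx
    have hx' : (x : V) ∈ (N ⊓ LinearMap.ker g) ⊓ M :=
      ⟨⟨x.2.1, LinearMap.mem_ker.2 (LinearMap.mem_ker.1 hx)⟩, x.2.2⟩
    rw [hKM.inf_eq_bot, Submodule.mem_bot] at hx'
    rw [Submodule.mem_bot]
    exact Subtype.ext hx'
  have hinj' : Function.Injective ((g ∘ₗ (N ⊓ M).subtype).rTensor A) :=
    Module.Flat.rTensor_preserves_injective_linearMap _ hinj
  have hzero : N ⊓ M = ⊥ := by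
    rw [eq_bot_iff]
    intro x hx
    have hfix : x ∈ fixedPts k A V := by
      rw [mem_fixedPts_iff]
      obtain ⟨y, hy⟩ := hN'' x hx
      have h1 : (g ∘ₗ (N ⊓ M).subtype).rTensor A y =
          (g ∘ₗ (N ⊓ M).subtype).rTensor A ((⟨x, hx⟩ : ↥(N ⊓ M)) ⊗ₜ[k] (1 : A)) := by
        rw [LinearMap.rTensor_comp, LinearMap.comp_apply, hy, ← isComodHom_apply hg,
          (mem_fixedPts_iff _).1 (hgN x hx.1)]
        simp
      have h2 := hinj' h1
      rw [← hy, h2]
      simp
    have : x ∈ N ⊓ fixedPts k A V := ⟨hx.1, hfix⟩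
    rw [hNF] at this
    exact this
  -- modular law
  intro x hx
  have hxt : x ∈ (N ⊓ LinearMap.ker g) ⊔ M := by rw [hKM.sup_eq_top]; trivial
  obtain ⟨a, ha, b, hb, rfl⟩ := Submodule.mem_sup.1 hxt
  have hbN : b ∈ N := by
    have := N.sub_mem hx ha.1
    simpa using this
  have hb0 : b ∈ N ⊓ M := ⟨hbN, hb⟩
  rw [hzero, Submodule.mem_bot] at hb0
  rw [hb0, add_zero]
  exact ha.2

end Fixed

section Reynolds

variable {k : Type u} [Field k] {A : Type v} [CommRing A] [Bialgebra k A]
variable {V : Type w} [AddCommGroup V] [Module k V] [Comod k A V]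
variable {W : Type w'} [AddCommGroup W] [Module k W] [Comod k A W]

variable (k A) in
/-- `E` is a Reynolds operator on the comodule `V`. -/
def IsReynolds (E : V →ₗ[k] V) : Prop :=
  Hoch.IsComodHom A E ∧ E ∘ₗ E = E ∧ ∀ x : V, E x = x ↔ x ∈ fixedPts k A V

lemma IsReynolds.apply_mem {E : V →ₗ[k] V} (hE : IsReynolds k A E) (x : V) :
    E x ∈ fixedPts k A V := by
  rw [← hE.2.2]
  exact LinearMap.congr_fun hE.2.1 x

/-- Existence of a Reynolds operator on a semisimple comodule. -/
theorem exists_isReynolds (hV : IsSemisimpleComod k A V) : ∃ E : V →ₗ[k] V, IsReynolds k A E := by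
  obtain ⟨N, hN, hFN⟩ := hV _ (isSubcomod_fixedPts (k := k) (A := A) (V := V))
  refine ⟨(fixedPts k A V).subtype ∘ₗ Submodule.projectionOnto _ N hFN,
    isComodHom_proj isSubcomod_fixedPts hN hFN, ?_, fun x => ?_⟩
  · ext x
    simp only [LinearMap.comp_apply, Submodule.subtype_apply]
    rw [Submodule.projectionOnto_apply_left]
  · constructor
    · intro h
      rw [← h]
      exact Submodule.coe_mem _
    · intro hx
      simp only [LinearMap.comp_apply, Submodule.subtype_apply]
      have := Submodule.projectionOnto_apply_left hFN ⟨x, hx⟩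
      rw [this]

/-- Naturality of Reynolds operators (S19398). -/
theorem IsReynolds.comp_eq (hV : IsSemisimpleComod k A V) {E : V →ₗ[k] V} (hE : IsReynolds k A E)
    {E' : W →ₗ[k] W} (hE' : IsReynolds k A E') {u : V →ₗ[k] W} (hu : Hoch.IsComodHom A u) :
    E' ∘ₗ u = u ∘ₗ E := by
  -- `N = ker E` has no fixed vectors and `E' ∘ u` sends it into fixed vectors
  have hNF : LinearMap.ker E ⊓ fixedPts k A V = ⊥ := by
    rw [eq_bot_iff]
    rintro x ⟨hx1, hx2⟩
    rw [Submodule.mem_bot, ← (hE.2.2 x).2 hx2]
    exact hx1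
  have hker : LinearMap.ker E ≤ LinearMap.ker (E' ∘ₗ u) :=
    le_ker_of_disjoint_fixedPts hV (isSubcomod_ker hE.1) hNF (isComodHom_comp hE'.1 hu)
      (fun x _ => hE'.apply_mem _)
  ext x
  have hx : x - E x ∈ LinearMap.ker E := by
    rw [LinearMap.mem_ker, map_sub, ← LinearMap.comp_apply, hE.2.1, sub_self]
  have h1 := LinearMap.mem_ker.1 (hker hx)
  rw [map_sub, sub_eq_zero] at h1
  rw [h1, LinearMap.comp_apply, LinearMap.comp_apply]
  exact (hE'.2.2 _).2 (map_mem_fixedPts hu (hE.apply_mem x))

/-- Uniqueness of the Reynolds operator. -/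
theorem IsReynolds.unique (hV : IsSemisimpleComod k A V) {E E' : V →ₗ[k] V}
    (hE : IsReynolds k A E) (hE' : IsReynolds k A E') : E = E' := by
  have h := IsReynolds.comp_eq hV hE hE' (isComodHom_id (V := V))
  rw [LinearMap.comp_id, LinearMap.id_comp] at h
  exact h.symm

/-- Invariants are exact on semisimple comodules (S11791). -/
theorem exists_fixedPts_map_eq (hV : IsSemisimpleComod k A V) (hW : IsSemisimpleComod k A W)
    {φ : V →ₗ[k] W} (hφ : Hoch.IsComodHom A φ) (hsurj : Function.Surjective φ)
    {w : W} (hw : w ∈ fixedPts k A W) : ∃ v ∈ fixedPts k A V, φ v = w := by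
  obtain ⟨E, hE⟩ := exists_isReynolds hV
  obtain ⟨E', hE'⟩ := exists_isReynolds hW
  obtain ⟨v, rfl⟩ := hsurj w
  refine ⟨E v, hE.apply_mem v, ?_⟩
  have := LinearMap.congr_fun (IsReynolds.comp_eq hV hE hE' hφ) v
  simp only [LinearMap.comp_apply] at this
  rw [← this]
  exact (hE'.2.2 _).2 hw

/-- A Reynolds operator preserves subcomodules. -/
theorem IsReynolds.apply_mem_of_mem (hV : IsSemisimpleComod k A V) {E : V →ₗ[k] V}
    (hE : IsReynolds k A E) {U : Submodule k V} (hU : IsSubcomod (k := k) (A := A) U) {x : V}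
    (hx : x ∈ U) : E x ∈ U := by
  obtain ⟨U', hU', hUU'⟩ := hV U hU
  -- the projection onto `U` is a comodule endomorphism
  have hp := isComodHom_proj hU hU' hUU'
  set p : V →ₗ[k] V := U.subtype ∘ₗ Submodule.projectionOnto U U' hUU' with hpdef
  have h := LinearMap.congr_fun (IsReynolds.comp_eq hV hE hE hp) x
  simp only [LinearMap.comp_apply] at h
  have hpx : p x = x := by
    rw [hpdef, LinearMap.comp_apply]
    have := Submodule.projectionOnto_apply_left hUU' ⟨x, hx⟩
    rw [this]; rfl
  rw [hpx] at h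
  rw [h, hpdef]
  exact Submodule.coe_mem _

end Reynolds

end Groth.Agent.Lib.Helper7.Comod
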