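import Groth.Agent.Lib.Helper7.GLnReductive

/-!
# The special linear group is linearly reductive in characteristic zero (helper7)
-/

universe u v w w'

open TensorProduct

namespace Groth.Agent.Lib.Helper7.SLnRed

open HopfRep ComodTens CoordGrp Groth.Agent.Lib.Helper7.Comod Groth.Agent.Lib.Helper7.Subquot
  Groth.Agent.Lib.Helper7.Unitarian Groth.Agent.Lib.Helper7.GLnRed

section Basic

variable (n : ℕ) (k : Type u) [Field k]

lemma mk_Dinv : SLn.mk n k (GLn.Dinv : GLn n k) = 1 := by
  have h := congrArg (SLn.mk n k) (GLn.Dinv_mul_det (n := n) (k := k))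
  rw [map_mul, SLn.det_eq_one, mul_one, map_one] at h
  exact h

variable {n k} in
theorem algHom_ext_X {B : Type v} [Semiring B] [Algebra k B] {f g : SLn n k →ₐ[k] B}
    (h : ∀ i j, f (SLn.X i j) = g (SLn.X i j)) : f = g :=
  SLn.algHom_ext h (by rw [mk_Dinv, map_one, map_one])

/-- the generic matrix of `SL_n`. -/
noncomputable def slMat : Matrix (Fin n) (Fin n) (SLn n k) := fun i j => SLn.X i j

lemma slMat_det : (slMat n k).det = 1 := by
  have h : slMat n k = (SLn.mk n k).mapMatrix (GLn.genMat n k) := by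
    ext i j; rfl
  rw [h, ← AlgHom.map_det, ← GLn.det_eq, SLn.det_eq_one]

lemma counit_X (i j : Fin n) :
    Coalgebra.counit (R := k) (SLn.X i j : SLn n k) = if i = j then 1 else 0 := by
  change Coalgebra.counit (R := k) (GLn.X i j : GLn n k) = _
  exact GLn.counit_X i j

lemma comul_X (i j : Fin n) :
    Coalgebra.comul (R := k) (SLn.X i j : SLn n k) = ∑ l, SLn.X i l ⊗ₜ[k] SLn.X l j := by
  have h := Bialgebra.Quotient.comul_mk (R := k) (GLn.slIdeal n k) (GLn.X i j)
  change Coalgebra.comul (R := k) (SLn.X i j : SLn n k) = _ at h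
  rw [h, GLn.comul_X, map_sum]
  rfl

/-- transposition on `SL_n`. -/
noncomputable def trSL : SLn n k →ₐ[k] SLn n k :=
  SLn.pt n k (slMat n k).transpose (by rw [Matrix.det_transpose, slMat_det])

lemma trSL_mk (x : GLn n k) : trSL n k (SLn.mkHom n k x) = SLn.mkHom n k (tr n k x) := by
  have h : (trSL n k).comp (SLn.mk n k) = (SLn.mk n k).comp (tr n k) := by
    apply Groth.Agent.Lib.Helper7.HopfGLn.algHom_ext_X
    intro i j
    rw [AlgHom.comp_apply, AlgHom.comp_apply, tr_X]
    change trSL n k (SLn.X i j) = SLn.X j i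
    unfold trSL
    rw [SLn.pt_X]
    rfl
  exact AlgHom.congr_fun h x

end Basic

section Ordered

variable (n : ℕ) (k : Type u) [Field k] [LinearOrder k] [IsStrictOrderedRing k]

theorem isLinearlyReductive_SLn_ordered : IsLinearlyReductive k (SLn n k) :=
  isLinearlyReductive_of_selfAdjoint (SLn.mkHom n k)
    (Ideal.Quotient.mk_surjective (I := GLn.slIdeal n k)) (trSL n k) (trSL_mk n k)

end Ordered

section BaseChange

variable (n : ℕ) (k : Type u) (K : Type v) [Field k] [Field K] [Algebra k K]

/-- the generic matrix over the base change. -/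
noncomputable def bcMat : Matrix (Fin n) (Fin n) (K ⊗[k] SLn n k) :=
  fun i j => (1 : K) ⊗ₜ[k] SLn.X i j

lemma bcMat_det : (bcMat n k K).det = 1 := by
  have h : bcMat n k K = (Algebra.TensorProduct.includeRight :
      SLn n k →ₐ[k] K ⊗[k] SLn n k).mapMatrix (slMat n k) := by
    ext i j; rfl
  rw [h, ← AlgHom.map_det, slMat_det, map_one]

/-- the comparison map, as an algebra map. -/
noncomputable def bcAlg : SLn n K →ₐ[K] K ⊗[k] SLn n k :=
  SLn.pt n K (bcMat n k K) (bcMat_det n k K)

@[simp] lemma bcAlg_X (i j : Fin n) : bcAlg n k K (SLn.X i j) = (1 : K) ⊗ₜ[k] SLn.X i j :=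
  SLn.pt_X _ _ i j

/-- the comparison map as a bialgebra map. -/
noncomputable def bcHom : SLn n K →ₐc[K] K ⊗[k] SLn n k :=
  BialgHom.ofAlgHom (bcAlg n k K)
    (by
      apply algHom_ext_X
      intro i j
      rw [AlgHom.comp_apply, bcAlg_X]
      change Coalgebra.counit (R := K) ((1 : K) ⊗ₜ[k] (SLn.X i j : SLn n k)) =
        Coalgebra.counit (R := K) (SLn.X i j : SLn n K)
      rw [TensorProduct.counit_tmul, counit_X, counit_X]
      by_cases h : i = j
      · simp [h]
      · simp [h])
    (by
      apply algHom_ext_X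
      intro i j
      rw [AlgHom.comp_apply, AlgHom.comp_apply, bcAlg_X]
      change Algebra.TensorProduct.map (bcAlg n k K) (bcAlg n k K)
        (Coalgebra.comul (R := K) (SLn.X i j : SLn n K)) =
        Coalgebra.comul (R := K) ((1 : K) ⊗ₜ[k] (SLn.X i j : SLn n k))
      rw [comul_X, map_sum, comul_tmul_eq, comul_X]
      unfold bcPair
      rw [TensorProduct.tmul_sum, map_sum]
      apply Finset.sum_congr rfl
      intro l _
      rw [Algebra.TensorProduct.map_tmul, bcAlg_X, bcAlg_X]
      simp)

lemma bcHom_injective : Function.Injective (bcHom n k K) := by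
  letI : Algebra k (SLn n K) := Algebra.compHom (SLn n K) (algebraMap k K)
  haveI : IsScalarTower k K (SLn n K) := IsScalarTower.of_algebraMap_eq (fun x => rfl)
  let g₀ : SLn n k →ₐ[k] SLn n K := SLn.pt n k (slMat n K) (slMat_det n K)
  let g : K ⊗[k] SLn n k →ₐ[K] SLn n K :=
    Algebra.TensorProduct.lift (Algebra.ofId K (SLn n K)) g₀ (fun x y => Commute.all _ _)
  have hgf : g.comp (bcAlg n k K) = AlgHom.id K (SLn n K) := by
    apply algHom_ext_X
    intro i j
    rw [AlgHom.comp_apply, bcAlg_X]
    change Algebra.TensorProduct.lift (Algebra.ofId K (SLn n K)) g₀ _ ((1 : K) ⊗ₜ[k] SLn.X i j) = _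
    rw [Algebra.TensorProduct.lift_tmul, map_one, one_mul]
    change SLn.pt n k (slMat n K) (slMat_det n K) (SLn.X i j) = _
    rw [SLn.pt_X]
    rfl
  intro x y h
  have := congrArg g h
  exact (AlgHom.congr_fun hgf x).symm.trans (this.trans (AlgHom.congr_fun hgf y))

end BaseChange

section CharZero

/-- `SL_n` over any field of characteristic zero is linearly reductive. -/
theorem isLinearlyReductive_SLn (n : ℕ) (K : Type v) [Field K] [CharZero K] :
    IsLinearlyReductive K (SLn n K) := by
  have h1 : IsLinearlyReductive ℚ (SLn n ℚ) := isLinearlyReductive_SLn_ordered n ℚ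
  have h2 : IsLinearlyReductive K (K ⊗[ℚ] SLn n ℚ) :=
    (isLinearlyReductive_baseChange_iff (k := ℚ) (K := K) (A := SLn n ℚ)).1 h1
  exact isLinearlyReductive_of_injective (bcHom n ℚ K) (bcHom_injective n ℚ K) h2

end CharZero

end Groth.Agent.Lib.Helper7.SLnRed
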