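import Groth.Agent.Lib.Helper7.BF5
import Groth.Agent.Lib.Helper7.SLnReductive
import Groth.Agent.Lib.Helper7.ComodLR

/-!
# Binary forms, VI: semistability (helper7)
-/

set_option autoImplicit false

universe u

open TensorProduct

namespace Groth.Agent.Lib.Helper7.BF

open HopfRep CoordGrp Groth.Agent.Lib.Helper7.WZ Groth.Agent.Lib.Helper7.SLnRed
  Groth.Agent.Lib.Helper7.Comod

/-- the zero form is in the orbit closure iff there is a root of multiplicity more than `d/2`. -/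
theorem inOrbitClosure_zero_iff (k : Type u) [Field k] [IsAlgClosed k] [CharZero k] (d : ℕ)
    (a : FormIdx 2 d → k) :
    @GLin.InOrbitClosure k _ (H2 k) _ _ (FormRing k 2 d) _ _ (formsComod k d)
      (formsComod_isCoactAlg k d) (GLin.vecPt k (FormIdx 2 d) a)
      (GLin.vecPt k (FormIdx 2 d) (fun _ => (0 : k))) ↔
    ∃ ℓ : MvPolynomial (Fin 2) k, ℓ.IsHomogeneous 1 ∧ ℓ ≠ 0 ∧ ∃ e : ℕ, d < 2 * e ∧ ℓ ^ e ∣ formPoly a := by
  constructor
  · intro hcl
    obtain ⟨R, _, _, _, _, res, Ξ, h, -, hcomp, hres⟩ :=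
      VC.exists_place k (FormRing k 2 d) (H2 k)
        (@GLin.orbitHom k _ (H2 k) _ _ (FormRing k 2 d) _ _ (formsComod k d)
          (formsComod_isCoactAlg k d) (GLin.vecPt k (FormIdx 2 d) a))
        (GLin.vecPt k (FormIdx 2 d) (fun _ => (0 : k))) hcl
    obtain ⟨ℓ, h1, h2, h3⟩ := bad_root_of_place d a R res Ξ h hcomp hres
    exact ⟨ℓ, h1, h2, d / 2 + 1, by omega, h3⟩
  · rintro ⟨ℓ, h1, h2, e, he, hdvd⟩
    exact inOrbitClosure_of_bad_root d a ℓ h1 h2 e he hdvd

/-- semistability of binary forms. -/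
theorem isSemistableVec_iff_roots (k : Type u) [Field k] [IsAlgClosed k] [CharZero k] (d : ℕ)
    (a : FormIdx 2 d → k) :
    @GLin.IsSemistableVec k _ (H2 k) _ _ (FormIdx 2 d) (formsComod k d)
      (formsComod_isCoactAlg k d) a ↔
    ∀ ℓ : MvPolynomial (Fin 2) k, ℓ.IsHomogeneous 1 → ℓ ≠ 0 →
      ∀ m : ℕ, ℓ ^ m ∣ formPoly a → 2 * m ≤ d := by
  letI := formsComod k d
  haveI := formsComod_isCoactAlg k d
  have hss : IsSemisimpleComod k (H2 k) (FormRing k 2 d) :=
    isSemisimpleComod_of_isLinearlyReductive (isLinearlyReductive_SLn 2 k) _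
  rw [isSemistableVec_iff hss (formsComod_isLinear k d) a, inOrbitClosure_zero_iff]
  constructor
  · intro hn ℓ h1 h2 m hdvd
    by_contra hlt
    push Not at hlt
    exact hn ⟨ℓ, h1, h2, m, hlt, hdvd⟩
  · rintro hroots ⟨ℓ, h1, h2, e, he, hdvd⟩
    have := hroots ℓ h1 h2 e hdvd
    omega

end Groth.Agent.Lib.Helper7.BF
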