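import Groth.Agent.Lib.Helper7.BF8

/-!
# Binary forms, IX: forms all of whose roots have multiplicity less than `d/2` have finite stabilisers (helper7)
-/

set_option autoImplicit false

universe u

open TensorProduct

namespace Groth.Agent.Lib.Helper7.BF

open HopfRep CoordGrp Groth.Agent.Lib.Helper7.WZ Groth.Agent.Lib.Helper7.SLnRed

section Stab

variable (k : Type u) [Field k] [IsAlgClosed k] (d : ℕ)

theorem hasFiniteStab_of_roots (a : FormIdx 2 d → k)
    (hroots : ∀ ℓ : MvPolynomial (Fin 2) k, ℓ.IsHomogeneous 1 → ℓ ≠ 0 →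
      ∀ m : ℕ, ℓ ^ m ∣ formPoly a → 2 * m < d) :
    @GLin.HasFiniteStab k _ (H2 k) _ _ (FormRing k 2 d) _ _ (formsComod k d)
      (formsComod_isCoactAlg k d) (GLin.vecPt k (FormIdx 2 d) a) := by
  letI := formsComod k d
  haveI := formsComod_isCoactAlg k d
  unfold GLin.HasFiniteStab
  set I : Ideal (H2 k) := GLin.stabIdeal k (H2 k) (GLin.vecPt k (FormIdx 2 d) a) with hI
  haveI := finiteType_H2 k
  haveI : Algebra.FiniteType k (H2 k ⧸ I) :=
    Algebra.FiniteType.of_surjective (Ideal.Quotient.mkₐ k I) Ideal.Quotient.mk_surjective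
  by_contra hnf
  have hex : ∃ z : H2 k ⧸ I, ¬ IsIntegral k z := by
    by_contra hall
    push Not at hall
    haveI : Algebra.IsIntegral k (H2 k ⧸ I) := ⟨hall⟩
    exact hnf Algebra.IsIntegral.finite
  obtain ⟨z, hz⟩ := hex
  have htr : Transcendental k z := fun halg => hz (isAlgebraic_iff_isIntegral.mp halg)
  have hinj : Function.Injective (Polynomial.aeval z : Polynomial k →ₐ[k] H2 k ⧸ I) :=
    transcendental_iff_injective.mp htr
  obtain ⟨P, hP, hPc⟩ := Ideal.exists_comap_eq_of_mem_minimalPrimes_of_injective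
    (f := (Polynomial.aeval z : Polynomial k →ₐ[k] H2 k ⧸ I).toRingHom) hinj ⊥
    (by rw [IsDomain.minimalPrimes_eq_singleton_bot]; rfl)
  haveI := hP
  let D := (H2 k ⧸ I) ⧸ P
  let L := FractionRing D
  let toL : H2 k →ₐ[k] L := (IsScalarTower.toAlgHom k D L).comp
    ((Ideal.Quotient.mkₐ k P).comp (Ideal.Quotient.mkₐ k I))
  let zL : L := algebraMap D L (Ideal.Quotient.mk P z)
  have hzL : Transcendental k zL := by
    rw [transcendental_iff]
    intro p hp
    have h1 : Polynomial.aeval zL p = algebraMap D L (Ideal.Quotient.mk P (Polynomial.aeval z p)) := by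
      have : (Polynomial.aeval zL : Polynomial k →ₐ[k] L) =
          ((IsScalarTower.toAlgHom k D L).comp (Ideal.Quotient.mkₐ k P)).comp (Polynomial.aeval z) := by
        apply Polynomial.algHom_ext
        simp [zL]
        rfl
      rw [this]
      rfl
    rw [h1] at hp
    have h2 : Ideal.Quotient.mk P (Polynomial.aeval z p) = 0 :=
      IsFractionRing.injective D L (by rw [hp, map_zero])
    have h3 : Polynomial.aeval z p ∈ P := Ideal.Quotient.eq_zero_iff_mem.mp h2
    have h4 : p ∈ P.comap (Polynomial.aeval z : Polynomial k →ₐ[k] H2 k ⧸ I).toRingHom := h3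
    rw [hPc] at h4
    exact h4
  have hzL0 : zL ≠ 0 := by
    intro h0
    apply hzL
    rw [h0]
    exact isAlgebraic_zero
  have hzLinv : Transcendental k zL⁻¹ := fun h => hzL (IsAlgebraic.inv_iff.mp h)
  let φ : Polynomial k →ₐ[k] L := Polynomial.aeval zL⁻¹
  let y₀ : Polynomial k →ₐ[k] k := Polynomial.aeval (0 : k)
  have hle : RingHom.ker φ ≤ RingHom.ker y₀ := by
    intro p hp
    rw [RingHom.mem_ker] at hp
    have : p = 0 := (transcendental_iff.mp hzLinv) p hp
    rw [this]; exact Ideal.zero_mem _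
  obtain ⟨R, _, _, _, _, res, Ξ', h, hker, hcomp, hres⟩ :=
    VC.exists_place k (Polynomial k) L φ y₀ hle
  let w : R := h Polynomial.X
  have hw1 : IsScalarTower.toAlgHom k R (FractionRing R) w = Ξ' zL⁻¹ := by
    have := congrArg (fun ψ => ψ Polynomial.X) hcomp
    simp only [AlgHom.comp_apply] at this
    rw [this]
    simp [φ]
  have hw2 : res w = 0 := by
    have := congrArg (fun ψ => ψ Polynomial.X) hres
    simp only [AlgHom.comp_apply] at this
    rw [this]
    simp [y₀]
  let Ξ : H2 k →ₐ[k] FractionRing R := Ξ'.comp toL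
  have hkill : ∀ x ∈ I, Ξ x = 0 := by
    intro x hx
    change Ξ' (algebraMap D L (Ideal.Quotient.mk P (Ideal.Quotient.mk I x))) = 0
    rw [Ideal.Quotient.eq_zero_iff_mem.mpr hx]
    simp
  have hmoved : Matrix.vecMul (fun l => algebraMap k (FractionRing R) (a l)) (rep d Ξ) =
      fun m => IsScalarTower.toAlgHom k R (FractionRing R) (algebraMap k R (a m)) := by
    funext m
    have h2 := congrArg (fun ψ => ψ (MvPolynomial.X m)) (comp_orbitHom k d a Ξ)
    simp only [AlgHom.comp_apply, MvPolynomial.aeval_X] at h2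
    rw [← h2]
    have h3 : (MvPolynomial.X m - MvPolynomial.C (a m) : FormRing k 2 d) ∈
        RingHom.ker (GLin.vecPt k (FormIdx 2 d) a) := by
      rw [RingHom.mem_ker]
      simp
    have h4 : GLin.orbitHom k (H2 k) (GLin.vecPt k (FormIdx 2 d) a)
        (MvPolynomial.X m - MvPolynomial.C (a m)) ∈ I := Ideal.mem_map_of_mem _ h3
    have h5 := hkill _ h4
    rw [map_sub, map_sub, sub_eq_zero] at h5
    rw [h5]
    rw [← MvPolynomial.algebraMap_eq, AlgHom.commutes, AlgHom.commutes, AlgHom.commutes]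
  rcases rpoint_or_bad_root d a R res hker Ξ (fun m => algebraMap k R (a m)) hmoved with
    ⟨ΞR, hΞR⟩ | ⟨ℓ, h1, h2, h3⟩
  · obtain ⟨zt, hzt⟩ := Ideal.Quotient.mk_surjective z
    have h1 : Ξ zt = Ξ' zL := by
      change Ξ' (algebraMap D L (Ideal.Quotient.mk P (Ideal.Quotient.mk I zt))) = _
      rw [hzt]
    have h2 : Ξ zt = IsScalarTower.toAlgHom k R (FractionRing R) (ΞR zt) := by
      rw [hΞR]; rfl
    have h3 : IsScalarTower.toAlgHom k R (FractionRing R) (w * ΞR zt) =
        IsScalarTower.toAlgHom k R (FractionRing R) 1 := by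
      rw [map_mul, hw1, ← h2, h1, ← map_mul, inv_mul_cancel₀ hzL0, map_one, map_one]
    have h4 : w * ΞR zt = 1 := IsFractionRing.injective R (FractionRing R) h3
    have h5 := congrArg res h4
    rw [map_mul, hw2, zero_mul, map_one] at h5
    exact zero_ne_one h5
  · have := hroots ℓ h1 h2 _ h3
    omega

end Stab

end Groth.Agent.Lib.Helper7.BF
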