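import Mathlib
import Groth.Agent.Lib.Helper7.NilLift2

/-!
# Faithfully flat descent of bialgebra homomorphisms (helper7)
-/

set_option autoImplicit false

namespace Groth.Agent.Lib.Helper7.BialgDescent

open TensorProduct Groth.Agent.Lib.Helper7.NilLift

universe u

variable {R : Type u} [CommRing R] {S : Type u} [CommRing S] [Algebra R S]
  [Module.FaithfullyFlat R S]
  {B C : Type u} [CommRing B] [Bialgebra R B] [CommRing C] [Bialgebra R C]

lemma one_tmul_injective (V : Type u) [AddCommGroup V] [Module R V] :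
    Function.Injective (fun v : V => (1 : S) ⊗ₜ[R] v) :=
  Module.FaithfullyFlat.tensorProduct_mk_injective (A := R) (B := S) V

omit [Module.FaithfullyFlat R S] in
lemma counit_one_tmul (b : B) :
    Coalgebra.counit (R := S) ((1 : S) ⊗ₜ[R] b : S ⊗[R] B) =
      algebraMap R S (Coalgebra.counit (R := R) b) := by
  rw [TensorProduct.counit_tmul, CommSemiring.counit_apply, Algebra.smul_def, mul_one]

/-- a bialgebra hom over a faithfully flat extension which maps `1 ⊗ C` into `1 ⊗ B` descends. -/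
theorem exists_descent (Φ : S ⊗[R] C →ₐc[S] S ⊗[R] B)
    (h : ∀ c : C, ∃ b : B, (1 : S) ⊗ₜ[R] b = Φ ((1 : S) ⊗ₜ[R] c)) :
    ∃ φ : C →ₐc[R] B, ∀ c, Φ ((1 : S) ⊗ₜ[R] c) = (1 : S) ⊗ₜ[R] φ c := by
  choose f hf using h
  have inj := one_tmul_injective (R := R) (S := S) B
  let fl : C →ₗ[R] B :=
    { toFun := f
      map_add' := by
        intro c c'
        apply inj
        change (1 : S) ⊗ₜ[R] f (c + c') = (1 : S) ⊗ₜ[R] (f c + f c')
        rw [hf, TensorProduct.tmul_add, TensorProduct.tmul_add, map_add, hf, hf]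
      map_smul' := by
        intro r c
        apply inj
        change (1 : S) ⊗ₜ[R] f (r • c) = (1 : S) ⊗ₜ[R] ((RingHom.id R r) • f c)
        rw [hf, TensorProduct.tmul_smul, TensorProduct.tmul_smul, RingHom.id_apply,
          ← algebraMap_smul S r ((1 : S) ⊗ₜ[R] c), map_smul, algebraMap_smul, hf] }
  have hfl : ∀ c, fl c = f c := fun _ => rfl
  let fa : C →ₐ[R] B := AlgHom.ofLinearMap fl
    (by
      apply inj
      change (1 : S) ⊗ₜ[R] f 1 = (1 : S) ⊗ₜ[R] (1 : B)
      rw [hf]
      exact map_one Φ)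
    (by
      intro c c'
      apply inj
      change (1 : S) ⊗ₜ[R] f (c * c') = (1 : S) ⊗ₜ[R] (f c * f c')
      have h1 : (1 : S) ⊗ₜ[R] (c * c') = ((1 : S) ⊗ₜ[R] c) * ((1 : S) ⊗ₜ[R] c') := by
        rw [Algebra.TensorProduct.tmul_mul_tmul, mul_one]
      have h2 : (1 : S) ⊗ₜ[R] (f c * f c') = ((1 : S) ⊗ₜ[R] f c) * ((1 : S) ⊗ₜ[R] f c') := by
        rw [Algebra.TensorProduct.tmul_mul_tmul, mul_one]
      rw [hf, h1, h2, map_mul, hf, hf])
  have hfa : ∀ c, fa c = f c := fun _ => rfl
  have hd : ∀ d : C ⊗[R] C,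
      TensorProduct.map (Φ : S ⊗[R] C →ₗ[S] S ⊗[R] B) (Φ : S ⊗[R] C →ₗ[S] S ⊗[R] B)
        (AlgebraTensorModule.distribBaseChange R S C C ((1 : S) ⊗ₜ[R] d)) =
      AlgebraTensorModule.distribBaseChange R S B B
        ((1 : S) ⊗ₜ[R] (Algebra.TensorProduct.map fa fa d)) := by
    intro d
    induction d using TensorProduct.induction_on with
    | zero => simp
    | add x y hx hy =>
      rw [TensorProduct.tmul_add, map_add, map_add, hx, hy, map_add, TensorProduct.tmul_add,
        map_add]
    | tmul c c' =>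
      rw [← one_tmul_tmul_one_tmul, TensorProduct.map_tmul, Algebra.TensorProduct.map_tmul,
        ← one_tmul_tmul_one_tmul, hfa, hfa, hf, hf]
      rfl
  refine ⟨BialgHom.ofAlgHom fa ?_ ?_, ?_⟩
  · apply AlgHom.ext
    intro c
    change Coalgebra.counit (R := R) (f c) = Coalgebra.counit (R := R) c
    apply FaithfulSMul.algebraMap_injective R S
    rw [← counit_one_tmul, ← counit_one_tmul, hf, CoalgHomClass.counit_comp_apply]
  · apply AlgHom.ext
    intro c
    change Algebra.TensorProduct.map fa fa (Coalgebra.comul (R := R) c) =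
      Coalgebra.comul (R := R) (f c)
    apply one_tmul_injective (R := R) (S := S) (B ⊗[R] B)
    apply (AlgebraTensorModule.distribBaseChange R S B B).injective
    change AlgebraTensorModule.distribBaseChange R S B B
        ((1 : S) ⊗ₜ[R] Algebra.TensorProduct.map fa fa (Coalgebra.comul (R := R) c)) =
      AlgebraTensorModule.distribBaseChange R S B B ((1 : S) ⊗ₜ[R] Coalgebra.comul (R := R) (f c))
    rw [← hd]
    have h1 := comul_eq_distrib (R := R) (A := B) (K := S) ((1 : S) ⊗ₜ[R] f c)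
    rw [LinearMap.lTensor_tmul] at h1
    have h2 := comul_eq_distrib (R := R) (A := C) (K := S) ((1 : S) ⊗ₜ[R] c)
    rw [LinearMap.lTensor_tmul] at h2
    rw [← h1, ← h2, hf, CoalgHomClass.map_comp_comul_apply]
  · intro c
    exact (hf c).symm

end Groth.Agent.Lib.Helper7.BialgDescent
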