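import Mathlib

/-!
# Burnside's theorem on irreducible sets of endomorphisms (helper7)
-/

universe u v w

namespace Groth.Agent.Lib.Helper7.Burnside

open Module

section General

variable {K : Type u} [Field K] {R : Type v} [Ring R] [Algebra K R]
  {V : Type w} [AddCommGroup V] [Module K V] [Module R V] [IsScalarTower K R V]
  [FiniteDimensional K V] [IsSimpleModule R V]

/-- Burnside/Jacobson density in the split case. -/
theorem exists_smul_eq (hend : ∀ f : Module.End R V, ∃ c : K, ∀ v, f v = c • v)
    (φ : V →ₗ[K] V) : ∃ r : R, ∀ v, φ v = r • v := by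
  have : SMulCommClass R K V := IsScalarTower.to_smulCommClass'
  have : IsScalarTower K (Module.End R V) V := ⟨fun c f v => by simp⟩
  have : Module.Finite (Module.End R V) V := Module.Finite.of_restrictScalars_finite K _ _
  let F : Module.End (Module.End R V) V :=
    { toFun := φ
      map_add' := φ.map_add
      map_smul' := by
        intro f v
        obtain ⟨c, hc⟩ := hend f
        simp only [Module.End.smul_def, RingHom.id_apply, hc, map_smul] }
  obtain ⟨r, hr⟩ := Module.Finite.toModuleEnd_moduleEnd_surjective (R := R) (M := V) F
  refine ⟨r, fun v => ?_⟩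
  have := LinearMap.congr_fun hr v
  exact this.symm

end General

section Monoid

variable {K : Type u} [Field K] {V : Type w} [AddCommGroup V] [Module K V]
  [FiniteDimensional K V] [Nontrivial V]

/-- Burnside's theorem, split form: an irreducible multiplicative set of endomorphisms whose
commutant consists of scalars spans all endomorphisms. -/
theorem span_eq_top_of_irreducible (M : Submonoid (Module.End K V))
    (hirr : ∀ W : Submodule K V, (∀ m ∈ M, ∀ w ∈ W, m w ∈ W) → W = ⊥ ∨ W = ⊤)
    (hend : ∀ f : Module.End K V, (∀ m ∈ M, f * m = m * f) → ∃ c : K, ∀ v, f v = c • v) :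
    Submodule.span K (M : Set (Module.End K V)) = ⊤ := by
  set R : Subalgebra K (Module.End K V) := Algebra.adjoin K (M : Set (Module.End K V)) with hR
  have hRspan : (Subalgebra.toSubmodule R) = Submodule.span K (M : Set (Module.End K V)) := by
    rw [hR, Algebra.adjoin_eq_span, Submonoid.closure_eq]
  have hMR : ∀ m ∈ M, m ∈ R := fun m hm => Algebra.subset_adjoin hm
  have hsm : ∀ (r : R) (v : V), r • v = (r : Module.End K V) v := fun r v => rfl
  have : IsScalarTower K R V := ⟨fun c r v => by
    rw [hsm, hsm]; rfl⟩
  have : IsSimpleModule R V := by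
    have hnt : Nontrivial (Submodule R V) := by
      refine ⟨⊥, ⊤, fun h => ?_⟩
      obtain ⟨x, hx⟩ := exists_ne (0 : V)
      have : x ∈ (⊤ : Submodule R V) := trivial
      rw [← h, Submodule.mem_bot] at this
      exact hx this
    refine { toNontrivial := hnt, eq_bot_or_eq_top := fun N => ?_ }
    rcases hirr (N.restrictScalars K) (fun m hm w hw => by
      have := N.smul_mem (⟨m, hMR m hm⟩ : R) hw
      exact this) with h | h
    · left
      rw [eq_bot_iff]
      intro x hx
      have : x ∈ N.restrictScalars K := hx
      rw [h] at this
      exact this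
    · right
      rw [eq_top_iff]
      intro x _
      have : x ∈ N.restrictScalars K := by rw [h]; trivial
      exact this
  rw [eq_top_iff]
  intro φ _
  have key := exists_smul_eq (K := K) (R := R) (V := V) (fun f => by
    have : SMulCommClass R K V := IsScalarTower.to_smulCommClass'
    apply hend (f.restrictScalars K)
    intro m hm
    apply LinearMap.ext
    intro v
    have := f.map_smul (⟨m, hMR m hm⟩ : R) v
    exact this) φ
  obtain ⟨r, hr⟩ := key
  have : φ = (r : Module.End K V) := LinearMap.ext hr
  rw [this, ← hRspan]
  exact r.2

/-- Burnside's theorem over an algebraically closed field. -/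
theorem span_eq_top_of_irreducible_of_isAlgClosed [IsAlgClosed K] (M : Submonoid (Module.End K V))
    (hirr : ∀ W : Submodule K V, (∀ m ∈ M, ∀ w ∈ W, m w ∈ W) → W = ⊥ ∨ W = ⊤) :
    Submodule.span K (M : Set (Module.End K V)) = ⊤ := by
  apply span_eq_top_of_irreducible M hirr
  intro f hf
  obtain ⟨c, hc⟩ := Module.End.exists_eigenvalue f
  refine ⟨c, ?_⟩
  have h1 : f.eigenspace c = ⊤ := by
    rcases hirr (f.eigenspace c) (fun m hm w hw => by
      rw [Module.End.mem_eigenspace_iff] at hw ⊢
      have := LinearMap.congr_fun (hf m hm) w
      simp only [Module.End.mul_apply] at this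
      rw [this, hw, map_smul]) with h | h
    · exact absurd h hc
    · exact h
  intro v
  have : v ∈ f.eigenspace c := by rw [h1]; trivial
  exact Module.End.mem_eigenspace_iff.1 this

end Monoid

end Groth.Agent.Lib.Helper7.Burnside
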