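import Mathlib

/-!
# A finite faithfully flat algebra over a noetherian ring has a linear retraction with `ρ 1 = 1` (helper7)
-/

set_option autoImplicit false

namespace Groth.Agent.Lib.Helper7.CD

universe u

theorem exists_retraction {B C : Type u} [CommRing B] [CommRing C] [Algebra B C] [IsNoetherianRing B]
    [Module.Finite B C] [Module.FaithfullyFlat B C] : ∃ ρ : C →ₗ[B] B, ρ 1 = 1 := by
  haveI : Module.FinitePresentation B C := Module.finitePresentation_of_finite B C
  haveI : Module.Projective B C := Module.Flat.projective_of_finitePresentation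
  let T : Ideal B := Ideal.span (Set.range fun x : (C →ₗ[B] B) × C => x.1 x.2)
  have hT : T = ⊤ := by
    by_contra h
    obtain ⟨m, hm, hTm⟩ := Ideal.exists_le_maximal T h
    apply Module.FaithfullyFlat.submodule_ne_top (R := B) (M := C) hm
    rw [eq_top_iff]
    intro c _
    obtain ⟨s, hs⟩ := (Module.projective_def' (R := B) (P := C)).1 inferInstance
    have hc : c = Finsupp.linearCombination B id (s c) := by
      rw [← LinearMap.comp_apply, hs]; rfl
    rw [hc, Finsupp.linearCombination_apply, Finsupp.sum]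
    refine Submodule.sum_mem _ (fun p _ => ?_)
    refine Submodule.smul_mem_smul (hTm ?_) Submodule.mem_top
    refine Ideal.subset_span ⟨(Finsupp.lapply p ∘ₗ s, c), ?_⟩
    simp
  have key : ∀ t ∈ T, ∃ ρ : C →ₗ[B] B, ρ 1 = t := by
    intro t ht
    induction ht using Submodule.span_induction with
    | mem x hx =>
      obtain ⟨⟨φ, p⟩, rfl⟩ := hx
      exact ⟨φ ∘ₗ LinearMap.mulLeft B p, by simp⟩
    | zero => exact ⟨0, rfl⟩
    | add x y _ _ hx hy =>
      obtain ⟨ρ₁, h₁⟩ := hx
      obtain ⟨ρ₂, h₂⟩ := hy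
      exact ⟨ρ₁ + ρ₂, by simp [h₁, h₂]⟩
    | smul b x _ hx =>
      obtain ⟨ρ₁, h₁⟩ := hx
      exact ⟨b • ρ₁, by simp [h₁]⟩
  exact key 1 (by rw [hT]; trivial)

end Groth.Agent.Lib.Helper7.CD
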