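import Mathlib
import Groth.Agent.Lib.Helper7.HopfConv
import Groth.Prelude.Def_SGA3b

/-!
# Hopf ideals over a general commutative base ring (helper7)

* `map_antipode`: bialgebra maps of commutative Hopf algebras commute with antipodes.
* `isHopfIdeal_ker_of_surjective`: the kernel of a surjective bialgebra map is a Hopf ideal.
* `isHopfIdeal_ker_counit`, `isHopfIdeal_map`.
* `powBialgHom`, `isHopfIdeal_torsionIdeal` (cocommutative case).
-/

set_option autoImplicit false

namespace Groth.Agent.Lib.Helper7.HopfIdealR

open WithConv TensorProduct Groth.Agent.Lib.Helper7.HopfConv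

universe u v w

section Antipode

variable {R : Type u} [CommRing R] {A : Type v} [CommRing A] [HopfAlgebra R A]
  {B : Type w} [CommRing B] [HopfAlgebra R B]

theorem antipode_comp_eq (f : A →ₐc[R] B) :
    (HopfAlgebra.antipodeAlgHom R B).comp (f : A →ₐ[R] B) =
      (f : A →ₐ[R] B).comp (HopfAlgebra.antipodeAlgHom R A) := by
  have h1 : toConv ((HopfAlgebra.antipodeAlgHom R B).comp (f : A →ₐ[R] B)) *
      toConv (f : A →ₐ[R] B) = 1 := by
    have h := AlgHom.convMul_comp_bialgHom_distrib (toConv (HopfAlgebra.antipodeAlgHom R B))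
      (toConv (AlgHom.id R B)) f
    rw [AlgHom.antipode_id_cancel, convOne_comp_bialgHom] at h
    apply WithConv.ofConv_injective
    rw [h]
    rfl
  have h2 := self_mul_antipode (k := R) (f : A →ₐ[R] B)
  have h3 := left_inv_eq_right_inv h1 h2
  exact WithConv.toConv_injective h3

theorem map_antipode (f : A →ₐc[R] B) (a : A) :
    f (HopfAlgebra.antipode R a) = HopfAlgebra.antipode R (f a) :=
  (AlgHom.congr_fun (antipode_comp_eq f) a).symm

end Antipode

section Ker

variable {R : Type u} [CommRing R] {A : Type v} [CommRing A] [HopfAlgebra R A]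
  {D : Type w} [CommRing D] [HopfAlgebra R D]

/-- the kernel of a surjective bialgebra map of commutative Hopf algebras is a Hopf ideal. -/
theorem isHopfIdeal_ker_of_surjective (φ : A →ₐc[R] D) (hφ : Function.Surjective φ) :
    (RingHom.ker (φ : A →+* D)).IsHopfIdeal R := by
  have hI : (RingHom.ker (φ : A →+* D)).restrictScalars R = LinearMap.ker (φ : A →ₗ[R] D) :=
    Submodule.ext (fun _ => Iff.rfl)
  have hco : ((RingHom.ker (φ : A →+* D)).restrictScalars R).IsCoideal := by
    rw [hI, Submodule.isCoideal_iff_comul_mem]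
    refine ⟨?_, ?_⟩
    · intro x hx
      rw [LinearMap.mem_ker] at hx
      have h1 : Coalgebra.counit (R := R) ((φ : A →ₗ[R] D) x) = Coalgebra.counit (R := R) x :=
        CoalgHomClass.counit_comp_apply φ x
      rw [← h1, hx, map_zero]
    · intro x hx
      rw [LinearMap.mem_ker] at hx
      have hk := TensorProduct.map_ker
        (LinearMap.exact_subtype_ker_map (φ : A →ₗ[R] D)) hφ
        (LinearMap.exact_subtype_ker_map (φ : A →ₗ[R] D)) hφ
      rw [← hk, LinearMap.mem_ker]
      have h1 : TensorProduct.map (φ : A →ₗ[R] D) (φ : A →ₗ[R] D) (Coalgebra.comul (R := R) x) =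
          Coalgebra.comul (R := R) ((φ : A →ₗ[R] D) x) :=
        LinearMap.congr_fun (CoalgHomClass.map_comp_comul φ) x
      rw [h1, hx, map_zero]
  exact { toIsCoideal := hco
          antipode_mem := fun x hx => by
            rw [RingHom.mem_ker] at hx ⊢
            change φ (HopfAlgebra.antipode R x) = 0
            rw [map_antipode, show φ x = 0 from hx, map_zero] }

/-- the augmentation ideal is a Hopf ideal. -/
instance isHopfIdeal_ker_counit :
    (RingHom.ker (Bialgebra.counitAlgHom R A)).IsHopfIdeal R := by
  have h := isHopfIdeal_ker_of_surjective (Bialgebra.counitBialgHom R A) (by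
    intro r
    refine ⟨algebraMap R A r, ?_⟩
    change Bialgebra.counitAlgHom R A (algebraMap R A r) = r
    rw [AlgHom.commutes]
    rfl)
  exact h

end Ker

section Map

variable {R : Type u} [CommRing R] {H : Type v} [CommRing H] [HopfAlgebra R H]
  {C : Type w} [CommRing C] [HopfAlgebra R C]

/-- the ideal generated by the image of a Hopf ideal under a bialgebra map is a Hopf ideal. -/
theorem isHopfIdeal_map (ψ : C →ₐc[R] H) (I : Ideal C) [I.IsHopfIdeal R] :
    (Ideal.map (ψ : C →+* H) I).IsHopfIdeal R := by
  set J := Ideal.map (ψ : C →+* H) I with hJ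
  have hmk : ∀ i ∈ I, Ideal.Quotient.mkₐ R J (ψ i) = 0 := fun i hi =>
    Ideal.Quotient.eq_zero_iff_mem.2 (Ideal.mem_map_of_mem _ hi)
  refine { counit_eq_zero := ?_, map_mkQ_comul_eq_zero := ?_, antipode_mem := ?_ }
  · have : J ≤ RingHom.ker (Bialgebra.counitAlgHom R H : H →+* R) := by
      rw [hJ, Ideal.map_le_iff_le_comap]
      intro i hi
      rw [Ideal.mem_comap, RingHom.mem_ker]
      change Coalgebra.counit (R := R) (ψ i) = 0
      rw [CoalgHomClass.counit_comp_apply ψ i]
      exact Submodule.IsCoideal.counit_eq_zero (I := I.restrictScalars R) hi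
    intro x hx
    exact this hx
  · let Φ : H →ₐ[R] (H ⧸ J) ⊗[R] (H ⧸ J) :=
      (Algebra.TensorProduct.map (Ideal.Quotient.mkₐ R J) (Ideal.Quotient.mkₐ R J)).comp
        (Bialgebra.comulAlgHom R H)
    have : J ≤ RingHom.ker (Φ : H →+* (H ⧸ J) ⊗[R] (H ⧸ J)) := by
      apply Ideal.map_le_iff_le_comap.2
      intro i hi
      rw [Ideal.mem_comap, RingHom.mem_ker]
      change Algebra.TensorProduct.map (Ideal.Quotient.mkₐ R J) (Ideal.Quotient.mkₐ R J)
        (Coalgebra.comul (R := R) (ψ i)) = 0
      have h1 : Coalgebra.comul (R := R) (ψ i) =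
          TensorProduct.map (ψ : C →ₗ[R] H) (ψ : C →ₗ[R] H) (Coalgebra.comul (R := R) i) :=
        (LinearMap.congr_fun (CoalgHomClass.map_comp_comul ψ) i).symm
      have h2 := ((Submodule.isCoideal_iff_comul_mem (I.restrictScalars R)).1 inferInstance).2 i hi
      have hy : ∀ y' : C ⊗[R] ↥(I.restrictScalars R),
          Algebra.TensorProduct.map (Ideal.Quotient.mkₐ R J) (Ideal.Quotient.mkₐ R J)
          (TensorProduct.map (ψ : C →ₗ[R] H) (ψ : C →ₗ[R] H)
            (LinearMap.lTensor C (I.restrictScalars R).subtype y')) = 0 := by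
        intro y'
        induction y' using TensorProduct.induction_on with
        | zero => simp
        | tmul c i' =>
          simp only [LinearMap.lTensor_tmul, Submodule.subtype_apply, TensorProduct.map_tmul,
            Algebra.TensorProduct.map_tmul]
          have := hmk i' i'.2
          rw [show ((ψ : C →ₗ[R] H) (i' : C)) = ψ (i' : C) from rfl, this, TensorProduct.tmul_zero]
        | add a b ha hb => simp only [map_add, ha, hb, add_zero]
      have hz : ∀ z' : ↥(I.restrictScalars R) ⊗[R] C,
          Algebra.TensorProduct.map (Ideal.Quotient.mkₐ R J) (Ideal.Quotient.mkₐ R J)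
          (TensorProduct.map (ψ : C →ₗ[R] H) (ψ : C →ₗ[R] H)
            (LinearMap.rTensor C (I.restrictScalars R).subtype z')) = 0 := by
        intro z'
        induction z' using TensorProduct.induction_on with
        | zero => simp
        | tmul i' c =>
          simp only [LinearMap.rTensor_tmul, Submodule.subtype_apply, TensorProduct.map_tmul,
            Algebra.TensorProduct.map_tmul]
          have := hmk i' i'.2
          rw [show ((ψ : C →ₗ[R] H) (i' : C)) = ψ (i' : C) from rfl, this, TensorProduct.zero_tmul]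
        | add a b ha hb => simp only [map_add, ha, hb, add_zero]
      obtain ⟨y, ⟨y', rfl⟩, z, ⟨z', rfl⟩, hyz⟩ := Submodule.mem_sup.1 h2
      rw [h1, ← hyz, map_add, map_add, hy, hz, add_zero]
    intro x hx
    have h3 := this hx
    rw [RingHom.mem_ker] at h3
    exact h3
  · have : J ≤ Ideal.comap (HopfAlgebra.antipodeAlgHom R H : H →+* H) J := by
      rw [hJ, Ideal.map_le_iff_le_comap]
      intro i hi
      rw [Ideal.mem_comap, Ideal.mem_comap]
      change HopfAlgebra.antipode R (ψ i) ∈ _
      rw [← map_antipode]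
      exact Ideal.mem_map_of_mem _ (Ideal.IsHopfIdeal.antipode_mem (R := R) hi)
    intro x hx
    exact this hx

end Map

section Pow

variable (R : Type u) [CommRing R] (A : Type u) [CommRing A] [HopfAlgebra R A]
  [Coalgebra.IsCocomm R A]

/-- the `n`-th power map of a commutative group, as a bialgebra map. -/
noncomputable def powBialgHom (n : ℕ) : A →ₐc[R] A :=
  ((toConv (BialgHom.id R A) : WithConv (A →ₐc[R] A)) ^ n).ofConv

lemma powBialgHom_toAlgHom (n : ℕ) :
    ((powBialgHom R A n : A →ₐc[R] A) : A →ₐ[R] A) = SGA3b.powConv R A n := by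
  have h := BialgHom.toAlgHom_convPow (toConv (BialgHom.id R A) : WithConv (A →ₐc[R] A)) n
  exact WithConv.toConv_injective h

/-- the ideal of the `n`-torsion subgroup of a commutative group is a Hopf ideal. -/
theorem isHopfIdeal_torsionIdeal (n : ℕ) : (SGA3b.torsionIdeal R A n).IsHopfIdeal R := by
  have h := isHopfIdeal_map (powBialgHom R A n) (RingHom.ker (Bialgebra.counitAlgHom R A))
  have h2 : Ideal.map ((powBialgHom R A n : A →ₐc[R] A) : A →+* A)
      (RingHom.ker (Bialgebra.counitAlgHom R A)) = SGA3b.torsionIdeal R A n := by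
    rw [SGA3b.torsionIdeal, ← powBialgHom_toAlgHom]
    rfl
  rwa [h2] at h

end Pow

end Groth.Agent.Lib.Helper7.HopfIdealR
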