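import Groth.Agent.Lib.Helper7.Burnside
import Groth.Agent.Lib.Helper7.ComodPoints
import Groth.Agent.Lib.Helper7.ComodCoalgHom
import Groth.Prelude.Def_CoactBr2
import Groth.Prelude.Def_Hoch

/-!
# External tensor products of simple comodules (helper7)
-/

universe u v v' w w'

open TensorProduct

namespace Groth.Agent.Lib.Helper7.Comod

open HopfRep

section Fact

variable {k : Type u} [Field k] {C : Type v} [AddCommGroup C] [Module k C] [Coalgebra k C]
variable {V : Type w} [AddCommGroup V] [Module k V] [Comod k C V]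

variable (V) in
/-- The endomorphism of a comodule given by a linear functional on the coalgebra. -/
noncomputable def fact (f : C →ₗ[k] k) : Module.End k V :=
  contr V f ∘ₗ Comod.coact (k := k) (A := C)

lemma fact_apply (f : C →ₗ[k] k) (v : V) :
    fact V f v = contr V f (Comod.coact (k := k) (A := C) v) := rfl

lemma isSubcomod_iff_forall_fact (W : Submodule k V) :
    IsSubcomod (k := k) (A := C) W ↔ ∀ (f : C →ₗ[k] k), ∀ w ∈ W, fact V f w ∈ W := by
  constructor
  · intro h f w hw
    exact (mem_range_rTensor_iff_contr W _).1 (h w hw) f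
  · intro h w hw
    exact (mem_range_rTensor_iff_contr W _).2 (fun f => h f w hw)

lemma isComodHom_of_commute_fact (φ : Module.End k V)
    (h : ∀ f : C →ₗ[k] k, φ * fact V f = fact V f * φ) : Hoch.IsComodHom C φ := by
  apply LinearMap.ext
  intro v
  rw [← sub_eq_zero]
  apply eq_zero_of_forall_contr_eq_zero
  intro f
  simp only [LinearMap.comp_apply, map_sub]
  rw [contr_rTensor, sub_eq_zero]
  have := LinearMap.congr_fun (h f) v
  exact this.symm

/-- Burnside's theorem for a simple comodule with scalar endomorphisms: the operators of linear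
functionals generate all endomorphisms. -/
theorem span_closure_fact_eq_top (hV : IsSimpleComod k C V)
    (hend : ∀ α : V →ₗ[k] V, Hoch.IsComodHom C α → ∃ a : k, α = a • LinearMap.id) :
    Submodule.span k ((Submonoid.closure (Set.range (fact V : (C →ₗ[k] k) → Module.End k V)) :
      Submonoid (Module.End k V)) : Set (Module.End k V)) = ⊤ := by
  haveI : Module.Finite k V := finite_of_isSimpleComod hV
  haveI : Nontrivial V := hV.1
  apply Burnside.span_eq_top_of_irreducible
  · intro W hW
    apply hV.2
    rw [isSubcomod_iff_forall_fact]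
    intro f w hw
    exact hW _ (Submonoid.subset_closure ⟨f, rfl⟩) w hw
  · intro φ hφ
    obtain ⟨a, ha⟩ := hend φ (isComodHom_of_commute_fact φ
      (fun f => hφ _ (Submonoid.subset_closure ⟨f, rfl⟩)))
    exact ⟨a, fun v => by rw [ha]; rfl⟩

end Fact

section Ext

variable {k : Type u} [Field k]
  {A₁ : Type v} [AddCommGroup A₁] [Module k A₁] [Coalgebra k A₁]
  {A₂ : Type v'} [AddCommGroup A₂] [Module k A₂] [Coalgebra k A₂]
  {V₁ : Type w} [AddCommGroup V₁] [Module k V₁] [Comod k A₁ V₁]
  {V₂ : Type w'} [AddCommGroup V₂] [Module k V₂] [Comod k A₂ V₂]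

/-- the functional `f₁ ⊠ f₂` on `A₁ ⊗ A₂`. -/
noncomputable def boxF (f₁ : A₁ →ₗ[k] k) (f₂ : A₂ →ₗ[k] k) : A₁ ⊗[k] A₂ →ₗ[k] k :=
  LinearMap.mul' k k ∘ₗ TensorProduct.map f₁ f₂

@[simp] lemma boxF_tmul (f₁ : A₁ →ₗ[k] k) (f₂ : A₂ →ₗ[k] k) (a : A₁) (b : A₂) :
    boxF f₁ f₂ (a ⊗ₜ[k] b) = f₁ a * f₂ b := by
  simp [boxF]

lemma contr_boxF_tttc (f₁ : A₁ →ₗ[k] k) (f₂ : A₂ →ₗ[k] k) (y₁ : V₁ ⊗[k] A₁) (y₂ : V₂ ⊗[k] A₂) :
    contr (V₁ ⊗[k] V₂) (boxF f₁ f₂)
      (AlgebraTensorModule.tensorTensorTensorComm k k k k V₁ A₁ V₂ A₂ (y₁ ⊗ₜ[k] y₂)) =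
    contr V₁ f₁ y₁ ⊗ₜ[k] contr V₂ f₂ y₂ := by
  induction y₁ using TensorProduct.induction_on with
  | zero => simp
  | add a b ha hb => simp only [TensorProduct.add_tmul, map_add, ha, hb]
  | tmul v a =>
    induction y₂ using TensorProduct.induction_on with
    | zero => simp
    | add a b ha hb => simp only [TensorProduct.tmul_add, map_add, ha, hb]
    | tmul w b =>
      simp only [AlgebraTensorModule.tensorTensorTensorComm_tmul, contr_tmul, boxF_tmul]
      rw [TensorProduct.smul_tmul_smul]

/-- The operator of `f₁ ⊠ f₂` on the external tensor product is the tensor product of the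
operators. -/
lemma fact_ext (f₁ : A₁ →ₗ[k] k) (f₂ : A₂ →ₗ[k] k) :
    @fact k _ (A₁ ⊗[k] A₂) _ _ _ (V₁ ⊗[k] V₂) _ _ (CoactBr.Comod.extTensor k k A₁ V₁ A₂ V₂)
      (boxF f₁ f₂) = TensorProduct.map (fact V₁ f₁) (fact V₂ f₂) := by
  apply TensorProduct.ext'
  intro v w
  letI := CoactBr.Comod.extTensor k k A₁ V₁ A₂ V₂
  rw [fact_apply]
  change contr _ _ (CoactBr.extCoact k k A₁ V₁ A₂ V₂ (v ⊗ₜ[k] w)) = _
  rw [CoactBr.extCoact_tmul, contr_boxF_tttc, TensorProduct.map_tmul]
  rfl

lemma fact_counit (V : Type w) [AddCommGroup V] [Module k V] [Comod k A₁ V] :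
    fact V (Coalgebra.counit (R := k) (A := A₁)) = LinearMap.id := by
  apply LinearMap.ext
  intro v
  have h := LinearMap.congr_fun (Comod.counit_comp (k := k) (A := A₁) (V := V)) v
  simp only [LinearMap.comp_apply] at h
  rw [fact_apply]
  change (TensorProduct.rid k V) (LinearMap.lTensor V _ _) = v
  rw [h]
  simp

/-- Main theorem: external tensor product of a simple comodule and an absolutely simple comodule
is simple. -/
theorem isSimpleComod_extTensor (h₁ : IsSimpleComod k A₁ V₁) (h₂ : IsSimpleComod k A₂ V₂)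
    (hend : ∀ α : V₂ →ₗ[k] V₂, Hoch.IsComodHom A₂ α → ∃ a : k, α = a • LinearMap.id) :
    @IsSimpleComod k (A₁ ⊗[k] A₂) _ _ _ _ (V₁ ⊗[k] V₂) _ _
      (CoactBr.Comod.extTensor k k A₁ V₁ A₂ V₂) := by
  letI cE := CoactBr.Comod.extTensor k k A₁ V₁ A₂ V₂
  haveI : Nontrivial V₁ := h₁.1
  haveI : Nontrivial V₂ := h₂.1
  refine ⟨?_, fun W hW => ?_⟩
  · obtain ⟨x, hx⟩ := exists_ne (0 : V₁)
    obtain ⟨y, hy⟩ := exists_ne (0 : V₂)
    refine ⟨⟨x ⊗ₜ[k] y, 0, ?_⟩⟩
    intro h
    have hy' : ¬ ∀ μ : Module.Dual k V₂, μ y = 0 := fun hh =>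
      hy ((Module.forall_dual_apply_eq_zero_iff k y).1 hh)
    push Not at hy'
    obtain ⟨μ, hμ⟩ := hy'
    have h2 := congrArg (contr V₁ μ) h
    rw [contr_tmul, map_zero] at h2
    rcases smul_eq_zero.1 h2 with h3 | h3
    · exact hμ h3
    · exact hx h3
  · rw [isSubcomod_iff_forall_fact] at hW
    have hW1 : ∀ (f₁ : A₁ →ₗ[k] k), ∀ w ∈ W, (fact V₁ f₁).rTensor V₂ w ∈ W := by
      intro f₁ w hw
      have := hW (boxF f₁ (Coalgebra.counit (R := k) (A := A₂))) w hw
      rw [fact_ext, fact_counit] at this
      exact this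
    have hW2 : ∀ (f₂ : A₂ →ₗ[k] k), ∀ w ∈ W, (fact V₂ f₂).lTensor V₁ w ∈ W := by
      intro f₂ w hw
      have := hW (boxF (Coalgebra.counit (R := k) (A := A₁)) f₂) w hw
      rw [fact_ext, fact_counit] at this
      exact this
    -- stability under all `id ⊗ φ`
    have hW3 : ∀ (φ : Module.End k V₂), ∀ w ∈ W, φ.lTensor V₁ w ∈ W := by
      intro φ
      have hφ : φ ∈ Submodule.span k ((Submonoid.closure
          (Set.range (fact V₂ : (A₂ →ₗ[k] k) → Module.End k V₂)) :
          Submonoid (Module.End k V₂)) : Set (Module.End k V₂)) := by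
        rw [span_closure_fact_eq_top h₂ hend]; trivial
      induction hφ using Submodule.span_induction with
      | mem x hx =>
        induction hx using Submonoid.closure_induction with
        | mem y hy =>
          obtain ⟨f, rfl⟩ := hy
          exact hW2 f
        | one =>
          intro w hw
          change (LinearMap.id : V₂ →ₗ[k] V₂).lTensor V₁ w ∈ W
          rw [LinearMap.lTensor_id]
          exact hw
        | mul a b _ _ ha hb =>
          intro w hw
          change (a ∘ₗ b).lTensor V₁ w ∈ W
          rw [LinearMap.lTensor_comp]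
          exact ha _ (hb w hw)
      | zero =>
        intro w hw
        rw [LinearMap.lTensor_zero]
        exact W.zero_mem
      | add a b _ _ ha hb =>
        intro w hw
        rw [LinearMap.lTensor_add]
        exact W.add_mem (ha w hw) (hb w hw)
      | smul c a _ ha =>
        intro w hw
        rw [LinearMap.lTensor_smul]
        exact W.smul_mem c (ha w hw)
    -- the subspace `U`
    let U : Submodule k V₁ :=
      { carrier := {u | ∀ v : V₂, u ⊗ₜ[k] v ∈ W}
        add_mem' := by
          intro a b ha hb v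
          rw [TensorProduct.add_tmul]
          exact W.add_mem (ha v) (hb v)
        zero_mem' := by
          intro v
          rw [TensorProduct.zero_tmul]
          exact W.zero_mem
        smul_mem' := by
          intro c a ha v
          rw [← TensorProduct.smul_tmul']
          exact W.smul_mem c (ha v) }
    have hU : IsSubcomod (k := k) (A := A₁) U := by
      rw [isSubcomod_iff_forall_fact]
      intro f u hu v
      have := hW1 f _ (hu v)
      rw [LinearMap.rTensor_tmul] at this
      exact this
    rcases h₁.2 U hU with h | h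
    · left
      rw [eq_bot_iff]
      intro w hw
      rw [Submodule.mem_bot]
      apply eq_zero_of_forall_contr_eq_zero
      intro μ
      have hmem : contr V₁ μ w ∈ U := by
        intro v
        have h4 := hW3 (μ.smulRight v) w hw
        have e : (μ.smulRight v).lTensor V₁ w = contr V₁ μ w ⊗ₜ[k] v := by
          clear h4 hw
          induction w using TensorProduct.induction_on with
          | zero => simp
          | add a b ha hb => simp only [map_add, ha, hb, TensorProduct.add_tmul]
          | tmul x y => simp [TensorProduct.smul_tmul]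
        rw [e] at h4
        exact h4
      rw [h, Submodule.mem_bot] at hmem
      exact hmem
    · right
      rw [eq_top_iff]
      rintro w -
      induction w using TensorProduct.induction_on with
      | zero => exact W.zero_mem
      | add a b ha hb => exact W.add_mem ha hb
      | tmul x y =>
        have : x ∈ U := by rw [h]; trivial
        exact this y

end Ext

end Groth.Agent.Lib.Helper7.Comod
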