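import Groth.Agent.Lib.Helper7.CoeffSpace
import Mathlib.RingTheory.HopfAlgebra.Quotient
import Mathlib.LinearAlgebra.Matrix.NonsingularInverse

/-!
# The stabilizer of a subspace of a comodule is cut out by a Hopf ideal (helper7)

* `sum_tmul_contrL`: basis expansion of elements of `V ⊗ N`.
* `mc A b i j`: the matrix coefficients of a comodule with respect to a basis, with `coact_basis`,
  `comul_mc`, `counit_mc`, `sum_antipode_mul`, `sum_mul_antipode`.
* `exists_adapted_basis`: a basis adapted to a subspace.
* `main`: the stabilizer Hopf ideal.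
-/

set_option autoImplicit false

universe u v w w'

open TensorProduct

namespace Groth.Agent.Lib.Helper7.StabIdeal

open HopfRep Groth.Agent.Lib.Helper7.Comod

section Basis

variable {k : Type u} [Field k] {V : Type w} [AddCommGroup V] [Module k V]
  {N : Type v} [AddCommGroup N] [Module k N]
variable {ι : Type w'} [Fintype ι] (b : Module.Basis ι k V)

lemma sum_tmul_contrL (x : V ⊗[k] N) : ∑ i, b i ⊗ₜ[k] contrL N (b.coord i) x = x := by
  induction x using TensorProduct.induction_on with
  | zero => simp
  | tmul v n =>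
    simp only [contrL_tmul, Module.Basis.coord_apply]
    conv_rhs => rw [← b.sum_repr v, TensorProduct.sum_tmul]
    refine Finset.sum_congr rfl fun i _ => ?_
    rw [TensorProduct.smul_tmul]
  | add y z hy hz => simp only [map_add, TensorProduct.tmul_add, Finset.sum_add_distrib, hy, hz]

end Basis

section Coeff

variable {k : Type u} [Field k] {A : Type v} [CommRing A] [HopfAlgebra k A]
variable {V : Type w} [AddCommGroup V] [Module k V] [Comod k A V]
variable {ι : Type w'} [Fintype ι] [DecidableEq ι] (b : Module.Basis ι k V)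

variable (A) in
/-- matrix coefficients of a comodule with respect to a basis. -/
noncomputable def mc (i j : ι) : A := coeffMap (C := A) (b.coord i) (b j)

lemma coact_basis (j : ι) :
    Comod.coact (k := k) (A := A) (b j) = ∑ i, b i ⊗ₜ[k] mc A b i j :=
  (sum_tmul_contrL b _).symm

lemma coeffMap_basis (φ : V →ₗ[k] k) (j : ι) :
    coeffMap (C := A) φ (b j) = ∑ i, φ (b i) • mc A b i j := by
  rw [coeffMap_apply, coact_basis b j, map_sum]
  simp only [contrL_tmul]

lemma comul_mc (i j : ι) :
    Coalgebra.comul (R := k) (mc A b i j) = ∑ l, mc A b i l ⊗ₜ[k] mc A b l j := by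
  unfold mc
  rw [comul_coeffMap, coact_basis b j, map_sum]
  simp only [LinearMap.rTensor_tmul]
  rfl

lemma counit_mc (i j : ι) :
    Coalgebra.counit (R := k) (mc A b i j) = if i = j then 1 else 0 := by
  unfold mc
  rw [counit_coeffMap, Module.Basis.coord_apply, Module.Basis.repr_self, Finsupp.single_apply]
  simp only [eq_comm]

lemma sum_antipode_mul (i j : ι) :
    ∑ l, HopfAlgebra.antipode k (mc A b i l) * mc A b l j = if i = j then 1 else 0 := by
  have h := HopfAlgebra.mul_antipode_rTensor_comul_apply (R := k) (mc A b i j)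
  rw [comul_mc, map_sum, map_sum, counit_mc] at h
  simp only [LinearMap.rTensor_tmul, LinearMap.mul'_apply] at h
  rw [h]
  split_ifs <;> simp

lemma sum_mul_antipode (i j : ι) :
    ∑ l, mc A b i l * HopfAlgebra.antipode k (mc A b l j) = if i = j then 1 else 0 := by
  have h := HopfAlgebra.mul_antipode_lTensor_comul_apply (R := k) (mc A b i j)
  rw [comul_mc, map_sum, map_sum, counit_mc] at h
  simp only [LinearMap.lTensor_tmul, LinearMap.mul'_apply] at h
  rw [h]
  split_ifs <;> simp

end Coeff

section Adapted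

variable {k : Type u} [Field k] {V : Type w} [AddCommGroup V] [Module k V] [Module.Finite k V]

theorem exists_adapted_basis (W : Submodule k V) :
    ∃ (n m : ℕ) (b : Module.Basis (Fin n ⊕ Fin m) k V), (∀ i, b (Sum.inl i) ∈ W) ∧
      (∀ w ∈ W, ∀ i, b.coord (Sum.inr i) w = 0) := by
  obtain ⟨W', hW'⟩ := Submodule.exists_isCompl W
  let bW := Module.finBasis k W
  let bW' := Module.finBasis k W'
  let e := Submodule.prodEquivOfIsCompl W W' hW'
  refine ⟨_, _, (bW.prod bW').map e, ?_, ?_⟩
  · intro i
    rw [Module.Basis.map_apply]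
    have : (bW.prod bW') (Sum.inl i) = ((bW i : W), (0 : W')) := by
      ext <;> simp
    rw [this]
    simp [e]
  · intro w hw i
    rw [Module.Basis.coord_apply, Module.Basis.map_repr, LinearEquiv.trans_apply]
    have : e.symm w = ((⟨w, hw⟩ : W), (0 : W')) := by
      rw [LinearEquiv.symm_apply_eq]
      simp [e]
    rw [this, Module.Basis.prod_repr_inr]
    simp

end Adapted

section Main

variable {k : Type u} [Field k] {A : Type u} [CommRing A] [HopfAlgebra k A]
variable {V : Type w} [AddCommGroup V] [Module k V] [Comod k A V]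
variable {n m : ℕ} (b : Module.Basis (Fin n ⊕ Fin m) k V)

variable (A) in
/-- the ideal generated by the lower left block of matrix coefficients. -/
noncomputable def stabI : Ideal A :=
  Ideal.span (Set.range fun p : Fin m × Fin n => mc A b (Sum.inr p.1) (Sum.inl p.2))

lemma mc_mem_stabI (i : Fin m) (j : Fin n) : mc A b (Sum.inr i) (Sum.inl j) ∈ stabI A b :=
  Ideal.subset_span ⟨(i, j), rfl⟩

lemma stabI_le_iff (I : Ideal A) :
    stabI A b ≤ I ↔ ∀ (i : Fin m) (j : Fin n), mc A b (Sum.inr i) (Sum.inl j) ∈ I := by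
  unfold stabI
  rw [Ideal.span_le]
  constructor
  · intro h i j
    exact h ⟨(i, j), rfl⟩
  · rintro h _ ⟨p, rfl⟩
    exact h p.1 p.2

/-- the counit kills the stabilizer ideal. -/
lemma counit_stabI (x : A) (hx : x ∈ stabI A b) : Coalgebra.counit (R := k) x = 0 := by
  have h : stabI A b ≤ RingHom.ker (Bialgebra.counitAlgHom k A : A →+* k) := by
    rw [stabI_le_iff]
    intro i j
    rw [RingHom.mem_ker]
    change Coalgebra.counit (R := k) _ = 0
    rw [counit_mc]
    simp
  exact h hx

/-- the comultiplication of the stabilizer ideal dies in the quotient. -/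
lemma comul_stabI (x : A) (hx : x ∈ stabI A b) :
    (Algebra.TensorProduct.map (Ideal.Quotient.mkₐ k (stabI A b))
      (Ideal.Quotient.mkₐ k (stabI A b))) (Coalgebra.comul (R := k) x) = 0 := by
  have h : stabI A b ≤ RingHom.ker
      ((Algebra.TensorProduct.map (Ideal.Quotient.mkₐ k (stabI A b))
      (Ideal.Quotient.mkₐ k (stabI A b))).comp (Bialgebra.comulAlgHom k A)).toRingHom := by
    rw [stabI_le_iff]
    intro i j
    rw [RingHom.mem_ker]
    change (Algebra.TensorProduct.map (Ideal.Quotient.mkₐ k (stabI A b))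
      (Ideal.Quotient.mkₐ k (stabI A b))) (Coalgebra.comul (R := k) _) = 0
    rw [comul_mc, map_sum]
    apply Finset.sum_eq_zero
    intro l _
    rw [Algebra.TensorProduct.map_tmul]
    rcases l with l | l
    · have : (Ideal.Quotient.mkₐ k (stabI A b)) (mc A b (Sum.inr i) (Sum.inl l)) = 0 :=
        Ideal.Quotient.eq_zero_iff_mem.2 (mc_mem_stabI b i l)
      rw [this, TensorProduct.zero_tmul]
    · have : (Ideal.Quotient.mkₐ k (stabI A b)) (mc A b (Sum.inr l) (Sum.inl j)) = 0 :=
        Ideal.Quotient.eq_zero_iff_mem.2 (mc_mem_stabI b l j)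
      rw [this, TensorProduct.tmul_zero]
  exact h hx

/-- the antipode preserves the stabilizer ideal. -/
lemma antipode_stabI (x : A) (hx : x ∈ stabI A b) : HopfAlgebra.antipode k x ∈ stabI A b := by
  have h : stabI A b ≤ Ideal.comap (HopfAlgebra.antipodeAlgHom k A : A →+* A) (stabI A b) := by
    rw [stabI_le_iff]
    intro i j
    rw [Ideal.mem_comap]
    change HopfAlgebra.antipode k _ ∈ _
    rw [← Ideal.Quotient.eq_zero_iff_mem]
    -- block matrices over the quotient
    set π := Ideal.Quotient.mk (stabI A b) with hπ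
    let M : Matrix (Fin n ⊕ Fin m) (Fin n ⊕ Fin m) (A ⧸ stabI A b) :=
      Matrix.of fun i j => π (mc A b i j)
    let N : Matrix (Fin n ⊕ Fin m) (Fin n ⊕ Fin m) (A ⧸ stabI A b) :=
      Matrix.of fun i j => π (HopfAlgebra.antipode k (mc A b i j))
    have hMN : M * N = 1 := by
      ext i j
      rw [Matrix.mul_apply, Matrix.one_apply]
      simp only [M, N, Matrix.of_apply]
      have h1 := congrArg π (sum_mul_antipode (A := A) b i j)
      rw [map_sum] at h1
      simp only [map_mul] at h1
      rw [h1]
      split_ifs <;> simp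
    have hM21 : M.toBlocks₂₁ = 0 := by
      ext i j
      simp only [Matrix.toBlocks₂₁, Matrix.of_apply, M, Matrix.zero_apply]
      exact Ideal.Quotient.eq_zero_iff_mem.2 (mc_mem_stabI b i j)
    have hM' : M = Matrix.fromBlocks M.toBlocks₁₁ M.toBlocks₁₂ 0 M.toBlocks₂₂ := by
      rw [← hM21, Matrix.fromBlocks_toBlocks]
    have hN' : N = Matrix.fromBlocks N.toBlocks₁₁ N.toBlocks₁₂ N.toBlocks₂₁ N.toBlocks₂₂ :=
      (Matrix.fromBlocks_toBlocks N).symm
    rw [hM', hN', Matrix.fromBlocks_multiply, ← Matrix.fromBlocks_one,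
      Matrix.fromBlocks_inj] at hMN
    obtain ⟨-, -, h21, h22⟩ := hMN
    simp only [Matrix.zero_mul, zero_add] at h21 h22
    have h22' : N.toBlocks₂₂ * M.toBlocks₂₂ = 1 := mul_eq_one_comm.1 h22
    have hN21 : N.toBlocks₂₁ = 0 := by
      calc N.toBlocks₂₁ = (N.toBlocks₂₂ * M.toBlocks₂₂) * N.toBlocks₂₁ := by
            rw [h22', Matrix.one_mul]
        _ = 0 := by rw [Matrix.mul_assoc, h21, Matrix.mul_zero]
    have := congrFun (congrFun hN21 i) j
    simpa [N, Matrix.toBlocks₂₁] using this
  exact h hx

theorem isHopfIdeal_stabI : (stabI A b).IsHopfIdeal k where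
  counit_eq_zero := fun x hx => counit_stabI b x hx
  map_mkQ_comul_eq_zero := fun x hx => comul_stabI b x hx
  antipode_mem := fun x hx => antipode_stabI b x hx

lemma coeffMap_mem_stabI (W : Submodule k V)
    (h2 : ∀ w ∈ W, ∀ i, b.coord (Sum.inr i) w = 0) (i : Fin m) (w : V) (hw : w ∈ W) :
    coeffMap (C := A) (b.coord (Sum.inr i)) w ∈ stabI A b := by
  have hw' : w = ∑ j, b.repr w j • b j := (b.sum_repr w).symm
  rw [hw', map_sum]
  apply Ideal.sum_mem
  intro j _
  rw [map_smul, Algebra.smul_def]
  rcases j with j | j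
  · exact Ideal.mul_mem_left _ _ (mc_mem_stabI b i j)
  · have : b.repr w (Sum.inr j) = 0 := h2 w hw j
    rw [this, map_zero, zero_mul]
    exact Ideal.zero_mem _

/-- the stabilizer ideal represents the stabilizer. -/
theorem represents_stabI (W : Submodule k V) (h1 : ∀ i, b (Sum.inl i) ∈ W)
    (h2 : ∀ w ∈ W, ∀ i, b.coord (Sum.inr i) w = 0)
    (R : Type v) [CommRing R] [Algebra k R] (g : A →ₐ[k] R) :
    (∀ a ∈ stabI A b, g a = 0) ↔ ∀ w ∈ W,
      LinearMap.lTensor V g.toLinearMap (Comod.coact (k := k) (A := A) w) ∈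
        LinearMap.range (W.subtype.rTensor R) := by
  constructor
  · intro hg w hw
    rw [← sum_tmul_contrL b (LinearMap.lTensor V g.toLinearMap (Comod.coact (k := k) (A := A) w)),
      Fintype.sum_sum_type]
    apply Submodule.add_mem
    · apply Submodule.sum_mem
      intro i _
      exact ⟨(⟨b (Sum.inl i), h1 i⟩ : W) ⊗ₜ[k] _, by rw [LinearMap.rTensor_tmul]; rfl⟩
    · apply Submodule.sum_mem
      intro i _
      rw [contrL_lTensor]
      have : g.toLinearMap (contrL A (b.coord (Sum.inr i)) (Comod.coact (k := k) (A := A) w)) = 0 :=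
        hg _ (coeffMap_mem_stabI b W h2 i w hw)
      rw [this, TensorProduct.tmul_zero]
      exact Submodule.zero_mem _
  · intro h
    have hle : stabI A b ≤ RingHom.ker (g : A →+* R) := by
      rw [stabI_le_iff]
      intro i j
      rw [RingHom.mem_ker]
      obtain ⟨y, hy⟩ := h (b (Sum.inl j)) (h1 j)
      have h3 := contrL_lTensor (N := A) (N' := R) (b.coord (Sum.inr i)) g.toLinearMap
        (Comod.coact (k := k) (A := A) (b (Sum.inl j)))
      rw [← hy, contrL_rTensor] at h3
      have h4 : (b.coord (Sum.inr i)) ∘ₗ W.subtype = 0 := by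
        ext w
        exact h2 w w.2 i
      rw [h4] at h3
      have h5 : contrL R (0 : W →ₗ[k] k) y = 0 := by simp [contrL]
      rw [h5] at h3
      exact h3.symm
    intro a ha
    exact hle ha

end Main

end Groth.Agent.Lib.Helper7.StabIdeal
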