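import Mathlib
import Groth.Agent.Lib.Helper7.ComodExtSimple
import Groth.Agent.Lib.Helper7.StabIdeal
import Groth.Agent.Lib.Helper7.CoeffSpace

/-!
# Class functions on a linearly reductive group are spanned by characters: algebraic core (helper7)
-/

set_option autoImplicit false
universe u v w w'
open TensorProduct

namespace Groth.Agent.Lib.Helper7.ClassFn

open HopfRep Groth.Agent.Lib.Helper7 Groth.Agent.Lib.Helper7.Comod Groth.Agent.Lib.Helper7.StabIdeal

section Basic

variable {k : Type u} [Field k] {A : Type v} [CommRing A] [HopfAlgebra k A]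

/-- cocommutative elements: `f(xy) = f(yx)`. -/
def IsCocomm (f : A) : Prop :=
  TensorProduct.comm k A A (Coalgebra.comul (R := k) f) = Coalgebra.comul (R := k) f

/-- the pairing `(φ ⊗ φ')(z)`. -/
noncomputable def pair (φ φ' : A →ₗ[k] k) : A ⊗[k] A →ₗ[k] k :=
  LinearMap.mul' k k ∘ₗ TensorProduct.map φ φ'

@[simp] lemma pair_tmul (φ φ' : A →ₗ[k] k) (x y : A) : pair φ φ' (x ⊗ₜ[k] y) = φ x * φ' y := by
  simp [pair]

lemma pair_comm (φ φ' : A →ₗ[k] k) (z : A ⊗[k] A) :
    pair φ φ' (TensorProduct.comm k A A z) = pair φ' φ z := by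
  induction z using TensorProduct.induction_on with
  | zero => simp
  | tmul x y => simp [mul_comm]
  | add x y hx hy => simp only [map_add, hx, hy]

variable {V : Type w} [AddCommGroup V] [Module k V] [Comod k A V]
variable {ι : Type w'} [Fintype ι] [DecidableEq ι] (b : Module.Basis ι k V)

/-- the character of a comodule in a basis. -/
noncomputable def chi : A := ∑ i, mc A b i i

lemma isCocomm_chi : IsCocomm (k := k) (chi (A := A) b) := by
  unfold IsCocomm chi
  rw [map_sum, map_sum]
  simp only [comul_mc, map_sum, TensorProduct.comm_tmul]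
  rw [Finset.sum_comm]

lemma pair_comul_mc (φ φ' : A →ₗ[k] k) (i j : ι) :
    pair φ φ' (Coalgebra.comul (R := k) (mc A b i j)) =
      ∑ l, φ (mc A b i l) * φ' (mc A b l j) := by
  rw [comul_mc, map_sum]
  simp only [pair_tmul]

/-- functionals realise all matrices on a simple comodule over an algebraically closed field. -/
theorem exists_functional_of_end [IsAlgClosed k] (hV : IsSimpleComod k A V)
    (T : Module.End k V) :
    ∃ φ : A →ₗ[k] k, ∀ j, T (b j) = ∑ i, φ (mc A b i j) • b i := by
  have hspan := span_closure_fact_eq_top hV (fun α hα => exists_smul_eq_of_isComodHom hV α hα)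
  have hT : T ∈ Submodule.span k ((Submonoid.closure
      (Set.range (fact V : (A →ₗ[k] k) → Module.End k V)) : Submonoid (Module.End k V)) :
      Set (Module.End k V)) := by rw [hspan]; trivial
  induction hT using Submodule.span_induction with
  | mem T hT =>
    induction hT using Submonoid.closure_induction with
    | mem T hT =>
      obtain ⟨f, rfl⟩ := hT
      refine ⟨f, fun j => ?_⟩
      rw [fact_apply, coact_basis b j, map_sum]
      simp only [contr_tmul]
    | one =>
      refine ⟨Coalgebra.counit (R := k) (A := A), fun j => ?_⟩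
      simp only [counit_mc]
      rw [Finset.sum_eq_single j]
      · simp
      · intro i _ hi
        rw [if_neg hi, zero_smul]
      · intro h; exact absurd (Finset.mem_univ j) h
    | mul T₁ T₂ _ _ h₁ h₂ =>
      obtain ⟨φ₁, hφ₁⟩ := h₁
      obtain ⟨φ₂, hφ₂⟩ := h₂
      refine ⟨pair φ₁ φ₂ ∘ₗ Coalgebra.comul (R := k) (A := A), fun j => ?_⟩
      rw [Module.End.mul_apply, hφ₂, map_sum]
      simp only [map_smul, hφ₁, Finset.smul_sum, LinearMap.comp_apply, pair_comul_mc,
        Finset.sum_smul]
      rw [Finset.sum_comm]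
      refine Finset.sum_congr rfl fun i _ => Finset.sum_congr rfl fun l _ => ?_
      rw [smul_smul, mul_comm]
  | zero => exact ⟨0, fun j => by simp⟩
  | add T₁ T₂ _ _ h₁ h₂ =>
    obtain ⟨φ₁, hφ₁⟩ := h₁
    obtain ⟨φ₂, hφ₂⟩ := h₂
    refine ⟨φ₁ + φ₂, fun j => ?_⟩
    rw [LinearMap.add_apply, hφ₁, hφ₂, ← Finset.sum_add_distrib]
    refine Finset.sum_congr rfl fun i _ => ?_
    rw [LinearMap.add_apply, add_smul]
  | smul a T _ h =>
    obtain ⟨φ, hφ⟩ := h
    refine ⟨a • φ, fun j => ?_⟩
    rw [LinearMap.smul_apply, hφ, Finset.smul_sum]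
    refine Finset.sum_congr rfl fun i _ => ?_
    rw [LinearMap.smul_apply, smul_smul, smul_eq_mul]

/-- the functional with matrix `E_{ab}`. -/
theorem exists_functional_single [IsAlgClosed k] (hV : IsSimpleComod k A V) (a c : ι) :
    ∃ φ : A →ₗ[k] k, ∀ i j, φ (mc A b i j) = if i = a ∧ j = c then 1 else 0 := by
  obtain ⟨φ, hφ⟩ := exists_functional_of_end b hV ((b.coord c).smulRight (b a))
  refine ⟨φ, fun i j => ?_⟩
  have h1 := congrArg (b.coord i) (hφ j)
  rw [LinearMap.smulRight_apply, map_smul, map_sum] at h1
  simp only [map_smul, Module.Basis.coord_apply, Module.Basis.repr_self, Finsupp.single_apply,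
    smul_eq_mul, mul_ite, mul_one, mul_zero, Finset.sum_ite_eq', Finset.mem_univ, if_true] at h1
  rw [← h1]
  by_cases hi : a = i <;> by_cases hj : c = j <;> simp [hi, hj, eq_comm]

omit [Fintype ι] in
lemma sum_single_mul_single [Fintype ι] (a c c' d i j : ι) :
    (∑ l, (if i = a ∧ l = c then (1 : k) else 0) * (if l = c' ∧ j = d then 1 else 0)) =
      if i = a ∧ c = c' ∧ j = d then 1 else 0 := by
  rw [Finset.sum_eq_single c]
  · by_cases hi : i = a <;> by_cases hj : j = d <;> by_cases hcc : c = c' <;> simp [hi, hj, hcc]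
  · intro l _ hl
    simp [hl]
  · intro h; exact absurd (Finset.mem_univ c) h

/-- a cocommutative element in the span of the matrix coefficients of a simple comodule is a
multiple of the character. -/
theorem eq_smul_chi_of_isCocomm [IsAlgClosed k] (hV : IsSimpleComod k A V) (f : A)
    (hf : f ∈ Submodule.span k (Set.range fun p : ι × ι => mc A b p.1 p.2))
    (hc : IsCocomm (k := k) f) : ∃ a : k, f = a • chi (A := A) b := by
  obtain ⟨lam, rfl⟩ := (Submodule.mem_span_range_iff_exists_fun k).1 hf
  have key : ∀ a c d : ι, lam (a, d) = if a = d then lam (c, c) else 0 := by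
    intro a c d
    obtain ⟨φ, hφ⟩ := exists_functional_single b hV a c
    obtain ⟨φ', hφ'⟩ := exists_functional_single b hV c d
    have h1 := congrArg (pair φ φ') hc
    rw [pair_comm] at h1
    have hL : pair φ φ' (Coalgebra.comul (R := k) (∑ p : ι × ι, lam p • mc A b p.1 p.2)) =
        lam (a, d) := by
      simp only [map_sum, map_smul, pair_comul_mc, hφ, hφ', smul_eq_mul, sum_single_mul_single]
      rw [Finset.sum_eq_single (a, d)]
      · simp
      · rintro ⟨i, j⟩ _ hne
        rw [if_neg, mul_zero]
        rintro ⟨h1, -, h2⟩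
        exact hne (Prod.ext h1 h2)
      · intro h; exact absurd (Finset.mem_univ _) h
    have hR : pair φ' φ (Coalgebra.comul (R := k) (∑ p : ι × ι, lam p • mc A b p.1 p.2)) =
        if a = d then lam (c, c) else 0 := by
      simp only [map_sum, map_smul, pair_comul_mc, hφ, hφ', smul_eq_mul, sum_single_mul_single]
      rw [Finset.sum_eq_single (c, c)]
      · by_cases had : a = d <;> simp [had, eq_comm]
      · rintro ⟨i, j⟩ _ hne
        rw [if_neg, mul_zero]
        rintro ⟨h1, -, h2⟩
        exact hne (Prod.ext h1 h2)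
      · intro h; exact absurd (Finset.mem_univ _) h
    rw [hL, hR] at h1
    exact h1.symm
  by_cases hne : Nonempty ι
  · obtain ⟨c⟩ := hne
    refine ⟨lam (c, c), ?_⟩
    unfold chi
    rw [Finset.smul_sum, Fintype.sum_prod_type]
    refine Finset.sum_congr rfl fun i _ => ?_
    rw [Finset.sum_eq_single i]
    · have := key i c i
      rw [if_pos rfl] at this
      rw [this]
    · intro j _ hj
      have := key i c j
      rw [if_neg (Ne.symm hj)] at this
      rw [this, zero_smul]
    · intro h; exact absurd (Finset.mem_univ i) h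
  · rw [not_nonempty_iff] at hne
    refine ⟨0, ?_⟩
    rw [zero_smul]
    exact Finset.sum_eq_zero fun p _ => (hne.false p.1).elim

end Basic

end Groth.Agent.Lib.Helper7.ClassFn
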