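import Mathlib
import Groth.Agent.Lib.Helper7.CF1
import Groth.Agent.Lib.Helper7.ComodIsotypic
import Groth.Prelude.Def_ComodTens

/-!
# Class functions: decomposition along simple subcoalgebras (helper7)
-/

set_option autoImplicit false
universe u v w w'
open TensorProduct

namespace Groth.Agent.Lib.Helper7.ClassFn

open HopfRep Groth.Agent.Lib.Helper7 Groth.Agent.Lib.Helper7.Comod Groth.Agent.Lib.Helper7.StabIdeal

section Chr

variable {k : Type u} [Field k] {A : Type v} [CommRing A] [HopfAlgebra k A]

/-- the character of a comodule structure on a coordinate space. -/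
noncomputable def chr {d : ℕ} (c : Comod k A (Fin d → k)) : A :=
  ∑ i : Fin d, TensorProduct.lid k A (LinearMap.rTensor A (LinearMap.proj i)
    (@Comod.coact k A _ _ _ _ (Fin d → k) _ _ c (Pi.single i 1)))

lemma chr_eq_chi {d : ℕ} (c : Comod k A (Fin d → k)) :
    chr c = @chi k _ A _ _ (Fin d → k) _ _ c (Fin d) _ (Pi.basisFun k (Fin d)) := by
  letI := c
  unfold chr chi mc
  refine Finset.sum_congr rfl fun i _ => ?_
  rw [coeffMap_apply, Pi.basisFun_apply]
  have : (Pi.basisFun k (Fin d)).coord i = (LinearMap.proj i : (Fin d → k) →ₗ[k] k) := by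
    apply LinearMap.ext
    intro v
    simp
  rw [this]
  rfl

variable {V : Type w} [AddCommGroup V] [Module k V]

/-- the character in a basis is the character of the transported structure. -/
lemma chi_eq_chr (c : Comod k A V) {d : ℕ} (b : Module.Basis (Fin d) k V) :
    @chi k _ A _ _ V _ _ c (Fin d) _ b = chr (ComodTens.Comod.ofEquiv b.equivFun c) := by
  rw [chr_eq_chi]
  unfold chi
  refine Finset.sum_congr rfl fun i _ => ?_
  unfold mc
  letI := c
  rw [@coeffMap_apply _ _ _ _ _ _ _ _ _ (ComodTens.Comod.ofEquiv b.equivFun c), coeffMap_apply]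
  have h1 : (Pi.basisFun k (Fin d)) i = b.equivFun (b i) := by
    rw [Pi.basisFun_apply]
    ext j
    simp [Pi.single_apply, eq_comm]
  rw [h1]
  have h2 := ComodTens.ofEquiv_coact_apply b.equivFun c (b i)
  change _ = contrL A _ ((ComodTens.Comod.ofEquiv b.equivFun c).coact (b.equivFun (b i)))
  rw [h2, contrL_rTensor]
  congr 2

end Chr

section Decomp

variable {k : Type u} [Field k] {A : Type v} [CommRing A] [HopfAlgebra k A]

variable (k A) in
/-- the span of all characters of comodule structures on coordinate spaces. -/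
noncomputable def chrSpan : Submodule k A :=
  Submodule.span k (Set.range fun p : (Σ d : ℕ, Comod k A (Fin d → k)) => chr p.2)

lemma chr_mem_chrSpan {d : ℕ} (c : Comod k A (Fin d → k)) : chr c ∈ chrSpan k A :=
  Submodule.subset_span ⟨⟨d, c⟩, rfl⟩

variable {V : Type w} [AddCommGroup V] [Module k V] [Comod k A V]
variable {ι : Type w'} [Fintype ι] [DecidableEq ι] (b : Module.Basis ι k V)

lemma coeffSpace_le_span_mc :
    coeffSpace k A V ≤ Submodule.span k (Set.range fun p : ι × ι => mc A b p.1 p.2) := by
  unfold coeffSpace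
  apply iSup_le
  rintro φ _ ⟨v, rfl⟩
  rw [← b.sum_repr v, map_sum]
  refine Submodule.sum_mem _ fun j _ => ?_
  rw [map_smul, coeffMap_basis]
  refine Submodule.smul_mem _ _ (Submodule.sum_mem _ fun i _ => ?_)
  exact Submodule.smul_mem _ _ (Submodule.subset_span ⟨(i, j), rfl⟩)

/-- cocommutative elements of a simple subcoalgebra are multiples of a character. -/
theorem mem_chrSpan_of_mem_simple [IsAlgClosed k] {D : Submodule k A} (hD : IsSimpleSubcoalg D)
    (f : A) (hf : f ∈ D) (hc : IsCocomm (k := k) f) : f ∈ chrSpan k A := by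
  obtain ⟨E, hE, hED, hcf⟩ := exists_isSimpleSub_coeffSpace_eq hD
  letI cE : Comod k A E := ComodSub.Comod.restr (Comod.regular k A) E hE.1
  have hEs : IsSimpleComod k A E := isSimpleComod_restr hE
  haveI : Module.Finite k E := finite_of_isSimpleComod hEs
  set bE := Module.finBasis k E with hbE
  have hf' : f ∈ Submodule.span k (Set.range fun p : Fin (Module.finrank k E) ×
      Fin (Module.finrank k E) => mc A bE p.1 p.2) := by
    apply coeffSpace_le_span_mc bE
    rw [hcf]
    exact hf
  obtain ⟨a, ha⟩ := eq_smul_chi_of_isCocomm bE hEs f hf' hc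
  rw [ha, chi_eq_chr cE bE]
  exact Submodule.smul_mem _ _ (chr_mem_chrSpan _)

lemma map_comm {M N : Type*} [AddCommGroup M] [Module k M] [AddCommGroup N] [Module k N]
    (P : M →ₗ[k] N) (z : M ⊗[k] M) :
    TensorProduct.map P P (TensorProduct.comm k M M z) =
      TensorProduct.comm k N N (TensorProduct.map P P z) := by
  induction z using TensorProduct.induction_on with
  | zero => simp
  | tmul x y => simp
  | add x y hx hy => simp only [map_add, hx, hy]

/-- a component of a cocommutative element in a direct sum of subcoalgebras is cocommutative. -/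
theorem isCocomm_left_of_add {D D' : Submodule k A} (hD : IsSubcoalg D) (hD' : IsSubcoalg D')
    (hdis : Disjoint D D') {f₀ g : A} (hf₀ : f₀ ∈ D) (hg : g ∈ D')
    (hc : IsCocomm (k := k) (f₀ + g)) : IsCocomm (k := k) f₀ := by
  obtain ⟨E, hE⟩ := Submodule.exists_isCompl (D ⊔ D')
  have hcompl : IsCompl D (D' ⊔ E) := by
    constructor
    · exact hdis.disjoint_sup_right_of_disjoint_sup_left hE.disjoint
    · rw [codisjoint_iff, ← sup_assoc]
      exact hE.sup_eq_top
  set P : A →ₗ[k] A := D.projection (D' ⊔ E) hcompl with hP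
  have hP1 : P ∘ₗ D.subtype = D.subtype := by
    apply LinearMap.ext
    intro x
    exact Submodule.projection_apply_left hcompl x
  have hP2 : P ∘ₗ D'.subtype = 0 := by
    apply LinearMap.ext
    intro x
    have : (x : A) ∈ D' ⊔ E := (le_sup_left : D' ≤ D' ⊔ E) x.2
    exact (Submodule.projection_apply_eq_zero_iff hcompl).2 this
  have h1 : TensorProduct.map P P (Coalgebra.comul (R := k) f₀) = Coalgebra.comul (R := k) f₀ := by
    obtain ⟨z, hz⟩ := hD f₀ hf₀
    rw [← hz, ← LinearMap.comp_apply, ← TensorProduct.map_comp, hP1]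
  have h2 : TensorProduct.map P P (Coalgebra.comul (R := k) g) = 0 := by
    obtain ⟨z, hz⟩ := hD' g hg
    rw [← hz, ← LinearMap.comp_apply, ← TensorProduct.map_comp, hP2, TensorProduct.map_zero_left,
      LinearMap.zero_apply]
  unfold IsCocomm at hc ⊢
  have h3 := congrArg (TensorProduct.map P P) hc
  rw [map_comm, map_add, map_add, h1, h2, add_zero] at h3
  exact h3

lemma isCocomm_sub {f g : A} (hf : IsCocomm (k := k) f) (hg : IsCocomm (k := k) g) :
    IsCocomm (k := k) (f - g) := by
  unfold IsCocomm at *
  rw [map_sub, map_sub, hf, hg]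

lemma isCocomm_zero : IsCocomm (k := k) (0 : A) := by
  unfold IsCocomm
  simp

/-- **Class functions are spanned by characters** (cosemisimple case, algebraically closed
field). -/
theorem mem_chrSpan_of_isCocomm [IsAlgClosed k] (hC : IsSemisimpleComod k A A) (f : A)
    (hc : IsCocomm (k := k) f) : f ∈ chrSpan k A := by
  have htop := iSup_isSimpleSubcoalg_eq_top hC
  have hf : f ∈ ⨆ D : {D : Submodule k A // IsSimpleSubcoalg D}, (D.1 : Submodule k A) := by
    rw [htop]; trivial
  obtain ⟨S, hS⟩ := (Submodule.mem_iSup_iff_exists_finset).1 hf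
  clear hf
  induction S using Finset.induction_on generalizing f with
  | empty =>
    simp only [Finset.notMem_empty, iSup_false, iSup_bot, Submodule.mem_bot] at hS
    rw [hS]
    exact Submodule.zero_mem _
  | insert D₀ S' hD₀ ih =>
    rw [Finset.iSup_insert] at hS
    obtain ⟨f₀, hf₀, g, hg, rfl⟩ := Submodule.mem_sup.1 hS
    have hD' : IsSubcoalg (⨆ D ∈ S', (D : {D : Submodule k A // IsSimpleSubcoalg D}).1) :=
      isSubcoalg_iSup fun D => isSubcoalg_iSup fun _ => D.2.2.1
    have hdis : Disjoint D₀.1 (⨆ D ∈ S', (D : {D : Submodule k A // IsSimpleSubcoalg D}).1) := by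
      have := (iSupIndep_isSimpleSubcoalg (k := k) (C := A)).disjoint_biSup
        (x := D₀) (y := (↑S' : Set _)) (by simpa using hD₀)
      simpa using this
    have h0 : IsCocomm (k := k) f₀ := isCocomm_left_of_add D₀.2.2.1 hD' hdis hf₀ hg hc
    have hgc : IsCocomm (k := k) g := by
      have := isCocomm_sub hc h0
      rwa [add_sub_cancel_left] at this
    exact Submodule.add_mem _ (mem_chrSpan_of_mem_simple D₀.2 f₀ hf₀ h0) (ih g hgc hg)

end Decomp

end Groth.Agent.Lib.Helper7.ClassFn
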