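import Mathlib

/-!
# Convolution groups of points of an affine group and first-order congruence subgroups (helper7)

`C` a commutative Hopf algebra over `R`.  For a commutative `R`-algebra `T`, the `T`-points
`C →ₐ[R] T` form a group under convolution.  For a square-zero ideal `N` of `T`, the points
congruent to `1` modulo `N` form a commutative normal subgroup, on which `f ↦ f - 1` ("d-part") is
additive.
-/

set_option autoImplicit false

namespace Groth.Agent.Lib.Helper7.HH

open TensorProduct WithConv

universe u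

section Group

variable {R : Type u} [CommRing R] {C : Type u} [CommRing C] [HopfAlgebra R C]
  {T : Type u} [CommRing T] [Algebra R T]

/-- the `T`-points of `Spec C`. -/
abbrev Pt (R : Type u) [CommRing R] (C : Type u) [CommRing C] [HopfAlgebra R C] (T : Type u)
    [CommRing T] [Algebra R T] := WithConv (C →ₐ[R] T)

/-- inverse of a point. -/
noncomputable def pinv (f : Pt R C T) : Pt R C T :=
  toConv (f.ofConv.comp (HopfAlgebra.antipodeAlgHom R C))

lemma lift_antipode_id (z : C ⊗[R] C) :
    Algebra.TensorProduct.lift (HopfAlgebra.antipodeAlgHom R C) (AlgHom.id R C)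
      (fun _ _ => Commute.all _ _) z =
      LinearMap.mul' R C (LinearMap.rTensor C (HopfAlgebra.antipode R) z) := by
  induction z using TensorProduct.induction_on with
  | zero => simp
  | tmul a b => simp
  | add y z hy hz => simp only [map_add, hy, hz]

lemma lift_comp (f : C →ₐ[R] T) (g h : C →ₐ[R] C) (z : C ⊗[R] C) :
    Algebra.TensorProduct.lift (f.comp g) (f.comp h) (fun _ _ => Commute.all _ _) z =
      f (Algebra.TensorProduct.lift g h (fun _ _ => Commute.all _ _) z) := by
  induction z using TensorProduct.induction_on with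
  | zero => simp
  | tmul a b => simp
  | add y z hy hz => simp only [map_add, hy, hz]

lemma pinv_mul (f : Pt R C T) : pinv f * f = 1 := by
  apply WithConv.ext
  apply AlgHom.ext
  intro c
  rw [AlgHom.convMul_apply]
  have h := lift_comp f.ofConv (HopfAlgebra.antipodeAlgHom R C) (AlgHom.id R C)
    (Coalgebra.comul (R := R) c)
  rw [AlgHom.comp_id] at h
  have e1 : (pinv f).ofConv = f.ofConv.comp (HopfAlgebra.antipodeAlgHom R C) := rfl
  simp only [e1]
  rw [h, lift_antipode_id, HopfAlgebra.mul_antipode_rTensor_comul_apply, AlgHom.commutes]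
  rfl

noncomputable instance instGroupPt : Group (Pt R C T) :=
  { (inferInstance : Monoid (Pt R C T)) with
    inv := pinv
    inv_mul_cancel := pinv_mul }

lemma inv_def (f : Pt R C T) : f⁻¹ = pinv f := rfl

lemma inv_apply (f : Pt R C T) (c : C) : f⁻¹ c = f (HopfAlgebra.antipode R c) := rfl

lemma one_apply (c : C) : (1 : Pt R C T) c = algebraMap R T (Coalgebra.counit c) := rfl

/-- push-forward of points along an algebra map. -/
noncomputable def push {T' : Type u} [CommRing T'] [Algebra R T'] (h : T →ₐ[R] T') :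
    Pt R C T →* Pt R C T' where
  toFun f := toConv (h.comp f.ofConv)
  map_one' := by
    apply WithConv.ext
    apply AlgHom.ext
    intro c
    change h (algebraMap R T (Coalgebra.counit c)) = algebraMap R T' (Coalgebra.counit c)
    rw [AlgHom.commutes]
  map_mul' f g := by
    apply WithConv.ext
    exact AlgHom.comp_convMul_distrib h f g

lemma push_apply {T' : Type u} [CommRing T'] [Algebra R T'] (h : T →ₐ[R] T') (f : Pt R C T)
    (c : C) : push h f c = h (f c) := rfl

lemma push_push {T' T'' : Type u} [CommRing T'] [Algebra R T'] [CommRing T''] [Algebra R T'']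
    (h : T →ₐ[R] T') (h' : T' →ₐ[R] T'') (f : Pt R C T) :
    push h' (push h f) = push (h'.comp h) f := rfl

end Group

section Cong

variable {R : Type u} [CommRing R] {C : Type u} [CommRing C] [HopfAlgebra R C]
  {T : Type u} [CommRing T] [Algebra R T]

/-- the linear map underlying a point, in the convolution ring. -/
noncomputable def lin (f : Pt R C T) : WithConv (C →ₗ[R] T) := toConv f.ofConv.toLinearMap

lemma lin_apply (f : Pt R C T) (c : C) : lin f c = f c := rfl

lemma lin_mul (f g : Pt R C T) : lin (f * g) = lin f * lin g := rfl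

lemma lin_one : lin (1 : Pt R C T) = 1 := rfl

lemma lin_injective : Function.Injective (lin : Pt R C T → WithConv (C →ₗ[R] T)) := by
  intro f g h
  apply WithConv.ext
  apply AlgHom.toLinearMap_injective
  exact congrArg WithConv.ofConv h

lemma lin_inv_mul (f : Pt R C T) : lin f⁻¹ * lin f = 1 := by
  rw [← lin_mul, inv_mul_cancel, lin_one]

lemma lin_mul_inv (f : Pt R C T) : lin f * lin f⁻¹ = 1 := by
  rw [← lin_mul, mul_inv_cancel, lin_one]

/-- the `d`-part `f - 1` of a point. -/
noncomputable def dpart (f : Pt R C T) : WithConv (C →ₗ[R] T) := lin f - 1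

lemma dpart_apply (f : Pt R C T) (c : C) :
    dpart f c = f c - algebraMap R T (Coalgebra.counit c) := rfl

lemma lin_eq (f : Pt R C T) : lin f = 1 + dpart f := by
  rw [dpart, add_sub_cancel]

lemma dpart_one : dpart (1 : Pt R C T) = 0 := by
  rw [dpart, lin_one, sub_self]

lemma dpart_injective : Function.Injective (dpart : Pt R C T → WithConv (C →ₗ[R] T)) := by
  intro f g h
  apply lin_injective
  rw [lin_eq, lin_eq, h]

/-- congruence to `1` modulo an ideal. -/
def Cong (N : Ideal T) (f : Pt R C T) : Prop := ∀ c, dpart f c ∈ N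

lemma conv_mem_mul (N₁ N₂ : Ideal T) (u v : WithConv (C →ₗ[R] T)) (hu : ∀ c, u c ∈ N₁)
    (hv : ∀ c, v c ∈ N₂) (c : C) : (u * v) c ∈ N₁ * N₂ := by
  rw [LinearMap.convMul_apply]
  generalize Coalgebra.comul (R := R) c = z
  induction z using TensorProduct.induction_on with
  | zero => simp
  | tmul a b =>
    rw [TensorProduct.map_tmul, LinearMap.mul'_apply]
    exact Ideal.mul_mem_mul (hu a) (hv b)
  | add x y hx hy =>
    rw [map_add, map_add]
    exact Ideal.add_mem _ hx hy

variable {N : Ideal T}

lemma dpart_mul_dpart (hN : N * N = ⊥) {f g : Pt R C T} (hf : Cong N f) (hg : Cong N g) :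
    dpart f * dpart g = 0 := by
  apply WithConv.ext
  apply LinearMap.ext
  intro c
  have := conv_mem_mul N N (dpart f) (dpart g) hf hg c
  rw [hN] at this
  exact this

lemma dpart_mul (hN : N * N = ⊥) {f g : Pt R C T} (hf : Cong N f) (hg : Cong N g) :
    dpart (f * g) = dpart f + dpart g := by
  have h := dpart_mul_dpart hN hf hg
  rw [dpart, lin_mul, lin_eq f, lin_eq g, add_mul, mul_add, mul_add, one_mul, mul_one, one_mul, h,
    add_zero]
  abel

lemma Cong.one : Cong N (1 : Pt R C T) := by
  intro c
  rw [dpart_one]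
  exact N.zero_mem

lemma Cong.mul (hN : N * N = ⊥) {f g : Pt R C T} (hf : Cong N f) (hg : Cong N g) :
    Cong N (f * g) := by
  intro c
  rw [dpart_mul hN hf hg]
  exact N.add_mem (hf c) (hg c)

lemma Cong.inv {f : Pt R C T} (hf : Cong N f) : Cong N f⁻¹ := by
  intro c
  have h := hf (HopfAlgebra.antipode R c)
  rw [dpart_apply, HopfAlgebra.counit_antipode] at h
  rw [dpart_apply, inv_apply]
  exact h

lemma dpart_conj (g f : Pt R C T) : dpart (g * f * g⁻¹) = lin g * dpart f * lin g⁻¹ := by
  rw [dpart, lin_mul, lin_mul, dpart, mul_sub, sub_mul, mul_one, lin_mul_inv]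

lemma Cong.conj (g : Pt R C T) {f : Pt R C T} (hf : Cong N f) : Cong N (g * f * g⁻¹) := by
  intro c
  rw [dpart_conj]
  have h1 := conv_mem_mul (⊤ : Ideal T) N (lin g) (dpart f) (fun _ => Submodule.mem_top) hf
  have h2 := conv_mem_mul ((⊤ : Ideal T) * N) ⊤ (lin g * dpart f) (lin g⁻¹) h1
    (fun _ => Submodule.mem_top) c
  exact Ideal.mul_le_right (Ideal.mul_le_left h2)

lemma Cong.comm (hN : N * N = ⊥) {f g : Pt R C T} (hf : Cong N f) (hg : Cong N g) :
    f * g = g * f := by
  apply dpart_injective
  rw [dpart_mul hN hf hg, dpart_mul hN hg hf, add_comm]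

lemma dpart_inv (hN : N * N = ⊥) {f : Pt R C T} (hf : Cong N f) : dpart f⁻¹ = - dpart f := by
  have h := dpart_mul hN hf hf.inv
  rw [mul_inv_cancel, dpart_one] at h
  exact (neg_eq_of_add_eq_zero_right h.symm).symm

lemma conv_sub_apply (u v : WithConv (C →ₗ[R] T)) (c : C) : (u - v) c = u c - v c := rfl

/-- a point congruent to `f` modulo `N`. -/
lemma Cong.of_sub_mem {f g : Pt R C T} (h : ∀ c, f c - g c ∈ N) : Cong N (f * g⁻¹) := by
  intro c
  have e : dpart (f * g⁻¹) = (lin f - lin g) * lin g⁻¹ := by
    rw [dpart, lin_mul, sub_mul, lin_mul_inv]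
  rw [e]
  have h' : ∀ c, (lin f - lin g) c ∈ N := by
    intro c
    rw [conv_sub_apply, lin_apply, lin_apply]
    exact h c
  have h2 := conv_mem_mul N ⊤ (lin f - lin g) (lin g⁻¹) h' (fun _ => Submodule.mem_top) c
  exact Ideal.mul_le_left h2

lemma sub_mem_of_cong {f g : Pt R C T} (h : Cong N (f * g⁻¹)) (c : C) : f c - g c ∈ N := by
  have e : lin f - lin g = dpart (f * g⁻¹) * lin g := by
    rw [dpart, lin_mul, sub_mul, mul_assoc, lin_inv_mul, mul_one, one_mul]
  have h2 := conv_mem_mul N ⊤ (dpart (f * g⁻¹)) (lin g) h (fun _ => Submodule.mem_top) c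
  rw [← e, conv_sub_apply, lin_apply, lin_apply] at h2
  exact Ideal.mul_le_left h2

lemma dpart_push {T' : Type u} [CommRing T'] [Algebra R T'] (h : T →ₐ[R] T') (f : Pt R C T) :
    dpart (push h f) = toConv (h.toLinearMap.comp (dpart f).ofConv) := by
  apply WithConv.ext
  apply LinearMap.ext
  intro c
  change h (f c) - algebraMap R T' (Coalgebra.counit c) =
    h (f c - algebraMap R T (Coalgebra.counit c))
  rw [map_sub, AlgHom.commutes]

lemma Cong.push {T' : Type u} [CommRing T'] [Algebra R T'] (h : T →ₐ[R] T') {N' : Ideal T'}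
    (hN' : ∀ x ∈ N, h x ∈ N') {f : Pt R C T} (hf : Cong N f) : Cong N' (push h f) := by
  intro c
  rw [dpart_push]
  exact hN' _ (hf c)

end Cong

end Groth.Agent.Lib.Helper7.HH
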