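import Groth.Agent.Lib.Helper7.CoeffSpace
import Groth.Prelude.Def_GLin4

/-!
# Matrix coefficients of a finite-dimensional comodule and the induced map from `GL_n` (helper7)
-/

universe u v w

open TensorProduct

namespace Groth.Agent.Lib.Helper7.HopfGLn

open HopfRep Groth.Agent.Lib.Helper7.Comod CoordGrp

section Ext

variable {n : ℕ} {k : Type u} [CommRing k] {B : Type v} [CommRing B] [Algebra k B]

/-- Two algebra maps from the coordinate ring of `GL_n` to a commutative ring which agree on the
matrix entries are equal. -/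
theorem algHom_ext_X {f g : GLn n k →ₐ[k] B} (h : ∀ i j, f (GLn.X i j) = g (GLn.X i j)) :
    f = g := by
  apply GLn.algHom_ext h
  have hmat : f.mapMatrix (GLn.genMat n k) = g.mapMatrix (GLn.genMat n k) := by
    ext i j
    exact h i j
  have hdet : f GLn.det = g GLn.det := by
    rw [GLn.det_eq, AlgHom.map_det, AlgHom.map_det, hmat]
  have h1 : f GLn.Dinv * f GLn.det = 1 := by rw [← map_mul, GLn.Dinv_mul_det, map_one]
  have h2 : g GLn.det * g GLn.Dinv = 1 := by rw [← map_mul, GLn.det_mul_Dinv, map_one]
  calc f GLn.Dinv = f GLn.Dinv * (g GLn.det * g GLn.Dinv) := by rw [h2, mul_one]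
    _ = (f GLn.Dinv * f GLn.det) * g GLn.Dinv := by rw [hdet]; ring
    _ = g GLn.Dinv := by rw [h1, one_mul]

end Ext

section Coeff

variable {k : Type u} [Field k] {A : Type v} [CommRing A] [HopfAlgebra k A]
variable {V : Type w} [AddCommGroup V] [Module k V] [Comod k A V] {n : ℕ}

variable (A) in
/-- the matrix of coefficients of a comodule in a basis. -/
noncomputable def mc (b : Module.Basis (Fin n) k V) : Matrix (Fin n) (Fin n) A :=
  fun i j => coeffMap (C := A) (b.coord i) (b j)

lemma coact_basis (b : Module.Basis (Fin n) k V) (j : Fin n) :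
    Comod.coact (k := k) (A := A) (b j) = ∑ i, b i ⊗ₜ[k] mc A b i j := by
  rw [← sub_eq_zero]
  apply eq_zero_of_forall_contrL_eq_zero
  intro φ
  rw [map_sub, map_sum, sub_eq_zero]
  simp only [contrL_tmul]
  -- `contrL φ (ρ (b j)) = Σ_i φ (b i) • a i j`
  have hφ : φ = ∑ i, φ (b i) • b.coord i := by
    apply b.ext
    intro l
    simp [LinearMap.sum_apply, Finsupp.single_apply]
  have h2 : contrL A φ (Comod.coact (k := k) (A := A) (b j)) = coeffMapL (C := A) φ (b j) := rfl
  rw [h2]
  conv_lhs => rw [hφ]
  rw [map_sum, LinearMap.sum_apply]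
  apply Finset.sum_congr rfl
  intro i _
  rw [map_smul, LinearMap.smul_apply]
  rfl

lemma comul_mc (b : Module.Basis (Fin n) k V) (i j : Fin n) :
    Coalgebra.comul (R := k) (mc A b i j) = ∑ l, mc A b i l ⊗ₜ[k] mc A b l j := by
  change Coalgebra.comul (R := k) (coeffMap (C := A) (b.coord i) (b j)) = _
  rw [comul_coeffMap, coact_basis, map_sum]
  apply Finset.sum_congr rfl
  intro l _
  rw [LinearMap.rTensor_tmul]
  rfl

lemma counit_mc (b : Module.Basis (Fin n) k V) (i j : Fin n) :
    Coalgebra.counit (R := k) (mc A b i j) = if i = j then 1 else 0 := by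
  change Coalgebra.counit (R := k) (coeffMap (C := A) (b.coord i) (b j)) = _
  rw [counit_coeffMap, Module.Basis.coord_apply, Module.Basis.repr_self, Finsupp.single_apply]
  by_cases h : i = j
  · simp [h]
  · simp [h, Ne.symm h]

lemma antipode_mc_mul (b : Module.Basis (Fin n) k V) :
    (mc A b).map (HopfAlgebra.antipode k) * mc A b = 1 := by
  ext i j
  rw [Matrix.mul_apply, Matrix.one_apply]
  have h := HopfAlgebra.mul_antipode_rTensor_comul_apply (R := k) (mc A b i j)
  rw [comul_mc, map_sum, map_sum, counit_mc] at h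
  simp only [LinearMap.rTensor_tmul, LinearMap.mul'_apply] at h
  simp only [Matrix.map_apply]
  rw [h]
  by_cases hij : i = j
  · simp [hij]
  · simp [hij]

lemma isUnit_det_mc (b : Module.Basis (Fin n) k V) : IsUnit (mc A b).det :=
  Matrix.isUnit_det_of_left_inverse (antipode_mc_mul (A := A) b)

variable (A) in
/-- the map from the coordinate ring of `GL_n` given by the matrix coefficients, as an algebra
map. -/
noncomputable def toGLnAlg (b : Module.Basis (Fin n) k V) : GLn n k →ₐ[k] A :=
  GLn.pt n k (mc A b) ((isUnit_det_mc (A := A) b).unit⁻¹ : Aˣ) (by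
    have := (isUnit_det_mc (A := A) b).unit.mul_inv
    simpa using this)

@[simp] lemma toGLnAlg_X (b : Module.Basis (Fin n) k V) (i j : Fin n) :
    toGLnAlg A b (GLn.X i j) = mc A b i j := GLn.pt_X _ _ _ i j

variable (A) in
/-- the map from the coordinate ring of `GL_n` given by the matrix coefficients is a bialgebra
map. -/
noncomputable def toGLn (b : Module.Basis (Fin n) k V) : GLn n k →ₐc[k] A :=
  BialgHom.ofAlgHom (toGLnAlg A b)
    (by
      apply algHom_ext_X
      intro i j
      rw [AlgHom.comp_apply, toGLnAlg_X]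
      change Coalgebra.counit (R := k) (mc A b i j) = Coalgebra.counit (R := k) (GLn.X i j : GLn n k)
      rw [counit_mc, GLn.counit_X])
    (by
      apply algHom_ext_X
      intro i j
      rw [AlgHom.comp_apply, AlgHom.comp_apply, toGLnAlg_X]
      change Algebra.TensorProduct.map (toGLnAlg A b) (toGLnAlg A b)
        (Coalgebra.comul (R := k) (GLn.X i j : GLn n k)) = Coalgebra.comul (R := k) (mc A b i j)
      rw [GLn.comul_X, comul_mc, map_sum]
      apply Finset.sum_congr rfl
      intro l _
      rw [Algebra.TensorProduct.map_tmul, toGLnAlg_X, toGLnAlg_X])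

@[simp] lemma toGLn_X (b : Module.Basis (Fin n) k V) (i j : Fin n) :
    toGLn A b (GLn.X i j) = mc A b i j := toGLnAlg_X b i j

/-- the coefficient space of the comodule lies in the range. -/
lemma coeffSpace_le_range (b : Module.Basis (Fin n) k V) :
    coeffSpace k A V ≤ LinearMap.range (toGLnAlg A b).toLinearMap := by
  apply iSup_le
  rintro φ _ ⟨v, rfl⟩
  -- reduce to basis vectors and coordinate functionals
  have hφ : φ = ∑ i, φ (b i) • b.coord i := by
    apply b.ext
    intro l
    simp [LinearMap.sum_apply, Finsupp.single_apply]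
  have hv : v = ∑ j, b.repr v j • b j := (b.sum_repr v).symm
  have : coeffMap (C := A) φ v = ∑ i, ∑ j, (φ (b i) * b.repr v j) • mc A b i j := by
    change coeffMapL (C := A) φ v = _
    conv_lhs => rw [hφ, hv]
    simp only [map_sum, map_smul, LinearMap.sum_apply, LinearMap.smul_apply, Finset.smul_sum,
      smul_smul]
    rw [Finset.sum_comm]
    refine Finset.sum_congr rfl (fun i _ => Finset.sum_congr rfl (fun j _ => ?_))
    rw [mul_comm]
    rfl
  rw [this]
  refine Submodule.sum_mem _ (fun i _ => Submodule.sum_mem _ (fun j _ => Submodule.smul_mem _ _ ?_))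
  exact ⟨GLn.X i j, toGLnAlg_X b i j⟩

end Coeff

end Groth.Agent.Lib.Helper7.HopfGLn
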