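import Groth.Agent.Lib.Helper7.HopfFlat
import Groth.Agent.Lib.Helper7.HopfGLn
import Groth.Agent.Lib.Helper7.ComodAlg
import Groth.Prelude.Def_ComodSub

namespace Groth.Agent.Lib.Helper7.HopfFlat

open TensorProduct HopfRep Groth.Agent.Lib.Helper7.Comod Groth.Agent.Lib.Helper7.HopfGLn

universe u v w

variable {k : Type u} [Field k] {A : Type v} [CommRing A] [HopfAlgebra k A]
  {B : Type w} [CommRing B] [HopfAlgebra k B]

/-- every finite subset of a Hopf algebra lies in a finite dimensional right coideal, which has a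
basis `v` with an invertible matrix of coefficients. -/
theorem exists_coideal_basis (s : Finset A) :
    ∃ (n : ℕ) (v : Fin n → A) (t t' : Matrix (Fin n) (Fin n) A),
      (∀ i, Coalgebra.comul (R := k) (v i) = ∑ l, v l ⊗ₜ[k] t l i) ∧ t' * t = 1 ∧
      ∀ a ∈ s, ∃ c : Fin n → k, a = ∑ m, c m • v m := by
  classical
  obtain ⟨U, hUfin, hsU, hU⟩ := exists_finite_subcomod_le (k := k) (A := A) (V := A) s
  have := hUfin
  let cU : Comod k A ↥U := ComodSub.Comod.restr (Comod.regular k A) U hU
  have : Module.Free k ↥U := Module.Free.of_divisionRing k ↥U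
  let b := Module.finBasis k ↥U
  refine ⟨_, fun i => (b i : A), mc A b, (mc A b).map (HopfAlgebra.antipode k),
    ?_, antipode_mc_mul (A := A) b, ?_⟩
  · intro i
    have h1 := coact_basis (A := A) b i
    have h2 := ComodSub.restr_coact_coe (Comod.regular k A) U hU (b i)
    change U.subtype.rTensor A (Comod.coact (k := k) (A := A) (b i)) = _ at h2
    rw [h1, map_sum] at h2
    simp only [LinearMap.rTensor_tmul, Submodule.subtype_apply] at h2
    exact h2.symm
  · intro a ha
    refine ⟨fun m => b.repr ⟨a, hsU ha⟩ m, ?_⟩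
    have := congrArg (Subtype.val) (b.sum_repr ⟨a, hsU ha⟩)
    simp only [Submodule.coe_sum, Submodule.coe_smul] at this
    exact this.symm

section Assembly

variable (ψ : B →ₐc[k] A) {n : ℕ} (v : Fin n → A)

lemma piMap_sum_smul {ι : Type*} (S : Finset ι) (f : ι → B) (ξ : ι → (Fin n → B)) :
    piMap ψ v (∑ i ∈ S, f i • ξ i) = ∑ i ∈ S, ψ (f i) * piMap ψ v (ξ i) := by
  classical
  induction S using Finset.induction_on with
  | empty => simp [piMap_zero]
  | insert a S ha ih =>
    rw [Finset.sum_insert ha, Finset.sum_insert ha, piMap_add, piMap_smul, ih]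

lemma piMap_algebraMap (c : Fin n → k) :
    piMap ψ v (fun m => algebraMap k B (c m)) = ∑ m, c m • v m := by
  simp only [piMap]
  apply Finset.sum_congr rfl
  intro m _
  rw [AlgHomClass.commutes, Algebra.smul_def]

end Assembly

/-- **Takeuchi**: a commutative Hopf algebra over a field is faithfully flat over every Hopf
subalgebra. -/
theorem faithfullyFlat_of_injective (ψ : B →ₐc[k] A) (hψ : Function.Injective ψ) [Module B A]
    (hsmul : ∀ (b : B) (a : A), b • a = ψ b * a) : Module.FaithfullyFlat B A := by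
  classical
  have hflat : Module.Flat B A := by
    apply Module.Flat.of_forall_isTrivialRelation
    intro l f x hfx
    obtain ⟨n, v, t, t', hv, ht, hmem⟩ := exists_coideal_basis (k := k) (Finset.univ.image x)
    have hc : ∀ i, ∃ c : Fin n → k, x i = ∑ m, c m • v m := fun i =>
      hmem (x i) (Finset.mem_image_of_mem x (Finset.mem_univ i))
    choose c hc using hc
    let ξ : Fin l → (Fin n → B) := fun i m => algebraMap k B (c i m)
    have hξ : ∀ i, piMap ψ v (ξ i) = x i := fun i => by
      rw [hc i]; exact piMap_algebraMap ψ v (c i)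
    obtain ⟨E, hE1, hE2⟩ := exists_proj_KP ψ v t t' hψ hv ht ⊥ (by simp)
      (by intro p hp; rw [(Submodule.mem_bot k).1 hp, map_zero]; exact Submodule.zero_mem _)
    refine ⟨n, fun i j => (ξ i - E (ξ i)) j, v, ?_, ?_⟩
    · intro i
      have h0 : piMap ψ v (E (ξ i)) = 0 := (Submodule.mem_bot k).1 (hE1 (ξ i))
      have h1 : piMap ψ v (ξ i) = piMap ψ v (ξ i - E (ξ i)) + piMap ψ v (E (ξ i)) := by
        rw [← piMap_add, sub_add_cancel]
      rw [← hξ i, h1, h0, add_zero]
      simp only [piMap, hsmul]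
    · intro j
      have hw : ∑ i, f i • ξ i ∈ KP ψ v ⊥ (by simp) := by
        rw [mem_KP, piMap_sum_smul, Submodule.mem_bot, ← hfx]
        apply Finset.sum_congr rfl
        intro i _
        rw [hξ i, hsmul]
      have h2 := hE2 _ hw
      rw [map_sum] at h2
      have h3 := congrFun h2 j
      simp only [map_smul, Finset.sum_apply, Pi.smul_apply, smul_eq_mul] at h3
      simp only [Pi.sub_apply, mul_sub, Finset.sum_sub_distrib, h3, sub_self]
  refine (Module.faithfullyFlat_iff B A).2 ⟨hflat, ?_⟩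
  intro 𝔪 h𝔪 htop
  have h1 : (1 : A) ∈ 𝔪 • Submodule.span B (Set.range (id : A → A)) := by
    rw [Set.range_id, Submodule.span_univ, htop]; trivial
  obtain ⟨a, ha, hsum⟩ := (Submodule.mem_ideal_smul_span_iff_exists_sum 𝔪 (id : A → A) 1).1 h1
  obtain ⟨n, v, t, t', hv, ht, hmem⟩ := exists_coideal_basis (k := k) a.support
  let P : Submodule k A := LinearMap.range (ψ : B →ₗ[k] A)
  have hP1 : ∀ b, ∀ p ∈ P, ψ b * p ∈ P := by
    rintro b _ ⟨b', rfl⟩
    exact ⟨b * b', by simp⟩
  have hP2 : ∀ p ∈ P, Coalgebra.comul (R := k) p ∈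
      LinearMap.range (LinearMap.rTensor A P.subtype) := by
    rintro _ ⟨b, rfl⟩
    have h1 : Coalgebra.comul (R := k) (ψ b) =
        TensorProduct.map (ψ : B →ₗ[k] A) (ψ : B →ₗ[k] A) (Coalgebra.comul (R := k) b) :=
      (LinearMap.congr_fun (CoalgHomClass.map_comp_comul ψ) b).symm
    have h2 : ∀ z : B ⊗[k] B, TensorProduct.map (ψ : B →ₗ[k] A) (ψ : B →ₗ[k] A) z =
        LinearMap.rTensor A P.subtype
          (TensorProduct.map (LinearMap.rangeRestrict (ψ : B →ₗ[k] A)) (ψ : B →ₗ[k] A) z) := by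
      intro z
      induction z using TensorProduct.induction_on with
      | zero => simp
      | tmul a b => simp
      | add y z hy hz => simp only [map_add, hy, hz]
    exact ⟨_, (h1.trans (h2 _)).symm⟩
  obtain ⟨E, hE1, hE2⟩ := exists_proj_KP ψ v t t' hψ hv ht P hP1 hP2
  have hc : ∀ x : A, ∃ c : Fin n → k, x ∈ a.support → x = ∑ m, c m • v m := by
    intro x
    by_cases hx : x ∈ a.support
    · obtain ⟨c, hc⟩ := hmem x hx
      exact ⟨c, fun _ => hc⟩
    · exact ⟨0, fun h => absurd h hx⟩
  choose c hc using hc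
  let ξ : A → (Fin n → B) := fun x m => algebraMap k B (c x m)
  have hξ : ∀ x ∈ a.support, piMap ψ v (ξ x) = x := fun x hx =>
    (piMap_algebraMap ψ v (c x)).trans (hc x hx).symm
  have hb : ∀ x : A, ∃ b : B, ψ b = piMap ψ v (E (ξ x)) := fun x => hE1 (ξ x)
  choose b hb using hb
  have hpw : piMap ψ v (∑ x ∈ a.support, a x • ξ x) = 1 := by
    rw [piMap_sum_smul, ← hsum, Finsupp.sum]
    apply Finset.sum_congr rfl
    intro x hx
    rw [hξ x hx, hsmul, id]
  have hw : ∑ x ∈ a.support, a x • ξ x ∈ KP ψ v P hP1 := by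
    rw [mem_KP, hpw]
    exact ⟨1, map_one ψ⟩
  have h2 := congrArg (piMap ψ v) (hE2 _ hw)
  rw [hpw, map_sum] at h2
  simp only [map_smul] at h2
  rw [piMap_sum_smul] at h2
  have h3 : ψ (∑ x ∈ a.support, a x * b x) = ψ 1 := by
    rw [map_one, ← h2, map_sum]
    apply Finset.sum_congr rfl
    intro x _
    rw [map_mul, hb]
  have h4 := hψ h3
  apply h𝔪.ne_top
  rw [Ideal.eq_top_iff_one, ← h4]
  exact Ideal.sum_mem _ (fun x _ => Ideal.mul_mem_right _ _ (ha x))

end Groth.Agent.Lib.Helper7.HopfFlat
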