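import Groth.Agent.Lib.Helper7.CO1
import Groth.Agent.Lib.Helper7.NilLift1

/-!
# A homomorphism from a diagonalisable group which is an isomorphism modulo the radical:
closed immersion, and its ideal is generated by an idempotent (helper7)
-/

set_option autoImplicit false

namespace Groth.Agent.Lib.Helper7.Clopen

open TensorProduct Groth.Agent.Lib.Helper7.MonoClosed Groth.Agent.Lib.Helper7.NilLift
open Groth.Agent.Lib.Helper7.MultDesc (cf cf_apply cf_single)

universe u

section Steps

variable {R : Type u} [CommRing R] {M : Type u} [CommGroup M] {C : Type u} [CommRing C]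
  [HopfAlgebra R C] (φ : C →ₐc[R] MonoidAlgebra R M) {J : Ideal R} (hJ : J ≤ Ideal.jacobson ⊥)

include hJ in
theorem surjective_of_coeff (h : ∀ m : M, ∃ c : C, (φ c).coeff m - 1 ∈ J) :
    Function.Surjective φ := by
  have key : ∀ m : M, ∃ c : C, φ c = MonoidAlgebra.single m 1 := by
    intro m
    obtain ⟨c, hc⟩ := h m
    have hu : IsUnit ((φ c).coeff m) := by
      have := (Ideal.mem_jacobson_bot.1 (hJ hc)) 1
      rwa [mul_one, sub_add_cancel] at this
    obtain ⟨u, hu⟩ := hu
    refine ⟨(↑u⁻¹ : R) • proj φ m c, ?_⟩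
    rw [map_smul, phi_proj, MonoidAlgebra.smul_single, smul_eq_mul, ← hu, Units.inv_mul]
  intro y
  induction y using MonoidAlgebra.induction_linear with
  | zero => exact ⟨0, map_zero _⟩
  | add x y hx hy =>
    obtain ⟨a, ha⟩ := hx
    obtain ⟨b, hb⟩ := hy
    exact ⟨a + b, by rw [map_add, ha, hb]⟩
  | single m r =>
    obtain ⟨c, hc⟩ := key m
    exact ⟨r • c, by rw [map_smul, hc, MonoidAlgebra.smul_single, smul_eq_mul, mul_one]⟩

variable {φ}

lemma isHomog_one_algebraMap (r : R) : IsHomog φ 1 (algebraMap R C r) := by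
  unfold IsHomog
  rw [AlgHom.commutes, Algebra.TensorProduct.algebraMap_apply, ← MonoidAlgebra.one_def]

lemma IsHomog.sub {m : M} {x y : C} (hx : IsHomog φ m x) (hy : IsHomog φ m y) :
    IsHomog φ m (x - y) := by
  unfold IsHomog at *
  rw [map_sub, hx, hy, TensorProduct.sub_tmul]

lemma IsHomog.smul {m : M} {x : C} (hx : IsHomog φ m x) (r : R) : IsHomog φ m (r • x) := by
  unfold IsHomog at *
  rw [map_smul, hx, TensorProduct.smul_tmul']

lemma isHomog_one_one : IsHomog φ 1 (1 : C) := by
  have := isHomog_one_algebraMap (φ := φ) (1 : R)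
  rwa [map_one] at this

variable (φ)

include hJ in
theorem exists_idem_ker (hsurj : Function.Surjective φ) (x : C)
    (hx : x ∈ J • (⊤ : Submodule R C)) (hK : ∀ k : C, φ k = 0 → (1 - x) * k = 0) :
    ∃ z : C, IsIdempotentElem z ∧ φ z = 0 ∧ ∀ k : C, φ k = 0 → k = z * k := by
  classical
  set x₁ : C := proj φ 1 x with hx₁
  have hx₁h : IsHomog φ 1 x₁ := isHomog_proj φ 1 x
  set i : R := Coalgebra.counit (R := R) x₁ with hi
  have hiJ : i ∈ J :=
    mem_of_mem_smul_top ((Coalgebra.counit (R := R) (A := C)) ∘ₗ proj φ 1) J hx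
  -- invariants killed by `φ` are fixed by `x₁`
  have hD : ∀ d : C, IsHomog φ 1 d → φ d = 0 → d = d * x₁ := by
    intro d hd hφd
    have h1 : d = x * d := by
      have := hK d hφd
      linear_combination this
    have h2 : proj φ 1 d = proj φ 1 (d * x) := by
      conv_lhs => rw [h1, mul_comm]
    rwa [proj_self_of_isHomog hd, proj_mul_of_isHomog_one hd] at h2
  set y : C := x₁ - algebraMap R C i with hy
  have hyh : IsHomog φ 1 y := hx₁h.sub (isHomog_one_algebraMap i)
  have hφy : φ y = 0 := by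
    rw [hy, map_sub, phi_of_isHomog_one hx₁h, AlgHomClass.commutes, sub_self]
  have hu : IsUnit (1 - i) := by
    have := (Ideal.mem_jacobson_bot.1 (hJ hiJ)) (-1)
    have e : i * -1 + 1 = 1 - i := by ring
    rwa [e] at this
  obtain ⟨u, hu⟩ := hu
  set z : C := (↑u⁻¹ : R) • y with hz
  have hzh : IsHomog φ 1 z := hyh.smul _
  have hφz : φ z = 0 := by rw [hz, map_smul, hφy, smul_zero]
  have hDz : ∀ d : C, IsHomog φ 1 d → φ d = 0 → d = z * d := by
    intro d hd hφd
    have h1 := hD d hd hφd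
    -- (1 - i) d = d y
    have h2 : (1 - i) • d = d * y := by
      rw [hy, mul_sub, ← h1, sub_smul, one_smul, Algebra.smul_def, mul_comm d]
    have h3 : d = (↑u⁻¹ : R) • ((1 - i) • d) := by
      rw [← hu, smul_smul, Units.inv_mul, one_smul]
    calc d = (↑u⁻¹ : R) • ((1 - i) • d) := h3
      _ = (↑u⁻¹ : R) • (d * y) := by rw [h2]
      _ = z * d := by rw [hz, smul_mul_assoc, mul_comm]
  have hzz : IsIdempotentElem z := (hDz z hzh hφz).symm
  refine ⟨z, hzz, hφz, ?_⟩
  -- the homogeneous case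
  have hhom : ∀ (m : M) (k' : C), IsHomog φ m k' → φ k' = 0 → k' = z * k' := by
    intro m k' hk' hφk'
    obtain ⟨c₁, hc₁⟩ := hsurj (MonoidAlgebra.single m 1)
    obtain ⟨c₂, hc₂⟩ := hsurj (MonoidAlgebra.single m⁻¹ 1)
    set X : C := proj φ m c₁ with hX
    set Y : C := proj φ m⁻¹ c₂ with hY
    have hXh : IsHomog φ m X := isHomog_proj φ m c₁
    have hYh : IsHomog φ m⁻¹ Y := isHomog_proj φ m⁻¹ c₂
    have hφX : φ X = MonoidAlgebra.single m 1 := by
      rw [hX, phi_proj, hc₁, MonoidAlgebra.coeff_single, Finsupp.single_eq_same]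
    have hφY : φ Y = MonoidAlgebra.single m⁻¹ 1 := by
      rw [hY, phi_proj, hc₂, MonoidAlgebra.coeff_single, Finsupp.single_eq_same]
    have hd1h : IsHomog φ 1 (k' * Y) := by
      have := hk'.mul hYh
      rwa [mul_inv_cancel] at this
    have hd2h : IsHomog φ 1 (X * Y - 1) := by
      have := hXh.mul hYh
      rw [mul_inv_cancel] at this
      exact this.sub isHomog_one_one
    have hd1 := hDz (k' * Y) hd1h (by rw [map_mul, hφk', zero_mul])
    have hd2 := hDz (X * Y - 1) hd2h (by
      rw [map_sub, map_mul, hφX, hφY, MonoidAlgebra.single_mul_single, mul_inv_cancel, mul_one,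
        map_one, MonoidAlgebra.one_def, sub_self])
    linear_combination X * hd1 - k' * hd2
  intro k hk
  obtain ⟨s, -, hs⟩ := exists_finset_sum_proj φ k
  have h1 : ∀ m ∈ s, proj φ m k = z * proj φ m k := by
    intro m _
    apply hhom m _ (isHomog_proj φ m k)
    rw [phi_proj, hk]
    simp
  calc k = ∑ m ∈ s, proj φ m k := hs.symm
    _ = ∑ m ∈ s, z * proj φ m k := Finset.sum_congr rfl h1
    _ = z * ∑ m ∈ s, proj φ m k := (Finset.mul_sum _ _ _).symm
    _ = z * k := by rw [hs]

end Steps

end Groth.Agent.Lib.Helper7.Clopen
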