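import Mathlib

/-!
# Deforming group-like elements in a flat coalgebra (helper7)

`A` an `R`-coalgebra, free with basis `b`, whose basis elements are group-like modulo an ideal `I`.
One Newton step for lifting group-like elements (the vanishing of the Hochschild `H²` of a
diagonalisable group, in coordinates), and the uniqueness step (`H¹`).
-/

set_option autoImplicit false

namespace Groth.Agent.Lib.Helper7.Deform

open TensorProduct Coalgebra

section Gen

variable {R : Type*} [CommRing R] {X Y : Type*} [AddCommGroup X] [Module R X]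
  [AddCommGroup Y] [Module R Y]

lemma map_mem_of_mem_smul_top (f : X →ₗ[R] R) (K : Ideal R) {x : X}
    (hx : x ∈ K • (⊤ : Submodule R X)) : f x ∈ K := by
  refine Submodule.smul_induction_on hx ?_ ?_
  · intro r hr y _
    rw [map_smul, smul_eq_mul]
    exact K.mul_mem_right _ hr
  · intro y z hy hz
    rw [map_add]
    exact K.add_mem hy hz

lemma map_mem_mul (f : X →ₗ[R] R) (I K : Ideal R) (hf : ∀ x, f x ∈ I) {x : X}
    (hx : x ∈ K • (⊤ : Submodule R X)) : f x ∈ K * I := by
  refine Submodule.smul_induction_on hx ?_ ?_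
  · intro r hr y _
    rw [map_smul, smul_eq_mul]
    exact Ideal.mul_mem_mul hr (hf y)
  · intro y z hy hz
    rw [map_add]
    exact (K * I).add_mem hy hz

lemma forall_mem_of_basis {ι : Type*} (β : Module.Basis ι R X) (f : X →ₗ[R] R) (I : Ideal R)
    (h : ∀ i, f (β i) ∈ I) (x : X) : f x ∈ I := by
  rw [← β.linearCombination_repr x, Finsupp.linearCombination_apply, Finsupp.sum, map_sum]
  refine I.sum_mem fun i _ => ?_
  rw [map_smul, smul_eq_mul]
  exact I.mul_mem_left _ (h i)

lemma mem_smul_top_of_repr {ι : Type*} (β : Module.Basis ι R X) (K : Ideal R) {x : X}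
    (h : ∀ i, β.repr x i ∈ K) : x ∈ K • (⊤ : Submodule R X) := by
  rw [← β.linearCombination_repr x, Finsupp.linearCombination_apply, Finsupp.sum]
  refine Submodule.sum_mem _ fun i _ => ?_
  exact Submodule.smul_mem_smul (h i) Submodule.mem_top

lemma tmul_mem_smul_top (K₁ K₂ : Ideal R) {x : X} {y : Y}
    (hx : x ∈ K₁ • (⊤ : Submodule R X)) (hy : y ∈ K₂ • (⊤ : Submodule R Y)) :
    x ⊗ₜ[R] y ∈ (K₁ * K₂) • (⊤ : Submodule R (X ⊗[R] Y)) := by
  refine Submodule.smul_induction_on hx ?_ ?_
  · intro r hr x' _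
    refine Submodule.smul_induction_on hy ?_ ?_
    · intro s hs y' _
      rw [TensorProduct.smul_tmul_smul]
      exact Submodule.smul_mem_smul (Ideal.mul_mem_mul hr hs) Submodule.mem_top
    · intro y₁ y₂ h₁ h₂
      rw [TensorProduct.tmul_add]
      exact add_mem h₁ h₂
  · intro x₁ x₂ h₁ h₂
    rw [TensorProduct.add_tmul]
    exact add_mem h₁ h₂

lemma congr_of_basis {ι : Type*} (β : Module.Basis ι R X) (L L' : X →ₗ[R] R) (I J : Ideal R)
    (h : ∀ i, L (β i) - L' (β i) ∈ I) {x : X} (hx : x ∈ J • (⊤ : Submodule R X)) :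
    L x - L' x ∈ J * I :=
  map_mem_mul (L - L') I J (forall_mem_of_basis β (L - L') I h) hx

end Gen

section Coord

variable {R : Type*} [CommRing R] {A : Type*} [AddCommGroup A] [Module R A]
  {P : Type*} [DecidableEq P] (b : Module.Basis P R A)

/-- Kronecker delta. -/
def δ (R : Type*) [CommRing R] {P : Type*} [DecidableEq P] (i p : P) : R := if i = p then 1 else 0

@[simp] lemma δ_self (i : P) : δ R i i = 1 := if_pos rfl

lemma δ_ne {i p : P} (h : i ≠ p) : δ R i p = 0 := if_neg h

lemma δ_comm (i p : P) : δ R i p = δ R p i := by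
  unfold δ
  by_cases h : i = p
  · rw [if_pos h, if_pos h.symm]
  · rw [if_neg h, if_neg (Ne.symm h)]

lemma repr_basis (i p : P) : b.repr (b i) p = δ R i p := by
  rw [b.repr_self, Finsupp.single_apply]
  rfl

/-- The `(p, q)` coordinate on `A ⊗ A`. -/
noncomputable def c2 (p q : P) : A ⊗[R] A →ₗ[R] R :=
  (TensorProduct.lid R R).toLinearMap ∘ₗ TensorProduct.map (b.coord p) (b.coord q)

omit [DecidableEq P] in
@[simp] lemma c2_tmul (p q : P) (x y : A) : c2 b p q (x ⊗ₜ[R] y) = b.repr x p * b.repr y q := by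
  simp [c2]

/-- The `(p, q, r)` coordinate on `A ⊗ (A ⊗ A)`. -/
noncomputable def c3 (p q r : P) : A ⊗[R] (A ⊗[R] A) →ₗ[R] R :=
  (TensorProduct.lid R R).toLinearMap ∘ₗ TensorProduct.map (b.coord p) (c2 b q r)

omit [DecidableEq P] in
@[simp] lemma c3_tmul (p q r : P) (x : A) (z : A ⊗[R] A) :
    c3 b p q r (x ⊗ₜ[R] z) = b.repr x p * c2 b q r z := by
  simp [c3]

omit [DecidableEq P] in
lemma c2_eq_repr (p q : P) (z : A ⊗[R] A) :
    c2 b p q z = (b.tensorProduct b).repr z (p, q) := by
  induction z using TensorProduct.induction_on with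
  | zero => simp
  | add x y hx hy => rw [map_add, hx, hy, map_add, Finsupp.add_apply]
  | tmul x y => rw [c2_tmul, Module.Basis.tensorProduct_repr_tmul_apply, smul_eq_mul, mul_comm]

end Coord


section Coalg

variable {R : Type*} [CommRing R] {A : Type*} [AddCommGroup A] [Module R A] [Coalgebra R A]
  {P : Type*} [DecidableEq P] (b : Module.Basis P R A) (I : Ideal R)
  (hb : ∀ p, comul (b p) - b p ⊗ₜ[R] b p ∈ I • (⊤ : Submodule R (A ⊗[R] A)))

include hb

lemma c2_comul_basis (i p q : P) :
    c2 b p q (comul (b i)) - δ R i p * δ R i q ∈ I := by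
  have h := map_mem_of_mem_smul_top (c2 b p q) I (hb i)
  rwa [map_sub, c2_tmul, repr_basis, repr_basis] at h

omit hb [Coalgebra R A] in
lemma repr_sub_δ {a : A} {m : P} (ha : a - b m ∈ I • (⊤ : Submodule R A)) (p : P) :
    b.repr a p - δ R m p ∈ I := by
  have h := map_mem_of_mem_smul_top (b.coord p) I ha
  rwa [map_sub, Module.Basis.coord_apply, Module.Basis.coord_apply, repr_basis] at h

/-- The cocycle condition satisfied by the error term `u = Δa - a ⊗ a`, modulo `J * I`. -/
theorem cocycle (J : Ideal R) {a : A} {m : P} (ha : a - b m ∈ I • (⊤ : Submodule R A))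
    {u : A ⊗[R] A} (hu : comul a = a ⊗ₜ[R] a + u) (huJ : u ∈ J • (⊤ : Submodule R (A ⊗[R] A)))
    (p q r : P) :
    δ R r m * c2 b p q u + δ R p q * c2 b p r u - δ R p m * c2 b q r u - δ R q r * c2 b p q u
      ∈ J * I := by
  -- coassociativity
  have E1 : TensorProduct.assoc R A A A (u ⊗ₜ[R] a) +
      TensorProduct.assoc R A A A ((comul (R := R) (A := A)).rTensor A u) =
      a ⊗ₜ[R] u + (comul (R := R) (A := A)).lTensor A u := by
    have h := Coalgebra.coassoc_apply (R := R) a
    simp only [hu, map_add, LinearMap.rTensor_tmul, LinearMap.lTensor_tmul,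
      TensorProduct.add_tmul, TensorProduct.tmul_add, TensorProduct.assoc_tmul] at h
    have h' := h
    rw [add_assoc, add_assoc] at h'
    exact add_left_cancel h'
  have E2 := congrArg (c3 b p q r) E1
  rw [map_add, map_add] at E2
  -- the four congruences
  have h1 : c3 b p q r (a ⊗ₜ[R] u) - δ R p m * c2 b q r u ∈ J * I := by
    have : c3 b p q r (a ⊗ₜ[R] u) - δ R p m * c2 b q r u =
        c2 b q r u * (b.repr a p - δ R m p) := by rw [c3_tmul, δ_comm p m]; ring
    rw [this]
    exact Ideal.mul_mem_mul (map_mem_of_mem_smul_top _ J huJ) (repr_sub_δ b I ha p)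
  have h2 : c3 b p q r (TensorProduct.assoc R A A A (u ⊗ₜ[R] a)) - δ R r m * c2 b p q u
      ∈ J * I := by
    have := congr_of_basis (b.tensorProduct b)
      (c3 b p q r ∘ₗ (TensorProduct.assoc R A A A).toLinearMap ∘ₗ
        (TensorProduct.mk R (A ⊗[R] A) A).flip a) (δ R r m • c2 b p q) I J ?_ huJ
    · simpa using this
    · rintro ⟨i, j⟩
      simp only [Module.Basis.tensorProduct_apply, LinearMap.comp_apply, LinearMap.flip_apply,
        TensorProduct.mk_apply, LinearEquiv.coe_coe, TensorProduct.assoc_tmul, c3_tmul, c2_tmul,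
        repr_basis, LinearMap.smul_apply, smul_eq_mul]
      have h := repr_sub_δ b I ha r
      have : δ R i p * (δ R j q * b.repr a r) - δ R r m * (δ R i p * δ R j q) =
          (δ R i p * δ R j q) * (b.repr a r - δ R m r) := by rw [δ_comm r m]; ring
      rw [this]
      exact I.mul_mem_left _ h
  have h3 : c3 b p q r (TensorProduct.assoc R A A A ((comul (R := R) (A := A)).rTensor A u))
      - δ R p q * c2 b p r u ∈ J * I := by
    have := congr_of_basis (b.tensorProduct b)
      (c3 b p q r ∘ₗ (TensorProduct.assoc R A A A).toLinearMap ∘ₗ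
        (comul (R := R) (A := A)).rTensor A) (δ R p q • c2 b p r) I J ?_ huJ
    · simpa using this
    · rintro ⟨i, j⟩
      simp only [Module.Basis.tensorProduct_apply, LinearMap.comp_apply, LinearMap.rTensor_tmul,
        LinearEquiv.coe_coe, c2_tmul, repr_basis, LinearMap.smul_apply, smul_eq_mul]
      -- write Δ(b i) = b i ⊗ b i + w
      have hw := hb i
      set w := comul (b i) - b i ⊗ₜ[R] b i with hwdef
      have hc : comul (b i) = b i ⊗ₜ[R] b i + w := by rw [hwdef]; abel
      rw [hc, TensorProduct.add_tmul, map_add, map_add, TensorProduct.assoc_tmul, c3_tmul, c2_tmul,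
        repr_basis, repr_basis, repr_basis]
      have h1 : c3 b p q r (TensorProduct.assoc R A A A (w ⊗ₜ[R] b j)) ∈ I :=
        map_mem_of_mem_smul_top (c3 b p q r ∘ₗ (TensorProduct.assoc R A A A).toLinearMap ∘ₗ
          (TensorProduct.mk R (A ⊗[R] A) A).flip (b j)) I hw
      have h2 : δ R i p * (δ R i q * δ R j r) - δ R p q * (δ R i p * δ R j r) = (0 : R) := by
        by_cases hip : i = p
        · subst hip; ring
        · rw [δ_ne hip]; ring
      have : δ R i p * (δ R i q * δ R j r) +
          c3 b p q r (TensorProduct.assoc R A A A (w ⊗ₜ[R] b j)) - δ R p q * (δ R i p * δ R j r) =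
          c3 b p q r (TensorProduct.assoc R A A A (w ⊗ₜ[R] b j)) +
            (δ R i p * (δ R i q * δ R j r) - δ R p q * (δ R i p * δ R j r)) := by ring
      rw [this, h2, add_zero]
      exact h1
  have h4 : c3 b p q r ((comul (R := R) (A := A)).lTensor A u) - δ R q r * c2 b p q u
      ∈ J * I := by
    have := congr_of_basis (b.tensorProduct b)
      (c3 b p q r ∘ₗ (comul (R := R) (A := A)).lTensor A) (δ R q r • c2 b p q) I J ?_ huJ
    · simpa using this
    · rintro ⟨i, j⟩
      simp only [Module.Basis.tensorProduct_apply, LinearMap.comp_apply, LinearMap.lTensor_tmul,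
        c3_tmul, c2_tmul, repr_basis, LinearMap.smul_apply, smul_eq_mul]
      have h := c2_comul_basis b I hb j q r
      have h2 : δ R i p * (δ R j q * δ R j r) - δ R q r * (δ R i p * δ R j q) = (0 : R) := by
        by_cases hjq : j = q
        · subst hjq; ring
        · rw [δ_ne hjq]; ring
      have : δ R i p * c2 b q r (comul (b j)) - δ R q r * (δ R i p * δ R j q) =
          δ R i p * (c2 b q r (comul (b j)) - δ R j q * δ R j r) +
            (δ R i p * (δ R j q * δ R j r) - δ R q r * (δ R i p * δ R j q)) := by ring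
      rw [this, h2, add_zero]
      exact I.mul_mem_left _ h
  have : δ R r m * c2 b p q u + δ R p q * c2 b p r u - δ R p m * c2 b q r u - δ R q r * c2 b p q u
      = (c3 b p q r (a ⊗ₜ[R] u) - δ R p m * c2 b q r u)
        + (c3 b p q r ((comul (R := R) (A := A)).lTensor A u) - δ R q r * c2 b p q u)
        - (c3 b p q r (TensorProduct.assoc R A A A (u ⊗ₜ[R] a)) - δ R r m * c2 b p q u)
        - (c3 b p q r (TensorProduct.assoc R A A A ((comul (R := R) (A := A)).rTensor A u))
            - δ R p q * c2 b p r u) := by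
    linear_combination E2
  rw [this]
  exact sub_mem (sub_mem (add_mem h1 h4) h2) h3


omit hb in
/-- The diagonal map `b p ⊗ b q ↦ [p = q] b p`. -/
noncomputable def diag : A ⊗[R] A →ₗ[R] A :=
  (b.tensorProduct b).constr R (fun ij => if ij.1 = ij.2 then b ij.1 else 0)

omit hb [Coalgebra R A] in
lemma repr_diag (p : P) (z : A ⊗[R] A) : b.repr (diag b z) p = c2 b p p z := by
  have h : b.coord p ∘ₗ diag b = c2 b p p := by
    apply (b.tensorProduct b).ext
    rintro ⟨i, j⟩
    rw [LinearMap.comp_apply, diag, Module.Basis.constr_basis, Module.Basis.tensorProduct_apply,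
      c2_tmul, repr_basis, repr_basis, Module.Basis.coord_apply]
    simp only
    by_cases hij : i = j
    · subst hij
      rw [if_pos rfl, repr_basis]
      by_cases hip : i = p
      · subst hip; simp
      · rw [δ_ne hip]; simp
    · rw [if_neg hij, map_zero, Finsupp.zero_apply]
      by_cases hip : i = p
      · subst hip
        rw [δ_ne (fun h => hij h.symm), mul_zero]
      · rw [δ_ne hip, zero_mul]
  have := LinearMap.congr_fun h z
  simpa using this

lemma c2_comul_congr (J : Ideal R) {x : A} (hx : x ∈ J • (⊤ : Submodule R A)) (p q : P) :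
    c2 b p q (comul x) - δ R p q * b.repr x p ∈ J * I := by
  have := congr_of_basis b (c2 b p q ∘ₗ (comul (R := R) (A := A))) (δ R p q • b.coord p) I J ?_ hx
  · simpa using this
  · intro i
    simp only [LinearMap.comp_apply, LinearMap.smul_apply, Module.Basis.coord_apply, repr_basis,
      smul_eq_mul]
    have h := c2_comul_basis b I hb i p q
    have h2 : δ R i p * δ R i q = δ R p q * δ R i p := by
      by_cases hip : i = p
      · subst hip; simp
      · rw [δ_ne hip]; simp
    rwa [h2] at h

omit hb [DecidableEq P] in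
lemma comul_add_sub (a x : A) (u : A ⊗[R] A) (hu' : comul a = a ⊗ₜ[R] a + u) :
    comul (a + x) - (a + x) ⊗ₜ[R] (a + x) =
      (u + comul x - a ⊗ₜ[R] x - x ⊗ₜ[R] a) - x ⊗ₜ[R] x := by
  rw [map_add, hu', TensorProduct.add_tmul, TensorProduct.tmul_add, TensorProduct.tmul_add]
  abel

/-- One Newton step: an element group-like modulo `J` can be corrected to one group-like modulo
`J'`, as soon as `J * I ≤ J'` and `J * J ≤ J'`. -/
theorem exists_step (J J' : Ideal R) (hIJ : J * I ≤ J') (hJJ : J * J ≤ J') {a : A} {m : P}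
    (ha : a - b m ∈ I • (⊤ : Submodule R A))
    (hu : comul a - a ⊗ₜ[R] a ∈ J • (⊤ : Submodule R (A ⊗[R] A))) :
    ∃ x ∈ J • (⊤ : Submodule R A),
      comul (a + x) - (a + x) ⊗ₜ[R] (a + x) ∈ J' • (⊤ : Submodule R (A ⊗[R] A)) := by
  set u := comul a - a ⊗ₜ[R] a with hudef
  have hu' : comul a = a ⊗ₜ[R] a + u := by rw [hudef]; abel
  have hcu : ∀ p q, c2 b p q u ∈ J := fun p q => map_mem_of_mem_smul_top _ J hu
  set x : A := -diag b u + (2 * c2 b m m u) • b m with hxdef
  have hx : ∀ p, b.repr x p = -c2 b p p u + 2 * c2 b m m u * δ R m p := by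
    intro p
    rw [hxdef, map_add, map_neg, map_smul, Finsupp.add_apply, Finsupp.neg_apply,
      Finsupp.smul_apply, repr_diag, repr_basis, smul_eq_mul]
  have hxJ : x ∈ J • (⊤ : Submodule R A) := by
    apply mem_smul_top_of_repr b
    intro p
    rw [hx]
    exact J.add_mem (J.neg_mem (hcu p p)) (J.mul_mem_right _ (J.mul_mem_left _ (hcu m m)))
  have hxp : ∀ p, b.repr x p ∈ J := fun p => map_mem_of_mem_smul_top (b.coord p) J hxJ
  refine ⟨x, hxJ, ?_⟩
  have hsplit := comul_add_sub (R := R) a x u hu'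
  rw [hsplit]
  refine sub_mem ?_ (Submodule.smul_mono_left hJJ (tmul_mem_smul_top J J hxJ hxJ))
  apply mem_smul_top_of_repr (b.tensorProduct b)
  rintro ⟨p, q⟩
  rw [← c2_eq_repr]
  simp only [map_sub, map_add, c2_tmul]
  -- congruences
  have k1 := hIJ (c2_comul_congr b I hb J hxJ p q)
  have k2 : b.repr a p * b.repr x q - δ R m p * b.repr x q ∈ J' := by
    rw [← sub_mul, mul_comm]
    exact hIJ (Ideal.mul_mem_mul (hxp q) (repr_sub_δ b I ha p))
  have k3 : b.repr x p * b.repr a q - b.repr x p * δ R m q ∈ J' := by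
    rw [← mul_sub]
    exact hIJ (Ideal.mul_mem_mul (hxp p) (repr_sub_δ b I ha q))
  -- the main term
  have hT : c2 b p q u + δ R p q * b.repr x p - δ R m p * b.repr x q - b.repr x p * δ R m q
      ∈ J' := by
    rw [hx p, hx q]
    rcases eq_or_ne p m with rfl | hpm
    · rcases eq_or_ne q p with rfl | hqm
      · simp only [δ_self]
        have : c2 b q q u + 1 * (-c2 b q q u + 2 * c2 b q q u * 1) -
            1 * (-c2 b q q u + 2 * c2 b q q u * 1) - (-c2 b q q u + 2 * c2 b q q u * 1) * 1 = 0 := by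
          ring
        rw [this]
        exact J'.zero_mem
      · have hc := hIJ (cocycle b I hb J ha hu' hu p q q)
        simp only [δ_self, δ_ne hqm, δ_ne (Ne.symm hqm)] at hc ⊢
        have : c2 b p q u + 0 * (-c2 b p p u + 2 * c2 b p p u * 1) -
            1 * (-c2 b q q u + 2 * c2 b p p u * 0) - (-c2 b p p u + 2 * c2 b p p u * 1) * 0 =
            -(0 * c2 b p q u + 0 * c2 b p q u - 1 * c2 b q q u - 1 * c2 b p q u) := by ring
        rw [this]
        exact J'.neg_mem hc
    · rcases eq_or_ne q m with rfl | hqm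
      · have hc := hIJ (cocycle b I hb J ha hu' hu p p q)
        simp only [δ_self, δ_ne hpm, δ_ne (Ne.symm hpm)] at hc ⊢
        have : c2 b p q u + 0 * (-c2 b p p u + 2 * c2 b q q u * 0) -
            0 * (-c2 b q q u + 2 * c2 b q q u * 1) - (-c2 b p p u + 2 * c2 b q q u * 0) * 1 =
            1 * c2 b p p u + 1 * c2 b p q u - 0 * c2 b p q u - 0 * c2 b p p u := by ring
        rw [this]
        exact hc
      · rcases eq_or_ne p q with rfl | hpq
        · simp only [δ_self, δ_ne (Ne.symm hpm)]
          have : c2 b p p u + 1 * (-c2 b p p u + 2 * c2 b m m u * 0) -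
              0 * (-c2 b p p u + 2 * c2 b m m u * 0) - (-c2 b p p u + 2 * c2 b m m u * 0) * 0 = 0 := by
            ring
          rw [this]
          exact J'.zero_mem
        · have hc := hIJ (cocycle b I hb J ha hu' hu p q m)
          simp only [δ_self, δ_ne hpm, δ_ne hqm, δ_ne hpq, δ_ne (Ne.symm hpm),
            δ_ne (Ne.symm hqm)] at hc ⊢
          have : c2 b p q u + 0 * (-c2 b p p u + 2 * c2 b m m u * 0) -
              0 * (-c2 b q q u + 2 * c2 b m m u * 0) - (-c2 b p p u + 2 * c2 b m m u * 0) * 0 =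
              1 * c2 b p q u + 0 * c2 b p m u - 0 * c2 b q m u - 0 * c2 b p q u := by ring
          rw [this]
          exact hc
  have : c2 b p q u + c2 b p q (comul x) - b.repr a p * b.repr x q - b.repr x p * b.repr a q =
      (c2 b p q u + δ R p q * b.repr x p - δ R m p * b.repr x q - b.repr x p * δ R m q)
        + (c2 b p q (comul x) - δ R p q * b.repr x p)
        - (b.repr a p * b.repr x q - δ R m p * b.repr x q)
        - (b.repr x p * b.repr a q - b.repr x p * δ R m q) := by ring
  rw [this]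
  exact sub_mem (sub_mem (add_mem hT k1) k2) k3

/-- Uniqueness step: two group-like elements congruent modulo `J` are congruent modulo `J'`. -/
theorem sub_mem_step (J J' : Ideal R) (hIJ : J * I ≤ J') (hJJ : J * J ≤ J') {g g' : A} {m : P}
    (hg : g - b m ∈ I • (⊤ : Submodule R A))
    (hgl : comul g = g ⊗ₜ[R] g) (hgl' : comul g' = g' ⊗ₜ[R] g')
    (hy : g' - g ∈ J • (⊤ : Submodule R A)) : g' - g ∈ J' • (⊤ : Submodule R A) := by
  set y := g' - g with hydef
  have hg' : g' = g + y := by rw [hydef]; abel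
  have hcy : comul y = g ⊗ₜ[R] y + y ⊗ₜ[R] g + y ⊗ₜ[R] y := by
    rw [hydef, map_sub, hgl, hgl', hg', TensorProduct.add_tmul, TensorProduct.tmul_add,
      TensorProduct.tmul_add]
    simp only [add_sub_cancel_left]
    abel
  have hyp : ∀ p, b.repr y p ∈ J := fun p => map_mem_of_mem_smul_top (b.coord p) J hy
  apply mem_smul_top_of_repr b
  intro p
  have k1 := hIJ (c2_comul_congr b I hb J hy p p)
  rw [hcy, map_add, map_add, c2_tmul, c2_tmul, c2_tmul, δ_self, one_mul] at k1
  have k2 : b.repr g p * b.repr y p - δ R m p * b.repr y p ∈ J' := by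
    rw [← sub_mul, mul_comm]
    exact hIJ (Ideal.mul_mem_mul (hyp p) (repr_sub_δ b I hg p))
  have k3 : b.repr y p * b.repr y p ∈ J' := hJJ (Ideal.mul_mem_mul (hyp p) (hyp p))
  have key : 2 * δ R m p * b.repr y p - b.repr y p ∈ J' := by
    have : 2 * δ R m p * b.repr y p - b.repr y p =
        (b.repr g p * b.repr y p + b.repr y p * b.repr g p + b.repr y p * b.repr y p
          - b.repr y p) - 2 * (b.repr g p * b.repr y p - δ R m p * b.repr y p)
          - b.repr y p * b.repr y p := by ring
    rw [this]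
    exact sub_mem (sub_mem k1 (J'.mul_mem_left _ k2)) k3
  rcases eq_or_ne m p with rfl | hmp
  · rw [δ_self] at key
    have : b.repr y m = 2 * 1 * b.repr y m - b.repr y m := by ring
    rw [this]
    exact key
  · rw [δ_ne hmp] at key
    have : b.repr y p = -(2 * 0 * b.repr y p - b.repr y p) := by ring
    rw [this]
    exact J'.neg_mem key


omit hb [DecidableEq P] [Coalgebra R A] in
lemma pow_smul_top_le (k : ℕ) (hk : k ≠ 0) :
    (I ^ k) • (⊤ : Submodule R A) ≤ I • (⊤ : Submodule R A) :=
  Submodule.smul_mono_left (Ideal.pow_le_self hk)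

/-- Approximate lifts to every order. -/
theorem exists_approx (m : P) (k : ℕ) :
    ∃ a : A, a - b m ∈ I • (⊤ : Submodule R A) ∧
      comul a - a ⊗ₜ[R] a ∈ (I ^ (k + 1)) • (⊤ : Submodule R (A ⊗[R] A)) := by
  induction k with
  | zero =>
    refine ⟨b m, by rw [sub_self]; exact zero_mem _, ?_⟩
    rw [zero_add, pow_one]
    exact hb m
  | succ k ih =>
    obtain ⟨a, ha, hu⟩ := ih
    obtain ⟨x, hx, hx'⟩ := exists_step b I hb (I ^ (k + 1)) (I ^ (k + 1 + 1))
      (by rw [← pow_succ])
      (by rw [← pow_add]; exact Ideal.pow_le_pow_right (by omega)) ha hu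
    refine ⟨a + x, ?_, hx'⟩
    have : a + x - b m = (a - b m) + x := by abel
    rw [this]
    exact add_mem ha (pow_smul_top_le I (k + 1) (by omega) hx)

/-- Existence of lifts when `I` is nilpotent. -/
theorem exists_lift (hI : IsNilpotent I) (m : P) :
    ∃ g : A, g - b m ∈ I • (⊤ : Submodule R A) ∧ comul g = g ⊗ₜ[R] g := by
  obtain ⟨n, hn⟩ := hI
  obtain ⟨a, ha, hu⟩ := exists_approx b I hb m n
  refine ⟨a, ha, ?_⟩
  rw [pow_succ, hn, zero_mul] at hu
  have h0 : ((0 : Ideal R)) • (⊤ : Submodule R (A ⊗[R] A)) = ⊥ := by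
    rw [Ideal.zero_eq_bot, Submodule.bot_smul]
  rw [h0, Submodule.mem_bot, sub_eq_zero] at hu
  exact hu

/-- Uniqueness of lifts when `I` is nilpotent. -/
theorem lift_unique (hI : IsNilpotent I) {g g' : A} {m : P}
    (hg : g - b m ∈ I • (⊤ : Submodule R A)) (hg' : g' - b m ∈ I • (⊤ : Submodule R A))
    (hgl : comul g = g ⊗ₜ[R] g) (hgl' : comul g' = g' ⊗ₜ[R] g') : g = g' := by
  obtain ⟨n, hn⟩ := hI
  have key : ∀ k : ℕ, g' - g ∈ (I ^ (k + 1)) • (⊤ : Submodule R A) := by
    intro k
    induction k with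
    | zero =>
      rw [zero_add, pow_one]
      have : g' - g = (g' - b m) - (g - b m) := by abel
      rw [this]
      exact sub_mem hg' hg
    | succ k ih =>
      exact sub_mem_step b I hb (I ^ (k + 1)) (I ^ (k + 1 + 1)) (by rw [← pow_succ])
        (by rw [← pow_add]; exact Ideal.pow_le_pow_right (by omega)) hg hgl hgl' ih
  have h := key n
  rw [pow_succ, hn, zero_mul] at h
  have h0 : ((0 : Ideal R)) • (⊤ : Submodule R A) = ⊥ := by
    rw [Ideal.zero_eq_bot, Submodule.bot_smul]
  rw [h0, Submodule.mem_bot, sub_eq_zero] at h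
  exact h.symm

omit hb in
/-- A lift satisfying `Δg = g ⊗ g` has counit one. -/
theorem counit_eq_one (hI : IsNilpotent I) {g : A} {m : P}
    (hg : g - b m ∈ I • (⊤ : Submodule R A)) (hgl : comul g = g ⊗ₜ[R] g) :
    counit (R := R) g = 1 := by
  have h1 := Coalgebra.rTensor_counit_comul (R := R) g
  rw [hgl, LinearMap.rTensor_tmul] at h1
  have h2 := congrArg (TensorProduct.lid R A) h1
  rw [TensorProduct.lid_tmul, TensorProduct.lid_tmul, one_smul] at h2
  have h3 := congrArg (fun z => b.repr z m) h2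
  simp only [map_smul, Finsupp.smul_apply, smul_eq_mul] at h3
  have h4 := repr_sub_δ b I hg m
  rw [δ_self] at h4
  have hnil : IsNilpotent (b.repr g m - 1) := by
    obtain ⟨n, hn⟩ := hI
    refine ⟨n, ?_⟩
    have := Ideal.pow_mem_pow h4 n
    rwa [hn, Ideal.zero_eq_bot, Ideal.mem_bot] at this
  have hunit : IsUnit (b.repr g m) := by
    have := hnil.isUnit_add_one
    rwa [sub_add_cancel] at this
  have h5 : (counit (R := R) g - 1) * b.repr g m = 0 := by
    rw [sub_mul, h3, one_mul, sub_self]
  have h6 := (hunit.mul_left_eq_zero).1 h5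
  exact sub_eq_zero.1 h6

end Coalg

end Groth.Agent.Lib.Helper7.Deform
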