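import Mathlib
import Groth.Agent.Lib.Helper7.NilLift5
import Groth.Agent.Lib.Helper7.Deform1
import Groth.Agent.Lib.Helper9.FreeCover

/-!
# A flat Hopf algebra which is diagonalisable modulo a nilpotent ideal is diagonalisable (helper7)
-/

set_option autoImplicit false

namespace Groth.Agent.Lib.Helper7.Deform

open TensorProduct Coalgebra Groth.Agent.Lib.Helper7.NilLift

universe u

section Main

variable {R : Type u} [CommRing R] {Q : Type u} [CommRing Q] [Algebra R Q]
  (hsurj : Function.Surjective (algebraMap R Q))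
  (hI : IsNilpotent (RingHom.ker (algebraMap R Q)))
  {A : Type u} [CommRing A] [HopfAlgebra R A]
  {M : Type u} [CommGroup M] (e₀ : Q ⊗[R] A ≃ₐc[Q] MonoidAlgebra Q M)
  (a : M → A) (ha : ∀ m, (1 : Q) ⊗ₜ[R] a m = e₀.symm (MonoidAlgebra.single m 1))

include ha in
lemma e₀_lc_single (n : M) (r : R) :
    e₀ ((1 : Q) ⊗ₜ[R] Finsupp.linearCombination R a (Finsupp.single n r)) =
      MonoidAlgebra.single n (algebraMap R Q r) := by
  rw [Finsupp.linearCombination_single, TensorProduct.tmul_smul, ha,
    ← algebraMap_smul Q r (e₀.symm (MonoidAlgebra.single n 1)), map_smul,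
    BialgEquiv.apply_symm_apply, MonoidAlgebra.smul_single, smul_eq_mul, mul_one]

include ha in
lemma coeff_e₀_lc (c : M →₀ R) (m : M) :
    (e₀ ((1 : Q) ⊗ₜ[R] Finsupp.linearCombination R a c)).coeff m = algebraMap R Q (c m) := by
  classical
  induction c using Finsupp.induction_linear with
  | zero => simp
  | add x y hx hy =>
    rw [map_add, TensorProduct.tmul_add, map_add, MonoidAlgebra.coeff_add, Finsupp.add_apply, hx, hy,
      Finsupp.add_apply, map_add]
  | single n r =>
    rw [e₀_lc_single e₀ a ha, MonoidAlgebra.coeff_single, Finsupp.single_apply, Finsupp.single_apply]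
    split_ifs <;> simp

include hsurj ha in
lemma exists_lc (w : MonoidAlgebra Q M) :
    ∃ c : M →₀ R, (1 : Q) ⊗ₜ[R] Finsupp.linearCombination R a c = e₀.symm w := by
  induction w using MonoidAlgebra.induction_linear with
  | zero => exact ⟨0, by rw [map_zero, map_zero, TensorProduct.tmul_zero]⟩
  | add x y hx hy =>
    obtain ⟨c, hc⟩ := hx
    obtain ⟨d, hd⟩ := hy
    exact ⟨c + d, by rw [map_add, map_add, TensorProduct.tmul_add, hc, hd]⟩
  | single m q =>
    obtain ⟨r, rfl⟩ := hsurj q
    refine ⟨Finsupp.single m r, ?_⟩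
    rw [← e₀_lc_single e₀ a ha, BialgEquiv.symm_apply_apply]

include hsurj hI ha in
/-- Any family of lifts of the group-like basis is a basis of `A`. -/
theorem bijective_lc [Module.Flat R A] :
    Function.Bijective (Finsupp.linearCombination R a) := by
  have hs : Function.Surjective (Finsupp.linearCombination R a) := by
    rw [← LinearMap.range_eq_top]
    refine Groth.Agent.Lib.Helper9.eq_top_of_sup_smul_top_eq_top _ hI _ ?_
    rw [eq_top_iff]
    intro x _
    obtain ⟨c, hc⟩ := exists_lc hsurj e₀ a ha (e₀ ((1 : Q) ⊗ₜ[R] x))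
    rw [BialgEquiv.symm_apply_apply] at hc
    have h1 : x - Finsupp.linearCombination R a c ∈
        (RingHom.ker (algebraMap R Q)) • (⊤ : Submodule R A) := by
      apply mem_smul_top_of_one_tmul_eq_zero' hsurj
      rw [TensorProduct.tmul_sub, hc, sub_self]
    have : x = Finsupp.linearCombination R a c + (x - Finsupp.linearCombination R a c) := by abel
    rw [this]
    exact Submodule.add_mem_sup (LinearMap.mem_range_self _ c) h1
  refine ⟨?_, hs⟩
  refine Groth.Agent.Lib.Helper9.FreeCover.injective_of_flat_of_nilpotent _ hI _ hs ?_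
  intro c hc
  have h1 := one_tmul_eq_zero_of_mem_smul_top' (Q := Q) hc
  apply mem_smul_top_of_repr (Finsupp.basisSingleOne (R := R) (ι := M))
  intro m
  rw [Finsupp.basisSingleOne_repr, LinearEquiv.refl_apply, RingHom.mem_ker,
    ← coeff_e₀_lc e₀ a ha c m, h1, map_zero]
  rfl


include hsurj hI e₀ in
/-- **Deformation lemma.**  A flat Hopf algebra over `R` whose base change to a quotient `Q` of `R`
by a nilpotent ideal is the group algebra `Q[M]` is itself the group algebra `R[M]`. -/
theorem isDiag_of_flat [Module.Flat R A] : SGA3b.IsDiag R A := by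
  classical
  set I : Ideal R := RingHom.ker (algebraMap R Q) with hIdef
  have hsurj0 : ∀ y : Q ⊗[R] A, ∃ a : A, (1 : Q) ⊗ₜ[R] a = y := by
    intro y
    induction y using TensorProduct.induction_on with
    | zero => exact ⟨0, TensorProduct.tmul_zero _ _⟩
    | add x y hx hy =>
      obtain ⟨a, rfl⟩ := hx
      obtain ⟨a', rfl⟩ := hy
      exact ⟨a + a', TensorProduct.tmul_add _ _ _⟩
    | tmul r a =>
      obtain ⟨r, rfl⟩ := hsurj r
      refine ⟨r • a, ?_⟩
      rw [TensorProduct.tmul_smul, TensorProduct.smul_tmul']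
      congr 1
      rw [Algebra.smul_def, mul_one]
  set gb : M → Q ⊗[R] A := fun m => e₀.symm (MonoidAlgebra.single m 1) with hgb
  have hgbl : ∀ m, IsGroupLikeElem Q (gb m) := fun m =>
    (MonoidAlgebra.isGroupLikeElem_single_one (R := Q) (A := Q) m).map e₀.symm
  choose a ha using fun m => hsurj0 (gb m)
  have hbij := bijective_lc hsurj hI e₀ a ha
  set b : Module.Basis M R A :=
    Module.Basis.ofRepr (LinearEquiv.ofBijective (Finsupp.linearCombination R a) hbij).symm with hbdef
  have hba : ∀ m, b m = a m := by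
    intro m
    rw [hbdef, Module.Basis.coe_ofRepr]
    simp
  have hb : ∀ p, comul (b p) - b p ⊗ₜ[R] b p ∈ I • (⊤ : Submodule R (A ⊗[R] A)) := by
    intro p
    rw [hba]
    have h1 := hgbl p
    rw [← ha p, isGroupLikeElem_one_tmul_iff] at h1
    exact mem_smul_top_of_one_tmul_eq_zero' hsurj h1.2
  -- congruence criterion
  have hcong : ∀ (x : A) (m : M), (1 : Q) ⊗ₜ[R] x = gb m → x - b m ∈ I • (⊤ : Submodule R A) := by
    intro x m hx
    apply mem_smul_top_of_one_tmul_eq_zero' hsurj
    rw [TensorProduct.tmul_sub, hx, hba, ha, sub_self]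
  have hcong' : ∀ (x : A) (m : M), x - b m ∈ I • (⊤ : Submodule R A) → (1 : Q) ⊗ₜ[R] x = gb m := by
    intro x m hx
    have := one_tmul_eq_zero_of_mem_smul_top' (Q := Q) hx
    rw [TensorProduct.tmul_sub, sub_eq_zero, hba, ha] at this
    exact this
  have hex : ∀ m, ∃ g : A, IsGroupLikeElem R g ∧ g - b m ∈ I • (⊤ : Submodule R A) := by
    intro m
    obtain ⟨g, hg, hgl⟩ := exists_lift b I hb hI m
    exact ⟨g, ⟨counit_eq_one b I hI hg hgl, hgl⟩, hg⟩
  have huniq : ∀ (g g' : A) (m : M), IsGroupLikeElem R g → IsGroupLikeElem R g' →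
      g - b m ∈ I • (⊤ : Submodule R A) → g' - b m ∈ I • (⊤ : Submodule R A) → g = g' :=
    fun g g' m hg hg' h h' =>
      lift_unique b I hb hI h h' hg.comul_eq_tmul_self hg'.comul_eq_tmul_self
  choose g hg hg1 using hex
  let γ : M →* GroupLike R A :=
    { toFun := fun m => ⟨g m, hg m⟩
      map_one' := by
        apply GroupLike.val_injective
        apply huniq _ _ 1 (hg 1) IsGroupLikeElem.one (hg1 1)
        apply hcong
        rw [hgb]
        change _ = e₀.symm (1 : MonoidAlgebra Q M)
        rw [map_one]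
        rfl
      map_mul' := by
        intro m m'
        apply GroupLike.val_injective
        apply huniq _ _ (m * m') (hg (m * m')) ((hg m).mul (hg m')) (hg1 (m * m'))
        apply hcong
        have : (1 : Q) ⊗ₜ[R] (g m * g m') =
            ((1 : Q) ⊗ₜ[R] g m) * ((1 : Q) ⊗ₜ[R] g m') := by
          rw [Algebra.TensorProduct.tmul_mul_tmul, mul_one]
        change (1 : Q) ⊗ₜ[R] (g m * g m') = _
        rw [this, hcong' _ _ (hg1 m), hcong' _ _ (hg1 m'), hgb]
        simp only
        rw [← map_mul, MonoidAlgebra.single_mul_single, mul_one] }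
  set φ : MonoidAlgebra R M →ₐc[R] A :=
    (MonoidAlgebra.liftGroupLikeBialgHom (R := R) (A := A)).comp
      (MonoidAlgebra.mapDomainBialgHom R γ) with hφ
  have hφs : ∀ (m : M) (r : R), φ (MonoidAlgebra.single m r) = r • g m := by
    intro m r
    simp [hφ, γ]
  have hgbij := bijective_lc hsurj hI e₀ g (fun m => hcong' _ _ (hg1 m))
  have hφlc : ∀ x : MonoidAlgebra R M, φ x = Finsupp.linearCombination R g x.coeff := by
    intro x
    induction x using MonoidAlgebra.induction_linear with
    | zero => simp
    | add x y hx hy => rw [map_add, hx, hy, MonoidAlgebra.coeff_add, map_add]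
    | single m r => rw [hφs, MonoidAlgebra.coeff_single, Finsupp.linearCombination_single]
  have hbijφ : Function.Bijective φ := by
    have : (φ : MonoidAlgebra R M → A) =
        (Finsupp.linearCombination R g) ∘ (MonoidAlgebra.coeffEquiv (R := R) (M := M)) := by
      funext x
      exact hφlc x
    rw [this]
    exact hgbij.comp (MonoidAlgebra.coeffEquiv (R := R) (M := M)).bijective
  exact ⟨M, inferInstance, ⟨(BialgEquiv.ofBijective φ hbijφ).symm⟩⟩

end Main

end Groth.Agent.Lib.Helper7.Deform
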