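import Groth.Prelude.Def_SGA3b
import Groth.Prelude.Def_HopfRep
import Mathlib

set_option autoImplicit false

namespace Groth.Agent.Lib.Helper7.DiagIso

open TensorProduct HopfRep

universe u

variable {K : Type u} [Field K] {H : Type u} [CommRing H] [HopfAlgebra K H]

lemma liftGroupLike_apply (x : MonoidAlgebra K (GroupLike K H)) :
    (MonoidAlgebra.liftGroupLikeBialgHom (R := K) (A := H)) x =
      Finsupp.linearCombination K (GroupLike.val (R := K) (A := H)) x.coeff := by
  change MonoidAlgebra.lift K H (GroupLike K H) _ x = _
  rw [MonoidAlgebra.lift_apply, Finsupp.linearCombination_apply]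
  rfl

/-- a Hopf algebra spanned by its group-like elements is a group algebra. -/
theorem isDiag_of_isDiagonalizable (h : IsDiagonalizable K H) : SGA3b.IsDiag K H := by
  have hinj : Function.Injective (MonoidAlgebra.liftGroupLikeBialgHom (R := K) (A := H)) := by
    intro x y hxy
    rw [liftGroupLike_apply, liftGroupLike_apply] at hxy
    have := (linearIndep_groupLikeVal (R := K) (A := H)) hxy
    exact (MonoidAlgebra.coeffLinearEquiv K).injective this
  have hsurj : Function.Surjective (MonoidAlgebra.liftGroupLikeBialgHom (R := K) (A := H)) := by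
    have hle : Submodule.span K {a : H | IsGroupLikeElem K a} ≤
        LinearMap.range ((MonoidAlgebra.liftGroupLikeBialgHom (R := K) (A := H) :
          MonoidAlgebra K (GroupLike K H) →ₐ[K] H).toLinearMap) := by
      rw [Submodule.span_le]
      intro a ha
      refine ⟨MonoidAlgebra.single (⟨a, ha⟩ : GroupLike K H) 1, ?_⟩
      simp
    intro a
    have : a ∈ Submodule.span K {a : H | IsGroupLikeElem K a} := by
      rw [show Submodule.span K {a : H | IsGroupLikeElem K a} = ⊤ from h]; trivial
    obtain ⟨x, hx⟩ := hle this
    exact ⟨x, hx⟩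
  exact ⟨GroupLike K H, inferInstance,
    ⟨(BialgEquiv.ofBijective MonoidAlgebra.liftGroupLikeBialgHom ⟨hinj, hsurj⟩).symm⟩⟩

end Groth.Agent.Lib.Helper7.DiagIso
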