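import Groth.Agent.Lib.Helper7.HopfBCRing
import Groth.Agent.Lib.Helper7.HopfLR
import Groth.Agent.Lib.Helper7.ComodCocomm

set_option autoImplicit false

namespace Groth.Agent.Lib.Helper7.DiagCocomm

open TensorProduct HopfRep Groth.Agent.Lib.Helper7.Comod Groth.Agent.Lib.Helper7.BCR

universe u v w

section BC

variable {k : Type u} {K : Type v} {A : Type w} [Field k] [Field K] [Algebra k K] [CommRing A]
  [Bialgebra k A]

variable (k K A) in
/-- `K ⊗ (A ⊗ A) ≃ (K ⊗ A) ⊗_K (K ⊗ A)`. -/
noncomputable def theta : K ⊗[k] (A ⊗[k] A) ≃ₗ[k] (K ⊗[k] A) ⊗[K] (K ⊗[k] A) :=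
  (LinearEquiv.rTensor (A ⊗[k] A) ((TensorProduct.lid K K).symm.restrictScalars k)).trans
    ((AlgebraTensorModule.tensorTensorTensorComm k K k K K K A A).restrictScalars k)

lemma theta_tmul (x : K) (d : A ⊗[k] A) : theta k K A (x ⊗ₜ[k] d) = bcPair x d := rfl

variable (k A) in
/-- the defect of primitivity. -/
noncomputable def primDefect : A →ₗ[k] A ⊗[k] A :=
  Coalgebra.comul - (TensorProduct.mk k A A).flip 1 - TensorProduct.mk k A A 1

lemma primDefect_apply (a : A) :
    primDefect k A a = Coalgebra.comul (R := k) a - a ⊗ₜ[k] (1 : A) - (1 : A) ⊗ₜ[k] a := rfl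

lemma tmul_one_eq (x : K) (a : A) :
    ((1 : K) ⊗ₜ[k] a) ⊗ₜ[K] (x ⊗ₜ[k] (1 : A)) =
      (x ⊗ₜ[k] a) ⊗ₜ[K] ((1 : K) ⊗ₜ[k] (1 : A)) := by
  have h1 : (x ⊗ₜ[k] (1 : A) : K ⊗[k] A) = x • ((1 : K) ⊗ₜ[k] (1 : A)) := by
    rw [TensorProduct.smul_tmul', smul_eq_mul, mul_one]
  have h2 : (x ⊗ₜ[k] a : K ⊗[k] A) = x • ((1 : K) ⊗ₜ[k] a) := by
    rw [TensorProduct.smul_tmul', smul_eq_mul, mul_one]
  rw [h1, h2, TensorProduct.tmul_smul, TensorProduct.smul_tmul']

lemma theta_lTensor_primDefect (z : K ⊗[k] A) :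
    theta k K A ((primDefect k A).lTensor K z) =
      Coalgebra.comul (R := K) z - z ⊗ₜ[K] (1 : K ⊗[k] A) - (1 : K ⊗[k] A) ⊗ₜ[K] z := by
  induction z using TensorProduct.induction_on with
  | zero => simp
  | tmul x a =>
    rw [LinearMap.lTensor_tmul, theta_tmul, primDefect_apply, bcPair_sub, bcPair_sub,
      ← comul_tmul_eq, bcPair_tmul, bcPair_tmul, tmul_one_eq, Algebra.TensorProduct.one_def]
  | add y z hy hz =>
    rw [map_add, map_add, hy, hz, map_add, TensorProduct.add_tmul, TensorProduct.tmul_add]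
    abel

/-- primitive elements of a base change vanish if those of `A` do. -/
theorem primitive_baseChange_eq_zero
    (hP : ∀ f : A, Coalgebra.comul (R := k) f = f ⊗ₜ[k] (1 : A) + (1 : A) ⊗ₜ[k] f → f = 0)
    (z : K ⊗[k] A)
    (hz : Coalgebra.comul (R := K) z = z ⊗ₜ[K] (1 : K ⊗[k] A) + (1 : K ⊗[k] A) ⊗ₜ[K] z) :
    z = 0 := by
  have hD : Function.Injective (primDefect k A) := by
    rw [injective_iff_map_eq_zero]
    intro a ha
    apply hP
    rw [primDefect_apply, sub_sub, sub_eq_zero] at ha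
    exact ha
  have hinj : Function.Injective ((primDefect k A).lTensor K) :=
    Module.Flat.lTensor_preserves_injective_linearMap _ hD
  apply hinj
  apply (theta k K A).injective
  rw [theta_lTensor_primDefect, hz, map_zero, map_zero]
  abel

/-- `A → K ⊗ A` is injective. -/
lemma one_tmul_injective (M : Type*) [AddCommGroup M] [Module k M] :
    Function.Injective (fun m : M => (1 : K) ⊗ₜ[k] m) := by
  have h1 : Function.Injective ((Algebra.linearMap k K).rTensor M) :=
    Module.Flat.rTensor_preserves_injective_linearMap _ (FaithfulSMul.algebraMap_injective k K)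
  intro m m' h
  have : (TensorProduct.lid k M).symm m = (TensorProduct.lid k M).symm m' := by
    apply h1
    simpa using h
  exact (TensorProduct.lid k M).symm.injective this

lemma primitive_eq_zero_of_baseChange
    (h : ∀ z : K ⊗[k] A, Coalgebra.comul (R := K) z =
      z ⊗ₜ[K] (1 : K ⊗[k] A) + (1 : K ⊗[k] A) ⊗ₜ[K] z → z = 0)
    (f : A) (hf : Coalgebra.comul (R := k) f = f ⊗ₜ[k] (1 : A) + (1 : A) ⊗ₜ[k] f) : f = 0 := by
  apply one_tmul_injective (k := k) (K := K) A
  change (1 : K) ⊗ₜ[k] f = (1 : K) ⊗ₜ[k] (0 : A)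
  rw [TensorProduct.tmul_zero]
  apply h
  rw [comul_tmul_eq, hf, bcPair_add, bcPair_tmul, bcPair_tmul, Algebra.TensorProduct.one_def]

lemma bcPair_comm (d : A ⊗[k] A) :
    bcPair (1 : K) (TensorProduct.comm k A A d) =
      TensorProduct.comm K (K ⊗[k] A) (K ⊗[k] A) (bcPair (1 : K) d) := by
  induction d using TensorProduct.induction_on with
  | zero => simp
  | tmul a b => simp
  | add y z hy hz => rw [map_add, bcPair_add, hy, hz, bcPair_add, map_add]

theorem isCocomm_of_baseChange [Coalgebra.IsCocomm K (K ⊗[k] A)] : Coalgebra.IsCocomm k A := by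
  constructor
  apply LinearMap.ext
  intro a
  rw [LinearMap.comp_apply]
  have hinj : Function.Injective (fun d : A ⊗[k] A => bcPair (1 : K) d) := by
    have : (fun d : A ⊗[k] A => bcPair (1 : K) d) =
        (theta k K A) ∘ (fun d : A ⊗[k] A => (1 : K) ⊗ₜ[k] d) := rfl
    rw [this]
    exact (theta k K A).injective.comp (one_tmul_injective (k := k) (K := K) _)
  apply hinj
  change bcPair (1 : K) _ = bcPair (1 : K) _
  rw [LinearEquiv.coe_coe, bcPair_comm, ← comul_tmul_eq, Coalgebra.comm_comul]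

end BC

section Diag

variable {K : Type u} [Field K] {H : Type v} [CommRing H]

theorem isCocomm_of_isDiagonalizable [Bialgebra K H] (h : IsDiagonalizable K H) :
    Coalgebra.IsCocomm K H := by
  constructor
  apply LinearMap.ext_on h
  intro g hg
  have hg' : IsGroupLikeElem K g := hg
  rw [LinearMap.comp_apply, hg'.comul_eq_tmul_self]
  rfl

theorem primitive_eq_zero_of_isDiagonalizable [HopfAlgebra K H] (h : IsDiagonalizable K H)
    (f : H) (hf : Coalgebra.comul (R := K) f = f ⊗ₜ[K] (1 : H) + (1 : H) ⊗ₜ[K] f) : f = 0 := by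
  have hLR : IsLinearlyReductive K H := by
    intro V _ _ _ hfin
    exact isSemisimpleComod_of_span_eigenvectors (span_eigenvectors_eq_top_of_span_groupLike h)
  obtain ⟨α, hα⟩ := isLinearlyReductive_iff_exists_isTrivIntegral.1 hLR
  exact eq_zero_of_primitive hα hf

end Diag

end Groth.Agent.Lib.Helper7.DiagCocomm
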