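import Groth.Agent.Lib.Helper7.UnipQuot
import Groth.Agent.Lib.Helper7.DiagCocommBC

set_option autoImplicit false

namespace Groth.Agent.Lib.Helper7.UnipNoPrim

open TensorProduct HopfRep Groth.Agent.Lib.Helper7.Comod Groth.Agent.Lib.Helper7.UnipExt
  Groth.Agent.Lib.Helper7.HopfSub Groth.Agent.Lib.Helper7.HopfMap
  Groth.Agent.Lib.Helper7.UnipPart

universe u v w

section T

variable {k : Type u} [Field k] {C : Type v} [CommRing C] [Bialgebra k C]

/-- in a bialgebra without primitive elements, unipotent vectors of the regular representation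
are scalars. -/
theorem eq_counit_smul_one_of_mem_fixFilt
    (hP : ∀ f : C, Coalgebra.comul (R := k) f = f ⊗ₜ[k] (1 : C) + (1 : C) ⊗ₜ[k] f → f = 0) :
    ∀ (n : ℕ), ∀ c ∈ fixFilt k C C n, c = Coalgebra.counit (R := k) c • (1 : C) := by
  intro n
  induction n with
  | zero =>
    intro c hc
    rw [fixFilt_zero, Submodule.mem_bot] at hc
    rw [hc, map_zero, zero_smul]
  | succ n ih =>
    intro c hc
    rw [fixFilt_succ, mem_nextFix] at hc
    obtain ⟨y, hy⟩ := hc
    change (fixFilt k C C n).subtype.rTensor C y =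
      Coalgebra.comul (R := k) c - c ⊗ₜ[k] (1 : C) at hy
    have key : ∀ y : ↥(fixFilt k C C n) ⊗[k] C, (fixFilt k C C n).subtype.rTensor C y =
        (1 : C) ⊗ₜ[k] (TensorProduct.lid k C ((Coalgebra.counit (R := k)).rTensor C
          ((fixFilt k C C n).subtype.rTensor C y))) := by
      intro y
      induction y using TensorProduct.induction_on with
      | zero => simp
      | add y z hy hz =>
        simp only [map_add, TensorProduct.tmul_add]
        exact congrArg₂ (· + ·) hy hz
      | tmul p x =>
        rw [LinearMap.rTensor_tmul, LinearMap.rTensor_tmul, TensorProduct.lid_tmul,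
          Submodule.subtype_apply, TensorProduct.tmul_smul, TensorProduct.smul_tmul']
        congr 1
        exact ih p p.2
    have h3 : TensorProduct.lid k C ((Coalgebra.counit (R := k)).rTensor C
        ((fixFilt k C C n).subtype.rTensor C y)) = c - Coalgebra.counit (R := k) c • (1 : C) := by
      rw [hy, map_sub, map_sub, Coalgebra.rTensor_counit_comul, LinearMap.rTensor_tmul,
        TensorProduct.lid_tmul, TensorProduct.lid_tmul, one_smul]
    have h4 : Coalgebra.comul (R := k) c = c ⊗ₜ[k] (1 : C) +
        (1 : C) ⊗ₜ[k] (c - Coalgebra.counit (R := k) c • (1 : C)) := by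
      rw [← h3, ← key, hy]; abel
    have h5 : Coalgebra.comul (R := k) (c - Coalgebra.counit (R := k) c • (1 : C)) =
        (c - Coalgebra.counit (R := k) c • (1 : C)) ⊗ₜ[k] (1 : C) +
          (1 : C) ⊗ₜ[k] (c - Coalgebra.counit (R := k) c • (1 : C)) := by
      rw [map_sub, map_smul, Bialgebra.comul_one, h4, TensorProduct.sub_tmul,
        Algebra.TensorProduct.one_def, TensorProduct.smul_tmul']
      abel
    exact sub_eq_zero.1 (hP _ h5)

theorem eq_counit_smul_one_of_isUnipotent (hU : IsUnipotent k C)
    (hP : ∀ f : C, Coalgebra.comul (R := k) f = f ⊗ₜ[k] (1 : C) + (1 : C) ⊗ₜ[k] f → f = 0)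
    (c : C) : c = Coalgebra.counit (R := k) c • (1 : C) := by
  obtain ⟨n, hn⟩ := exists_mem_fixFilt_regular hU c
  exact eq_counit_smul_one_of_mem_fixFilt hP n c hn

end T

section Range

variable {k : Type u} [Field k] {A : Type v} [CommRing A] [HopfAlgebra k A]
  {C : Type w} [CommRing C] [HopfAlgebra k C]

/-- the corestriction of a bialgebra map to its range. -/
noncomputable def rangeRestrictBialgHom (ψ : C →ₐc[k] A) :
    letI := hopfAlgebra (isHopfSub_range ψ)
    C →ₐc[k] ↥(ψ : C →ₐ[k] A).range :=
  letI := hopfAlgebra (isHopfSub_range ψ)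
  BialgHom.ofAlgHom (ψ : C →ₐ[k] A).rangeRestrict
    (by
      apply AlgHom.ext
      intro c
      change Coalgebra.counit (R := k) (ψ c) = Coalgebra.counit (R := k) c
      exact CoalgHomClass.counit_comp_apply ψ c)
    (by
      apply AlgHom.ext
      intro c
      apply ιι_injective (ψ : C →ₐ[k] A).range
      change ιι (ψ : C →ₐ[k] A).range (Algebra.TensorProduct.map (ψ : C →ₐ[k] A).rangeRestrict
        (ψ : C →ₐ[k] A).rangeRestrict (Coalgebra.comul (R := k) c)) =
        ιι (ψ : C →ₐ[k] A).range
          (comulB (isHopfSub_range ψ) ((ψ : C →ₐ[k] A).rangeRestrict c))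
      rw [ιι_comulB]
      have h1 : ∀ z : C ⊗[k] C, ιι (ψ : C →ₐ[k] A).range
          (Algebra.TensorProduct.map (ψ : C →ₐ[k] A).rangeRestrict
            (ψ : C →ₐ[k] A).rangeRestrict z) =
          TensorProduct.map (ψ : C →ₗ[k] A) (ψ : C →ₗ[k] A) z := by
        intro z
        induction z using TensorProduct.induction_on with
        | zero => simp
        | tmul x y => rfl
        | add y z hy hz => simp only [map_add, hy, hz]
      rw [h1]
      exact CoalgHomClass.map_comp_comul_apply ψ c)

lemma rangeRestrictBialgHom_apply (ψ : C →ₐc[k] A) (c : C) :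
    ((rangeRestrictBialgHom ψ c : ↥(ψ : C →ₐ[k] A).range) : A) = ψ c := rfl

lemma rangeRestrictBialgHom_surjective (ψ : C →ₐc[k] A) :
    Function.Surjective (rangeRestrictBialgHom ψ) := by
  rintro ⟨_, c, rfl⟩
  exact ⟨c, rfl⟩

/-- primitive elements of a Hopf subalgebra are primitive in the ambient Hopf algebra. -/
lemma primitive_val {B : Subalgebra k A} (hB : IsHopfSub B) (p : ↥B)
    (hp : letI := hopfAlgebra hB
      Coalgebra.comul (R := k) p = p ⊗ₜ[k] (1 : ↥B) + (1 : ↥B) ⊗ₜ[k] p) :
    Coalgebra.comul (R := k) (p : A) = (p : A) ⊗ₜ[k] (1 : A) + (1 : A) ⊗ₜ[k] (p : A) := by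
  letI := hopfAlgebra hB
  rw [← map_val_comul hB p, hp, map_add, TensorProduct.map_tmul, TensorProduct.map_tmul]
  rfl

end Range

section Diag

variable {K : Type u} [Field K] {H : Type v} [CommRing H] [Bialgebra K H]
  {H' : Type w} [CommRing H'] [Bialgebra K H']

theorem isDiagonalizable_of_surjective (f : H →ₐc[K] H') (hf : Function.Surjective f)
    (h : IsDiagonalizable K H) : IsDiagonalizable K H' := by
  change Submodule.span K {a : H' | IsGroupLikeElem K a} = ⊤
  rw [eq_top_iff]
  intro x _
  obtain ⟨y, rfl⟩ := hf x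
  have hy : y ∈ Submodule.span K {a : H | IsGroupLikeElem K a} := by
    rw [show Submodule.span K {a : H | IsGroupLikeElem K a} = ⊤ from h]; trivial
  have hle : Submodule.span K {a : H | IsGroupLikeElem K a} ≤
      (Submodule.span K {a : H' | IsGroupLikeElem K a}).comap (f : H →ₗ[K] H') := by
    rw [Submodule.span_le]
    intro g hg
    exact Submodule.subset_span (IsGroupLikeElem.map f hg)
  exact hle hy

end Diag

end Groth.Agent.Lib.Helper7.UnipNoPrim
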