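import Mathlib
import Groth.Prelude.Def_SGA3b
import Groth.Prelude.Def_HopfRep
import Groth.Agent.Lib.Helper7.HopfBCRing
import Groth.Agent.Lib.Helper7.UnipNoPrim
import Groth.Agent.Lib.Helper7.DiagIso
import Groth.Agent.Lib.Helper7.CancelBC

/-!
# Closed subgroups of groups of multiplicative type over a field are of multiplicative type (helper7)

* `isGroupLikeElem_one_tmul`, `isDiagonalizable_baseChange_monoidAlgebra` (ring base, field target).
* `map_id_surjective`.
* `isDiag_quotient_residueField`: from `R' ⊗[R₁] X ≃ₐc R'[M]` to a diagonalisation of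
  `(R'/𝔪) ⊗[R₁] Y` for every Hopf quotient `Y` of `X` (uses `cancelBC`).
* `faithfullyFlat_of_isField`, `main` (= S5244).
-/

namespace Groth.Agent.Lib.Helper7.MultQuot
open TensorProduct Groth.Agent.Lib.Helper7.BCR HopfRep Groth.Agent.Lib.Helper7.CancelBC
  Groth.Agent.Lib.Helper7.UnipNoPrim
universe u v w x

section GLike
variable {R : Type u} {K : Type v} [CommRing R] [Field K] [Algebra R K]
  {B : Type w} [CommRing B] [Bialgebra R B]

lemma isGroupLikeElem_one_tmul {g : B} (hg : IsGroupLikeElem R g) :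
    IsGroupLikeElem K ((1 : K) ⊗ₜ[R] g : K ⊗[R] B) := by
  refine ⟨?_, ?_⟩
  · rw [TensorProduct.counit_tmul, hg.counit_eq_one, CommSemiring.counit_apply, one_smul]
  · rw [comul_tmul_eq, hg.comul_eq_tmul_self, bcPair_tmul]

/-- the base change to a field of a group algebra is spanned by group-like elements. -/
theorem isDiagonalizable_baseChange_monoidAlgebra (M : Type x) [CommGroup M] :
    IsDiagonalizable K (K ⊗[R] MonoidAlgebra R M) := by
  unfold IsDiagonalizable
  rw [eq_top_iff]
  intro z hz0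
  clear hz0
  induction z using TensorProduct.induction_on with
  | zero => exact Submodule.zero_mem _
  | add y z hy hz => exact Submodule.add_mem _ hy hz
  | tmul c y =>
    induction y using MonoidAlgebra.induction_linear with
    | zero => rw [TensorProduct.tmul_zero]; exact Submodule.zero_mem _
    | add a b ha hb => rw [TensorProduct.tmul_add]; exact Submodule.add_mem _ ha hb
    | single m r =>
      have h1 : (c ⊗ₜ[R] (MonoidAlgebra.single m r) : K ⊗[R] MonoidAlgebra R M) =
          (r • c) • ((1 : K) ⊗ₜ[R] (MonoidAlgebra.single m (1 : R))) := by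
        rw [TensorProduct.smul_tmul', smul_eq_mul, mul_one, TensorProduct.smul_tmul,
          MonoidAlgebra.smul_single, smul_eq_mul, mul_one]
      rw [h1]
      exact Submodule.smul_mem _ _ (Submodule.subset_span
        (isGroupLikeElem_one_tmul (MonoidAlgebra.isGroupLikeElem_single_one m)))

end GLike


lemma map_id_surjective {R : Type u} {K : Type v} [CommRing R] [CommRing K] [Algebra R K]
    {H : Type w} {H' : Type x} [CommRing H] [CommRing H'] [Bialgebra R H] [Bialgebra R H']
    (f : H →ₐc[R] H') (hf : Function.Surjective f) :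
    Function.Surjective (Bialgebra.TensorProduct.map (BialgHom.id K K) f) := by
  intro x
  induction x using TensorProduct.induction_on with
  | zero => exact ⟨0, map_zero _⟩
  | tmul c y =>
    obtain ⟨a, rfl⟩ := hf y
    exact ⟨c ⊗ₜ[R] a, rfl⟩
  | add y z hy hz =>
    obtain ⟨y', rfl⟩ := hy
    obtain ⟨z', rfl⟩ := hz
    exact ⟨y' + z', map_add _ _ _⟩

/-- Over a field-like ring `R₁`, from a diagonalisation of `R' ⊗ X` over a nontrivial `R'`, every
quotient of `X` by a Hopf ideal becomes diagonalisable over a residue field of `R'`. -/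
theorem isDiag_quotient_residueField {R₁ : Type u} [CommRing R₁] {R' : Type u} [CommRing R']
    [Algebra R₁ R'] (𝔪 : Ideal R') [h𝔪 : 𝔪.IsMaximal]
    {X : Type u} [CommRing X] [HopfAlgebra R₁ X] {Y : Type u} [CommRing Y] [HopfAlgebra R₁ Y]
    (q : X →ₐc[R₁] Y) (hq : Function.Surjective q)
    {M : Type u} [CommGroup M] (e : R' ⊗[R₁] X ≃ₐc[R'] MonoidAlgebra R' M) :
    SGA3b.IsDiag (R' ⧸ 𝔪) ((R' ⧸ 𝔪) ⊗[R₁] Y) := by
  let _ : Field (R' ⧸ 𝔪) := Ideal.Quotient.field 𝔪
  apply Groth.Agent.Lib.Helper7.DiagIso.isDiag_of_isDiagonalizable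
  have h1 : IsDiagonalizable (R' ⧸ 𝔪) ((R' ⧸ 𝔪) ⊗[R'] MonoidAlgebra R' M) :=
    isDiagonalizable_baseChange_monoidAlgebra M
  have h2 : IsDiagonalizable (R' ⧸ 𝔪) ((R' ⧸ 𝔪) ⊗[R'] (R' ⊗[R₁] X)) :=
    isDiagonalizable_of_surjective
      (Bialgebra.TensorProduct.map (BialgHom.id (R' ⧸ 𝔪) (R' ⧸ 𝔪)) (e.symm : _ →ₐc[R'] _))
      (map_id_surjective _ e.symm.surjective) h1
  have h3 : IsDiagonalizable (R' ⧸ 𝔪) ((R' ⧸ 𝔪) ⊗[R₁] X) :=
    isDiagonalizable_of_surjective
      ((cancelBC R₁ R' (R' ⧸ 𝔪) X : _ ≃ₐc[R' ⧸ 𝔪] _) : _ →ₐc[R' ⧸ 𝔪] _)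
      (cancelBC R₁ R' (R' ⧸ 𝔪) X).surjective h2
  exact isDiagonalizable_of_surjective
    (Bialgebra.TensorProduct.map (BialgHom.id (R' ⧸ 𝔪) (R' ⧸ 𝔪)) q)
    (map_id_surjective _ hq) h3


lemma faithfullyFlat_of_isField {R₁ : Type u} [CommRing R₁] (h : IsField R₁) (N : Type v)
    [AddCommGroup N] [Module R₁ N] [Nontrivial N] : Module.FaithfullyFlat R₁ N := by
  let _ : Field R₁ := h.toField
  infer_instance

theorem main (k : Type u) [Field k] (A : Type u) [CommRing A] [HopfAlgebra k A]
    (h : SGA3b.IsMultType k A) (J : Ideal A) [J.IsHopfIdeal k] : SGA3b.IsMultType k (A ⧸ J) := by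
  obtain ⟨s, hs, hs'⟩ := h
  obtain ⟨f, hfs, hf0⟩ : ∃ f ∈ s, f ≠ 0 := by
    by_contra hcon
    push Not at hcon
    have h1 : Ideal.span s ≤ ⊥ := Ideal.span_le.2 (fun x hx => by
      rw [hcon x hx]; exact Ideal.zero_mem _)
    rw [hs] at h1
    exact top_ne_bot (le_bot_iff.1 h1)
  obtain ⟨R', _, _, hff, M, _, ⟨e⟩⟩ := hs' f hfs
  have hinj₁ : Function.Injective (algebraMap k (Localization.Away f)) :=
    IsLocalization.injective (Localization.Away f) (M := Submonoid.powers f)
      (powers_le_nonZeroDivisors_of_noZeroDivisors hf0)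
  have : Nontrivial (Localization.Away f) := hinj₁.nontrivial
  have hinj₂ : Function.Injective (algebraMap (Localization.Away f) R') :=
    FaithfulSMul.algebraMap_injective _ _
  have : Nontrivial R' := hinj₂.nontrivial
  obtain ⟨𝔪, h𝔪⟩ := Ideal.exists_maximal R'
  have hfield : IsField (Localization.Away f) := by
    have hunit : Submonoid.powers f ≤ IsUnit.submonoid k := by
      rintro _ ⟨n, rfl⟩
      exact (isUnit_iff_ne_zero.2 hf0).pow n
    exact (IsLocalization.atUnits k (Submonoid.powers f) (S := Localization.Away f)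
      hunit).symm.toMulEquiv.isField (Field.toIsField k)
  refine ⟨{f}, Ideal.span_singleton_eq_top.2 (isUnit_iff_ne_zero.2 hf0), ?_⟩
  intro g hg
  rw [Set.mem_singleton_iff] at hg
  subst hg
  have : Nontrivial (R' ⧸ 𝔪) := Ideal.Quotient.nontrivial_iff.2 h𝔪.ne_top
  refine ⟨R' ⧸ 𝔪, inferInstance, inferInstance, faithfullyFlat_of_isField hfield _, ?_⟩
  exact isDiag_quotient_residueField 𝔪
    (Bialgebra.TensorProduct.map (BialgHom.id (Localization.Away g) (Localization.Away g))
      (Bialgebra.Quotient.mkBialgHom J))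
    (map_id_surjective _ Ideal.Quotient.mk_surjective) e


end Groth.Agent.Lib.Helper7.MultQuot
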