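import Groth.Agent.Lib.Helper7.DiagCocommBC
import Groth.Agent.Lib.Helper7.DiagIso
import Groth.Agent.Lib.Helper7.MultQuot

/-!
# Groups of multiplicative type and of finite type over a field are isotrivial (helper7)

Group-like elements of `K ⊗ A` are defined over a finite separable extension: the field `F`
generated by their coefficients is killed by every `k`-derivation, since `g⁻¹ D(g)` is primitive
and a group of multiplicative type has no primitive elements.
-/

set_option autoImplicit false

namespace Groth.Agent.Lib.Helper7.Isotriv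

open TensorProduct HopfRep Groth.Agent.Lib.Helper7.BCR Groth.Agent.Lib.Helper7.DiagCocomm
  Groth.Agent.Lib.Helper7.CancelBC Groth.Agent.Lib.Helper7.MultQuot
open scoped KaehlerDifferential

universe u v w


section Desc

variable {k : Type u} {K : Type v} {A : Type w} [Field k] [Field K] [Algebra k K] [CommRing A]
  [Bialgebra k A]

lemma bcPair_one_injective :
    Function.Injective (fun d : A ⊗[k] A => (bcPair (1 : K) d : (K ⊗[k] A) ⊗[K] (K ⊗[k] A))) := by
  have : (fun d : A ⊗[k] A => bcPair (1 : K) d) =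
      (theta k K A) ∘ (fun d : A ⊗[k] A => (1 : K) ⊗ₜ[k] d) := rfl
  rw [this]
  exact (theta k K A).injective.comp (one_tmul_injective (k := k) (K := K) _)

/-- group-like elements descend along field extensions. -/
lemma isGroupLikeElem_of_one_tmul {x : A} (h : IsGroupLikeElem K ((1 : K) ⊗ₜ[k] x : K ⊗[k] A)) :
    IsGroupLikeElem k x := by
  refine ⟨?_, ?_⟩
  · have h1 := h.counit_eq_one
    rw [TensorProduct.counit_tmul, CommSemiring.counit_apply, ← Algebra.algebraMap_eq_smul_one,
      ← map_one (algebraMap k K)] at h1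
    exact (algebraMap k K).injective h1
  · apply bcPair_one_injective (k := k) (K := K)
    change bcPair (1 : K) _ = bcPair (1 : K) _
    rw [← comul_tmul_eq, h.comul_eq_tmul_self, bcPair_tmul]

end Desc

section Deriv

variable {k : Type u} {F : Type v} {A : Type w} [Field k] [Field F] [Algebra k F] [CommRing A]
  [HopfAlgebra k A]

/-- `Δ_F = θ ∘ (F ⊗ Δ)`. -/
lemma comul_eq_theta (z : F ⊗[k] A) :
    Coalgebra.comul (R := F) z = theta k F A ((Coalgebra.comul (R := k) (A := A)).lTensor F z) := by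
  induction z using TensorProduct.induction_on with
  | zero => simp
  | tmul x a => rw [LinearMap.lTensor_tmul, theta_tmul, comul_tmul_eq]
  | add y z hy hz => rw [map_add, map_add, map_add, hy, hz]

lemma tmul_tmul_eq_theta (c c' : F) (a a' : A) :
    ((c ⊗ₜ[k] a : F ⊗[k] A) ⊗ₜ[F] (c' ⊗ₜ[k] a' : F ⊗[k] A)) =
      theta k F A ((c * c') ⊗ₜ[k] (a ⊗ₜ[k] a')) := by
  rw [theta_tmul, bcPair_tmul]
  have h1 : (c ⊗ₜ[k] a : F ⊗[k] A) = c • ((1 : F) ⊗ₜ[k] a) := by
    rw [TensorProduct.smul_tmul', smul_eq_mul, mul_one]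
  have h2 : ((c * c') ⊗ₜ[k] a' : F ⊗[k] A) = c • (c' ⊗ₜ[k] a') := by
    rw [TensorProduct.smul_tmul', smul_eq_mul]
  rw [h1, h2, TensorProduct.smul_tmul, TensorProduct.tmul_smul]

variable (D : Derivation k F F)

/-- the derivation `D ⊗ A` of `F ⊗ A`. -/
noncomputable def dA : F ⊗[k] A →ₗ[k] F ⊗[k] A := (D : F →ₗ[k] F).rTensor A

/-- the induced operator on `(F ⊗ A) ⊗_F (F ⊗ A)`. -/
noncomputable def d2 : (F ⊗[k] A) ⊗[F] (F ⊗[k] A) →ₗ[k] (F ⊗[k] A) ⊗[F] (F ⊗[k] A) :=
  (theta k F A).toLinearMap ∘ₗ ((D : F →ₗ[k] F).rTensor (A ⊗[k] A)) ∘ₗ (theta k F A).symm.toLinearMap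

lemma comul_dA (z : F ⊗[k] A) :
    Coalgebra.comul (R := F) (dA (A := A) D z) = d2 D (Coalgebra.comul (R := F) z) := by
  rw [comul_eq_theta, comul_eq_theta, d2, LinearMap.comp_apply, LinearMap.comp_apply,
    LinearEquiv.coe_coe, LinearEquiv.coe_coe, LinearEquiv.symm_apply_apply, dA]
  congr 1
  rw [← LinearMap.comp_apply, ← LinearMap.comp_apply, LinearMap.lTensor_comp_rTensor,
    LinearMap.rTensor_comp_lTensor]

lemma d2_tmul (x y : F ⊗[k] A) :
    d2 D (x ⊗ₜ[F] y) = dA D x ⊗ₜ[F] y + x ⊗ₜ[F] dA D y := by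
  induction x using TensorProduct.induction_on with
  | zero => simp
  | add x x' hx hx' =>
    rw [TensorProduct.add_tmul, map_add, hx, hx', map_add, TensorProduct.add_tmul,
      TensorProduct.add_tmul]
    abel
  | tmul c a =>
    induction y using TensorProduct.induction_on with
    | zero => simp
    | add y y' hy hy' =>
      rw [TensorProduct.tmul_add, map_add, hy, hy', map_add, TensorProduct.tmul_add,
        TensorProduct.tmul_add]
      abel
    | tmul c' a' =>
      rw [tmul_tmul_eq_theta, d2, LinearMap.comp_apply, LinearMap.comp_apply,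
        LinearEquiv.coe_coe, LinearEquiv.coe_coe, LinearEquiv.symm_apply_apply,
        LinearMap.rTensor_tmul, dA, LinearMap.rTensor_tmul, LinearMap.rTensor_tmul,
        tmul_tmul_eq_theta, tmul_tmul_eq_theta, ← map_add, ← TensorProduct.add_tmul]
      congr 2
      change D (c * c') = D c * c' + c * D c'
      rw [D.leibniz]
      simp only [smul_eq_mul]
      ring

/-- a derivation of the base field kills group-like elements when there are no primitives. -/
theorem dA_groupLike_eq_zero
    (hP : ∀ z : F ⊗[k] A, Coalgebra.comul (R := F) z =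
      z ⊗ₜ[F] (1 : F ⊗[k] A) + (1 : F ⊗[k] A) ⊗ₜ[F] z → z = 0)
    {g : F ⊗[k] A} (hg : IsGroupLikeElem F g) : dA D g = 0 := by
  have h1 : Coalgebra.comul (R := F) (dA D g) = dA D g ⊗ₜ[F] g + g ⊗ₜ[F] dA D g := by
    rw [comul_dA, hg.comul_eq_tmul_self, d2_tmul]
  set g' := HopfAlgebra.antipode F g with hg'
  have hg'' : IsGroupLikeElem F g' := hg.antipode
  have h2 : g' * g = 1 := hg.antipode_mul_cancel
  have h3 : g * g' = 1 := hg.mul_antipode_cancel
  have h4 : g' * dA D g = 0 := by
    apply hP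
    rw [Bialgebra.comul_mul, hg''.comul_eq_tmul_self, h1, mul_add,
      Algebra.TensorProduct.tmul_mul_tmul, Algebra.TensorProduct.tmul_mul_tmul, h2]
  calc dA D g = g * (g' * dA D g) := by rw [← mul_assoc, h3, one_mul]
    _ = 0 := by rw [h4, mul_zero]

end Deriv



section FieldLemma

lemma finite_separable_of_derivations_zero (k : Type u) (F : Type v) [Field k] [Field F]
    [Algebra k F] [Algebra.EssFiniteType k F]
    (h : ∀ D : Derivation k F F, D = 0) : Module.Finite k F ∧ Algebra.IsSeparable k F := by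
  have hsub : Subsingleton (Ω[F⁄k]) := by
    rw [subsingleton_iff_forall_eq 0]
    intro x
    rw [← Module.forall_dual_apply_eq_zero_iff F x]
    intro φ
    have h1 : KaehlerDifferential.linearMapEquivDerivation k F φ = 0 := h _
    have h2 : φ = 0 := by
      apply (KaehlerDifferential.linearMapEquivDerivation k F).injective
      rw [h1, map_zero]
    rw [h2, LinearMap.zero_apply]
  have : Algebra.FormallyUnramified k F := ⟨hsub⟩
  exact ⟨Algebra.FormallyUnramified.finite_of_free k F, Algebra.FormallyUnramified.isSeparable k F⟩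

lemma derivation_eq_zero_of_adjoin {k : Type u} {K : Type v} [Field k] [Field K] [Algebra k K]
    (T : Set K) (D : Derivation k (IntermediateField.adjoin k T) (IntermediateField.adjoin k T))
    (hD : ∀ (x : K) (hx : x ∈ T), D ⟨x, IntermediateField.subset_adjoin k T hx⟩ = 0) : D = 0 := by
  have key : ∀ (x : K) (hx : x ∈ IntermediateField.adjoin k T), D ⟨x, hx⟩ = 0 := by
    intro x hx
    induction hx using IntermediateField.adjoin_induction with
    | mem x hx => exact hD x hx
    | algebraMap x =>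
      exact D.map_algebraMap x
    | add x y hx hy hx' hy' =>
      have : (⟨x + y, add_mem hx hy⟩ : IntermediateField.adjoin k T) = ⟨x, hx⟩ + ⟨y, hy⟩ := rfl
      rw [this, map_add, hx', hy', add_zero]
    | inv x hx hx' =>
      have : (⟨x⁻¹, inv_mem hx⟩ : IntermediateField.adjoin k T) = (⟨x, hx⟩)⁻¹ := rfl
      rw [this, Derivation.leibniz_inv, hx', smul_zero]
    | mul x y hx hy hx' hy' =>
      have : (⟨x * y, mul_mem hx hy⟩ : IntermediateField.adjoin k T) = ⟨x, hx⟩ * ⟨y, hy⟩ := rfl
      rw [this, D.leibniz, hx', hy', smul_zero, smul_zero, add_zero]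
  ext x
  exact congrArg Subtype.val (key x.1 x.2)

end FieldLemma



section Step1

variable {k : Type u} [Field k] {A : Type u} [CommRing A] [HopfAlgebra k A]

lemma exists_field_isDiag (h : SGA3b.IsMultType k A) :
    ∃ (K : Type u) (_ : Field K) (_ : Algebra k K), SGA3b.IsDiag K (K ⊗[k] A) := by
  obtain ⟨s, hs, hs'⟩ := h
  obtain ⟨f, hfs, hf0⟩ : ∃ f ∈ s, f ≠ 0 := by
    by_contra hcon
    push Not at hcon
    have h1 : Ideal.span s ≤ ⊥ := Ideal.span_le.2 (fun x hx => by
      rw [hcon x hx]; exact Ideal.zero_mem _)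
    rw [hs] at h1
    exact top_ne_bot (le_bot_iff.1 h1)
  obtain ⟨R', _, _, hff, M, _, ⟨e⟩⟩ := hs' f hfs
  have hinj₁ : Function.Injective (algebraMap k (Localization.Away f)) :=
    IsLocalization.injective (Localization.Away f) (M := Submonoid.powers f)
      (powers_le_nonZeroDivisors_of_noZeroDivisors hf0)
  have : Nontrivial (Localization.Away f) := hinj₁.nontrivial
  have hinj₂ : Function.Injective (algebraMap (Localization.Away f) R') :=
    FaithfulSMul.algebraMap_injective _ _
  have : Nontrivial R' := hinj₂.nontrivial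
  obtain ⟨𝔪, h𝔪⟩ := Ideal.exists_maximal R'
  have h1 := isDiag_quotient_residueField 𝔪
    (BialgHom.id (Localization.Away f) (Localization.Away f ⊗[k] A)) Function.surjective_id e
  let _ : Field (R' ⧸ 𝔪) := Ideal.Quotient.field 𝔪
  let _ : Algebra k (R' ⧸ 𝔪) := Algebra.compHom (R' ⧸ 𝔪) (algebraMap k (Localization.Away f))
  have : IsScalarTower k (Localization.Away f) (R' ⧸ 𝔪) :=
    IsScalarTower.of_algebraMap_eq (fun _ => rfl)
  obtain ⟨M', _, ⟨e'⟩⟩ := h1
  exact ⟨R' ⧸ 𝔪, inferInstance, inferInstance, M', inferInstance,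
    ⟨(cancelBC k (Localization.Away f) (R' ⧸ 𝔪) A).symm.trans e'⟩⟩

end Step1



section Descend

variable {k : Type u} [Field k] {K : Type v} [Field K] [Algebra k K] {A : Type w} [CommRing A]
  [Bialgebra k A] {ι : Type*} (b : Module.Basis ι k A) (F : IntermediateField k K)

/-- the element of `F ⊗ A` with prescribed coefficients. -/
noncomputable def desc (x : K ⊗[k] A)
    (hx : ∀ i, (Algebra.TensorProduct.basis K b).repr x i ∈ F) : F ⊗[k] A :=
  ∑ i ∈ ((Algebra.TensorProduct.basis K b).repr x).support,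
    (⟨(Algebra.TensorProduct.basis K b).repr x i, hx i⟩ : F) ⊗ₜ[k] b i

lemma psi_desc (x : K ⊗[k] A)
    (hx : ∀ i, (Algebra.TensorProduct.basis K b).repr x i ∈ F) :
    Algebra.TensorProduct.map F.val (AlgHom.id k A) (desc b F x hx) = x := by
  rw [desc, map_sum]
  conv_rhs => rw [← (Algebra.TensorProduct.basis K b).linearCombination_repr x]
  rw [Finsupp.linearCombination_apply, Finsupp.sum]
  apply Finset.sum_congr rfl
  intro i _
  rw [Algebra.TensorProduct.map_tmul, Algebra.TensorProduct.basis_apply, TensorProduct.smul_tmul',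
    smul_eq_mul, mul_one]
  rfl

lemma repr_sum_tmul [DecidableEq ι] (s : Finset ι) (d : ι → F) (j : ι) :
    (Algebra.TensorProduct.basis F b).repr (∑ i ∈ s, d i ⊗ₜ[k] b i) j =
      if j ∈ s then d j else 0 := by
  rw [map_sum, Finset.sum_apply']
  have h1 : ∀ i, (Algebra.TensorProduct.basis F b).repr (d i ⊗ₜ[k] b i) j =
      if i = j then d i else 0 := by
    intro i
    have : d i ⊗ₜ[k] b i = d i • (Algebra.TensorProduct.basis F b) i := by
      rw [Algebra.TensorProduct.basis_apply, TensorProduct.smul_tmul', smul_eq_mul, mul_one]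
    rw [this, map_smul, Module.Basis.repr_self, Finsupp.smul_apply, Finsupp.single_apply,
      smul_eq_mul]
    split_ifs <;> simp
  simp only [h1]
  rw [Finset.sum_ite_eq' s j]

end Descend


section Generic

open Groth.Agent.Lib.Helper7.UnipNoPrim

variable {k : Type u} [Field k] {K : Type u} [Field K] [Algebra k K] {A : Type u} [CommRing A]
  [HopfAlgebra k A] {M : Type u} [CommGroup M]
  (F : Type u) [Field F] [Algebra k F] [Algebra F K] [IsScalarTower k F K]

/-- `F ⊗ A → K ⊗ A`. -/
noncomputable def psi : F ⊗[k] A →ₐ[k] K ⊗[k] A :=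
  Algebra.TensorProduct.map (IsScalarTower.toAlgHom k F K) (AlgHom.id k A)

lemma cancelBC_one_tmul (y : F ⊗[k] A) :
    cancelBC k F K A ((1 : K) ⊗ₜ[F] y) = psi (K := K) F y := by
  induction y using TensorProduct.induction_on with
  | zero => simp
  | tmul c a =>
    rw [cancelBC_tmul, psi, Algebra.TensorProduct.map_tmul, Algebra.smul_def, mul_one]
    rfl
  | add y z hy hz => rw [TensorProduct.tmul_add, map_add, hy, hz, map_add]

lemma isGroupLikeElem_of_psi {y : F ⊗[k] A} (h : IsGroupLikeElem K (psi (K := K) F y)) :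
    IsGroupLikeElem F y := by
  apply isGroupLikeElem_of_one_tmul (k := F) (K := K)
  rw [← isGroupLikeElem_map_equiv (cancelBC k F K A), cancelBC_one_tmul]
  exact h

/-- no primitives in `F ⊗ A`. -/
lemma no_primitive (e : K ⊗[k] A ≃ₐc[K] MonoidAlgebra K M) :
    ∀ z : F ⊗[k] A, Coalgebra.comul (R := F) z =
      z ⊗ₜ[F] (1 : F ⊗[k] A) + (1 : F ⊗[k] A) ⊗ₜ[F] z → z = 0 := by
  have h1 : IsDiagonalizable K (MonoidAlgebra K M) := MonoidAlgebra.span_isGroupLikeElem
  have h2 : IsDiagonalizable K (K ⊗[F] (F ⊗[k] A)) :=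
    isDiagonalizable_of_surjective
      ((((cancelBC k F K A).trans e).symm : MonoidAlgebra K M ≃ₐc[K] K ⊗[F] (F ⊗[k] A)) :
        MonoidAlgebra K M →ₐc[K] K ⊗[F] (F ⊗[k] A))
      ((cancelBC k F K A).trans e).symm.surjective h1
  exact primitive_eq_zero_of_baseChange (k := F) (K := K) (A := F ⊗[k] A)
    (primitive_eq_zero_of_isDiagonalizable h2)

theorem isDiagonalizable_of_generators (e : K ⊗[k] A ≃ₐc[K] MonoidAlgebra K M) (S : Set M)
    (hS : Subgroup.closure S = ⊤)
    (hgen : ∀ m ∈ S, ∃ y : F ⊗[k] A, psi (K := K) F y = e.symm (MonoidAlgebra.single m 1)) :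
    IsDiagonalizable F (F ⊗[k] A) := by
  let N : Subgroup M :=
    { carrier := {m | ∃ w : F ⊗[k] A, IsGroupLikeElem F w ∧
        e (psi (K := K) F w) = MonoidAlgebra.single m 1}
      one_mem' := ⟨1, IsGroupLikeElem.one, by rw [map_one, map_one]; rfl⟩
      mul_mem' := by
        rintro a b ⟨w, hw, h1⟩ ⟨w', hw', h1'⟩
        exact ⟨w * w', hw.mul hw', by
          rw [map_mul, map_mul, h1, h1', MonoidAlgebra.single_mul_single, mul_one]⟩
      inv_mem' := by
        rintro a ⟨w, hw, h1⟩
        refine ⟨HopfAlgebra.antipode F w, hw.antipode, ?_⟩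
        have h2 : e (psi (K := K) F (HopfAlgebra.antipode F w)) * MonoidAlgebra.single a 1 = 1 := by
          rw [← h1, ← map_mul, ← map_mul, hw.antipode_mul_cancel, map_one, map_one]
        have h3 : (MonoidAlgebra.single a (1 : K) : MonoidAlgebra K M) *
            MonoidAlgebra.single a⁻¹ 1 = 1 := by
          rw [MonoidAlgebra.single_mul_single, mul_inv_cancel, mul_one]; rfl
        calc e (psi (K := K) F (HopfAlgebra.antipode F w))
            = e (psi (K := K) F (HopfAlgebra.antipode F w)) *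
                (MonoidAlgebra.single a 1 * MonoidAlgebra.single a⁻¹ 1) := by rw [h3, mul_one]
          _ = MonoidAlgebra.single a⁻¹ 1 := by rw [← mul_assoc, h2, one_mul] }
  have hN : N = ⊤ := by
    rw [eq_top_iff, ← hS, Subgroup.closure_le]
    intro m hm
    obtain ⟨y, hy⟩ := hgen m hm
    refine ⟨y, isGroupLikeElem_of_psi (K := K) F ?_, ?_⟩
    · rw [hy]
      exact (MonoidAlgebra.isGroupLikeElem_single_one (R := K) (A := K) m).map e.symm
    · rw [hy]
      simp
  set W : Submodule F (F ⊗[k] A) := Submodule.span F {a : F ⊗[k] A | IsGroupLikeElem F a} with hW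
  have hsurj : Function.Surjective (LinearMap.lTensor K W.subtype) := by
    intro z
    set Φ : K ⊗[F] (F ⊗[k] A) ≃ₐc[K] MonoidAlgebra K M := (cancelBC k F K A).trans e with hΦ
    have hz : z = Φ.symm (Φ z) := (Φ.symm_apply_apply z).symm
    rw [hz]
    generalize Φ z = x
    induction x using MonoidAlgebra.induction_linear with
    | zero => exact ⟨0, by simp⟩
    | add x y hx hy =>
      obtain ⟨x', hx'⟩ := hx
      obtain ⟨y', hy'⟩ := hy
      exact ⟨x' + y', by rw [map_add, hx', hy', map_add]⟩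
    | single m c =>
      have hm : m ∈ N := by rw [hN]; trivial
      obtain ⟨w, hw, h1⟩ := hm
      refine ⟨c ⊗ₜ[F] ⟨w, Submodule.subset_span hw⟩, ?_⟩
      rw [LinearMap.lTensor_tmul, Submodule.subtype_apply]
      apply EquivLike.injective Φ
      rw [Φ.apply_symm_apply]
      have h2 : c ⊗ₜ[F] w = c • ((1 : K) ⊗ₜ[F] w : K ⊗[F] (F ⊗[k] A)) := by
        rw [TensorProduct.smul_tmul', smul_eq_mul, mul_one]
      rw [h2, map_smul]
      change c • e (cancelBC k F K A ((1 : K) ⊗ₜ[F] w)) = _
      rw [cancelBC_one_tmul, h1, MonoidAlgebra.smul_single, smul_eq_mul, mul_one]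
  have hsurj' := (Module.FaithfullyFlat.lTensor_surjective_iff_surjective F K W.subtype).1 hsurj
  change W = ⊤
  rw [eq_top_iff]
  intro x _
  obtain ⟨w, hw⟩ := hsurj' x
  rw [← hw]
  exact w.2

end Generic

section Main

variable {k : Type u} [Field k] {K : Type u} [Field K] [Algebra k K] {A : Type u} [CommRing A]
  [HopfAlgebra k A] {M : Type u} [CommGroup M]

lemma dA_desc {ι : Type*} (b : Module.Basis ι k A) (F : IntermediateField k K)
    (D : Derivation k F F) (x : K ⊗[k] A)
    (hx : ∀ i, (Algebra.TensorProduct.basis K b).repr x i ∈ F)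
    (h0 : dA D (desc b F x hx) = 0) (i : ι) :
    D ⟨(Algebra.TensorProduct.basis K b).repr x i, hx i⟩ = 0 := by
  classical
  have h1 : dA D (desc b F x hx) = ∑ j ∈ ((Algebra.TensorProduct.basis K b).repr x).support,
      D (⟨(Algebra.TensorProduct.basis K b).repr x j, hx j⟩ : F) ⊗ₜ[k] b j := by
    rw [desc, map_sum]
    rfl
  rw [h1] at h0
  have h2 := repr_sum_tmul b F ((Algebra.TensorProduct.basis K b).repr x).support
    (fun j => D (⟨(Algebra.TensorProduct.basis K b).repr x j, hx j⟩ : F)) i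
  rw [h0, map_zero, Finsupp.zero_apply] at h2
  by_cases hi : i ∈ ((Algebra.TensorProduct.basis K b).repr x).support
  · rw [if_pos hi] at h2
    exact h2.symm
  · have : (⟨(Algebra.TensorProduct.basis K b).repr x i, hx i⟩ : F) = 0 := by
      apply Subtype.ext
      exact Finsupp.notMem_support_iff.1 hi
    rw [this, map_zero]

lemma psi_desc' {ι : Type*} (b : Module.Basis ι k A) (F : IntermediateField k K) (x : K ⊗[k] A)
    (hx : ∀ i, (Algebra.TensorProduct.basis K b).repr x i ∈ F) :
    psi (K := K) F (desc b F x hx) = x := by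
  have h1 : (psi (K := K) F : F ⊗[k] A →ₐ[k] K ⊗[k] A) =
      Algebra.TensorProduct.map F.val (AlgHom.id k A) := by
    unfold psi
    congr 1
  rw [h1, psi_desc]

end Main

lemma isDiagFT_of_isDiagonalizable {k : Type u} [Field k] {A : Type u} [CommRing A]
    [HopfAlgebra k A] (hft : Algebra.FiniteType k A) (F : Type u) [Field F] [Algebra k F]
    (hdiag : IsDiagonalizable F (F ⊗[k] A)) : SGA3b.IsDiagFT F (F ⊗[k] A) := by
  obtain ⟨M', _, ⟨e'⟩⟩ := Groth.Agent.Lib.Helper7.DiagIso.isDiag_of_isDiagonalizable hdiag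
  have hftF : Algebra.FiniteType F (F ⊗[k] A) := inferInstance
  exact ⟨M', inferInstance,
    MonoidAlgebra.finiteType_iff_group_fg.1 (Algebra.FiniteType.equiv hftF e'.toAlgEquiv), ⟨e'⟩⟩

theorem main_of_isDiag (k : Type u) [Field k] (A : Type u) [CommRing A] [HopfAlgebra k A]
    (hft : Algebra.FiniteType k A)
    (h : ∃ (K : Type u) (_ : Field K) (_ : Algebra k K), SGA3b.IsDiag K (K ⊗[k] A)) :
    ∃ (k' : Type u) (_ : Field k') (_ : Algebra k k'),
      Module.Finite k k' ∧ Algebra.IsSeparable k k' ∧ SGA3b.IsDiagFT k' (k' ⊗[k] A) ∧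
        IsDiagonalizable k' (k' ⊗[k] A) := by
  classical
  obtain ⟨K, _, _, M, _, ⟨e⟩⟩ := h
  have hftK : Algebra.FiniteType K (K ⊗[k] A) := inferInstance
  have hfgM : Group.FG M :=
    MonoidAlgebra.finiteType_iff_group_fg.1 (Algebra.FiniteType.equiv hftK e.toAlgEquiv)
  obtain ⟨S, hS⟩ := hfgM.out
  set b := Module.Basis.ofVectorSpace k A with hb
  set 𝔟 := Algebra.TensorProduct.basis K b with h𝔟
  let g : M → K ⊗[k] A := fun m => e.symm (MonoidAlgebra.single m 1)
  have hg : ∀ m, IsGroupLikeElem K (g m) := fun m =>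
    (MonoidAlgebra.isGroupLikeElem_single_one (R := K) (A := K) m).map e.symm
  let T : Finset K := S.biUnion (fun m => (𝔟.repr (g m)).support.image (fun i => 𝔟.repr (g m) i))
  let F : IntermediateField k K := IntermediateField.adjoin k (T : Set K)
  have hmem : ∀ m ∈ S, ∀ i, 𝔟.repr (g m) i ∈ F := by
    intro m hm i
    by_cases hi : i ∈ (𝔟.repr (g m)).support
    · apply IntermediateField.subset_adjoin
      simp only [T, Finset.coe_biUnion, Finset.coe_image, Set.mem_iUnion, Set.mem_image,
        Finset.mem_coe]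
      exact ⟨m, hm, i, hi, rfl⟩
    · rw [Finsupp.notMem_support_iff.1 hi]
      exact zero_mem _
  have hgl : ∀ m (hm : m ∈ S), IsGroupLikeElem F (desc b F (g m) (hmem m hm)) := by
    intro m hm
    apply isGroupLikeElem_of_psi (K := K) F
    rw [psi_desc']
    exact hg m
  have hD : ∀ D : Derivation k F F, D = 0 := by
    intro D
    apply derivation_eq_zero_of_adjoin
    intro x hx
    obtain ⟨m, hm, i, hi, rfl⟩ : ∃ m ∈ S, ∃ i ∈ (𝔟.repr (g m)).support, 𝔟.repr (g m) i = x := by
      simpa [T] using hx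
    have h0 := dA_groupLike_eq_zero D (no_primitive F e) (hgl m hm)
    exact dA_desc b F D (g m) (hmem m hm) h0 i
  have hess : Algebra.EssFiniteType k F :=
    IntermediateField.essFiniteType_iff.2 (IntermediateField.fg_adjoin_finset T)
  obtain ⟨hfin, hsep⟩ := finite_separable_of_derivations_zero k F hD
  have hdiag : IsDiagonalizable F (F ⊗[k] A) :=
    isDiagonalizable_of_generators F e (S : Set M) hS
      (fun m hm => ⟨desc b F (g m) (hmem m hm), psi_desc' b F (g m) (hmem m hm)⟩)
  exact ⟨F, inferInstance, inferInstance, hfin, hsep,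
    isDiagFT_of_isDiagonalizable hft F hdiag, hdiag⟩

theorem main (k : Type u) [Field k] (A : Type u) [CommRing A] [HopfAlgebra k A]
    (hft : Algebra.FiniteType k A) (h : SGA3b.IsMultType k A) :
    ∃ (k' : Type u) (_ : Field k') (_ : Algebra k k'),
      Module.Finite k k' ∧ Algebra.IsSeparable k k' ∧ SGA3b.IsDiagFT k' (k' ⊗[k] A) := by
  obtain ⟨k', i1, i2, h1, h2, h3, -⟩ := main_of_isDiag k A hft (exists_field_isDiag h)
  exact ⟨k', i1, i2, h1, h2, h3⟩

end Groth.Agent.Lib.Helper7.Isotriv
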