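import Mathlib
import Groth.Agent.Lib.Helper7.NilLift7

set_option autoImplicit false

namespace Groth.Agent.Lib.Helper7.NilLift

open TensorProduct Groth.Agent.Lib.Helper7.BCR Groth.Agent.Lib.Helper7.CancelBC SGA3b

universe u

section Iso

variable (R : Type u) [CommRing R] (A : Type u) [CommRing A] [HopfAlgebra R A] (I : Ideal R)
  (hI : ∀ x ∈ I, IsNilpotent x) (h : IsMultType R A)

include hI h in
theorem isIsotrivial_of_mod_nil (h0 : IsIsotrivial (R ⧸ I) ((R ⧸ I) ⊗[R] A)) : IsIsotrivial R A := by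
  obtain ⟨ι, _, c, hT⟩ := exists_family h
  obtain ⟨Q, _, _, het, hfin, hff, M, _, ⟨e⟩⟩ := h0
  let _ : Algebra R Q := ((algebraMap (R ⧸ I) Q).comp (Ideal.Quotient.mk I)).toAlgebra
  have : IsScalarTower R (R ⧸ I) Q := IsScalarTower.of_algebraMap_eq (fun _ => rfl)
  have hsurj : Function.Surjective (algebraMap R (R ⧸ I)) := Ideal.Quotient.mk_surjective
  have hnil : ∀ x ∈ RingHom.ker (algebraMap R (R ⧸ I)), IsNilpotent x := by
    intro x hx
    apply hI
    rw [RingHom.mem_ker] at hx
    exact Ideal.Quotient.eq_zero_iff_mem.1 hx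
  have hQ : IsDiag Q (Q ⊗[R] A) := ⟨M, inferInstance, ⟨(cancelBC R (R ⧸ I) Q A).symm.trans e⟩⟩
  obtain ⟨R', _, _, het', hff', hfin', hd⟩ := exists_lift (R₁ := R ⧸ I) (Q := Q) c hT hsurj hnil hQ
  exact ⟨R', inferInstance, inferInstance, het', hfin' hfin, hff', hd⟩

end Iso

section Quasi

variable (R : Type u) [CommRing R] (I : Ideal R) (hI : ∀ x ∈ I, IsNilpotent x)

include hI in
lemma span_preimage_eq_top (s' : Set (R ⧸ I)) (hs' : Ideal.span s' = ⊤) :
    Ideal.span ((Ideal.Quotient.mk I) ⁻¹' s') = ⊤ := by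
  set J : Ideal R := Ideal.span ((Ideal.Quotient.mk I) ⁻¹' s') with hJ
  have h1 : J.map (Ideal.Quotient.mk I) = ⊤ := by
    rw [hJ, Ideal.map_span, Set.image_preimage_eq _ Ideal.Quotient.mk_surjective, hs']
  have h2 : J ⊔ I = ⊤ := by
    have := Ideal.comap_map_of_surjective (Ideal.Quotient.mk I) Ideal.Quotient.mk_surjective J
    rw [h1, Ideal.comap_top] at this
    rw [this]
    congr 1
    rw [← RingHom.ker_eq_comap_bot, Ideal.mk_ker]
  have h3 : (1 : R) ∈ J ⊔ I := by rw [h2]; trivial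
  obtain ⟨j, hj, i, hi, hji⟩ := Submodule.mem_sup.1 h3
  have hu : IsUnit j := by
    have : j = 1 - i := by rw [← hji]; ring
    rw [this]
    exact (hI i hi).isUnit_one_sub
  exact Ideal.eq_top_of_isUnit_mem _ hj hu

variable (f : R)

lemma awayMap_surjective :
    Function.Surjective (Localization.awayMap (Ideal.Quotient.mk I) f) := by
  intro z
  obtain ⟨x, ⟨_, n, rfl⟩, rfl⟩ := IsLocalization.exists_mk'_eq
    (Submonoid.powers (Ideal.Quotient.mk I f)) z
  obtain ⟨r, rfl⟩ := Ideal.Quotient.mk_surjective x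
  refine ⟨IsLocalization.mk' (Localization.Away f) r
    (⟨f ^ n, n, rfl⟩ : Submonoid.powers f), ?_⟩
  rw [Localization.awayMap, IsLocalization.Away.map, IsLocalization.map_mk']
  congr 1

include hI in
lemma awayMap_ker_nil :
    ∀ x ∈ RingHom.ker (Localization.awayMap (Ideal.Quotient.mk I) f), IsNilpotent x := by
  intro x hx
  obtain ⟨r, ⟨_, n, rfl⟩, rfl⟩ := IsLocalization.exists_mk'_eq (Submonoid.powers f) x
  rw [RingHom.mem_ker, Localization.awayMap, IsLocalization.Away.map, IsLocalization.map_mk',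
    IsLocalization.mk'_eq_zero_iff] at hx
  obtain ⟨⟨_, k, rfl⟩, hk⟩ := hx
  have h1 : f ^ k * r ∈ I := by
    rw [← Ideal.Quotient.eq_zero_iff_mem, map_mul, map_pow]
    exact hk
  obtain ⟨N, hN⟩ := hI _ h1
  refine ⟨N, ?_⟩
  rw [← IsLocalization.mk'_pow, IsLocalization.mk'_eq_zero_iff]
  refine ⟨⟨f ^ (k * N), k * N, rfl⟩, ?_⟩
  change f ^ (k * N) * r ^ N = 0
  rw [pow_mul, ← mul_pow, hN]

end Quasi

section QuasiMain

variable (R : Type u) [CommRing R] (A : Type u) [CommRing A] [HopfAlgebra R A] (I : Ideal R)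
  (hI : ∀ x ∈ I, IsNilpotent x) (h : IsMultType R A)

include hI h in
theorem isQuasiIsotrivial_of_mod_nil (h0 : IsQuasiIsotrivial (R ⧸ I) ((R ⧸ I) ⊗[R] A)) :
    IsQuasiIsotrivial R A := by
  obtain ⟨ι, _, c, hT⟩ := exists_family h
  obtain ⟨s', hs', hs'2⟩ := h0
  refine ⟨(Ideal.Quotient.mk I) ⁻¹' s', span_preimage_eq_top R I hI s' hs', ?_⟩
  intro f hf
  obtain ⟨Q, _, _, het, hff, M, _, ⟨e⟩⟩ := hs'2 (Ideal.Quotient.mk I f) hf
  -- notation
  let g : Localization.Away f →+* Localization.Away (Ideal.Quotient.mk I f) :=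
    Localization.awayMap (Ideal.Quotient.mk I) f
  let _ : Algebra (Localization.Away f) (Localization.Away (Ideal.Quotient.mk I f)) := g.toAlgebra
  let _ : Algebra (Localization.Away f) Q :=
    ((algebraMap (Localization.Away (Ideal.Quotient.mk I f)) Q).comp g).toAlgebra
  have : IsScalarTower (Localization.Away f) (Localization.Away (Ideal.Quotient.mk I f)) Q :=
    IsScalarTower.of_algebraMap_eq (fun _ => rfl)
  let _ : Algebra (R ⧸ I) Q :=
    ((algebraMap (Localization.Away (Ideal.Quotient.mk I f)) Q).comp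
      (algebraMap (R ⧸ I) (Localization.Away (Ideal.Quotient.mk I f)))).toAlgebra
  have : IsScalarTower (R ⧸ I) (Localization.Away (Ideal.Quotient.mk I f)) Q :=
    IsScalarTower.of_algebraMap_eq (fun _ => rfl)
  let _ : Algebra R Q := ((algebraMap (R ⧸ I) Q).comp (Ideal.Quotient.mk I)).toAlgebra
  have : IsScalarTower R (R ⧸ I) Q := IsScalarTower.of_algebraMap_eq (fun _ => rfl)
  have : IsScalarTower R (Localization.Away f) Q := by
    apply IsScalarTower.of_algebraMap_eq
    intro r
    change algebraMap (Localization.Away (Ideal.Quotient.mk I f)) Q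
        (algebraMap (R ⧸ I) _ (Ideal.Quotient.mk I r)) =
      algebraMap (Localization.Away (Ideal.Quotient.mk I f)) Q (g (algebraMap R _ r))
    congr 1
    exact (IsLocalization.map_eq _ r).symm
  have hsurj : Function.Surjective
      (algebraMap (Localization.Away f) (Localization.Away (Ideal.Quotient.mk I f))) :=
    awayMap_surjective R I f
  have hnil : ∀ x ∈ RingHom.ker
      (algebraMap (Localization.Away f) (Localization.Away (Ideal.Quotient.mk I f))),
      IsNilpotent x := awayMap_ker_nil R I hI f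
  obtain ⟨c', hT'⟩ := exists_family_baseChange (Localization.Away f)
    (BialgEquiv.refl (Localization.Away f) (Localization.Away f ⊗[R] A)) c hT
  have hQ : IsDiag Q (Q ⊗[Localization.Away f] (Localization.Away f ⊗[R] A)) :=
    ⟨M, inferInstance, ⟨((cancelBC R (Localization.Away f) Q A).trans
      ((cancelBC R (R ⧸ I) Q A).symm.trans
        (cancelBC (R ⧸ I) (Localization.Away (Ideal.Quotient.mk I f)) Q
          ((R ⧸ I) ⊗[R] A)).symm)).trans e⟩⟩
  obtain ⟨R', _, _, het', hff', -, hd⟩ :=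
    exists_lift (R₁ := Localization.Away (Ideal.Quotient.mk I f)) (Q := Q) c' hT' hsurj hnil hQ
  exact ⟨R', inferInstance, inferInstance, het', hff', hd⟩

end QuasiMain

end Groth.Agent.Lib.Helper7.NilLift
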