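import Mathlib
import Groth.Agent.Lib.Helper7.NilLift8
import Groth.Agent.Lib.Helper7.Deform2
import Groth.Agent.Lib.Helper7.Isotriv

/-!
# Lifting trivialisations of flat group schemes along nilpotent thickenings (helper7)
-/

set_option autoImplicit false

namespace Groth.Agent.Lib.Helper7.Deform

open TensorProduct Groth.Agent.Lib.Helper7.BCR Groth.Agent.Lib.Helper7.CancelBC
  Groth.Agent.Lib.Helper7.NilLift SGA3b

universe u

lemma isNilpotent_of_mem_of_isNilpotent {R : Type*} [CommRing R] {K : Ideal R} (hK : IsNilpotent K)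
    {x : R} (hx : x ∈ K) : IsNilpotent x := by
  obtain ⟨n, hn⟩ := hK
  refine ⟨n, ?_⟩
  have := Ideal.pow_mem_pow hx n
  rwa [hn, Ideal.zero_eq_bot, Ideal.mem_bot] at this

lemma isNilpotent_map_ideal {R S : Type*} [CommRing R] [CommRing S] (f : R →+* S) {K : Ideal R}
    (hK : IsNilpotent K) : IsNilpotent (K.map f) := by
  obtain ⟨n, hn⟩ := hK
  refine ⟨n, ?_⟩
  rw [← Ideal.map_pow, hn, Ideal.zero_eq_bot, Ideal.map_bot]
  rfl

lemma isNilpotent_of_le {R : Type*} [CommRing R] {K K' : Ideal R} (h : K ≤ K')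
    (hK : IsNilpotent K') : IsNilpotent K := by
  obtain ⟨n, hn⟩ := hK
  refine ⟨n, ?_⟩
  have := Ideal.pow_right_mono h n
  rw [hn] at this
  exact le_bot_iff.1 this

section Lift

variable {R₀ : Type u} [CommRing R₀] {R₁ : Type u} [CommRing R₁] [Algebra R₀ R₁]
  {Q : Type u} [CommRing Q] [Algebra R₁ Q] [Algebra R₀ Q] [IsScalarTower R₀ R₁ Q]
  {A₀ : Type u} [CommRing A₀] [HopfAlgebra R₀ A₀] [Module.Flat R₀ A₀]

theorem isDiag_of_lift_flat {R' : Type u} [CommRing R'] [Algebra R₀ R'] (ψ : R' →ₐ[R₀] Q)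
    (hψ : Function.Surjective ψ) (hψnil : IsNilpotent (RingHom.ker ψ))
    (hQ : IsDiag Q (Q ⊗[R₀] A₀)) : IsDiag R' (R' ⊗[R₀] A₀) := by
  let _ : Algebra R' Q := ψ.toRingHom.toAlgebra
  have : IsScalarTower R₀ R' Q := IsScalarTower.of_algebraMap_eq (fun r => (ψ.commutes r).symm)
  obtain ⟨M, _, ⟨e⟩⟩ := hQ
  exact isDiag_of_flat (R := R') (Q := Q) hψ hψnil ((cancelBC R₀ R' Q A₀).trans e)

theorem exists_lift_flat (hsurj : Function.Surjective (algebraMap R₀ R₁))
    (hnil : IsNilpotent (RingHom.ker (algebraMap R₀ R₁)))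
    [Algebra.Etale R₁ Q] [Module.FaithfullyFlat R₁ Q]
    (hQ : IsDiag Q (Q ⊗[R₀] A₀)) :
    ∃ (R' : Type u) (_ : CommRing R') (_ : Algebra R₀ R'), Algebra.Etale R₀ R' ∧
      Module.FaithfullyFlat R₀ R' ∧ (Module.Finite R₁ Q → Module.Finite R₀ R') ∧
      IsDiag R' (R' ⊗[R₀] A₀) := by
  obtain ⟨R', _, _, het, ψ, hψ, hker⟩ := exists_etale_lift' (Q := Q) hsurj
  have hnil' : ∀ x ∈ RingHom.ker (algebraMap R₀ R₁), IsNilpotent x :=
    fun x hx => isNilpotent_of_mem_of_isNilpotent hnil hx
  have hψnil : IsNilpotent (RingHom.ker ψ) := by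
    rw [hker]
    exact isNilpotent_map_ideal _ hnil
  refine ⟨R', inferInstance, inferInstance, het, faithfullyFlat_of_lift ψ hnil' hsurj, ?_,
    isDiag_of_lift_flat ψ hψ hψnil hQ⟩
  intro hfin
  exact finite_of_lift ψ hnil' hsurj hker

end Lift

section Away

variable (R : Type u) [CommRing R] (I : Ideal R) (f : R)

lemma awayMap_ker_le :
    RingHom.ker (Localization.awayMap (Ideal.Quotient.mk I) f) ≤
      I.map (algebraMap R (Localization.Away f)) := by
  intro x hx
  obtain ⟨r, ⟨_, n, rfl⟩, rfl⟩ := IsLocalization.exists_mk'_eq (Submonoid.powers f) x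
  rw [RingHom.mem_ker, Localization.awayMap, IsLocalization.Away.map, IsLocalization.map_mk',
    IsLocalization.mk'_eq_zero_iff] at hx
  obtain ⟨⟨_, k, rfl⟩, hk⟩ := hx
  have h1 : f ^ k * r ∈ I := by
    rw [← Ideal.Quotient.eq_zero_iff_mem, map_mul, map_pow]
    exact hk
  have h2 : IsLocalization.mk' (Localization.Away f) r (⟨f ^ n, n, rfl⟩ : Submonoid.powers f) =
      IsLocalization.mk' (Localization.Away f) (f ^ k * r)
        ((⟨f ^ k, k, rfl⟩ : Submonoid.powers f) * (⟨f ^ n, n, rfl⟩ : Submonoid.powers f)) := by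
    rw [IsLocalization.mk'_eq_iff_eq]
    simp only [Submonoid.coe_mul]
    congr 1
    ring
  rw [h2, IsLocalization.mk'_eq_mul_mk'_one]
  exact Ideal.mul_mem_right _ _ (Ideal.mem_map_of_mem _ h1)

lemma awayMap_ker_isNilpotent (hI : IsNilpotent I) :
    IsNilpotent (RingHom.ker (Localization.awayMap (Ideal.Quotient.mk I) f)) :=
  isNilpotent_of_le (awayMap_ker_le R I f) (isNilpotent_map_ideal _ hI)

end Away


section QuasiMain

variable (R : Type u) [CommRing R] (A : Type u) [CommRing A] [HopfAlgebra R A] [Module.Flat R A]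
  (I : Ideal R) (hI : IsNilpotent I)

include hI in
theorem isQuasiIsotrivial_of_flat_mod_nilpotent
    (h0 : IsQuasiIsotrivial (R ⧸ I) ((R ⧸ I) ⊗[R] A)) : IsQuasiIsotrivial R A := by
  have hI' : ∀ x ∈ I, IsNilpotent x := fun x hx => isNilpotent_of_mem_of_isNilpotent hI hx
  obtain ⟨s', hs', hs'2⟩ := h0
  refine ⟨(Ideal.Quotient.mk I) ⁻¹' s', span_preimage_eq_top R I hI' s' hs', ?_⟩
  intro f hf
  obtain ⟨Q, _, _, het, hff, M, _, ⟨e⟩⟩ := hs'2 (Ideal.Quotient.mk I f) hf
  -- notation
  let g : Localization.Away f →+* Localization.Away (Ideal.Quotient.mk I f) :=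
    Localization.awayMap (Ideal.Quotient.mk I) f
  let _ : Algebra (Localization.Away f) (Localization.Away (Ideal.Quotient.mk I f)) := g.toAlgebra
  let _ : Algebra (Localization.Away f) Q :=
    ((algebraMap (Localization.Away (Ideal.Quotient.mk I f)) Q).comp g).toAlgebra
  have : IsScalarTower (Localization.Away f) (Localization.Away (Ideal.Quotient.mk I f)) Q :=
    IsScalarTower.of_algebraMap_eq (fun _ => rfl)
  let _ : Algebra (R ⧸ I) Q :=
    ((algebraMap (Localization.Away (Ideal.Quotient.mk I f)) Q).comp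
      (algebraMap (R ⧸ I) (Localization.Away (Ideal.Quotient.mk I f)))).toAlgebra
  have : IsScalarTower (R ⧸ I) (Localization.Away (Ideal.Quotient.mk I f)) Q :=
    IsScalarTower.of_algebraMap_eq (fun _ => rfl)
  let _ : Algebra R Q := ((algebraMap (R ⧸ I) Q).comp (Ideal.Quotient.mk I)).toAlgebra
  have : IsScalarTower R (R ⧸ I) Q := IsScalarTower.of_algebraMap_eq (fun _ => rfl)
  have : IsScalarTower R (Localization.Away f) Q := by
    apply IsScalarTower.of_algebraMap_eq
    intro r
    change algebraMap (Localization.Away (Ideal.Quotient.mk I f)) Q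
        (algebraMap (R ⧸ I) _ (Ideal.Quotient.mk I r)) =
      algebraMap (Localization.Away (Ideal.Quotient.mk I f)) Q (g (algebraMap R _ r))
    congr 1
    exact (IsLocalization.map_eq _ r).symm
  have hsurj : Function.Surjective
      (algebraMap (Localization.Away f) (Localization.Away (Ideal.Quotient.mk I f))) :=
    awayMap_surjective R I f
  have hnil : IsNilpotent (RingHom.ker
      (algebraMap (Localization.Away f) (Localization.Away (Ideal.Quotient.mk I f)))) :=
    awayMap_ker_isNilpotent R I f hI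
  have hQ : IsDiag Q (Q ⊗[Localization.Away f] (Localization.Away f ⊗[R] A)) :=
    ⟨M, inferInstance, ⟨((cancelBC R (Localization.Away f) Q A).trans
      ((cancelBC R (R ⧸ I) Q A).symm.trans
        (cancelBC (R ⧸ I) (Localization.Away (Ideal.Quotient.mk I f)) Q
          ((R ⧸ I) ⊗[R] A)).symm)).trans e⟩⟩
  obtain ⟨R', _, _, het', hff', -, hd⟩ :=
    exists_lift_flat (R₁ := Localization.Away (Ideal.Quotient.mk I f)) (Q := Q)
      (A₀ := Localization.Away f ⊗[R] A) hsurj hnil hQ
  exact ⟨R', inferInstance, inferInstance, het', hff', hd⟩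

end QuasiMain


section BC

variable {R : Type u} [CommRing R] {A : Type u} [CommRing A] [HopfAlgebra R A]

/-- Diagonalisability is stable under base change. -/
theorem isDiag_baseChange (S : Type u) [CommRing S] [Algebra R S] (h : IsDiag R A) :
    IsDiag S (S ⊗[R] A) := by
  classical
  obtain ⟨M, _, ⟨e⟩⟩ := h
  have hgl : ∀ m : M, IsGroupLikeElem S ((1 : S) ⊗ₜ[R] e.symm (MonoidAlgebra.single m 1) :
      S ⊗[R] A) := fun m =>
    Groth.Agent.Lib.Helper7.DiagSub.isGroupLikeElem_one_tmul S
      ((MonoidAlgebra.isGroupLikeElem_single_one (R := R) (A := R) m).map e.symm)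
  let γ : M →* GroupLike S (S ⊗[R] A) :=
    { toFun := fun m => ⟨_, hgl m⟩
      map_one' := by
        apply GroupLike.val_injective
        change (1 : S) ⊗ₜ[R] e.symm (1 : MonoidAlgebra R M) = 1
        rw [map_one]
        rfl
      map_mul' := by
        intro m m'
        apply GroupLike.val_injective
        change (1 : S) ⊗ₜ[R] e.symm (MonoidAlgebra.single (m * m') 1) =
          ((1 : S) ⊗ₜ[R] e.symm (MonoidAlgebra.single m 1)) *
            ((1 : S) ⊗ₜ[R] e.symm (MonoidAlgebra.single m' 1))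
        rw [Algebra.TensorProduct.tmul_mul_tmul, mul_one, ← map_mul,
          MonoidAlgebra.single_mul_single, mul_one] }
  set φ : MonoidAlgebra S M →ₐc[S] S ⊗[R] A :=
    (MonoidAlgebra.liftGroupLikeBialgHom (R := S) (A := S ⊗[R] A)).comp
      (MonoidAlgebra.mapDomainBialgHom S γ) with hφ
  have hφs : ∀ (m : M) (r : S), φ (MonoidAlgebra.single m r) =
      r • ((1 : S) ⊗ₜ[R] e.symm (MonoidAlgebra.single m 1)) := by
    intro m r
    simp [hφ, γ]
  have hφeq : ∀ x : MonoidAlgebra S M, φ x =
      (LinearEquiv.lTensor S e.symm.toLinearEquiv)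
        ((MonoidAlgebra.scalarTensorEquiv (M := M) R S).symm x) := by
    intro x
    induction x using MonoidAlgebra.induction_linear with
    | zero => simp
    | add x y hx hy => rw [map_add, hx, hy, map_add, map_add]
    | single m r =>
      rw [hφs, MonoidAlgebra.scalarTensorEquiv_symm_single, LinearEquiv.lTensor_tmul,
        TensorProduct.smul_tmul', smul_eq_mul, mul_one]
      rfl
  have hbij : Function.Bijective φ := by
    have : (φ : MonoidAlgebra S M → S ⊗[R] A) =
        (LinearEquiv.lTensor S e.symm.toLinearEquiv) ∘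
          ((MonoidAlgebra.scalarTensorEquiv (M := M) R S).symm) := by
      funext x
      exact hφeq x
    rw [this]
    exact (LinearEquiv.bijective _).comp (AlgEquiv.bijective _)
  exact ⟨M, inferInstance, ⟨(BialgEquiv.ofBijective φ hbij).symm⟩⟩

/-- Isotrivial groups are of multiplicative type. -/
theorem isMultType_of_isIsotrivial (h : IsIsotrivial R A) : IsMultType R A := by
  obtain ⟨R', _, _, -, -, hff, hd⟩ := h
  refine ⟨{1}, by rw [Ideal.span_singleton_one], ?_⟩
  intro f hf
  rw [Set.mem_singleton_iff] at hf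
  subst hf
  refine ⟨Localization.Away (1 : R) ⊗[R] R', inferInstance, inferInstance, inferInstance, ?_⟩
  let _ : Algebra R' (Localization.Away (1 : R) ⊗[R] R') := Algebra.TensorProduct.rightAlgebra
  have h1 : IsDiag (Localization.Away (1 : R) ⊗[R] R')
      ((Localization.Away (1 : R) ⊗[R] R') ⊗[R'] (R' ⊗[R] A)) := isDiag_baseChange _ hd
  obtain ⟨M, _, ⟨e⟩⟩ := h1
  exact ⟨M, inferInstance, ⟨((cancelBC R (Localization.Away (1 : R))
    (Localization.Away (1 : R) ⊗[R] R') A).trans
      (cancelBC R R' (Localization.Away (1 : R) ⊗[R] R') A).symm).trans e⟩⟩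

end BC


section Artin

variable (A : Type u) [CommRing A] [IsArtinianRing A] [IsLocalRing A]
  (C : Type u) [CommRing C] [HopfAlgebra A C] [Module.Flat A C]

theorem isIsotrivial_of_isArtinian_of_fibre (hft : Algebra.FiniteType A C)
    (h0 : IsMultType (IsLocalRing.ResidueField A) (IsLocalRing.ResidueField A ⊗[A] C)) :
    IsIsotrivial A C := by
  have hft' : Algebra.FiniteType (IsLocalRing.ResidueField A)
      (IsLocalRing.ResidueField A ⊗[A] C) := inferInstance
  obtain ⟨k', _, _, hfin, hsep, hd⟩ :=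
    Groth.Agent.Lib.Helper7.Isotriv.main (IsLocalRing.ResidueField A)
      (IsLocalRing.ResidueField A ⊗[A] C) hft' h0
  let _ : Algebra A k' :=
    ((algebraMap (IsLocalRing.ResidueField A) k').comp
      (algebraMap A (IsLocalRing.ResidueField A))).toAlgebra
  have : IsScalarTower A (IsLocalRing.ResidueField A) k' :=
    IsScalarTower.of_algebraMap_eq (fun _ => rfl)
  have hsurj : Function.Surjective (algebraMap A (IsLocalRing.ResidueField A)) :=
    IsLocalRing.residue_surjective
  have hnil : IsNilpotent (RingHom.ker (algebraMap A (IsLocalRing.ResidueField A))) := by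
    have h1 : RingHom.ker (algebraMap A (IsLocalRing.ResidueField A)) =
        IsLocalRing.maximalIdeal A := IsLocalRing.ker_residue
    rw [h1, ← IsLocalRing.jacobson_eq_maximalIdeal (⊥ : Ideal A) bot_ne_top]
    exact IsArtinianRing.isNilpotent_jacobson_bot
  have het : Algebra.Etale (IsLocalRing.ResidueField A) k' := by
    have h1 : Algebra.FormallyEtale (IsLocalRing.ResidueField A) k' :=
      Algebra.FormallyEtale.of_isSeparable _ _
    have h2 : Algebra.FinitePresentation (IsLocalRing.ResidueField A) k' :=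
      Algebra.FinitePresentation.of_finiteType.1 inferInstance
    exact ⟨h1, h2⟩
  have hQ : IsDiag k' (k' ⊗[A] C) := by
    obtain ⟨M, _, -, ⟨e⟩⟩ := hd
    exact ⟨M, inferInstance, ⟨(cancelBC A (IsLocalRing.ResidueField A) k' C).symm.trans e⟩⟩
  obtain ⟨R', _, _, het', hff', hfin', hd'⟩ :=
    exists_lift_flat (R₀ := A) (R₁ := IsLocalRing.ResidueField A) (Q := k') (A₀ := C)
      hsurj hnil hQ
  exact ⟨R', inferInstance, inferInstance, het', hfin' hfin, hff', hd'⟩

end Artin

end Groth.Agent.Lib.Helper7.Deform
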