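import Mathlib
import Groth.Agent.Lib.Helper7.NilLift1
import Groth.Agent.Lib.Helper4.HenselPairK

/-!
# Group-like elements modulo an ideal in the Jacobson radical with idempotent lifting (helper7)
-/

set_option autoImplicit false

namespace Groth.Agent.Lib.Helper7.HensGL

open TensorProduct Groth.Agent.Lib.Helper7.NilLift

section Basis

variable {S : Type*} [CommRing S] {H : Type*} [AddCommGroup H] [Module S H] [Coalgebra S H]
  {P : Type*} (b : Module.Basis P S H) (hb : ∀ p, IsGroupLikeElem S (b p))
include hb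

/-- uniqueness of group-like elements modulo an ideal contained in the Jacobson radical. -/
theorem eq_of_sub_mem {J : Ideal S} (hJ : J ≤ Ideal.jacobson ⊥) {z z' : H}
    (hz : IsGroupLikeElem S z) (hz' : IsGroupLikeElem S z')
    (h : z - z' ∈ J • (⊤ : Submodule S H)) : z = z' := by
  apply b.ext_elem
  intro p
  have h1 : b.repr z p - b.repr z' p ∈ J := by
    have := mem_of_mem_smul_top (b.coord p) J h
    rwa [map_sub] at this
  exact Groth.Agent.Lib.Helper4.HenselPair.idempotent_eq_of_sub_mem_jacobson _ _
    (repr_mul_self b hb hz p) (repr_mul_self b hb hz' p) (hJ h1)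

/-- existence of group-like lifts modulo an ideal in the Jacobson radical along which idempotents
lift. -/
theorem exists_isGroupLikeElem_sub_mem {J : Ideal S} (hJ : J ≤ Ideal.jacobson ⊥)
    (hlift : ∀ x : S, x * x - x ∈ J → ∃ e : S, IsIdempotentElem e ∧ e - x ∈ J) (z₀ : H)
    (h1 : Coalgebra.counit (R := S) z₀ - 1 ∈ J)
    (h2 : Coalgebra.comul (R := S) z₀ - z₀ ⊗ₜ[S] z₀ ∈ J • (⊤ : Submodule S (H ⊗[S] H))) :
    ∃ z : H, IsGroupLikeElem S z ∧ z - z₀ ∈ J • (⊤ : Submodule S H) := by
  classical
  set F := (b.repr z₀).support with hF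
  set x : P → S := fun p => b.repr z₀ p with hx
  have hxx : ∀ p q, (if p = q then x p else 0) - x p * x q ∈ J := by
    intro p q
    have := mem_of_mem_smul_top (ff b p q) J h2
    rwa [map_sub, ff_comul b hb, ff_tmul] at this
  have hex : ∀ p : P, ∃ e : S, IsIdempotentElem e ∧ e - x p ∈ J := by
    intro p
    apply hlift
    have := hxx p p
    rw [if_pos rfl] at this
    have h3 : x p * x p - x p = -(x p - x p * x p) := by ring
    rw [h3]
    exact J.neg_mem this
  choose e he hex' using hex
  have hzero : ∀ y : S, IsIdempotentElem y → y ∈ J → y = 0 := fun y hy hyJ =>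
    Groth.Agent.Lib.Helper4.HenselPair.idempotent_eq_of_sub_mem_jacobson y 0 hy
      IsIdempotentElem.zero (by rw [sub_zero]; exact hJ hyJ)
  have hortho : ∀ p q : P, p ≠ q → e p * e q = 0 := by
    intro p q hpq
    apply hzero _ ((he p).mul (he q))
    have h3 := hxx p q
    rw [if_neg hpq, zero_sub, neg_mem_iff] at h3
    have : e p * e q = (e p - x p) * e q + x p * (e q - x q) + x p * x q := by ring
    rw [this]
    exact J.add_mem (J.add_mem (J.mul_mem_right _ (hex' p)) (J.mul_mem_left _ (hex' q))) h3
  have hcoi : CompleteOrthogonalIdempotents (fun p : F => e p) := by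
    have hoi : OrthogonalIdempotents (fun p : F => e p) :=
      ⟨fun p => he p, fun p q hpq => hortho p q (fun h => hpq (Subtype.ext h))⟩
    refine ⟨hoi, ?_⟩
    have hid : IsIdempotentElem (∑ p : F, e p) := hoi.isIdempotentElem_sum
    have h3 : IsIdempotentElem (1 - ∑ p : F, e p) := hid.one_sub
    have h4 : 1 - ∑ p : F, e p ∈ J := by
      have h5 : ∑ p ∈ F, x p = Coalgebra.counit (R := S) z₀ := (counit_eq_sum b hb z₀).symm
      have h6 : (1 : S) - ∑ p : F, e p =
          -(Coalgebra.counit (R := S) z₀ - 1) - ∑ p : F, (e p - x p) := by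
        rw [Finset.sum_sub_distrib, Finset.sum_coe_sort F x, h5]
        ring
      rw [h6]
      exact J.sub_mem (J.neg_mem h1) (J.sum_mem fun p _ => hex' p)
    have := hzero _ h3 h4
    exact (sub_eq_zero.1 this).symm
  refine ⟨∑ p : F, e p • b p, isGroupLikeElem_sum _ hcoi _ (fun p => hb p), ?_⟩
  have hz₀ : z₀ = ∑ p : F, x p • b p := by
    conv_lhs => rw [← b.linearCombination_repr z₀, Finsupp.linearCombination_apply, Finsupp.sum]
    exact (Finset.sum_coe_sort F (fun p => x p • b p)).symm
  have key : ∑ p : F, e p • b p - z₀ = ∑ p : F, (e p - x p) • b p := by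
    conv_lhs => rw [hz₀]
    rw [← Finset.sum_sub_distrib]
    refine Finset.sum_congr rfl fun p _ => ?_
    rw [sub_smul]
  rw [key]
  refine Submodule.sum_mem _ fun p _ => ?_
  exact Submodule.smul_mem_smul (hex' p) Submodule.mem_top

end Basis

end Groth.Agent.Lib.Helper7.HensGL
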