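import Mathlib
import Groth.Agent.Lib.Helper7.HensGL1
import Groth.Agent.Lib.Helper7.NilLift5

/-!
# Homomorphisms between diagonalisable groups over a "henselian" quotient (helper7)
-/

set_option autoImplicit false

namespace Groth.Agent.Lib.Helper7.HensGL

open TensorProduct Groth.Agent.Lib.Helper7.NilLift

universe u

section Main

variable {S : Type u} [CommRing S] {Sb : Type u} [CommRing Sb] [Algebra S Sb]
  (hsurj : Function.Surjective (algebraMap S Sb))
  (hK : RingHom.ker (algebraMap S Sb) ≤ Ideal.jacobson ⊥)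
  {B' : Type u} [CommRing B'] [HopfAlgebra S B'] {C' : Type u} [CommRing C'] [HopfAlgebra S C']
  {M : Type u} [CommGroup M] {N : Type u} [CommGroup N]
  (eB : B' ≃ₐc[S] MonoidAlgebra S M) (eC : C' ≃ₐc[S] MonoidAlgebra S N)

/-- the basis of group-likes of a diagonalised Hopf algebra. -/
noncomputable def glBasis : Module.Basis M S B' :=
  (MonoidAlgebra.basis M S).map eB.symm.toLinearEquiv

lemma glBasis_apply (m : M) : glBasis eB m = eB.symm (MonoidAlgebra.single m 1) := by
  rw [glBasis, Module.Basis.map_apply, MonoidAlgebra.basis_apply]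
  rfl

lemma isGroupLikeElem_glBasis (m : M) : IsGroupLikeElem S (glBasis eB m) := by
  rw [glBasis_apply]
  exact (MonoidAlgebra.isGroupLikeElem_single_one (R := S) (A := S) m).map eB.symm

lemma isGroupLikeElem_symm_single (n : N) :
    IsGroupLikeElem S (eC.symm (MonoidAlgebra.single n 1)) :=
  (MonoidAlgebra.isGroupLikeElem_single_one (R := S) (A := S) n).map eC.symm

include hsurj hK eB in
/-- a group-like element of `B'` is determined by its image in `Sb ⊗ B'`. -/
lemma groupLike_eq_of_one_tmul_eq {g g' : B'} (hg : IsGroupLikeElem S g)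
    (hg' : IsGroupLikeElem S g') (h : (1 : Sb) ⊗ₜ[S] g = (1 : Sb) ⊗ₜ[S] g') : g = g' := by
  apply eq_of_sub_mem (glBasis eB) (isGroupLikeElem_glBasis eB) hK hg hg'
  apply mem_smul_top_of_one_tmul_eq_zero' hsurj
  rw [TensorProduct.tmul_sub, h, sub_self]

include hsurj hK eB eC in
/-- rigidity of homomorphisms. -/
theorem bialgHom_eq_of_one_tmul_eq (Φ Ψ : C' →ₐc[S] B')
    (h : ∀ c, (1 : Sb) ⊗ₜ[S] Φ c = (1 : Sb) ⊗ₜ[S] Ψ c) : Φ = Ψ := by
  ext c
  have hc : c = eC.symm (eC c) := (BialgEquiv.symm_apply_apply eC c).symm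
  rw [hc]
  generalize eC c = x
  induction x using MonoidAlgebra.induction_linear with
  | zero => simp
  | add x y hx hy => rw [map_add, map_add, map_add, hx, hy]
  | single n s =>
    have h1 : MonoidAlgebra.single n s = s • MonoidAlgebra.single n (1 : S) := by
      rw [MonoidAlgebra.smul_single, smul_eq_mul, mul_one]
    rw [h1, map_smul, map_smul, map_smul]
    congr 1
    exact groupLike_eq_of_one_tmul_eq hsurj hK eB
      ((isGroupLikeElem_symm_single eC n).map Φ) ((isGroupLikeElem_symm_single eC n).map Ψ) (h _)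

include hsurj hK eB eC in
/-- lifting of homomorphisms. -/
theorem exists_bialgHom_lift
    (hlift : ∀ x : S, x * x - x ∈ RingHom.ker (algebraMap S Sb) →
      ∃ e : S, IsIdempotentElem e ∧ e - x ∈ RingHom.ker (algebraMap S Sb))
    (Φb : Sb ⊗[S] C' →ₐc[Sb] Sb ⊗[S] B') :
    ∃ Φ' : C' →ₐc[S] B', ∀ c, Φb ((1 : Sb) ⊗ₜ[S] c) = (1 : Sb) ⊗ₜ[S] Φ' c := by
  classical
  have hsurj0 : ∀ y : Sb ⊗[S] B', ∃ a : B', (1 : Sb) ⊗ₜ[S] a = y := by
    intro y
    induction y using TensorProduct.induction_on with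
    | zero => exact ⟨0, TensorProduct.tmul_zero _ _⟩
    | add x y hx hy =>
      obtain ⟨a, rfl⟩ := hx
      obtain ⟨a', rfl⟩ := hy
      exact ⟨a + a', TensorProduct.tmul_add _ _ _⟩
    | tmul r a =>
      obtain ⟨r, rfl⟩ := hsurj r
      refine ⟨r • a, ?_⟩
      rw [TensorProduct.tmul_smul, TensorProduct.smul_tmul']
      congr 1
      rw [Algebra.smul_def, mul_one]
  set cn : N → C' := fun n => eC.symm (MonoidAlgebra.single n 1) with hcn
  have hcngl : ∀ n, IsGroupLikeElem S (cn n) := isGroupLikeElem_symm_single eC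
  set gb : N → Sb ⊗[S] B' := fun n => Φb ((1 : Sb) ⊗ₜ[S] cn n) with hgb
  have hgbl : ∀ n, IsGroupLikeElem Sb (gb n) := fun n =>
    (Groth.Agent.Lib.Helper7.DiagSub.isGroupLikeElem_one_tmul Sb (hcngl n)).map Φb
  have hex : ∀ n, ∃ g : B', IsGroupLikeElem S g ∧ (1 : Sb) ⊗ₜ[S] g = gb n := by
    intro n
    obtain ⟨a₀, ha₀⟩ := hsurj0 (gb n)
    have h1 := hgbl n
    rw [← ha₀, isGroupLikeElem_one_tmul_iff] at h1
    obtain ⟨g, hg, hg'⟩ := exists_isGroupLikeElem_sub_mem (glBasis eB) (isGroupLikeElem_glBasis eB)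
      hK hlift a₀ (RingHom.mem_ker.2 h1.1) (mem_smul_top_of_one_tmul_eq_zero' hsurj h1.2)
    refine ⟨g, hg, ?_⟩
    have h2 := one_tmul_eq_zero_of_mem_smul_top' (Q := Sb) hg'
    rw [TensorProduct.tmul_sub, sub_eq_zero] at h2
    rw [h2, ha₀]
  choose g hg hg1 using hex
  let γ : N →* GroupLike S B' :=
    { toFun := fun n => ⟨g n, hg n⟩
      map_one' := by
        apply GroupLike.val_injective
        apply groupLike_eq_of_one_tmul_eq hsurj hK eB (hg 1) IsGroupLikeElem.one
        change (1 : Sb) ⊗ₜ[S] g 1 = (1 : Sb) ⊗ₜ[S] (1 : B')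
        rw [hg1 1, hgb, hcn]
        simp only
        have : eC.symm (MonoidAlgebra.single (1 : N) (1 : S)) = 1 := by
          change eC.symm (1 : MonoidAlgebra S N) = 1
          exact map_one _
        rw [this]
        exact map_one Φb
      map_mul' := by
        intro n n'
        apply GroupLike.val_injective
        apply groupLike_eq_of_one_tmul_eq hsurj hK eB (hg (n * n')) ((hg n).mul (hg n'))
        have h1 : (1 : Sb) ⊗ₜ[S] (g n * g n') =
            ((1 : Sb) ⊗ₜ[S] g n) * ((1 : Sb) ⊗ₜ[S] g n') := by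
          rw [Algebra.TensorProduct.tmul_mul_tmul, mul_one]
        change (1 : Sb) ⊗ₜ[S] g (n * n') = (1 : Sb) ⊗ₜ[S] (g n * g n')
        rw [h1, hg1, hg1, hg1, hgb]
        simp only
        rw [← map_mul, Algebra.TensorProduct.tmul_mul_tmul, mul_one, hcn]
        simp only
        rw [← map_mul, MonoidAlgebra.single_mul_single, mul_one] }
  set φ : MonoidAlgebra S N →ₐc[S] B' :=
    (MonoidAlgebra.liftGroupLikeBialgHom (R := S) (A := B')).comp
      (MonoidAlgebra.mapDomainBialgHom S γ) with hφ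
  have hφs : ∀ (n : N) (r : S), φ (MonoidAlgebra.single n r) = r • g n := by
    intro n r
    simp [hφ, γ]
  refine ⟨φ.comp (eC : C' →ₐc[S] MonoidAlgebra S N), ?_⟩
  intro c
  have hc : c = eC.symm (eC c) := (BialgEquiv.symm_apply_apply eC c).symm
  change Φb ((1 : Sb) ⊗ₜ[S] c) = (1 : Sb) ⊗ₜ[S] φ (eC c)
  rw [hc, BialgEquiv.apply_symm_apply]
  generalize eC c = x
  induction x using MonoidAlgebra.induction_linear with
  | zero => simp
  | add x y hx hy => rw [map_add, TensorProduct.tmul_add, map_add, hx, hy, map_add,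
      TensorProduct.tmul_add]
  | single n s =>
    have h1 : MonoidAlgebra.single n s = s • MonoidAlgebra.single n (1 : S) := by
      rw [MonoidAlgebra.smul_single, smul_eq_mul, mul_one]
    rw [hφs, h1, map_smul, TensorProduct.tmul_smul, TensorProduct.tmul_smul,
      ← algebraMap_smul Sb s ((1 : Sb) ⊗ₜ[S] eC.symm (MonoidAlgebra.single n (1 : S))), map_smul,
      algebraMap_smul, hg1]

end Main

end Groth.Agent.Lib.Helper7.HensGL
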