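import Groth.Prelude.Def_HopfRep
import Groth.Prelude.Def_Hoch
import Mathlib.LinearAlgebra.TensorProduct.Basis
import Mathlib.LinearAlgebra.FreeModule.Basic
import Mathlib.LinearAlgebra.Basis.VectorSpace
import Mathlib.LinearAlgebra.FiniteDimensional.Defs
import Mathlib.RingTheory.Flat.Basic
import Mathlib.LinearAlgebra.Eigenspace.Triangularizable

/-!
# Comodules over a coalgebra (helper7 toolbox)

Basic theory for `HopfRep.Comod`, `HopfRep.IsSubcomod`, `Hoch.IsComodHom`.
-/

universe u v w w'

open TensorProduct

namespace Groth.Agent.Lib.Helper7.Comod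

open HopfRep

section Basic

variable {k : Type u} {A : Type v} [CommRing k] [AddCommGroup A] [Module k A] [Coalgebra k A]
variable {V : Type w} [AddCommGroup V] [Module k V] [Comod k A V]

/-- The coaction, with explicit coalgebra. -/
abbrev μ (k : Type u) (A : Type v) [CommRing k] [AddCommGroup A] [Module k A] [Coalgebra k A]
    (V : Type w) [AddCommGroup V] [Module k V] [Comod k A V] : V →ₗ[k] V ⊗[k] A :=
  Comod.coact (k := k) (A := A)

lemma isSubcomod_iff {W : Submodule k V} :
    IsSubcomod (k := k) (A := A) W ↔ ∀ w ∈ W, μ k A V w ∈ LinearMap.range (W.subtype.rTensor A) :=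
  Iff.rfl

lemma isSubcomod_bot : IsSubcomod (k := k) (A := A) (⊥ : Submodule k V) := by
  intro w hw
  rw [Submodule.mem_bot] at hw
  subst hw
  simp

omit [Coalgebra k A] [Comod k A V] in
lemma range_rTensor_mono {W W' : Submodule k V} (h : W ≤ W') :
    LinearMap.range (W.subtype.rTensor A) ≤ LinearMap.range (W'.subtype.rTensor A) := by
  rintro _ ⟨x, rfl⟩
  refine ⟨(Submodule.inclusion h).rTensor A x, ?_⟩
  rw [← LinearMap.comp_apply, ← LinearMap.rTensor_comp]
  rfl

omit [Coalgebra k A] [Comod k A V] in
lemma tmul_mem_range_rTensor {W : Submodule k V} {w : V} (hw : w ∈ W) (a : A) :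
    w ⊗ₜ[k] a ∈ LinearMap.range (W.subtype.rTensor A) :=
  ⟨(⟨w, hw⟩ : W) ⊗ₜ a, by simp⟩

lemma isSubcomod_top : IsSubcomod (k := k) (A := A) (⊤ : Submodule k V) := by
  intro w _
  induction μ k A V w using TensorProduct.induction_on with
  | zero => exact Submodule.zero_mem _
  | tmul x y => exact tmul_mem_range_rTensor Submodule.mem_top y
  | add x y hx hy => exact Submodule.add_mem _ hx hy

/-- To check that a span is a subcomodule it suffices to check generators. -/
lemma isSubcomod_span {s : Set V}
    (h : ∀ x ∈ s, μ k A V x ∈ LinearMap.range ((Submodule.span k s).subtype.rTensor A)) :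
    IsSubcomod (k := k) (A := A) (Submodule.span k s) := by
  intro w hw
  induction hw using Submodule.span_induction with
  | mem x hx => exact h x hx
  | zero => simp
  | add x y _ _ hx hy => rw [map_add]; exact Submodule.add_mem _ hx hy
  | smul c x _ hx => rw [map_smul]; exact Submodule.smul_mem _ c hx

lemma isSubcomod_iSup {ι : Sort*} {W : ι → Submodule k V}
    (h : ∀ i, IsSubcomod (k := k) (A := A) (W i)) : IsSubcomod (k := k) (A := A) (⨆ i, W i) := by
  intro w hw
  induction hw using Submodule.iSup_induction' with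
  | mem i x hx => exact range_rTensor_mono (le_iSup W i) (h i x hx)
  | zero => simp
  | add x y _ _ hx hy => rw [map_add]; exact Submodule.add_mem _ hx hy

lemma isSubcomod_sup {W W' : Submodule k V} (h : IsSubcomod (k := k) (A := A) W)
    (h' : IsSubcomod (k := k) (A := A) W') : IsSubcomod (k := k) (A := A) (W ⊔ W') := by
  rw [sup_eq_iSup]
  exact isSubcomod_iSup fun b => by cases b <;> assumption

lemma isSubcomod_sSup {S : Set (Submodule k V)}
    (h : ∀ W ∈ S, IsSubcomod (k := k) (A := A) W) : IsSubcomod (k := k) (A := A) (sSup S) := by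
  rw [sSup_eq_iSup']
  exact isSubcomod_iSup fun W => h W.1 W.2

end Basic

section Field

variable {k : Type u} {C : Type v} [Field k] [AddCommGroup C] [Module k C] [Coalgebra k C]
variable {V : Type w} [AddCommGroup V] [Module k V] [Comod k C V]

/-- The map `V ⊗ (C ⊗ C) → V ⊗ C` contracting the last factor against a functional. -/
noncomputable def contractLast (V : Type w) [AddCommGroup V] [Module k V] (f : C →ₗ[k] k) :
    V ⊗[k] (C ⊗[k] C) →ₗ[k] V ⊗[k] C :=
  LinearMap.lTensor V ((TensorProduct.rid k C).toLinearMap ∘ₗ LinearMap.lTensor C f)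

omit [Coalgebra k C] in
lemma contractLast_assoc_tmul (f : C →ₗ[k] k) (y : V ⊗[k] C) (c : C) :
    contractLast V f ((TensorProduct.assoc k V C C) (y ⊗ₜ[k] c)) = f c • y := by
  induction y using TensorProduct.induction_on with
  | zero => simp
  | tmul w a => simp [contractLast, TensorProduct.smul_tmul', TensorProduct.tmul_smul]
  | add x y hx hy => rw [TensorProduct.add_tmul, map_add, map_add, hx, hy, smul_add]

omit [Coalgebra k C] in
lemma contractLast_tmul_mem {W : Submodule k V} (f : C →ₗ[k] k) {w : V} (hw : w ∈ W)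
    (d : C ⊗[k] C) :
    contractLast V f (w ⊗ₜ[k] d) ∈ LinearMap.range (W.subtype.rTensor C) := by
  simp only [contractLast, LinearMap.lTensor_tmul]
  exact tmul_mem_range_rTensor hw _

/-- Local finiteness: the span of the "left coefficients" of `μ v` w.r.t. a basis of `C` is a
finite-dimensional subcomodule containing `v`. (S7952) -/
theorem exists_finite_subcomod_mem (v : V) :
    ∃ W : Submodule k V, Module.Finite k W ∧ v ∈ W ∧ IsSubcomod (k := k) (A := C) W := by
  classical
  let b := Module.Basis.ofVectorSpace k C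
  obtain ⟨c, hc⟩ := TensorProduct.eq_repr_basis_right b (μ k C V v)
  refine ⟨Submodule.span k (Set.range c), ?_, ?_, ?_⟩
  · have : (Set.range c).Finite := by
      refine Set.Finite.subset (s := insert 0 (c '' (c.support : Set _))) ?_ ?_
      · exact (c.support.finite_toSet.image c).insert 0
      · rintro _ ⟨i, rfl⟩
        by_cases hi : c i = 0
        · exact Or.inl hi
        · exact Or.inr ⟨i, Finsupp.mem_support_iff.2 hi, rfl⟩
    exact Module.Finite.span_of_finite k this
  · -- `v = Σ ε(b i) • c i`
    have h1 : (TensorProduct.rid k V) (LinearMap.lTensor V (CoalgebraStruct.counit (R := k) (A := C))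
        (μ k C V v)) = v := by
      have := LinearMap.congr_fun (Comod.counit_comp (k := k) (A := C) (V := V)) v
      simp only [LinearMap.comp_apply] at this
      rw [this]
      simp
    rw [← h1, ← hc, Finsupp.sum, map_sum, map_sum]
    refine Submodule.sum_mem _ fun i _ => ?_
    simp only [LinearMap.lTensor_tmul, TensorProduct.rid_tmul]
    exact Submodule.smul_mem _ _ (Submodule.subset_span ⟨i, rfl⟩)
  · apply isSubcomod_span
    rintro _ ⟨l, rfl⟩
    have hco := LinearMap.congr_fun (Comod.coassoc (k := k) (A := C) (V := V)) v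
    simp only [LinearMap.comp_apply, LinearEquiv.coe_coe] at hco
    have h2 := congrArg (contractLast V (b.coord l)) hco
    -- left side is `μ (c l)`
    have hL : contractLast V (b.coord l)
        ((TensorProduct.assoc k V C C) ((μ k C V).rTensor C (μ k C V v))) = μ k C V (c l) := by
      rw [← hc, Finsupp.sum, map_sum, map_sum, map_sum]
      simp only [LinearMap.rTensor_tmul, contractLast_assoc_tmul, Module.Basis.coord_apply,
        Module.Basis.repr_self]
      rw [Finset.sum_eq_single l]
      · simp
      · intro i _ hil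
        rw [Finsupp.single_eq_of_ne hil.symm, zero_smul]
      · intro hl
        rw [Finsupp.notMem_support_iff.1 hl]
        simp
    rw [hL] at h2
    rw [h2, ← hc, Finsupp.sum, map_sum, map_sum]
    refine Submodule.sum_mem _ fun i _ => ?_
    simp only [LinearMap.lTensor_tmul]
    exact contractLast_tmul_mem (W := Submodule.span k (Set.range c)) _
      (Submodule.subset_span ⟨i, rfl⟩) _

end Field

section Hom

variable {k : Type u} {A : Type v} [CommRing k] [AddCommGroup A] [Module k A] [Coalgebra k A]
variable {V : Type w} [AddCommGroup V] [Module k V] [Comod k A V]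
variable {W : Type w'} [AddCommGroup W] [Module k W] [Comod k A W]

lemma isComodHom_iff {f : V →ₗ[k] W} :
    Hoch.IsComodHom A f ↔ ∀ v, μ k A W (f v) = f.rTensor A (μ k A V v) := by
  constructor
  · intro h v
    exact LinearMap.congr_fun h v
  · intro h
    exact LinearMap.ext h

lemma isComodHom_apply {f : V →ₗ[k] W} (hf : Hoch.IsComodHom A f) (v : V) :
    μ k A W (f v) = f.rTensor A (μ k A V v) := isComodHom_iff.1 hf v

lemma isComodHom_zero : Hoch.IsComodHom A (0 : V →ₗ[k] W) := by
  rw [isComodHom_iff]; intro v; simp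

lemma isComodHom_id : Hoch.IsComodHom A (LinearMap.id : V →ₗ[k] V) := by
  rw [isComodHom_iff]; intro v; simp

lemma isComodHom_add {f g : V →ₗ[k] W} (hf : Hoch.IsComodHom A f) (hg : Hoch.IsComodHom A g) :
    Hoch.IsComodHom A (f + g) := by
  rw [isComodHom_iff] at *
  intro v
  rw [LinearMap.add_apply, map_add, hf, hg, LinearMap.rTensor_add, LinearMap.add_apply]

lemma isComodHom_smul {f : V →ₗ[k] W} (hf : Hoch.IsComodHom A f) (a : k) :
    Hoch.IsComodHom A (a • f) := by
  rw [isComodHom_iff] at *
  intro v
  rw [LinearMap.smul_apply, map_smul, hf, LinearMap.rTensor_smul, LinearMap.smul_apply]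

lemma isComodHom_neg {f : V →ₗ[k] W} (hf : Hoch.IsComodHom A f) : Hoch.IsComodHom A (-f) := by
  have := isComodHom_smul hf (-1 : k)
  simpa using this

lemma isComodHom_sub {f g : V →ₗ[k] W} (hf : Hoch.IsComodHom A f) (hg : Hoch.IsComodHom A g) :
    Hoch.IsComodHom A (f - g) := by
  rw [sub_eq_add_neg]; exact isComodHom_add hf (isComodHom_neg hg)

lemma isComodHom_comp {U : Type*} [AddCommGroup U] [Module k U] [Comod k A U]
    {g : W →ₗ[k] U} {f : V →ₗ[k] W} (hg : Hoch.IsComodHom A g) (hf : Hoch.IsComodHom A f) :
    Hoch.IsComodHom A (g ∘ₗ f) := by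
  rw [isComodHom_iff] at *
  intro v
  rw [LinearMap.comp_apply, hg, hf, LinearMap.rTensor_comp, LinearMap.comp_apply]

/-- The range of a comodule map is a subcomodule. -/
lemma isSubcomod_range {f : V →ₗ[k] W} (hf : Hoch.IsComodHom A f) :
    IsSubcomod (k := k) (A := A) (LinearMap.range f) := by
  rintro _ ⟨v, rfl⟩
  rw [isComodHom_apply hf]
  refine ⟨f.rangeRestrict.rTensor A (μ k A V v), ?_⟩
  rw [← LinearMap.comp_apply, ← LinearMap.rTensor_comp]
  rfl

/-- The image of a subcomodule under a comodule map is a subcomodule. -/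
lemma isSubcomod_map {f : V →ₗ[k] W} (hf : Hoch.IsComodHom A f) {U : Submodule k V}
    (hU : IsSubcomod (k := k) (A := A) U) : IsSubcomod (k := k) (A := A) (U.map f) := by
  rintro _ ⟨v, hv, rfl⟩
  rw [isComodHom_apply hf]
  obtain ⟨x, hx⟩ := hU v hv
  rw [← hx]
  let g : U →ₗ[k] U.map f := (f.domRestrict U).codRestrict (U.map f) fun u => ⟨u.1, u.2, rfl⟩
  refine ⟨g.rTensor A x, ?_⟩
  rw [← LinearMap.comp_apply, ← LinearMap.rTensor_comp, ← LinearMap.comp_apply,
    ← LinearMap.rTensor_comp]
  rfl

/-- The kernel of a comodule map is a subcomodule (flat coalgebra). -/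
lemma isSubcomod_ker [Module.Flat k A] {f : V →ₗ[k] W} (hf : Hoch.IsComodHom A f) :
    IsSubcomod (k := k) (A := A) (LinearMap.ker f) := by
  intro v hv
  have hex := Module.Flat.rTensor_exact A (LinearMap.exact_subtype_ker_map f)
  refine (hex _).1 ?_
  rw [← isComodHom_apply hf, LinearMap.mem_ker.1 hv, map_zero]

end Hom

section Simple

variable {k : Type u} {C : Type v} [Field k] [AddCommGroup C] [Module k C] [Coalgebra k C]
variable {V : Type w} [AddCommGroup V] [Module k V] [Comod k C V]
variable {W : Type w'} [AddCommGroup W] [Module k W] [Comod k C W]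

/-- S7953: simple comodules over a field are finite-dimensional. -/
theorem finite_of_isSimpleComod (hV : IsSimpleComod k C V) : Module.Finite k V := by
  obtain ⟨hnt, hs⟩ := hV
  obtain ⟨v, hv⟩ := exists_ne (0 : V)
  obtain ⟨U, hfin, hvU, hU⟩ := exists_finite_subcomod_mem (k := k) (C := C) v
  rcases hs U hU with h | h
  · exact absurd (by rw [h] at hvU; exact (Submodule.mem_bot k).1 hvU) hv
  · rw [h] at hfin
    exact Module.Finite.of_surjective (Submodule.subtype (⊤ : Submodule k V))
      (fun x => ⟨⟨x, trivial⟩, rfl⟩)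

/-- S18815: Schur's lemma, first form. -/
theorem eq_zero_or_bijective_of_isComodHom (hV : IsSimpleComod k C V) (hW : IsSimpleComod k C W)
    (f : V →ₗ[k] W) (hf : Hoch.IsComodHom C f) : f = 0 ∨ Function.Bijective f := by
  rcases hV.2 _ (isSubcomod_ker hf) with h | h
  · rcases hW.2 _ (isSubcomod_range hf) with h' | h'
    · left
      exact LinearMap.range_eq_bot.1 h'
    · right
      exact ⟨LinearMap.ker_eq_bot.1 h, LinearMap.range_eq_top.1 h'⟩
  · left
    exact LinearMap.ker_eq_top.1 h

/-- S7954: Schur's lemma over an algebraically closed field. -/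
theorem exists_smul_eq_of_isComodHom [IsAlgClosed k] (hV : IsSimpleComod k C V) (α : V →ₗ[k] V)
    (hα : Hoch.IsComodHom C α) : ∃ a : k, α = a • LinearMap.id := by
  have hfin := finite_of_isSimpleComod hV
  have hnt := hV.1
  obtain ⟨a, ha⟩ := Module.End.exists_eigenvalue α
  refine ⟨a, ?_⟩
  have hβ : Hoch.IsComodHom C (α - a • LinearMap.id) :=
    isComodHom_sub hα (isComodHom_smul isComodHom_id a)
  rcases hV.2 _ (isSubcomod_ker hβ) with h | h
  · exfalso
    obtain ⟨v, hv⟩ := ha.exists_hasEigenvector
    have : v ∈ LinearMap.ker (α - a • LinearMap.id) := by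
      rw [LinearMap.mem_ker, LinearMap.sub_apply, LinearMap.smul_apply, LinearMap.id_apply,
        hv.apply_eq_smul, sub_self]
    rw [h, Submodule.mem_bot] at this
    exact hv.2 this
  · exact sub_eq_zero.1 (LinearMap.ker_eq_top.1 h)

end Simple

end Groth.Agent.Lib.Helper7.Comod
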