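import Mathlib
import Groth.Prelude.Def_HopfRep
import Groth.Agent.Lib.Helper7.Comod

set_option autoImplicit false

namespace Groth.Agent.Lib.Helper7.SubDesc

open TensorProduct HopfRep

universe u
variable {A : Type u} [CommRing A] {C : Type u} [AddCommGroup C] [Module A C]
variable {V : Type u} [AddCommGroup V] [Module A V]
variable {A' : Type u} [CommRing A'] [Algebra A A']

/-- contraction `V ⊗ C → A' ⊗ V`, `v ⊗ c ↦ ψ c ⊗ v` -/
noncomputable def ctrB (ψ : C →ₗ[A] A') : V ⊗[A] C →ₗ[A] A' ⊗[A] V :=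
  (TensorProduct.comm A V A').toLinearMap ∘ₗ LinearMap.lTensor V ψ

@[simp] lemma ctrB_tmul (ψ : C →ₗ[A] A') (v : V) (c : C) :
    ctrB ψ (v ⊗ₜ[A] c) = ψ c ⊗ₜ[A] v := by
  simp [ctrB]

/-- dual family for the projective `A'`-module `A' ⊗ C` -/
lemma exists_dual_family [Module.Projective A' (A' ⊗[A] C)] :
    ∃ ψ : A' ⊗[A] C → (C →ₗ[A] A'), ∀ c : C, ∃ S : Finset (A' ⊗[A] C),
      (∀ c' ∉ S, ψ c' c = 0) ∧ (1 : A') ⊗ₜ[A] c = ∑ c' ∈ S, ψ c' c • c' := by
  classical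
  obtain ⟨s, hs⟩ := Module.projective_def'.mp ‹Module.Projective A' (A' ⊗[A] C)›
  refine ⟨fun c' => ((Finsupp.lapply c' ∘ₗ s).restrictScalars A) ∘ₗ (TensorProduct.mk A A' C 1),
    fun c => ⟨(s ((1 : A') ⊗ₜ[A] c)).support, fun c' hc' => ?_, ?_⟩⟩
  · simpa using Finsupp.notMem_support_iff.mp hc'
  · have := LinearMap.congr_fun hs ((1 : A') ⊗ₜ[A] c)
    simp only [LinearMap.comp_apply, Finsupp.linearCombination_apply, Finsupp.sum,
      LinearMap.id_coe, id_eq] at this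
    conv_lhs => rw [← this]
    rfl

/-- the universal dual-basis expansion -/
lemma exists_expansion [Module.Projective A' (A' ⊗[A] C)]
    (ψ : A' ⊗[A] C → (C →ₗ[A] A'))
    (hψ : ∀ c : C, ∃ S : Finset (A' ⊗[A] C),
      (∀ c' ∉ S, ψ c' c = 0) ∧ (1 : A') ⊗ₜ[A] c = ∑ c' ∈ S, ψ c' c • c')
    (y : V ⊗[A] C) :
    ∃ S : Finset (A' ⊗[A] C), (∀ c' ∉ S, ctrB (V := V) (ψ c') y = 0) ∧
      ∀ (P : Type u) [AddCommGroup P] [Module A P] [Module A' P] [IsScalarTower A A' P]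
        (Tg : Type u) [AddCommGroup Tg] [Module A Tg]
        (B : P →ₗ[A] (A' ⊗[A] V) →ₗ[A] Tg)
        (_ : ∀ (a : A') (p : P) (z : A' ⊗[A] V), B (a • p) z = B p (a • z))
        (Φ : A' ⊗[A] C →ₗ[A'] P) (G : V ⊗[A] C →ₗ[A] Tg)
        (_ : ∀ (v : V) (c : C), G (v ⊗ₜ[A] c) = B (Φ ((1 : A') ⊗ₜ[A] c)) ((1 : A') ⊗ₜ[A] v)),
        G y = ∑ c' ∈ S, B (Φ c') (ctrB (ψ c') y) := by
  classical
  induction y using TensorProduct.induction_on with
  | zero =>
    exact ⟨∅, by simp, by intros; simp⟩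
  | tmul v c =>
    obtain ⟨S, hS0, hS⟩ := hψ c
    refine ⟨S, fun c' hc' => by simp [hS0 c' hc'], ?_⟩
    intro P _ _ _ _ Tg _ _ B hbal Φ G hG
    rw [hG, hS, map_sum, map_sum, LinearMap.sum_apply]
    refine Finset.sum_congr rfl fun c' _ => ?_
    rw [map_smul, hbal, ctrB_tmul, TensorProduct.smul_tmul', smul_eq_mul, mul_one]
  | add y₁ y₂ h₁ h₂ =>
    obtain ⟨S₁, h10, h1⟩ := h₁
    obtain ⟨S₂, h20, h2⟩ := h₂
    refine ⟨S₁ ∪ S₂, fun c' hc' => ?_, ?_⟩
    · rw [map_add, h10 c' (fun h => hc' (Finset.mem_union_left _ h)),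
        h20 c' (fun h => hc' (Finset.mem_union_right _ h)), add_zero]
    · intro P _ _ _ _ Tg _ _ B hbal Φ G hG
      rw [map_add, h1 P Tg B hbal Φ G hG, h2 P Tg B hbal Φ G hG]
      simp only [map_add, Finset.sum_add_distrib]
      congr 1
      · apply Finset.sum_subset Finset.subset_union_left
        intro c' _ hc'
        rw [h10 c' hc', map_zero]
      · apply Finset.sum_subset Finset.subset_union_right
        intro c' _ hc'
        rw [h20 c' hc', map_zero]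

end Groth.Agent.Lib.Helper7.SubDesc
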