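import Mathlib
import Groth.Prelude.Def_HopfRep
import Groth.Agent.Lib.Helper7.Comod
import Groth.Agent.Lib.Helper7.SubDesc1

set_option autoImplicit false

namespace Groth.Agent.Lib.Helper7.SubDesc

open TensorProduct HopfRep

universe u
variable {A : Type u} [CommRing A] {C : Type u} [AddCommGroup C] [Module A C]
variable {V : Type u} [AddCommGroup V] [Module A V]
variable {A' : Type u} [CommRing A'] [Algebra A A']

section FF

variable (A') in
/-- faithfully flat descent of membership in the range of a linear map -/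
lemma mem_range_of_one_tmul_mem [Module.FaithfullyFlat A A'] {N P : Type u} [AddCommGroup N] [Module A N]
    [AddCommGroup P] [Module A P] (f : N →ₗ[A] P) (y : P)
    (h : (1 : A') ⊗ₜ[A] y ∈ LinearMap.range (LinearMap.lTensor A' f)) : y ∈ LinearMap.range f := by
  have hex : Function.Exact f (LinearMap.range f).mkQ := by
    intro p
    rw [Submodule.mkQ_apply, Submodule.Quotient.mk_eq_zero]
    rfl
  have hex' := lTensor_exact A' hex (Submodule.mkQ_surjective _)
  have h0 := (hex' _).mpr h
  rw [LinearMap.lTensor_tmul] at h0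
  have hinj := Module.FaithfullyFlat.tensorProduct_mk_injective (A := A) (B := A')
    (P ⧸ LinearMap.range f)
  have : (LinearMap.range f).mkQ y = 0 := hinj (by simpa using h0)
  rwa [Submodule.mkQ_apply, Submodule.Quotient.mk_eq_zero] at this

end FF

section Comod

variable [Coalgebra A C] [Comod A C V]

variable (C A') in
/-- the `A'`-submodule generated by all contractions of `ρ m`, `m ∈ M` -/
def Wp (M : Submodule A V) : Submodule A' (A' ⊗[A] V) :=
  Submodule.span A' {x | ∃ m ∈ M, ∃ ψ : C →ₗ[A] A',
    x = ctrB ψ (Comod.coact (k := A) (A := C) (V := V) m)}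

variable (C A') in
/-- the descended submodule -/
def Wd (M : Submodule A V) : Submodule A V :=
  ((Wp C A' M).restrictScalars A).comap (TensorProduct.mk A A' V 1)

lemma mem_Wd {M : Submodule A V} {v : V} : v ∈ Wd C A' M ↔ (1 : A') ⊗ₜ[A] v ∈ Wp C A' M := Iff.rfl

lemma ctrB_counit (m : V) :
    ctrB ((Algebra.linearMap A A') ∘ₗ (CoalgebraStruct.counit (R := A) (A := C)))
      (Comod.coact (k := A) (A := C) (V := V) m) = (1 : A') ⊗ₜ[A] m := by
  have h := LinearMap.congr_fun (Comod.counit_comp (k := A) (A := C) (V := V)) m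
  simp only [LinearMap.comp_apply] at h
  have key : ∀ y : V ⊗[A] C,
      ctrB ((Algebra.linearMap A A') ∘ₗ (CoalgebraStruct.counit (R := A) (A := C))) y =
        (TensorProduct.mk A A' V 1) ((TensorProduct.rid A V)
          ((CoalgebraStruct.counit (R := A) (A := C)).lTensor V y)) := by
    intro y
    induction y using TensorProduct.induction_on with
    | zero => simp
    | tmul v c =>
      simp [Algebra.algebraMap_eq_smul_one, TensorProduct.smul_tmul]
    | add x y hx hy => simp only [map_add, hx, hy]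
  rw [key, h]
  simp

lemma le_Wd (M : Submodule A V) : M ≤ Wd C A' M := by
  intro m hm
  rw [mem_Wd]
  apply Submodule.subset_span
  exact ⟨m, hm, _, (ctrB_counit m).symm⟩

omit [Coalgebra A C] [Comod A C V] in
lemma ctrB_mem_range_baseChange {W₁ : Submodule A V} (ψ : C →ₗ[A] A') {y : V ⊗[A] C}
    (hy : y ∈ LinearMap.range (W₁.subtype.rTensor C)) :
    ctrB ψ y ∈ LinearMap.range (LinearMap.baseChange A' W₁.subtype) := by
  obtain ⟨s, rfl⟩ := hy
  induction s using TensorProduct.induction_on with
  | zero => simp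
  | tmul w c =>
    rw [LinearMap.rTensor_tmul, ctrB_tmul]
    exact ⟨ψ c ⊗ₜ w, by simp⟩
  | add x y hx hy =>
    rw [map_add, map_add]
    exact Submodule.add_mem _ hx hy

lemma Wd_le [Module.FaithfullyFlat A A'] {M W₁ : Submodule A V}
    (hW₁ : IsSubcomod (k := A) (A := C) W₁) (hM : M ≤ W₁) : Wd C A' M ≤ W₁ := by
  intro w hw
  rw [mem_Wd] at hw
  have h1 : Wp C A' M ≤ LinearMap.range (LinearMap.baseChange A' W₁.subtype) := by
    rw [Wp, Submodule.span_le]
    rintro x ⟨m, hm, ψ, rfl⟩
    exact ctrB_mem_range_baseChange ψ (hW₁ m (hM hm))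
  obtain ⟨s, hs⟩ := h1 hw
  have h3 : (1 : A') ⊗ₜ[A] w ∈ LinearMap.range (LinearMap.lTensor A' W₁.subtype) :=
    ⟨s, by rw [← hs]; rfl⟩
  have := mem_range_of_one_tmul_mem A' W₁.subtype w h3
  simpa using this

end Comod

end Groth.Agent.Lib.Helper7.SubDesc
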