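import Mathlib
import Groth.Prelude.Def_SGA3b
import Groth.Prelude.Def_HopfRep
import Groth.Agent.Lib.Helper7.NilLift2
import Groth.Agent.Lib.Helper7.DiagIso
import Groth.Agent.Lib.Helper7.SubDesc2

/-!
# Homomorphisms of groups of multiplicative type descend along radicial extensions (helper7)
-/

set_option autoImplicit false

namespace Groth.Agent.Lib.Helper7.PIDesc

open TensorProduct Groth.Agent.Lib.Helper7.BCR Groth.Agent.Lib.Helper7.CancelBC
  Groth.Agent.Lib.Helper7.NilLift

universe u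

section BCHom

variable {R : Type u} [CommRing R] {K T : Type u} [CommRing K] [Algebra R K] [CommRing T]
  [Algebra R T] {A B : Type u} [CommRing A] [Bialgebra R A] [CommRing B] [Bialgebra R B]

/-- base change of a bialgebra hom along a ring map. -/
lemma exists_bcHom (σ : K →ₐ[R] T) (φ : K ⊗[R] B →ₐc[K] K ⊗[R] A) :
    ∃ Ψ : T ⊗[R] B →ₐc[T] T ⊗[R] A, ∀ b : B,
      Ψ ((1 : T) ⊗ₜ[R] b) =
        Algebra.TensorProduct.map σ (AlgHom.id R A) (φ ((1 : K) ⊗ₜ[R] b)) := by
  let _ : Algebra K T := σ.toRingHom.toAlgebra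
  have : IsScalarTower R K T := IsScalarTower.of_algebraMap_eq (fun r => (σ.commutes r).symm)
  have h2 : ∀ z : K ⊗[R] A,
      cancelBC R K T A ((1 : T) ⊗ₜ[K] z) = Algebra.TensorProduct.map σ (AlgHom.id R A) z := by
    intro z
    induction z using TensorProduct.induction_on with
    | zero => simp
    | add x y hx hy => rw [TensorProduct.tmul_add, map_add, hx, hy, map_add]
    | tmul c a =>
      rw [cancelBC_tmul, Algebra.TensorProduct.map_tmul, AlgHom.id_apply, Algebra.smul_def, mul_one]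
      rfl
  refine ⟨((cancelBC R K T A : _ →ₐc[T] _).comp
    (Bialgebra.TensorProduct.map (BialgHom.id T T) φ)).comp
      ((cancelBC R K T B).symm : _ →ₐc[T] _), ?_⟩
  intro b
  rw [← h2]
  change cancelBC R K T A (Bialgebra.TensorProduct.map (BialgHom.id T T) φ
    ((cancelBC R K T B).symm ((1 : T) ⊗ₜ[R] b))) = _
  rw [cancelBC_symm_tmul]
  rfl

lemma map_sub_map_mem (σ₁ σ₂ : K →ₐ[R] T) (z : K ⊗[R] A) :
    Algebra.TensorProduct.map σ₁ (AlgHom.id R A) z -
        Algebra.TensorProduct.map σ₂ (AlgHom.id R A) z ∈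
      Ideal.span (Set.range fun c => σ₁ c - σ₂ c) • (⊤ : Submodule T (T ⊗[R] A)) := by
  induction z using TensorProduct.induction_on with
  | zero => simp
  | add x y hx hy => rw [map_add, map_add, add_sub_add_comm]; exact add_mem hx hy
  | tmul c a =>
    rw [Algebra.TensorProduct.map_tmul, Algebra.TensorProduct.map_tmul, ← TensorProduct.sub_tmul,
      AlgHom.id_apply]
    have : (σ₁ c - σ₂ c) ⊗ₜ[R] a = (σ₁ c - σ₂ c) • ((1 : T) ⊗ₜ[R] a) := by
      rw [TensorProduct.smul_tmul', smul_eq_mul, mul_one]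
    rw [this]
    exact Submodule.smul_mem_smul (Ideal.subset_span ⟨c, rfl⟩) Submodule.mem_top

/-- rigidity: two base changes of a homomorphism between groups of multiplicative type along
ring maps that agree modulo nilpotents coincide. -/
theorem map_eq_map (σ₁ σ₂ : K →ₐ[R] T) (hnil : ∀ c, IsNilpotent (σ₁ c - σ₂ c))
    {P : Type*} (bA : Module.Basis P T (T ⊗[R] A)) (hbA : ∀ p, IsGroupLikeElem T (bA p))
    {Q : Type*} (bB : Module.Basis Q T (T ⊗[R] B)) (hbB : ∀ q, IsGroupLikeElem T (bB q))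
    (φ : K ⊗[R] B →ₐc[K] K ⊗[R] A) (b : B) :
    Algebra.TensorProduct.map σ₁ (AlgHom.id R A) (φ ((1 : K) ⊗ₜ[R] b)) =
      Algebra.TensorProduct.map σ₂ (AlgHom.id R A) (φ ((1 : K) ⊗ₜ[R] b)) := by
  obtain ⟨Ψ₁, h₁⟩ := exists_bcHom σ₁ φ
  obtain ⟨Ψ₂, h₂⟩ := exists_bcHom σ₂ φ
  set J : Ideal T := Ideal.span (Set.range fun c => σ₁ c - σ₂ c) with hJ
  have hJnil : ∀ x ∈ J, IsNilpotent x := by
    intro x hx
    have : J ≤ nilradical T := by
      rw [hJ, Ideal.span_le]
      rintro _ ⟨c, rfl⟩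
      exact mem_nilradical.2 (hnil c)
    exact mem_nilradical.1 (this hx)
  have hmem : ∀ w : T ⊗[R] B, Ψ₁ w - Ψ₂ w ∈ J • (⊤ : Submodule T (T ⊗[R] A)) := by
    intro w
    induction w using TensorProduct.induction_on with
    | zero => simp
    | add x y hx hy => rw [map_add, map_add, add_sub_add_comm]; exact add_mem hx hy
    | tmul t b =>
      have : t ⊗ₜ[R] b = t • ((1 : T) ⊗ₜ[R] b) := by
        rw [TensorProduct.smul_tmul', smul_eq_mul, mul_one]
      rw [this, map_smul, map_smul, ← smul_sub, h₁, h₂]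
      exact Submodule.smul_mem _ _ (map_sub_map_mem σ₁ σ₂ _)
  have heq : ∀ q, Ψ₁ (bB q) = Ψ₂ (bB q) := fun q =>
    eq_of_sub_mem bA hbA hJnil ((hbB q).map Ψ₁) ((hbB q).map Ψ₂) (hmem _)
  have hlin : (Ψ₁ : T ⊗[R] B →ₗ[T] T ⊗[R] A) = (Ψ₂ : T ⊗[R] B →ₗ[T] T ⊗[R] A) :=
    bB.ext heq
  rw [← h₁, ← h₂]
  exact LinearMap.congr_fun hlin _

end BCHom

section Descent

variable {R : Type u} [CommRing R] {K : Type u} [CommRing K] [Algebra R K]
  [Module.FaithfullyFlat R K] {A : Type u} [AddCommGroup A] [Module R A]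

/-- faithfully flat descent of elements (equaliser form). -/
lemma mem_range_of_map_eq (z : K ⊗[R] A)
    (h : TensorProduct.map (Algebra.TensorProduct.includeLeft : K →ₐ[R] K ⊗[R] K).toLinearMap
          (LinearMap.id : A →ₗ[R] A) z =
        TensorProduct.map (Algebra.TensorProduct.includeRight : K →ₐ[R] K ⊗[R] K).toLinearMap
          (LinearMap.id : A →ₗ[R] A) z) :
    z ∈ LinearMap.range (TensorProduct.mk R K A 1) := by
  have hα1 : ∀ w : K ⊗[R] A,
      TensorProduct.assoc R K K A (TensorProduct.map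
        (Algebra.TensorProduct.includeLeft : K →ₐ[R] K ⊗[R] K).toLinearMap
          (LinearMap.id : A →ₗ[R] A) w) =
        LinearMap.lTensor K (TensorProduct.mk R K A 1) w := by
    intro w
    induction w using TensorProduct.induction_on with
    | zero => simp
    | add x y hx hy => rw [map_add, map_add, hx, hy, map_add]
    | tmul t a =>
      rw [TensorProduct.map_tmul, LinearMap.lTensor_tmul]
      rfl
  have hα2 : ∀ w : K ⊗[R] A,
      TensorProduct.assoc R K K A (TensorProduct.map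
        (Algebra.TensorProduct.includeRight : K →ₐ[R] K ⊗[R] K).toLinearMap
          (LinearMap.id : A →ₗ[R] A) w) = (1 : K) ⊗ₜ[R] w := by
    intro w
    induction w using TensorProduct.induction_on with
    | zero => simp
    | add x y hx hy => rw [map_add, map_add, hx, hy, TensorProduct.tmul_add]
    | tmul t a =>
      rw [TensorProduct.map_tmul]
      rfl
  refine SubDesc.mem_range_of_one_tmul_mem K (TensorProduct.mk R K A 1) z ⟨z, ?_⟩
  rw [← hα1, ← hα2, h]

end Descent

end Groth.Agent.Lib.Helper7.PIDesc
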