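import Mathlib
import Groth.Agent.Lib.Helper7.HensGL2
import Groth.Agent.Lib.Helper7.BialgDescent
import Groth.Agent.Lib.Helper7.PIDesc1
import Groth.Agent.Lib.Helper7.Deform3

/-!
# Homomorphisms of isotrivial groups of multiplicative type over a henselian pair (helper7)
-/

set_option autoImplicit false

namespace Groth.Agent.Lib.Helper7.HensGL

open TensorProduct SGA3b Groth.Agent.Lib.Helper7.NilLift Groth.Agent.Lib.Helper7.CancelBC
  Groth.Agent.Lib.Helper7.PIDesc Groth.Agent.Lib.Helper7.Deform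

universe u

section SubMem

variable {S : Type u} [CommRing S] {J : Ideal S} (hJ : J ≤ Ideal.jacobson ⊥)
  {B' : Type u} [CommRing B'] [HopfAlgebra S B'] {C' : Type u} [CommRing C'] [HopfAlgebra S C']
  {M : Type u} [CommGroup M] {N : Type u} [CommGroup N]
  (eB : B' ≃ₐc[S] MonoidAlgebra S M) (eC : C' ≃ₐc[S] MonoidAlgebra S N)

include hJ eB eC in
/-- rigidity of homomorphisms, ideal form. -/
theorem bialgHom_eq_of_sub_mem (Φ Ψ : C' →ₐc[S] B')
    (h : ∀ c, Φ c - Ψ c ∈ J • (⊤ : Submodule S B')) : Φ = Ψ := by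
  ext c
  have hc : c = eC.symm (eC c) := (BialgEquiv.symm_apply_apply eC c).symm
  rw [hc]
  generalize eC c = x
  induction x using MonoidAlgebra.induction_linear with
  | zero => simp
  | add x y hx hy => rw [map_add, map_add, map_add, hx, hy]
  | single n s =>
    have h1 : MonoidAlgebra.single n s = s • MonoidAlgebra.single n (1 : S) := by
      rw [MonoidAlgebra.smul_single, smul_eq_mul, mul_one]
    rw [h1, map_smul, map_smul, map_smul]
    congr 1
    exact eq_of_sub_mem (glBasis eB) (isGroupLikeElem_glBasis eB) hJ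
      ((isGroupLikeElem_symm_single eC n).map Φ) ((isGroupLikeElem_symm_single eC n).map Ψ) (h _)

end SubMem

section Gen

variable {A : Type u} [CommRing A] {S T : Type u} [CommRing S] [Algebra A S] [CommRing T]
  [Algebra A T] {B : Type u} [CommRing B] [Algebra A B]

lemma map_smul_eq (f : S →ₐ[A] T) (r : S) (y : S ⊗[A] B) :
    Algebra.TensorProduct.map f (AlgHom.id A B) (r • y) =
      f r • Algebra.TensorProduct.map f (AlgHom.id A B) y := by
  induction y using TensorProduct.induction_on with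
  | zero => simp
  | add x y hx hy => rw [smul_add, map_add, hx, hy, map_add, smul_add]
  | tmul s b =>
    rw [TensorProduct.smul_tmul', Algebra.TensorProduct.map_tmul, Algebra.TensorProduct.map_tmul,
      TensorProduct.smul_tmul', smul_eq_mul, smul_eq_mul, map_mul]

lemma map_mem_smul_top (f : S →ₐ[A] T) (K : Ideal S) (KT : Ideal T) (hf : K.map f ≤ KT)
    {z : S ⊗[A] B} (hz : z ∈ K • (⊤ : Submodule S (S ⊗[A] B))) :
    Algebra.TensorProduct.map f (AlgHom.id A B) z ∈ KT • (⊤ : Submodule T (T ⊗[A] B)) := by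
  refine Submodule.smul_induction_on hz ?_ ?_
  · intro r hr y _
    rw [map_smul_eq]
    exact Submodule.smul_mem_smul (hf (Ideal.mem_map_of_mem _ hr)) Submodule.mem_top
  · intro y z hy hz
    rw [map_add]
    exact add_mem hy hz

end Gen

section IsDiagAlgHom

variable {A : Type u} [CommRing A] {S T : Type u} [CommRing S] [Algebra A S] [CommRing T]
  [Algebra A T] {B : Type u} [CommRing B] [HopfAlgebra A B]

/-- diagonalisability over `S` passes to every `S`-algebra `T` (given by an `A`-algebra map). -/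
theorem isDiag_of_algHom (f : S →ₐ[A] T) (h : IsDiag S (S ⊗[A] B)) : IsDiag T (T ⊗[A] B) := by
  let _ : Algebra S T := f.toRingHom.toAlgebra
  have : IsScalarTower A S T := IsScalarTower.of_algebraMap_eq (fun a => (f.commutes a).symm)
  obtain ⟨M, _, ⟨e⟩⟩ := isDiag_baseChange T h
  exact ⟨M, _, ⟨(cancelBC A S T B).symm.trans e⟩⟩

end IsDiagAlgHom

/-- `k ⊗ B → Sb ⊗ B` is injective (on elements `1 ⊗ b`). -/
def ReflectsOneTmul (A k Sb B : Type u) [CommRing A] [CommRing k] [Algebra A k] [CommRing Sb]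
    [Algebra A Sb] [CommRing B] [Algebra A B] : Prop :=
  ∀ b b' : B, (1 : Sb) ⊗ₜ[A] b = (1 : Sb) ⊗ₜ[A] b' → (1 : k) ⊗ₜ[A] b = (1 : k) ⊗ₜ[A] b'

section Abstract

variable {A : Type u} [CommRing A] {k : Type u} [CommRing k] [Algebra A k]
  {S : Type u} [CommRing S] [Algebra A S] [Module.FaithfullyFlat A S]
  {Sb : Type u} [CommRing Sb] [Algebra A Sb] [Algebra S Sb] [IsScalarTower A S Sb]
  (σ : k →ₐ[A] Sb)
  (hsurj : Function.Surjective (algebraMap S Sb))
  (hK : RingHom.ker (algebraMap S Sb) ≤ Ideal.jacobson ⊥)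
  {B C : Type u} [CommRing B] [HopfAlgebra A B] [CommRing C] [HopfAlgebra A C]
  {M N : Type u} [CommGroup M] [CommGroup N]
  (eB : S ⊗[A] B ≃ₐc[S] MonoidAlgebra S M) (eC : S ⊗[A] C ≃ₐc[S] MonoidAlgebra S N)

include σ hsurj hK eB eC in
/-- reduction is injective on homomorphisms. -/
theorem injective_abstract (φ ψ : C →ₐc[A] B)
    (h : ∀ c, (1 : k) ⊗ₜ[A] φ c = (1 : k) ⊗ₜ[A] ψ c) : φ = ψ := by
  have h' : ∀ c, (1 : Sb) ⊗ₜ[A] φ c = (1 : Sb) ⊗ₜ[A] ψ c := by
    intro c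
    have := congrArg (Algebra.TensorProduct.map σ (AlgHom.id A B)) (h c)
    rwa [Algebra.TensorProduct.map_tmul, Algebra.TensorProduct.map_tmul, map_one,
      AlgHom.id_apply, AlgHom.id_apply] at this
  set Φ : S ⊗[A] C →ₐc[S] S ⊗[A] B := Bialgebra.TensorProduct.map (BialgHom.id S S) φ with hΦ
  set Ψ : S ⊗[A] C →ₐc[S] S ⊗[A] B := Bialgebra.TensorProduct.map (BialgHom.id S S) ψ with hΨ
  have hΦt : ∀ (s : S) (c : C), Φ (s ⊗ₜ[A] c) = s ⊗ₜ[A] φ c := fun _ _ => rfl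
  have hΨt : ∀ (s : S) (c : C), Ψ (s ⊗ₜ[A] c) = s ⊗ₜ[A] ψ c := fun _ _ => rfl
  have key : Φ = Ψ := by
    apply bialgHom_eq_of_one_tmul_eq hsurj hK eB eC
    intro x
    induction x using TensorProduct.induction_on with
    | zero => simp
    | add x y hx hy =>
      rw [map_add, map_add, TensorProduct.tmul_add, TensorProduct.tmul_add, hx, hy]
    | tmul s c =>
      rw [hΦt, hΨt]
      apply EquivLike.injective (cancelBC A S Sb B)
      rw [cancelBC_tmul, cancelBC_tmul]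
      have e1 : ∀ b : B, ((s • (1 : Sb)) ⊗ₜ[A] b : Sb ⊗[A] B) =
          (s • (1 : Sb)) • ((1 : Sb) ⊗ₜ[A] b) := by
        intro b
        rw [TensorProduct.smul_tmul', smul_eq_mul, mul_one]
      rw [e1, e1, h']
  ext c
  apply BialgDescent.one_tmul_injective (R := A) (S := S) B
  change (1 : S) ⊗ₜ[A] φ c = (1 : S) ⊗ₜ[A] ψ c
  rw [← hΦt, ← hΨt, key]

include σ hsurj hK eB eC in
/-- reduction is surjective on homomorphisms. -/
theorem surjective_abstract (hk : Function.Surjective (algebraMap A k))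
    (hlift : ∀ x : S, x * x - x ∈ RingHom.ker (algebraMap S Sb) →
      ∃ e : S, IsIdempotentElem e ∧ e - x ∈ RingHom.ker (algebraMap S Sb))
    (KT : Ideal (S ⊗[A] S)) (hKT : KT ≤ Ideal.jacobson ⊥)
    (h1 : (RingHom.ker (algebraMap S Sb)).map
      (Algebra.TensorProduct.includeLeft : S →ₐ[A] S ⊗[A] S) ≤ KT)
    (h2 : (RingHom.ker (algebraMap S Sb)).map
      (Algebra.TensorProduct.includeRight : S →ₐ[A] S ⊗[A] S) ≤ KT)
    (hinj : ReflectsOneTmul A k Sb B)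
    (φ₀ : k ⊗[A] C →ₐc[k] k ⊗[A] B) :
    ∃ φ : C →ₐc[A] B, ∀ c, φ₀ ((1 : k) ⊗ₜ[A] c) = (1 : k) ⊗ₜ[A] φ c := by
  classical
  -- every element of `k ⊗ B` is `1 ⊗ b`
  have hsurj0 : ∀ y : k ⊗[A] B, ∃ b : B, y = (1 : k) ⊗ₜ[A] b := by
    intro y
    induction y using TensorProduct.induction_on with
    | zero => exact ⟨0, (TensorProduct.tmul_zero _ _).symm⟩
    | add x y hx hy =>
      obtain ⟨a, rfl⟩ := hx
      obtain ⟨a', rfl⟩ := hy
      exact ⟨a + a', (TensorProduct.tmul_add _ _ _).symm⟩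
    | tmul r a =>
      obtain ⟨r, rfl⟩ := hk r
      refine ⟨r • a, ?_⟩
      rw [TensorProduct.tmul_smul, TensorProduct.smul_tmul']
      congr 1
      rw [Algebra.smul_def, mul_one]
  choose bc hbc using fun c : C => hsurj0 (φ₀ ((1 : k) ⊗ₜ[A] c))
  obtain ⟨Ψ₀, hΨ₀⟩ := exists_bcHom σ φ₀
  set Φb : Sb ⊗[S] (S ⊗[A] C) →ₐc[Sb] Sb ⊗[S] (S ⊗[A] B) :=
    (((cancelBC A S Sb B).symm : _ →ₐc[Sb] _).comp Ψ₀).comp
      (cancelBC A S Sb C : _ →ₐc[Sb] _) with hΦbdef
  have hΦb : ∀ c : C, Φb ((1 : Sb) ⊗ₜ[S] ((1 : S) ⊗ₜ[A] c)) =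
      (1 : Sb) ⊗ₜ[S] ((1 : S) ⊗ₜ[A] bc c) := by
    intro c
    change (cancelBC A S Sb B).symm (Ψ₀ (cancelBC A S Sb C ((1 : Sb) ⊗ₜ[S] ((1 : S) ⊗ₜ[A] c)))) = _
    rw [cancelBC_tmul, one_smul, hΨ₀, hbc, Algebra.TensorProduct.map_tmul, map_one,
      AlgHom.id_apply, cancelBC_symm_tmul]
  obtain ⟨Φ', hΦ'⟩ := exists_bialgHom_lift hsurj hK eB eC hlift Φb
  have hmem : ∀ c : C, Φ' ((1 : S) ⊗ₜ[A] c) - (1 : S) ⊗ₜ[A] bc c ∈
      RingHom.ker (algebraMap S Sb) • (⊤ : Submodule S (S ⊗[A] B)) := by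
    intro c
    apply mem_smul_top_of_one_tmul_eq_zero' hsurj
    rw [TensorProduct.tmul_sub, ← hΦ', hΦb, sub_self]
  -- descent
  obtain ⟨Ψ₁, hΨ₁⟩ := exists_bcHom (Algebra.TensorProduct.includeLeft : S →ₐ[A] S ⊗[A] S) Φ'
  obtain ⟨Ψ₂, hΨ₂⟩ := exists_bcHom (Algebra.TensorProduct.includeRight : S →ₐ[A] S ⊗[A] S) Φ'
  obtain ⟨M', _, ⟨eBT⟩⟩ := isDiag_of_algHom (B := B)
    (Algebra.TensorProduct.includeLeft : S →ₐ[A] S ⊗[A] S) ⟨M, inferInstance, ⟨eB⟩⟩
  obtain ⟨N', _, ⟨eCT⟩⟩ := isDiag_of_algHom (B := C)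
    (Algebra.TensorProduct.includeLeft : S →ₐ[A] S ⊗[A] S) ⟨N, inferInstance, ⟨eC⟩⟩
  have hΨeq : Ψ₁ = Ψ₂ := by
    apply bialgHom_eq_of_sub_mem hKT eBT eCT
    intro w
    induction w using TensorProduct.induction_on with
    | zero => simp
    | add x y hx hy => rw [map_add, map_add, add_sub_add_comm]; exact add_mem hx hy
    | tmul t c =>
      have : t ⊗ₜ[A] c = t • ((1 : S ⊗[A] S) ⊗ₜ[A] c) := by
        rw [TensorProduct.smul_tmul', smul_eq_mul, mul_one]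
      rw [this, map_smul, map_smul, ← smul_sub, hΨ₁, hΨ₂]
      apply Submodule.smul_mem
      have e1 : Φ' ((1 : S) ⊗ₜ[A] c) = (1 : S) ⊗ₜ[A] bc c +
          (Φ' ((1 : S) ⊗ₜ[A] c) - (1 : S) ⊗ₜ[A] bc c) := by abel
      rw [e1, map_add, map_add, Algebra.TensorProduct.map_tmul, Algebra.TensorProduct.map_tmul,
        map_one, map_one, add_sub_add_left_eq_sub]
      exact sub_mem (map_mem_smul_top _ _ KT h1 (hmem c)) (map_mem_smul_top _ _ KT h2 (hmem c))
  have hex : ∀ c : C, ∃ b : B, (1 : S) ⊗ₜ[A] b = Φ' ((1 : S) ⊗ₜ[A] c) := by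
    intro c
    have hz := mem_range_of_map_eq (R := A) (K := S) (A := B) (Φ' ((1 : S) ⊗ₜ[A] c)) (by
      have := congrArg (fun F => F ((1 : S ⊗[A] S) ⊗ₜ[A] c)) hΨeq
      simp only [hΨ₁, hΨ₂] at this
      exact this)
    obtain ⟨b, hb⟩ := hz
    exact ⟨b, hb⟩
  obtain ⟨φ, hφ⟩ := BialgDescent.exists_descent Φ' hex
  refine ⟨φ, ?_⟩
  intro c
  rw [hbc]
  apply hinj
  have h3 := hΦ' ((1 : S) ⊗ₜ[A] c)
  rw [hΦb, hφ] at h3
  have h4 := congrArg (cancelBC A S Sb B) h3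
  rwa [cancelBC_tmul, cancelBC_tmul, one_smul] at h4

end Abstract

end Groth.Agent.Lib.Helper7.HensGL
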