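import Mathlib
import Groth.Agent.Lib.Helper7.HensGL3
import Groth.Agent.Lib.Helper4.HenselPairJ
import Groth.Agent.Lib.Helper4.HenselPairK

/-!
# Homomorphisms of isotrivial groups of multiplicative type over a henselian local ring (helper7)
-/

set_option autoImplicit false

namespace Groth.Agent.Lib.Helper7.HensGL

open TensorProduct SGA3b Groth.Agent.Lib.Helper7.NilLift Groth.Agent.Lib.Helper7.CancelBC

universe u

section Concrete

attribute [local instance] Algebra.TensorProduct.rightAlgebra

variable {A : Type u} [CommRing A] {k : Type u} [CommRing k] [Algebra A k]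
  (hk : Function.Surjective (algebraMap A k))
  {S : Type u} [CommRing S] [Algebra A S]

include hk in
lemma algebraMap_right_surjective : Function.Surjective (algebraMap S (k ⊗[A] S)) := by
  intro y
  induction y using TensorProduct.induction_on with
  | zero => exact ⟨0, map_zero _⟩
  | add x y hx hy =>
    obtain ⟨a, rfl⟩ := hx
    obtain ⟨a', rfl⟩ := hy
    exact ⟨a + a', map_add _ _ _⟩
  | tmul r s =>
    obtain ⟨r, rfl⟩ := hk r
    refine ⟨r • s, ?_⟩
    rw [Algebra.TensorProduct.right_algebraMap_apply, TensorProduct.tmul_smul,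
      TensorProduct.smul_tmul']
    congr 1
    rw [Algebra.smul_def, mul_one]

include hk in
lemma ker_algebraMap_right : RingHom.ker (algebraMap S (k ⊗[A] S)) =
    (RingHom.ker (algebraMap A k)).map (algebraMap A S) := by
  apply le_antisymm
  · intro x hx
    rw [RingHom.mem_ker, Algebra.TensorProduct.right_algebraMap_apply] at hx
    have := mem_smul_top_of_one_tmul_eq_zero' hk hx
    rw [Ideal.smul_top_eq_map] at this
    exact this
  · rw [Ideal.map_le_iff_le_comap]
    intro a ha
    rw [Ideal.mem_comap, RingHom.mem_ker, ← IsScalarTower.algebraMap_apply,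
      IsScalarTower.algebraMap_apply A k (k ⊗[A] S), RingHom.mem_ker.1 ha, map_zero]

lemma reflectsOneTmul [Module.FaithfullyFlat A S] (B : Type u) [CommRing B]
    [Algebra A B] : ReflectsOneTmul A k (k ⊗[A] S) B := by
  set θ : (k ⊗[A] S) ⊗[A] B ≃ₗ[A] S ⊗[A] (k ⊗[A] B) :=
    (TensorProduct.congr (TensorProduct.comm A k S) (LinearEquiv.refl A B)).trans
      (TensorProduct.assoc A S k B) with hθ
  have h1 : ∀ b : B, θ ((1 : k ⊗[A] S) ⊗ₜ[A] b) = (1 : S) ⊗ₜ[A] ((1 : k) ⊗ₜ[A] b) := by
    intro b
    rfl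
  intro b b' h
  apply Module.FaithfullyFlat.tensorProduct_mk_injective (A := A) (B := S) (k ⊗[A] B)
  change (1 : S) ⊗ₜ[A] ((1 : k) ⊗ₜ[A] b) = (1 : S) ⊗ₜ[A] ((1 : k) ⊗ₜ[A] b')
  rw [← h1, ← h1]
  exact congrArg θ h

end Concrete

section Main

lemma isIdempotentElem_eq_zero_or_one {A : Type u} [CommRing A] [IsLocalRing A] (e : A)
    (he : IsIdempotentElem e) : e = 0 ∨ e = 1 := by
  have h0 : e * (1 - e) = 0 := by
    have := he.eq
    linear_combination -this
  rcases IsLocalRing.isUnit_or_isUnit_one_sub_self e with h | h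
  · right
    have := h.mul_right_eq_zero.1 h0
    linear_combination -this
  · left
    exact h.mul_left_eq_zero.1 h0

theorem connectedSpace_of_isLocalRing (A : Type u) [CommRing A] [IsLocalRing A] :
    ConnectedSpace (PrimeSpectrum A) := by
  rw [connectedSpace_iff_clopen]
  refine ⟨inferInstance, ?_⟩
  intro s hs
  obtain ⟨e, he, rfl⟩ := PrimeSpectrum.isClopen_iff.1 hs
  rcases isIdempotentElem_eq_zero_or_one e he with rfl | rfl
  · left; simp
  · right; simp

variable {A : Type u} [CommRing A] [HenselianLocalRing A]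
  {B : Type u} [CommRing B] [HopfAlgebra A B] {C : Type u} [CommRing C] [HopfAlgebra A C]
  (S : Type u) [CommRing S] [Algebra A S] [Module.Finite A S] [Module.FaithfullyFlat A S]
  {M N : Type u} [CommGroup M] [CommGroup N]
  (eB : S ⊗[A] B ≃ₐc[S] MonoidAlgebra S M) (eC : S ⊗[A] C ≃ₐc[S] MonoidAlgebra S N)

include eB eC in
theorem main_of_diag :
    (∀ φ ψ : C →ₐc[A] B, (∀ c : C, (1 : IsLocalRing.ResidueField A) ⊗ₜ[A] (φ c) =
        (1 : IsLocalRing.ResidueField A) ⊗ₜ[A] (ψ c)) → φ = ψ) ∧
    (∀ φ₀ : (IsLocalRing.ResidueField A ⊗[A] C) →ₐc[IsLocalRing.ResidueField A]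
        (IsLocalRing.ResidueField A ⊗[A] B),
      ∃ φ : C →ₐc[A] B, ∀ c : C, φ₀ ((1 : IsLocalRing.ResidueField A) ⊗ₜ[A] c) =
        (1 : IsLocalRing.ResidueField A) ⊗ₜ[A] (φ c)) := by
  let _ : Algebra S (IsLocalRing.ResidueField A ⊗[A] S) := Algebra.TensorProduct.rightAlgebra
  have : IsScalarTower A S (IsLocalRing.ResidueField A ⊗[A] S) :=
    Algebra.TensorProduct.right_isScalarTower
  have hk : Function.Surjective (algebraMap A (IsLocalRing.ResidueField A)) :=
    IsLocalRing.residue_surjective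
  have hker : RingHom.ker (algebraMap A (IsLocalRing.ResidueField A)) =
      IsLocalRing.maximalIdeal A := IsLocalRing.ker_residue
  have hm : IsLocalRing.maximalIdeal A ≤ Ideal.jacobson ⊥ :=
    (IsLocalRing.jacobson_eq_maximalIdeal (⊥ : Ideal A) bot_ne_top).ge
  have : Algebra.IsIntegral A S := Algebra.IsIntegral.of_finite A S
  have : Algebra.IsIntegral A (S ⊗[A] S) := Algebra.IsIntegral.of_finite A (S ⊗[A] S)
  have hsurj := algebraMap_right_surjective (S := S) hk
  have hkerS := ker_algebraMap_right (S := S) hk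
  rw [hker] at hkerS
  have hK : RingHom.ker (algebraMap S (IsLocalRing.ResidueField A ⊗[A] S)) ≤ Ideal.jacobson ⊥ := by
    rw [hkerS]
    exact Groth.Agent.Lib.Helper4.HenselPair.map_le_jacobson_of_isIntegral _ hm
  refine ⟨?_, ?_⟩
  · intro φ ψ h
    exact injective_abstract
      (Algebra.TensorProduct.includeLeft : IsLocalRing.ResidueField A →ₐ[A] _) hsurj hK eB eC φ ψ h
  · intro φ₀
    have hlift : ∀ x : S, x * x - x ∈ RingHom.ker (algebraMap S (IsLocalRing.ResidueField A ⊗[A] S)) →
        ∃ e : S, IsIdempotentElem e ∧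
          e - x ∈ RingHom.ker (algebraMap S (IsLocalRing.ResidueField A ⊗[A] S)) := by
      intro x hx
      rw [hkerS] at hx ⊢
      exact Groth.Agent.Lib.Helper4.HenselPair.exists_idempotent_lift_of_isIntegral
        (IsLocalRing.maximalIdeal A) x hx
    have hKT : (IsLocalRing.maximalIdeal A).map (algebraMap A (S ⊗[A] S)) ≤ Ideal.jacobson ⊥ :=
      Groth.Agent.Lib.Helper4.HenselPair.map_le_jacobson_of_isIntegral _ hm
    have h1 : (RingHom.ker (algebraMap S (IsLocalRing.ResidueField A ⊗[A] S))).map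
        (Algebra.TensorProduct.includeLeft : S →ₐ[A] S ⊗[A] S) ≤
          (IsLocalRing.maximalIdeal A).map (algebraMap A (S ⊗[A] S)) := by
      rw [hkerS, Ideal.map_le_iff_le_comap, Ideal.map_le_iff_le_comap]
      intro a ha
      rw [Ideal.mem_comap, Ideal.mem_comap, AlgHom.commutes]
      exact Ideal.mem_map_of_mem _ ha
    have h2 : (RingHom.ker (algebraMap S (IsLocalRing.ResidueField A ⊗[A] S))).map
        (Algebra.TensorProduct.includeRight : S →ₐ[A] S ⊗[A] S) ≤
          (IsLocalRing.maximalIdeal A).map (algebraMap A (S ⊗[A] S)) := by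
      rw [hkerS, Ideal.map_le_iff_le_comap, Ideal.map_le_iff_le_comap]
      intro a ha
      rw [Ideal.mem_comap, Ideal.mem_comap, AlgHom.commutes]
      exact Ideal.mem_map_of_mem _ ha
    have hinj : ReflectsOneTmul A (IsLocalRing.ResidueField A) (IsLocalRing.ResidueField A ⊗[A] S) B :=
      reflectsOneTmul B
    exact surjective_abstract
      (Algebra.TensorProduct.includeLeft : IsLocalRing.ResidueField A →ₐ[A] _) hsurj hK eB eC hk
      hlift _ hKT h1 h2 hinj φ₀

end Main

end Groth.Agent.Lib.Helper7.HensGL
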