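import Mathlib
import Groth.Agent.Lib.Helper7.CO2
import Groth.Agent.Lib.Helper7.NilLift5
import Groth.Agent.Lib.Helper7.HensGL4
import Groth.Agent.Lib.Helper9.FreeCover

/-!
# A homomorphism from an isotrivial group which is an isomorphism modulo an ideal in the radical:
closed immersion onto an open and closed subgroup (helper7)
-/

set_option autoImplicit false

namespace Groth.Agent.Lib.Helper7.Clopen

open TensorProduct SGA3b Groth.Agent.Lib.Helper7.MonoClosed Groth.Agent.Lib.Helper7.NilLift
open Groth.Agent.Lib.Helper7.MultDesc (cf cf_apply cf_single cf_mem_of_mem_smul_top)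

universe u

section Main

variable {A : Type u} [CommRing A] {I : Ideal A} (hI : I ≤ Ideal.jacobson ⊥)
  {A' : Type u} [CommRing A'] [Algebra A A'] [Module.Finite A A'] [Module.FaithfullyFlat A A']
  {B : Type u} [CommRing B] [HopfAlgebra A B] {M : Type u} [CommGroup M]
  (eB : A' ⊗[A] B ≃ₐc[A'] MonoidAlgebra A' M)
  {C : Type u} [CommRing C] [HopfAlgebra A C] (φ : C →ₐc[A] B)

/-- the base change of `φ` to the splitting algebra, composed with the splitting. -/
noncomputable def phi' : A' ⊗[A] C →ₐc[A'] MonoidAlgebra A' M :=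
  (eB : A' ⊗[A] B →ₐc[A'] MonoidAlgebra A' M).comp
    (Bialgebra.TensorProduct.map (BialgHom.id A' A') φ)

omit [Module.Finite A A'] [Module.FaithfullyFlat A A'] in
lemma phi'_apply (w : A' ⊗[A] C) :
    phi' eB φ w = eB (LinearMap.lTensor A' (φ : C →ₗ[A] B) w) := by
  change eB (Bialgebra.TensorProduct.map (BialgHom.id A' A') φ w) = _
  congr 1

include hI eB in
theorem surjective_of_mod (H1 : ∀ b : B, ∃ c : C, b - φ c ∈ I • (⊤ : Submodule A B)) :
    Function.Surjective φ := by
  have : Algebra.IsIntegral A A' := Algebra.IsIntegral.of_finite A A'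
  have hJ' : I.map (algebraMap A A') ≤ Ideal.jacobson ⊥ :=
    Groth.Agent.Lib.Helper4.HenselPair.map_le_jacobson_of_isIntegral I hI
  have hex : ∀ b' : A' ⊗[A] B, ∃ c' : A' ⊗[A] C,
      b' - LinearMap.lTensor A' (φ : C →ₗ[A] B) c' ∈ I • (⊤ : Submodule A (A' ⊗[A] B)) := by
    intro b'
    induction b' using TensorProduct.induction_on with
    | zero => exact ⟨0, by simp⟩
    | tmul a b =>
      obtain ⟨c, hc⟩ := H1 b
      refine ⟨a ⊗ₜ[A] c, ?_⟩
      rw [LinearMap.lTensor_tmul, ← TensorProduct.tmul_sub]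
      exact tmul_mem_smul_top I A' hc a
    | add x y hx hy =>
      obtain ⟨c, hc⟩ := hx
      obtain ⟨d, hd⟩ := hy
      refine ⟨c + d, ?_⟩
      rw [map_add, add_sub_add_comm]
      exact add_mem hc hd
  have hφ' : Function.Surjective (phi' eB φ) := by
    apply surjective_of_coeff (phi' eB φ) hJ'
    intro m
    obtain ⟨c', hc'⟩ := hex (eB.symm (MonoidAlgebra.single m 1))
    refine ⟨c', ?_⟩
    have h1 := Groth.Agent.Lib.Helper9.FreeCover.map_mem_smul_top I
      ((eB.toLinearEquiv.toLinearMap).restrictScalars A) hc'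
    have h2 : ((eB.toLinearEquiv.toLinearMap).restrictScalars A)
        (eB.symm (MonoidAlgebra.single m 1) - LinearMap.lTensor A' (φ : C →ₗ[A] B) c') =
        MonoidAlgebra.single m 1 - phi' eB φ c' := by
      rw [map_sub, phi'_apply]
      congr 1
      exact BialgEquiv.apply_symm_apply eB _
    rw [h2, mem_smul_top_iff I (T := A')] at h1
    have h3 := cf_mem_of_mem_smul_top _ h1 m
    rw [map_sub, cf_apply, cf_apply, MonoidAlgebra.coeff_single, Finsupp.single_eq_same] at h3
    have := neg_mem h3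
    rwa [neg_sub] at this
  have h4 : Function.Surjective (LinearMap.lTensor A' (φ : C →ₗ[A] B)) := by
    intro y
    obtain ⟨w, hw⟩ := hφ' (eB y)
    refine ⟨w, ?_⟩
    rw [phi'_apply] at hw
    exact EquivLike.injective eB hw
  exact (Module.FaithfullyFlat.lTensor_surjective_iff_surjective A A' _).1 h4

include hI eB in
theorem ker_eq_span_idem [IsNoetherianRing C] [Module.Flat A B]
    (hsurj : Function.Surjective φ)
    (H2 : ∀ c : C, φ c = 0 → c ∈ I • (⊤ : Submodule A C)) :
    ∃ e : C, IsIdempotentElem e ∧ e ∈ Ideal.map (algebraMap A C) I ∧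
      RingHom.ker (φ : C →+* B) = Ideal.span {e} := by
  have : Algebra.IsIntegral A A' := Algebra.IsIntegral.of_finite A A'
  have hJ' : I.map (algebraMap A A') ≤ Ideal.jacobson ⊥ :=
    Groth.Agent.Lib.Helper4.HenselPair.map_le_jacobson_of_isIntegral I hI
  set K : Ideal C := RingHom.ker (φ : C →+* B) with hKdef
  set φl : C →ₗ[A] B := (φ : C →ₗ[A] B) with hφl
  have hs : Function.Surjective φl := hsurj
  have hmemK : ∀ k : C, k ∈ K ↔ φ k = 0 := fun k => Iff.rfl
  have hmemI : ∀ c : C, c ∈ I • (⊤ : Submodule A C) ↔ c ∈ Ideal.map (algebraMap A C) I := by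
    intro c
    rw [Ideal.smul_top_eq_map]
    rfl
  -- `K = I K`
  have h1 := Groth.Agent.Lib.Helper9.lTensor_ker_subtype_injective_of_flat φl hs I
  rw [Groth.Agent.Lib.Helper9.QuotTensor.lTensor_quot_injective_iff] at h1
  have hcoe : ∀ x : LinearMap.ker φl, x ∈ I • (⊤ : Submodule A (LinearMap.ker φl)) →
      (x : C) ∈ (Ideal.map (algebraMap A C) I) • K := by
    intro x hx
    refine Submodule.smul_induction_on hx ?_ ?_
    · intro r hr a _
      have : ((r • a : LinearMap.ker φl) : C) = algebraMap A C r • (a : C) := by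
        rw [Submodule.coe_smul, Algebra.smul_def, smul_eq_mul]
      rw [this]
      exact Submodule.smul_mem_smul (Ideal.mem_map_of_mem _ hr) a.2
    · intro a b ha hb
      rw [Submodule.coe_add]
      exact add_mem ha hb
  have hKle : K ≤ (Ideal.map (algebraMap A C) I) • K := by
    intro k hk
    exact hcoe ⟨k, hk⟩ (h1 ⟨k, hk⟩ (H2 k hk))
  obtain ⟨r, hr1, hr2⟩ := Submodule.exists_sub_one_mem_and_smul_eq_zero_of_fg_of_le_smul
    (Ideal.map (algebraMap A C) I) K (IsNoetherian.noetherian K) hKle
  set x : C := 1 - r with hx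
  have hxI : x ∈ I • (⊤ : Submodule A C) := by
    rw [hmemI]
    have := neg_mem hr1
    rwa [neg_sub] at this
  have hxK : ∀ k ∈ K, (1 - x) * k = 0 := by
    intro k hk
    rw [hx, sub_sub_cancel]
    exact hr2 k hk
  -- over `A'`
  have hx' : (1 : A') ⊗ₜ[A] x ∈
      (I.map (algebraMap A A')) • (⊤ : Submodule A' (A' ⊗[A] C)) := by
    rw [← mem_smul_top_iff I (T := A')]
    exact tmul_mem_smul_top I A' hxI 1
  have hexact : Function.Exact (LinearMap.lTensor A' (LinearMap.ker φl).subtype)
      (LinearMap.lTensor A' φl) :=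
    lTensor_exact A' (LinearMap.exact_subtype_ker_map φl) hs
  have hker' : ∀ k' : A' ⊗[A] C, phi' eB φ k' = 0 →
      ∃ w, LinearMap.lTensor A' (LinearMap.ker φl).subtype w = k' := by
    intro k' hk'
    rw [phi'_apply] at hk'
    have h0 : LinearMap.lTensor A' φl k' = 0 := by
      apply EquivLike.injective eB
      rw [hk', map_zero]
    exact (hexact k').1 h0
  have hK' : ∀ k' : A' ⊗[A] C, phi' eB φ k' = 0 → (1 - (1 : A') ⊗ₜ[A] x) * k' = 0 := by
    intro k' hk'
    obtain ⟨w, rfl⟩ := hker' k' hk'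
    clear hk'
    induction w using TensorProduct.induction_on with
    | zero => simp
    | tmul a k =>
      rw [LinearMap.lTensor_tmul, sub_mul, one_mul, Algebra.TensorProduct.tmul_mul_tmul, one_mul,
        ← TensorProduct.tmul_sub]
      have : (k : C) - x * (k : C) = 0 := by
        have := hxK k k.2
        linear_combination this
      rw [Submodule.subtype_apply, this, TensorProduct.tmul_zero]
    | add u v hu hv => rw [map_add, mul_add, hu, hv, add_zero]
  have hφ' : Function.Surjective (phi' eB φ) := by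
    intro y
    obtain ⟨w, hw⟩ := LinearMap.lTensor_surjective A' hs (eB.symm y)
    refine ⟨w, ?_⟩
    rw [phi'_apply, hw]
    exact BialgEquiv.apply_symm_apply eB y
  obtain ⟨z', -, hφz', hz'⟩ := exists_idem_ker (phi' eB φ) hJ' hφ' _ hx' hK'
  obtain ⟨wz, hwz⟩ := hker' z' hφz'
  -- `K` is idempotent
  have hKK : IsIdempotentElem K := by
    apply le_antisymm Ideal.mul_le_right
    intro k hk
    set q : C →ₗ[A] (C ⧸ (K * K)) := (Ideal.Quotient.mkₐ A (K * K)).toLinearMap with hq
    have hq0 : ∀ c ∈ K * K, q c = 0 := fun c hc => Ideal.Quotient.eq_zero_iff_mem.2 hc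
    have hone : phi' eB φ ((1 : A') ⊗ₜ[A] k) = 0 := by
      rw [phi'_apply, LinearMap.lTensor_tmul]
      have : φl k = 0 := hk
      rw [this, TensorProduct.tmul_zero, map_zero]
    have h2 := hz' _ hone
    have h3 : ∀ w : A' ⊗[A] (LinearMap.ker φl), LinearMap.lTensor A' q
        (LinearMap.lTensor A' (LinearMap.ker φl).subtype w * (1 : A') ⊗ₜ[A] k) = 0 := by
      intro w
      induction w using TensorProduct.induction_on with
      | zero => simp
      | tmul a k₁ =>
        rw [LinearMap.lTensor_tmul, Algebra.TensorProduct.tmul_mul_tmul, mul_one,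
          LinearMap.lTensor_tmul, Submodule.subtype_apply,
          hq0 _ (Ideal.mul_mem_mul k₁.2 hk), TensorProduct.tmul_zero]
      | add u v hu hv => rw [map_add, add_mul, map_add, hu, hv, add_zero]
    have h4 : (1 : A') ⊗ₜ[A] q k = 0 := by
      have := h3 wz
      rw [hwz, ← h2, LinearMap.lTensor_tmul] at this
      exact this
    have h5 : q k = 0 := (Module.FaithfullyFlat.one_tmul_eq_zero_iff A _ (A := A') (q k)).1 h4
    exact Ideal.Quotient.eq_zero_iff_mem.1 h5
  obtain ⟨e, he, hKe⟩ := (Ideal.isIdempotentElem_iff_of_fg K (IsNoetherian.noetherian K)).1 hKK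
  refine ⟨e, he, ?_, hKe⟩
  rw [← hmemI]
  apply H2
  rw [← hmemK, hKe]
  exact Ideal.mem_span_singleton_self e

end Main

end Groth.Agent.Lib.Helper7.Clopen
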