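import Mathlib

/-!
# Effectivity of descent data in "coaction form" (helper7)

`S` a flat `R`-algebra, `N` an `S`-module, `a : N → S ⊗[R] N` an `R`-linear map which is `S`-linear
for the left factor, counital and coassociative (i.e. a comodule structure over the Sweedler coring
`S ⊗[R] S`).  Then `S ⊗[R] E → N` is bijective, where `E = {n | a n = 1 ⊗ n}`.
-/

set_option autoImplicit false

namespace Groth.Agent.Lib.Helper7.FFDesc

open TensorProduct

universe u

section P1

variable {R : Type u} [CommRing R] {S : Type u} [CommRing S] [Algebra R S] [Module.Flat R S]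
  {N : Type u} [AddCommGroup N] [Module R N] [Module S N] [IsScalarTower R S N]
  (a : N →ₗ[R] S ⊗[R] N)

/-- the module of "invariants" of a descent datum. -/
noncomputable def inv : Submodule R N := LinearMap.eqLocus a (TensorProduct.mk R S N 1)

omit [Module.Flat R S] [Module S N] [IsScalarTower R S N] in
lemma mem_inv {n : N} : n ∈ inv a ↔ a n = (1 : S) ⊗ₜ[R] n := Iff.rfl

/-- the comparison map `S ⊗ E → N`. -/
noncomputable def comp : S ⊗[R] (inv a) →ₗ[S] N := LinearMap.liftBaseChange S (inv a).subtype

omit [Module.Flat R S] in
lemma comp_tmul (s : S) (e : inv a) : comp a (s ⊗ₜ[R] e) = s • (e : N) := by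
  rw [comp, LinearMap.liftBaseChange_tmul]
  rfl

variable (hlin : ∀ (s : S) (n : N), a (s • n) = s • a n)
  (hc1 : ∀ n, LinearMap.liftBaseChange S (LinearMap.id : N →ₗ[R] N) (a n) = n)
  (hc2 : ∀ n, LinearMap.lTensor S a (a n) = LinearMap.lTensor S (TensorProduct.mk R S N 1) (a n))

include hlin in
lemma a_comp (w : S ⊗[R] (inv a)) : a (comp a w) = LinearMap.lTensor S (inv a).subtype w := by
  induction w using TensorProduct.induction_on with
  | zero => simp
  | add x y hx hy => rw [map_add, map_add, hx, hy, map_add]
  | tmul s e =>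
    rw [comp_tmul, hlin, (mem_inv a).1 e.2, LinearMap.lTensor_tmul, TensorProduct.smul_tmul',
      smul_eq_mul, mul_one]
    rfl

omit [Module.Flat R S] in
include hc1 in
lemma a_injective : Function.Injective a := by
  intro n n' h
  rw [← hc1 n, ← hc1 n', h]

include hlin hc1 hc2 in
theorem comp_bijective : Function.Bijective (comp a) := by
  constructor
  · rw [← LinearMap.ker_eq_bot, LinearMap.ker_eq_bot']
    intro w hw
    have h1 := a_comp a hlin w
    rw [hw, map_zero] at h1
    have hinj : Function.Injective (LinearMap.lTensor S (inv a).subtype) :=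
      Module.Flat.lTensor_preserves_injective_linearMap _ (Submodule.injective_subtype _)
    exact hinj (by rw [← h1, map_zero])
  · intro n
    have hmem : a n ∈ LinearMap.eqLocus (AlgebraTensorModule.lTensor S S a)
        (AlgebraTensorModule.lTensor S S (TensorProduct.mk R S N 1)) := hc2 n
    rw [Module.Flat.eqLocus_lTensor_eq] at hmem
    obtain ⟨w, hw⟩ := hmem
    exact ⟨w, a_injective a hc1 ((a_comp a hlin w).trans hw)⟩

end P1

end Groth.Agent.Lib.Helper7.FFDesc
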