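import Mathlib
import Groth.Agent.Lib.Helper7.FFDesc1

/-!
# Descent data on `S ⊗[R] L` in "transition form" (helper7)

`Φ : (S ⊗ S) ⊗ L → (S ⊗ S) ⊗ L` a `S ⊗ S`-linear map with the counit condition (C1) and the cocycle
condition (C2).  Then the equaliser `E = {n ∈ S ⊗ L | Φ ((ι₁ ⊗ id) n) = (ι₂ ⊗ id) n}` satisfies
`S ⊗ E ≅ S ⊗ L`.
-/

set_option autoImplicit false

namespace Groth.Agent.Lib.Helper7.FFDesc

open TensorProduct

universe u

section BCLin

variable {R : Type u} [CommRing R] {K K' : Type u} [CommRing K] [Algebra R K] [CommRing K']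
  [Algebra R K'] {V W : Type u} [AddCommGroup V] [Module R V] [AddCommGroup W] [Module R W]

/-- `σ ⊗ id : K ⊗ V → K' ⊗ V`. -/
noncomputable def rT (σ : K →ₐ[R] K') (V : Type u) [AddCommGroup V] [Module R V] :
    K ⊗[R] V →ₗ[R] K' ⊗[R] V := LinearMap.rTensor V σ.toLinearMap

@[simp] lemma rT_tmul (σ : K →ₐ[R] K') (c : K) (v : V) : rT σ V (c ⊗ₜ[R] v) = σ c ⊗ₜ[R] v := rfl

lemma rT_smul (σ : K →ₐ[R] K') (c : K) (y : K ⊗[R] V) : rT σ V (c • y) = σ c • rT σ V y := by
  induction y using TensorProduct.induction_on with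
  | zero => simp
  | add x y hx hy => rw [smul_add, map_add, hx, hy, map_add, smul_add]
  | tmul d v =>
    rw [TensorProduct.smul_tmul', rT_tmul, rT_tmul, TensorProduct.smul_tmul', smul_eq_mul,
      smul_eq_mul, map_mul]

/-- base change of a linear map `K ⊗ V → K ⊗ W` along `σ : K → K'`. -/
noncomputable def bcLin (σ : K →ₐ[R] K') (g : K ⊗[R] V →ₗ[K] K ⊗[R] W) :
    K' ⊗[R] V →ₗ[K'] K' ⊗[R] W :=
  LinearMap.liftBaseChange K'
    ((rT σ W).comp ((g.restrictScalars R).comp (TensorProduct.mk R K V 1)))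

lemma bcLin_tmul (σ : K →ₐ[R] K') (g : K ⊗[R] V →ₗ[K] K ⊗[R] W) (c : K') (v : V) :
    bcLin σ g (c ⊗ₜ[R] v) = c • rT σ W (g ((1 : K) ⊗ₜ[R] v)) := by
  rw [bcLin, LinearMap.liftBaseChange_tmul]
  rfl

lemma bcLin_rT (σ : K →ₐ[R] K') (g : K ⊗[R] V →ₗ[K] K ⊗[R] W) (y : K ⊗[R] V) :
    bcLin σ g (rT σ V y) = rT σ W (g y) := by
  induction y using TensorProduct.induction_on with
  | zero => simp
  | add x y hx hy => rw [map_add, map_add, hx, hy, map_add, map_add]
  | tmul c v =>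
    rw [rT_tmul, bcLin_tmul]
    have : c ⊗ₜ[R] v = c • ((1 : K) ⊗ₜ[R] v) := by
      rw [TensorProduct.smul_tmul', smul_eq_mul, mul_one]
    rw [this, map_smul, rT_smul]

end BCLin

section TForm

variable {R : Type u} [CommRing R] {S : Type u} [CommRing S] [Algebra R S]
  {L : Type u} [AddCommGroup L] [Module R L]
  (Φ : (S ⊗[R] S) ⊗[R] L →ₗ[S ⊗[R] S] (S ⊗[R] S) ⊗[R] L)

/-- `ι₁ : S → S ⊗ S`. -/
noncomputable abbrev i1 : S →ₐ[R] S ⊗[R] S := Algebra.TensorProduct.includeLeft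
/-- `ι₂ : S → S ⊗ S`. -/
noncomputable abbrev i2 : S →ₐ[R] S ⊗[R] S := Algebra.TensorProduct.includeRight
/-- `q₁₂ : S ⊗ S → S ⊗ (S ⊗ S)`. -/
noncomputable abbrev q12 : S ⊗[R] S →ₐ[R] S ⊗[R] (S ⊗[R] S) :=
  Algebra.TensorProduct.map (AlgHom.id R S) (i1 (R := R) (S := S))
/-- `q₁₃`. -/
noncomputable abbrev q13 : S ⊗[R] S →ₐ[R] S ⊗[R] (S ⊗[R] S) :=
  Algebra.TensorProduct.map (AlgHom.id R S) (i2 (R := R) (S := S))
/-- `q₂₃`. -/
noncomputable abbrev q23 : S ⊗[R] S →ₐ[R] S ⊗[R] (S ⊗[R] S) := Algebra.TensorProduct.includeRight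

/-- `α = Φ ∘ (ι₁ ⊗ id)`. -/
noncomputable def alpha : S ⊗[R] L →ₗ[R] (S ⊗[R] S) ⊗[R] L :=
  (Φ.restrictScalars R).comp (rT (i1 (R := R) (S := S)) L)

/-- `β = ι₂ ⊗ id`. -/
noncomputable def beta : S ⊗[R] L →ₗ[R] (S ⊗[R] S) ⊗[R] L := rT (i2 (R := R) (S := S)) L

lemma alpha_apply (n : S ⊗[R] L) : alpha Φ n = Φ (rT (i1 (R := R) (S := S)) L n) := rfl

/-- the coaction attached to `Φ`. -/
noncomputable def coact : S ⊗[R] L →ₗ[R] S ⊗[R] (S ⊗[R] L) :=
  (TensorProduct.assoc R S S L).toLinearMap.comp (alpha Φ)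

lemma coact_apply (n : S ⊗[R] L) : coact Φ n = TensorProduct.assoc R S S L (alpha Φ n) := rfl

/-- the multiplication `(S ⊗ S) ⊗ L → S ⊗ L`. -/
noncomputable def mu : (S ⊗[R] S) ⊗[R] L →ₗ[R] S ⊗[R] L :=
  rT (Algebra.TensorProduct.lmul' R (S := S)) L

lemma assoc_smul_left (s : S) (y : (S ⊗[R] S) ⊗[R] L) :
    TensorProduct.assoc R S S L ((s ⊗ₜ[R] (1 : S) : S ⊗[R] S) • y) =
      s • TensorProduct.assoc R S S L y := by
  induction y using TensorProduct.induction_on with
  | zero => simp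
  | add x y hx hy => rw [smul_add, map_add, hx, hy, map_add, smul_add]
  | tmul t l =>
    induction t using TensorProduct.induction_on with
    | zero => simp
    | add x y hx hy =>
      rw [TensorProduct.add_tmul, smul_add, map_add, hx, hy, map_add, smul_add]
    | tmul s₁ s₂ =>
      rw [TensorProduct.smul_tmul', smul_eq_mul, Algebra.TensorProduct.tmul_mul_tmul, one_mul,
        TensorProduct.assoc_tmul, TensorProduct.assoc_tmul, TensorProduct.smul_tmul', smul_eq_mul]

lemma beta_assoc (n : S ⊗[R] L) :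
    TensorProduct.assoc R S S L (beta (R := R) (S := S) n) = (1 : S) ⊗ₜ[R] n := by
  induction n using TensorProduct.induction_on with
  | zero => simp
  | add x y hx hy => rw [map_add, map_add, hx, hy, TensorProduct.tmul_add]
  | tmul s l => rfl

lemma mu_smul_left (s : S) (y : (S ⊗[R] S) ⊗[R] L) :
    mu (R := R) (S := S) ((s ⊗ₜ[R] (1 : S) : S ⊗[R] S) • y) = s • mu y := by
  rw [mu, rT_smul]
  congr 1
  rw [Algebra.TensorProduct.lmul'_apply_tmul, mul_one]

lemma liftBaseChange_assoc (y : (S ⊗[R] S) ⊗[R] L) :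
    LinearMap.liftBaseChange S (LinearMap.id : S ⊗[R] L →ₗ[R] S ⊗[R] L)
      (TensorProduct.assoc R S S L y) = mu y := by
  induction y using TensorProduct.induction_on with
  | zero => simp
  | add x y hx hy => rw [map_add, map_add, hx, hy, map_add]
  | tmul t l =>
    induction t using TensorProduct.induction_on with
    | zero => simp
    | add x y hx hy => rw [TensorProduct.add_tmul, map_add, map_add, hx, hy, map_add]
    | tmul s₁ s₂ =>
      rw [TensorProduct.assoc_tmul, LinearMap.liftBaseChange_tmul, LinearMap.id_apply, mu, rT_tmul,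
        Algebra.TensorProduct.lmul'_apply_tmul, TensorProduct.smul_tmul', smul_eq_mul]

lemma tmul_eq_smul_one (s : S) (l : L) : s ⊗ₜ[R] l = s • ((1 : S) ⊗ₜ[R] l) := by
  rw [TensorProduct.smul_tmul', smul_eq_mul, mul_one]

lemma alpha_smul (s : S) (n : S ⊗[R] L) :
    alpha Φ (s • n) = (s ⊗ₜ[R] (1 : S) : S ⊗[R] S) • alpha Φ n := by
  rw [alpha_apply, alpha_apply, rT_smul, map_smul]
  rfl

lemma coact_smul (s : S) (n : S ⊗[R] L) : coact Φ (s • n) = s • coact Φ n := by
  rw [coact_apply, coact_apply, alpha_smul, assoc_smul_left]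

/-- (C1): the counit condition. -/
def C1 : Prop := ∀ l : L, mu (Φ ((1 : S ⊗[R] S) ⊗ₜ[R] l)) = (1 : S) ⊗ₜ[R] l

/-- (C2): the cocycle condition. -/
def C2 : Prop := ∀ l : L,
  bcLin (q23 (R := R) (S := S)) Φ (rT (q12 (R := R) (S := S)) L (Φ ((1 : S ⊗[R] S) ⊗ₜ[R] l))) =
    rT (q13 (R := R) (S := S)) L (Φ ((1 : S ⊗[R] S) ⊗ₜ[R] l))

lemma coact_counit (h1 : C1 Φ) (n : S ⊗[R] L) :
    LinearMap.liftBaseChange S (LinearMap.id : S ⊗[R] L →ₗ[R] S ⊗[R] L) (coact Φ n) = n := by
  rw [coact_apply, liftBaseChange_assoc]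
  induction n using TensorProduct.induction_on with
  | zero => simp
  | add x y hx hy => rw [map_add, map_add, hx, hy]
  | tmul s l =>
    rw [tmul_eq_smul_one, alpha_smul, mu_smul_left, alpha_apply, rT_tmul]
    have : (i1 (R := R) (S := S)) 1 = 1 := map_one _
    rw [this, h1 l]

/-- the associator `((S ⊗ T) ⊗ L) ≃ S ⊗ (T ⊗ L)` with `T = S ⊗ S`. -/
noncomputable abbrev assoc3 : (S ⊗[R] (S ⊗[R] S)) ⊗[R] L ≃ₗ[R] S ⊗[R] ((S ⊗[R] S) ⊗[R] L) :=
  TensorProduct.assoc R S (S ⊗[R] S) L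

lemma assoc3_smul_rT (s : S) (t : S ⊗[R] S) (y : (S ⊗[R] S) ⊗[R] L) :
    assoc3 (R := R) (S := S) (L := L) ((s ⊗ₜ[R] t : S ⊗[R] (S ⊗[R] S)) •
      rT (q23 (R := R) (S := S)) L y) = s ⊗ₜ[R] (t • y) := by
  induction y using TensorProduct.induction_on with
  | zero => simp
  | add x y hx hy =>
    rw [map_add, smul_add, map_add, hx, hy, smul_add, TensorProduct.tmul_add]
  | tmul t' l =>
    rw [rT_tmul, TensorProduct.smul_tmul', smul_eq_mul]
    change assoc3 (((s ⊗ₜ[R] t : S ⊗[R] (S ⊗[R] S)) * ((1 : S) ⊗ₜ[R] t')) ⊗ₜ[R] l) = _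
    rw [Algebra.TensorProduct.tmul_mul_tmul, mul_one, TensorProduct.assoc_tmul,
      TensorProduct.smul_tmul', smul_eq_mul]

/-- Claim A. -/
lemma lTensor_coact_assoc (y : (S ⊗[R] S) ⊗[R] L) :
    LinearMap.lTensor S (coact Φ) (TensorProduct.assoc R S S L y) =
      LinearMap.lTensor S (TensorProduct.assoc R S S L).toLinearMap
        (assoc3 (bcLin (q23 (R := R) (S := S)) Φ (rT (q12 (R := R) (S := S)) L y))) := by
  induction y using TensorProduct.induction_on with
  | zero => simp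
  | add x y hx hy => simp only [map_add, hx, hy]
  | tmul t l =>
    induction t using TensorProduct.induction_on with
    | zero => simp
    | add x y hx hy => simp only [TensorProduct.add_tmul, map_add, hx, hy]
    | tmul s₁ s₂ =>
      rw [TensorProduct.assoc_tmul, LinearMap.lTensor_tmul, rT_tmul, Algebra.TensorProduct.map_tmul,
        AlgHom.id_apply, bcLin_tmul, assoc3_smul_rT, LinearMap.lTensor_tmul, coact_apply,
        alpha_apply, rT_tmul, ← map_smul, TensorProduct.smul_tmul', smul_eq_mul, mul_one]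
      rfl

/-- Claim B. -/
lemma lTensor_mk_assoc (y : (S ⊗[R] S) ⊗[R] L) :
    LinearMap.lTensor S (TensorProduct.mk R S (S ⊗[R] L) 1) (TensorProduct.assoc R S S L y) =
      LinearMap.lTensor S (TensorProduct.assoc R S S L).toLinearMap
        (assoc3 (rT (q13 (R := R) (S := S)) L y)) := by
  induction y using TensorProduct.induction_on with
  | zero => simp
  | add x y hx hy => simp only [map_add, hx, hy]
  | tmul t l =>
    induction t using TensorProduct.induction_on with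
    | zero => simp
    | add x y hx hy => simp only [TensorProduct.add_tmul, map_add, hx, hy]
    | tmul s₁ s₂ =>
      rw [TensorProduct.assoc_tmul, LinearMap.lTensor_tmul, rT_tmul, Algebra.TensorProduct.map_tmul,
        AlgHom.id_apply]
      rfl

lemma cocycle_alpha (h2 : C2 Φ) (n : S ⊗[R] L) :
    bcLin (q23 (R := R) (S := S)) Φ (rT (q12 (R := R) (S := S)) L (alpha Φ n)) =
      rT (q13 (R := R) (S := S)) L (alpha Φ n) := by
  induction n using TensorProduct.induction_on with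
  | zero => simp
  | add x y hx hy => simp only [map_add, hx, hy]
  | tmul s l =>
    rw [tmul_eq_smul_one, alpha_smul, rT_smul, rT_smul, map_smul, alpha_apply, rT_tmul]
    have : (i1 (R := R) (S := S)) 1 = 1 := map_one _
    rw [this, h2 l]
    rfl

lemma coact_coassoc (h2 : C2 Φ) (n : S ⊗[R] L) :
    LinearMap.lTensor S (coact Φ) (coact Φ n) =
      LinearMap.lTensor S (TensorProduct.mk R S (S ⊗[R] L) 1) (coact Φ n) := by
  rw [coact_apply, lTensor_coact_assoc, lTensor_mk_assoc, cocycle_alpha Φ h2]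

/-- the equaliser of a descent datum. -/
noncomputable def eqz : Submodule R (S ⊗[R] L) := LinearMap.eqLocus (alpha Φ) (beta (R := R) (S := S))

lemma mem_eqz {n : S ⊗[R] L} : n ∈ eqz Φ ↔ alpha Φ n = beta (R := R) (S := S) n := Iff.rfl

lemma eqz_eq_inv : eqz Φ = inv (coact Φ) := by
  ext n
  rw [mem_eqz, mem_inv, coact_apply, ← beta_assoc, (TensorProduct.assoc R S S L).injective.eq_iff]

/-- effectivity of descent. -/
theorem bijective_liftBaseChange_eqz [Module.Flat R S] (h1 : C1 Φ) (h2 : C2 Φ) :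
    Function.Bijective (LinearMap.liftBaseChange S (eqz Φ).subtype) := by
  rw [eqz_eq_inv]
  exact comp_bijective (coact Φ) (coact_smul Φ) (coact_counit Φ h1) (coact_coassoc Φ h2)

end TForm

end Groth.Agent.Lib.Helper7.FFDesc
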