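import Mathlib
import Groth.Agent.Lib.Helper7.FFDesc2
import Groth.Agent.Lib.Helper7.PIDesc1

/-!
# Calculus of forms: linear extensions, base change of bijections, descent of elements (helper7)
-/

set_option autoImplicit false

namespace Groth.Agent.Lib.Helper7.FFDesc

open TensorProduct

universe u

section BCLin2

variable {R : Type u} [CommRing R] {K K' : Type u} [CommRing K] [Algebra R K] [CommRing K']
  [Algebra R K'] {V W U : Type u} [AddCommGroup V] [Module R V] [AddCommGroup W] [Module R W]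
  [AddCommGroup U] [Module R U]

lemma linearMap_ext_one_tmul {g h : K ⊗[R] V →ₗ[K] K ⊗[R] W}
    (H : ∀ v, g ((1 : K) ⊗ₜ[R] v) = h ((1 : K) ⊗ₜ[R] v)) : g = h := by
  apply LinearMap.ext
  intro y
  induction y using TensorProduct.induction_on with
  | zero => simp
  | add x y hx hy => rw [map_add, map_add, hx, hy]
  | tmul c v =>
    have : c ⊗ₜ[R] v = c • ((1 : K) ⊗ₜ[R] v) := by
      rw [TensorProduct.smul_tmul', smul_eq_mul, mul_one]
    rw [this, map_smul, map_smul, H]

lemma bcLin_one_tmul (σ : K →ₐ[R] K') (g : K ⊗[R] V →ₗ[K] K ⊗[R] W) (v : V) :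
    bcLin σ g ((1 : K') ⊗ₜ[R] v) = rT σ W (g ((1 : K) ⊗ₜ[R] v)) := by
  rw [bcLin_tmul, one_smul]

lemma bcLin_comp (σ : K →ₐ[R] K') (g : K ⊗[R] W →ₗ[K] K ⊗[R] U) (h : K ⊗[R] V →ₗ[K] K ⊗[R] W) :
    bcLin σ (g.comp h) = (bcLin σ g).comp (bcLin σ h) := by
  apply linearMap_ext_one_tmul
  intro v
  rw [LinearMap.comp_apply, bcLin_one_tmul, bcLin_one_tmul, bcLin_rT, LinearMap.comp_apply]

lemma bcLin_id (σ : K →ₐ[R] K') :
    bcLin σ (LinearMap.id : K ⊗[R] V →ₗ[K] K ⊗[R] V) = LinearMap.id := by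
  apply linearMap_ext_one_tmul
  intro v
  rw [bcLin_one_tmul, LinearMap.id_apply, LinearMap.id_apply, rT_tmul, map_one]

lemma bcLin_bijective (σ : K →ₐ[R] K') (g : K ⊗[R] V →ₗ[K] K ⊗[R] W)
    (hg : Function.Bijective g) : Function.Bijective (bcLin σ g) := by
  set e := LinearEquiv.ofBijective g hg with he
  have h1 : g.comp e.symm.toLinearMap = LinearMap.id := by
    apply LinearMap.ext
    intro y
    exact e.apply_symm_apply y
  have h2 : e.symm.toLinearMap.comp g = LinearMap.id := by
    apply LinearMap.ext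
    intro y
    exact e.symm_apply_apply y
  rw [Function.bijective_iff_has_inverse]
  refine ⟨bcLin σ e.symm.toLinearMap, ?_, ?_⟩
  · intro y
    have := congrArg (fun F => F y) (bcLin_comp σ e.symm.toLinearMap g)
    simp only [h2, bcLin_id] at this
    exact this.symm
  · intro y
    have := congrArg (fun F => F y) (bcLin_comp σ g e.symm.toLinearMap)
    simp only [h1, bcLin_id] at this
    exact this.symm

end BCLin2

section LemmaM

variable {R : Type u} [CommRing R] {S : Type u} [CommRing S] [Algebra R S]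
  [Module.FaithfullyFlat R S]
  {E V : Type u} [AddCommGroup E] [Module R E] [AddCommGroup V] [Module R V]

/-- descent of elements relative to a form. -/
theorem mem_range_of_form (u₀ : E →ₗ[R] S ⊗[R] V)
    (hu : Function.Bijective (LinearMap.liftBaseChange S u₀))
    (Ψ : (S ⊗[R] S) ⊗[R] V →ₗ[S ⊗[R] S] (S ⊗[R] S) ⊗[R] V)
    (hΨ : ∀ e, Ψ (rT (i1 (R := R) (S := S)) V (u₀ e)) = rT (i2 (R := R) (S := S)) V (u₀ e))
    (z : S ⊗[R] V)
    (hz : Ψ (rT (i1 (R := R) (S := S)) V z) = rT (i2 (R := R) (S := S)) V z) :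
    z ∈ LinearMap.range u₀ := by
  set g : S ⊗[R] E →ₗ[S] S ⊗[R] V := LinearMap.liftBaseChange S u₀ with hg
  have hg1 : ∀ e : E, g ((1 : S) ⊗ₜ[R] e) = u₀ e := by
    intro e
    rw [hg, LinearMap.liftBaseChange_tmul, one_smul]
  have hG2 := bcLin_bijective (i2 (R := R) (S := S)) g hu
  have hΨG : Ψ.comp (bcLin (i1 (R := R) (S := S)) g) = bcLin (i2 (R := R) (S := S)) g := by
    apply linearMap_ext_one_tmul
    intro e
    rw [LinearMap.comp_apply, bcLin_one_tmul, bcLin_one_tmul, hg1, hΨ]
  obtain ⟨w, hw⟩ := hu.2 z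
  have hw12 : rT (i1 (R := R) (S := S)) E w = rT (i2 (R := R) (S := S)) E w := by
    apply hG2.1
    rw [bcLin_rT, ← hΨG, LinearMap.comp_apply, bcLin_rT, hw, hz]
  have hmem := PIDesc.mem_range_of_map_eq (R := R) (K := S) (A := E) w hw12
  obtain ⟨e, he⟩ := hmem
  refine ⟨e, ?_⟩
  rw [← hw, ← he, ← hg1]
  rfl

end LemmaM

section Mixed

variable {R : Type u} [CommRing R] {S : Type u} [CommRing S] [Algebra R S]
  {X Y : Type u} [AddCommGroup X] [Module R X] [AddCommGroup Y] [Module R Y]
  {P Q : Type u} [AddCommGroup P] [Module R P] [Module S P] [IsScalarTower R S P]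
  [AddCommGroup Q] [Module R Q] [Module S Q] [IsScalarTower R S Q]

/-- the mixed tensor product of maps `X ⊗[R] Y → P ⊗[S] Q`. -/
noncomputable def mixedMap (f : X →ₗ[R] P) (g : Y →ₗ[R] Q) : X ⊗[R] Y →ₗ[R] P ⊗[S] Q :=
  TensorProduct.lift (((TensorProduct.mk S P Q).restrictScalars₁₂ R R).compl₁₂ f g)

@[simp] lemma mixedMap_tmul (f : X →ₗ[R] P) (g : Y →ₗ[R] Q) (x : X) (y : Y) :
    mixedMap (S := S) f g (x ⊗ₜ[R] y) = f x ⊗ₜ[S] g y := rfl

lemma liftBaseChange_mixedMap (f : X →ₗ[R] P) (g : Y →ₗ[R] Q) (w : S ⊗[R] (X ⊗[R] Y)) :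
    LinearMap.liftBaseChange S (mixedMap (S := S) f g) w =
      TensorProduct.map (LinearMap.liftBaseChange S f) (LinearMap.liftBaseChange S g)
        (AlgebraTensorModule.distribBaseChange R S X Y w) := by
  induction w using TensorProduct.induction_on with
  | zero => simp
  | add x y hx hy => rw [map_add, map_add, hx, hy, map_add]
  | tmul s d =>
    induction d using TensorProduct.induction_on with
    | zero => simp
    | add x y hx hy => rw [TensorProduct.tmul_add, map_add, map_add, hx, hy, map_add]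
    | tmul x y =>
      rw [LinearMap.liftBaseChange_tmul, mixedMap_tmul, AlgebraTensorModule.distribBaseChange_tmul,
        TensorProduct.map_tmul, LinearMap.liftBaseChange_tmul, LinearMap.liftBaseChange_tmul,
        one_smul, TensorProduct.smul_tmul']

lemma mixedMap_form (f : X →ₗ[R] P) (g : Y →ₗ[R] Q)
    (hf : Function.Bijective (LinearMap.liftBaseChange S f))
    (hg : Function.Bijective (LinearMap.liftBaseChange S g)) :
    Function.Bijective (LinearMap.liftBaseChange S (mixedMap (S := S) f g)) := by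
  have : (LinearMap.liftBaseChange S (mixedMap (S := S) f g) : S ⊗[R] (X ⊗[R] Y) → P ⊗[S] Q) =
      (TensorProduct.congr (LinearEquiv.ofBijective _ hf) (LinearEquiv.ofBijective _ hg)) ∘
        (AlgebraTensorModule.distribBaseChange R S X Y) := by
    funext w
    rw [liftBaseChange_mixedMap]
    rfl
  rw [this]
  exact (LinearEquiv.bijective _).comp (LinearEquiv.bijective _)

lemma form_injective [Module.FaithfullyFlat R S] (f : X →ₗ[R] P)
    (hf : Function.Bijective (LinearMap.liftBaseChange S f)) : Function.Injective f := by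
  intro x x' h
  have h1 : (1 : S) ⊗ₜ[R] x = (1 : S) ⊗ₜ[R] x' := by
    apply hf.1
    rw [LinearMap.liftBaseChange_tmul, LinearMap.liftBaseChange_tmul, h]
  exact Module.FaithfullyFlat.tensorProduct_mk_injective (A := R) (B := S) X h1

end Mixed

end Groth.Agent.Lib.Helper7.FFDesc
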