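import Mathlib
import Groth.Agent.Lib.Helper7.FFDesc3
import Groth.Agent.Lib.Helper7.NilLift2

/-!
# Hopf algebra structure on a form (helper7)

`H` a commutative Hopf algebra over `S`, `S` faithfully flat over `R`, `j : A → H` an `R`-algebra map
with `S ⊗[R] A ≅ H`, such that comultiplication, counit and antipode of `H` preserve `A`.  Then `A`
is an `R`-Hopf algebra and `S ⊗[R] A ≅ H` as bialgebras.
-/

set_option autoImplicit false

namespace Groth.Agent.Lib.Helper7.FFDesc

open TensorProduct

universe u

section Lift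

variable {R : Type u} [CommRing R] {A X Y : Type u} [CommRing A] [Algebra R A] [CommRing X]
  [Algebra R X] [CommRing Y] [Algebra R Y]

/-- factor an algebra map through an injective one. -/
noncomputable def liftOfRange (c : X →ₐ[R] Y) (hc : Function.Injective c) (f : A →ₐ[R] Y)
    (h : ∀ a, ∃ x, c x = f a) : A →ₐ[R] X :=
  ((AlgEquiv.ofInjective c hc).symm : c.range →ₐ[R] X).comp
    (f.codRestrict c.range (fun a => by obtain ⟨x, hx⟩ := h a; exact ⟨x, hx⟩))

lemma liftOfRange_spec (c : X →ₐ[R] Y) (hc : Function.Injective c) (f : A →ₐ[R] Y)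
    (h : ∀ a, ∃ x, c x = f a) (a : A) : c (liftOfRange c hc f h a) = f a := by
  unfold liftOfRange
  rw [AlgHom.comp_apply]
  exact congrArg Subtype.val ((AlgEquiv.ofInjective c hc).apply_symm_apply _)

end Lift

section Main

variable {R : Type u} [CommRing R] {S : Type u} [CommRing S] [Algebra R S]
  [Module.FaithfullyFlat R S]
  {H : Type u} [CommRing H] [HopfAlgebra S H] [Algebra R H] [IsScalarTower R S H]
  {A : Type u} [CommRing A] [Algebra R A] (j : A →ₐ[R] H)

/-- `A ⊗[R] A → H ⊗[S] H`. -/
noncomputable def mm2 : A ⊗[R] A →ₐ[R] H ⊗[S] H :=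
  Algebra.TensorProduct.productMap
    ((Algebra.TensorProduct.includeLeft : H →ₐ[R] H ⊗[S] H).comp j)
    (((Algebra.TensorProduct.includeRight : H →ₐ[S] H ⊗[S] H).restrictScalars R).comp j)

@[simp] lemma mm2_tmul (x y : A) : mm2 (S := S) j (x ⊗ₜ[R] y) = j x ⊗ₜ[S] j y := by
  rw [mm2, Algebra.TensorProduct.productMap_apply_tmul]
  change (j x ⊗ₜ[S] (1 : H)) * ((1 : H) ⊗ₜ[S] j y) = _
  rw [Algebra.TensorProduct.tmul_mul_tmul, mul_one, one_mul]

lemma mm2_toLinearMap :
    (mm2 (S := S) j).toLinearMap = mixedMap (S := S) j.toLinearMap j.toLinearMap := by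
  apply TensorProduct.ext'
  intro x y
  rw [AlgHom.toLinearMap_apply, mm2_tmul]
  rfl

/-- `A ⊗[R] (A ⊗[R] A) → H ⊗[S] (H ⊗[S] H)`. -/
noncomputable def mm3 : A ⊗[R] (A ⊗[R] A) →ₐ[R] H ⊗[S] (H ⊗[S] H) :=
  Algebra.TensorProduct.productMap
    ((Algebra.TensorProduct.includeLeft : H →ₐ[R] H ⊗[S] (H ⊗[S] H)).comp j)
    (((Algebra.TensorProduct.includeRight : H ⊗[S] H →ₐ[S] H ⊗[S] (H ⊗[S] H)).restrictScalars
      R).comp (mm2 (S := S) j))

@[simp] lemma mm3_tmul (x : A) (d : A ⊗[R] A) :
    mm3 (S := S) j (x ⊗ₜ[R] d) = j x ⊗ₜ[S] mm2 (S := S) j d := by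
  rw [mm3, Algebra.TensorProduct.productMap_apply_tmul]
  change (j x ⊗ₜ[S] (1 : H ⊗[S] H)) * ((1 : H) ⊗ₜ[S] mm2 (S := S) j d) = _
  rw [Algebra.TensorProduct.tmul_mul_tmul, mul_one, one_mul]

lemma mm3_toLinearMap :
    (mm3 (S := S) j).toLinearMap =
      mixedMap (S := S) j.toLinearMap (mm2 (S := S) j).toLinearMap := by
  apply TensorProduct.ext'
  intro x y
  rw [AlgHom.toLinearMap_apply, mm3_tmul]
  rfl

/-- `(A ⊗[R] A) ⊗[R] A → (H ⊗[S] H) ⊗[S] H`. -/
noncomputable def mm3' : (A ⊗[R] A) ⊗[R] A →ₐ[R] (H ⊗[S] H) ⊗[S] H :=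
  Algebra.TensorProduct.productMap
    ((Algebra.TensorProduct.includeLeft : H ⊗[S] H →ₐ[R] (H ⊗[S] H) ⊗[S] H).comp (mm2 (S := S) j))
    (((Algebra.TensorProduct.includeRight : H →ₐ[S] (H ⊗[S] H) ⊗[S] H).restrictScalars
      R).comp j)

@[simp] lemma mm3'_tmul (d : A ⊗[R] A) (x : A) :
    mm3' (S := S) j (d ⊗ₜ[R] x) = mm2 (S := S) j d ⊗ₜ[S] j x := by
  rw [mm3', Algebra.TensorProduct.productMap_apply_tmul]
  change (mm2 (S := S) j d ⊗ₜ[S] (1 : H)) * ((1 : H ⊗[S] H) ⊗ₜ[S] j x) = _
  rw [Algebra.TensorProduct.tmul_mul_tmul, mul_one, one_mul]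

variable (hj : Function.Bijective (LinearMap.liftBaseChange S j.toLinearMap))

include hj in
lemma mm2_form : Function.Bijective (LinearMap.liftBaseChange S (mm2 (S := S) j).toLinearMap) := by
  rw [mm2_toLinearMap]
  exact mixedMap_form _ _ hj hj

include hj in
lemma mm2_injective : Function.Injective (mm2 (S := S) j) :=
  form_injective (S := S) _ (mm2_form j hj)

include hj in
lemma mm3_injective : Function.Injective (mm3 (S := S) j) := by
  apply form_injective (S := S) (mm3 (S := S) j).toLinearMap
  rw [mm3_toLinearMap]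
  exact mixedMap_form _ _ hj (mm2_form j hj)

include hj in
lemma j_injective : Function.Injective j := form_injective (S := S) j.toLinearMap hj

variable (hΔ : ∀ x, ∃ d, mm2 (S := S) j d =
    (((Bialgebra.comulAlgHom S H).restrictScalars R).comp j) x)
  (hε : ∀ x, ∃ r : R, Algebra.ofId R S r =
    (((Bialgebra.counitAlgHom S H).restrictScalars R).comp j) x)
  (hanti : ∀ x, ∃ y, j y = (((HopfAlgebra.antipodeAlgHom S H).restrictScalars R).comp j) x)

/-- the comultiplication of the form. -/
noncomputable def comulA : A →ₐ[R] A ⊗[R] A :=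
  liftOfRange (mm2 (S := S) j) (mm2_injective j hj) _ hΔ

lemma mm2_comulA (x : A) : mm2 (S := S) j (comulA j hj hΔ x) = Coalgebra.comul (R := S) (j x) :=
  liftOfRange_spec _ _ _ hΔ x

/-- the counit of the form. -/
noncomputable def counitA : A →ₐ[R] R :=
  liftOfRange (Algebra.ofId R S) (FaithfulSMul.algebraMap_injective R S) _ hε

lemma algebraMap_counitA (x : A) :
    algebraMap R S (counitA (S := S) j hε x) = Coalgebra.counit (R := S) (j x) :=
  liftOfRange_spec _ _ _ hε x

/-- the antipode of the form. -/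
noncomputable def antipodeA : A →ₐ[R] A := liftOfRange j (j_injective j hj) _ hanti

lemma j_antipodeA (x : A) : j (antipodeA j hj hanti x) = HopfAlgebra.antipode S (j x) :=
  liftOfRange_spec _ _ _ hanti x

lemma assoc_nat (w : (A ⊗[R] A) ⊗[R] A) :
    mm3 (S := S) j (Algebra.TensorProduct.assoc R R R A A A w) =
      Algebra.TensorProduct.assoc S S S H H H (mm3' (S := S) j w) := by
  induction w using TensorProduct.induction_on with
  | zero => simp
  | add y z hy hz => simp only [map_add, hy, hz]
  | tmul d c =>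
    induction d using TensorProduct.induction_on with
    | zero => simp
    | add y z hy hz => simp only [TensorProduct.add_tmul, map_add, hy, hz]
    | tmul a b =>
      rw [Algebra.TensorProduct.assoc_tmul, mm3_tmul, mm2_tmul, mm3'_tmul, mm2_tmul,
        Algebra.TensorProduct.assoc_tmul]

lemma mm3'_map_comulA (d : A ⊗[R] A) :
    mm3' (S := S) j (Algebra.TensorProduct.map (comulA j hj hΔ) (AlgHom.id R A) d) =
      Algebra.TensorProduct.map (Bialgebra.comulAlgHom S H) (AlgHom.id S H) (mm2 (S := S) j d) := by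
  induction d using TensorProduct.induction_on with
  | zero => simp
  | add y z hy hz => simp only [map_add, hy, hz]
  | tmul a b =>
    rw [Algebra.TensorProduct.map_tmul, mm3'_tmul, mm2_comulA, mm2_tmul,
      Algebra.TensorProduct.map_tmul]
    rfl

lemma mm3_map_comulA (d : A ⊗[R] A) :
    mm3 (S := S) j (Algebra.TensorProduct.map (AlgHom.id R A) (comulA j hj hΔ) d) =
      Algebra.TensorProduct.map (AlgHom.id S H) (Bialgebra.comulAlgHom S H) (mm2 (S := S) j d) := by
  induction d using TensorProduct.induction_on with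
  | zero => simp
  | add y z hy hz => simp only [map_add, hy, hz]
  | tmul a b =>
    rw [Algebra.TensorProduct.map_tmul, mm3_tmul, mm2_comulA, mm2_tmul,
      Algebra.TensorProduct.map_tmul]
    rfl

lemma coassocA :
    (Algebra.TensorProduct.assoc R R R A A A).toAlgHom.comp
        ((Algebra.TensorProduct.map (comulA j hj hΔ) (AlgHom.id R A)).comp (comulA j hj hΔ)) =
      (Algebra.TensorProduct.map (AlgHom.id R A) (comulA j hj hΔ)).comp (comulA j hj hΔ) := by
  apply AlgHom.ext
  intro x
  apply mm3_injective j hj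
  simp only [AlgHom.comp_apply]
  refine (assoc_nat j _).trans ?_
  rw [mm3'_map_comulA, mm3_map_comulA, mm2_comulA]
  exact Coalgebra.coassoc_apply (R := S) (j x)

lemma j_lid_map_counitA (d : A ⊗[R] A) :
    j (Algebra.TensorProduct.lid R A
        (Algebra.TensorProduct.map (counitA (S := S) j hε) (AlgHom.id R A) d)) =
      Algebra.TensorProduct.lid S H
        (Algebra.TensorProduct.map (Bialgebra.counitAlgHom S H) (AlgHom.id S H)
          (mm2 (S := S) j d)) := by
  induction d using TensorProduct.induction_on with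
  | zero => simp
  | add y z hy hz => simp only [map_add, hy, hz]
  | tmul a b =>
    rw [Algebra.TensorProduct.map_tmul, Algebra.TensorProduct.lid_tmul, mm2_tmul,
      Algebra.TensorProduct.map_tmul, Algebra.TensorProduct.lid_tmul, AlgHom.id_apply,
      AlgHom.id_apply, map_smul, ← algebraMap_smul S, algebraMap_counitA]
    rfl

lemma j_rid_map_counitA (d : A ⊗[R] A) :
    j (Algebra.TensorProduct.rid R R A
        (Algebra.TensorProduct.map (AlgHom.id R A) (counitA (S := S) j hε) d)) =
      Algebra.TensorProduct.rid S S H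
        (Algebra.TensorProduct.map (AlgHom.id S H) (Bialgebra.counitAlgHom S H)
          (mm2 (S := S) j d)) := by
  induction d using TensorProduct.induction_on with
  | zero => simp
  | add y z hy hz => simp only [map_add, hy, hz]
  | tmul a b =>
    rw [Algebra.TensorProduct.map_tmul, Algebra.TensorProduct.rid_tmul, mm2_tmul,
      Algebra.TensorProduct.map_tmul, Algebra.TensorProduct.rid_tmul, AlgHom.id_apply,
      AlgHom.id_apply, map_smul, ← algebraMap_smul S, algebraMap_counitA]
    rfl

lemma rTensorA :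
    (Algebra.TensorProduct.map (counitA (S := S) j hε) (AlgHom.id R A)).comp (comulA j hj hΔ) =
      (Algebra.TensorProduct.lid R A).symm := by
  apply AlgHom.ext
  intro x
  rw [AlgHom.comp_apply]
  apply (Algebra.TensorProduct.lid R A).injective
  apply j_injective j hj
  rw [j_lid_map_counitA, mm2_comulA]
  have h := Coalgebra.rTensor_counit_comul (R := S) (j x)
  have h2 : Algebra.TensorProduct.map (Bialgebra.counitAlgHom S H) (AlgHom.id S H)
      (Coalgebra.comul (R := S) (j x)) = (1 : S) ⊗ₜ[S] (j x) := h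
  rw [h2]
  simp

lemma lTensorA :
    (Algebra.TensorProduct.map (AlgHom.id R A) (counitA (S := S) j hε)).comp (comulA j hj hΔ) =
      (Algebra.TensorProduct.rid R R A).symm := by
  apply AlgHom.ext
  intro x
  rw [AlgHom.comp_apply]
  apply (Algebra.TensorProduct.rid R R A).injective
  apply j_injective j hj
  rw [j_rid_map_counitA, mm2_comulA]
  have h := Coalgebra.lTensor_counit_comul (R := S) (j x)
  have h2 : Algebra.TensorProduct.map (AlgHom.id S H) (Bialgebra.counitAlgHom S H)
      (Coalgebra.comul (R := S) (j x)) = (j x) ⊗ₜ[S] (1 : S) := h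
  rw [h2]
  simp

/-- the bialgebra structure on a form. -/
@[reducible] noncomputable def bialgebraA : Bialgebra R A :=
  Bialgebra.ofAlgHom (comulA j hj hΔ) (counitA (S := S) j hε) (coassocA j hj hΔ)
    (rTensorA j hj hΔ hε) (lTensorA j hj hΔ hε)

lemma lift_antipode_id' (z : H ⊗[S] H) :
    Algebra.TensorProduct.lift (HopfAlgebra.antipodeAlgHom S H) (AlgHom.id S H)
      (fun _ _ => Commute.all _ _) z =
      LinearMap.mul' S H (LinearMap.rTensor H (HopfAlgebra.antipode S) z) := by
  induction z using TensorProduct.induction_on with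
  | zero => simp
  | tmul a b => simp
  | add y z hy hz => simp only [map_add, hy, hz]

lemma lift_id_antipode' (z : H ⊗[S] H) :
    Algebra.TensorProduct.lift (AlgHom.id S H) (HopfAlgebra.antipodeAlgHom S H)
      (fun _ _ => Commute.all _ _) z =
      LinearMap.mul' S H (LinearMap.lTensor H (HopfAlgebra.antipode S) z) := by
  induction z using TensorProduct.induction_on with
  | zero => simp
  | tmul a b => simp
  | add y z hy hz => simp only [map_add, hy, hz]

lemma j_lift_antipodeA_id (d : A ⊗[R] A) :
    j (Algebra.TensorProduct.lift (antipodeA j hj hanti) (AlgHom.id R A)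
      (fun _ _ => Commute.all _ _) d) =
      Algebra.TensorProduct.lift (HopfAlgebra.antipodeAlgHom S H) (AlgHom.id S H)
        (fun _ _ => Commute.all _ _) (mm2 (S := S) j d) := by
  induction d using TensorProduct.induction_on with
  | zero => simp
  | add y z hy hz => simp only [map_add, hy, hz]
  | tmul a b =>
    rw [Algebra.TensorProduct.lift_tmul, mm2_tmul, Algebra.TensorProduct.lift_tmul, map_mul,
      j_antipodeA]
    rfl

lemma j_lift_id_antipodeA (d : A ⊗[R] A) :
    j (Algebra.TensorProduct.lift (AlgHom.id R A) (antipodeA j hj hanti)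
      (fun _ _ => Commute.all _ _) d) =
      Algebra.TensorProduct.lift (AlgHom.id S H) (HopfAlgebra.antipodeAlgHom S H)
        (fun _ _ => Commute.all _ _) (mm2 (S := S) j d) := by
  induction d using TensorProduct.induction_on with
  | zero => simp
  | add y z hy hz => simp only [map_add, hy, hz]
  | tmul a b =>
    rw [Algebra.TensorProduct.lift_tmul, mm2_tmul, Algebra.TensorProduct.lift_tmul, map_mul,
      j_antipodeA]
    rfl

/-- the Hopf algebra structure on a form. -/
@[reducible] noncomputable def hopfAlgebraA : HopfAlgebra R A :=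
  letI := bialgebraA j hj hΔ hε
  HopfAlgebra.ofAlgHom (antipodeA j hj hanti)
    (by
      apply AlgHom.ext
      intro x
      apply j_injective j hj
      change j (Algebra.TensorProduct.lift (antipodeA j hj hanti) (AlgHom.id R A)
        (fun _ _ => Commute.all _ _) (comulA j hj hΔ x)) =
          j (algebraMap R A (counitA (S := S) j hε x))
      rw [j_lift_antipodeA_id, mm2_comulA, lift_antipode_id',
        HopfAlgebra.mul_antipode_rTensor_comul_apply, AlgHom.commutes,
        IsScalarTower.algebraMap_apply R S H, algebraMap_counitA])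
    (by
      apply AlgHom.ext
      intro x
      apply j_injective j hj
      change j (Algebra.TensorProduct.lift (AlgHom.id R A) (antipodeA j hj hanti)
        (fun _ _ => Commute.all _ _) (comulA j hj hΔ x)) =
          j (algebraMap R A (counitA (S := S) j hε x))
      rw [j_lift_id_antipodeA, mm2_comulA, lift_id_antipode',
        HopfAlgebra.mul_antipode_lTensor_comul_apply, AlgHom.commutes,
        IsScalarTower.algebraMap_apply R S H, algebraMap_counitA])

section API

lemma comul_eq_comulA (x : A) :
    letI := hopfAlgebraA j hj hΔ hε hanti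
    Coalgebra.comul (R := R) x = comulA j hj hΔ x := rfl

lemma counit_eq_counitA (x : A) :
    letI := hopfAlgebraA j hj hΔ hε hanti
    Coalgebra.counit (R := R) x = counitA (S := S) j hε x := rfl

/-- `θ : S ⊗ A → H`. -/
noncomputable def thetaAlg : S ⊗[R] A →ₐ[S] H :=
  Algebra.TensorProduct.productLeftAlgHom (Algebra.ofId S H) j

omit [Module.FaithfullyFlat R S] in
lemma thetaAlg_tmul (s : S) (x : A) : thetaAlg (S := S) j (s ⊗ₜ[R] x) = s • j x := by
  rw [thetaAlg, Algebra.TensorProduct.lift_tmul, Algebra.smul_def]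
  rfl

omit [Module.FaithfullyFlat R S] in
lemma thetaAlg_eq (w : S ⊗[R] A) :
    thetaAlg (S := S) j w = LinearMap.liftBaseChange S j.toLinearMap w := by
  induction w using TensorProduct.induction_on with
  | zero => simp
  | add y z hy hz => rw [map_add, map_add, hy, hz]
  | tmul s x =>
    rw [thetaAlg_tmul, LinearMap.liftBaseChange_tmul]
    rfl

include hj in
omit [Module.FaithfullyFlat R S] in
lemma thetaAlg_bijective : Function.Bijective (thetaAlg (S := S) j) := by
  have : (thetaAlg (S := S) j : S ⊗[R] A → H) = LinearMap.liftBaseChange S j.toLinearMap := by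
    funext w
    exact thetaAlg_eq j w
  rw [this]
  exact hj

omit [Module.FaithfullyFlat R S] in
lemma thetaAlg_toLinearMap :
    (thetaAlg (S := S) j).toLinearMap = LinearMap.liftBaseChange S j.toLinearMap :=
  LinearMap.ext (fun w => thetaAlg_eq j w)

lemma map_theta_distrib (s : S) (d : A ⊗[R] A) :
    Algebra.TensorProduct.map (thetaAlg (S := S) j) (thetaAlg (S := S) j)
      (AlgebraTensorModule.distribBaseChange R S A A (s ⊗ₜ[R] d)) = s • mm2 (S := S) j d := by
  have h1 := liftBaseChange_mixedMap (S := S) j.toLinearMap j.toLinearMap (s ⊗ₜ[R] d)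
  rw [← mm2_toLinearMap, LinearMap.liftBaseChange_tmul, ← thetaAlg_toLinearMap] at h1
  exact h1.symm

/-- `θ` as a bialgebra isomorphism. -/
theorem exists_bialgEquiv :
    letI := hopfAlgebraA j hj hΔ hε hanti
    ∃ θ : S ⊗[R] A ≃ₐc[S] H, ∀ (s : S) (x : A), θ (s ⊗ₜ[R] x) = s • j x := by
  letI := hopfAlgebraA j hj hΔ hε hanti
  have hcounit : (Bialgebra.counitAlgHom S H).comp (thetaAlg (S := S) j) =
      Bialgebra.counitAlgHom S (S ⊗[R] A) := by
    apply AlgHom.ext
    intro w
    induction w using TensorProduct.induction_on with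
    | zero => simp
    | add y z hy hz => rw [map_add, map_add, hy, hz]
    | tmul s x =>
      change Coalgebra.counit (R := S) (thetaAlg (S := S) j (s ⊗ₜ[R] x)) =
        Coalgebra.counit (R := S) (s ⊗ₜ[R] x : S ⊗[R] A)
      rw [thetaAlg_tmul, map_smul, ← algebraMap_counitA j hε, TensorProduct.counit_tmul,
        CommSemiring.counit_apply, counit_eq_counitA j hj hΔ hε hanti, Algebra.smul_def,
        Algebra.smul_def, mul_comm]
      rfl
  have hcomul : (Algebra.TensorProduct.map (thetaAlg (S := S) j) (thetaAlg (S := S) j)).comp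
      (Bialgebra.comulAlgHom S (S ⊗[R] A)) = (Bialgebra.comulAlgHom S H).comp
        (thetaAlg (S := S) j) := by
    apply AlgHom.ext
    intro w
    induction w using TensorProduct.induction_on with
    | zero => simp
    | add y z hy hz => rw [map_add, map_add, hy, hz]
    | tmul s x =>
      change Algebra.TensorProduct.map (thetaAlg (S := S) j) (thetaAlg (S := S) j)
        (Coalgebra.comul (R := S) (s ⊗ₜ[R] x : S ⊗[R] A)) =
          Coalgebra.comul (R := S) (thetaAlg (S := S) j (s ⊗ₜ[R] x))
      rw [Groth.Agent.Lib.Helper7.BCR.comul_tmul_eq,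
        Groth.Agent.Lib.Helper7.NilLift.bcPair_eq_distrib, comul_eq_comulA j hj hΔ hε hanti,
        map_theta_distrib, mm2_comulA, thetaAlg_tmul, map_smul]
  refine ⟨BialgEquiv.ofBijective (BialgHom.ofAlgHom (thetaAlg (S := S) j) hcounit hcomul)
    (thetaAlg_bijective j hj), ?_⟩
  intro s x
  exact thetaAlg_tmul j s x

end API

end Main

end Groth.Agent.Lib.Helper7.FFDesc
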