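import Mathlib
import Groth.Agent.Lib.Helper7.FFDesc4
import Groth.Agent.Lib.Helper7.HopfIdealR

/-!
# Faithfully flat descent of Hopf algebras along a descent datum on `S ⊗[R] L` (helper7)
-/

set_option autoImplicit false

namespace Groth.Agent.Lib.Helper7.FFDesc

open TensorProduct

universe u

section Compat

variable {R : Type u} [CommRing R] {X Y : Type u} [CommRing X] [Algebra R X] [CommRing Y]
  [Algebra R Y] {L : Type u} [CommRing L] [HopfAlgebra R L]

lemma algMap_eq_rT (ρ : X →ₐ[R] Y) (h : X ⊗[R] L) :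
    Algebra.TensorProduct.map ρ (AlgHom.id R L) h = rT ρ L h := by
  induction h using TensorProduct.induction_on with
  | zero => simp
  | add x y hx hy => rw [map_add, map_add, hx, hy]
  | tmul a l => rfl

lemma rT_distrib_symm (ρ : X →ₐ[R] Y) (h h' : X ⊗[R] L) :
    rT ρ (L ⊗[R] L) ((AlgebraTensorModule.distribBaseChange R X L L).symm (h ⊗ₜ[X] h')) =
      (AlgebraTensorModule.distribBaseChange R Y L L).symm (rT ρ L h ⊗ₜ[Y] rT ρ L h') := by
  induction h using TensorProduct.induction_on with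
  | zero => simp
  | add x y hx hy => simp only [TensorProduct.add_tmul, map_add, hx, hy]
  | tmul a l =>
    induction h' using TensorProduct.induction_on with
    | zero => simp
    | add x y hx hy => simp only [TensorProduct.tmul_add, map_add, hx, hy]
    | tmul b l' =>
      rw [AlgebraTensorModule.distribBaseChange_symm_tmul, rT_tmul, rT_tmul, rT_tmul,
        AlgebraTensorModule.distribBaseChange_symm_tmul, map_mul]

lemma rT_lTensor_comul (ρ : X →ₐ[R] Y) (h : X ⊗[R] L) :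
    rT ρ (L ⊗[R] L) (LinearMap.lTensor X (Coalgebra.comul (R := R) (A := L)) h) =
      LinearMap.lTensor Y (Coalgebra.comul (R := R) (A := L)) (rT ρ L h) := by
  induction h using TensorProduct.induction_on with
  | zero => simp
  | add x y hx hy => simp only [map_add, hx, hy]
  | tmul a l => rfl

lemma counit_rT (ρ : X →ₐ[R] Y) (h : X ⊗[R] L) :
    Coalgebra.counit (R := Y) (rT ρ L h) = ρ (Coalgebra.counit (R := X) h) := by
  induction h using TensorProduct.induction_on with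
  | zero => simp
  | add x y hx hy => simp only [map_add, hx, hy]
  | tmul a l =>
    rw [rT_tmul, TensorProduct.counit_tmul, TensorProduct.counit_tmul, CommSemiring.counit_apply,
      CommSemiring.counit_apply, map_smul]

lemma antipode_rT (ρ : X →ₐ[R] Y) (h : X ⊗[R] L) :
    HopfAlgebra.antipode Y (rT ρ L h) = rT ρ L (HopfAlgebra.antipode X h) := by
  induction h using TensorProduct.induction_on with
  | zero => simp
  | add x y hx hy => simp only [map_add, hx, hy]
  | tmul a l =>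
    rw [rT_tmul, TensorProduct.antipode_def, TensorProduct.antipode_def,
      AlgebraTensorModule.map_tmul, AlgebraTensorModule.map_tmul, rT_tmul]
    rfl

end Compat

section Descent

variable {R : Type u} [CommRing R] {S : Type u} [CommRing S] [Algebra R S]
  [Module.FaithfullyFlat R S] {L : Type u} [CommRing L] [HopfAlgebra R L]
  (Φ : (S ⊗[R] S) ⊗[R] L →ₐc[S ⊗[R] S] (S ⊗[R] S) ⊗[R] L)

/-- the underlying linear map of a descent datum. -/
noncomputable abbrev lin : (S ⊗[R] S) ⊗[R] L →ₗ[S ⊗[R] S] (S ⊗[R] S) ⊗[R] L :=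
  (Φ : (S ⊗[R] S) ⊗[R] L →ₐ[S ⊗[R] S] (S ⊗[R] S) ⊗[R] L).toLinearMap

lemma lin_apply (y : (S ⊗[R] S) ⊗[R] L) : lin Φ y = Φ y := rfl

/-- the descended algebra. -/
noncomputable def descAlg : Subalgebra R (S ⊗[R] L) :=
  AlgHom.equalizer
    (((Φ : (S ⊗[R] S) ⊗[R] L →ₐ[S ⊗[R] S] (S ⊗[R] S) ⊗[R] L).restrictScalars R).comp
      (Algebra.TensorProduct.map (i1 (R := R) (S := S)) (AlgHom.id R L)))
    (Algebra.TensorProduct.map (i2 (R := R) (S := S)) (AlgHom.id R L))

omit [Module.FaithfullyFlat R S] in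
lemma mem_descAlg {z : S ⊗[R] L} :
    z ∈ descAlg Φ ↔ Φ (rT (i1 (R := R) (S := S)) L z) = rT (i2 (R := R) (S := S)) L z := by
  rw [descAlg, AlgHom.mem_equalizer, AlgHom.comp_apply, algMap_eq_rT, algMap_eq_rT]
  rfl

omit [Module.FaithfullyFlat R S] in
lemma descAlg_toSubmodule : Subalgebra.toSubmodule (descAlg Φ) = eqz (lin Φ) := by
  ext z
  rw [Subalgebra.mem_toSubmodule, mem_descAlg, mem_eqz]
  rfl

lemma descAlg_form (h1 : C1 (lin Φ)) (h2 : C2 (lin Φ)) :
    Function.Bijective (LinearMap.liftBaseChange S (descAlg Φ).val.toLinearMap) := by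
  have hb := bijective_liftBaseChange_eqz (lin Φ) h1 h2
  let e : ↥(eqz (lin Φ)) ≃ₗ[R] ↥(descAlg Φ) :=
    (LinearEquiv.ofEq _ _ (descAlg_toSubmodule Φ).symm).trans (Subalgebra.toSubmoduleEquiv _)
  have : (LinearMap.liftBaseChange S (descAlg Φ).val.toLinearMap : S ⊗[R] ↥(descAlg Φ) → _) =
      (LinearMap.liftBaseChange S (eqz (lin Φ)).subtype) ∘ (LinearEquiv.lTensor S e.symm) := by
    funext w
    induction w using TensorProduct.induction_on with
    | zero => simp
    | add x y hx hy => simp only [map_add, hx, hy, Function.comp_apply]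
    | tmul s x =>
      rw [Function.comp_apply, LinearEquiv.lTensor_tmul, LinearMap.liftBaseChange_tmul,
        LinearMap.liftBaseChange_tmul]
      rfl
  rw [this]
  exact hb.comp (LinearEquiv.bijective _)

/-- `Φ ⊗ Φ` on `T ⊗ (L ⊗ L)`. -/
noncomputable def Phi2 : (S ⊗[R] S) ⊗[R] (L ⊗[R] L) →ₗ[S ⊗[R] S] (S ⊗[R] S) ⊗[R] (L ⊗[R] L) :=
  (AlgebraTensorModule.distribBaseChange R (S ⊗[R] S) L L).symm.toLinearMap.comp
    ((TensorProduct.map (lin Φ) (lin Φ)).comp
      (AlgebraTensorModule.distribBaseChange R (S ⊗[R] S) L L).toLinearMap)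

omit [Module.FaithfullyFlat R S] in
lemma Phi2_distrib_symm (y y' : (S ⊗[R] S) ⊗[R] L) :
    Phi2 Φ ((AlgebraTensorModule.distribBaseChange R (S ⊗[R] S) L L).symm (y ⊗ₜ[S ⊗[R] S] y')) =
      (AlgebraTensorModule.distribBaseChange R (S ⊗[R] S) L L).symm (Φ y ⊗ₜ[S ⊗[R] S] Φ y') := by
  rw [Phi2, LinearMap.comp_apply, LinearMap.comp_apply, LinearEquiv.coe_coe, LinearEquiv.coe_coe,
    LinearEquiv.apply_symm_apply, TensorProduct.map_tmul]
  rfl

omit [Module.FaithfullyFlat R S] in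
lemma Phi2_lTensor_comul (y : (S ⊗[R] S) ⊗[R] L) :
    Phi2 Φ (LinearMap.lTensor (S ⊗[R] S) (Coalgebra.comul (R := R) (A := L)) y) =
      LinearMap.lTensor (S ⊗[R] S) (Coalgebra.comul (R := R) (A := L)) (Φ y) := by
  rw [Phi2, LinearMap.comp_apply, LinearMap.comp_apply, LinearEquiv.coe_coe, LinearEquiv.coe_coe,
    ← Groth.Agent.Lib.Helper7.NilLift.comul_eq_distrib]
  have h := CoalgHomClass.map_comp_comul_apply Φ y
  have h' : TensorProduct.map (lin Φ) (lin Φ) (Coalgebra.comul (R := S ⊗[R] S) y) =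
      Coalgebra.comul (R := S ⊗[R] S) (Φ y) := h
  rw [h', Groth.Agent.Lib.Helper7.NilLift.comul_eq_distrib, LinearEquiv.symm_apply_apply]

/-- `A ⊗ A → S ⊗ (L ⊗ L)`. -/
noncomputable def u0 : ↥(descAlg Φ) ⊗[R] ↥(descAlg Φ) →ₗ[R] S ⊗[R] (L ⊗[R] L) :=
  ((AlgebraTensorModule.distribBaseChange R S L L).symm.toLinearMap.restrictScalars R).comp
    (mm2 (S := S) (descAlg Φ).val).toLinearMap

lemma u0_apply (d : ↥(descAlg Φ) ⊗[R] ↥(descAlg Φ)) :
    u0 Φ d = (AlgebraTensorModule.distribBaseChange R S L L).symm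
      (mm2 (S := S) (descAlg Φ).val d) := rfl

lemma u0_tmul (a b : ↥(descAlg Φ)) :
    u0 Φ (a ⊗ₜ[R] b) = (AlgebraTensorModule.distribBaseChange R S L L).symm
      ((a : S ⊗[R] L) ⊗ₜ[S] (b : S ⊗[R] L)) := by
  rw [u0_apply, mm2_tmul]
  rfl

lemma u0_form (h1 : C1 (lin Φ)) (h2 : C2 (lin Φ)) :
    Function.Bijective (LinearMap.liftBaseChange S (u0 Φ)) := by
  have hform := descAlg_form Φ h1 h2
  have : (LinearMap.liftBaseChange S (u0 Φ) : S ⊗[R] (↥(descAlg Φ) ⊗[R] ↥(descAlg Φ)) → _) =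
      (AlgebraTensorModule.distribBaseChange R S L L).symm ∘
        (LinearMap.liftBaseChange S (mm2 (S := S) (descAlg Φ).val).toLinearMap) := by
    funext w
    induction w using TensorProduct.induction_on with
    | zero => simp
    | add x y hx hy => simp only [map_add, hx, hy, Function.comp_apply]
    | tmul s d =>
      rw [Function.comp_apply, LinearMap.liftBaseChange_tmul, LinearMap.liftBaseChange_tmul,
        u0_apply, map_smul]
      rfl
  rw [this]
  exact (LinearEquiv.bijective _).comp (mm2_form _ hform)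

lemma u0_compat (e : ↥(descAlg Φ) ⊗[R] ↥(descAlg Φ)) :
    Phi2 Φ (rT (i1 (R := R) (S := S)) (L ⊗[R] L) (u0 Φ e)) =
      rT (i2 (R := R) (S := S)) (L ⊗[R] L) (u0 Φ e) := by
  induction e using TensorProduct.induction_on with
  | zero => simp
  | add x y hx hy => simp only [map_add, hx, hy]
  | tmul a b =>
    rw [u0_tmul, rT_distrib_symm, Phi2_distrib_symm, rT_distrib_symm, (mem_descAlg Φ).1 a.2,
      (mem_descAlg Φ).1 b.2]

omit [Module.FaithfullyFlat R S] in
lemma descAlg_hz (x : descAlg Φ) : Phi2 Φ (rT (i1 (R := R) (S := S)) (L ⊗[R] L)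
      (LinearMap.lTensor S (Coalgebra.comul (R := R) (A := L)) (x : S ⊗[R] L))) =
      rT (i2 (R := R) (S := S)) (L ⊗[R] L)
        (LinearMap.lTensor S (Coalgebra.comul (R := R) (A := L)) (x : S ⊗[R] L)) := by
  rw [rT_lTensor_comul, Phi2_lTensor_comul, (mem_descAlg Φ).1 x.2, rT_lTensor_comul]

lemma descAlg_comul_aux (x : descAlg Φ) (d : ↥(descAlg Φ) ⊗[R] ↥(descAlg Φ))
    (hd : u0 Φ d = (LinearMap.lTensor S (Coalgebra.comul (R := R) (A := L)) (x : S ⊗[R] L))) :
    mm2 (S := S) (descAlg Φ).val d = Coalgebra.comul (R := S) (x : S ⊗[R] L) := by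
  rw [Groth.Agent.Lib.Helper7.NilLift.comul_eq_distrib, ← hd, u0_apply]
  exact ((AlgebraTensorModule.distribBaseChange R S L L).apply_symm_apply _).symm

set_option maxHeartbeats 400000 in
lemma descAlg_comul (h1 : C1 (lin Φ)) (h2 : C2 (lin Φ)) (x : descAlg Φ) :
    ∃ d, mm2 (S := S) (descAlg Φ).val d = Coalgebra.comul (R := S) (x : S ⊗[R] L) := by
  have hu := u0_form Φ h1 h2
  have hmem := mem_range_of_form (E := ↥(descAlg Φ) ⊗[R] ↥(descAlg Φ)) (V := L ⊗[R] L) (u0 Φ) hu
    (Phi2 Φ) (by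
      intro e
      have := u0_compat Φ e
      convert this using 2)
    (LinearMap.lTensor S (Coalgebra.comul (R := R) (A := L)) (x : S ⊗[R] L)) (by
      have := descAlg_hz Φ x
      convert this using 2)
  obtain ⟨d, hd⟩ := hmem
  exact ⟨d, descAlg_comul_aux Φ x d hd⟩

lemma descAlg_counit (x : descAlg Φ) :
    ∃ r : R, algebraMap R S r = Coalgebra.counit (R := S) (x : S ⊗[R] L) := by
  set s := Coalgebra.counit (R := S) (x : S ⊗[R] L) with hs
  have h12 : (i1 (R := R) (S := S)) s = (i2 (R := R) (S := S)) s := by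
    rw [hs, ← counit_rT, ← counit_rT, ← (mem_descAlg Φ).1 x.2]
    exact (CoalgHomClass.counit_comp_apply Φ _).symm
  have hmem := PIDesc.mem_range_of_map_eq (R := R) (K := S) (A := R) (s ⊗ₜ[R] (1 : R)) (by
    rw [TensorProduct.map_tmul, TensorProduct.map_tmul]
    change (i1 (R := R) (S := S)) s ⊗ₜ[R] (1 : R) = (i2 (R := R) (S := S)) s ⊗ₜ[R] (1 : R)
    rw [h12])
  obtain ⟨r, hr⟩ := hmem
  refine ⟨r, ?_⟩
  have := congrArg (TensorProduct.rid R S) hr
  rw [TensorProduct.mk_apply, TensorProduct.rid_tmul, TensorProduct.rid_tmul, one_smul] at this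
  rw [Algebra.algebraMap_eq_smul_one]
  exact this

omit [Module.FaithfullyFlat R S] in
lemma descAlg_antipode (x : descAlg Φ) :
    HopfAlgebra.antipode S (x : S ⊗[R] L) ∈ descAlg Φ := by
  rw [mem_descAlg, ← antipode_rT, HopfIdealR.map_antipode, (mem_descAlg Φ).1 x.2, antipode_rT]

/-- **Faithfully flat descent of Hopf algebras**: a descent datum `Φ` on `S ⊗[R] L` satisfying the
counit and cocycle conditions is effective. -/
theorem exists_descent (h1 : C1 (lin Φ)) (h2 : C2 (lin Φ)) :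
    ∃ (A : Type u) (_ : CommRing A) (_ : HopfAlgebra R A) (j : A →ₐ[R] S ⊗[R] L)
      (θ : S ⊗[R] A ≃ₐc[S] S ⊗[R] L),
      (∀ (s : S) (x : A), θ (s ⊗ₜ[R] x) = s • j x) ∧
      (∀ x, Φ (rT (i1 (R := R) (S := S)) L (j x)) = rT (i2 (R := R) (S := S)) L (j x)) ∧
      (∀ z, Φ (rT (i1 (R := R) (S := S)) L z) = rT (i2 (R := R) (S := S)) L z → ∃ x, j x = z) := by
  have hj := descAlg_form Φ h1 h2
  have hΔ : ∀ x, ∃ d, mm2 (S := S) (descAlg Φ).val d =
      (((Bialgebra.comulAlgHom S (S ⊗[R] L)).restrictScalars R).comp (descAlg Φ).val) x :=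
    fun x => descAlg_comul Φ h1 h2 x
  have hε : ∀ x, ∃ r : R, Algebra.ofId R S r =
      (((Bialgebra.counitAlgHom S (S ⊗[R] L)).restrictScalars R).comp (descAlg Φ).val) x :=
    fun x => descAlg_counit Φ x
  have hanti : ∀ x, ∃ y, (descAlg Φ).val y =
      (((HopfAlgebra.antipodeAlgHom S (S ⊗[R] L)).restrictScalars R).comp (descAlg Φ).val) x :=
    fun x => ⟨⟨_, descAlg_antipode Φ x⟩, rfl⟩
  obtain ⟨θ, hθ⟩ := exists_bialgEquiv (descAlg Φ).val hj hΔ hε hanti
  exact ⟨↥(descAlg Φ), inferInstance, hopfAlgebraA (descAlg Φ).val hj hΔ hε hanti, (descAlg Φ).val,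
    θ, hθ, fun x => (mem_descAlg Φ).1 x.2, fun z hz => ⟨⟨z, (mem_descAlg Φ).2 hz⟩, rfl⟩⟩

end Descent

end Groth.Agent.Lib.Helper7.FFDesc
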