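import Mathlib
import Groth.Agent.Lib.Helper7.FFDesc5
import Groth.Agent.Lib.Helper7.HensGL3

/-!
# Base change calculus, rigidity and lifting of homomorphisms of diagonalisable groups (helper7)
-/

set_option autoImplicit false

namespace Groth.Agent.Lib.Helper7.FFDesc

open TensorProduct Groth.Agent.Lib.Helper7.CancelBC

universe u

section Compat

variable {R : Type u} [CommRing R] {K K' K'' : Type u} [CommRing K] [Algebra R K] [CommRing K']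
  [Algebra R K'] [CommRing K''] [Algebra R K'']
  {V W U : Type u} [AddCommGroup V] [Module R V] [AddCommGroup W] [Module R W]
  [AddCommGroup U] [Module R U]

lemma rT_comp (σ : K →ₐ[R] K') (σ' : K' →ₐ[R] K'') (y : K ⊗[R] V) :
    rT (σ'.comp σ) V y = rT σ' V (rT σ V y) := by
  induction y using TensorProduct.induction_on with
  | zero => simp
  | add x y hx hy => simp only [map_add, hx, hy]
  | tmul c v => rfl

lemma rT_id (y : K ⊗[R] V) : rT (AlgHom.id R K) V y = y := by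
  induction y using TensorProduct.induction_on with
  | zero => simp
  | add x y hx hy => simp only [map_add, hx, hy]
  | tmul c v => rfl

/-- `Φ'` is a base change of `Φ` along `σ`. -/
def Compat (σ : K →ₐ[R] K') (Φ : K ⊗[R] V →ₗ[K] K ⊗[R] W) (Φ' : K' ⊗[R] V →ₗ[K'] K' ⊗[R] W) :
    Prop := ∀ y, Φ' (rT σ V y) = rT σ W (Φ y)

lemma compat_bcLin (σ : K →ₐ[R] K') (Φ : K ⊗[R] V →ₗ[K] K ⊗[R] W) : Compat σ Φ (bcLin σ Φ) :=
  fun y => bcLin_rT σ Φ y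

lemma Compat.of_one_tmul {σ : K →ₐ[R] K'} {Φ : K ⊗[R] V →ₗ[K] K ⊗[R] W}
    {Φ' : K' ⊗[R] V →ₗ[K'] K' ⊗[R] W}
    (h : ∀ v, Φ' ((1 : K') ⊗ₜ[R] v) = rT σ W (Φ ((1 : K) ⊗ₜ[R] v))) : Compat σ Φ Φ' := by
  intro y
  induction y using TensorProduct.induction_on with
  | zero => simp
  | add x y hx hy => simp only [map_add, hx, hy]
  | tmul c v =>
    have : c ⊗ₜ[R] v = c • ((1 : K) ⊗ₜ[R] v) := by
      rw [TensorProduct.smul_tmul', smul_eq_mul, mul_one]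
    rw [this, rT_smul, map_smul, map_smul, rT_smul, rT_tmul, map_one, h]

lemma Compat.one_tmul {σ : K →ₐ[R] K'} {Φ : K ⊗[R] V →ₗ[K] K ⊗[R] W}
    {Φ' : K' ⊗[R] V →ₗ[K'] K' ⊗[R] W} (h : Compat σ Φ Φ') (v : V) :
    Φ' ((1 : K') ⊗ₜ[R] v) = rT σ W (Φ ((1 : K) ⊗ₜ[R] v)) := by
  have := h ((1 : K) ⊗ₜ[R] v)
  rwa [rT_tmul, map_one] at this

lemma Compat.unique {σ : K →ₐ[R] K'} {Φ : K ⊗[R] V →ₗ[K] K ⊗[R] W}
    {Φ' Φ'' : K' ⊗[R] V →ₗ[K'] K' ⊗[R] W} (h : Compat σ Φ Φ') (h' : Compat σ Φ Φ'') :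
    Φ' = Φ'' := by
  apply linearMap_ext_one_tmul
  intro v
  rw [h.one_tmul, h'.one_tmul]

lemma Compat.trans {σ : K →ₐ[R] K'} {σ' : K' →ₐ[R] K''} {Φ : K ⊗[R] V →ₗ[K] K ⊗[R] W}
    {Φ' : K' ⊗[R] V →ₗ[K'] K' ⊗[R] W} {Φ'' : K'' ⊗[R] V →ₗ[K''] K'' ⊗[R] W}
    (h : Compat σ Φ Φ') (h' : Compat σ' Φ' Φ'') : Compat (σ'.comp σ) Φ Φ'' := by
  intro y
  rw [rT_comp, h', h, rT_comp]

lemma Compat.comp {σ : K →ₐ[R] K'} {Φ : K ⊗[R] V →ₗ[K] K ⊗[R] W}
    {Φ' : K' ⊗[R] V →ₗ[K'] K' ⊗[R] W} {Ψ : K ⊗[R] W →ₗ[K] K ⊗[R] U}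
    {Ψ' : K' ⊗[R] W →ₗ[K'] K' ⊗[R] U}
    (h : Compat σ Φ Φ') (h' : Compat σ Ψ Ψ') : Compat σ (Ψ.comp Φ) (Ψ'.comp Φ') := by
  intro y
  rw [LinearMap.comp_apply, h, h', LinearMap.comp_apply]

end Compat

section Rig

variable {R : Type u} [CommRing R] {K K₀ : Type u} [CommRing K] [Algebra R K] [CommRing K₀]
  [Algebra R K₀] {B C : Type u} [CommRing B] [HopfAlgebra R B] [CommRing C] [HopfAlgebra R C]
  {M N : Type u} [CommGroup M] [CommGroup N]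
  (π : K →ₐ[R] K₀) (hπ : Function.Surjective π)
  (hker : RingHom.ker (π : K →+* K₀) ≤ Ideal.jacobson ⊥)
  (eB : K ⊗[R] B ≃ₐc[K] MonoidAlgebra K M) (eC : K ⊗[R] C ≃ₐc[K] MonoidAlgebra K N)

include hπ hker eB eC in
/-- rigidity: homomorphisms of diagonalisable groups are determined by their reductions. -/
theorem rig (Φ Ψ : K ⊗[R] C →ₐc[K] K ⊗[R] B)
    (h : ∀ c : C, rT π B (Φ ((1 : K) ⊗ₜ[R] c)) = rT π B (Ψ ((1 : K) ⊗ₜ[R] c))) : Φ = Ψ := by
  let _ : Algebra K K₀ := π.toRingHom.toAlgebra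
  have : IsScalarTower R K K₀ := IsScalarTower.of_algebraMap_eq (fun r => (π.commutes r).symm)
  have hc : ∀ z : K ⊗[R] B, cancelBC R K K₀ B ((1 : K₀) ⊗ₜ[K] z) = rT π B z := by
    intro z
    induction z using TensorProduct.induction_on with
    | zero => simp
    | add x y hx hy => rw [TensorProduct.tmul_add, map_add, hx, hy, map_add]
    | tmul c a =>
      rw [cancelBC_tmul, rT_tmul, Algebra.smul_def, mul_one]
      rfl
  have hall : ∀ y : K ⊗[R] C, rT π B (Φ y) = rT π B (Ψ y) := by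
    intro y
    induction y using TensorProduct.induction_on with
    | zero => simp
    | add x y hx hy => simp only [map_add, hx, hy]
    | tmul t c =>
      have : t ⊗ₜ[R] c = t • ((1 : K) ⊗ₜ[R] c) := by
        rw [TensorProduct.smul_tmul', smul_eq_mul, mul_one]
      rw [this, map_smul Φ, map_smul Ψ, rT_smul, rT_smul, h]
  apply HensGL.bialgHom_eq_of_one_tmul_eq (Sb := K₀) hπ hker eB eC
  intro y
  apply EquivLike.injective (cancelBC R K K₀ B)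
  rw [hc, hc, hall]

include hπ hker eB eC in
/-- lifting of homomorphisms of diagonalisable groups. -/
theorem lift (hlift : ∀ x : K, x * x - x ∈ RingHom.ker (π : K →+* K₀) →
      ∃ e : K, IsIdempotentElem e ∧ e - x ∈ RingHom.ker (π : K →+* K₀))
    (Φ₀ : K₀ ⊗[R] C →ₐc[K₀] K₀ ⊗[R] B) :
    ∃ Φ : K ⊗[R] C →ₐc[K] K ⊗[R] B, ∀ y, Φ₀ (rT π C y) = rT π B (Φ y) := by
  let _ : Algebra K K₀ := π.toRingHom.toAlgebra
  have : IsScalarTower R K K₀ := IsScalarTower.of_algebraMap_eq (fun r => (π.commutes r).symm)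
  have hc : ∀ (D : Type u) [CommRing D] [HopfAlgebra R D] (z : K ⊗[R] D),
      cancelBC R K K₀ D ((1 : K₀) ⊗ₜ[K] z) = rT π D z := by
    intro D _ _ z
    induction z using TensorProduct.induction_on with
    | zero => simp
    | add x y hx hy => rw [TensorProduct.tmul_add, map_add, hx, hy, map_add]
    | tmul c a =>
      rw [cancelBC_tmul, rT_tmul, Algebra.smul_def, mul_one]
      rfl
  set Φb : K₀ ⊗[K] (K ⊗[R] C) →ₐc[K₀] K₀ ⊗[K] (K ⊗[R] B) :=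
    (((cancelBC R K K₀ B).symm : _ →ₐc[K₀] _).comp Φ₀).comp
      (cancelBC R K K₀ C : _ →ₐc[K₀] _) with hΦb
  obtain ⟨Φ', hΦ'⟩ := HensGL.exists_bialgHom_lift (Sb := K₀) hπ hker eB eC hlift Φb
  refine ⟨Φ', ?_⟩
  intro y
  have h1 := hΦ' y
  have h2 : Φb ((1 : K₀) ⊗ₜ[K] y) =
      (cancelBC R K K₀ B).symm (Φ₀ (cancelBC R K K₀ C ((1 : K₀) ⊗ₜ[K] y))) := rfl
  rw [h2, hc C y] at h1
  have h3 := congrArg (cancelBC R K K₀ B) h1
  rw [BialgEquiv.apply_symm_apply, hc B] at h3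
  exact h3

end Rig

end Groth.Agent.Lib.Helper7.FFDesc
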