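import Mathlib
import Groth.Agent.Lib.Helper7.FFDesc6

/-!
# Lifting descent data on diagonalisable groups along a henselian thickening (abstract form)
(helper7)
-/

set_option autoImplicit false

namespace Groth.Agent.Lib.Helper7.FFDesc

open TensorProduct

universe u

section Span

variable {R : Type u} [CommRing R] {S₀ K' : Type u} [CommRing S₀] [Algebra R S₀] [CommRing K']
  [Algebra R K'] {L : Type u} [AddCommGroup L] [Module R L]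

lemma eq_of_eq_on_span (σ : S₀ →ₐ[R] K') {G : Set (S₀ ⊗[R] L)}
    (hG : Submodule.span S₀ G = ⊤) (F F' : K' ⊗[R] L →ₗ[K'] K' ⊗[R] L)
    (h : ∀ g ∈ G, F (rT σ L g) = F' (rT σ L g)) : F = F' := by
  have hall : ∀ y : S₀ ⊗[R] L, F (rT σ L y) = F' (rT σ L y) := by
    intro y
    have hy : y ∈ Submodule.span S₀ G := by rw [hG]; exact Submodule.mem_top
    induction hy using Submodule.span_induction with
    | mem x hx => exact h x hx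
    | zero => simp
    | add x y _ _ hx hy => simp only [map_add, hx, hy]
    | smul a x _ hx => rw [rT_smul, map_smul, map_smul, hx]
  apply linearMap_ext_one_tmul
  intro l
  have := hall ((1 : S₀) ⊗ₜ[R] l)
  rwa [rT_tmul, map_one] at this

end Span

section HL

variable {R : Type u} [CommRing R] {S : Type u} [CommRing S] [Algebra R S]
  {L : Type u} [CommRing L] [HopfAlgebra R L]
  {S₀ T₀ U₀ : Type u} [CommRing S₀] [Algebra R S₀] [CommRing T₀] [Algebra R T₀] [CommRing U₀]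
  [Algebra R U₀]
  (ι₁ ι₂ : S₀ →ₐ[R] T₀) (μ₀ : T₀ →ₐ[R] S₀) (p12 p13 p23 : T₀ →ₐ[R] U₀)
  (hμι₁ : μ₀.comp ι₁ = AlgHom.id R S₀) (hμι₂ : μ₀.comp ι₂ = AlgHom.id R S₀)
  (hr1 : p12.comp ι₁ = p13.comp ι₁) (hr2 : p12.comp ι₂ = p23.comp ι₁)
  (hr3 : p13.comp ι₂ = p23.comp ι₂)
  (Φ₀ : T₀ ⊗[R] L →ₐc[T₀] T₀ ⊗[R] L) (G : Set (S₀ ⊗[R] L)) (hG : Submodule.span S₀ G = ⊤)
  (hstar : ∀ g ∈ G, Φ₀ (rT ι₁ L g) = rT ι₂ L g)

/-- the underlying linear map. -/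
noncomputable abbrev lin₀ {K : Type u} [CommRing K] [Algebra R K]
    (Ψ : K ⊗[R] L →ₐc[K] K ⊗[R] L) : K ⊗[R] L →ₗ[K] K ⊗[R] L :=
  (Ψ : K ⊗[R] L →ₐ[K] K ⊗[R] L).toLinearMap

include hμι₁ hμι₂ hG hstar in
lemma c1_zero (l : L) : rT μ₀ L (Φ₀ ((1 : T₀) ⊗ₜ[R] l)) = (1 : S₀) ⊗ₜ[R] l := by
  have h : bcLin μ₀ (lin₀ Φ₀) = LinearMap.id := by
    apply eq_of_eq_on_span (AlgHom.id R S₀) hG
    intro g hg
    rw [rT_id, LinearMap.id_apply]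
    have h1 : g = rT μ₀ L (rT ι₁ L g) := by rw [← rT_comp, hμι₁, rT_id]
    have h2 : g = rT μ₀ L (rT ι₂ L g) := by rw [← rT_comp, hμι₂, rT_id]
    conv_lhs => rw [h1]
    rw [bcLin_rT]
    change rT μ₀ L (Φ₀ (rT ι₁ L g)) = g
    rw [hstar g hg, ← h2]
  have := congrArg (fun F => F ((1 : S₀) ⊗ₜ[R] l)) h
  simp only [bcLin_one_tmul, LinearMap.id_apply] at this
  exact this

include hr1 hr2 hr3 hG hstar in
lemma c2_zero :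
    (bcLin p23 (lin₀ Φ₀)).comp (bcLin p12 (lin₀ Φ₀)) = bcLin p13 (lin₀ Φ₀) := by
  apply eq_of_eq_on_span (p12.comp ι₁) hG
  intro g hg
  have e1 : ∀ y, lin₀ Φ₀ y = Φ₀ y := fun y => rfl
  have hL : bcLin p23 (lin₀ Φ₀) (bcLin p12 (lin₀ Φ₀) (rT (p12.comp ι₁) L g)) =
      rT (p23.comp ι₂) L g := by
    rw [rT_comp, bcLin_rT, e1, hstar g hg, ← rT_comp, hr2, rT_comp, bcLin_rT, e1, hstar g hg,
      ← rT_comp]
  have hR : bcLin p13 (lin₀ Φ₀) (rT (p12.comp ι₁) L g) = rT (p13.comp ι₂) L g := by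
    rw [hr1, rT_comp, bcLin_rT, e1, hstar g hg, ← rT_comp]
  rw [LinearMap.comp_apply, hL, hR, hr3]

variable (πS : S →ₐ[R] S₀) (πT : S ⊗[R] S →ₐ[R] T₀) (πU : S ⊗[R] (S ⊗[R] S) →ₐ[R] U₀)
  (hμ : πS.comp (Algebra.TensorProduct.lmul' R (S := S)) = μ₀.comp πT)
  (h12 : πU.comp (q12 (R := R) (S := S)) = p12.comp πT)
  (h13 : πU.comp (q13 (R := R) (S := S)) = p13.comp πT)
  (h23 : πU.comp (q23 (R := R) (S := S)) = p23.comp πT)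
  (hπS : Function.Surjective πS) (hkS : RingHom.ker (πS : S →+* S₀) ≤ Ideal.jacobson ⊥)
  (hπT : Function.Surjective πT)
  (hkT : RingHom.ker (πT : S ⊗[R] S →+* T₀) ≤ Ideal.jacobson ⊥)
  (hπU : Function.Surjective πU)
  (hkU : RingHom.ker (πU : S ⊗[R] (S ⊗[R] S) →+* U₀) ≤ Ideal.jacobson ⊥)
  (hliftT : ∀ x : S ⊗[R] S, x * x - x ∈ RingHom.ker (πT : S ⊗[R] S →+* T₀) →
      ∃ e : S ⊗[R] S, IsIdempotentElem e ∧ e - x ∈ RingHom.ker (πT : S ⊗[R] S →+* T₀))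
  {M₁ M₂ M₃ : Type u} [CommGroup M₁] [CommGroup M₂] [CommGroup M₃]
  (eS : S ⊗[R] L ≃ₐc[S] MonoidAlgebra S M₁)
  (eT : (S ⊗[R] S) ⊗[R] L ≃ₐc[S ⊗[R] S] MonoidAlgebra (S ⊗[R] S) M₂)
  (eU : (S ⊗[R] (S ⊗[R] S)) ⊗[R] L ≃ₐc[S ⊗[R] (S ⊗[R] S)] MonoidAlgebra (S ⊗[R] (S ⊗[R] S)) M₃)

include hμι₁ hμι₂ hr1 hr2 hr3 hG hstar hμ h12 h13 h23 hπS hkS hπT hkT hπU hkU hliftT eS eT eU in
/-- lifting of a descent datum. -/
theorem exists_lift_descent :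
    ∃ Φ : (S ⊗[R] S) ⊗[R] L →ₐc[S ⊗[R] S] (S ⊗[R] S) ⊗[R] L,
      C1 (lin Φ) ∧ C2 (lin Φ) ∧ ∀ y, Φ₀ (rT πT L y) = rT πT L (Φ y) := by
  obtain ⟨Φ, hΦ⟩ := lift πT hπT hkT eT eT hliftT Φ₀
  have hΦ1 : ∀ l : L, rT πT L (Φ ((1 : S ⊗[R] S) ⊗ₜ[R] l)) = Φ₀ ((1 : T₀) ⊗ₜ[R] l) := by
    intro l
    rw [← hΦ, rT_tmul, map_one]
  refine ⟨Φ, ?_, ?_, hΦ⟩
  · -- (C1)
    obtain ⟨Ψ, hΨ⟩ := PIDesc.exists_bcHom (Algebra.TensorProduct.lmul' R (S := S)) Φ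
    have hΨid : Ψ = BialgHom.id S (S ⊗[R] L) := by
      apply rig πS hπS hkS eS eS
      intro l
      rw [hΨ, algMap_eq_rT, ← rT_comp, hμ, rT_comp, hΦ1, c1_zero ι₁ ι₂ μ₀ hμι₁ hμι₂ Φ₀ G hG hstar]
      change _ = rT πS L ((1 : S) ⊗ₜ[R] l)
      rw [rT_tmul, map_one]
    intro l
    have := hΨ l
    rw [algMap_eq_rT, hΨid] at this
    exact this.symm
  · -- (C2)
    obtain ⟨Ψ12, hΨ12⟩ := PIDesc.exists_bcHom (q12 (R := R) (S := S)) Φ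
    obtain ⟨Ψ13, hΨ13⟩ := PIDesc.exists_bcHom (q13 (R := R) (S := S)) Φ
    obtain ⟨Ψ23, hΨ23⟩ := PIDesc.exists_bcHom (q23 (R := R) (S := S)) Φ
    have hc12 : Compat πU (lin₀ Ψ12) (bcLin p12 (lin₀ Φ₀)) := by
      apply Compat.of_one_tmul
      intro l
      change _ = rT πU L (Ψ12 ((1 : S ⊗[R] (S ⊗[R] S)) ⊗ₜ[R] l))
      rw [bcLin_one_tmul, hΨ12, algMap_eq_rT, ← rT_comp, h12, rT_comp, hΦ1]
      rfl
    have hc13 : Compat πU (lin₀ Ψ13) (bcLin p13 (lin₀ Φ₀)) := by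
      apply Compat.of_one_tmul
      intro l
      change _ = rT πU L (Ψ13 ((1 : S ⊗[R] (S ⊗[R] S)) ⊗ₜ[R] l))
      rw [bcLin_one_tmul, hΨ13, algMap_eq_rT, ← rT_comp, h13, rT_comp, hΦ1]
      rfl
    have hc23 : Compat πU (lin₀ Ψ23) (bcLin p23 (lin₀ Φ₀)) := by
      apply Compat.of_one_tmul
      intro l
      change _ = rT πU L (Ψ23 ((1 : S ⊗[R] (S ⊗[R] S)) ⊗ₜ[R] l))
      rw [bcLin_one_tmul, hΨ23, algMap_eq_rT, ← rT_comp, h23, rT_comp, hΦ1]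
      rfl
    have hcomp : Ψ23.comp Ψ12 = Ψ13 := by
      apply rig πU hπU hkU eU eU
      intro l
      have h1 := (hc12.comp hc23) ((1 : S ⊗[R] (S ⊗[R] S)) ⊗ₜ[R] l)
      have h2 := hc13 ((1 : S ⊗[R] (S ⊗[R] S)) ⊗ₜ[R] l)
      rw [c2_zero ι₁ ι₂ p12 p13 p23 hr1 hr2 hr3 Φ₀ G hG hstar] at h1
      exact (h1.symm.trans h2)
    have h23' : bcLin (q23 (R := R) (S := S)) (lin Φ) = lin₀ Ψ23 := by
      apply linearMap_ext_one_tmul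
      intro l
      rw [bcLin_one_tmul]
      change _ = Ψ23 _
      rw [hΨ23, algMap_eq_rT]
      rfl
    intro l
    rw [h23']
    have e12 : rT (q12 (R := R) (S := S)) L (Φ ((1 : S ⊗[R] S) ⊗ₜ[R] l)) =
        Ψ12 ((1 : S ⊗[R] (S ⊗[R] S)) ⊗ₜ[R] l) := by rw [hΨ12, algMap_eq_rT]
    have e13 : rT (q13 (R := R) (S := S)) L (Φ ((1 : S ⊗[R] S) ⊗ₜ[R] l)) =
        Ψ13 ((1 : S ⊗[R] (S ⊗[R] S)) ⊗ₜ[R] l) := by rw [hΨ13, algMap_eq_rT]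
    change lin₀ Ψ23 (rT (q12 (R := R) (S := S)) L (Φ ((1 : S ⊗[R] S) ⊗ₜ[R] l))) =
      rT (q13 (R := R) (S := S)) L (Φ ((1 : S ⊗[R] S) ⊗ₜ[R] l))
    rw [e12, e13, ← hcomp]
    rfl

end HL

end Groth.Agent.Lib.Helper7.FFDesc
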