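import Mathlib
import Groth.Agent.Lib.Helper7.FFDesc7
import Groth.Agent.Lib.Helper7.Deform3
import Groth.Agent.Lib.Helper7.HensGL4

/-!
# Mixed base change of bialgebra isomorphisms; base change of a diagonalisation (helper7)
-/

set_option autoImplicit false

namespace Groth.Agent.Lib.Helper7.FFDesc

open TensorProduct Groth.Agent.Lib.Helper7.CancelBC SGA3b

universe u

section DiagBC

variable {R : Type u} [CommRing R] {A : Type u} [CommRing A] [HopfAlgebra R A]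
  {M : Type u} [CommGroup M]

/-- base change of a diagonalisation, with the same group. -/
theorem nonempty_bialgEquiv_baseChange (S : Type u) [CommRing S] [Algebra R S]
    (e : A ≃ₐc[R] MonoidAlgebra R M) : Nonempty (S ⊗[R] A ≃ₐc[S] MonoidAlgebra S M) := by
  classical
  have hgl : ∀ m : M, IsGroupLikeElem S ((1 : S) ⊗ₜ[R] e.symm (MonoidAlgebra.single m 1) :
      S ⊗[R] A) := fun m =>
    Groth.Agent.Lib.Helper7.DiagSub.isGroupLikeElem_one_tmul S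
      ((MonoidAlgebra.isGroupLikeElem_single_one (R := R) (A := R) m).map e.symm)
  let γ : M →* GroupLike S (S ⊗[R] A) :=
    { toFun := fun m => ⟨_, hgl m⟩
      map_one' := by
        apply GroupLike.val_injective
        change (1 : S) ⊗ₜ[R] e.symm (1 : MonoidAlgebra R M) = 1
        rw [map_one]
        rfl
      map_mul' := by
        intro m m'
        apply GroupLike.val_injective
        change (1 : S) ⊗ₜ[R] e.symm (MonoidAlgebra.single (m * m') 1) =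
          ((1 : S) ⊗ₜ[R] e.symm (MonoidAlgebra.single m 1)) *
            ((1 : S) ⊗ₜ[R] e.symm (MonoidAlgebra.single m' 1))
        rw [Algebra.TensorProduct.tmul_mul_tmul, mul_one, ← map_mul,
          MonoidAlgebra.single_mul_single, mul_one] }
  set φ : MonoidAlgebra S M →ₐc[S] S ⊗[R] A :=
    (MonoidAlgebra.liftGroupLikeBialgHom (R := S) (A := S ⊗[R] A)).comp
      (MonoidAlgebra.mapDomainBialgHom S γ) with hφ
  have hφs : ∀ (m : M) (r : S), φ (MonoidAlgebra.single m r) =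
      r • ((1 : S) ⊗ₜ[R] e.symm (MonoidAlgebra.single m 1)) := by
    intro m r
    simp [hφ, γ]
  have hφeq : ∀ x : MonoidAlgebra S M, φ x =
      (LinearEquiv.lTensor S e.symm.toLinearEquiv)
        ((MonoidAlgebra.scalarTensorEquiv (M := M) R S).symm x) := by
    intro x
    induction x using MonoidAlgebra.induction_linear with
    | zero => simp
    | add x y hx hy => rw [map_add, hx, hy, map_add, map_add]
    | single m r =>
      rw [hφs, MonoidAlgebra.scalarTensorEquiv_symm_single, LinearEquiv.lTensor_tmul,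
        TensorProduct.smul_tmul', smul_eq_mul, mul_one]
      rfl
  have hbij : Function.Bijective φ := by
    have : (φ : MonoidAlgebra S M → S ⊗[R] A) =
        (LinearEquiv.lTensor S e.symm.toLinearEquiv) ∘
          ((MonoidAlgebra.scalarTensorEquiv (M := M) R S).symm) := by
      funext x
      exact hφeq x
    rw [this]
    exact (LinearEquiv.bijective _).comp (AlgEquiv.bijective _)
  exact ⟨(BialgEquiv.ofBijective φ hbij).symm⟩

end DiagBC

section Mixed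

variable {R₁ R₂ : Type u} [CommRing R₁] [CommRing R₂] {K₁ K₂ : Type u} [CommRing K₁] [CommRing K₂]
  [Algebra R₁ K₁] [Algebra R₂ K₁] [Algebra R₁ K₂] [Algebra R₂ K₂]
  {B₁ B₂ : Type u} [CommRing B₁] [HopfAlgebra R₁ B₁] [CommRing B₂] [HopfAlgebra R₂ B₂]

/-- mixed base change of a bialgebra homomorphism. -/
theorem exists_bcHom₂ (σ₁ : K₁ →ₐ[R₁] K₂) (σ₂ : K₁ →ₐ[R₂] K₂) (hσ : ∀ x, σ₁ x = σ₂ x)
    (φ : K₁ ⊗[R₁] B₁ →ₐc[K₁] K₁ ⊗[R₂] B₂) :
    ∃ E : K₂ ⊗[R₁] B₁ →ₐc[K₂] K₂ ⊗[R₂] B₂, ∀ y, E (rT σ₁ B₁ y) = rT σ₂ B₂ (φ y) := by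
  let _ : Algebra K₁ K₂ := σ₁.toRingHom.toAlgebra
  have t1 : IsScalarTower R₁ K₁ K₂ := IsScalarTower.of_algebraMap_eq (fun r => (σ₁.commutes r).symm)
  have t2 : IsScalarTower R₂ K₁ K₂ := IsScalarTower.of_algebraMap_eq (fun r => by
    change algebraMap R₂ K₂ r = σ₁ (algebraMap R₂ K₁ r)
    rw [hσ, σ₂.commutes])
  have hc1 : ∀ z : K₁ ⊗[R₁] B₁, cancelBC R₁ K₁ K₂ B₁ ((1 : K₂) ⊗ₜ[K₁] z) = rT σ₁ B₁ z := by
    intro z
    induction z using TensorProduct.induction_on with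
    | zero => simp
    | add x y hx hy => rw [TensorProduct.tmul_add, map_add, hx, hy, map_add]
    | tmul c a =>
      rw [cancelBC_tmul, rT_tmul, Algebra.smul_def, mul_one]
      rfl
  have hc2 : ∀ z : K₁ ⊗[R₂] B₂, cancelBC R₂ K₁ K₂ B₂ ((1 : K₂) ⊗ₜ[K₁] z) = rT σ₂ B₂ z := by
    intro z
    induction z using TensorProduct.induction_on with
    | zero => simp
    | add x y hx hy => rw [TensorProduct.tmul_add, map_add, hx, hy, map_add]
    | tmul c a =>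
      rw [cancelBC_tmul, rT_tmul, Algebra.smul_def, mul_one, ← hσ]
      rfl
  refine ⟨((cancelBC R₂ K₁ K₂ B₂ : _ →ₐc[K₂] _).comp
    (Bialgebra.TensorProduct.map (BialgHom.id K₂ K₂) φ)).comp
      ((cancelBC R₁ K₁ K₂ B₁).symm : _ →ₐc[K₂] _), ?_⟩
  intro y
  rw [← hc1, ← hc2]
  change cancelBC R₂ K₁ K₂ B₂ (Bialgebra.TensorProduct.map (BialgHom.id K₂ K₂) φ
    ((cancelBC R₁ K₁ K₂ B₁).symm (cancelBC R₁ K₁ K₂ B₁ ((1 : K₂) ⊗ₜ[K₁] y)))) = _
  rw [BialgEquiv.symm_apply_apply]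
  rfl

lemma algHom_ext_one_tmul {R : Type u} [CommRing R] {K : Type u} [CommRing K] [Algebra R K]
    {B : Type u} [CommRing B] [Algebra R B] {X : Type u} [CommRing X] [Algebra K X]
    {f g : K ⊗[R] B →ₐ[K] X} (h : ∀ b, f ((1 : K) ⊗ₜ[R] b) = g ((1 : K) ⊗ₜ[R] b)) : f = g := by
  apply AlgHom.ext
  intro y
  induction y using TensorProduct.induction_on with
  | zero => simp
  | add x y hx hy => rw [map_add, map_add, hx, hy]
  | tmul c b =>
    have : c ⊗ₜ[R] b = c • ((1 : K) ⊗ₜ[R] b) := by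
      rw [TensorProduct.smul_tmul', smul_eq_mul, mul_one]
    rw [this, map_smul, map_smul, h]

/-- mixed base change of a bialgebra isomorphism. -/
theorem exists_bcEquiv₂ (σ₁ : K₁ →ₐ[R₁] K₂) (σ₂ : K₁ →ₐ[R₂] K₂) (hσ : ∀ x, σ₁ x = σ₂ x)
    (φ : K₁ ⊗[R₁] B₁ ≃ₐc[K₁] K₁ ⊗[R₂] B₂) :
    ∃ E : K₂ ⊗[R₁] B₁ ≃ₐc[K₂] K₂ ⊗[R₂] B₂, ∀ y, E (rT σ₁ B₁ y) = rT σ₂ B₂ (φ y) := by
  obtain ⟨F, hF⟩ := exists_bcHom₂ σ₁ σ₂ hσ (φ : K₁ ⊗[R₁] B₁ →ₐc[K₁] K₁ ⊗[R₂] B₂)
  obtain ⟨F', hF'⟩ := exists_bcHom₂ σ₂ σ₁ (fun x => (hσ x).symm)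
    (φ.symm : K₁ ⊗[R₂] B₂ →ₐc[K₁] K₁ ⊗[R₁] B₁)
  have h1 : ∀ y, F' (F y) = y := by
    have : ((F' : K₂ ⊗[R₂] B₂ →ₐ[K₂] K₂ ⊗[R₁] B₁).comp (F : K₂ ⊗[R₁] B₁ →ₐ[K₂] K₂ ⊗[R₂] B₂)) =
        AlgHom.id K₂ _ := by
      apply algHom_ext_one_tmul
      intro b
      have e1 : (1 : K₂) ⊗ₜ[R₁] b = rT σ₁ B₁ ((1 : K₁) ⊗ₜ[R₁] b) := by rw [rT_tmul, map_one]
      rw [AlgHom.comp_apply, AlgHom.id_apply, e1]
      change F' (F _) = _
      rw [hF, hF']
      change rT σ₁ B₁ (φ.symm (φ _)) = _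
      rw [BialgEquiv.symm_apply_apply]
    intro y
    exact AlgHom.congr_fun this y
  have h2 : ∀ y, F (F' y) = y := by
    have : ((F : K₂ ⊗[R₁] B₁ →ₐ[K₂] K₂ ⊗[R₂] B₂).comp (F' : K₂ ⊗[R₂] B₂ →ₐ[K₂] K₂ ⊗[R₁] B₁)) =
        AlgHom.id K₂ _ := by
      apply algHom_ext_one_tmul
      intro b
      have e1 : (1 : K₂) ⊗ₜ[R₂] b = rT σ₂ B₂ ((1 : K₁) ⊗ₜ[R₂] b) := by rw [rT_tmul, map_one]
      rw [AlgHom.comp_apply, AlgHom.id_apply, e1]
      change F (F' _) = _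
      rw [hF', hF]
      change rT σ₂ B₂ (φ (φ.symm _)) = _
      rw [BialgEquiv.apply_symm_apply]
    intro y
    exact AlgHom.congr_fun this y
  have hbij : Function.Bijective F :=
    Function.bijective_iff_has_inverse.2 ⟨F', h1, h2⟩
  exact ⟨BialgEquiv.ofBijective F hbij, hF⟩

end Mixed

end Groth.Agent.Lib.Helper7.FFDesc
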