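import Mathlib
import Groth.Agent.Lib.Helper7.FFDesc8

/-!
# Lifting isotrivial groups of multiplicative type along a henselian pair (helper7)
-/

set_option autoImplicit false

namespace Groth.Agent.Lib.Helper7.FFDesc

open TensorProduct Groth.Agent.Lib.Helper7.CancelBC SGA3b

universe u

section BC0

variable {R : Type u} [CommRing R] (k : Type u) [CommRing k] [Algebra R k]
  {X Y Z : Type u} [CommRing X] [Algebra R X] [CommRing Y] [Algebra R Y] [CommRing Z] [Algebra R Z]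

/-- `k ⊗ f` as an `R`-algebra map. -/
noncomputable def bc0 (f : X →ₐ[R] Y) : k ⊗[R] X →ₐ[R] k ⊗[R] Y :=
  Algebra.TensorProduct.map (AlgHom.id R k) f

/-- `k ⊗ f` as a `k`-algebra map. -/
noncomputable def bc0k (f : X →ₐ[R] Y) : k ⊗[R] X →ₐ[k] k ⊗[R] Y :=
  Algebra.TensorProduct.map (AlgHom.id k k) f

lemma bc0k_apply (f : X →ₐ[R] Y) (x : k ⊗[R] X) : bc0k k f x = bc0 k f x := rfl

variable (X) in
/-- the reduction `X → k ⊗ X`. -/
noncomputable def pi0 : X →ₐ[R] k ⊗[R] X := Algebra.TensorProduct.includeRight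

lemma pi0_comp (f : X →ₐ[R] Y) : (pi0 k Y).comp f = (bc0 k f).comp (pi0 k X) :=
  AlgHom.ext (fun _ => rfl)

lemma bc0_comp (f : X →ₐ[R] Y) (g : Y →ₐ[R] Z) : (bc0 k g).comp (bc0 k f) = bc0 k (g.comp f) := by
  rw [bc0, bc0, bc0, ← Algebra.TensorProduct.map_comp]
  rfl

lemma bc0_id : bc0 k (AlgHom.id R X) = AlgHom.id R (k ⊗[R] X) := by
  rw [bc0, Algebra.TensorProduct.map_id]

variable {k}

lemma pi0_surjective (hk : Function.Surjective (algebraMap R k)) :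
    Function.Surjective (pi0 (R := R) k X) := by
  letI : Algebra X (k ⊗[R] X) := Algebra.TensorProduct.rightAlgebra
  exact HensGL.algebraMap_right_surjective (S := X) hk

lemma ker_pi0 (hk : Function.Surjective (algebraMap R k)) :
    RingHom.ker ((pi0 (R := R) k X : X →ₐ[R] k ⊗[R] X) : X →+* k ⊗[R] X) =
      (RingHom.ker (algebraMap R k)).map (algebraMap R X) := by
  letI : Algebra X (k ⊗[R] X) := Algebra.TensorProduct.rightAlgebra
  exact HensGL.ker_algebraMap_right (S := X) hk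

end BC0

section Rel

variable {R : Type u} [CommRing R] {S : Type u} [CommRing S] [Algebra R S]

lemma lmul'_comp_i1 : (Algebra.TensorProduct.lmul' R (S := S)).comp (i1 (R := R) (S := S)) =
    AlgHom.id R S := Algebra.TensorProduct.lmul'_comp_includeLeft

lemma lmul'_comp_i2 : (Algebra.TensorProduct.lmul' R (S := S)).comp (i2 (R := R) (S := S)) =
    AlgHom.id R S := Algebra.TensorProduct.lmul'_comp_includeRight

lemma q12_comp_i1 : (q12 (R := R) (S := S)).comp (i1 (R := R) (S := S)) =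
    (q13 (R := R) (S := S)).comp (i1 (R := R) (S := S)) := by
  apply AlgHom.ext
  intro s
  simp [q12, q13, i1, i2]

lemma q12_comp_i2 : (q12 (R := R) (S := S)).comp (i2 (R := R) (S := S)) =
    (q23 (R := R) (S := S)).comp (i1 (R := R) (S := S)) := by
  apply AlgHom.ext
  intro s
  simp [q12, q23, i1, i2]

lemma q13_comp_i2 : (q13 (R := R) (S := S)).comp (i2 (R := R) (S := S)) =
    (q23 (R := R) (S := S)).comp (i2 (R := R) (S := S)) := by
  apply AlgHom.ext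
  intro s
  simp [q13, q23, i1, i2]

end Rel

section Datum

variable {R : Type u} [CommRing R] {k : Type u} [CommRing k] [Algebra R k]
  {S : Type u} [CommRing S] [Algebra R S] {L : Type u} [CommRing L] [HopfAlgebra R L]
  {A₀ : Type u} [CommRing A₀] [HopfAlgebra k A₀]
  (e : (k ⊗[R] S) ⊗[k] A₀ ≃ₐc[k ⊗[R] S] (k ⊗[R] S) ⊗[R] L)

/-- the canonical descent datum of `A₀`, transported to `L` by `e`. -/
theorem exists_datum :
    ∃ (Φ₀ : (k ⊗[R] (S ⊗[R] S)) ⊗[R] L →ₐc[k ⊗[R] (S ⊗[R] S)] (k ⊗[R] (S ⊗[R] S)) ⊗[R] L)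
      (E₂ : (k ⊗[R] (S ⊗[R] S)) ⊗[k] A₀ ≃ₐc[k ⊗[R] (S ⊗[R] S)] (k ⊗[R] (S ⊗[R] S)) ⊗[R] L),
      (∀ z, E₂ (rT (bc0k k (i2 (R := R) (S := S))) A₀ z) =
        rT (bc0 k (i2 (R := R) (S := S))) L (e z)) ∧
      (∀ z, Φ₀ (rT (bc0 k (i1 (R := R) (S := S))) L (e z)) =
        E₂ (rT (bc0k k (i1 (R := R) (S := S))) A₀ z)) := by
  obtain ⟨E₁, hE₁⟩ := exists_bcEquiv₂ (bc0k k (i1 (R := R) (S := S)))
    (bc0 k (i1 (R := R) (S := S))) (fun _ => rfl) e
  obtain ⟨E₂, hE₂⟩ := exists_bcEquiv₂ (bc0k k (i2 (R := R) (S := S)))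
    (bc0 k (i2 (R := R) (S := S))) (fun _ => rfl) e
  refine ⟨(E₂ : (k ⊗[R] (S ⊗[R] S)) ⊗[k] A₀ →ₐc[k ⊗[R] (S ⊗[R] S)]
      (k ⊗[R] (S ⊗[R] S)) ⊗[R] L).comp
    (E₁.symm : (k ⊗[R] (S ⊗[R] S)) ⊗[R] L →ₐc[k ⊗[R] (S ⊗[R] S)]
      (k ⊗[R] (S ⊗[R] S)) ⊗[k] A₀), E₂, hE₂, ?_⟩
  intro z
  rw [← hE₁]
  change E₂ (E₁.symm (E₁ _)) = _
  rw [BialgEquiv.symm_apply_apply]

end Datum

section Delta

variable {R : Type u} [CommRing R] {k : Type u} [CommRing k] [Algebra R k]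
  {S : Type u} [CommRing S] [Algebra R S]

variable (R k S) in
/-- `(k ⊗ S) ⊗[k] (k ⊗ S) → k ⊗ (S ⊗ S)`. -/
noncomputable def delta : (k ⊗[R] S) ⊗[k] (k ⊗[R] S) →ₐ[k] k ⊗[R] (S ⊗[R] S) :=
  Algebra.TensorProduct.productMap (bc0k k (i1 (R := R) (S := S))) (bc0k k (i2 (R := R) (S := S)))

lemma delta_distrib (w : k ⊗[R] (S ⊗[R] S)) :
    delta R k S (AlgebraTensorModule.distribBaseChange R k S S w) = w := by
  induction w using TensorProduct.induction_on with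
  | zero => simp
  | add x y hx hy => rw [map_add, map_add, hx, hy]
  | tmul r t =>
    induction t using TensorProduct.induction_on with
    | zero => simp
    | add x y hx hy => rw [TensorProduct.tmul_add, map_add, map_add, hx, hy]
    | tmul s s' =>
      rw [AlgebraTensorModule.distribBaseChange_tmul, delta,
        Algebra.TensorProduct.productMap_apply_tmul]
      change (r ⊗ₜ[R] (s ⊗ₜ[R] (1 : S)) : k ⊗[R] (S ⊗[R] S)) * ((1 : k) ⊗ₜ[R] ((1 : S) ⊗ₜ[R] s')) = _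
      rw [Algebra.TensorProduct.tmul_mul_tmul, Algebra.TensorProduct.tmul_mul_tmul, mul_one,
        mul_one, one_mul]

lemma delta_bijective : Function.Bijective (delta R k S) := by
  have h : Function.LeftInverse (delta R k S)
      (AlgebraTensorModule.distribBaseChange R k S S) := delta_distrib
  refine ⟨?_, h.surjective⟩
  intro x y hxy
  obtain ⟨x', rfl⟩ := (AlgebraTensorModule.distribBaseChange R k S S).surjective x
  obtain ⟨y', rfl⟩ := (AlgebraTensorModule.distribBaseChange R k S S).surjective y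
  rw [delta_distrib, delta_distrib] at hxy
  rw [hxy]

/-- descent of elements along `k → k ⊗ S` with overlap `k ⊗ (S ⊗ S)`. -/
lemma mem_range_of_bc_eq [Module.FaithfullyFlat R S] {A₀ : Type u} [AddCommGroup A₀] [Module k A₀]
    (z : (k ⊗[R] S) ⊗[k] A₀)
    (h : rT (bc0k k (i1 (R := R) (S := S))) A₀ z = rT (bc0k k (i2 (R := R) (S := S))) A₀ z) :
    z ∈ LinearMap.range (TensorProduct.mk k (k ⊗[R] S) A₀ 1) := by
  set δe := AlgEquiv.ofBijective (delta R k S) delta_bijective with hδe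
  have hinj : Function.Injective (rT (delta R k S) A₀) := by
    intro x y hxy
    have := congrArg (rT (δe.symm : k ⊗[R] (S ⊗[R] S) →ₐ[k] (k ⊗[R] S) ⊗[k] (k ⊗[R] S)) A₀) hxy
    rw [← rT_comp, ← rT_comp] at this
    have hid : (δe.symm : k ⊗[R] (S ⊗[R] S) →ₐ[k] (k ⊗[R] S) ⊗[k] (k ⊗[R] S)).comp
        (delta R k S) = AlgHom.id k _ := by
      apply AlgHom.ext
      intro a
      exact δe.symm_apply_apply a
    rwa [hid, rT_id, rT_id] at this
  apply PIDesc.mem_range_of_map_eq (R := k) (K := k ⊗[R] S) (A := A₀) z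
  apply hinj
  have e1 : ∀ (σ : (k ⊗[R] S) →ₐ[k] (k ⊗[R] S) ⊗[k] (k ⊗[R] S)) (y : (k ⊗[R] S) ⊗[k] A₀),
      TensorProduct.map σ.toLinearMap (LinearMap.id : A₀ →ₗ[k] A₀) y = rT σ A₀ y := fun _ _ => rfl
  rw [e1, e1, ← rT_comp, ← rT_comp]
  have h1 : (delta R k S).comp
      (Algebra.TensorProduct.includeLeft : (k ⊗[R] S) →ₐ[k] (k ⊗[R] S) ⊗[k] (k ⊗[R] S)) =
      bc0k k (i1 (R := R) (S := S)) := by
    apply AlgHom.ext
    intro a
    change delta R k S (a ⊗ₜ[k] (1 : k ⊗[R] S)) = _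
    rw [delta, Algebra.TensorProduct.productMap_apply_tmul, map_one, mul_one]
  have h2 : (delta R k S).comp
      (Algebra.TensorProduct.includeRight : (k ⊗[R] S) →ₐ[k] (k ⊗[R] S) ⊗[k] (k ⊗[R] S)) =
      bc0k k (i2 (R := R) (S := S)) := by
    apply AlgHom.ext
    intro a
    change delta R k S ((1 : k ⊗[R] S) ⊗ₜ[k] a) = _
    rw [delta, Algebra.TensorProduct.productMap_apply_tmul, map_one, one_mul]
  rw [h1, h2, h]

end Delta

section Main

variable {R : Type u} [CommRing R] {k : Type u} [CommRing k] [Algebra R k]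
  (hk : Function.Surjective (algebraMap R k)) (I : Ideal R) [HenselianRing R I]
  (hI : RingHom.ker (algebraMap R k) = I)
  (S : Type u) [CommRing S] [Algebra R S] [Module.Finite R S] [Module.FaithfullyFlat R S]
  {M : Type u} [CommGroup M] {A₀ : Type u} [CommRing A₀] [HopfAlgebra k A₀]
  (e₀ : (k ⊗[R] S) ⊗[k] A₀ ≃ₐc[k ⊗[R] S] MonoidAlgebra (k ⊗[R] S) M)

include hk hI in
lemma ker_pi0_le (X : Type u) [CommRing X] [Algebra R X] [Algebra.IsIntegral R X] :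
    RingHom.ker ((pi0 (R := R) k X : X →ₐ[R] k ⊗[R] X) : X →+* k ⊗[R] X) ≤ Ideal.jacobson ⊥ := by
  rw [ker_pi0 hk, hI]
  exact Groth.Agent.Lib.Helper4.HenselPair.map_le_jacobson_of_isIntegral I HenselianRing.jac

include hk hI in
lemma idem_lift_pi0 (X : Type u) [CommRing X] [Algebra R X] [Algebra.IsIntegral R X] (x : X)
    (hx : x * x - x ∈ RingHom.ker ((pi0 (R := R) k X : X →ₐ[R] k ⊗[R] X) : X →+* k ⊗[R] X)) :
    ∃ e : X, IsIdempotentElem e ∧
      e - x ∈ RingHom.ker ((pi0 (R := R) k X : X →ₐ[R] k ⊗[R] X) : X →+* k ⊗[R] X) := by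
  rw [ker_pi0 hk, hI] at hx ⊢
  exact Groth.Agent.Lib.Helper4.HenselPair.exists_idempotent_lift_of_isIntegral I x hx

include hk hI e₀ in
/-- **Lifting of groups of multiplicative type split by a finite cover along a henselian pair.** -/
theorem exists_lift_of_henselian :
    ∃ (A : Type u) (_ : CommRing A) (_ : HopfAlgebra R A),
      Nonempty (S ⊗[R] A ≃ₐc[S] MonoidAlgebra S M) ∧ Nonempty (k ⊗[R] A ≃ₐc[k] A₀) := by
  classical
  obtain ⟨eS⟩ := nonempty_bialgEquiv_baseChange S (BialgEquiv.refl R (MonoidAlgebra R M))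
  obtain ⟨eT⟩ := nonempty_bialgEquiv_baseChange (S ⊗[R] S) (BialgEquiv.refl R (MonoidAlgebra R M))
  obtain ⟨eU⟩ := nonempty_bialgEquiv_baseChange (S ⊗[R] (S ⊗[R] S))
    (BialgEquiv.refl R (MonoidAlgebra R M))
  obtain ⟨eS₀⟩ := nonempty_bialgEquiv_baseChange (k ⊗[R] S) (BialgEquiv.refl R (MonoidAlgebra R M))
  set e : (k ⊗[R] S) ⊗[k] A₀ ≃ₐc[k ⊗[R] S] (k ⊗[R] S) ⊗[R] MonoidAlgebra R M :=
    e₀.trans eS₀.symm with he
  obtain ⟨Φ₀, E₂, hE₂, hΦ₀⟩ := exists_datum e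
  set G : Set ((k ⊗[R] S) ⊗[R] MonoidAlgebra R M) :=
    Set.range (fun x : A₀ => e ((1 : k ⊗[R] S) ⊗ₜ[k] x)) with hGdef
  have hG : Submodule.span (k ⊗[R] S) G = ⊤ := by
    rw [eq_top_iff]
    intro y _
    have hy : y = e (e.symm y) := (e.apply_symm_apply y).symm
    rw [hy]
    generalize e.symm y = w
    induction w using TensorProduct.induction_on with
    | zero => rw [map_zero]; exact Submodule.zero_mem _
    | add x y hx hy => rw [map_add]; exact Submodule.add_mem _ hx hy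
    | tmul s x =>
      have : s ⊗ₜ[k] x = s • ((1 : k ⊗[R] S) ⊗ₜ[k] x) := by
        rw [TensorProduct.smul_tmul', smul_eq_mul, mul_one]
      rw [this, map_smul]
      exact Submodule.smul_mem _ _ (Submodule.subset_span ⟨x, rfl⟩)
  have hstar : ∀ g ∈ G, Φ₀ (rT (bc0 k (i1 (R := R) (S := S))) (MonoidAlgebra R M) g) =
      rT (bc0 k (i2 (R := R) (S := S))) (MonoidAlgebra R M) g := by
    rintro _ ⟨x, rfl⟩
    change Φ₀ (rT (bc0 k (i1 (R := R) (S := S))) (MonoidAlgebra R M)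
      (e ((1 : k ⊗[R] S) ⊗ₜ[k] x))) = rT (bc0 k (i2 (R := R) (S := S))) (MonoidAlgebra R M)
        (e ((1 : k ⊗[R] S) ⊗ₜ[k] x))
    rw [hΦ₀, ← hE₂, rT_tmul, rT_tmul, map_one, map_one]
  have : Algebra.IsIntegral R S := Algebra.IsIntegral.of_finite R S
  have : Algebra.IsIntegral R (S ⊗[R] S) := Algebra.IsIntegral.of_finite R _
  have : Algebra.IsIntegral R (S ⊗[R] (S ⊗[R] S)) := Algebra.IsIntegral.of_finite R _
  obtain ⟨Φ, hC1, hC2, hΦ⟩ := exists_lift_descent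
    (bc0 k (i1 (R := R) (S := S))) (bc0 k (i2 (R := R) (S := S)))
    (bc0 k (Algebra.TensorProduct.lmul' R (S := S)))
    (bc0 k (q12 (R := R) (S := S))) (bc0 k (q13 (R := R) (S := S))) (bc0 k (q23 (R := R) (S := S)))
    (by rw [bc0_comp, lmul'_comp_i1, bc0_id]) (by rw [bc0_comp, lmul'_comp_i2, bc0_id])
    (by rw [bc0_comp, bc0_comp, q12_comp_i1]) (by rw [bc0_comp, bc0_comp, q12_comp_i2])
    (by rw [bc0_comp, bc0_comp, q13_comp_i2])
    Φ₀ G hG hstar (pi0 k S) (pi0 k (S ⊗[R] S)) (pi0 k (S ⊗[R] (S ⊗[R] S)))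
    (pi0_comp k _) (pi0_comp k _) (pi0_comp k _) (pi0_comp k _)
    (pi0_surjective hk) (ker_pi0_le hk I hI S) (pi0_surjective hk) (ker_pi0_le hk I hI _)
    (pi0_surjective hk) (ker_pi0_le hk I hI _) (idem_lift_pi0 hk I hI _) eS eT eU
  obtain ⟨A, instA, instH, j, θ, hθ, hjmem, -⟩ := exists_descent Φ hC1 hC2
  refine ⟨A, instA, instH, ⟨θ.trans eS⟩, ?_⟩
  obtain ⟨θ₀, hθ₀⟩ := exists_bcEquiv₂ (pi0 k S) (pi0 k S) (fun _ => rfl) θ
  set Ψ : (k ⊗[R] S) ⊗[k] (k ⊗[R] A) ≃ₐc[k ⊗[R] S] (k ⊗[R] S) ⊗[k] A₀ :=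
    (cancelBC R k (k ⊗[R] S) A).trans (θ₀.trans e.symm) with hΨ
  have hΨ1 : ∀ x : A, Ψ ((1 : k ⊗[R] S) ⊗ₜ[k] ((1 : k) ⊗ₜ[R] x)) =
      e.symm (rT (pi0 k S) (MonoidAlgebra R M) (j x)) := by
    intro x
    change e.symm (θ₀ (cancelBC R k (k ⊗[R] S) A ((1 : k ⊗[R] S) ⊗ₜ[k] ((1 : k) ⊗ₜ[R] x)))) = _
    rw [cancelBC_tmul, one_smul]
    have e1 : ((1 : k ⊗[R] S) ⊗ₜ[R] x : (k ⊗[R] S) ⊗[R] A) =
        rT (pi0 k S) A ((1 : S) ⊗ₜ[R] x) := by rw [rT_tmul, map_one]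
    rw [e1, hθ₀, hθ, one_smul]
  have hex1 : ∀ x : A, ∃ b : A₀, (1 : k ⊗[R] S) ⊗ₜ[k] b =
      Ψ ((1 : k ⊗[R] S) ⊗ₜ[k] ((1 : k) ⊗ₜ[R] x)) := by
    intro x
    rw [hΨ1]
    set z := e.symm (rT (pi0 k S) (MonoidAlgebra R M) (j x)) with hz
    have hez : e z = rT (pi0 k S) (MonoidAlgebra R M) (j x) := e.apply_symm_apply _
    have h12 : rT (bc0k k (i1 (R := R) (S := S))) A₀ z = rT (bc0k k (i2 (R := R) (S := S))) A₀ z := by
      apply EquivLike.injective E₂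
      rw [hE₂, ← hΦ₀, hez, ← rT_comp, ← rT_comp, ← pi0_comp, ← pi0_comp, rT_comp, rT_comp, hΦ,
        hjmem]
    obtain ⟨b, hb⟩ := mem_range_of_bc_eq z h12
    exact ⟨b, hb⟩
  have hex : ∀ c : k ⊗[R] A, ∃ b : A₀, (1 : k ⊗[R] S) ⊗ₜ[k] b = Ψ ((1 : k ⊗[R] S) ⊗ₜ[k] c) := by
    intro c
    induction c using TensorProduct.induction_on with
    | zero => exact ⟨0, by rw [TensorProduct.tmul_zero, TensorProduct.tmul_zero, map_zero]⟩
    | add x y hx hy =>
      obtain ⟨b, hb⟩ := hx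
      obtain ⟨b', hb'⟩ := hy
      exact ⟨b + b', by rw [TensorProduct.tmul_add, TensorProduct.tmul_add, map_add, hb, hb']⟩
    | tmul r x =>
      obtain ⟨b, hb⟩ := hex1 x
      refine ⟨r • b, ?_⟩
      have e1 : (r ⊗ₜ[R] x : k ⊗[R] A) = r • ((1 : k) ⊗ₜ[R] x) := by
        rw [TensorProduct.smul_tmul', smul_eq_mul, mul_one]
      rw [e1, TensorProduct.tmul_smul, TensorProduct.tmul_smul,
        ← algebraMap_smul (k ⊗[R] S) r ((1 : k ⊗[R] S) ⊗ₜ[k] ((1 : k) ⊗ₜ[R] x)), map_smul, ← hb,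
        algebraMap_smul]
  obtain ⟨φ, hφ⟩ := BialgDescent.exists_descent (R := k) (S := k ⊗[R] S)
    (Ψ : (k ⊗[R] S) ⊗[k] (k ⊗[R] A) →ₐc[k ⊗[R] S] (k ⊗[R] S) ⊗[k] A₀) hex
  have hφ' : ∀ c, Ψ ((1 : k ⊗[R] S) ⊗ₜ[k] c) = (1 : k ⊗[R] S) ⊗ₜ[k] φ c := hφ
  have hlt : ∀ w, LinearMap.lTensor (k ⊗[R] S) (φ : k ⊗[R] A →ₐ[k] A₀).toLinearMap w = Ψ w := by
    intro w
    induction w using TensorProduct.induction_on with
    | zero => simp
    | add x y hx hy => rw [map_add, map_add, hx, hy]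
    | tmul s c =>
      have : s ⊗ₜ[k] c = s • ((1 : k ⊗[R] S) ⊗ₜ[k] c) := by
        rw [TensorProduct.smul_tmul', smul_eq_mul, mul_one]
      rw [LinearMap.lTensor_tmul, this, map_smul, hφ', TensorProduct.smul_tmul', smul_eq_mul,
        mul_one]
      rfl
  have hbij : Function.Bijective φ := by
    have h1 : Function.Bijective
        (LinearMap.lTensor (k ⊗[R] S) (φ : k ⊗[R] A →ₐ[k] A₀).toLinearMap) := by
      have : (LinearMap.lTensor (k ⊗[R] S) (φ : k ⊗[R] A →ₐ[k] A₀).toLinearMap :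
          (k ⊗[R] S) ⊗[k] (k ⊗[R] A) → (k ⊗[R] S) ⊗[k] A₀) = Ψ := funext hlt
      rw [this]
      exact Ψ.bijective
    exact (Module.FaithfullyFlat.lTensor_bijective_iff_bijective k (k ⊗[R] S) _).1 h1
  exact ⟨BialgEquiv.ofBijective φ hbij⟩

end Main

end Groth.Agent.Lib.Helper7.FFDesc
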