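import Mathlib
import Groth.Agent.Lib.Helper7.FFDesc9
import Groth.Agent.Lib.Helper4.HenselPairLE

/-!
# Isotrivial groups of multiplicative type lift along henselian pairs (helper7)
-/

set_option autoImplicit false

namespace Groth.Agent.Lib.Helper7.FFDesc

open TensorProduct SGA3b

universe u

section FF

variable {R : Type u} [CommRing R] {k : Type u} [CommRing k] [Algebra R k]

/-- a flat `R`-algebra mapping to a faithfully flat algebra over `k = R/I`, `I` in the Jacobson
radical, is faithfully flat. -/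
theorem faithfullyFlat_of_algHom (hk : Function.Surjective (algebraMap R k))
    (hjac : RingHom.ker (algebraMap R k) ≤ Ideal.jacobson ⊥)
    (S : Type u) [CommRing S] [Algebra R S] [Module.Flat R S]
    (k' : Type u) [CommRing k'] [Algebra k k'] [Algebra R k'] [IsScalarTower R k k']
    [Module.FaithfullyFlat k k'] (ψ : S →ₐ[R] k') : Module.FaithfullyFlat R S := by
  refine ⟨fun m hm htop => ?_⟩
  rw [Ideal.smul_top_eq_map] at htop
  have hle : RingHom.ker (algebraMap R k) ≤ m := by
    refine hjac.trans ?_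
    rw [Ideal.jacobson_bot]
    exact Ring.jacobson_le_of_isMaximal m
  have hmax : (m.map (algebraMap R k)).IsMaximal := by
    rcases Ideal.map_eq_top_or_isMaximal_of_surjective (algebraMap R k) hk hm with h | h
    · exfalso
      have h1 := Ideal.comap_map_of_surjective (algebraMap R k) hk m
      rw [h, Ideal.comap_top] at h1
      have h2 : m ⊔ Ideal.comap (algebraMap R k) ⊥ = m := by
        rw [sup_eq_left]
        exact hle
      rw [h2] at h1
      exact hm.ne_top h1.symm
    · exact h
  have h3 : (m.map (algebraMap R k)).map (algebraMap k k') = ⊤ := by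
    rw [Ideal.map_map, ← IsScalarTower.algebraMap_eq]
    have h4 : algebraMap R k' = (ψ : S →+* k').comp (algebraMap R S) := ψ.comp_algebraMap.symm
    rw [h4, ← Ideal.map_map]
    have h5 : Ideal.map (algebraMap R S) m = ⊤ := by
      apply Submodule.restrictScalars_injective R
      rw [htop]
      rfl
    rw [h5]
    exact Ideal.map_top _
  have := Module.FaithfullyFlat.submodule_ne_top (R := k) (M := k') hmax
  apply this
  rw [Ideal.smul_top_eq_map, h3]
  rfl

end FF

section Wrapper

variable {R : Type u} [CommRing R] {k : Type u} [CommRing k] [Algebra R k]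

/-- the reduction of a lift of `k'` is `k'`. -/
theorem nonempty_algEquiv_of_lift (hk : Function.Surjective (algebraMap R k))
    (S : Type u) [CommRing S] [Algebra R S]
    (k' : Type u) [CommRing k'] [Algebra k k'] [Algebra R k'] [IsScalarTower R k k']
    (ψ : S →ₐ[R] k') (hψ : Function.Surjective ψ)
    (hker : RingHom.ker ψ = (RingHom.ker (algebraMap R k)).map (algebraMap R S)) :
    Nonempty (k ⊗[R] S ≃ₐ[k] k') := by
  set f : k ⊗[R] S →ₐ[k] k' :=
    Algebra.TensorProduct.productLeftAlgHom (Algebra.ofId k k') ψ with hf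
  have hf1 : ∀ s : S, f ((1 : k) ⊗ₜ[R] s) = ψ s := by
    intro s
    rw [hf, Algebra.TensorProduct.lift_tmul, map_one, one_mul]
  have hall : ∀ y : k ⊗[R] S, ∃ s : S, y = (1 : k) ⊗ₜ[R] s := by
    intro y
    induction y using TensorProduct.induction_on with
    | zero => exact ⟨0, (TensorProduct.tmul_zero _ _).symm⟩
    | add x y hx hy =>
      obtain ⟨a, rfl⟩ := hx
      obtain ⟨a', rfl⟩ := hy
      exact ⟨a + a', (TensorProduct.tmul_add _ _ _).symm⟩
    | tmul r a =>
      obtain ⟨r, rfl⟩ := hk r
      refine ⟨r • a, ?_⟩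
      rw [TensorProduct.tmul_smul, TensorProduct.smul_tmul']
      congr 1
      rw [Algebra.smul_def, mul_one]
  have hbij : Function.Bijective f := by
    constructor
    · rw [injective_iff_map_eq_zero]
      intro y hy
      obtain ⟨s, rfl⟩ := hall y
      rw [hf1] at hy
      have hs : s ∈ RingHom.ker ψ := hy
      rw [hker] at hs
      have hs' : s ∈ (RingHom.ker (algebraMap R k)) • (⊤ : Submodule R S) := by
        rw [Ideal.smul_top_eq_map]
        exact hs
      exact Groth.Agent.Lib.Helper7.NilLift.one_tmul_eq_zero_of_mem_smul_top' hs'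
    · intro c
      obtain ⟨s, rfl⟩ := hψ c
      exact ⟨(1 : k) ⊗ₜ[R] s, hf1 s⟩
  exact ⟨AlgEquiv.ofBijective f hbij⟩

/-- finite étale algebras lift along a henselian pair (abstract quotient). -/
theorem exists_finite_etale_lift' (hk : Function.Surjective (algebraMap R k)) (I : Ideal R)
    [HenselianRing R I] (hI : RingHom.ker (algebraMap R k) = I)
    (k' : Type u) [CommRing k'] [Algebra k k'] [Module.Finite k k'] [Algebra.Etale k k']
    [Algebra R k'] [IsScalarTower R k k'] :
    ∃ (S : Type u) (_ : CommRing S) (_ : Algebra R S), Module.Finite R S ∧ Algebra.Etale R S ∧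
      ∃ ψ : S →ₐ[R] k', Function.Surjective ψ ∧
        RingHom.ker ψ = (RingHom.ker (algebraMap R k)).map (algebraMap R S) := by
  subst hI
  set ε : R ⧸ RingHom.ker (algebraMap R k) →+* k := RingHom.kerLift (algebraMap R k) with hε
  have hεinj : Function.Injective ε := RingHom.kerLift_injective _
  have hεsurj : Function.Surjective ε := by
    intro c
    obtain ⟨r, rfl⟩ := hk c
    exact ⟨Ideal.Quotient.mk _ r, RingHom.kerLift_mk _ r⟩
  letI : Algebra (R ⧸ RingHom.ker (algebraMap R k)) k := ε.toAlgebra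
  letI : Algebra (R ⧸ RingHom.ker (algebraMap R k)) k' := ((algebraMap k k').comp ε).toAlgebra
  haveI t1 : IsScalarTower (R ⧸ RingHom.ker (algebraMap R k)) k k' :=
    IsScalarTower.of_algebraMap_eq (fun _ => rfl)
  haveI t2 : IsScalarTower R (R ⧸ RingHom.ker (algebraMap R k)) k' :=
    IsScalarTower.of_algebraMap_eq (fun r => by
      change algebraMap R k' r = algebraMap k k' (ε (Ideal.Quotient.mk _ r))
      rw [hε, RingHom.kerLift_mk, ← IsScalarTower.algebraMap_apply])
  haveI : Algebra.Etale (R ⧸ RingHom.ker (algebraMap R k)) k :=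
    Algebra.Etale.of_equiv (AlgEquiv.ofBijective
      (Algebra.ofId (R ⧸ RingHom.ker (algebraMap R k)) k) ⟨hεinj, hεsurj⟩)
  haveI : Algebra.Etale (R ⧸ RingHom.ker (algebraMap R k)) k' :=
    Algebra.Etale.comp (R ⧸ RingHom.ker (algebraMap R k)) k k'
  haveI : Module.Finite (R ⧸ RingHom.ker (algebraMap R k)) k :=
    Module.Finite.of_surjective (Algebra.linearMap (R ⧸ RingHom.ker (algebraMap R k)) k) hεsurj
  haveI : Module.Finite (R ⧸ RingHom.ker (algebraMap R k)) k' := Module.Finite.trans k k'
  obtain ⟨S, i1, i2, hfin, het, ψ, hψ, hker⟩ :=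
    Groth.Agent.Lib.Helper4.HenselPair.exists_finite_etale_lift (RingHom.ker (algebraMap R k)) k'
  exact ⟨S, i1, i2, hfin, het, ψ, hψ, hker⟩

/-- **Isotrivial groups of multiplicative type lift along a henselian pair.** -/
theorem exists_isotrivial_lift (hk : Function.Surjective (algebraMap R k)) (I : Ideal R)
    [HenselianRing R I] (hI : RingHom.ker (algebraMap R k) = I)
    (A₀ : Type u) [CommRing A₀] [HopfAlgebra k A₀] (h0 : IsIsotrivial k A₀) :
    ∃ (A : Type u) (_ : CommRing A) (_ : HopfAlgebra R A) (S : Type u) (_ : CommRing S)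
      (_ : Algebra R S) (M : Type u) (_ : CommGroup M),
      Algebra.Etale R S ∧ Module.Finite R S ∧ Module.FaithfullyFlat R S ∧
      Nonempty (S ⊗[R] A ≃ₐc[S] MonoidAlgebra S M) ∧
      Nonempty ((k ⊗[R] S) ⊗[k] A₀ ≃ₐc[k ⊗[R] S] MonoidAlgebra (k ⊗[R] S) M) ∧
      Nonempty (k ⊗[R] A ≃ₐc[k] A₀) := by
  obtain ⟨k', _, _, het, hfin, hff, hd⟩ := h0
  letI : Algebra R k' := ((algebraMap k k').comp (algebraMap R k)).toAlgebra
  haveI : IsScalarTower R k k' := IsScalarTower.of_algebraMap_eq (fun _ => rfl)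
  obtain ⟨S, _, _, hSfin, hSet, ψ, hψ, hker⟩ := exists_finite_etale_lift' hk I hI k'
  obtain ⟨ea⟩ := nonempty_algEquiv_of_lift hk S k' ψ hψ hker
  have hjac : RingHom.ker (algebraMap R k) ≤ Ideal.jacobson ⊥ := by
    rw [hI]
    exact HenselianRing.jac
  have hSff : Module.FaithfullyFlat R S := faithfullyFlat_of_algHom hk hjac S k' ψ
  obtain ⟨M, _, ⟨e₀⟩⟩ := HensGL.isDiag_of_algHom (A := k) (B := A₀)
    (ea.symm : k' →ₐ[k] k ⊗[R] S) hd
  obtain ⟨A, iA, iH, h1, h2⟩ := exists_lift_of_henselian hk I hI S e₀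
  exact ⟨A, iA, iH, S, _, _, M, _, hSet, hSfin, hSff, h1, ⟨e₀⟩, h2⟩

end Wrapper

end Groth.Agent.Lib.Helper7.FFDesc
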