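import Mathlib
import Groth.Agent.Lib.Helper8.FlatLoc

/-!
# Flatness of a reduction `(A/J) ⊗ C` from flatness at the primes over `V(J)` (helper7)
-/

set_option autoImplicit false
set_option backward.isDefEq.respectTransparency.types false

namespace Groth.Agent.Lib.Helper7.Thick

open TensorProduct

universe u

section FlatQ

attribute [local instance] Algebra.TensorProduct.rightAlgebra

variable {A : Type u} [CommRing A] (J : Ideal A) (C : Type u) [CommRing C] [Algebra A C]

lemma algebraMap_tensor_quot_surjective :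
    Function.Surjective (algebraMap C (C ⊗[A] (A ⧸ J))) := by
  intro y
  induction y using TensorProduct.induction_on with
  | zero => exact ⟨0, map_zero _⟩
  | add x y hx hy =>
    obtain ⟨a, rfl⟩ := hx
    obtain ⟨a', rfl⟩ := hy
    exact ⟨a + a', map_add _ _ _⟩
  | tmul c r =>
    obtain ⟨r, rfl⟩ := Ideal.Quotient.mk_surjective r
    refine ⟨r • c, ?_⟩
    rw [Algebra.TensorProduct.algebraMap_apply, Algebra.algebraMap_self, RingHom.id_apply,
      TensorProduct.smul_tmul]
    congr 1
    rw [Algebra.smul_def, mul_one]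
    rfl

lemma map_le_comap_of_quot (P : Ideal (C ⊗[A] (A ⧸ J))) :
    J.map (algebraMap A C) ≤ P.comap (algebraMap C (C ⊗[A] (A ⧸ J))) := by
  rw [Ideal.map_le_iff_le_comap]
  intro a ha
  rw [Ideal.mem_comap, Ideal.mem_comap, Algebra.TensorProduct.algebraMap_apply,
    Algebra.algebraMap_self, RingHom.id_apply]
  have : (algebraMap A C a) ⊗ₜ[A] (1 : A ⧸ J) = 0 := by
    rw [Algebra.algebraMap_eq_smul_one, TensorProduct.smul_tmul]
    have : a • (1 : A ⧸ J) = 0 := by
      rw [Algebra.smul_def, mul_one]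
      exact Ideal.Quotient.eq_zero_iff_mem.2 ha
    rw [this, TensorProduct.tmul_zero]
  rw [this]
  exact zero_mem _

theorem flat_tensor_quot
    (h : ∀ (q : Ideal C) [q.IsPrime], J.map (algebraMap A C) ≤ q →
      Module.Flat A (Localization.AtPrime q)) :
    Module.Flat (A ⧸ J) (C ⊗[A] (A ⧸ J)) := by
  apply Groth.Agent.Lib.Helper8.FlatLoc.flat_of_forall_maximal (S := C ⊗[A] (A ⧸ J))
  intro P hP
  set q : Ideal C := P.comap (algebraMap C (C ⊗[A] (A ⧸ J))) with hq
  have hqp : q.IsPrime := Ideal.comap_isPrime _ _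
  have hfl : Module.Flat A (Localization.AtPrime q) := h q (map_le_comap_of_quot J C P)
  let fmap : C ⊗[A] (A ⧸ J) →ₐ[A] Localization.AtPrime q ⊗[A] (A ⧸ J) :=
    Algebra.TensorProduct.map (IsScalarTower.toAlgHom A C (Localization.AtPrime q))
      (AlgHom.id A (A ⧸ J))
  let _ : Algebra (C ⊗[A] (A ⧸ J)) (Localization.AtPrime q ⊗[A] (A ⧸ J)) :=
    fmap.toRingHom.toAlgebra
  have hfm : ∀ x, algebraMap (C ⊗[A] (A ⧸ J)) (Localization.AtPrime q ⊗[A] (A ⧸ J)) x = fmap x :=
    fun _ => rfl
  have t1 : IsScalarTower (A ⧸ J) (C ⊗[A] (A ⧸ J)) (Localization.AtPrime q ⊗[A] (A ⧸ J)) := by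
    apply IsScalarTower.of_algebraMap_eq
    intro r
    rw [hfm, Algebra.TensorProduct.right_algebraMap_apply,
      Algebra.TensorProduct.right_algebraMap_apply, Algebra.TensorProduct.map_tmul, map_one,
      AlgHom.id_apply]
  have t2 : IsScalarTower C (C ⊗[A] (A ⧸ J)) (Localization.AtPrime q ⊗[A] (A ⧸ J)) := by
    refine IsScalarTower.of_algebraMap_smul (R := C) (A := C ⊗[A] (A ⧸ J))
      (M := Localization.AtPrime q ⊗[A] (A ⧸ J)) (fun c x => ?_)
    rw [Algebra.smul_def, hfm, Algebra.TensorProduct.algebraMap_apply, Algebra.algebraMap_self,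
      RingHom.id_apply, Algebra.TensorProduct.map_tmul, map_one]
    induction x using TensorProduct.induction_on with
    | zero => simp
    | add x y hx hy => rw [mul_add, hx, hy, smul_add]
    | tmul l r =>
      rw [Algebra.TensorProduct.tmul_mul_tmul, one_mul, TensorProduct.smul_tmul', Algebra.smul_def]
      rfl
  let g : C ⊗[A] (A ⧸ J) →ₗ[C ⊗[A] (A ⧸ J)] Localization.AtPrime q ⊗[A] (A ⧸ J) :=
    Algebra.linearMap _ _
  have hg : g.restrictScalars C = AlgebraTensorModule.rTensor A (A ⧸ J)
      (Algebra.linearMap C (Localization.AtPrime q)) := by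
    apply TensorProduct.AlgebraTensorModule.ext
    intro c r
    rfl
  have i1 : IsLocalizedModule q.primeCompl (g.restrictScalars C) := by
    rw [hg]
    infer_instance
  have i2 : IsLocalizedModule (Algebra.algebraMapSubmonoid (C ⊗[A] (A ⧸ J)) q.primeCompl) g :=
    IsLocalizedModule.of_restrictScalars q.primeCompl g
  have hsub : Algebra.algebraMapSubmonoid (C ⊗[A] (A ⧸ J)) q.primeCompl = P.primeCompl := by
    ext x
    constructor
    · rintro ⟨c, hc, rfl⟩
      exact hc
    · intro hx
      obtain ⟨c, rfl⟩ := algebraMap_tensor_quot_surjective J C x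
      exact ⟨c, hx, rfl⟩
  rw [hsub] at i2
  refine ⟨Localization.AtPrime q ⊗[A] (A ⧸ J), inferInstance, inferInstance, inferInstance, t1,
    g, i2, ?_⟩
  exact Module.Flat.of_linearEquiv
    (Algebra.TensorProduct.commRight A (A ⧸ J) (Localization.AtPrime q)).symm.toLinearEquiv

theorem flat_quot_tensor
    (h : ∀ (q : Ideal C) [q.IsPrime], J.map (algebraMap A C) ≤ q →
      Module.Flat A (Localization.AtPrime q)) :
    Module.Flat (A ⧸ J) ((A ⧸ J) ⊗[A] C) := by
  have := flat_tensor_quot J C h
  exact Module.Flat.of_linearEquiv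
    (Algebra.TensorProduct.commRight A (A ⧸ J) C).toLinearEquiv

end FlatQ

end Groth.Agent.Lib.Helper7.Thick
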