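import Groth.Agent.Lib.Helper7.HH6

/-!
# Lifting homomorphisms from a group with invariant integral along nilpotent thickenings,
relative form (helper7)
-/

set_option autoImplicit false

namespace Groth.Agent.Lib.Helper7.HH

open TensorProduct Groth.Agent.Lib.Helper7.CancelBC

universe u

section Rel

variable {R₀ : Type u} [CommRing R₀] {B : Type u} [CommRing B] [HopfAlgebra R₀ B]
  {C : Type u} [CommRing C] [HopfAlgebra R₀ C]

/-- reduction `R ⊗ B → k ⊗ B`. -/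
noncomputable abbrev red (R k : Type u) [CommRing R] [Algebra R₀ R] [CommRing k] [Algebra R₀ k]
    [Algebra R k] [IsScalarTower R₀ R k] (B : Type u) [CommRing B] [Algebra R₀ B] :
    R ⊗[R₀] B →ₐ[R₀] k ⊗[R₀] B :=
  Algebra.TensorProduct.map (IsScalarTower.toAlgHom R₀ R k) (AlgHom.id R₀ B)

lemma cancelBC_one_tmul (R k : Type u) [CommRing R] [Algebra R₀ R] [CommRing k] [Algebra R₀ k]
    [Algebra R k] [IsScalarTower R₀ R k] (y : R ⊗[R₀] B) :
    cancelBC R₀ R k B ((1 : k) ⊗ₜ[R] y) = red R k B y := by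
  induction y using TensorProduct.induction_on with
  | zero => simp
  | tmul r b =>
    rw [cancelBC_tmul, Algebra.TensorProduct.map_tmul, AlgHom.id_apply,
      IsScalarTower.coe_toAlgHom', Algebra.algebraMap_eq_smul_one]
  | add x y hx hy => rw [TensorProduct.tmul_add, map_add, hx, hy, map_add]

lemma red_red (R R' k : Type u) [CommRing R] [Algebra R₀ R] [CommRing R'] [Algebra R₀ R']
    [CommRing k] [Algebra R₀ k] [Algebra R R'] [IsScalarTower R₀ R R'] [Algebra R' k]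
    [IsScalarTower R₀ R' k] [Algebra R k] [IsScalarTower R₀ R k] [IsScalarTower R R' k]
    (y : R ⊗[R₀] B) : red R' k B (red R R' B y) = red R k B y := by
  induction y using TensorProduct.induction_on with
  | zero => simp
  | tmul r b =>
    simp only [Algebra.TensorProduct.map_tmul, AlgHom.id_apply, IsScalarTower.coe_toAlgHom']
    rw [← IsScalarTower.algebraMap_apply]
  | add x y hx hy => simp only [map_add, hx, hy]

theorem rel_sqzero {I : B →ₗ[R₀] R₀} (hI : IsInvInt I) [Algebra.FormallySmooth R₀ C]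
    (R k : Type u) [CommRing R] [Algebra R₀ R] [CommRing k] [Algebra R₀ k]
    [Algebra R k] [IsScalarTower R₀ R k] (hk : Function.Surjective (algebraMap R k))
    (hJ : RingHom.ker (algebraMap R k) * RingHom.ker (algebraMap R k) = ⊥)
    (φ₀ : (k ⊗[R₀] C) →ₐc[k] (k ⊗[R₀] B)) :
    ∃ φ : (R ⊗[R₀] C) →ₐc[R] (R ⊗[R₀] B),
      ∀ c : C, φ₀ ((1 : k) ⊗ₜ[R₀] c) = red R k B (φ ((1 : R) ⊗ₜ[R₀] c)) := by
  set φ' : (k ⊗[R] (R ⊗[R₀] C)) →ₐc[k] (k ⊗[R] (R ⊗[R₀] B)) :=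
    ((cancelBC R₀ R k B).symm : _ →ₐc[k] _).comp
      (φ₀.comp (cancelBC R₀ R k C : _ →ₐc[k] _)) with hφ'
  obtain ⟨φ, hφ⟩ := sqzero_step hk hJ (hI.baseChange R) φ'
  refine ⟨φ, fun c => ?_⟩
  have h1 := hφ ((1 : R) ⊗ₜ[R₀] c)
  have h2 : φ' ((1 : k) ⊗ₜ[R] ((1 : R) ⊗ₜ[R₀] c)) =
      (cancelBC R₀ R k B).symm (φ₀ (cancelBC R₀ R k C ((1 : k) ⊗ₜ[R] ((1 : R) ⊗ₜ[R₀] c)))) := rfl
  rw [h2, cancelBC_tmul, one_smul] at h1
  rw [← cancelBC_one_tmul, ← h1, BialgEquiv.apply_symm_apply]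

theorem rel_nilp {I : B →ₗ[R₀] R₀} (hI : IsInvInt I) [Algebra.FormallySmooth R₀ C] (n : ℕ) :
    ∀ (R k : Type u) [CommRing R] [Algebra R₀ R] [CommRing k] [Algebra R₀ k]
      [Algebra R k] [IsScalarTower R₀ R k], Function.Surjective (algebraMap R k) →
      RingHom.ker (algebraMap R k) ^ (n + 1) = ⊥ →
      ∀ φ₀ : (k ⊗[R₀] C) →ₐc[k] (k ⊗[R₀] B),
        ∃ φ : (R ⊗[R₀] C) →ₐc[R] (R ⊗[R₀] B),
          ∀ c : C, φ₀ ((1 : k) ⊗ₜ[R₀] c) = red R k B (φ ((1 : R) ⊗ₜ[R₀] c)) := by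
  induction n with
  | zero =>
    intro R k _ _ _ _ _ _ hk hJ φ₀
    apply rel_sqzero hI R k hk _ φ₀
    rw [zero_add, pow_one] at hJ
    rw [hJ, Ideal.bot_mul]
  | succ n ih =>
    intro R k _ _ _ _ _ _ hk hJ φ₀
    set J := RingHom.ker (algebraMap R k) with hJdef
    have hle : ∀ a ∈ J ^ (n + 1), algebraMap R k a = 0 := by
      intro a ha
      have : a ∈ J := Ideal.pow_le_self (Nat.succ_ne_zero n) ha
      exact (RingHom.mem_ker).1 this
    let _ : Algebra (R ⧸ J ^ (n + 1)) k :=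
      (Ideal.Quotient.lift (J ^ (n + 1)) (algebraMap R k) hle).toAlgebra
    have : IsScalarTower R (R ⧸ J ^ (n + 1)) k :=
      IsScalarTower.of_algebraMap_eq (fun r => rfl)
    have : IsScalarTower R₀ (R ⧸ J ^ (n + 1)) k := by
      refine IsScalarTower.of_algebraMap_eq (fun r => ?_)
      rw [IsScalarTower.algebraMap_apply R₀ R (R ⧸ J ^ (n + 1)),
        ← IsScalarTower.algebraMap_apply R (R ⧸ J ^ (n + 1)) k,
        ← IsScalarTower.algebraMap_apply R₀ R k]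
    have hk' : Function.Surjective (algebraMap (R ⧸ J ^ (n + 1)) k) := by
      intro x
      obtain ⟨r, rfl⟩ := hk x
      exact ⟨Ideal.Quotient.mk _ r, rfl⟩
    have hJ' : RingHom.ker (algebraMap (R ⧸ J ^ (n + 1)) k) ^ (n + 1) = ⊥ := by
      have : RingHom.ker (algebraMap (R ⧸ J ^ (n + 1)) k) =
          J.map (Ideal.Quotient.mk (J ^ (n + 1))) := Ideal.ker_quotient_lift _ hle
      rw [this, ← Ideal.map_pow, Ideal.map_quotient_self]
    obtain ⟨φ', hφ'⟩ := ih (R ⧸ J ^ (n + 1)) k hk' hJ' φ₀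
    have hk2 : Function.Surjective (algebraMap R (R ⧸ J ^ (n + 1))) :=
      Ideal.Quotient.mk_surjective
    have hJ2 : RingHom.ker (algebraMap R (R ⧸ J ^ (n + 1))) *
        RingHom.ker (algebraMap R (R ⧸ J ^ (n + 1))) = ⊥ := by
      have : RingHom.ker (algebraMap R (R ⧸ J ^ (n + 1))) = J ^ (n + 1) := Ideal.mk_ker
      rw [this, ← pow_add, eq_bot_iff, ← hJ]
      apply Ideal.pow_le_pow_right
      omega
    obtain ⟨φ, hφ⟩ := rel_sqzero hI R (R ⧸ J ^ (n + 1)) hk2 hJ2 φ'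
    refine ⟨φ, fun c => ?_⟩
    rw [hφ' c, hφ c, red_red]

end Rel

end Groth.Agent.Lib.Helper7.HH
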