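import Groth.Agent.Lib.Helper7.HH5

/-!
# Existence and base change of the invariant integral of a group of multiplicative type (helper7)
-/

set_option autoImplicit false

namespace Groth.Agent.Lib.Helper7.HH

open TensorProduct Groth.Agent.Lib.Helper7.NilLift Groth.Agent.Lib.Helper7.FFDesc
  Groth.Agent.Lib.Helper7.CancelBC

universe u

section Glue

variable {R : Type u} [CommRing R] {ι : Type u} [Fintype ι]
  {S : ι → Type u} [∀ i, CommRing (S i)] [∀ i, Algebra R (S i)] [∀ i, Module.Flat R (S i)]
  (hS : JointlyFaithful R S)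

include hS

lemma fam_exists_algebraMap (w : ∀ i, S i)
    (h : ∀ i j, (w i) ⊗ₜ[R] (1 : S j) = (1 : S i) ⊗ₜ[R] (w j)) :
    ∃ r : R, ∀ i, algebraMap R (S i) r = w i := by
  obtain ⟨r, hr⟩ := exists_of_compat hS (V := R) (fun i => w i ⊗ₜ[R] (1 : R)) (by
    intro i j
    have := congrArg (LinearMap.lTensor (S i) ((TensorProduct.rid R (S j)).symm.toLinearMap))
      (h i j)
    rw [LinearMap.lTensor_tmul, LinearMap.lTensor_tmul] at this
    simp only [LinearEquiv.coe_coe, TensorProduct.rid_symm_apply] at this
    rw [LinearMap.lTensor_tmul]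
    exact this)
  refine ⟨r, fun i => ?_⟩
  have := congrArg (TensorProduct.rid R (S i)) (hr i)
  rw [TensorProduct.rid_tmul, TensorProduct.rid_tmul, one_smul] at this
  rw [Algebra.algebraMap_eq_smul_one]
  exact this

variable {A : Type u} [CommRing A] [HopfAlgebra R A]

theorem exists_isInvInt_of_family (l : ∀ i, A →ₗ[R] S i) (h1 : ∀ i, l i 1 = 1)
    (hL : ∀ i, LInv (l i)) (hR : ∀ i, RInv (l i)) : ∃ I : A →ₗ[R] R, IsInvInt I := by
  have hc : ∀ i j, (in1 (R := R) (S i) (S j)).toLinearMap ∘ₗ l i =
      (in2 (R := R) (S i) (S j)).toLinearMap ∘ₗ l j := by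
    intro i j
    apply eq_of_LInv_RInv
    · rw [LinearMap.comp_apply, h1, AlgHom.toLinearMap_apply, map_one]
    · rw [LinearMap.comp_apply, h1, AlgHom.toLinearMap_apply, map_one]
    · exact (hL i).comp _
    · exact (hR j).comp _
  have hex : ∀ a : A, ∃ r : R, ∀ i, algebraMap R (S i) r = l i a := by
    intro a
    apply fam_exists_algebraMap hS
    intro i j
    exact LinearMap.congr_fun (hc i j) a
  choose I₀ hI₀ using hex
  set I : A →ₗ[R] R :=
    { toFun := I₀
      map_add' := by
        intro a b
        apply fam_algebraMap_injective hS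
        intro i
        rw [map_add, hI₀, hI₀, hI₀, map_add]
      map_smul' := by
        intro r a
        apply fam_algebraMap_injective hS
        intro i
        rw [RingHom.id_apply, smul_eq_mul, map_mul, hI₀, hI₀, map_smul, Algebra.smul_def] } with hI
  have hIi : ∀ i a, algebraMap R (S i) (I a) = l i a := fun i a => hI₀ a i
  refine ⟨I, ?_, ?_⟩
  · apply fam_algebraMap_injective hS
    intro i
    rw [hIi, h1, map_one]
  · intro a
    apply fam_one_tmul_injective hS
    intro i
    have key : ∀ z : A ⊗[R] A, (1 : S i) ⊗ₜ[R] intR I z =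
        LinearMap.rTensor A (l i) (TensorProduct.comm R A A z) := by
      intro z
      induction z using TensorProduct.induction_on with
      | zero => simp
      | tmul x y =>
        rw [intR_tmul, TensorProduct.comm_tmul, LinearMap.rTensor_tmul, ← hIi,
          TensorProduct.tmul_smul, TensorProduct.smul_tmul', Algebra.algebraMap_eq_smul_one]
      | add x y hx hy => simp only [map_add, TensorProduct.tmul_add, hx, hy]
    rw [key, hL i a, ← hIi, Algebra.algebraMap_eq_smul_one, Algebra.algebraMap_eq_smul_one,
      TensorProduct.tmul_smul, TensorProduct.smul_tmul']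

end Glue

section Charts

variable (R : Type u) [CommRing R] (A : Type u) [CommRing A] [HopfAlgebra R A]

/-- a flat `R`-algebra over which `A` becomes diagonalisable. -/
structure DChart where
  T : Type u
  [instCR : CommRing T]
  [instAlg : Algebra R T]
  flat : Module.Flat R T
  M : Type u
  [instGrp : CommGroup M]
  e : (T ⊗[R] A) ≃ₐc[T] MonoidAlgebra T M

attribute [instance] DChart.instCR DChart.instAlg DChart.instGrp

instance (c : DChart R A) : Module.Flat R c.T := c.flat

lemma exists_dchart_of_const (f : R)
    (h : SGA3b.IsMultTypeConst (Localization.Away f) (Localization.Away f ⊗[R] A)) :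
    ∃ c : DChart R A, ∀ (N : Type u) [AddCommGroup N] [Module R N],
      Subsingleton (c.T ⊗[R] N) → Subsingleton (Localization.Away f ⊗[R] N) := by
  obtain ⟨R', _, _, hff, P, _, ⟨e⟩⟩ := h
  let _ : Algebra R R' :=
    ((algebraMap (Localization.Away f) R').comp (algebraMap R (Localization.Away f))).toAlgebra
  have : IsScalarTower R (Localization.Away f) R' := IsScalarTower.of_algebraMap_eq (fun _ => rfl)
  have : Module.Flat R R' := Module.Flat.trans R (Localization.Away f) R'
  refine ⟨{ T := R', flat := inferInstance, M := P,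
            e := (cancelBC R (Localization.Away f) R' A).symm.trans e }, ?_⟩
  intro N _ _ hN
  change Subsingleton (R' ⊗[R] N) at hN
  have h1 : Subsingleton (R' ⊗[Localization.Away f] (Localization.Away f ⊗[R] N)) :=
    (AlgebraTensorModule.cancelBaseChange R (Localization.Away f) R' R' N).injective.subsingleton
  exact Module.FaithfullyFlat.lTensor_reflects_triviality (Localization.Away f) R' _

variable {R A}

theorem exists_dfamily (h : SGA3b.IsMultType R A) :
    ∃ (ι : Type u) (_ : Fintype ι) (c : ι → DChart R A),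
      JointlyFaithful R (fun i => (c i).T) := by
  obtain ⟨s, hs, hs'⟩ := h
  obtain ⟨s₀, hs₀s, hs₀⟩ := (Ideal.span_eq_top_iff_finite s).1 hs
  have hc : ∀ i : (s₀ : Set R), ∃ c : DChart R A, ∀ (N : Type u) [AddCommGroup N] [Module R N],
      Subsingleton (c.T ⊗[R] N) → Subsingleton (Localization.Away i.1 ⊗[R] N) :=
    fun i => exists_dchart_of_const R A i.1 (hs' i.1 (hs₀s i.2))
  choose c hc' using hc
  refine ⟨(s₀ : Set R), inferInstance, c, ?_⟩
  intro N _ _ hN
  refine ⟨fun x y => ?_⟩
  have key : ∀ v : N, v = 0 := by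
    intro v
    apply MultDesc.eq_zero_of_cover (s₀ : Set R) hs₀ v
    intro f hf
    have := hc' ⟨f, hf⟩ N (hN ⟨f, hf⟩)
    exact Subsingleton.elim _ _
  rw [key x, key y]

theorem exists_isInvInt_of_isMultType (h : SGA3b.IsMultType R A) :
    ∃ I : A →ₗ[R] R, IsInvInt I := by
  obtain ⟨ι, _, c, hc⟩ := exists_dfamily h
  exact exists_isInvInt_of_family hc (fun i => lam (c i).e) (fun i => lam_one _)
    (fun i => lam_linv _) (fun i => lam_rinv _)

end Charts

section BaseChange

variable {R : Type u} [CommRing R] {A : Type u} [CommRing A] [HopfAlgebra R A]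
  (K : Type u) [CommRing K] [Algebra R K]

/-- base change of a functional. -/
noncomputable def bcInt (I : A →ₗ[R] R) : K ⊗[R] A →ₗ[K] K :=
  LinearMap.liftBaseChange K (Algebra.linearMap R K ∘ₗ I)

lemma bcInt_tmul (I : A →ₗ[R] R) (x : K) (a : A) :
    bcInt K I (x ⊗ₜ[R] a) = x * algebraMap R K (I a) := by
  simp [bcInt]

lemma intR_bcInt_distrib (I : A →ₗ[R] R) (x : K) (w : A ⊗[R] A) :
    intR (bcInt K I) (AlgebraTensorModule.distribBaseChange R K A A (x ⊗ₜ[R] w)) =
      x ⊗ₜ[R] intR I w := by
  induction w using TensorProduct.induction_on with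
  | zero => simp
  | tmul a b =>
    rw [AlgebraTensorModule.distribBaseChange_tmul, intR_tmul, intR_tmul, bcInt_tmul, one_mul,
      TensorProduct.smul_tmul', TensorProduct.tmul_smul, TensorProduct.smul_tmul', smul_eq_mul,
      Algebra.smul_def]
  | add y z hy hz => simp only [map_add, TensorProduct.tmul_add, hy, hz]

theorem IsInvInt.baseChange {I : A →ₗ[R] R} (hI : IsInvInt I) : IsInvInt (bcInt K I) := by
  refine ⟨?_, ?_⟩
  · rw [Algebra.TensorProduct.one_def, bcInt_tmul, hI.one, map_one, mul_one]
  · intro z
    induction z using TensorProduct.induction_on with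
    | zero => simp
    | tmul x a =>
      rw [Groth.Agent.Lib.Helper7.NilLift.comul_eq_distrib, LinearMap.lTensor_tmul,
        intR_bcInt_distrib, hI.inv, bcInt_tmul, Algebra.TensorProduct.algebraMap_apply,
        Algebra.algebraMap_eq_smul_one (I a), TensorProduct.tmul_smul, TensorProduct.smul_tmul',
        Algebra.algebraMap_eq_smul_one (I a), Algebra.smul_def, Algebra.smul_def, mul_one,
        mul_comm]
      rfl
    | add y z hy hz => simp only [map_add, hy, hz]

end BaseChange

end Groth.Agent.Lib.Helper7.HH
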