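import Mathlib
import Groth.Agent.Lib.Helper7.Deform3

/-!
# Localisations of a surjection with nilpotent kernel (helper7)
-/

set_option autoImplicit false

namespace Groth.Agent.Lib.Helper7.Thick

open TensorProduct Groth.Agent.Lib.Helper7.Deform

universe u

section Away

variable {R : Type u} [CommRing R] {k : Type u} [CommRing k] (g : R →+* k)
  (hg : Function.Surjective g)

include hg in
lemma span_preimage_eq_top' (hnil : ∀ x ∈ RingHom.ker g, IsNilpotent x) (s' : Set k)
    (hs' : Ideal.span s' = ⊤) : Ideal.span (g ⁻¹' s') = ⊤ := by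
  set J : Ideal R := Ideal.span (g ⁻¹' s') with hJ
  have h1 : J.map g = ⊤ := by
    rw [hJ, Ideal.map_span, Set.image_preimage_eq _ hg, hs']
  have h2 : J ⊔ RingHom.ker g = ⊤ := by
    have := Ideal.comap_map_of_surjective g hg J
    rw [h1, Ideal.comap_top] at this
    rw [this, RingHom.ker_eq_comap_bot]
  have h3 : (1 : R) ∈ J ⊔ RingHom.ker g := by rw [h2]; trivial
  obtain ⟨j, hj, i, hi, hji⟩ := Submodule.mem_sup.1 h3
  have hu : IsUnit j := by
    have : j = 1 - i := by rw [← hji]; ring
    rw [this]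
    exact (hnil i hi).isUnit_one_sub
  exact Ideal.eq_top_of_isUnit_mem _ hj hu

variable (f : R)

include hg in
lemma awayMap_surjective' : Function.Surjective (Localization.awayMap g f) := by
  intro z
  obtain ⟨x, ⟨_, n, rfl⟩, rfl⟩ := IsLocalization.exists_mk'_eq (Submonoid.powers (g f)) z
  obtain ⟨r, rfl⟩ := hg x
  refine ⟨IsLocalization.mk' (Localization.Away f) r
    (⟨f ^ n, n, rfl⟩ : Submonoid.powers f), ?_⟩
  rw [Localization.awayMap, IsLocalization.Away.map, IsLocalization.map_mk']
  congr 1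
  exact Subtype.ext (map_pow g f n)

lemma awayMap_ker_le' :
    RingHom.ker (Localization.awayMap g f) ≤
      (RingHom.ker g).map (algebraMap R (Localization.Away f)) := by
  intro x hx
  obtain ⟨r, ⟨_, n, rfl⟩, rfl⟩ := IsLocalization.exists_mk'_eq (Submonoid.powers f) x
  rw [RingHom.mem_ker, Localization.awayMap, IsLocalization.Away.map, IsLocalization.map_mk',
    IsLocalization.mk'_eq_zero_iff] at hx
  obtain ⟨⟨_, m, rfl⟩, hm⟩ := hx
  have h1 : f ^ m * r ∈ RingHom.ker g := by
    rw [RingHom.mem_ker, map_mul, map_pow]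
    exact hm
  have h2 : IsLocalization.mk' (Localization.Away f) r (⟨f ^ n, n, rfl⟩ : Submonoid.powers f) =
      IsLocalization.mk' (Localization.Away f) (f ^ m * r)
        ((⟨f ^ m, m, rfl⟩ : Submonoid.powers f) * (⟨f ^ n, n, rfl⟩ : Submonoid.powers f)) := by
    rw [IsLocalization.mk'_eq_iff_eq]
    simp only [Submonoid.coe_mul]
    congr 1
    ring
  rw [h2, IsLocalization.mk'_eq_mul_mk'_one]
  exact Ideal.mul_mem_right _ _ (Ideal.mem_map_of_mem _ h1)

lemma awayMap_ker_isNilpotent' (hnil : IsNilpotent (RingHom.ker g)) :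
    IsNilpotent (RingHom.ker (Localization.awayMap g f)) :=
  isNilpotent_of_le (awayMap_ker_le' g f) (isNilpotent_map_ideal _ hnil)

end Away

end Groth.Agent.Lib.Helper7.Thick
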