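import Mathlib
import Groth.Agent.Lib.Helper7.Thick1
import Groth.Agent.Lib.Helper7.HH6

/-!
# Charts for a flat Hopf algebra whose reduction modulo a nilpotent ideal is quasi-isotrivial
(relative form) (helper7)
-/

set_option autoImplicit false

namespace Groth.Agent.Lib.Helper7.Thick

open TensorProduct SGA3b Groth.Agent.Lib.Helper7.Deform Groth.Agent.Lib.Helper7.NilLift
  Groth.Agent.Lib.Helper7.CancelBC Groth.Agent.Lib.Helper7.HH

universe u

section Charts

variable {A₀ : Type u} [CommRing A₀] (R k : Type u) [CommRing R] [Algebra A₀ R]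
  [CommRing k] [Algebra A₀ k] [Algebra R k] [IsScalarTower A₀ R k]
  (hk : Function.Surjective (algebraMap R k))
  (hnil : IsNilpotent (RingHom.ker (algebraMap R k)))
  (C : Type u) [CommRing C] [HopfAlgebra A₀ C] [Module.Flat R (R ⊗[A₀] C)]

include hk hnil in
lemma exists_dchart_of_thick (f : R)
    (h : IsQuasiIsotrivialConst (Localization.Away (algebraMap R k f))
      (Localization.Away (algebraMap R k f) ⊗[k] (k ⊗[A₀] C))) :
    ∃ c : DChart R (R ⊗[A₀] C), ∀ (N : Type u) [AddCommGroup N] [Module R N],
      Subsingleton (c.T ⊗[R] N) → Subsingleton (Localization.Away f ⊗[R] N) := by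
  obtain ⟨Q, _, _, het, hff, M, _, ⟨e⟩⟩ := h
  let g : Localization.Away f →+* Localization.Away (algebraMap R k f) :=
    Localization.awayMap (algebraMap R k) f
  let _ : Algebra (Localization.Away f) (Localization.Away (algebraMap R k f)) := g.toAlgebra
  let _ : Algebra (Localization.Away f) Q :=
    ((algebraMap (Localization.Away (algebraMap R k f)) Q).comp g).toAlgebra
  have : IsScalarTower (Localization.Away f) (Localization.Away (algebraMap R k f)) Q :=
    IsScalarTower.of_algebraMap_eq (fun _ => rfl)
  let _ : Algebra k Q :=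
    ((algebraMap (Localization.Away (algebraMap R k f)) Q).comp
      (algebraMap k (Localization.Away (algebraMap R k f)))).toAlgebra
  have : IsScalarTower k (Localization.Away (algebraMap R k f)) Q :=
    IsScalarTower.of_algebraMap_eq (fun _ => rfl)
  let _ : Algebra R Q := ((algebraMap k Q).comp (algebraMap R k)).toAlgebra
  have : IsScalarTower R k Q := IsScalarTower.of_algebraMap_eq (fun _ => rfl)
  have : IsScalarTower R (Localization.Away f) Q := by
    apply IsScalarTower.of_algebraMap_eq
    intro r
    change algebraMap (Localization.Away (algebraMap R k f)) Q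
        (algebraMap k _ (algebraMap R k r)) =
      algebraMap (Localization.Away (algebraMap R k f)) Q (g (algebraMap R _ r))
    congr 1
    exact (IsLocalization.map_eq _ r).symm
  let _ : Algebra A₀ Q := ((algebraMap R Q).comp (algebraMap A₀ R)).toAlgebra
  have : IsScalarTower A₀ R Q := IsScalarTower.of_algebraMap_eq (fun _ => rfl)
  have : IsScalarTower A₀ k Q := by
    apply IsScalarTower.of_algebraMap_eq
    intro a
    change algebraMap k Q (algebraMap R k (algebraMap A₀ R a)) = algebraMap k Q (algebraMap A₀ k a)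
    rw [← IsScalarTower.algebraMap_apply A₀ R k]
  have hsurj : Function.Surjective
      (algebraMap (Localization.Away f) (Localization.Away (algebraMap R k f))) :=
    awayMap_surjective' _ hk f
  have hnil' : IsNilpotent (RingHom.ker
      (algebraMap (Localization.Away f) (Localization.Away (algebraMap R k f)))) :=
    awayMap_ker_isNilpotent' _ f hnil
  have hQ : IsDiag Q (Q ⊗[R] (R ⊗[A₀] C)) :=
    ⟨M, inferInstance, ⟨((cancelBC A₀ R Q C).trans
      ((cancelBC A₀ k Q C).symm.trans
        (cancelBC k (Localization.Away (algebraMap R k f)) Q (k ⊗[A₀] C)).symm)).trans e⟩⟩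
  obtain ⟨R', _, _, het', ψ, hψ, hker⟩ :=
    exists_etale_lift' (R₀ := Localization.Away f)
      (R₁ := Localization.Away (algebraMap R k f)) (Q := Q) hsurj
  have hψnil : IsNilpotent (RingHom.ker ψ) := by
    rw [hker]
    exact isNilpotent_map_ideal _ hnil'
  have hff' : Module.FaithfullyFlat (Localization.Away f) R' :=
    faithfullyFlat_of_lift ψ (fun x hx => isNilpotent_of_mem_of_isNilpotent hnil' hx) hsurj
  let _ : Algebra R R' :=
    ((algebraMap (Localization.Away f) R').comp (algebraMap R (Localization.Away f))).toAlgebra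
  have : IsScalarTower R (Localization.Away f) R' := IsScalarTower.of_algebraMap_eq (fun _ => rfl)
  have : Module.Flat R R' := Module.Flat.trans R (Localization.Away f) R'
  have hd : IsDiag R' (R' ⊗[R] (R ⊗[A₀] C)) :=
    isDiag_of_lift_flat (R₀ := R) (A₀ := R ⊗[A₀] C) (ψ.restrictScalars R) hψ hψnil hQ
  obtain ⟨M', _, ⟨e'⟩⟩ := hd
  refine ⟨{ T := R', flat := inferInstance, M := M', e := e' }, ?_⟩
  intro N _ _ hN
  change Subsingleton (R' ⊗[R] N) at hN
  have h1 : Subsingleton (R' ⊗[Localization.Away f] (Localization.Away f ⊗[R] N)) :=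
    (AlgebraTensorModule.cancelBaseChange R (Localization.Away f) R' R' N).injective.subsingleton
  exact Module.FaithfullyFlat.lTensor_reflects_triviality (Localization.Away f) R' _

include hk hnil in
theorem exists_dfamily_of_thick (h0 : IsQuasiIsotrivial k (k ⊗[A₀] C)) :
    ∃ (ι : Type u) (_ : Fintype ι) (c : ι → DChart R (R ⊗[A₀] C)),
      JointlyFaithful R (fun i => (c i).T) := by
  obtain ⟨s', hs', hs'2⟩ := h0
  have hnilx : ∀ x ∈ RingHom.ker (algebraMap R k), IsNilpotent x :=
    fun x hx => isNilpotent_of_mem_of_isNilpotent hnil hx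
  have hs : Ideal.span ((algebraMap R k) ⁻¹' s') = ⊤ :=
    span_preimage_eq_top' (algebraMap R k) hk hnilx s' hs'
  obtain ⟨s₀, hs₀s, hs₀⟩ := (Ideal.span_eq_top_iff_finite _).1 hs
  have hc : ∀ i : (s₀ : Set R), ∃ c : DChart R (R ⊗[A₀] C),
      ∀ (N : Type u) [AddCommGroup N] [Module R N],
        Subsingleton (c.T ⊗[R] N) → Subsingleton (Localization.Away i.1 ⊗[R] N) :=
    fun i => exists_dchart_of_thick R k hk hnil C i.1 (hs'2 _ (hs₀s i.2))
  choose c hc' using hc
  refine ⟨(s₀ : Set R), inferInstance, c, ?_⟩
  intro N _ _ hN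
  refine ⟨fun x y => ?_⟩
  have key : ∀ v : N, v = 0 := by
    intro v
    apply MultDesc.eq_zero_of_cover (s₀ : Set R) hs₀ v
    intro f hf
    have := hc' ⟨f, hf⟩ N (hN ⟨f, hf⟩)
    exact Subsingleton.elim _ _
  rw [key x, key y]

end Charts

end Groth.Agent.Lib.Helper7.Thick
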