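import Mathlib
import Groth.Agent.Lib.Helper7.FFDesc3
import Groth.Agent.Lib.Helper7.NilLift2

/-!
# Effectivity of descent data for a finite jointly faithfully flat family (helper7)

`S i` flat `R`-algebras, `L i` `R`-modules, `Φ i j : (S i ⊗ S j) ⊗ L i → (S i ⊗ S j) ⊗ L j` with the
counit condition and the cocycle condition.  The equaliser `E ⊆ Π i, S i ⊗ L i` satisfies
`S k ⊗ E ≅ S k ⊗ L k` for every `k`.
-/

set_option autoImplicit false

namespace Groth.Agent.Lib.Helper7.FFDesc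

open TensorProduct

universe u

section Maps

variable {R : Type u} [CommRing R] (X Y Z : Type u) [CommRing X] [Algebra R X] [CommRing Y]
  [Algebra R Y] [CommRing Z] [Algebra R Z]

/-- `X → X ⊗ Y`. -/
noncomputable abbrev in1 : X →ₐ[R] X ⊗[R] Y := Algebra.TensorProduct.includeLeft
/-- `Y → X ⊗ Y`. -/
noncomputable abbrev in2 : Y →ₐ[R] X ⊗[R] Y := Algebra.TensorProduct.includeRight
/-- `X ⊗ Y → X ⊗ (Y ⊗ Z)`. -/
noncomputable abbrev pr12 : X ⊗[R] Y →ₐ[R] X ⊗[R] (Y ⊗[R] Z) :=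
  Algebra.TensorProduct.map (AlgHom.id R X) (in1 (R := R) Y Z)
/-- `X ⊗ Z → X ⊗ (Y ⊗ Z)`. -/
noncomputable abbrev pr13 : X ⊗[R] Z →ₐ[R] X ⊗[R] (Y ⊗[R] Z) :=
  Algebra.TensorProduct.map (AlgHom.id R X) (in2 (R := R) Y Z)
/-- `Y ⊗ Z → X ⊗ (Y ⊗ Z)`. -/
noncomputable abbrev pr23 : Y ⊗[R] Z →ₐ[R] X ⊗[R] (Y ⊗[R] Z) :=
  Algebra.TensorProduct.includeRight

end Maps

section Two

variable {R : Type u} [CommRing R] {X Y Z : Type u} [CommRing X] [Algebra R X] [CommRing Y]
  [Algebra R Y] [CommRing Z] [Algebra R Z] {L L' : Type u} [AddCommGroup L] [Module R L]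
  [AddCommGroup L'] [Module R L']

lemma assoc_smul_left₂ (s : X) (y : (X ⊗[R] Y) ⊗[R] L) :
    TensorProduct.assoc R X Y L ((s ⊗ₜ[R] (1 : Y) : X ⊗[R] Y) • y) =
      s • TensorProduct.assoc R X Y L y := by
  induction y using TensorProduct.induction_on with
  | zero => simp
  | add x y hx hy => rw [smul_add, map_add, hx, hy, map_add, smul_add]
  | tmul t l =>
    induction t using TensorProduct.induction_on with
    | zero => simp
    | add x y hx hy =>
      rw [TensorProduct.add_tmul, smul_add, map_add, hx, hy, map_add, smul_add]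
    | tmul s₁ s₂ =>
      rw [TensorProduct.smul_tmul', smul_eq_mul, Algebra.TensorProduct.tmul_mul_tmul, one_mul,
        TensorProduct.assoc_tmul, TensorProduct.assoc_tmul, TensorProduct.smul_tmul', smul_eq_mul]

lemma in2_assoc (n : Y ⊗[R] L) :
    TensorProduct.assoc R X Y L (rT (in2 (R := R) X Y) L n) = (1 : X) ⊗ₜ[R] n := by
  induction n using TensorProduct.induction_on with
  | zero => simp
  | add x y hx hy => rw [map_add, map_add, hx, hy, TensorProduct.tmul_add]
  | tmul s l => rfl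

lemma assoc3_smul_rT₂ (s : X) (t : Y ⊗[R] Z) (y : (Y ⊗[R] Z) ⊗[R] L) :
    TensorProduct.assoc R X (Y ⊗[R] Z) L ((s ⊗ₜ[R] t : X ⊗[R] (Y ⊗[R] Z)) •
      rT (pr23 (R := R) X Y Z) L y) = s ⊗ₜ[R] (t • y) := by
  induction y using TensorProduct.induction_on with
  | zero => simp
  | add x y hx hy =>
    rw [map_add, smul_add, map_add, hx, hy, smul_add, TensorProduct.tmul_add]
  | tmul t' l =>
    rw [rT_tmul, TensorProduct.smul_tmul', smul_eq_mul]
    change TensorProduct.assoc R X (Y ⊗[R] Z) L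
      (((s ⊗ₜ[R] t : X ⊗[R] (Y ⊗[R] Z)) * ((1 : X) ⊗ₜ[R] t')) ⊗ₜ[R] l) = _
    rw [Algebra.TensorProduct.tmul_mul_tmul, mul_one, TensorProduct.assoc_tmul,
      TensorProduct.smul_tmul', smul_eq_mul]

/-- the twisted inclusion `Φ ∘ (in1 ⊗ id)`. -/
noncomputable def tw (Φ : (X ⊗[R] Y) ⊗[R] L →ₗ[X ⊗[R] Y] (X ⊗[R] Y) ⊗[R] L') :
    X ⊗[R] L →ₗ[R] (X ⊗[R] Y) ⊗[R] L' :=
  (Φ.restrictScalars R).comp (rT (in1 (R := R) X Y) L)

lemma tw_apply (Φ : (X ⊗[R] Y) ⊗[R] L →ₗ[X ⊗[R] Y] (X ⊗[R] Y) ⊗[R] L') (n : X ⊗[R] L) :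
    tw Φ n = Φ (rT (in1 (R := R) X Y) L n) := rfl

lemma tw_smul (Φ : (X ⊗[R] Y) ⊗[R] L →ₗ[X ⊗[R] Y] (X ⊗[R] Y) ⊗[R] L') (s : X) (n : X ⊗[R] L) :
    tw Φ (s • n) = (s ⊗ₜ[R] (1 : Y) : X ⊗[R] Y) • tw Φ n := by
  rw [tw_apply, tw_apply, rT_smul, map_smul]
  rfl

/-- Claim A. -/
lemma lTensor_tw_assoc (Φ : (Y ⊗[R] Z) ⊗[R] L →ₗ[Y ⊗[R] Z] (Y ⊗[R] Z) ⊗[R] L')
    (y : (X ⊗[R] Y) ⊗[R] L) :
    LinearMap.lTensor X (tw Φ) (TensorProduct.assoc R X Y L y) =
      TensorProduct.assoc R X (Y ⊗[R] Z) L'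
        (bcLin (pr23 (R := R) X Y Z) Φ (rT (pr12 (R := R) X Y Z) L y)) := by
  induction y using TensorProduct.induction_on with
  | zero => simp
  | add x y hx hy => simp only [map_add, hx, hy]
  | tmul t l =>
    induction t using TensorProduct.induction_on with
    | zero => simp
    | add x y hx hy => simp only [TensorProduct.add_tmul, map_add, hx, hy]
    | tmul s₁ s₂ =>
      rw [TensorProduct.assoc_tmul, LinearMap.lTensor_tmul, rT_tmul, Algebra.TensorProduct.map_tmul,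
        AlgHom.id_apply, bcLin_tmul, assoc3_smul_rT₂, tw_apply, rT_tmul, ← map_smul,
        TensorProduct.smul_tmul', smul_eq_mul, mul_one]

/-- Claim B. -/
lemma lTensor_in2_assoc (y : (X ⊗[R] Z) ⊗[R] L) :
    LinearMap.lTensor X (rT (in2 (R := R) Y Z) L) (TensorProduct.assoc R X Z L y) =
      TensorProduct.assoc R X (Y ⊗[R] Z) L (rT (pr13 (R := R) X Y Z) L y) := by
  induction y using TensorProduct.induction_on with
  | zero => simp
  | add x y hx hy => simp only [map_add, hx, hy]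
  | tmul t l =>
    induction t using TensorProduct.induction_on with
    | zero => simp
    | add x y hx hy => simp only [TensorProduct.add_tmul, map_add, hx, hy]
    | tmul s₁ s₂ => rfl

end Two

section PiNat

variable {R : Type u} [CommRing R] {κ : Type u} [Fintype κ] [DecidableEq κ]
  (X : Type u) [AddCommGroup X] [Module R X]
  {P : Type u} [AddCommGroup P] [Module R P]
  (Q : κ → Type u) [∀ q, AddCommGroup (Q q)] [∀ q, Module R (Q q)]

lemma piRight_lTensor (f : P →ₗ[R] ∀ q, Q q) (w : X ⊗[R] P) (q : κ) :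
    TensorProduct.piRight R R X Q (LinearMap.lTensor X f w) q =
      LinearMap.lTensor X ((LinearMap.proj q).comp f) w := by
  induction w using TensorProduct.induction_on with
  | zero => simp
  | add x y hx hy => simp only [map_add, Pi.add_apply, hx, hy]
  | tmul t v =>
    rw [LinearMap.lTensor_tmul, TensorProduct.piRight_apply, TensorProduct.piRightHom_tmul,
      LinearMap.lTensor_tmul]
    rfl

lemma piRight_eq_lTensor_proj (w : X ⊗[R] (∀ q, Q q)) (q : κ) :
    TensorProduct.piRight R R X Q w q = LinearMap.lTensor X (LinearMap.proj q) w := by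
  have := piRight_lTensor X Q (LinearMap.id : (∀ q, Q q) →ₗ[R] ∀ q, Q q) w q
  rwa [LinearMap.lTensor_id, LinearMap.id_apply, LinearMap.comp_id] at this

lemma eq_of_lTensor_proj_eq (w w' : X ⊗[R] (∀ q, Q q))
    (h : ∀ q, LinearMap.lTensor X (LinearMap.proj q) w = LinearMap.lTensor X (LinearMap.proj q) w') :
    w = w' := by
  apply (TensorProduct.piRight R R X Q).injective
  funext q
  rw [piRight_eq_lTensor_proj, piRight_eq_lTensor_proj, h]

lemma lTensor_proj_piRight_symm (z : ∀ q, X ⊗[R] Q q) (q : κ) :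
    LinearMap.lTensor X (LinearMap.proj q) ((TensorProduct.piRight R R X Q).symm z) = z q := by
  rw [← piRight_eq_lTensor_proj, LinearEquiv.apply_symm_apply]

end PiNat

section Fam

variable {R : Type u} [CommRing R] {ι : Type u} [Fintype ι] [DecidableEq ι]
  {S : ι → Type u} [∀ i, CommRing (S i)] [∀ i, Algebra R (S i)]
  {L : ι → Type u} [∀ i, AddCommGroup (L i)] [∀ i, Module R (L i)]
  (Φ : ∀ i j, (S i ⊗[R] S j) ⊗[R] L i →ₗ[S i ⊗[R] S j] (S i ⊗[R] S j) ⊗[R] L j)

/-- (FC1): the counit condition. -/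
def FC1 : Prop := ∀ i, C1 (Φ i i)

/-- (FC2): the cocycle condition. -/
def FC2 : Prop := ∀ (i j k : ι) (l : L i),
  bcLin (pr23 (R := R) (S i) (S j) (S k)) (Φ j k)
    (rT (pr12 (R := R) (S i) (S j) (S k)) (L j) (Φ i j ((1 : S i ⊗[R] S j) ⊗ₜ[R] l))) =
  rT (pr13 (R := R) (S i) (S j) (S k)) (L k) (Φ i k ((1 : S i ⊗[R] S k) ⊗ₜ[R] l))

/-- the coactions attached to `Φ`. -/
noncomputable def fco (k i : ι) : S k ⊗[R] L k →ₗ[R] S k ⊗[R] (S i ⊗[R] L i) :=
  (TensorProduct.assoc R (S k) (S i) (L i)).toLinearMap.comp (tw (Φ k i))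

omit [Fintype ι] [DecidableEq ι] in
lemma fco_apply (k i : ι) (n : S k ⊗[R] L k) :
    fco Φ k i n = TensorProduct.assoc R (S k) (S i) (L i) (tw (Φ k i) n) := rfl

omit [Fintype ι] [DecidableEq ι] in
lemma fco_smul (k i : ι) (s : S k) (n : S k ⊗[R] L k) : fco Φ k i (s • n) = s • fco Φ k i n := by
  rw [fco_apply, fco_apply, tw_smul, assoc_smul_left₂]

omit [Fintype ι] [DecidableEq ι] in
lemma fco_counit (h1 : FC1 Φ) (k : ι) (n : S k ⊗[R] L k) :
    LinearMap.liftBaseChange (S k) (LinearMap.id : S k ⊗[R] L k →ₗ[R] S k ⊗[R] L k)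
      (fco Φ k k n) = n :=
  coact_counit (Φ k k) (h1 k) n

omit [Fintype ι] [DecidableEq ι] in
lemma fco_injective (h1 : FC1 Φ) (k : ι) : Function.Injective (fco Φ k k) := by
  intro n n' h
  rw [← fco_counit Φ h1 k n, ← fco_counit Φ h1 k n', h]

omit [Fintype ι] [DecidableEq ι] in
lemma cocycle_tw (h2 : FC2 Φ) (k i j : ι) (n : S k ⊗[R] L k) :
    bcLin (pr23 (R := R) (S k) (S i) (S j)) (Φ i j)
      (rT (pr12 (R := R) (S k) (S i) (S j)) (L i) (tw (Φ k i) n)) =
    rT (pr13 (R := R) (S k) (S i) (S j)) (L j) (tw (Φ k j) n) := by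
  induction n using TensorProduct.induction_on with
  | zero => simp
  | add x y hx hy => simp only [map_add, hx, hy]
  | tmul s l =>
    rw [tmul_eq_smul_one, tw_smul, tw_smul, rT_smul, rT_smul, map_smul, tw_apply, tw_apply, rT_tmul,
      rT_tmul]
    have e1 : (in1 (R := R) (S k) (S i)) 1 = 1 := map_one _
    have e2 : (in1 (R := R) (S k) (S j)) 1 = 1 := map_one _
    rw [e1, e2, h2 k i j l]
    rfl

omit [Fintype ι] [DecidableEq ι] in
lemma fco_cocycle (h2 : FC2 Φ) (k i j : ι) (n : S k ⊗[R] L k) :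
    LinearMap.lTensor (S k) (tw (Φ i j)) (fco Φ k i n) =
      LinearMap.lTensor (S k) (rT (in2 (R := R) (S i) (S j)) (L j)) (fco Φ k j n) := by
  rw [fco_apply, fco_apply, lTensor_tw_assoc, cocycle_tw Φ h2, ← lTensor_in2_assoc]

/-- the first map of the equaliser diagram. -/
noncomputable def fAlpha :
    (∀ i, S i ⊗[R] L i) →ₗ[R] (∀ p : ι × ι, (S p.1 ⊗[R] S p.2) ⊗[R] L p.2) :=
  LinearMap.pi (fun p => (tw (Φ p.1 p.2)).comp (LinearMap.proj p.1))

/-- the second map of the equaliser diagram. -/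
noncomputable def fBeta :
    (∀ i, S i ⊗[R] L i) →ₗ[R] (∀ p : ι × ι, (S p.1 ⊗[R] S p.2) ⊗[R] L p.2) :=
  LinearMap.pi (fun p => (rT (in2 (R := R) (S p.1) (S p.2)) (L p.2)).comp (LinearMap.proj p.2))

/-- the equaliser of a family descent datum. -/
noncomputable def famEq : Submodule R (∀ i, S i ⊗[R] L i) :=
  LinearMap.eqLocus (fAlpha Φ) fBeta

omit [Fintype ι] [DecidableEq ι] in
lemma mem_famEq {n : ∀ i, S i ⊗[R] L i} :
    n ∈ famEq Φ ↔ ∀ i j, Φ i j (rT (in1 (R := R) (S i) (S j)) (L i) (n i)) =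
      rT (in2 (R := R) (S i) (S j)) (L j) (n j) := by
  constructor
  · intro h i j
    exact congrFun (show fAlpha Φ n = fBeta n from h) (i, j)
  · intro h
    show fAlpha Φ n = fBeta n
    funext p
    exact h p.1 p.2

/-- the comparison maps. -/
noncomputable def fcomp (k : ι) : S k ⊗[R] (famEq Φ) →ₗ[S k] S k ⊗[R] L k :=
  LinearMap.liftBaseChange (S k) ((LinearMap.proj k).comp (famEq Φ).subtype)

omit [Fintype ι] [DecidableEq ι] in
lemma fcomp_tmul (k : ι) (s : S k) (e : famEq Φ) : fcomp Φ k (s ⊗ₜ[R] e) = s • e.1 k := by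
  rw [fcomp, LinearMap.liftBaseChange_tmul]
  rfl

omit [Fintype ι] [DecidableEq ι] in
lemma fco_fcomp (k i : ι) (w : S k ⊗[R] (famEq Φ)) :
    fco Φ k i (fcomp Φ k w) =
      LinearMap.lTensor (S k) ((LinearMap.proj i).comp (famEq Φ).subtype) w := by
  induction w using TensorProduct.induction_on with
  | zero => simp
  | add x y hx hy => rw [map_add, map_add, hx, hy, map_add]
  | tmul s e =>
    rw [fcomp_tmul, fco_smul, fco_apply, tw_apply, (mem_famEq Φ).1 e.2 k i, in2_assoc,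
      LinearMap.lTensor_tmul, TensorProduct.smul_tmul', smul_eq_mul, mul_one]
    rfl

/-- effectivity of descent for a finite family. -/
theorem fcomp_bijective [∀ i, Module.Flat R (S i)] (h1 : FC1 Φ) (h2 : FC2 Φ) (k : ι) :
    Function.Bijective (fcomp Φ k) := by
  constructor
  · rw [← LinearMap.ker_eq_bot, LinearMap.ker_eq_bot']
    intro w hw
    have hinj : Function.Injective (LinearMap.lTensor (S k) (famEq Φ).subtype) :=
      Module.Flat.lTensor_preserves_injective_linearMap _ (Submodule.injective_subtype _)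
    apply hinj
    rw [map_zero]
    apply eq_of_lTensor_proj_eq (S k) (fun i => S i ⊗[R] L i)
    intro i
    rw [← LinearMap.lTensor_comp_apply, ← fco_fcomp, hw, map_zero, map_zero]
  · intro n
    set w' : ∀ i, S k ⊗[R] (S i ⊗[R] L i) := fun i => fco Φ k i n with hw'
    set w := (TensorProduct.piRight R R (S k) (fun i => S i ⊗[R] L i)).symm w' with hw
    have hwi : ∀ i, LinearMap.lTensor (S k) (LinearMap.proj i) w = fco Φ k i n := by
      intro i
      exact lTensor_proj_piRight_symm (S k) (fun i => S i ⊗[R] L i) w' i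
    have heq : LinearMap.lTensor (S k) (fAlpha Φ) w = LinearMap.lTensor (S k) fBeta w := by
      apply eq_of_lTensor_proj_eq (S k) (fun p : ι × ι => (S p.1 ⊗[R] S p.2) ⊗[R] L p.2)
      intro p
      rw [← LinearMap.lTensor_comp_apply, ← LinearMap.lTensor_comp_apply]
      have ea : (LinearMap.proj p).comp (fAlpha Φ) =
          (tw (Φ p.1 p.2)).comp (LinearMap.proj p.1) := rfl
      have eb : (LinearMap.proj p).comp (fBeta (S := S) (L := L)) =
          (rT (in2 (R := R) (S p.1) (S p.2)) (L p.2)).comp (LinearMap.proj p.2) := rfl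
      rw [ea, eb, LinearMap.lTensor_comp_apply, LinearMap.lTensor_comp_apply, hwi, hwi,
        fco_cocycle Φ h2]
    have hmem : w ∈ LinearMap.eqLocus (AlgebraTensorModule.lTensor (S k) (S k) (fAlpha Φ))
        (AlgebraTensorModule.lTensor (S k) (S k) fBeta) := heq
    rw [Module.Flat.eqLocus_lTensor_eq] at hmem
    obtain ⟨v, hv⟩ := hmem
    change S k ⊗[R] (famEq Φ) at v
    refine ⟨v, fco_injective Φ h1 k ?_⟩
    have hv' : LinearMap.lTensor (S k) (famEq Φ).subtype v = w := hv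
    rw [fco_fcomp Φ k k v, LinearMap.lTensor_comp_apply, hv', hwi]

end Fam

end Groth.Agent.Lib.Helper7.FFDesc
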