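import Mathlib
import Groth.Agent.Lib.Helper7.FamDesc1

/-!
# Descent of elements relative to a family of forms (helper7)
-/

set_option autoImplicit false

namespace Groth.Agent.Lib.Helper7.FFDesc

open TensorProduct Groth.Agent.Lib.Helper7.NilLift

universe u

section Two

variable {R : Type u} [CommRing R] {X Y : Type u} [CommRing X] [Algebra R X] [CommRing Y]
  [Algebra R Y] {V : Type u} [AddCommGroup V] [Module R V]

lemma in1_assoc (n : X ⊗[R] V) :
    TensorProduct.assoc R X Y V (rT (in1 (R := R) X Y) V n) =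
      LinearMap.lTensor X (TensorProduct.mk R Y V 1) n := by
  induction n using TensorProduct.induction_on with
  | zero => simp
  | add x y hx hy => rw [map_add, map_add, hx, hy, map_add]
  | tmul s l => rfl

end Two

section Fam

variable {R : Type u} [CommRing R] {ι : Type u} [Fintype ι]
  {S : ι → Type u} [∀ i, CommRing (S i)] [∀ i, Algebra R (S i)] [∀ i, Module.Flat R (S i)]
  (hS : JointlyFaithful R S)

include hS

/-- the sheaf property in `rT`-form. -/
lemma fam_exists_of_rT_eq {V : Type u} [AddCommGroup V] [Module R V] (w : ∀ i, S i ⊗[R] V)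
    (h : ∀ i j, rT (in1 (R := R) (S i) (S j)) V (w i) = rT (in2 (R := R) (S i) (S j)) V (w j)) :
    ∃ v : V, ∀ i, (1 : S i) ⊗ₜ[R] v = w i := by
  apply exists_of_compat hS w
  intro i j
  rw [← in1_assoc (Y := S j), h i j, in2_assoc]

omit [Fintype ι] in
/-- joint injectivity of a family of forms. -/
lemma fam_form_eq_zero {X : Type u} [AddCommGroup X] [Module R X] {P : ι → Type u}
    [∀ i, AddCommGroup (P i)] [∀ i, Module R (P i)] [∀ i, Module (S i) (P i)]
    [∀ i, IsScalarTower R (S i) (P i)] (f : ∀ i, X →ₗ[R] P i)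
    (hf : ∀ i, Function.Injective (LinearMap.liftBaseChange (S i) (f i))) (x : X)
    (hx : ∀ i, f i x = 0) : x = 0 := by
  apply eq_zero_of_forall_tmul hS
  intro i
  apply hf i
  rw [LinearMap.liftBaseChange_tmul, hx i, smul_zero, map_zero]

/-- descent of elements relative to a family of forms. -/
theorem fam_mem_range_of_form {E : Type u} [AddCommGroup E] [Module R E] {V : ι → Type u}
    [∀ i, AddCommGroup (V i)] [∀ i, Module R (V i)]
    (u₀ : ∀ i, E →ₗ[R] S i ⊗[R] V i)
    (hu : ∀ i, Function.Bijective (LinearMap.liftBaseChange (S i) (u₀ i)))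
    (Ψ : ∀ i j, (S i ⊗[R] S j) ⊗[R] V i →ₗ[S i ⊗[R] S j] (S i ⊗[R] S j) ⊗[R] V j)
    (hΨ : ∀ i j e, Ψ i j (rT (in1 (R := R) (S i) (S j)) (V i) (u₀ i e)) =
      rT (in2 (R := R) (S i) (S j)) (V j) (u₀ j e))
    (z : ∀ i, S i ⊗[R] V i)
    (hz : ∀ i j, Ψ i j (rT (in1 (R := R) (S i) (S j)) (V i) (z i)) =
      rT (in2 (R := R) (S i) (S j)) (V j) (z j)) :
    ∃ e : E, ∀ i, u₀ i e = z i := by
  set g : ∀ i, S i ⊗[R] E →ₗ[S i] S i ⊗[R] V i := fun i => LinearMap.liftBaseChange (S i) (u₀ i)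
    with hg
  have hg1 : ∀ i (e : E), g i ((1 : S i) ⊗ₜ[R] e) = u₀ i e := by
    intro i e
    rw [hg]
    simp only [LinearMap.liftBaseChange_tmul, one_smul]
  have hΨG : ∀ i j, (Ψ i j).comp (bcLin (in1 (R := R) (S i) (S j)) (g i)) =
      bcLin (in2 (R := R) (S i) (S j)) (g j) := by
    intro i j
    apply linearMap_ext_one_tmul
    intro e
    rw [LinearMap.comp_apply, bcLin_one_tmul, bcLin_one_tmul, hg1, hg1, hΨ]
  choose w hw using fun i => (hu i).2 (z i)
  have hw12 : ∀ i j, rT (in1 (R := R) (S i) (S j)) E (w i) =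
      rT (in2 (R := R) (S i) (S j)) E (w j) := by
    intro i j
    apply (bcLin_bijective (in2 (R := R) (S i) (S j)) (g j) (hu j)).1
    rw [bcLin_rT, ← hΨG, LinearMap.comp_apply, bcLin_rT]
    change Ψ i j (rT _ _ (LinearMap.liftBaseChange (S i) (u₀ i) (w i))) =
      rT _ _ (LinearMap.liftBaseChange (S j) (u₀ j) (w j))
    rw [hw, hw, hz]
  obtain ⟨e, he⟩ := fam_exists_of_rT_eq hS w hw12
  refine ⟨e, fun i => ?_⟩
  rw [← hw i, ← he i, ← hg1]
  
end Fam

end Groth.Agent.Lib.Helper7.FFDesc
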