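import Mathlib
import Groth.Agent.Lib.Helper7.FamDesc2
import Groth.Agent.Lib.Helper7.BialgDescent

/-!
# Descent of bialgebra homomorphisms along a jointly faithfully flat family (helper7)
-/

set_option autoImplicit false

namespace Groth.Agent.Lib.Helper7.FFDesc

open TensorProduct Groth.Agent.Lib.Helper7.NilLift

universe u

section

variable {R : Type u} [CommRing R] {ι : Type u}
  {S : ι → Type u} [∀ i, CommRing (S i)] [∀ i, Algebra R (S i)] [∀ i, Module.Flat R (S i)]
  (hS : JointlyFaithful R S)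
  {B C : Type u} [CommRing B] [Bialgebra R B] [CommRing C] [Bialgebra R C]

include hS

lemma fam_one_tmul_injective {V : Type u} [AddCommGroup V] [Module R V] (v v' : V)
    (h : ∀ i, (1 : S i) ⊗ₜ[R] v = (1 : S i) ⊗ₜ[R] v') : v = v' := by
  rw [← sub_eq_zero]
  apply eq_zero_of_forall_tmul hS
  intro i
  rw [TensorProduct.tmul_sub, h i, sub_self]

lemma fam_algebraMap_injective (r r' : R) (h : ∀ i, algebraMap R (S i) r = algebraMap R (S i) r') :
    r = r' := by
  apply fam_one_tmul_injective hS
  intro i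
  have h2 : ∀ r : R, (1 : S i) ⊗ₜ[R] r = (algebraMap R (S i) r) ⊗ₜ[R] (1 : R) := by
    intro r
    rw [Algebra.algebraMap_eq_smul_one, TensorProduct.smul_tmul, smul_eq_mul, mul_one]
  rw [h2, h2, h i]

/-- a family of bialgebra homs over a jointly faithfully flat family which maps `1 ⊗ C` into
`1 ⊗ B` compatibly descends. -/
theorem exists_fam_hom_descent (Φ : ∀ i, S i ⊗[R] C →ₐc[S i] S i ⊗[R] B)
    (h : ∀ c : C, ∃ b : B, ∀ i, (1 : S i) ⊗ₜ[R] b = Φ i ((1 : S i) ⊗ₜ[R] c)) :
    ∃ φ : C →ₐc[R] B, ∀ i c, Φ i ((1 : S i) ⊗ₜ[R] c) = (1 : S i) ⊗ₜ[R] φ c := by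
  choose f hf using h
  let fl : C →ₗ[R] B :=
    { toFun := f
      map_add' := by
        intro c c'
        apply fam_one_tmul_injective hS
        intro i
        rw [hf, TensorProduct.tmul_add, TensorProduct.tmul_add, map_add, hf, hf]
      map_smul' := by
        intro r c
        apply fam_one_tmul_injective hS
        intro i
        rw [hf, TensorProduct.tmul_smul, RingHom.id_apply, TensorProduct.tmul_smul,
          ← algebraMap_smul (S i) r ((1 : S i) ⊗ₜ[R] c), map_smul, algebraMap_smul, hf] }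
  have hfl : ∀ c, fl c = f c := fun _ => rfl
  let fa : C →ₐ[R] B := AlgHom.ofLinearMap fl
    (by
      apply fam_one_tmul_injective hS
      intro i
      change (1 : S i) ⊗ₜ[R] f 1 = (1 : S i) ⊗ₜ[R] (1 : B)
      rw [hf]
      exact map_one (Φ i))
    (by
      intro c c'
      apply fam_one_tmul_injective hS
      intro i
      change (1 : S i) ⊗ₜ[R] f (c * c') = (1 : S i) ⊗ₜ[R] (f c * f c')
      have h1 : (1 : S i) ⊗ₜ[R] (c * c') = ((1 : S i) ⊗ₜ[R] c) * ((1 : S i) ⊗ₜ[R] c') := by
        rw [Algebra.TensorProduct.tmul_mul_tmul, mul_one]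
      have h2 : (1 : S i) ⊗ₜ[R] (f c * f c') =
          ((1 : S i) ⊗ₜ[R] f c) * ((1 : S i) ⊗ₜ[R] f c') := by
        rw [Algebra.TensorProduct.tmul_mul_tmul, mul_one]
      rw [hf, h1, h2, map_mul, hf, hf])
  have hfa : ∀ c, fa c = f c := fun _ => rfl
  have hd : ∀ (i : ι) (d : C ⊗[R] C),
      TensorProduct.map (Φ i : S i ⊗[R] C →ₗ[S i] S i ⊗[R] B) (Φ i : S i ⊗[R] C →ₗ[S i] S i ⊗[R] B)
        (AlgebraTensorModule.distribBaseChange R (S i) C C ((1 : S i) ⊗ₜ[R] d)) =
      AlgebraTensorModule.distribBaseChange R (S i) B B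
        ((1 : S i) ⊗ₜ[R] (Algebra.TensorProduct.map fa fa d)) := by
    intro i d
    induction d using TensorProduct.induction_on with
    | zero => simp
    | add x y hx hy =>
      rw [TensorProduct.tmul_add, map_add, map_add, hx, hy, map_add, TensorProduct.tmul_add,
        map_add]
    | tmul c c' =>
      rw [← one_tmul_tmul_one_tmul, TensorProduct.map_tmul, Algebra.TensorProduct.map_tmul,
        ← one_tmul_tmul_one_tmul, hfa, hfa, hf, hf]
      rfl
  refine ⟨BialgHom.ofAlgHom fa ?_ ?_, ?_⟩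
  · apply AlgHom.ext
    intro c
    change Coalgebra.counit (R := R) (f c) = Coalgebra.counit (R := R) c
    apply fam_algebraMap_injective hS
    intro i
    rw [← BialgDescent.counit_one_tmul, ← BialgDescent.counit_one_tmul, hf,
      CoalgHomClass.counit_comp_apply]
  · apply AlgHom.ext
    intro c
    change Algebra.TensorProduct.map fa fa (Coalgebra.comul (R := R) c) =
      Coalgebra.comul (R := R) (f c)
    apply fam_one_tmul_injective hS
    intro i
    apply (AlgebraTensorModule.distribBaseChange R (S i) B B).injective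
    rw [← hd]
    have h1 := comul_eq_distrib (R := R) (A := B) (K := S i) ((1 : S i) ⊗ₜ[R] f c)
    rw [LinearMap.lTensor_tmul] at h1
    have h2 := comul_eq_distrib (R := R) (A := C) (K := S i) ((1 : S i) ⊗ₜ[R] c)
    rw [LinearMap.lTensor_tmul] at h2
    rw [← h1, ← h2, hf, CoalgHomClass.map_comp_comul_apply]
  · intro i c
    exact (hf c i).symm

/-- if all the `Φ i` are bijective, so is the descended map. -/
theorem fam_hom_bijective (Φ : ∀ i, S i ⊗[R] C →ₐc[S i] S i ⊗[R] B) (φ : C →ₐc[R] B)
    (hφ : ∀ i c, Φ i ((1 : S i) ⊗ₜ[R] c) = (1 : S i) ⊗ₜ[R] φ c)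
    (hb : ∀ i, Function.Bijective (Φ i)) : Function.Bijective φ := by
  have hlt : ∀ i w, LinearMap.lTensor (S i) (φ : C →ₐ[R] B).toLinearMap w = Φ i w := by
    intro i w
    induction w using TensorProduct.induction_on with
    | zero => simp
    | add x y hx hy => rw [map_add, map_add, hx, hy]
    | tmul s c =>
      have : s ⊗ₜ[R] c = s • ((1 : S i) ⊗ₜ[R] c) := by
        rw [TensorProduct.smul_tmul', smul_eq_mul, mul_one]
      rw [LinearMap.lTensor_tmul, this, map_smul, hφ, TensorProduct.smul_tmul', smul_eq_mul,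
        mul_one]
      rfl
  have hfun : ∀ i, (LinearMap.lTensor (S i) (φ : C →ₐ[R] B).toLinearMap : _ → _) = Φ i :=
    fun i => funext (hlt i)
  constructor
  · apply injective_of_forall hS (φ : C →ₐ[R] B).toLinearMap
    intro i
    rw [hfun]
    exact (hb i).1
  · apply surjective_of_forall hS (φ : C →ₐ[R] B).toLinearMap
    intro i
    rw [hfun]
    exact (hb i).2

end

end Groth.Agent.Lib.Helper7.FFDesc
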