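import Mathlib
import Groth.Agent.Lib.Helper7.FamDesc2
import Groth.Agent.Lib.Helper7.FFDesc4

/-!
# Hopf algebra structure on a family-form (helper7)

`S i` flat jointly faithful `R`-algebras, `H i` commutative Hopf algebras over `S i`,
`j i : A → H i` with `S i ⊗[R] A ≅ H i`, such that the comultiplications, counits and antipodes
preserve `A` (jointly).  Then `A` is an `R`-Hopf algebra with `S i ⊗ A ≅ H i` as bialgebras.
-/

set_option autoImplicit false

namespace Groth.Agent.Lib.Helper7.FFDesc

open TensorProduct Groth.Agent.Lib.Helper7.NilLift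

universe u

section One

variable {R : Type u} [CommRing R] {S : Type u} [CommRing S] [Algebra R S]
  {H : Type u} [CommRing H] [HopfAlgebra S H] [Algebra R H] [IsScalarTower R S H]
  {A : Type u} [CommRing A] [Algebra R A] (j : A →ₐ[R] H)

@[simp] lemma gm2_tmul (x y : A) : mm2 (S := S) j (x ⊗ₜ[R] y) = j x ⊗ₜ[S] j y := by
  rw [mm2, Algebra.TensorProduct.productMap_apply_tmul]
  change (j x ⊗ₜ[S] (1 : H)) * ((1 : H) ⊗ₜ[S] j y) = _
  rw [Algebra.TensorProduct.tmul_mul_tmul, mul_one, one_mul]

lemma gm2_toLinearMap :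
    (mm2 (S := S) j).toLinearMap = mixedMap (S := S) j.toLinearMap j.toLinearMap := by
  apply TensorProduct.ext'
  intro x y
  rw [AlgHom.toLinearMap_apply, gm2_tmul]
  rfl

@[simp] lemma gm3_tmul (x : A) (d : A ⊗[R] A) :
    mm3 (S := S) j (x ⊗ₜ[R] d) = j x ⊗ₜ[S] mm2 (S := S) j d := by
  rw [mm3, Algebra.TensorProduct.productMap_apply_tmul]
  change (j x ⊗ₜ[S] (1 : H ⊗[S] H)) * ((1 : H) ⊗ₜ[S] mm2 (S := S) j d) = _
  rw [Algebra.TensorProduct.tmul_mul_tmul, mul_one, one_mul]

lemma gm3_toLinearMap :
    (mm3 (S := S) j).toLinearMap =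
      mixedMap (S := S) j.toLinearMap (mm2 (S := S) j).toLinearMap := by
  apply TensorProduct.ext'
  intro x y
  rw [AlgHom.toLinearMap_apply, gm3_tmul]
  rfl

@[simp] lemma gm3'_tmul (d : A ⊗[R] A) (x : A) :
    mm3' (S := S) j (d ⊗ₜ[R] x) = mm2 (S := S) j d ⊗ₜ[S] j x := by
  rw [mm3', Algebra.TensorProduct.productMap_apply_tmul]
  change (mm2 (S := S) j d ⊗ₜ[S] (1 : H)) * ((1 : H ⊗[S] H) ⊗ₜ[S] j x) = _
  rw [Algebra.TensorProduct.tmul_mul_tmul, mul_one, one_mul]

lemma gm2_form (hj : Function.Bijective (LinearMap.liftBaseChange S j.toLinearMap)) :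
    Function.Bijective (LinearMap.liftBaseChange S (mm2 (S := S) j).toLinearMap) := by
  rw [gm2_toLinearMap]
  exact mixedMap_form _ _ hj hj

lemma gm3_form (hj : Function.Bijective (LinearMap.liftBaseChange S j.toLinearMap)) :
    Function.Bijective (LinearMap.liftBaseChange S (mm3 (S := S) j).toLinearMap) := by
  rw [gm3_toLinearMap]
  exact mixedMap_form _ _ hj (gm2_form j hj)

lemma gassoc_nat (w : (A ⊗[R] A) ⊗[R] A) :
    mm3 (S := S) j (Algebra.TensorProduct.assoc R R R A A A w) =
      Algebra.TensorProduct.assoc S S S H H H (mm3' (S := S) j w) := by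
  induction w using TensorProduct.induction_on with
  | zero => simp
  | add y z hy hz => simp only [map_add, hy, hz]
  | tmul d c =>
    induction d using TensorProduct.induction_on with
    | zero => simp
    | add y z hy hz => simp only [TensorProduct.add_tmul, map_add, hy, hz]
    | tmul a b =>
      rw [Algebra.TensorProduct.assoc_tmul, gm3_tmul, gm2_tmul, gm3'_tmul, gm2_tmul,
        Algebra.TensorProduct.assoc_tmul]

variable (c : A →ₐ[R] A ⊗[R] A)
  (hc : ∀ x, mm2 (S := S) j (c x) = Coalgebra.comul (R := S) (j x))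
  (ε' : A →ₐ[R] R) (hε' : ∀ x, algebraMap R S (ε' x) = Coalgebra.counit (R := S) (j x))
  (a' : A →ₐ[R] A) (ha' : ∀ x, j (a' x) = HopfAlgebra.antipode S (j x))

include hc in
lemma gm3'_map (d : A ⊗[R] A) :
    mm3' (S := S) j (Algebra.TensorProduct.map c (AlgHom.id R A) d) =
      Algebra.TensorProduct.map (Bialgebra.comulAlgHom S H) (AlgHom.id S H) (mm2 (S := S) j d) := by
  induction d using TensorProduct.induction_on with
  | zero => simp
  | add y z hy hz => simp only [map_add, hy, hz]
  | tmul a b =>
    rw [Algebra.TensorProduct.map_tmul, gm3'_tmul, hc, gm2_tmul, Algebra.TensorProduct.map_tmul]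
    rfl

include hc in
lemma gm3_map (d : A ⊗[R] A) :
    mm3 (S := S) j (Algebra.TensorProduct.map (AlgHom.id R A) c d) =
      Algebra.TensorProduct.map (AlgHom.id S H) (Bialgebra.comulAlgHom S H) (mm2 (S := S) j d) := by
  induction d using TensorProduct.induction_on with
  | zero => simp
  | add y z hy hz => simp only [map_add, hy, hz]
  | tmul a b =>
    rw [Algebra.TensorProduct.map_tmul, gm3_tmul, hc, gm2_tmul, Algebra.TensorProduct.map_tmul]
    rfl

include hc in
lemma coassoc_one (x : A) :
    mm3 (S := S) j (((Algebra.TensorProduct.assoc R R R A A A).toAlgHom.comp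
        ((Algebra.TensorProduct.map c (AlgHom.id R A)).comp c)) x) =
      mm3 (S := S) j (((Algebra.TensorProduct.map (AlgHom.id R A) c).comp c) x) := by
  simp only [AlgHom.comp_apply]
  refine (gassoc_nat j _).trans ?_
  rw [gm3'_map j c hc, gm3_map j c hc, hc]
  exact Coalgebra.coassoc_apply (R := S) (j x)

include hε' in
lemma j_lid_map (d : A ⊗[R] A) :
    j (Algebra.TensorProduct.lid R A (Algebra.TensorProduct.map ε' (AlgHom.id R A) d)) =
      Algebra.TensorProduct.lid S H
        (Algebra.TensorProduct.map (Bialgebra.counitAlgHom S H) (AlgHom.id S H)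
          (mm2 (S := S) j d)) := by
  induction d using TensorProduct.induction_on with
  | zero => simp
  | add y z hy hz => simp only [map_add, hy, hz]
  | tmul a b =>
    rw [Algebra.TensorProduct.map_tmul, Algebra.TensorProduct.lid_tmul, gm2_tmul,
      Algebra.TensorProduct.map_tmul, Algebra.TensorProduct.lid_tmul, AlgHom.id_apply,
      AlgHom.id_apply, map_smul, ← algebraMap_smul S, hε']
    rfl

include hε' in
lemma j_rid_map (d : A ⊗[R] A) :
    j (Algebra.TensorProduct.rid R R A (Algebra.TensorProduct.map (AlgHom.id R A) ε' d)) =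
      Algebra.TensorProduct.rid S S H
        (Algebra.TensorProduct.map (AlgHom.id S H) (Bialgebra.counitAlgHom S H)
          (mm2 (S := S) j d)) := by
  induction d using TensorProduct.induction_on with
  | zero => simp
  | add y z hy hz => simp only [map_add, hy, hz]
  | tmul a b =>
    rw [Algebra.TensorProduct.map_tmul, Algebra.TensorProduct.rid_tmul, gm2_tmul,
      Algebra.TensorProduct.map_tmul, Algebra.TensorProduct.rid_tmul, AlgHom.id_apply,
      AlgHom.id_apply, map_smul, ← algebraMap_smul S, hε']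
    rfl

include hc hε' in
lemma rTensor_one (x : A) :
    j (Algebra.TensorProduct.lid R A (Algebra.TensorProduct.map ε' (AlgHom.id R A) (c x))) =
      j x := by
  rw [j_lid_map j ε' hε', hc]
  have h := Coalgebra.rTensor_counit_comul (R := S) (j x)
  have h2 : Algebra.TensorProduct.map (Bialgebra.counitAlgHom S H) (AlgHom.id S H)
      (Coalgebra.comul (R := S) (j x)) = (1 : S) ⊗ₜ[S] (j x) := h
  rw [h2]
  simp

include hc hε' in
lemma lTensor_one (x : A) :
    j (Algebra.TensorProduct.rid R R A (Algebra.TensorProduct.map (AlgHom.id R A) ε' (c x))) =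
      j x := by
  rw [j_rid_map j ε' hε', hc]
  have h := Coalgebra.lTensor_counit_comul (R := S) (j x)
  have h2 : Algebra.TensorProduct.map (AlgHom.id S H) (Bialgebra.counitAlgHom S H)
      (Coalgebra.comul (R := S) (j x)) = (j x) ⊗ₜ[S] (1 : S) := h
  rw [h2]
  simp

include ha' in
lemma j_lift_a'_id (d : A ⊗[R] A) :
    j (Algebra.TensorProduct.lift a' (AlgHom.id R A) (fun _ _ => Commute.all _ _) d) =
      Algebra.TensorProduct.lift (HopfAlgebra.antipodeAlgHom S H) (AlgHom.id S H)
        (fun _ _ => Commute.all _ _) (mm2 (S := S) j d) := by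
  induction d using TensorProduct.induction_on with
  | zero => simp
  | add y z hy hz => simp only [map_add, hy, hz]
  | tmul a b =>
    rw [Algebra.TensorProduct.lift_tmul, gm2_tmul, Algebra.TensorProduct.lift_tmul, map_mul, ha']
    rfl

include ha' in
lemma j_lift_id_a' (d : A ⊗[R] A) :
    j (Algebra.TensorProduct.lift (AlgHom.id R A) a' (fun _ _ => Commute.all _ _) d) =
      Algebra.TensorProduct.lift (AlgHom.id S H) (HopfAlgebra.antipodeAlgHom S H)
        (fun _ _ => Commute.all _ _) (mm2 (S := S) j d) := by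
  induction d using TensorProduct.induction_on with
  | zero => simp
  | add y z hy hz => simp only [map_add, hy, hz]
  | tmul a b =>
    rw [Algebra.TensorProduct.lift_tmul, gm2_tmul, Algebra.TensorProduct.lift_tmul, map_mul, ha']
    rfl

include hc hε' ha' in
lemma antipode_one_left (x : A) :
    j (Algebra.TensorProduct.lift a' (AlgHom.id R A) (fun _ _ => Commute.all _ _) (c x)) =
      j (algebraMap R A (ε' x)) := by
  rw [j_lift_a'_id j a' ha', hc, lift_antipode_id', HopfAlgebra.mul_antipode_rTensor_comul_apply,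
    AlgHom.commutes, IsScalarTower.algebraMap_apply R S H, hε']

include hc hε' ha' in
lemma antipode_one_right (x : A) :
    j (Algebra.TensorProduct.lift (AlgHom.id R A) a' (fun _ _ => Commute.all _ _) (c x)) =
      j (algebraMap R A (ε' x)) := by
  rw [j_lift_id_a' j a' ha', hc, lift_id_antipode', HopfAlgebra.mul_antipode_lTensor_comul_apply,
    AlgHom.commutes, IsScalarTower.algebraMap_apply R S H, hε']

lemma gmap_theta_distrib (s : S) (d : A ⊗[R] A) :
    Algebra.TensorProduct.map (thetaAlg (S := S) j) (thetaAlg (S := S) j)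
      (AlgebraTensorModule.distribBaseChange R S A A (s ⊗ₜ[R] d)) = s • mm2 (S := S) j d := by
  have h1 := liftBaseChange_mixedMap (S := S) j.toLinearMap j.toLinearMap (s ⊗ₜ[R] d)
  rw [← gm2_toLinearMap, LinearMap.liftBaseChange_tmul, ← thetaAlg_toLinearMap] at h1
  exact h1.symm

end One

section OneB

variable {R : Type u} [CommRing R] {S : Type u} [CommRing S] [Algebra R S]
  {H : Type u} [CommRing H] [HopfAlgebra S H] [Algebra R H] [IsScalarTower R S H]
  {A : Type u} [CommRing A] [HopfAlgebra R A] (j : A →ₐ[R] H)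

/-- a form compatible with comultiplication and counit is a bialgebra isomorphism. -/
theorem bialgEquiv_one
    (hj : Function.Bijective (LinearMap.liftBaseChange S j.toLinearMap))
    (hcomul : ∀ x, mm2 (S := S) j (Coalgebra.comul (R := R) x) = Coalgebra.comul (R := S) (j x))
    (hcounit : ∀ x, algebraMap R S (Coalgebra.counit (R := R) x) =
      Coalgebra.counit (R := S) (j x)) :
    ∃ θ : S ⊗[R] A ≃ₐc[S] H, ∀ (s : S) (x : A), θ (s ⊗ₜ[R] x) = s • j x := by
  have hcounit' : (Bialgebra.counitAlgHom S H).comp (thetaAlg (S := S) j) =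
      Bialgebra.counitAlgHom S (S ⊗[R] A) := by
    apply AlgHom.ext
    intro w
    induction w using TensorProduct.induction_on with
    | zero => simp
    | add y z hy hz => rw [map_add, map_add, hy, hz]
    | tmul s x =>
      change Coalgebra.counit (R := S) (thetaAlg (S := S) j (s ⊗ₜ[R] x)) =
        Coalgebra.counit (R := S) (s ⊗ₜ[R] x : S ⊗[R] A)
      rw [thetaAlg_tmul, map_smul, ← hcounit, TensorProduct.counit_tmul,
        CommSemiring.counit_apply, Algebra.smul_def, Algebra.smul_def, mul_comm]
      rfl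
  have hcomul' : (Algebra.TensorProduct.map (thetaAlg (S := S) j) (thetaAlg (S := S) j)).comp
      (Bialgebra.comulAlgHom S (S ⊗[R] A)) = (Bialgebra.comulAlgHom S H).comp
        (thetaAlg (S := S) j) := by
    apply AlgHom.ext
    intro w
    induction w using TensorProduct.induction_on with
    | zero => simp
    | add y z hy hz => rw [map_add, map_add, hy, hz]
    | tmul s x =>
      change Algebra.TensorProduct.map (thetaAlg (S := S) j) (thetaAlg (S := S) j)
        (Coalgebra.comul (R := S) (s ⊗ₜ[R] x : S ⊗[R] A)) =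
          Coalgebra.comul (R := S) (thetaAlg (S := S) j (s ⊗ₜ[R] x))
      rw [Groth.Agent.Lib.Helper7.BCR.comul_tmul_eq,
        Groth.Agent.Lib.Helper7.NilLift.bcPair_eq_distrib, gmap_theta_distrib, hcomul,
        thetaAlg_tmul, map_smul]
  refine ⟨BialgEquiv.ofBijective (BialgHom.ofAlgHom (thetaAlg (S := S) j) hcounit' hcomul')
    (thetaAlg_bijective j hj), ?_⟩
  intro s x
  exact thetaAlg_tmul j s x

end OneB

section Fam

variable {R : Type u} [CommRing R] {ι : Type u}
  {S : ι → Type u} [∀ i, CommRing (S i)] [∀ i, Algebra R (S i)] [∀ i, Module.Flat R (S i)]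
  (hS : JointlyFaithful R S)
  {H : ι → Type u} [∀ i, CommRing (H i)] [∀ i, HopfAlgebra (S i) (H i)] [∀ i, Algebra R (H i)]
  [∀ i, IsScalarTower R (S i) (H i)]
  {A : Type u} [CommRing A] [Algebra R A] (j : ∀ i, A →ₐ[R] H i)
  (hj : ∀ i, Function.Bijective (LinearMap.liftBaseChange (S i) (j i).toLinearMap))

/-- `A → Π H i`. -/
noncomputable def pj : A →ₐ[R] ∀ i, H i := AlgHom.pi j

/-- `A ⊗ A → Π H i ⊗ H i`. -/
noncomputable def pm2 : A ⊗[R] A →ₐ[R] ∀ i, H i ⊗[S i] H i :=
  AlgHom.pi (fun i => mm2 (S := S i) (j i))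

/-- `A ⊗ (A ⊗ A) → Π H i ⊗ (H i ⊗ H i)`. -/
noncomputable def pm3 : A ⊗[R] (A ⊗[R] A) →ₐ[R] ∀ i, H i ⊗[S i] (H i ⊗[S i] H i) :=
  AlgHom.pi (fun i => mm3 (S := S i) (j i))

variable (R S) in
/-- `R → Π S i`. -/
noncomputable def pS : R →ₐ[R] ∀ i, S i := AlgHom.pi (fun i => Algebra.ofId R (S i))

include hS hj in
lemma pj_injective : Function.Injective (pj j) := by
  rw [injective_iff_map_eq_zero]
  intro x hx
  apply fam_form_eq_zero (S := S) (P := H) hS (fun i => (j i).toLinearMap) (fun i => (hj i).1) x
  intro i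
  exact congrFun hx i

include hS hj in
lemma pm2_injective : Function.Injective (pm2 (S := S) j) := by
  rw [injective_iff_map_eq_zero]
  intro x hx
  apply fam_form_eq_zero (S := S) (P := fun i => H i ⊗[S i] H i) hS
    (fun i => (mm2 (S := S i) (j i)).toLinearMap) (fun i => (gm2_form (j i) (hj i)).1) x
  intro i
  exact congrFun hx i

include hS hj in
lemma pm3_injective : Function.Injective (pm3 (S := S) j) := by
  rw [injective_iff_map_eq_zero]
  intro x hx
  apply fam_form_eq_zero (S := S) (P := fun i => H i ⊗[S i] (H i ⊗[S i] H i)) hS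
    (fun i => (mm3 (S := S i) (j i)).toLinearMap) (fun i => (gm3_form (j i) (hj i)).1) x
  intro i
  exact congrFun hx i

include hS in
lemma pS_injective : Function.Injective (pS R S) := by
  rw [injective_iff_map_eq_zero]
  intro r hr
  apply eq_zero_of_forall_tmul hS
  intro i
  have h1 : algebraMap R (S i) r = 0 := congrFun hr i
  have h2 : (1 : S i) ⊗ₜ[R] r = (algebraMap R (S i) r) ⊗ₜ[R] (1 : R) := by
    rw [Algebra.algebraMap_eq_smul_one, TensorProduct.smul_tmul, smul_eq_mul, mul_one]
  rw [h2, h1, TensorProduct.zero_tmul]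

variable (hΔ : ∀ x, ∃ d, ∀ i, mm2 (S := S i) (j i) d = Coalgebra.comul (R := S i) (j i x))
  (hε : ∀ x, ∃ r : R, ∀ i, algebraMap R (S i) r = Coalgebra.counit (R := S i) (j i x))
  (hanti : ∀ x, ∃ y, ∀ i, j i y = HopfAlgebra.antipode (S i) (j i x))

/-- the comultiplication. -/
noncomputable def comulF : A →ₐ[R] A ⊗[R] A :=
  liftOfRange (pm2 (S := S) j) (pm2_injective hS j hj)
    (AlgHom.pi (fun i => ((Bialgebra.comulAlgHom (S i) (H i)).restrictScalars R).comp (j i)))
    (fun x => by
      obtain ⟨d, hd⟩ := hΔ x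
      exact ⟨d, funext hd⟩)

lemma mm2_comulF (i : ι) (x : A) :
    mm2 (S := S i) (j i) (comulF hS j hj hΔ x) = Coalgebra.comul (R := S i) (j i x) :=
  congrFun (liftOfRange_spec (pm2 (S := S) j) (pm2_injective hS j hj) _ _ x) i

/-- the counit. -/
noncomputable def counitF : A →ₐ[R] R :=
  liftOfRange (pS R S) (pS_injective hS)
    (AlgHom.pi (fun i => ((Bialgebra.counitAlgHom (S i) (H i)).restrictScalars R).comp (j i)))
    (fun x => by
      obtain ⟨r, hr⟩ := hε x
      exact ⟨r, funext hr⟩)

lemma algebraMap_counitF (i : ι) (x : A) :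
    algebraMap R (S i) (counitF hS j hε x) = Coalgebra.counit (R := S i) (j i x) :=
  congrFun (liftOfRange_spec (pS R S) (pS_injective hS) _ _ x) i

/-- the antipode. -/
noncomputable def antipodeF : A →ₐ[R] A :=
  liftOfRange (pj j) (pj_injective hS j hj)
    (AlgHom.pi (fun i => ((HopfAlgebra.antipodeAlgHom (S i) (H i)).restrictScalars R).comp (j i)))
    (fun x => by
      obtain ⟨y, hy⟩ := hanti x
      exact ⟨y, funext hy⟩)

lemma j_antipodeF (i : ι) (x : A) :
    j i (antipodeF hS j hj hanti x) = HopfAlgebra.antipode (S i) (j i x) :=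
  congrFun (liftOfRange_spec (pj j) (pj_injective hS j hj) _ _ x) i

/-- the bialgebra structure on a family-form. -/
@[reducible] noncomputable def bialgebraF : Bialgebra R A :=
  Bialgebra.ofAlgHom (comulF hS j hj hΔ) (counitF hS j hε)
    (by
      apply AlgHom.ext
      intro x
      apply pm3_injective hS j hj
      funext i
      exact coassoc_one (j i) (comulF hS j hj hΔ) (mm2_comulF hS j hj hΔ i) x)
    (by
      apply AlgHom.ext
      intro x
      rw [AlgHom.comp_apply]
      apply (Algebra.TensorProduct.lid R A).injective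
      apply pj_injective hS j hj
      funext i
      refine (rTensor_one (j i) (comulF hS j hj hΔ) (mm2_comulF hS j hj hΔ i)
        (counitF hS j hε) (algebraMap_counitF hS j hε i) x).trans ?_
      change j i x = j i ((Algebra.TensorProduct.lid R A) ((Algebra.TensorProduct.lid R A).symm x))
      rw [AlgEquiv.apply_symm_apply])
    (by
      apply AlgHom.ext
      intro x
      rw [AlgHom.comp_apply]
      apply (Algebra.TensorProduct.rid R R A).injective
      apply pj_injective hS j hj
      funext i
      refine (lTensor_one (j i) (comulF hS j hj hΔ) (mm2_comulF hS j hj hΔ i)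
        (counitF hS j hε) (algebraMap_counitF hS j hε i) x).trans ?_
      change j i x =
        j i ((Algebra.TensorProduct.rid R R A) ((Algebra.TensorProduct.rid R R A).symm x))
      rw [AlgEquiv.apply_symm_apply])

/-- the Hopf algebra structure on a family-form. -/
@[reducible] noncomputable def hopfAlgebraF : HopfAlgebra R A :=
  letI := bialgebraF hS j hj hΔ hε
  HopfAlgebra.ofAlgHom (antipodeF hS j hj hanti)
    (by
      apply AlgHom.ext
      intro x
      apply pj_injective hS j hj
      funext i
      exact antipode_one_left (j i) (comulF hS j hj hΔ) (mm2_comulF hS j hj hΔ i)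
        (counitF hS j hε) (algebraMap_counitF hS j hε i) (antipodeF hS j hj hanti)
        (j_antipodeF hS j hj hanti i) x)
    (by
      apply AlgHom.ext
      intro x
      apply pj_injective hS j hj
      funext i
      exact antipode_one_right (j i) (comulF hS j hj hΔ) (mm2_comulF hS j hj hΔ i)
        (counitF hS j hε) (algebraMap_counitF hS j hε i) (antipodeF hS j hj hanti)
        (j_antipodeF hS j hj hanti i) x)

/-- the forms are bialgebra isomorphisms. -/
theorem exists_bialgEquivF (i : ι) :
    letI := hopfAlgebraF hS j hj hΔ hε hanti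
    ∃ θ : S i ⊗[R] A ≃ₐc[S i] H i, ∀ (s : S i) (x : A), θ (s ⊗ₜ[R] x) = s • j i x := by
  letI := hopfAlgebraF hS j hj hΔ hε hanti
  exact bialgEquiv_one (j i) (hj i) (mm2_comulF hS j hj hΔ i) (algebraMap_counitF hS j hε i)

end Fam

end Groth.Agent.Lib.Helper7.FFDesc
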