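import Mathlib
import Groth.Agent.Lib.Helper7.FamDesc3
import Groth.Agent.Lib.Helper7.FFDesc5

/-!
# Descent of Hopf algebras along a finite jointly faithfully flat family (helper7)
-/

set_option autoImplicit false

namespace Groth.Agent.Lib.Helper7.FFDesc

open TensorProduct Groth.Agent.Lib.Helper7.NilLift

universe u

section GPhi2

variable {R : Type u} [CommRing R] {K : Type u} [CommRing K] [Algebra R K]
  {L L' : Type u} [CommRing L] [HopfAlgebra R L] [CommRing L'] [HopfAlgebra R L']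
  (Φ : K ⊗[R] L →ₐc[K] K ⊗[R] L')

/-- the underlying linear map. -/
noncomputable abbrev glin : K ⊗[R] L →ₗ[K] K ⊗[R] L' :=
  (Φ : K ⊗[R] L →ₐ[K] K ⊗[R] L').toLinearMap

/-- `Φ ⊗ Φ` on `K ⊗ (L ⊗ L)`. -/
noncomputable def gPhi2 : K ⊗[R] (L ⊗[R] L) →ₗ[K] K ⊗[R] (L' ⊗[R] L') :=
  (AlgebraTensorModule.distribBaseChange R K L' L').symm.toLinearMap.comp
    ((TensorProduct.map (glin Φ) (glin Φ)).comp
      (AlgebraTensorModule.distribBaseChange R K L L).toLinearMap)

lemma gPhi2_distrib_symm (y y' : K ⊗[R] L) :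
    gPhi2 Φ ((AlgebraTensorModule.distribBaseChange R K L L).symm (y ⊗ₜ[K] y')) =
      (AlgebraTensorModule.distribBaseChange R K L' L').symm (Φ y ⊗ₜ[K] Φ y') := by
  rw [gPhi2, LinearMap.comp_apply, LinearMap.comp_apply, LinearEquiv.coe_coe, LinearEquiv.coe_coe,
    LinearEquiv.apply_symm_apply, TensorProduct.map_tmul]
  rfl

lemma gPhi2_lTensor_comul (y : K ⊗[R] L) :
    gPhi2 Φ (LinearMap.lTensor K (Coalgebra.comul (R := R) (A := L)) y) =
      LinearMap.lTensor K (Coalgebra.comul (R := R) (A := L')) (Φ y) := by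
  rw [gPhi2, LinearMap.comp_apply, LinearMap.comp_apply, LinearEquiv.coe_coe, LinearEquiv.coe_coe,
    ← Groth.Agent.Lib.Helper7.NilLift.comul_eq_distrib]
  have h := CoalgHomClass.map_comp_comul_apply Φ y
  have h' : TensorProduct.map (glin Φ) (glin Φ) (Coalgebra.comul (R := K) y) =
      Coalgebra.comul (R := K) (Φ y) := h
  rw [h', Groth.Agent.Lib.Helper7.NilLift.comul_eq_distrib, LinearEquiv.symm_apply_apply]

end GPhi2

section Descent

variable {R : Type u} [CommRing R] {ι : Type u} [Fintype ι] [DecidableEq ι]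
  {S : ι → Type u} [∀ i, CommRing (S i)] [∀ i, Algebra R (S i)] [∀ i, Module.Flat R (S i)]
  (hS : JointlyFaithful R S)
  {L : ι → Type u} [∀ i, CommRing (L i)] [∀ i, HopfAlgebra R (L i)]
  (Φ : ∀ i j, (S i ⊗[R] S j) ⊗[R] L i →ₐc[S i ⊗[R] S j] (S i ⊗[R] S j) ⊗[R] L j)

/-- the underlying linear maps of a family descent datum. -/
noncomputable abbrev flin (i j : ι) :
    (S i ⊗[R] S j) ⊗[R] L i →ₗ[S i ⊗[R] S j] (S i ⊗[R] S j) ⊗[R] L j := glin (Φ i j)

/-- the descended algebra. -/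
noncomputable def fdescAlg : Subalgebra R (∀ i, S i ⊗[R] L i) :=
  ⨅ p : ι × ι, AlgHom.equalizer
    ((((Φ p.1 p.2 : (S p.1 ⊗[R] S p.2) ⊗[R] L p.1 →ₐ[S p.1 ⊗[R] S p.2]
        (S p.1 ⊗[R] S p.2) ⊗[R] L p.2).restrictScalars R).comp
      (Algebra.TensorProduct.map (in1 (R := R) (S p.1) (S p.2)) (AlgHom.id R (L p.1)))).comp
      (Pi.evalAlgHom R (fun i => S i ⊗[R] L i) p.1))
    ((Algebra.TensorProduct.map (in2 (R := R) (S p.1) (S p.2)) (AlgHom.id R (L p.2))).comp
      (Pi.evalAlgHom R (fun i => S i ⊗[R] L i) p.2))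

omit [Fintype ι] [DecidableEq ι] [∀ i, Module.Flat R (S i)] in
lemma mem_fdescAlg {n : ∀ i, S i ⊗[R] L i} :
    n ∈ fdescAlg Φ ↔ ∀ i j, Φ i j (rT (in1 (R := R) (S i) (S j)) (L i) (n i)) =
      rT (in2 (R := R) (S i) (S j)) (L j) (n j) := by
  rw [fdescAlg, Algebra.mem_iInf]
  constructor
  · intro h i j
    have := h (i, j)
    rw [AlgHom.mem_equalizer, AlgHom.comp_apply, AlgHom.comp_apply, AlgHom.comp_apply,
      algMap_eq_rT, algMap_eq_rT] at this
    exact this
  · intro h p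
    rw [AlgHom.mem_equalizer, AlgHom.comp_apply, AlgHom.comp_apply, AlgHom.comp_apply,
      algMap_eq_rT, algMap_eq_rT]
    exact h p.1 p.2

omit [Fintype ι] [DecidableEq ι] [∀ i, Module.Flat R (S i)] in
lemma fdescAlg_toSubmodule : Subalgebra.toSubmodule (fdescAlg Φ) = famEq (flin Φ) := by
  ext n
  rw [Subalgebra.mem_toSubmodule, mem_fdescAlg, mem_famEq]
  rfl

/-- the forms `A → S k ⊗ L k`. -/
noncomputable def jF (k : ι) : ↥(fdescAlg Φ) →ₐ[R] S k ⊗[R] L k :=
  (Pi.evalAlgHom R (fun i => S i ⊗[R] L i) k).comp (fdescAlg Φ).val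

omit [Fintype ι] [DecidableEq ι] [∀ i, Module.Flat R (S i)] in
lemma jF_apply (k : ι) (x : fdescAlg Φ) : jF Φ k x = x.1 k := rfl

lemma fdescAlg_form (h1 : FC1 (flin Φ)) (h2 : FC2 (flin Φ)) (k : ι) :
    Function.Bijective (LinearMap.liftBaseChange (S k) (jF Φ k).toLinearMap) := by
  have hb := fcomp_bijective (flin Φ) h1 h2 k
  let e : ↥(famEq (flin Φ)) ≃ₗ[R] ↥(fdescAlg Φ) :=
    (LinearEquiv.ofEq _ _ (fdescAlg_toSubmodule Φ).symm).trans (Subalgebra.toSubmoduleEquiv _)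
  have : (LinearMap.liftBaseChange (S k) (jF Φ k).toLinearMap : S k ⊗[R] ↥(fdescAlg Φ) → _) =
      (fcomp (flin Φ) k) ∘ (LinearEquiv.lTensor (S k) e.symm) := by
    funext w
    induction w using TensorProduct.induction_on with
    | zero =>
      rw [Function.comp_apply, LinearMap.map_zero, LinearEquiv.map_zero, LinearMap.map_zero]
    | add x y hx hy =>
      rw [Function.comp_apply] at hx hy ⊢
      rw [LinearMap.map_add, LinearEquiv.map_add, LinearMap.map_add, hx, hy]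
    | tmul s x =>
      rw [Function.comp_apply, LinearEquiv.lTensor_tmul, LinearMap.liftBaseChange_tmul, fcomp_tmul]
      rfl
  rw [this]
  exact hb.comp (LinearEquiv.bijective _)

end Descent

section AbstractForm

variable {R : Type u} [CommRing R] {ι : Type u} [Fintype ι]
  {S : ι → Type u} [∀ i, CommRing (S i)] [∀ i, Algebra R (S i)] [∀ i, Module.Flat R (S i)]
  (hS : JointlyFaithful R S)
  {L : ι → Type u} [∀ i, CommRing (L i)] [∀ i, HopfAlgebra R (L i)]
  (Φ : ∀ i j, (S i ⊗[R] S j) ⊗[R] L i →ₐc[S i ⊗[R] S j] (S i ⊗[R] S j) ⊗[R] L j)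
  {A : Type u} [CommRing A] [Algebra R A] (j : ∀ i, A →ₐ[R] S i ⊗[R] L i)
  (hj : ∀ i, Function.Bijective (LinearMap.liftBaseChange (S i) (j i).toLinearMap))
  (hjc : ∀ i k x, Φ i k (rT (in1 (R := R) (S i) (S k)) (L i) (j i x)) =
    rT (in2 (R := R) (S i) (S k)) (L k) (j k x))

/-- `A ⊗ A → S i ⊗ (L i ⊗ L i)`. -/
noncomputable def uG (i : ι) : A ⊗[R] A →ₗ[R] S i ⊗[R] (L i ⊗[R] L i) :=
  ((AlgebraTensorModule.distribBaseChange R (S i) (L i) (L i)).symm.toLinearMap.restrictScalars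
    R).comp (mm2 (S := S i) (j i)).toLinearMap

omit [Fintype ι] [∀ i, Module.Flat R (S i)] in
lemma uG_apply (i : ι) (d : A ⊗[R] A) :
    uG j i d = (AlgebraTensorModule.distribBaseChange R (S i) (L i) (L i)).symm
      (mm2 (S := S i) (j i) d) := rfl

omit [Fintype ι] [∀ i, Module.Flat R (S i)] in
lemma uG_tmul (i : ι) (a b : A) :
    uG j i (a ⊗ₜ[R] b) = (AlgebraTensorModule.distribBaseChange R (S i) (L i) (L i)).symm
      ((j i a) ⊗ₜ[S i] (j i b)) := by
  rw [uG_apply, gm2_tmul]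

include hj in
omit [Fintype ι] [∀ i, Module.Flat R (S i)] in
lemma uG_form (i : ι) : Function.Bijective (LinearMap.liftBaseChange (S i) (uG j i)) := by
  have : (LinearMap.liftBaseChange (S i) (uG j i) : S i ⊗[R] (A ⊗[R] A) → _) =
      (AlgebraTensorModule.distribBaseChange R (S i) (L i) (L i)).symm ∘
        (LinearMap.liftBaseChange (S i) (mm2 (S := S i) (j i)).toLinearMap) := by
    funext w
    induction w using TensorProduct.induction_on with
    | zero => simp
    | add x y hx hy => simp only [map_add, hx, hy, Function.comp_apply]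
    | tmul s d =>
      rw [Function.comp_apply, LinearMap.liftBaseChange_tmul, LinearMap.liftBaseChange_tmul,
        uG_apply, map_smul]
      rfl
  rw [this]
  exact (LinearEquiv.bijective _).comp (gm2_form _ (hj i))

include hjc in
omit [Fintype ι] [∀ i, Module.Flat R (S i)] in
lemma uG_compat (i k : ι) (e : A ⊗[R] A) :
    gPhi2 (Φ i k) (rT (in1 (R := R) (S i) (S k)) (L i ⊗[R] L i) (uG j i e)) =
      rT (in2 (R := R) (S i) (S k)) (L k ⊗[R] L k) (uG j k e) := by
  induction e using TensorProduct.induction_on with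
  | zero => simp
  | add x y hx hy => simp only [map_add, hx, hy]
  | tmul a b =>
    rw [uG_tmul, uG_tmul, rT_distrib_symm, gPhi2_distrib_symm, rT_distrib_symm, hjc, hjc]

include hjc in
omit [Fintype ι] [∀ i, Module.Flat R (S i)] in
lemma form_hz (x : A) (i k : ι) :
    gPhi2 (Φ i k) (rT (in1 (R := R) (S i) (S k)) (L i ⊗[R] L i)
      (LinearMap.lTensor (S i) (Coalgebra.comul (R := R) (A := L i)) (j i x))) =
      rT (in2 (R := R) (S i) (S k)) (L k ⊗[R] L k)
        (LinearMap.lTensor (S k) (Coalgebra.comul (R := R) (A := L k)) (j k x)) := by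
  rw [rT_lTensor_comul, gPhi2_lTensor_comul, hjc, rT_lTensor_comul]

omit [Fintype ι] [∀ i, Module.Flat R (S i)] in
lemma form_comul_aux (x : A) (i : ι) (d : A ⊗[R] A)
    (hd : uG j i d = (LinearMap.lTensor (S i) (Coalgebra.comul (R := R) (A := L i)) (j i x))) :
    mm2 (S := S i) (j i) d = Coalgebra.comul (R := S i) (j i x) := by
  rw [Groth.Agent.Lib.Helper7.NilLift.comul_eq_distrib, ← hd, uG_apply]
  exact ((AlgebraTensorModule.distribBaseChange R (S i) (L i) (L i)).apply_symm_apply _).symm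

include hS hj hjc in
lemma form_comul (x : A) :
    ∃ d, ∀ i, mm2 (S := S i) (j i) d = Coalgebra.comul (R := S i) (j i x) := by
  have hmem := fam_mem_range_of_form hS (E := A ⊗[R] A)
    (V := fun i => L i ⊗[R] L i) (uG j) (uG_form j hj)
    (fun i k => gPhi2 (Φ i k)) (fun i k e => uG_compat Φ j hjc i k e)
    (fun i => LinearMap.lTensor (S i) (Coalgebra.comul (R := R) (A := L i)) (j i x))
    (fun i k => form_hz Φ j hjc x i k)
  obtain ⟨d, hd⟩ := hmem
  exact ⟨d, fun i => form_comul_aux j x i d (hd i)⟩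

include hS hjc in
lemma form_counit (x : A) :
    ∃ r : R, ∀ i, algebraMap R (S i) r = Coalgebra.counit (R := S i) (j i x) := by
  set s : ∀ i, S i := fun i => Coalgebra.counit (R := S i) (j i x) with hs
  have h12 : ∀ i k, (in1 (R := R) (S i) (S k)) (s i) = (in2 (R := R) (S i) (S k)) (s k) := by
    intro i k
    simp only [hs]
    rw [← counit_rT, ← counit_rT, ← hjc i k x]
    exact (CoalgHomClass.counit_comp_apply (Φ i k) _).symm
  obtain ⟨r, hr⟩ := fam_exists_of_rT_eq hS (V := R) (fun i => s i ⊗ₜ[R] (1 : R)) (by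
    intro i k
    rw [rT_tmul, rT_tmul, h12])
  refine ⟨r, fun i => ?_⟩
  have := congrArg (TensorProduct.rid R (S i)) (hr i)
  rw [TensorProduct.rid_tmul, TensorProduct.rid_tmul, one_smul] at this
  rw [Algebra.algebraMap_eq_smul_one]
  exact this

end AbstractForm

section Descent2

variable {R : Type u} [CommRing R] {ι : Type u} [Fintype ι] [DecidableEq ι]
  {S : ι → Type u} [∀ i, CommRing (S i)] [∀ i, Algebra R (S i)] [∀ i, Module.Flat R (S i)]
  (hS : JointlyFaithful R S)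
  {L : ι → Type u} [∀ i, CommRing (L i)] [∀ i, HopfAlgebra R (L i)]
  (Φ : ∀ i j, (S i ⊗[R] S j) ⊗[R] L i →ₐc[S i ⊗[R] S j] (S i ⊗[R] S j) ⊗[R] L j)

omit [Fintype ι] [DecidableEq ι] [∀ i, Module.Flat R (S i)] in
lemma fdescAlg_antipode (x : fdescAlg Φ) :
    (fun i => HopfAlgebra.antipode (S i) (x.1 i)) ∈ fdescAlg Φ := by
  rw [mem_fdescAlg]
  intro i k
  rw [← antipode_rT, HopfIdealR.map_antipode, (mem_fdescAlg Φ).1 x.2 i k, antipode_rT]

include hS in
/-- **Faithfully flat descent of Hopf algebras along a finite family.** -/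
theorem exists_fam_descent (h1 : FC1 (flin Φ)) (h2 : FC2 (flin Φ)) :
    ∃ (A : Type u) (_ : CommRing A) (_ : HopfAlgebra R A) (j : ∀ i, A →ₐ[R] S i ⊗[R] L i),
      (∀ i, ∃ θ : S i ⊗[R] A ≃ₐc[S i] S i ⊗[R] L i,
        ∀ (s : S i) (x : A), θ (s ⊗ₜ[R] x) = s • j i x) ∧
      (∀ i k x, Φ i k (rT (in1 (R := R) (S i) (S k)) (L i) (j i x)) =
        rT (in2 (R := R) (S i) (S k)) (L k) (j k x)) ∧
      (∀ z : ∀ i, S i ⊗[R] L i,
        (∀ i k, Φ i k (rT (in1 (R := R) (S i) (S k)) (L i) (z i)) =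
          rT (in2 (R := R) (S i) (S k)) (L k) (z k)) → ∃ x, ∀ i, j i x = z i) := by
  have hj := fdescAlg_form Φ h1 h2
  have hjc : ∀ i k (x : fdescAlg Φ), Φ i k (rT (in1 (R := R) (S i) (S k)) (L i) (jF Φ i x)) =
      rT (in2 (R := R) (S i) (S k)) (L k) (jF Φ k x) := fun i k x => (mem_fdescAlg Φ).1 x.2 i k
  have hΔ := form_comul hS Φ (jF Φ) hj hjc
  have hε := form_counit hS Φ (jF Φ) hjc
  have hanti : ∀ x : fdescAlg Φ, ∃ y, ∀ i, jF Φ i y = HopfAlgebra.antipode (S i) (jF Φ i x) :=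
    fun x => ⟨⟨_, fdescAlg_antipode Φ x⟩, fun i => rfl⟩
  refine ⟨↥(fdescAlg Φ), inferInstance, hopfAlgebraF hS (jF Φ) hj hΔ hε hanti, jF Φ,
    fun i => exists_bialgEquivF hS (jF Φ) hj hΔ hε hanti i,
    fun i k x => (mem_fdescAlg Φ).1 x.2 i k,
    fun z hz => ⟨⟨z, (mem_fdescAlg Φ).2 hz⟩, fun i => rfl⟩⟩

end Descent2

end Groth.Agent.Lib.Helper7.FFDesc
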