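import Mathlib
import Groth.Agent.Lib.Helper7.FamDesc4
import Groth.Agent.Lib.Helper7.FFDesc9
import Groth.Agent.Lib.Helper7.NilLift3

/-!
# Lifting family descent data on diagonalisable groups along a nil ideal (helper7)
-/

set_option autoImplicit false

namespace Groth.Agent.Lib.Helper7.FFDesc

open TensorProduct Groth.Agent.Lib.Helper7.CancelBC Groth.Agent.Lib.Helper7.NilLift

universe u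

section Nil

variable {R : Type u} [CommRing R] {k : Type u} [CommRing k] [Algebra R k]
  (hk : Function.Surjective (algebraMap R k))
  (hnil : ∀ x ∈ RingHom.ker (algebraMap R k), IsNilpotent x)

lemma mem_jacobson_bot_of_isNilpotent {X : Type u} [CommRing X] {x : X} (hx : IsNilpotent x) :
    x ∈ Ideal.jacobson (⊥ : Ideal X) := by
  rw [Ideal.mem_jacobson_bot]
  intro y
  exact IsNilpotent.isUnit_add_one (Commute.isNilpotent_mul_right (Commute.all _ _) hx)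

include hk hnil in
lemma ker_pi0_nil (X : Type u) [CommRing X] [Algebra R X] :
    ∀ x ∈ RingHom.ker ((pi0 (R := R) k X : X →ₐ[R] k ⊗[R] X) : X →+* k ⊗[R] X), IsNilpotent x := by
  rw [ker_pi0 hk]
  exact isNilpotent_of_mem_map hnil (algebraMap R X)

include hk hnil in
lemma ker_pi0_le_nil (X : Type u) [CommRing X] [Algebra R X] :
    RingHom.ker ((pi0 (R := R) k X : X →ₐ[R] k ⊗[R] X) : X →+* k ⊗[R] X) ≤ Ideal.jacobson ⊥ :=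
  fun x hx => mem_jacobson_bot_of_isNilpotent (ker_pi0_nil hk hnil X x hx)

include hk hnil in
lemma idem_lift_pi0_nil (X : Type u) [CommRing X] [Algebra R X] (x : X)
    (hx : x * x - x ∈ RingHom.ker ((pi0 (R := R) k X : X →ₐ[R] k ⊗[R] X) : X →+* k ⊗[R] X)) :
    ∃ e : X, IsIdempotentElem e ∧
      e - x ∈ RingHom.ker ((pi0 (R := R) k X : X →ₐ[R] k ⊗[R] X) : X →+* k ⊗[R] X) := by
  set f : X →+* k ⊗[R] X := ((pi0 (R := R) k X : X →ₐ[R] k ⊗[R] X) : X →+* k ⊗[R] X) with hf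
  have hid : IsIdempotentElem (f x) := by
    rw [RingHom.mem_ker, map_sub, map_mul, sub_eq_zero] at hx
    exact hx
  obtain ⟨e, he, hfe⟩ := exists_isIdempotentElem_eq_of_ker_isNilpotent f
    (ker_pi0_nil hk hnil X) (f x) ⟨x, rfl⟩ hid
  exact ⟨e, he, by rw [RingHom.mem_ker, map_sub, hfe, sub_self]⟩

end Nil

section Rel

variable {R : Type u} [CommRing R] (X Y Z : Type u) [CommRing X] [Algebra R X] [CommRing Y]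
  [Algebra R Y] [CommRing Z] [Algebra R Z]

lemma pr12_comp_in1 : (pr12 (R := R) X Y Z).comp (in1 (R := R) X Y) =
    (pr13 (R := R) X Y Z).comp (in1 (R := R) X Z) := by
  apply AlgHom.ext
  intro s
  simp [pr12, pr13, in1, in2]

lemma pr12_comp_in2 : (pr12 (R := R) X Y Z).comp (in2 (R := R) X Y) =
    (pr23 (R := R) X Y Z).comp (in1 (R := R) Y Z) := by
  apply AlgHom.ext
  intro s
  simp [pr12, pr23, in1, in2]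

lemma pr13_comp_in2 : (pr13 (R := R) X Y Z).comp (in2 (R := R) X Z) =
    (pr23 (R := R) X Y Z).comp (in2 (R := R) Y Z) := by
  apply AlgHom.ext
  intro s
  simp [pr13, pr23, in1, in2]

end Rel

section Span

variable {R : Type u} [CommRing R] {S₀ K' : Type u} [CommRing S₀] [Algebra R S₀] [CommRing K']
  [Algebra R K'] {L L' : Type u} [AddCommGroup L] [Module R L] [AddCommGroup L'] [Module R L']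

lemma eq_of_eq_on_span' (σ : S₀ →ₐ[R] K') {G : Set (S₀ ⊗[R] L)}
    (hG : Submodule.span S₀ G = ⊤) (F F' : K' ⊗[R] L →ₗ[K'] K' ⊗[R] L')
    (h : ∀ g ∈ G, F (rT σ L g) = F' (rT σ L g)) : F = F' := by
  have hall : ∀ y : S₀ ⊗[R] L, F (rT σ L y) = F' (rT σ L y) := by
    intro y
    have hy : y ∈ Submodule.span S₀ G := by rw [hG]; exact Submodule.mem_top
    induction hy using Submodule.span_induction with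
    | mem x hx => exact h x hx
    | zero => simp
    | add x y _ _ hx hy => simp only [map_add, hx, hy]
    | smul a x _ hx => rw [rT_smul, map_smul, map_smul, hx]
  apply linearMap_ext_one_tmul
  intro l
  have := hall ((1 : S₀) ⊗ₜ[R] l)
  rwa [rT_tmul, map_one] at this

end Span

section C2Zero

variable {R : Type u} [CommRing R]
  {S₁ S₂ S₃ T12 T23 T13 U₀ : Type u} [CommRing S₁] [Algebra R S₁] [CommRing S₂] [Algebra R S₂]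
  [CommRing S₃] [Algebra R S₃] [CommRing T12] [Algebra R T12] [CommRing T23] [Algebra R T23]
  [CommRing T13] [Algebra R T13] [CommRing U₀] [Algebra R U₀]
  {L₁ L₂ L₃ : Type u} [AddCommGroup L₁] [Module R L₁] [AddCommGroup L₂] [Module R L₂]
  [AddCommGroup L₃] [Module R L₃]
  (a12 : S₁ →ₐ[R] T12) (b12 : S₂ →ₐ[R] T12) (a23 : S₂ →ₐ[R] T23) (b23 : S₃ →ₐ[R] T23)
  (a13 : S₁ →ₐ[R] T13) (b13 : S₃ →ₐ[R] T13)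
  (p12 : T12 →ₐ[R] U₀) (p23 : T23 →ₐ[R] U₀) (p13 : T13 →ₐ[R] U₀)
  (hr1 : p12.comp a12 = p13.comp a13) (hr2 : p12.comp b12 = p23.comp a23)
  (hr3 : p13.comp b13 = p23.comp b23)
  (Φ12 : T12 ⊗[R] L₁ →ₗ[T12] T12 ⊗[R] L₂) (Φ23 : T23 ⊗[R] L₂ →ₗ[T23] T23 ⊗[R] L₃)
  (Φ13 : T13 ⊗[R] L₁ →ₗ[T13] T13 ⊗[R] L₃)
  {Ξ : Type u} (g₁ : Ξ → S₁ ⊗[R] L₁) (g₂ : Ξ → S₂ ⊗[R] L₂) (g₃ : Ξ → S₃ ⊗[R] L₃)
  (hG : Submodule.span S₁ (Set.range g₁) = ⊤)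
  (hs12 : ∀ x, Φ12 (rT a12 L₁ (g₁ x)) = rT b12 L₂ (g₂ x))
  (hs23 : ∀ x, Φ23 (rT a23 L₂ (g₂ x)) = rT b23 L₃ (g₃ x))
  (hs13 : ∀ x, Φ13 (rT a13 L₁ (g₁ x)) = rT b13 L₃ (g₃ x))

include hr1 hr2 hr3 hG hs12 hs23 hs13 in
lemma c2_zero' : (bcLin p23 Φ23).comp (bcLin p12 Φ12) = bcLin p13 Φ13 := by
  apply eq_of_eq_on_span' (p12.comp a12) hG
  rintro _ ⟨x, rfl⟩
  have hL : bcLin p23 Φ23 (bcLin p12 Φ12 (rT (p12.comp a12) L₁ (g₁ x))) =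
      rT (p23.comp b23) L₃ (g₃ x) := by
    rw [rT_comp, bcLin_rT, hs12, ← rT_comp, hr2, rT_comp, bcLin_rT, hs23, ← rT_comp]
  have hR : bcLin p13 Φ13 (rT (p12.comp a12) L₁ (g₁ x)) = rT (p13.comp b13) L₃ (g₃ x) := by
    rw [hr1, rT_comp, bcLin_rT, hs13, ← rT_comp]
  rw [LinearMap.comp_apply, hL, hR, hr3]

end C2Zero

section Datum₂

variable {R : Type u} [CommRing R] {k : Type u} [CommRing k] [Algebra R k]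
  {S₁ S₂ : Type u} [CommRing S₁] [Algebra R S₁] [CommRing S₂] [Algebra R S₂]
  {L₁ L₂ : Type u} [CommRing L₁] [HopfAlgebra R L₁] [CommRing L₂] [HopfAlgebra R L₂]
  {A₀ : Type u} [CommRing A₀] [HopfAlgebra k A₀]
  (e₁ : (k ⊗[R] S₁) ⊗[k] A₀ ≃ₐc[k ⊗[R] S₁] (k ⊗[R] S₁) ⊗[R] L₁)
  (e₂ : (k ⊗[R] S₂) ⊗[k] A₀ ≃ₐc[k ⊗[R] S₂] (k ⊗[R] S₂) ⊗[R] L₂)

/-- the canonical transition datum of `A₀` between two trivialisations. -/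
theorem exists_datum₂ :
    ∃ (Φ₀ : (k ⊗[R] (S₁ ⊗[R] S₂)) ⊗[R] L₁ →ₐc[k ⊗[R] (S₁ ⊗[R] S₂)]
        (k ⊗[R] (S₁ ⊗[R] S₂)) ⊗[R] L₂)
      (E₂ : (k ⊗[R] (S₁ ⊗[R] S₂)) ⊗[k] A₀ ≃ₐc[k ⊗[R] (S₁ ⊗[R] S₂)]
        (k ⊗[R] (S₁ ⊗[R] S₂)) ⊗[R] L₂),
      (∀ z, E₂ (rT (bc0k k (in2 (R := R) S₁ S₂)) A₀ z) =
        rT (bc0 k (in2 (R := R) S₁ S₂)) L₂ (e₂ z)) ∧
      (∀ z, Φ₀ (rT (bc0 k (in1 (R := R) S₁ S₂)) L₁ (e₁ z)) =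
        E₂ (rT (bc0k k (in1 (R := R) S₁ S₂)) A₀ z)) := by
  obtain ⟨E₁, hE₁⟩ := exists_bcEquiv₂ (bc0k k (in1 (R := R) S₁ S₂))
    (bc0 k (in1 (R := R) S₁ S₂)) (fun _ => rfl) e₁
  obtain ⟨E₂, hE₂⟩ := exists_bcEquiv₂ (bc0k k (in2 (R := R) S₁ S₂))
    (bc0 k (in2 (R := R) S₁ S₂)) (fun _ => rfl) e₂
  refine ⟨(E₂ : (k ⊗[R] (S₁ ⊗[R] S₂)) ⊗[k] A₀ →ₐc[k ⊗[R] (S₁ ⊗[R] S₂)]
      (k ⊗[R] (S₁ ⊗[R] S₂)) ⊗[R] L₂).comp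
    (E₁.symm : (k ⊗[R] (S₁ ⊗[R] S₂)) ⊗[R] L₁ →ₐc[k ⊗[R] (S₁ ⊗[R] S₂)]
      (k ⊗[R] (S₁ ⊗[R] S₂)) ⊗[k] A₀), E₂, hE₂, ?_⟩
  intro z
  rw [← hE₁]
  change E₂ (E₁.symm (E₁ _)) = _
  rw [BialgEquiv.symm_apply_apply]

end Datum₂

section C1

variable {R : Type u} [CommRing R] {k : Type u} [CommRing k] [Algebra R k]
  (hk : Function.Surjective (algebraMap R k))
  (hnil : ∀ x ∈ RingHom.ker (algebraMap R k), IsNilpotent x)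
  {S : Type u} [CommRing S] [Algebra R S] {L : Type u} [CommRing L] [HopfAlgebra R L]
  {M : Type u} [CommGroup M] (eS : S ⊗[R] L ≃ₐc[S] MonoidAlgebra S M)
  (Φ : (S ⊗[R] S) ⊗[R] L →ₐc[S ⊗[R] S] (S ⊗[R] S) ⊗[R] L)
  (Φ₀ : (k ⊗[R] (S ⊗[R] S)) ⊗[R] L →ₐc[k ⊗[R] (S ⊗[R] S)] (k ⊗[R] (S ⊗[R] S)) ⊗[R] L)
  (hΦ : ∀ y, Φ₀ (rT (pi0 k (S ⊗[R] S)) L y) = rT (pi0 k (S ⊗[R] S)) L (Φ y))
  (G : Set ((k ⊗[R] S) ⊗[R] L)) (hG : Submodule.span (k ⊗[R] S) G = ⊤)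
  (hstar : ∀ g ∈ G, Φ₀ (rT (bc0 k (i1 (R := R) (S := S))) L g) =
    rT (bc0 k (i2 (R := R) (S := S))) L g)

include hk hnil eS hΦ hG hstar in
lemma c1_of_lift : C1 (lin Φ) := by
  have hΦ1 : ∀ l : L, rT (pi0 k (S ⊗[R] S)) L (Φ ((1 : S ⊗[R] S) ⊗ₜ[R] l)) =
      Φ₀ ((1 : k ⊗[R] (S ⊗[R] S)) ⊗ₜ[R] l) := by
    intro l
    rw [← hΦ, rT_tmul, map_one]
  obtain ⟨Ψ, hΨ⟩ := PIDesc.exists_bcHom (Algebra.TensorProduct.lmul' R (S := S)) Φ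
  have hΨid : Ψ = BialgHom.id S (S ⊗[R] L) := by
    apply rig (pi0 k S) (pi0_surjective hk) (ker_pi0_le_nil hk hnil S) eS eS
    intro l
    rw [hΨ, algMap_eq_rT, ← rT_comp, pi0_comp, rT_comp, hΦ1,
      c1_zero (bc0 k (i1 (R := R) (S := S))) (bc0 k (i2 (R := R) (S := S)))
        (bc0 k (Algebra.TensorProduct.lmul' R (S := S)))
        (by rw [bc0_comp, lmul'_comp_i1, bc0_id]) (by rw [bc0_comp, lmul'_comp_i2, bc0_id])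
        Φ₀ G hG hstar]
    change _ = rT (pi0 k S) L ((1 : S) ⊗ₜ[R] l)
    rw [rT_tmul, map_one]
  intro l
  have := hΨ l
  rw [algMap_eq_rT, hΨid] at this
  exact this.symm

end C1

section C2

variable {R : Type u} [CommRing R] {k : Type u} [CommRing k] [Algebra R k]
  (hk : Function.Surjective (algebraMap R k))
  (hnil : ∀ x ∈ RingHom.ker (algebraMap R k), IsNilpotent x)
  {S₁ S₂ S₃ : Type u} [CommRing S₁] [Algebra R S₁] [CommRing S₂] [Algebra R S₂]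
  [CommRing S₃] [Algebra R S₃]
  {L₁ L₂ L₃ : Type u} [CommRing L₁] [HopfAlgebra R L₁] [CommRing L₂] [HopfAlgebra R L₂]
  [CommRing L₃] [HopfAlgebra R L₃]
  {M₁ M₃ : Type u} [CommGroup M₁] [CommGroup M₃]
  (eU₁ : (S₁ ⊗[R] (S₂ ⊗[R] S₃)) ⊗[R] L₁ ≃ₐc[S₁ ⊗[R] (S₂ ⊗[R] S₃)]
    MonoidAlgebra (S₁ ⊗[R] (S₂ ⊗[R] S₃)) M₁)
  (eU₃ : (S₁ ⊗[R] (S₂ ⊗[R] S₃)) ⊗[R] L₃ ≃ₐc[S₁ ⊗[R] (S₂ ⊗[R] S₃)]
    MonoidAlgebra (S₁ ⊗[R] (S₂ ⊗[R] S₃)) M₃)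
  (Φ12 : (S₁ ⊗[R] S₂) ⊗[R] L₁ →ₐc[S₁ ⊗[R] S₂] (S₁ ⊗[R] S₂) ⊗[R] L₂)
  (Φ23 : (S₂ ⊗[R] S₃) ⊗[R] L₂ →ₐc[S₂ ⊗[R] S₃] (S₂ ⊗[R] S₃) ⊗[R] L₃)
  (Φ13 : (S₁ ⊗[R] S₃) ⊗[R] L₁ →ₐc[S₁ ⊗[R] S₃] (S₁ ⊗[R] S₃) ⊗[R] L₃)
  (Ψ12 : (k ⊗[R] (S₁ ⊗[R] S₂)) ⊗[R] L₁ →ₐc[k ⊗[R] (S₁ ⊗[R] S₂)] (k ⊗[R] (S₁ ⊗[R] S₂)) ⊗[R] L₂)
  (Ψ23 : (k ⊗[R] (S₂ ⊗[R] S₃)) ⊗[R] L₂ →ₐc[k ⊗[R] (S₂ ⊗[R] S₃)] (k ⊗[R] (S₂ ⊗[R] S₃)) ⊗[R] L₃)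
  (Ψ13 : (k ⊗[R] (S₁ ⊗[R] S₃)) ⊗[R] L₁ →ₐc[k ⊗[R] (S₁ ⊗[R] S₃)] (k ⊗[R] (S₁ ⊗[R] S₃)) ⊗[R] L₃)
  (h12 : ∀ y, Ψ12 (rT (pi0 k (S₁ ⊗[R] S₂)) L₁ y) = rT (pi0 k (S₁ ⊗[R] S₂)) L₂ (Φ12 y))
  (h23 : ∀ y, Ψ23 (rT (pi0 k (S₂ ⊗[R] S₃)) L₂ y) = rT (pi0 k (S₂ ⊗[R] S₃)) L₃ (Φ23 y))
  (h13 : ∀ y, Ψ13 (rT (pi0 k (S₁ ⊗[R] S₃)) L₁ y) = rT (pi0 k (S₁ ⊗[R] S₃)) L₃ (Φ13 y))
  {Ξ : Type u} (g₁ : Ξ → (k ⊗[R] S₁) ⊗[R] L₁) (g₂ : Ξ → (k ⊗[R] S₂) ⊗[R] L₂)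
  (g₃ : Ξ → (k ⊗[R] S₃) ⊗[R] L₃)
  (hG : Submodule.span (k ⊗[R] S₁) (Set.range g₁) = ⊤)
  (hs12 : ∀ x, Ψ12 (rT (bc0 k (in1 (R := R) S₁ S₂)) L₁ (g₁ x)) =
    rT (bc0 k (in2 (R := R) S₁ S₂)) L₂ (g₂ x))
  (hs23 : ∀ x, Ψ23 (rT (bc0 k (in1 (R := R) S₂ S₃)) L₂ (g₂ x)) =
    rT (bc0 k (in2 (R := R) S₂ S₃)) L₃ (g₃ x))
  (hs13 : ∀ x, Ψ13 (rT (bc0 k (in1 (R := R) S₁ S₃)) L₁ (g₁ x)) =
    rT (bc0 k (in2 (R := R) S₁ S₃)) L₃ (g₃ x))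

include hk hnil eU₁ eU₃ h12 h23 h13 hG hs12 hs23 hs13 in
lemma c2_of_lift (l : L₁) :
    bcLin (pr23 (R := R) S₁ S₂ S₃) (glin Φ23)
      (rT (pr12 (R := R) S₁ S₂ S₃) L₂ (Φ12 ((1 : S₁ ⊗[R] S₂) ⊗ₜ[R] l))) =
    rT (pr13 (R := R) S₁ S₂ S₃) L₃ (Φ13 ((1 : S₁ ⊗[R] S₃) ⊗ₜ[R] l)) := by
  have hΦ12 : ∀ l : L₁, rT (pi0 k (S₁ ⊗[R] S₂)) L₂ (Φ12 ((1 : S₁ ⊗[R] S₂) ⊗ₜ[R] l)) =
      Ψ12 ((1 : k ⊗[R] (S₁ ⊗[R] S₂)) ⊗ₜ[R] l) := by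
    intro l
    rw [← h12, rT_tmul, map_one]
  have hΦ23 : ∀ l : L₂, rT (pi0 k (S₂ ⊗[R] S₃)) L₃ (Φ23 ((1 : S₂ ⊗[R] S₃) ⊗ₜ[R] l)) =
      Ψ23 ((1 : k ⊗[R] (S₂ ⊗[R] S₃)) ⊗ₜ[R] l) := by
    intro l
    rw [← h23, rT_tmul, map_one]
  have hΦ13 : ∀ l : L₁, rT (pi0 k (S₁ ⊗[R] S₃)) L₃ (Φ13 ((1 : S₁ ⊗[R] S₃) ⊗ₜ[R] l)) =
      Ψ13 ((1 : k ⊗[R] (S₁ ⊗[R] S₃)) ⊗ₜ[R] l) := by
    intro l
    rw [← h13, rT_tmul, map_one]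
  obtain ⟨Θ12, hΘ12⟩ := PIDesc.exists_bcHom (pr12 (R := R) S₁ S₂ S₃) Φ12
  obtain ⟨Θ13, hΘ13⟩ := PIDesc.exists_bcHom (pr13 (R := R) S₁ S₂ S₃) Φ13
  obtain ⟨Θ23, hΘ23⟩ := PIDesc.exists_bcHom (pr23 (R := R) S₁ S₂ S₃) Φ23
  set πU := pi0 (R := R) k (S₁ ⊗[R] (S₂ ⊗[R] S₃)) with hπU
  have hc12 : Compat πU (glin Θ12) (bcLin (bc0 k (pr12 (R := R) S₁ S₂ S₃)) (glin Ψ12)) := by
    apply Compat.of_one_tmul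
    intro l
    change _ = rT πU L₂ (Θ12 ((1 : S₁ ⊗[R] (S₂ ⊗[R] S₃)) ⊗ₜ[R] l))
    rw [bcLin_one_tmul, hΘ12, algMap_eq_rT, ← rT_comp, hπU, pi0_comp, rT_comp, hΦ12]
    rfl
  have hc13 : Compat πU (glin Θ13) (bcLin (bc0 k (pr13 (R := R) S₁ S₂ S₃)) (glin Ψ13)) := by
    apply Compat.of_one_tmul
    intro l
    change _ = rT πU L₃ (Θ13 ((1 : S₁ ⊗[R] (S₂ ⊗[R] S₃)) ⊗ₜ[R] l))
    rw [bcLin_one_tmul, hΘ13, algMap_eq_rT, ← rT_comp, hπU, pi0_comp, rT_comp, hΦ13]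
    rfl
  have hc23 : Compat πU (glin Θ23) (bcLin (bc0 k (pr23 (R := R) S₁ S₂ S₃)) (glin Ψ23)) := by
    apply Compat.of_one_tmul
    intro l
    change _ = rT πU L₃ (Θ23 ((1 : S₁ ⊗[R] (S₂ ⊗[R] S₃)) ⊗ₜ[R] l))
    rw [bcLin_one_tmul, hΘ23, algMap_eq_rT, ← rT_comp, hπU, pi0_comp, rT_comp, hΦ23]
    rfl
  have hz := c2_zero' (bc0 k (in1 (R := R) S₁ S₂)) (bc0 k (in2 (R := R) S₁ S₂))
    (bc0 k (in1 (R := R) S₂ S₃)) (bc0 k (in2 (R := R) S₂ S₃))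
    (bc0 k (in1 (R := R) S₁ S₃)) (bc0 k (in2 (R := R) S₁ S₃))
    (bc0 k (pr12 (R := R) S₁ S₂ S₃)) (bc0 k (pr23 (R := R) S₁ S₂ S₃))
    (bc0 k (pr13 (R := R) S₁ S₂ S₃))
    (by rw [bc0_comp, bc0_comp, pr12_comp_in1]) (by rw [bc0_comp, bc0_comp, pr12_comp_in2])
    (by rw [bc0_comp, bc0_comp, pr13_comp_in2])
    (glin Ψ12) (glin Ψ23) (glin Ψ13) g₁ g₂ g₃ hG hs12 hs23 hs13
  have hcomp : Θ23.comp Θ12 = Θ13 := by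
    apply rig πU (pi0_surjective hk) (ker_pi0_le_nil hk hnil _) eU₃ eU₁
    intro l
    have e1 := (hc12.comp hc23) ((1 : S₁ ⊗[R] (S₂ ⊗[R] S₃)) ⊗ₜ[R] l)
    have e2 := hc13 ((1 : S₁ ⊗[R] (S₂ ⊗[R] S₃)) ⊗ₜ[R] l)
    rw [hz] at e1
    exact (e1.symm.trans e2)
  have h23' : bcLin (pr23 (R := R) S₁ S₂ S₃) (glin Φ23) = glin Θ23 := by
    apply linearMap_ext_one_tmul
    intro l
    rw [bcLin_one_tmul]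
    change _ = Θ23 _
    rw [hΘ23, algMap_eq_rT]
    rfl
  rw [h23']
  have e12 : rT (pr12 (R := R) S₁ S₂ S₃) L₂ (Φ12 ((1 : S₁ ⊗[R] S₂) ⊗ₜ[R] l)) =
      Θ12 ((1 : S₁ ⊗[R] (S₂ ⊗[R] S₃)) ⊗ₜ[R] l) := by rw [hΘ12, algMap_eq_rT]
  have e13 : rT (pr13 (R := R) S₁ S₂ S₃) L₃ (Φ13 ((1 : S₁ ⊗[R] S₃) ⊗ₜ[R] l)) =
      Θ13 ((1 : S₁ ⊗[R] (S₂ ⊗[R] S₃)) ⊗ₜ[R] l) := by rw [hΘ13, algMap_eq_rT]
  rw [e12, e13, ← hcomp]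
  rfl

end C2

end Groth.Agent.Lib.Helper7.FFDesc
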