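import Mathlib
import Groth.Agent.Lib.Helper7.HensGL4
import Groth.Agent.Lib.Helper7.FamDesc5
import Groth.Agent.Lib.Helper7.FamDesc6

/-!
# Homomorphisms between groups of multiplicative type along a nilpotent thickening:
family (Zariski/flat local) form (helper7)
-/

set_option autoImplicit false

namespace Groth.Agent.Lib.Helper7.Thick

open TensorProduct SGA3b Groth.Agent.Lib.Helper7.NilLift Groth.Agent.Lib.Helper7.CancelBC
  Groth.Agent.Lib.Helper7.PIDesc Groth.Agent.Lib.Helper7.HensGL Groth.Agent.Lib.Helper7.FFDesc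

universe u

section Fam

attribute [local instance] Algebra.TensorProduct.rightAlgebra

variable {R : Type u} [CommRing R] {k : Type u} [CommRing k] [Algebra R k]
  (hk : Function.Surjective (algebraMap R k))
  (hnil : ∀ x ∈ RingHom.ker (algebraMap R k), IsNilpotent x)

include hk hnil in
lemma ker_right_nil (X : Type u) [CommRing X] [Algebra R X] :
    ∀ x ∈ RingHom.ker (algebraMap X (k ⊗[R] X)), IsNilpotent x := by
  rw [ker_algebraMap_right hk]
  exact isNilpotent_of_mem_map hnil (algebraMap R X)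

include hk hnil in
lemma ker_right_le_jac (X : Type u) [CommRing X] [Algebra R X] :
    RingHom.ker (algebraMap X (k ⊗[R] X)) ≤ Ideal.jacobson ⊥ :=
  fun x hx => mem_jacobson_bot_of_isNilpotent (ker_right_nil hk hnil X x hx)

include hk hnil in
lemma idem_lift_right (X : Type u) [CommRing X] [Algebra R X] (x : X)
    (hx : x * x - x ∈ RingHom.ker (algebraMap X (k ⊗[R] X))) :
    ∃ e : X, IsIdempotentElem e ∧ e - x ∈ RingHom.ker (algebraMap X (k ⊗[R] X)) := by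
  set f : X →+* k ⊗[R] X := algebraMap X (k ⊗[R] X) with hf
  have hid : IsIdempotentElem (f x) := by
    rw [RingHom.mem_ker, map_sub, map_mul, sub_eq_zero] at hx
    exact hx
  obtain ⟨e, he, hfe⟩ := exists_isIdempotentElem_eq_of_ker_isNilpotent f
    (ker_right_nil hk hnil X) (f x) ⟨x, rfl⟩ hid
  exact ⟨e, he, by rw [RingHom.mem_ker, map_sub, hfe, sub_self]⟩

variable {ι : Type u} {S : ι → Type u} [∀ i, CommRing (S i)] [∀ i, Algebra R (S i)]
  [∀ i, Module.Flat R (S i)] (hS : JointlyFaithful R S)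
  {B C : Type u} [CommRing B] [HopfAlgebra R B] [CommRing C] [HopfAlgebra R C]
  {M N : ι → Type u} [∀ i, CommGroup (M i)] [∀ i, CommGroup (N i)]
  (eB : ∀ i, S i ⊗[R] B ≃ₐc[S i] MonoidAlgebra (S i) (M i))
  (eC : ∀ i, S i ⊗[R] C ≃ₐc[S i] MonoidAlgebra (S i) (N i))

include hS in
/-- family version of `reflectsOneTmul`. -/
lemma fam_reflects (b b' : B)
    (h : ∀ i, (1 : k ⊗[R] S i) ⊗ₜ[R] b = (1 : k ⊗[R] S i) ⊗ₜ[R] b') :
    (1 : k) ⊗ₜ[R] b = (1 : k) ⊗ₜ[R] b' := by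
  apply fam_one_tmul_injective hS
  intro i
  set θ : (k ⊗[R] S i) ⊗[R] B ≃ₗ[R] S i ⊗[R] (k ⊗[R] B) :=
    (TensorProduct.congr (TensorProduct.comm R k (S i)) (LinearEquiv.refl R B)).trans
      (TensorProduct.assoc R (S i) k B) with hθ
  have h1 : ∀ b : B, θ ((1 : k ⊗[R] S i) ⊗ₜ[R] b) = (1 : S i) ⊗ₜ[R] ((1 : k) ⊗ₜ[R] b) := by
    intro b
    rfl
  rw [← h1, ← h1]
  exact congrArg θ (h i)

include hk hnil hS eB eC in
/-- reduction is injective on homomorphisms. -/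
theorem fam_injective (φ ψ : C →ₐc[R] B)
    (h : ∀ c, (1 : k) ⊗ₜ[R] φ c = (1 : k) ⊗ₜ[R] ψ c) : φ = ψ := by
  ext c
  apply fam_one_tmul_injective hS
  intro i
  have : IsScalarTower R (S i) (k ⊗[R] S i) := Algebra.TensorProduct.right_isScalarTower
  have hsurj := algebraMap_right_surjective (S := S i) hk
  have hK := ker_right_le_jac hk hnil (S i)
  have h' : ∀ c, (1 : k ⊗[R] S i) ⊗ₜ[R] φ c = (1 : k ⊗[R] S i) ⊗ₜ[R] ψ c := by
    intro c
    have := congrArg (Algebra.TensorProduct.map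
      (Algebra.TensorProduct.includeLeft : k →ₐ[R] k ⊗[R] S i) (AlgHom.id R B)) (h c)
    rwa [Algebra.TensorProduct.map_tmul, Algebra.TensorProduct.map_tmul, map_one,
      AlgHom.id_apply, AlgHom.id_apply] at this
  set Φ : S i ⊗[R] C →ₐc[S i] S i ⊗[R] B :=
    Bialgebra.TensorProduct.map (BialgHom.id (S i) (S i)) φ with hΦ
  set Ψ : S i ⊗[R] C →ₐc[S i] S i ⊗[R] B :=
    Bialgebra.TensorProduct.map (BialgHom.id (S i) (S i)) ψ with hΨ
  have hΦt : ∀ (s : S i) (c : C), Φ (s ⊗ₜ[R] c) = s ⊗ₜ[R] φ c := fun _ _ => rfl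
  have hΨt : ∀ (s : S i) (c : C), Ψ (s ⊗ₜ[R] c) = s ⊗ₜ[R] ψ c := fun _ _ => rfl
  have key : Φ = Ψ := by
    apply bialgHom_eq_of_one_tmul_eq hsurj hK (eB i) (eC i)
    intro x
    induction x using TensorProduct.induction_on with
    | zero => simp
    | add x y hx hy =>
      rw [map_add, map_add, TensorProduct.tmul_add, TensorProduct.tmul_add, hx, hy]
    | tmul s c =>
      rw [hΦt, hΨt]
      apply EquivLike.injective (cancelBC R (S i) (k ⊗[R] S i) B)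
      rw [cancelBC_tmul, cancelBC_tmul]
      have e1 : ∀ b : B, ((s • (1 : k ⊗[R] S i)) ⊗ₜ[R] b : (k ⊗[R] S i) ⊗[R] B) =
          (s • (1 : k ⊗[R] S i)) • ((1 : k ⊗[R] S i) ⊗ₜ[R] b) := by
        intro b
        rw [TensorProduct.smul_tmul', smul_eq_mul, mul_one]
      rw [e1, e1, h']
  change (1 : S i) ⊗ₜ[R] φ c = (1 : S i) ⊗ₜ[R] ψ c
  rw [← hΦt, ← hΨt, key]

include hk hnil hS eB eC in
/-- reduction is surjective on homomorphisms. -/
theorem fam_surjective [Fintype ι] (φ₀ : k ⊗[R] C →ₐc[k] k ⊗[R] B) :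
    ∃ φ : C →ₐc[R] B, ∀ c, φ₀ ((1 : k) ⊗ₜ[R] c) = (1 : k) ⊗ₜ[R] φ c := by
  classical
  have hsurj0 : ∀ y : k ⊗[R] B, ∃ b : B, y = (1 : k) ⊗ₜ[R] b := by
    intro y
    induction y using TensorProduct.induction_on with
    | zero => exact ⟨0, (TensorProduct.tmul_zero _ _).symm⟩
    | add x y hx hy =>
      obtain ⟨a, rfl⟩ := hx
      obtain ⟨a', rfl⟩ := hy
      exact ⟨a + a', (TensorProduct.tmul_add _ _ _).symm⟩
    | tmul r a =>
      obtain ⟨r, rfl⟩ := hk r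
      refine ⟨r • a, ?_⟩
      rw [TensorProduct.tmul_smul, TensorProduct.smul_tmul']
      congr 1
      rw [Algebra.smul_def, mul_one]
  choose bc hbc using fun c : C => hsurj0 (φ₀ ((1 : k) ⊗ₜ[R] c))
  have hST : ∀ i, IsScalarTower R (S i) (k ⊗[R] S i) :=
    fun i => Algebra.TensorProduct.right_isScalarTower
  have hsurj := fun i => algebraMap_right_surjective (S := S i) hk
  have hK := fun i => ker_right_le_jac hk hnil (S i)
  -- the local lifts
  have hloc : ∀ i, ∃ Φ' : S i ⊗[R] C →ₐc[S i] S i ⊗[R] B,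
      (∀ c : C, Φ' ((1 : S i) ⊗ₜ[R] c) - (1 : S i) ⊗ₜ[R] bc c ∈
        RingHom.ker (algebraMap (S i) (k ⊗[R] S i)) • (⊤ : Submodule (S i) (S i ⊗[R] B))) := by
    intro i
    have := hST i
    obtain ⟨Ψ₀, hΨ₀⟩ := exists_bcHom
      (Algebra.TensorProduct.includeLeft : k →ₐ[R] k ⊗[R] S i) φ₀
    set Φb : (k ⊗[R] S i) ⊗[S i] (S i ⊗[R] C) →ₐc[k ⊗[R] S i]
        (k ⊗[R] S i) ⊗[S i] (S i ⊗[R] B) :=
      (((cancelBC R (S i) (k ⊗[R] S i) B).symm : _ →ₐc[k ⊗[R] S i] _).comp Ψ₀).comp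
        (cancelBC R (S i) (k ⊗[R] S i) C : _ →ₐc[k ⊗[R] S i] _) with hΦbdef
    have hΦb : ∀ c : C, Φb ((1 : k ⊗[R] S i) ⊗ₜ[S i] ((1 : S i) ⊗ₜ[R] c)) =
        (1 : k ⊗[R] S i) ⊗ₜ[S i] ((1 : S i) ⊗ₜ[R] bc c) := by
      intro c
      change (cancelBC R (S i) (k ⊗[R] S i) B).symm
        (Ψ₀ (cancelBC R (S i) (k ⊗[R] S i) C
          ((1 : k ⊗[R] S i) ⊗ₜ[S i] ((1 : S i) ⊗ₜ[R] c)))) = _
      rw [cancelBC_tmul, one_smul, hΨ₀, hbc, Algebra.TensorProduct.map_tmul, map_one,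
        AlgHom.id_apply, cancelBC_symm_tmul]
    obtain ⟨Φ', hΦ'⟩ := exists_bialgHom_lift (hsurj i) (hK i) (eB i) (eC i)
      (idem_lift_right hk hnil (S i)) Φb
    refine ⟨Φ', fun c => ?_⟩
    apply mem_smul_top_of_one_tmul_eq_zero' (hsurj i)
    rw [TensorProduct.tmul_sub, ← hΦ', hΦb, sub_self]
  choose Φ' hmem using hloc
  -- compatibility on overlaps
  have hcompat : ∀ (i j : ι) (c : C),
      rT (in1 (R := R) (S i) (S j)) B (Φ' i ((1 : S i) ⊗ₜ[R] c)) =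
        rT (in2 (R := R) (S i) (S j)) B (Φ' j ((1 : S j) ⊗ₜ[R] c)) := by
    intro i j c
    obtain ⟨Ψ₁, hΨ₁⟩ := exists_bcHom (in1 (R := R) (S i) (S j)) (Φ' i)
    obtain ⟨Ψ₂, hΨ₂⟩ := exists_bcHom (in2 (R := R) (S i) (S j)) (Φ' j)
    obtain ⟨M', _, ⟨eBT⟩⟩ := isDiag_of_algHom (B := B)
      (in1 (R := R) (S i) (S j)) ⟨M i, inferInstance, ⟨eB i⟩⟩
    obtain ⟨N', _, ⟨eCT⟩⟩ := isDiag_of_algHom (B := C)
      (in1 (R := R) (S i) (S j)) ⟨N i, inferInstance, ⟨eC i⟩⟩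
    set KT : Ideal (S i ⊗[R] S j) :=
      (RingHom.ker (algebraMap R k)).map (algebraMap R (S i ⊗[R] S j)) with hKTdef
    have hKT : KT ≤ Ideal.jacobson ⊥ := fun x hx =>
      mem_jacobson_bot_of_isNilpotent (isNilpotent_of_mem_map hnil _ x hx)
    have h1 : (RingHom.ker (algebraMap (S i) (k ⊗[R] S i))).map
        (in1 (R := R) (S i) (S j)) ≤ KT := by
      rw [ker_algebraMap_right hk, Ideal.map_le_iff_le_comap, Ideal.map_le_iff_le_comap]
      intro a ha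
      rw [Ideal.mem_comap, Ideal.mem_comap, AlgHom.commutes]
      exact Ideal.mem_map_of_mem _ ha
    have h2 : (RingHom.ker (algebraMap (S j) (k ⊗[R] S j))).map
        (in2 (R := R) (S i) (S j)) ≤ KT := by
      rw [ker_algebraMap_right hk, Ideal.map_le_iff_le_comap, Ideal.map_le_iff_le_comap]
      intro a ha
      rw [Ideal.mem_comap, Ideal.mem_comap, AlgHom.commutes]
      exact Ideal.mem_map_of_mem _ ha
    have hΨeq : Ψ₁ = Ψ₂ := by
      apply bialgHom_eq_of_sub_mem hKT eBT eCT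
      intro w
      induction w using TensorProduct.induction_on with
      | zero => simp
      | add x y hx hy => rw [map_add, map_add, add_sub_add_comm]; exact add_mem hx hy
      | tmul t c =>
        have : t ⊗ₜ[R] c = t • ((1 : S i ⊗[R] S j) ⊗ₜ[R] c) := by
          rw [TensorProduct.smul_tmul', smul_eq_mul, mul_one]
        rw [this, map_smul, map_smul, ← smul_sub, hΨ₁, hΨ₂]
        apply Submodule.smul_mem
        have e1 : Φ' i ((1 : S i) ⊗ₜ[R] c) = (1 : S i) ⊗ₜ[R] bc c +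
            (Φ' i ((1 : S i) ⊗ₜ[R] c) - (1 : S i) ⊗ₜ[R] bc c) := by abel
        have e2 : Φ' j ((1 : S j) ⊗ₜ[R] c) = (1 : S j) ⊗ₜ[R] bc c +
            (Φ' j ((1 : S j) ⊗ₜ[R] c) - (1 : S j) ⊗ₜ[R] bc c) := by abel
        rw [e1, e2, map_add, map_add, Algebra.TensorProduct.map_tmul,
          Algebra.TensorProduct.map_tmul, map_one, map_one, add_sub_add_left_eq_sub]
        exact sub_mem (map_mem_smul_top _ _ KT h1 (hmem i c))
          (map_mem_smul_top _ _ KT h2 (hmem j c))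
    have := congrArg (fun F => F ((1 : S i ⊗[R] S j) ⊗ₜ[R] c)) hΨeq
    simp only [hΨ₁, hΨ₂] at this
    exact this
  have hex : ∀ c : C, ∃ b : B, ∀ i, (1 : S i) ⊗ₜ[R] b = Φ' i ((1 : S i) ⊗ₜ[R] c) := by
    intro c
    exact fam_exists_of_rT_eq hS (fun i => Φ' i ((1 : S i) ⊗ₜ[R] c)) (fun i j => hcompat i j c)
  obtain ⟨φ, hφ⟩ := exists_fam_hom_descent hS Φ' hex
  refine ⟨φ, ?_⟩
  intro c
  rw [hbc]
  apply fam_reflects hS
  intro i
  have := hST i
  have h3 := hmem i c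
  rw [hφ, ← TensorProduct.tmul_sub] at h3
  have h4 := one_tmul_eq_zero_of_mem_smul_top' (Q := k ⊗[R] S i) h3
  have h5 := congrArg (cancelBC R (S i) (k ⊗[R] S i) B) h4
  rw [cancelBC_tmul, one_smul, map_zero, TensorProduct.tmul_sub, sub_eq_zero] at h5
  exact h5.symm

end Fam

end Groth.Agent.Lib.Helper7.Thick
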