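import Mathlib
import Groth.Agent.Lib.Helper7.Thick4
import Groth.Agent.Lib.Helper7.Thick3
import Groth.Agent.Lib.Helper7.HH7

/-!
# Homomorphisms between groups of multiplicative type along a nilpotent thickening:
chart form and relative form (helper7)
-/

set_option autoImplicit false

namespace Groth.Agent.Lib.Helper7.Thick

open TensorProduct SGA3b Groth.Agent.Lib.Helper7.NilLift Groth.Agent.Lib.Helper7.CancelBC
  Groth.Agent.Lib.Helper7.HensGL Groth.Agent.Lib.Helper7.FFDesc Groth.Agent.Lib.Helper7.HH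

universe u

section Refine

variable {R : Type u} [CommRing R] {ι κ : Type u} (S : ι → Type u) (T : κ → Type u)
  [∀ i, CommRing (S i)] [∀ i, Algebra R (S i)] [∀ j, CommRing (T j)] [∀ j, Algebra R (T j)]

lemma jointlyFaithful_prod (hS : JointlyFaithful R S) (hT : JointlyFaithful R T) :
    JointlyFaithful R (fun p : ι × κ => S p.1 ⊗[R] T p.2) := by
  intro N _ _ hN
  apply hT N
  intro j
  apply hS (T j ⊗[R] N)
  intro i
  have := hN (i, j)
  exact (TensorProduct.assoc R (S i) (T j) N).symm.injective.subsingleton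

end Refine

section Abs

variable {R : Type u} [CommRing R] {k : Type u} [CommRing k] [Algebra R k]
  (hk : Function.Surjective (algebraMap R k))
  (hnil : ∀ x ∈ RingHom.ker (algebraMap R k), IsNilpotent x)
  {B C : Type u} [CommRing B] [HopfAlgebra R B] [CommRing C] [HopfAlgebra R C]
  {ι κ : Type u} [Fintype ι] [Fintype κ] (cC : ι → DChart R C) (cB : κ → DChart R B)
  (hC : JointlyFaithful R (fun i => (cC i).T)) (hB : JointlyFaithful R (fun j => (cB j).T))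

include hk hnil hC hB in
theorem thick_abs :
    (∀ φ ψ : C →ₐc[R] B, (∀ c, (1 : k) ⊗ₜ[R] φ c = (1 : k) ⊗ₜ[R] ψ c) → φ = ψ) ∧
    (∀ φ₀ : k ⊗[R] C →ₐc[k] k ⊗[R] B,
      ∃ φ : C →ₐc[R] B, ∀ c, φ₀ ((1 : k) ⊗ₜ[R] c) = (1 : k) ⊗ₜ[R] φ c) := by
  have hS := jointlyFaithful_prod (fun i => (cC i).T) (fun j => (cB j).T) hC hB
  have hdC : ∀ p : ι × κ, IsDiag ((cC p.1).T ⊗[R] (cB p.2).T)
      (((cC p.1).T ⊗[R] (cB p.2).T) ⊗[R] C) := fun p =>
    isDiag_of_algHom (B := C)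
      (Algebra.TensorProduct.includeLeft : (cC p.1).T →ₐ[R] (cC p.1).T ⊗[R] (cB p.2).T)
      ⟨(cC p.1).M, inferInstance, ⟨(cC p.1).e⟩⟩
  have hdB : ∀ p : ι × κ, IsDiag ((cC p.1).T ⊗[R] (cB p.2).T)
      (((cC p.1).T ⊗[R] (cB p.2).T) ⊗[R] B) := fun p =>
    isDiag_of_algHom (B := B)
      (Algebra.TensorProduct.includeRight : (cB p.2).T →ₐ[R] (cC p.1).T ⊗[R] (cB p.2).T)
      ⟨(cB p.2).M, inferInstance, ⟨(cB p.2).e⟩⟩
  choose N iN eC using hdC
  choose M iM eB using hdB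
  have eC' := fun p => (eC p).some
  have eB' := fun p => (eB p).some
  refine ⟨fun φ ψ h => fam_injective hk hnil hS eB' eC' φ ψ h,
    fun φ₀ => fam_surjective hk hnil hS eB' eC' φ₀⟩

end Abs

section Iso

variable {A₀ : Type u} [CommRing A₀] (B : Type u) [CommRing B] [HopfAlgebra A₀ B]

theorem exists_dfamily_of_ff (A' : Type u) [CommRing A'] [Algebra A₀ A']
    [Module.FaithfullyFlat A₀ A'] (hd : IsDiag A' (A' ⊗[A₀] B))
    (R : Type u) [CommRing R] [Algebra A₀ R] :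
    ∃ c : PUnit.{u + 1} → DChart R (R ⊗[A₀] B), JointlyFaithful R (fun i => (c i).T) := by
  obtain ⟨M, _, ⟨e'⟩⟩ := isDiag_of_algHom (B := B)
    (Algebra.TensorProduct.includeRight : A' →ₐ[A₀] R ⊗[A₀] A') hd
  refine ⟨fun _ => { T := R ⊗[A₀] A', flat := inferInstance, M := M,
                     e := (cancelBC A₀ R (R ⊗[A₀] A') B).trans e' }, ?_⟩
  intro N _ _ hN
  have h1 : Subsingleton ((R ⊗[A₀] A') ⊗[R] N) := hN PUnit.unit
  exact Module.FaithfullyFlat.lTensor_reflects_triviality R (R ⊗[A₀] A') N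

end Iso

section Rel

variable {A₀ : Type u} [CommRing A₀] {B : Type u} [CommRing B] [HopfAlgebra A₀ B]
  {C : Type u} [CommRing C] [HopfAlgebra A₀ C]
  (R k : Type u) [CommRing R] [Algebra A₀ R] [CommRing k] [Algebra A₀ k]
  [Algebra R k] [IsScalarTower A₀ R k] (hk : Function.Surjective (algebraMap R k))
  (hnil : ∀ x ∈ RingHom.ker (algebraMap R k), IsNilpotent x)
  {ι κ : Type u} [Fintype ι] [Fintype κ] (cC : ι → DChart R (R ⊗[A₀] C))
  (cB : κ → DChart R (R ⊗[A₀] B))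
  (hC : JointlyFaithful R (fun i => (cC i).T)) (hB : JointlyFaithful R (fun j => (cB j).T))

include hk hnil hC hB in
theorem thick_rel_inj (ψ ψ' : (R ⊗[A₀] C) →ₐc[R] (R ⊗[A₀] B))
    (h : ∀ c : C, red R k B (ψ ((1 : R) ⊗ₜ[A₀] c)) = red R k B (ψ' ((1 : R) ⊗ₜ[A₀] c))) :
    ψ = ψ' := by
  apply (thick_abs hk hnil cC cB hC hB).1
  intro x
  induction x using TensorProduct.induction_on with
  | zero => simp
  | add x y hx hy => rw [map_add, map_add, TensorProduct.tmul_add, TensorProduct.tmul_add, hx, hy]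
  | tmul r c =>
    have h1 : (r ⊗ₜ[A₀] c : R ⊗[A₀] C) = r • ((1 : R) ⊗ₜ[A₀] c) := by
      rw [TensorProduct.smul_tmul', smul_eq_mul, mul_one]
    rw [h1, map_smul, map_smul, TensorProduct.tmul_smul, TensorProduct.tmul_smul]
    congr 1
    apply EquivLike.injective (cancelBC A₀ R k B)
    rw [cancelBC_one_tmul, cancelBC_one_tmul, h c]

include hk hnil hC hB in
theorem thick_rel_surj (φ₀ : (k ⊗[A₀] C) →ₐc[k] (k ⊗[A₀] B)) :
    ∃ φ : (R ⊗[A₀] C) →ₐc[R] (R ⊗[A₀] B),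
      ∀ c : C, φ₀ ((1 : k) ⊗ₜ[A₀] c) = red R k B (φ ((1 : R) ⊗ₜ[A₀] c)) := by
  set φ' : (k ⊗[R] (R ⊗[A₀] C)) →ₐc[k] (k ⊗[R] (R ⊗[A₀] B)) :=
    ((cancelBC A₀ R k B).symm : _ →ₐc[k] _).comp
      (φ₀.comp (cancelBC A₀ R k C : _ →ₐc[k] _)) with hφ'
  obtain ⟨φ, hφ⟩ := (thick_abs hk hnil cC cB hC hB).2 φ'
  refine ⟨φ, fun c => ?_⟩
  have h1 := hφ ((1 : R) ⊗ₜ[A₀] c)
  have h2 : φ' ((1 : k) ⊗ₜ[R] ((1 : R) ⊗ₜ[A₀] c)) =
      (cancelBC A₀ R k B).symm (φ₀ (cancelBC A₀ R k C ((1 : k) ⊗ₜ[R] ((1 : R) ⊗ₜ[A₀] c)))) := rfl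
  rw [h2, cancelBC_tmul, one_smul] at h1
  rw [← cancelBC_one_tmul, ← h1, BialgEquiv.apply_symm_apply]

end Rel

end Groth.Agent.Lib.Helper7.Thick
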