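import Mathlib
import Groth.Agent.Lib.Helper7.Thick5
import Groth.Agent.Lib.Helper7.Thick2
import Groth.Agent.Lib.Helper7.AL7
import Groth.Agent.S5270

/-!
# Homomorphisms into an isotrivial group over a complete noetherian base: reduction modulo `I`
is bijective (SGA3 IX 7.1 type statement) (helper7)
-/

set_option autoImplicit false

namespace Groth.Agent.Lib.Helper7.Thick

open TensorProduct SGA3b Groth.Agent.Lib.Helper7.NilLift Groth.Agent.Lib.Helper7.CancelBC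
  Groth.Agent.Lib.Helper7.HensGL Groth.Agent.Lib.Helper7.FFDesc Groth.Agent.Lib.Helper7.HH
  Groth.Agent.Lib.Helper7.AL Groth.Agent.Lib.Helper7.PIDesc

universe u

section Tower

variable {A : Type u} [CommRing A] (I : Ideal A)

lemma pow_succ_le (n : ℕ) : I ^ (n + 1) ≤ I := Ideal.pow_le_self (Nat.succ_ne_zero n)

/-- `A/I` as an algebra over `A/I^(n+1)`. -/
@[instance_reducible]
noncomputable def algQk (n : ℕ) : Algebra (Q I n) (A ⧸ I) :=
  (Ideal.Quotient.factor (pow_succ_le I n)).toAlgebra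

attribute [local instance] algQk

instance towerQk (n : ℕ) : IsScalarTower A (Q I n) (A ⧸ I) :=
  IsScalarTower.of_algebraMap_eq (fun _ => rfl)

instance towerQQk (n : ℕ) : IsScalarTower (Q I (n + 1)) (Q I n) (A ⧸ I) := by
  apply IsScalarTower.of_algebraMap_eq
  intro x
  obtain ⟨a, rfl⟩ := Ideal.Quotient.mk_surjective x
  rfl

lemma algebraMap_Qk_surjective (n : ℕ) : Function.Surjective (algebraMap (Q I n) (A ⧸ I)) :=
  Ideal.Quotient.factor_surjective (pow_succ_le I n)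

lemma ker_Qk_isNilpotent (n : ℕ) : IsNilpotent (RingHom.ker (algebraMap (Q I n) (A ⧸ I))) := by
  have h1 : RingHom.ker (algebraMap (Q I n) (A ⧸ I)) =
      I.map (Ideal.Quotient.mk (I ^ (n + 1))) := ker_factor (pow_succ_le I n)
  refine ⟨n + 1, ?_⟩
  rw [h1, ← Ideal.map_pow]
  exact Ideal.map_quotient_self _

end Tower

section Main

attribute [local instance] algQk

variable {A : Type u} [CommRing A] [IsNoetherianRing A] (I : Ideal A) [IsAdicComplete I A]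
  {B : Type u} [CommRing B] [HopfAlgebra A B] (hG : IsIsotrivial A B)
  {C : Type u} [CommRing C] [HopfAlgebra A C]
  (hfl : ∀ (q : Ideal C) [q.IsPrime], Ideal.map (algebraMap A C) I ≤ q →
    Module.Flat A (Localization.AtPrime q))
  (h0 : IsQuasiIsotrivial (A ⧸ I) ((A ⧸ I) ⊗[A] C))

include hfl in
omit [IsNoetherianRing A] [IsAdicComplete I A] in
lemma flat_level (n : ℕ) : Module.Flat (Q I n) (Q I n ⊗[A] C) := by
  apply flat_quot_tensor (I ^ (n + 1)) C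
  intro q hq hle
  apply hfl q
  rw [Ideal.map_pow] at hle
  exact (Ideal.IsPrime.pow_le_iff (Nat.succ_ne_zero n)).1 hle

include hG hfl h0 in
theorem main :
    (∀ φ ψ : C →ₐc[A] B,
      (∀ c : C, (1 : A ⧸ I) ⊗ₜ[A] (φ c) = (1 : A ⧸ I) ⊗ₜ[A] (ψ c)) → φ = ψ) ∧
    (∀ φ₀ : ((A ⧸ I) ⊗[A] C) →ₐc[A ⧸ I] ((A ⧸ I) ⊗[A] B),
      ∃ φ : C →ₐc[A] B, ∀ c : C, φ₀ ((1 : A ⧸ I) ⊗ₜ[A] c) = (1 : A ⧸ I) ⊗ₜ[A] (φ c)) := by
  have hG' := hG
  obtain ⟨A', _, _, -, hfin, hff, M, _, ⟨e⟩⟩ := hG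
  have hnilx : ∀ n, ∀ x ∈ RingHom.ker (algebraMap (Q I n) (A ⧸ I)), IsNilpotent x :=
    fun n x hx => Groth.Agent.Lib.Helper7.Deform.isNilpotent_of_mem_of_isNilpotent
      (ker_Qk_isNilpotent I n) hx
  -- charts at every level
  have hB : ∀ n, ∃ c : PUnit.{u + 1} → DChart (Q I n) (Q I n ⊗[A] B),
      JointlyFaithful (Q I n) (fun i => (c i).T) :=
    fun n => exists_dfamily_of_ff B A' ⟨M, inferInstance, ⟨e⟩⟩ (Q I n)
  have hC : ∀ n, ∃ (ι : Type u) (_ : Fintype ι) (c : ι → DChart (Q I n) (Q I n ⊗[A] C)),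
      JointlyFaithful (Q I n) (fun i => (c i).T) := by
    intro n
    have := flat_level I hfl n
    exact exists_dfamily_of_thick (Q I n) (A ⧸ I) (algebraMap_Qk_surjective I n)
      (ker_Qk_isNilpotent I n) C h0
  choose cB hcB using hB
  choose ι iι cC hcC using hC
  have inj : ∀ n (ψ ψ' : (Q I n ⊗[A] C) →ₐc[Q I n] (Q I n ⊗[A] B)),
      (∀ c : C, red (Q I n) (A ⧸ I) B (ψ ((1 : Q I n) ⊗ₜ[A] c)) =
        red (Q I n) (A ⧸ I) B (ψ' ((1 : Q I n) ⊗ₜ[A] c))) → ψ = ψ' :=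
    fun n => thick_rel_inj (Q I n) (A ⧸ I) (algebraMap_Qk_surjective I n) (hnilx n)
      (cC n) (cB n) (hcC n) (hcB n)
  have surj : ∀ n (φ₀ : ((A ⧸ I) ⊗[A] C) →ₐc[A ⧸ I] ((A ⧸ I) ⊗[A] B)),
      ∃ φ : (Q I n ⊗[A] C) →ₐc[Q I n] (Q I n ⊗[A] B),
        ∀ c : C, φ₀ ((1 : A ⧸ I) ⊗ₜ[A] c) =
          red (Q I n) (A ⧸ I) B (φ ((1 : Q I n) ⊗ₜ[A] c)) :=
    fun n => thick_rel_surj (Q I n) (A ⧸ I) (algebraMap_Qk_surjective I n) (hnilx n)
      (cC n) (cB n) (hcC n) (hcB n)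
  refine ⟨?_, ?_⟩
  · intro φ ψ h
    apply Groth.Agent.S5270.result A I B hG' C φ ψ
    intro n c
    set Φ : Q I n ⊗[A] C →ₐc[Q I n] Q I n ⊗[A] B :=
      Bialgebra.TensorProduct.map (BialgHom.id (Q I n) (Q I n)) φ with hΦ
    set Ψ : Q I n ⊗[A] C →ₐc[Q I n] Q I n ⊗[A] B :=
      Bialgebra.TensorProduct.map (BialgHom.id (Q I n) (Q I n)) ψ with hΨ
    have hΦt : ∀ (s : Q I n) (c : C), Φ (s ⊗ₜ[A] c) = s ⊗ₜ[A] φ c := fun _ _ => rfl
    have hΨt : ∀ (s : Q I n) (c : C), Ψ (s ⊗ₜ[A] c) = s ⊗ₜ[A] ψ c := fun _ _ => rfl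
    have key : Φ = Ψ := by
      apply inj n
      intro c
      rw [hΦt, hΨt, Algebra.TensorProduct.map_tmul, Algebra.TensorProduct.map_tmul, map_one,
        AlgHom.id_apply, AlgHom.id_apply, h c]
    change (1 : Q I n) ⊗ₜ[A] φ c = (1 : Q I n) ⊗ₜ[A] ψ c
    rw [← hΦt, ← hΨt, key]
  · intro φ₀
    choose Φ hΦ using fun n => surj n φ₀
    have hcompat : ∀ n c, tr I n B (Φ (n + 1) ((1 : Q I (n + 1)) ⊗ₜ[A] c)) =
        Φ n ((1 : Q I n) ⊗ₜ[A] c) := by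
      intro n c
      obtain ⟨Ψ, hΨ⟩ := exists_bcHom (IsScalarTower.toAlgHom A (Q I (n + 1)) (Q I n)) (Φ (n + 1))
      have hΨ' : ∀ c : C, Ψ ((1 : Q I n) ⊗ₜ[A] c) =
          red (Q I (n + 1)) (Q I n) B (Φ (n + 1) ((1 : Q I (n + 1)) ⊗ₜ[A] c)) := hΨ
      have key : Ψ = Φ n := by
        apply inj n
        intro c
        rw [hΨ', red_red, ← hΦ (n + 1) c, ← hΦ n c]
      rw [← red_eq_tr, ← hΨ', key]
    obtain ⟨φ, hφ⟩ := exists_hom_of_system I e (fun n => ptOf (Q I n) (Φ n))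
      (fun n => isHomPt_ptOf (Q I n) (Φ n))
      (by
        intro n c
        rw [ptOf_apply, ptOf_apply]
        exact hcompat n c)
    refine ⟨φ, fun c => ?_⟩
    have h1 := hφ 0 c
    rw [ptOf_apply] at h1
    rw [hΦ 0 c, ← h1, Algebra.TensorProduct.map_tmul, map_one, AlgHom.id_apply]

end Main

end Groth.Agent.Lib.Helper7.Thick
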