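import Mathlib
import Groth.Agent.Lib.Helper7.CO3
import Groth.Agent.Lib.Helper7.HopfIdealR
import Groth.Agent.Lib.Helper7.Deform3
import Groth.Agent.S2980
import Groth.Agent.S5250

/-!
# The open and closed isotrivial subgroup of a group whose reduction is isotrivial (helper7)
-/

set_option autoImplicit false

namespace Groth.Agent.Lib.Helper7.Clopen

open TensorProduct SGA3b Groth.Agent.Lib.Helper7.NilLift Groth.Agent.Lib.Helper7.CancelBC
  Groth.Agent.Lib.Helper7.Deform

universe u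

section Transport

variable {R : Type u} [CommRing R] {H H' : Type u} [CommRing H] [HopfAlgebra R H]
  [CommRing H'] [HopfAlgebra R H']

/-- base change of a bialgebra isomorphism. -/
noncomputable def bcEquiv (R' : Type u) [CommRing R'] [Algebra R R'] (e : H ≃ₐc[R] H') :
    R' ⊗[R] H ≃ₐc[R'] R' ⊗[R] H' :=
  BialgEquiv.ofBijective (Bialgebra.TensorProduct.map (BialgHom.id R' R') (e : H →ₐc[R] H')) (by
    have h : ∀ w, Bialgebra.TensorProduct.map (BialgHom.id R' R') (e : H →ₐc[R] H') w =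
        LinearEquiv.lTensor R' e.toLinearEquiv w := by
      intro w
      induction w using TensorProduct.induction_on with
      | zero => simp
      | tmul a c => rfl
      | add x y hx hy => rw [map_add, map_add, hx, hy]
    have : (Bialgebra.TensorProduct.map (BialgHom.id R' R') (e : H →ₐc[R] H') : _ → _) =
        LinearEquiv.lTensor R' e.toLinearEquiv := funext h
    rw [this]
    exact (LinearEquiv.lTensor R' e.toLinearEquiv).bijective)

theorem isIsotrivial_of_bialgEquiv (e : H ≃ₐc[R] H') (h : IsIsotrivial R H) : IsIsotrivial R H' := by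
  obtain ⟨R', _, _, het, hfin, hff, M, _, ⟨eM⟩⟩ := h
  exact ⟨R', inferInstance, inferInstance, het, hfin, hff, M, inferInstance,
    ⟨(bcEquiv R' e.symm).trans eM⟩⟩

theorem isQuasiIsotrivial_of_isIsotrivial (h : IsIsotrivial R H) : IsQuasiIsotrivial R H := by
  obtain ⟨R', _, _, het, -, hff, hd⟩ := h
  refine ⟨{1}, by rw [Ideal.span_singleton_one], ?_⟩
  intro f hf
  rw [Set.mem_singleton_iff] at hf
  subst hf
  refine ⟨Localization.Away (1 : R) ⊗[R] R', inferInstance, inferInstance, inferInstance,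
    inferInstance, ?_⟩
  let _ : Algebra R' (Localization.Away (1 : R) ⊗[R] R') := Algebra.TensorProduct.rightAlgebra
  have h1 : IsDiag (Localization.Away (1 : R) ⊗[R] R')
      ((Localization.Away (1 : R) ⊗[R] R') ⊗[R'] (R' ⊗[R] H)) := isDiag_baseChange _ hd
  obtain ⟨M, _, ⟨e⟩⟩ := h1
  exact ⟨M, inferInstance, ⟨((cancelBC R (Localization.Away (1 : R))
    (Localization.Away (1 : R) ⊗[R] R') H).trans
      (cancelBC R R' (Localization.Away (1 : R) ⊗[R] R') H).symm).trans e⟩⟩

end Transport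

section Quot

variable {A : Type u} [CommRing A] {B C : Type u} [CommRing B] [HopfAlgebra A B]
  [CommRing C] [HopfAlgebra A C]

theorem nonempty_bialgEquiv_quotient (K : Ideal C) [K.IsHopfIdeal A] (φ : C →ₐc[A] B)
    (hsurj : Function.Surjective φ) (hK : RingHom.ker (φ : C →+* B) = K) :
    Nonempty ((C ⧸ K) ≃ₐc[A] B) := by
  have hle : ∀ a ∈ K, (φ : C →ₐ[A] B) a = 0 := by
    intro a ha
    rw [← hK] at ha
    exact ha
  set f : C ⧸ K →ₐ[A] B := Ideal.Quotient.liftₐ K (φ : C →ₐ[A] B) hle with hf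
  have hfmk : ∀ c : C, f (Ideal.Quotient.mk K c) = φ c := fun c => rfl
  have h1 : (Bialgebra.counitAlgHom A B).comp f = Bialgebra.counitAlgHom A (C ⧸ K) := by
    apply Ideal.Quotient.algHom_ext
    apply AlgHom.ext
    intro c
    change Coalgebra.counit (R := A) (f (Ideal.Quotient.mk K c)) =
      Coalgebra.counit (R := A) (Ideal.Quotient.mk K c)
    rw [hfmk, Bialgebra.Quotient.counit_mk]
    exact CoalgHomClass.counit_comp_apply φ c
  have h2 : (Algebra.TensorProduct.map f f).comp (Bialgebra.comulAlgHom A (C ⧸ K)) =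
      (Bialgebra.comulAlgHom A B).comp f := by
    apply Ideal.Quotient.algHom_ext
    apply AlgHom.ext
    intro c
    change Algebra.TensorProduct.map f f (Coalgebra.comul (R := A) (Ideal.Quotient.mk K c)) =
      Coalgebra.comul (R := A) (f (Ideal.Quotient.mk K c))
    rw [hfmk, Bialgebra.Quotient.comul_mk, ← CoalgHomClass.map_comp_comul_apply φ c]
    generalize Coalgebra.comul (R := A) c = w
    induction w using TensorProduct.induction_on with
    | zero => simp
    | tmul a b => rfl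
    | add x y hx hy => simp only [map_add, hx, hy]
  let F : (C ⧸ K) →ₐc[A] B := BialgHom.ofAlgHom f h1 h2
  have hF : ∀ y, F y = f y := fun _ => rfl
  refine ⟨BialgEquiv.ofBijective F ⟨?_, ?_⟩⟩
  · rw [injective_iff_map_eq_zero]
    intro y hy
    obtain ⟨c, rfl⟩ := Ideal.Quotient.mk_surjective y
    rw [hF, hfmk] at hy
    rw [Ideal.Quotient.eq_zero_iff_mem, ← hK]
    exact hy
  · intro b
    obtain ⟨c, rfl⟩ := hsurj b
    exact ⟨Ideal.Quotient.mk K c, rfl⟩

end Quot

section Main

variable (A : Type u) [CommRing A] [IsNoetherianRing A] (I : Ideal A) [IsAdicComplete I A]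
  (C : Type u) [CommRing C] [HopfAlgebra A C]

theorem clopen_main (hft : Algebra.FiniteType A C)
    (hfl : ∀ (q : Ideal C) [q.IsPrime], Ideal.map (algebraMap A C) I ≤ q →
      Module.Flat A (Localization.AtPrime q))
    (h0 : IsIsotrivial (A ⧸ I) ((A ⧸ I) ⊗[A] C)) :
    ∃ (B : Type u) (_ : CommRing B) (_ : HopfAlgebra A B), IsIsotrivial A B ∧
      ∃ φ : C →ₐc[A] B, Function.Surjective φ ∧
        ∃ e : C, IsIdempotentElem e ∧ e ∈ Ideal.map (algebraMap A C) I ∧
          RingHom.ker (φ : C →+* B) = Ideal.span {e} := by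
  obtain ⟨B, _, _, hB, ⟨e₀⟩⟩ := Groth.Agent.S2980.result A I ((A ⧸ I) ⊗[A] C) h0
  have hq : IsQuasiIsotrivial (A ⧸ I) ((A ⧸ I) ⊗[A] C) := isQuasiIsotrivial_of_isIsotrivial h0
  obtain ⟨φ, hφ⟩ := (Groth.Agent.S5250.result A I B hB C hfl hq).2
    (e₀.symm : (A ⧸ I) ⊗[A] C →ₐc[A ⧸ I] (A ⧸ I) ⊗[A] B)
  have hφ' : ∀ c : C, e₀.symm ((1 : A ⧸ I) ⊗ₜ[A] c) = (1 : A ⧸ I) ⊗ₜ[A] φ c := hφ
  have H1 : ∀ b : B, ∃ c : C, b - φ c ∈ I • (⊤ : Submodule A B) := by
    intro b
    obtain ⟨c, hc⟩ := Groth.Agent.Lib.Helper9.QuotTensor.exists_one_tmul I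
      (e₀ ((1 : A ⧸ I) ⊗ₜ[A] b))
    refine ⟨c, ?_⟩
    rw [← Groth.Agent.Lib.Helper9.QuotTensor.one_tmul_eq_zero_iff, TensorProduct.tmul_sub,
      ← hφ', ← hc, BialgEquiv.symm_apply_apply, sub_self]
  have H2 : ∀ c : C, φ c = 0 → c ∈ I • (⊤ : Submodule A C) := by
    intro c hc
    rw [← Groth.Agent.Lib.Helper9.QuotTensor.one_tmul_eq_zero_iff]
    apply EquivLike.injective e₀.symm
    rw [hφ', hc, TensorProduct.tmul_zero, map_zero]
  have hB' := hB
  obtain ⟨A', _, _, -, hfin, hff, M, _, ⟨eB⟩⟩ := hB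
  have hI : I ≤ Ideal.jacobson ⊥ := IsAdicComplete.le_jacobson_bot I
  have hsurj : Function.Surjective φ := surjective_of_mod hI eB φ H1
  have : IsNoetherianRing C := Algebra.FiniteType.isNoetherianRing A C
  have : Module.Flat A' (A' ⊗[A] B) := Module.Flat.of_linearEquiv eB.toLinearEquiv
  have : Module.Flat A B := Module.Flat.of_flat_tensorProduct A B A'
  exact ⟨B, inferInstance, inferInstance, hB', φ, hsurj, ker_eq_span_idem hI eB φ hsurj H2⟩

end Main

end Groth.Agent.Lib.Helper7.Clopen
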