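import Mathlib
import Groth.Agent.Lib.Helper7.CO4

/-!
# Connected fibres: the open and closed isotrivial subgroup is everything (helper7)
-/

set_option autoImplicit false

namespace Groth.Agent.Lib.Helper7.Clopen

open TensorProduct SGA3b

universe u

section Idem

variable {R : Type u} [CommRing R]

theorem eq_zero_of_isIdempotentElem_of_isNilpotent {e : R} (he : IsIdempotentElem e)
    (hn : IsNilpotent e) : e = 0 := by
  obtain ⟨n, hn⟩ := hn
  rcases n with _ | n
  · rw [pow_zero] at hn
    rw [← mul_one e, hn, mul_zero]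
  · rw [he.pow_succ_eq] at hn
    exact hn

theorem idempotent_trivial_of_connected [ConnectedSpace (PrimeSpectrum R)] {e : R}
    (he : IsIdempotentElem e) : e = 0 ∨ e = 1 := by
  have hcl : IsClopen (PrimeSpectrum.basicOpen e : Set (PrimeSpectrum R)) :=
    PrimeSpectrum.isClopen_iff.mpr ⟨e, he, rfl⟩
  rcases (isClopen_iff.mp hcl) with h | h
  · left
    apply eq_zero_of_isIdempotentElem_of_isNilpotent he
    rw [← PrimeSpectrum.basicOpen_eq_bot_iff]
    exact TopologicalSpace.Opens.ext h
  · right
    have h1 : (PrimeSpectrum.basicOpen (1 - e) : Set (PrimeSpectrum R)) = ∅ := by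
      rw [← PrimeSpectrum.zeroLocus_eq_basicOpen_of_isIdempotentElem e he]
      have h3 := PrimeSpectrum.basicOpen_eq_zeroLocus_compl e
      rw [h] at h3
      rw [← compl_compl (PrimeSpectrum.zeroLocus {e}), ← h3, Set.compl_univ]
    have h2 : (1 - e : R) = 0 := by
      apply eq_zero_of_isIdempotentElem_of_isNilpotent he.one_sub
      rw [← PrimeSpectrum.basicOpen_eq_bot_iff]
      exact TopologicalSpace.Opens.ext h1
    exact (sub_eq_zero.1 h2).symm

end Idem

section Conn

variable {A : Type u} [CommRing A] {C : Type u} [CommRing C] [HopfAlgebra A C]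

/-- an idempotent vanishing along the unit section of a group with connected fibres is zero. -/
theorem eq_zero_of_connected_fibres
    (hconn : ∀ (p : Ideal A) [p.IsPrime], ConnectedSpace (PrimeSpectrum (p.ResidueField ⊗[A] C)))
    {e : C} (he : IsIdempotentElem e) (hε : Coalgebra.counit (R := A) e = 0) : e = 0 := by
  apply eq_zero_of_isIdempotentElem_of_isNilpotent he
  rw [← mem_nilradical, nilradical_eq_sInf, Ideal.mem_sInf]
  intro q hq
  have hqp : q.IsPrime := hq
  set p : Ideal A := q.comap (algebraMap A C) with hp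
  have hpp : p.IsPrime := Ideal.comap_isPrime _ _
  have := hconn p
  -- the image of `e` in the fibre
  have he' : IsIdempotentElem ((1 : p.ResidueField) ⊗ₜ[A] e : p.ResidueField ⊗[A] C) := by
    unfold IsIdempotentElem
    rw [Algebra.TensorProduct.tmul_mul_tmul, mul_one, he.eq]
  -- the counit of the fibre
  let g : p.ResidueField ⊗[A] C →ₐ[A] p.ResidueField :=
    (Algebra.TensorProduct.rid A A p.ResidueField : _ →ₐ[A] _).comp
      (Algebra.TensorProduct.map (AlgHom.id A p.ResidueField) (Bialgebra.counitAlgHom A C))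
  have hg : g ((1 : p.ResidueField) ⊗ₜ[A] e) = 0 := by
    change Algebra.TensorProduct.rid A A p.ResidueField
      (Algebra.TensorProduct.map (AlgHom.id A p.ResidueField) (Bialgebra.counitAlgHom A C)
        ((1 : p.ResidueField) ⊗ₜ[A] e)) = 0
    rw [Algebra.TensorProduct.map_tmul, Bialgebra.counitAlgHom_apply, hε,
      TensorProduct.tmul_zero, map_zero]
  have h0 : ((1 : p.ResidueField) ⊗ₜ[A] e : p.ResidueField ⊗[A] C) = 0 := by
    rcases idempotent_trivial_of_connected he' with h | h
    · exact h
    · exfalso
      rw [h, map_one] at hg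
      exact one_ne_zero hg
  -- map to the residue field of `q`
  let f : p.ResidueField ⊗[A] C →ₐ[A] q.ResidueField :=
    Algebra.TensorProduct.lift
      (Ideal.ResidueField.mapₐ p q (Algebra.ofId A C) rfl)
      (IsScalarTower.toAlgHom A C q.ResidueField) (fun _ _ => .all _ _)
  have hf : f ((1 : p.ResidueField) ⊗ₜ[A] e) = algebraMap C q.ResidueField e := by
    change Algebra.TensorProduct.lift _ _ _ _ = _
    rw [Algebra.TensorProduct.lift_tmul, map_one, one_mul]
    rfl
  rw [h0, map_zero] at hf
  exact Ideal.algebraMap_residueField_eq_zero.1 hf.symm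

end Conn

section Main

variable (A : Type u) [CommRing A] [IsNoetherianRing A] (I : Ideal A) [IsAdicComplete I A]
  (C : Type u) [CommRing C] [HopfAlgebra A C]

theorem isIsotrivial_of_connected [Module.Flat A C] (hft : Algebra.FiniteType A C)
    (hconn : ∀ (p : Ideal A) [p.IsPrime], ConnectedSpace (PrimeSpectrum (p.ResidueField ⊗[A] C)))
    (h0 : IsIsotrivial (A ⧸ I) ((A ⧸ I) ⊗[A] C)) :
    IsIsotrivial A C := by
  obtain ⟨B, _, _, hB, φ, hsurj, e, he, -, hker⟩ :=
    clopen_main A I C hft (fun q _ _ => inferInstance) h0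
  have heK : e ∈ RingHom.ker (φ : C →+* B) := by
    rw [hker]
    exact Ideal.mem_span_singleton_self e
  have hε : Coalgebra.counit (R := A) e = 0 := by
    rw [← CoalgHomClass.counit_comp_apply φ e]
    have : φ e = 0 := heK
    rw [this, map_zero]
  have he0 : e = 0 := eq_zero_of_connected_fibres hconn he hε
  have hinj : Function.Injective φ := by
    rw [injective_iff_map_eq_zero]
    intro c hc
    have : c ∈ RingHom.ker (φ : C →+* B) := hc
    rw [hker, he0, Ideal.mem_span_singleton] at this
    exact zero_dvd_iff.1 this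
  exact isIsotrivial_of_bialgEquiv (BialgEquiv.ofBijective φ ⟨hinj, hsurj⟩).symm hB

end Main

end Groth.Agent.Lib.Helper7.Clopen
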