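import Mathlib
import Groth.Prelude.Def_SGA3b
import Groth.Agent.Lib.Helper7.CO5

set_option autoImplicit false
universe u
open TensorProduct SGA3b WithConv

namespace Groth.Agent.Lib.Helper7.Pts

section Basic

variable {A : Type u} [CommRing A] {C : Type u} [CommRing C] [HopfAlgebra A C]
  {k : Type u} [CommRing k] [Algebra A k]

theorem pow_eq_comp_powConv (x : C →ₐ[A] k) (n : ℕ) :
    (toConv x) ^ n = toConv (x.comp (powConv A C n)) := by
  induction n with
  | zero =>
    rw [pow_zero]
    apply WithConv.ofConv_injective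
    ext c
    simp [powConv, AlgHom.convOne_def]
  | succ n ih =>
    rw [pow_succ, ih]
    apply WithConv.ofConv_injective
    have h := AlgHom.comp_convMul_distrib x ((toConv (AlgHom.id A C)) ^ n) (toConv (AlgHom.id A C))
    rw [← pow_succ] at h
    simp only [powConv]
    rw [ofConv_toConv, h]
    simp

/-- precomposition with a bialgebra hom is a monoid hom on points. -/
noncomputable def precomp {B : Type u} [CommRing B] [HopfAlgebra A B] (φ : C →ₐc[A] B) :
    WithConv (B →ₐ[A] k) →* WithConv (C →ₐ[A] k) where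
  toFun x := toConv (x.ofConv.comp (φ : C →ₐ[A] B))
  map_one' := by
    apply WithConv.ofConv_injective
    ext c
    simp [AlgHom.convOne_def]
  map_mul' x y := by
    apply WithConv.ofConv_injective
    rw [ofConv_toConv, AlgHom.convMul_comp_bialgHom_distrib]

@[simp] theorem precomp_apply {B : Type u} [CommRing B] [HopfAlgebra A B] (φ : C →ₐc[A] B)
    (x : WithConv (B →ₐ[A] k)) (c : C) : (precomp φ x).ofConv c = x.ofConv (φ c) := rfl

/-- translation by a point. -/
noncomputable def tau (x : C →ₐ[A] k) : C →ₐ[A] k ⊗[A] C :=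
  (Algebra.TensorProduct.map x (AlgHom.id A C)).comp (Bialgebra.comulAlgHom A C)

/-- evaluation at a point. -/
noncomputable def ev (y : C →ₐ[A] k) : k ⊗[A] C →ₐ[A] k :=
  (Algebra.TensorProduct.lmul' A).comp (Algebra.TensorProduct.map (AlgHom.id A k) y)

theorem ev_tau (x y : C →ₐ[A] k) (c : C) :
    ev y (tau x c) = (toConv x * toConv y).ofConv c := by
  rw [AlgHom.convMul_def, ofConv_toConv, ofConv_toConv, ofConv_toConv]
  simp only [ev, tau, AlgHom.comp_apply]
  rw [← AlgHom.comp_apply (Algebra.TensorProduct.map (AlgHom.id A k) y), ← Algebra.TensorProduct.map_comp]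
  simp

end Basic

section Idem

theorem finite_idempotents (R : Type*) [CommRing R] [IsNoetherianRing R] :
    Finite {e : R // IsIdempotentElem e} := by
  have hfin : (minimalPrimes R).Finite := minimalPrimes.finite_of_isNoetherianRing R
  have : Finite (minimalPrimes R) := hfin
  let F : {e : R // IsIdempotentElem e} → Set (minimalPrimes R) := fun e => {p | e.1 ∈ p.1}
  have key : ∀ e e' : {e : R // IsIdempotentElem e}, F e = F e' → e.1 * (1 - e'.1) = 0 := by
    intro e e' h
    have hidem : IsIdempotentElem (e.1 * (1 - e'.1)) := e.2.mul e'.2.one_sub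
    apply Groth.Agent.Lib.Helper7.Clopen.eq_zero_of_isIdempotentElem_of_isNilpotent hidem
    rw [← mem_nilradical, nilradical, ← Ideal.sInf_minimalPrimes, Ideal.mem_sInf]
    intro p hp
    have hpp : p.IsPrime := hp.1.1
    by_cases hep : e.1 ∈ p
    · exact Ideal.mul_mem_right _ _ hep
    · have h1 : (⟨p, hp⟩ : minimalPrimes R) ∉ F e := hep
      rw [h] at h1
      have h2 : e'.1 ∉ p := h1
      have h3 : e'.1 * (1 - e'.1) ∈ p := by
        rw [e'.2.mul_one_sub_self]
        exact p.zero_mem
      exact Ideal.mul_mem_left _ _ ((hpp.mem_or_mem h3).resolve_left h2)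
  apply Finite.of_injective F
  intro e e' h
  have h1 := key e e' h
  have h2 := key e' e h.symm
  apply Subtype.ext
  have : e.1 = e.1 * e'.1 := by linear_combination h1
  have : e'.1 = e'.1 * e.1 := by linear_combination h2
  linear_combination h1 - h2

end Idem

section Pow

variable {A : Type u} [CommRing A] {C : Type u} [CommRing C] [HopfAlgebra A C]
  {k : Type u} [Field k] [Algebra A k]

theorem exists_pow_apply_eq_zero (hft : Algebra.FiniteType A C) (g : WithConv (C →ₐ[A] k))
    (e : C) (he : IsIdempotentElem e) (hce : Coalgebra.counit (R := A) e = 0) :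
    ∃ m : ℕ, 0 < m ∧ (g ^ m).ofConv e = 0 := by
  have hft' : Algebra.FiniteType k (k ⊗[A] C) := inferInstance
  have : IsNoetherianRing (k ⊗[A] C) := Algebra.FiniteType.isNoetherianRing k _
  have := finite_idempotents (k ⊗[A] C)
  let F : ℕ → {x : k ⊗[A] C // IsIdempotentElem x} := fun j =>
    ⟨tau (g ^ j).ofConv e, he.map _⟩
  obtain ⟨i, j, hne, hij⟩ := Function.not_injective_iff.mp (not_injective_infinite_finite F)
  have hval : tau (g ^ i).ofConv e = tau (g ^ j).ofConv e := congrArg Subtype.val hne
  wlog hlt : i < j generalizing i j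
  · exact this j i hne.symm (Ne.symm hij) hval.symm (lt_of_le_of_ne (not_lt.mp hlt) (Ne.symm hij))
  refine ⟨j - i, Nat.sub_pos_of_lt hlt, ?_⟩
  have h1 := congrArg (ev ((g ^ i)⁻¹).ofConv) hval
  rw [ev_tau, ev_tau, toConv_ofConv, toConv_ofConv, toConv_ofConv, mul_inv_cancel] at h1
  have h2 : g ^ j * (g ^ i)⁻¹ = g ^ (j - i) := by
    rw [← pow_sub _ hlt.le]
  rw [h2] at h1
  rw [← h1]
  simp [AlgHom.convOne_def, hce]

end Pow

end Groth.Agent.Lib.Helper7.Pts
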