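import Mathlib
import Groth.Agent.Lib.Helper7.HH1
import Groth.Agent.Lib.Helper7.PT1
import Groth.Agent.Lib.Helper7.HopfFlatMain

/-!
# Exact sequences of affine groups in Hopf form: points killed by the quotient factor through the
kernel, and coinvariants (helper7)
-/

set_option autoImplicit false
universe u
open TensorProduct WithConv

namespace Groth.Agent.Lib.Helper7.HopfExact

open Groth.Agent.Lib.Helper7 Groth.Agent.Lib.Helper7.HH Groth.Agent.Lib.Helper7.Pts

variable {k : Type u} [Field k] {R H K : Type u} [CommRing R] [HopfAlgebra k R]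
  [CommRing H] [HopfAlgebra k H] [CommRing K] [HopfAlgebra k K]
  (φ : R →ₐc[k] H) (ψ : H →ₐc[k] K)

section Kill

variable {φ ψ}
variable (hψ : Function.Surjective ψ)
  (hker : RingHom.ker (ψ : H →ₐ[k] K) =
    Ideal.map (φ : R →ₐ[k] H) (RingHom.ker (Bialgebra.counitAlgHom k R)))

include hker in
theorem psi_phi (q : R) : ψ (φ q) = algebraMap k K (Coalgebra.counit (R := k) q) := by
  have h1 : q - algebraMap k R (Coalgebra.counit (R := k) q) ∈
      RingHom.ker (Bialgebra.counitAlgHom k R) := by
    rw [RingHom.mem_ker, map_sub, AlgHom.commutes]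
    simp
  have h2 : (φ : R →ₐ[k] H) (q - algebraMap k R (Coalgebra.counit (R := k) q)) ∈
      RingHom.ker (ψ : H →ₐ[k] K) := by
    rw [hker]
    exact Ideal.mem_map_of_mem _ h1
  rw [RingHom.mem_ker, map_sub, map_sub, AlgHom.commutes, AlgHom.commutes, sub_eq_zero] at h2
  exact h2

variable {T : Type u} [CommRing T] [Algebra k T]

include hψ hker in
/-- a `T`-point of `G` mapping to `1` in `Q(T)` comes from a unique `T`-point of `K`. -/
theorem exists_factor (g : Pt k H T) (hg : precomp φ g = 1) :
    ∃ g' : Pt k K T, precomp ψ g' = g := by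
  have hkill : RingHom.ker (ψ : H →ₐ[k] K) ≤ RingHom.ker g.ofConv := by
    rw [hker, Ideal.map_le_iff_le_comap]
    intro q hq
    rw [RingHom.mem_ker] at hq
    rw [Ideal.mem_comap, RingHom.mem_ker]
    have h1 : (precomp φ g).ofConv q = (1 : Pt k R T).ofConv q := by rw [hg]
    rw [precomp_apply] at h1
    change g.ofConv (φ q) = 0
    rw [h1]
    change algebraMap k T (Coalgebra.counit (R := k) q) = 0
    have : Coalgebra.counit (R := k) q = 0 := hq
    rw [this, map_zero]
  let e := Ideal.quotientKerAlgEquivOfSurjective (f := (ψ : H →ₐ[k] K)) hψ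
  refine ⟨toConv ((Ideal.Quotient.liftₐ (RingHom.ker (ψ : H →ₐ[k] K)) g.ofConv
    (fun a ha => hkill ha)).comp e.symm.toAlgHom), ?_⟩
  apply WithConv.ext
  apply AlgHom.ext
  intro h
  rw [precomp_apply]
  have : e.symm (ψ h) = Ideal.Quotient.mk _ h := by
    rw [AlgEquiv.symm_apply_eq]
    rfl
  change (Ideal.Quotient.liftₐ (RingHom.ker (ψ : H →ₐ[k] K)) g.ofConv
    (fun a ha => hkill ha)) (e.symm (ψ h)) = g.ofConv h
  rw [this]
  rfl

end Kill

section Coinv

variable {φ ψ}
variable (hψ : Function.Surjective ψ)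
  (hker : RingHom.ker (ψ : H →ₐ[k] K) =
    Ideal.map (φ : R →ₐ[k] H) (RingHom.ker (Bialgebra.counitAlgHom k R)))
variable [Algebra R H] [IsScalarTower k R H] (halg : ∀ q, algebraMap R H q = φ q)

/-- the first projection `G ×_Q G → G` as a point. -/
noncomputable def ptL : Pt k H (H ⊗[R] H) := toConv Algebra.TensorProduct.includeLeft

/-- the second projection `G ×_Q G → G` as a point. -/
noncomputable def ptR : Pt k H (H ⊗[R] H) :=
  toConv ((Algebra.TensorProduct.includeRight (R := R) (A := H) (B := H)).restrictScalars k)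

lemma ptL_apply (h : H) : (ptL (k := k) (R := R) (H := H)).ofConv h = h ⊗ₜ[R] 1 := rfl

lemma ptR_apply (h : H) : (ptR (k := k) (R := R) (H := H)).ofConv h = 1 ⊗ₜ[R] h := rfl

include halg in
lemma precomp_ptL_eq : precomp φ (ptL (k := k) (R := R) (H := H)) = precomp φ ptR := by
  apply WithConv.ext
  apply AlgHom.ext
  intro q
  rw [precomp_apply, precomp_apply, ptL_apply, ptR_apply, ← halg, Algebra.algebraMap_eq_smul_one,
    TensorProduct.smul_tmul]

include hψ hker halg in
/-- elements of `O(G)` invariant under left translation by `K` come from `O(Q)`. -/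
theorem mem_range_of_coinv (hφ : Function.Injective φ) (a : H)
    (ha : (Algebra.TensorProduct.map (ψ : H →ₐ[k] K) (AlgHom.id k H))
      (Coalgebra.comul (R := k) a) = 1 ⊗ₜ[k] a) : a ∈ Set.range φ := by
  haveI : Module.FaithfullyFlat R H := HopfFlat.faithfullyFlat_of_injective φ hφ
    (fun b a => by rw [Algebra.smul_def, halg])
  have heff := Algebra.IsEffective.of_faithfullyFlat R H
  set L : Pt k H (H ⊗[R] H) := ptL with hL
  set Rr : Pt k H (H ⊗[R] H) := ptR with hRr
  have hw : precomp φ (L * Rr⁻¹) = 1 := by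
    rw [map_mul, map_inv, precomp_ptL_eq halg, mul_inv_cancel]
  obtain ⟨w', hw'⟩ := exists_factor hψ hker _ hw
  have hLw : L = (precomp ψ w') * Rr := by rw [hw', inv_mul_cancel_right]
  have h1 : L.ofConv a = Rr.ofConv a := by
    conv_lhs => rw [hLw]
    rw [AlgHom.convMul_apply]
    have h2 : ∀ z : H ⊗[k] H, Algebra.TensorProduct.lift (precomp ψ w').ofConv Rr.ofConv
        (fun _ _ => Commute.all _ _) z =
        Algebra.TensorProduct.lift w'.ofConv Rr.ofConv (fun _ _ => Commute.all _ _)
          (Algebra.TensorProduct.map (ψ : H →ₐ[k] K) (AlgHom.id k H) z) := by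
      intro z
      induction z using TensorProduct.induction_on with
      | zero => simp
      | tmul x y => simp
      | add x y hx hy => simp only [map_add, hx, hy]
    rw [h2, ha]
    simp
  have h3 : Algebra.TensorProduct.includeLeftSubRight R H a = 0 := by
    rw [Algebra.TensorProduct.includeLeftSubRight_apply, sub_eq_zero]
    exact h1
  obtain ⟨q, hq⟩ := (heff a).1 h3
  exact ⟨q, by rw [← halg]; exact hq⟩

end Coinv

end Groth.Agent.Lib.Helper7.HopfExact
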