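import Mathlib
import Groth.Agent.Lib.Helper7.EX1
import Groth.Agent.Lib.Helper7.HopfLR
import Groth.Agent.Lib.Helper7.CoeffSpace

/-!
# Extensions of linearly reductive groups are linearly reductive (helper7)
-/

set_option autoImplicit false
universe u
open TensorProduct WithConv

namespace Groth.Agent.Lib.Helper7.HopfExact

open HopfRep Groth.Agent.Lib.Helper7 Groth.Agent.Lib.Helper7.Comod

variable {k : Type u} [Field k] {R H K : Type u} [CommRing R] [HopfAlgebra k R]
  [CommRing H] [HopfAlgebra k H] [CommRing K] [HopfAlgebra k K]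
  {φ : R →ₐc[k] H} {ψ : H →ₐc[k] K}

theorem isLinearlyReductive_of_exact (hφ : Function.Injective φ) (hψ : Function.Surjective ψ)
    (hker : RingHom.ker (ψ : H →ₐ[k] K) =
      Ideal.map (φ : R →ₐ[k] H) (RingHom.ker (Bialgebra.counitAlgHom k R)))
    (hK : IsLinearlyReductive k K) (hQ : IsLinearlyReductive k R) : IsLinearlyReductive k H := by
  rw [isLinearlyReductive_iff_exists_isTrivIntegral] at hK hQ ⊢
  obtain ⟨β, hβ⟩ := hK
  obtain ⟨γ, hγ⟩ := hQ
  rw [isTrivIntegral_iff] at hβ hγ
  letI : Algebra R H := (φ : R →+* H).toAlgebra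
  haveI : IsScalarTower k R H := IsScalarTower.of_algebraMap_eq (fun x => by
    change algebraMap k H x = φ (algebraMap k R x)
    rw [AlgHomClass.commutes])
  have halg : ∀ q, algebraMap R H q = φ q := fun q => rfl
  set α : H →ₗ[k] k := β ∘ₗ (ψ : H →ₗ[k] K) with hα
  set E : H →ₗ[k] H := coeffMap (C := H) (V := H) α with hE
  have hEapp : ∀ a, E a = contrL H α (Coalgebra.comul (R := k) a) := fun a => rfl
  -- (b)
  have hb : ∀ b, ψ (E b) = algebraMap k K (α b) := by
    intro b
    have h1 : ∀ z : H ⊗[k] H, ψ (contrL H α z) =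
        contrL K β (TensorProduct.map (ψ : H →ₗ[k] K) (ψ : H →ₗ[k] K) z) := by
      intro z
      induction z using TensorProduct.induction_on with
      | zero => simp
      | tmul x y => simp [hα]
      | add x y hx hy => simp only [map_add, hx, hy]
    rw [hEapp, h1, CoalgHomClass.map_comp_comul_apply]
    have h2 := hβ.1 (ψ b)
    have h3 : contrL K β (Coalgebra.comul (R := k) (ψ b)) =
        (TensorProduct.lid k K) (β.rTensor K (Coalgebra.comul (R := k) (ψ b))) := rfl
    rw [h3, ← h2, TensorProduct.lid_tmul, Algebra.algebraMap_eq_smul_one]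
    rfl
  -- (E1)
  have hE1 : ∀ a, (Algebra.TensorProduct.map (ψ : H →ₐ[k] K) (AlgHom.id k H))
      (Coalgebra.comul (R := k) (E a)) = 1 ⊗ₜ[k] E a := by
    intro a
    have h1 : Coalgebra.comul (R := k) (E a) = E.rTensor H (Coalgebra.comul (R := k) a) :=
      comul_coeffMap (C := H) (V := H) α a
    rw [h1, hEapp]
    generalize Coalgebra.comul (R := k) a = z
    induction z using TensorProduct.induction_on with
    | zero => simp
    | tmul x y =>
      rw [LinearMap.rTensor_tmul, Algebra.TensorProduct.map_tmul, contrL_tmul]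
      change ψ (E x) ⊗ₜ[k] y = _
      rw [hb, Algebra.algebraMap_eq_smul_one, TensorProduct.smul_tmul]
    | add x y hx hy => simp only [map_add, hx, hy, TensorProduct.tmul_add]
  have hErange : ∀ a, E a ∈ Set.range φ := fun a =>
    mem_range_of_coinv hψ hker halg hφ (E a) (hE1 a)
  obtain ⟨r, hr⟩ := LinearMap.exists_leftInverse_of_injective (φ : R →ₗ[k] H)
    (LinearMap.ker_eq_bot.2 hφ)
  have hrφ : ∀ q, r (φ q) = q := fun q => LinearMap.congr_fun hr q
  set e : H →ₗ[k] R := r ∘ₗ E with he
  have hφe : (φ : R →ₗ[k] H) ∘ₗ e = E := by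
    apply LinearMap.ext
    intro a
    obtain ⟨q, hq⟩ := hErange a
    change φ (r (E a)) = E a
    rw [← hq, hrφ]
  have hE1' : E 1 = 1 := by
    rw [hEapp, Bialgebra.comul_one, Algebra.TensorProduct.one_def, contrL_tmul, hα]
    change β (ψ 1) • (1 : H) = 1
    rw [map_one, hβ.2, one_smul]
  refine ⟨γ ∘ₗ e, (isTrivIntegral_iff _).2 ⟨?_, ?_⟩⟩
  · intro a
    have hinj : Function.Injective ((φ : R →ₗ[k] H).rTensor H) :=
      Module.Flat.rTensor_preserves_injective_linearMap _ hφ
    have h1 : e.rTensor H (Coalgebra.comul (R := k) a) =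
        (φ : R →ₗ[k] H).lTensor R (Coalgebra.comul (R := k) (e a)) := by
      apply hinj
      have h3 : Coalgebra.comul (R := k) (E a) = E.rTensor H (Coalgebra.comul (R := k) a) :=
        comul_coeffMap (C := H) (V := H) α a
      rw [← LinearMap.comp_apply, ← LinearMap.rTensor_comp, hφe, ← h3]
      have h2 : E a = φ (e a) := by rw [← hφe]; rfl
      rw [h2, ← CoalgHomClass.map_comp_comul_apply]
      generalize Coalgebra.comul (R := k) (e a) = z
      induction z using TensorProduct.induction_on with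
      | zero => simp
      | tmul x y => rfl
      | add x y hx hy => simp only [map_add, hx, hy]
    have h4 : (γ ∘ₗ e).rTensor H (Coalgebra.comul (R := k) a) =
        γ.rTensor H (e.rTensor H (Coalgebra.comul (R := k) a)) := by
      rw [LinearMap.rTensor_comp]; rfl
    have h5 : ∀ z : R ⊗[k] R, γ.rTensor H ((φ : R →ₗ[k] H).lTensor R z) =
        (φ : R →ₗ[k] H).lTensor k (γ.rTensor R z) := by
      intro z
      induction z using TensorProduct.induction_on with
      | zero => simp
      | tmul x y => rfl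
      | add x y hx hy => simp only [map_add, hx, hy]
    rw [h4, h1, h5, ← hγ.1 (e a), LinearMap.lTensor_tmul]
    change (γ ∘ₗ e) a ⊗ₜ[k] (1 : H) = γ (e a) ⊗ₜ[k] φ 1
    rw [map_one]
    rfl
  · change γ (r (E 1)) = 1
    rw [hE1', ← map_one φ, hrφ, hγ.2]

end Groth.Agent.Lib.Helper7.HopfExact
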