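import Mathlib

/-!
# Faithfully flat descent of solvability of linear systems (helper7)
-/

set_option autoImplicit false
universe u
open TensorProduct

namespace Groth.Agent.Lib.Helper7.HopfExact

section Descent

variable {R S : Type*} [CommRing R] [CommRing S] [Algebra R S] [Module.FaithfullyFlat R S]
  {M N : Type*} [AddCommGroup M] [Module R M] [AddCommGroup N] [Module R N]

/-- if `1 ⊗ n` is in the range of the base change of `D` to a faithfully flat algebra, then `n` is in
the range of `D`. -/
theorem mem_range_of_one_tmul_mem_range (D : M →ₗ[R] N) (n : N)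
    (h : (1 : S) ⊗ₜ[R] n ∈ LinearMap.range (D.lTensor S)) : n ∈ LinearMap.range D := by
  obtain ⟨w, hw⟩ := h
  set π := (LinearMap.range D).mkQ with hπ
  have h0 : π ∘ₗ D = 0 := LinearMap.range_mkQ_comp D
  have h1 : (1 : S) ⊗ₜ[R] (π n) = 0 := by
    have : (π.lTensor S) ((D.lTensor S) w) = 0 := by
      rw [← LinearMap.comp_apply, ← LinearMap.lTensor_comp, h0, LinearMap.lTensor_zero,
        LinearMap.zero_apply]
    rw [hw, LinearMap.lTensor_tmul] at this
    exact this
  have h2 : π n = 0 := by
    apply Module.FaithfullyFlat.tensorProduct_mk_injective (A := R) (B := S)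
    rw [map_zero]
    exact h1
  rw [hπ, Submodule.mkQ_apply, Submodule.Quotient.mk_eq_zero] at h2
  exact h2

variable {ι κ : Type*} [Fintype ι] [DecidableEq ι] [Fintype κ] [DecidableEq κ]
  {M₀ : Type*} [AddCommGroup M₀] [Module R M₀]

/-- matrix form: descent of solvability of a finite system of linear equations. -/
theorem exists_solution_of_lTensor (D : κ → ι → (M₀ →ₗ[R] N)) (n : κ → N)
    (y : ι → S ⊗[R] M₀) (hy : ∀ l, ∑ j, (D l j).lTensor S (y j) = (1 : S) ⊗ₜ[R] n l) :
    ∃ z : ι → M₀, ∀ l, ∑ j, D l j (z j) = n l := by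
  let DD : (ι → M₀) →ₗ[R] (κ → N) :=
    LinearMap.pi (fun l => ∑ j, (D l j) ∘ₗ LinearMap.proj j)
  let w : S ⊗[R] (ι → M₀) := ∑ j, (LinearMap.single R (fun _ => M₀) j).lTensor S (y j)
  have hpi : ∀ (x : S ⊗[R] (ι → M₀)) (l : κ),
      TensorProduct.piRightHom R R S (fun _ : κ => N) (DD.lTensor S x) l =
        (∑ j, (D l j) ∘ₗ LinearMap.proj j).lTensor S x := by
    intro x l
    induction x using TensorProduct.induction_on with
    | zero => simp
    | tmul s m =>
      rw [LinearMap.lTensor_tmul, TensorProduct.piRightHom_tmul, LinearMap.lTensor_tmul]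
      rfl
    | add a b ha hb => simp only [map_add, Pi.add_apply, ha, hb]
  have hw : DD.lTensor S w = (1 : S) ⊗ₜ[R] n := by
    apply (TensorProduct.piRight R R S (fun _ : κ => N)).injective
    rw [TensorProduct.piRight_apply, TensorProduct.piRight_apply, TensorProduct.piRightHom_tmul]
    funext l
    rw [hpi, ← hy l]
    simp only [w, map_sum]
    refine Finset.sum_congr rfl fun j _ => ?_
    rw [← LinearMap.comp_apply, ← LinearMap.lTensor_comp]
    congr 2
    apply LinearMap.ext
    intro m
    simp only [LinearMap.comp_apply, LinearMap.sum_apply, LinearMap.proj_apply,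
      LinearMap.single_apply]
    rw [Finset.sum_eq_single j]
    · rw [Pi.single_eq_same]
    · intro b _ hb
      rw [Pi.single_eq_of_ne hb, map_zero]
    · intro h; exact absurd (Finset.mem_univ j) h
  obtain ⟨z, hz⟩ := mem_range_of_one_tmul_mem_range (S := S) DD n ⟨w, hw⟩
  refine ⟨z, fun l => ?_⟩
  have := congrFun hz l
  rw [← this]
  simp [DD]

end Descent

end Groth.Agent.Lib.Helper7.HopfExact
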