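import Mathlib
import Groth.Agent.Lib.Helper7.EX1

/-!
# Exact sequences of affine groups: the `K`-torsor `G → Q` is trivial over `G` (helper7)
-/

set_option autoImplicit false
universe u
open TensorProduct WithConv

namespace Groth.Agent.Lib.Helper7.HopfExact

open Groth.Agent.Lib.Helper7 Groth.Agent.Lib.Helper7.HH Groth.Agent.Lib.Helper7.Pts

variable {k : Type u} [Field k] {R H K : Type u} [CommRing R] [HopfAlgebra k R]
  [CommRing H] [HopfAlgebra k H] [CommRing K] [HopfAlgebra k K]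
  {φ : R →ₐc[k] H} {ψ : H →ₐc[k] K}

/-- right translation by `K`: `h ↦ Σ h₁ ⊗ ψ h₂`, as a `k`-algebra map. -/
noncomputable def lamk (ψ : H →ₐc[k] K) : H →ₐ[k] H ⊗[k] K :=
  (Algebra.TensorProduct.map (AlgHom.id k H) (ψ : H →ₐ[k] K)).comp (Bialgebra.comulAlgHom k H)

lemma lamk_apply (h : H) : lamk ψ h =
    (Algebra.TensorProduct.map (AlgHom.id k H) (ψ : H →ₐ[k] K)) (Coalgebra.comul (R := k) h) := rfl

section

variable (hker : RingHom.ker (ψ : H →ₐ[k] K) =
    Ideal.map (φ : R →ₐ[k] H) (RingHom.ker (Bialgebra.counitAlgHom k R)))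

include hker in
lemma lamk_phi (q : R) : lamk ψ (φ q) = φ q ⊗ₜ[k] 1 := by
  rw [lamk_apply, ← CoalgHomClass.map_comp_comul_apply]
  have h1 : ∀ z : R ⊗[k] R, (Algebra.TensorProduct.map (AlgHom.id k H) (ψ : H →ₐ[k] K))
      (TensorProduct.map (φ : R →ₗ[k] H) (φ : R →ₗ[k] H) z) =
      φ ((TensorProduct.rid k R) (LinearMap.lTensor R (Coalgebra.counit (R := k) (A := R)) z))
        ⊗ₜ[k] 1 := by
    intro z
    induction z using TensorProduct.induction_on with
    | zero => simp
    | tmul x y =>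
      rw [TensorProduct.map_tmul, Algebra.TensorProduct.map_tmul, LinearMap.lTensor_tmul,
        TensorProduct.rid_tmul]
      change φ x ⊗ₜ[k] ψ (φ y) = _
      rw [psi_phi hker, Algebra.algebraMap_eq_smul_one, TensorProduct.tmul_smul, map_smul,
        TensorProduct.smul_tmul']
    | add x y hx hy => simp only [map_add, hx, hy, TensorProduct.add_tmul]
  rw [h1, Coalgebra.lTensor_counit_comul, TensorProduct.rid_tmul, one_smul]

variable [Algebra R H] [IsScalarTower k R H] (halg : ∀ q, algebraMap R H q = φ q)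

/-- right translation by `K` as an `O(Q)`-algebra map. -/
noncomputable def lam : H →ₐ[R] H ⊗[k] K :=
  { (lamk ψ).toRingHom with
    commutes' := by
      intro q
      change lamk ψ (algebraMap R H q) = _
      rw [Algebra.TensorProduct.algebraMap_apply, halg, lamk_phi hker] }

lemma lam_apply (h : H) : lam hker halg h = lamk ψ h := rfl

/-- the ring of functions on `G ×_Q G × K`. -/
abbrev TT (k R H K : Type u) [Field k] [CommRing R] [HopfAlgebra k R] [CommRing H] [HopfAlgebra k H]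
    [CommRing K] [HopfAlgebra k K] [Algebra R H] [IsScalarTower k R H] : Type u :=
  H ⊗[R] (H ⊗[k] K)

/-- `(g', g, κ) ↦ (g', g κ)`. -/
noncomputable def Lam : H ⊗[R] H →ₐ[k] TT k R H K :=
  (Algebra.TensorProduct.map (AlgHom.id R H) (lam hker halg)).restrictScalars k

/-- `(g', g, κ) ↦ (g', g)`. -/
noncomputable def iot : H ⊗[R] H →ₐ[k] TT k R H K :=
  (Algebra.TensorProduct.map (AlgHom.id R H)
    (Algebra.TensorProduct.includeLeft : H →ₐ[R] H ⊗[k] K)).restrictScalars k

/-- `(g', g, κ) ↦ κ`. -/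
noncomputable def Kpt : Pt k K (TT k R H K) :=
  toConv (((Algebra.TensorProduct.includeRight (R := R) (A := H) (B := H ⊗[k] K)).restrictScalars
    k).comp (Algebra.TensorProduct.includeRight (R := k) (A := H) (B := K)))

lemma Lam_tmul (s h : H) : Lam hker halg (s ⊗ₜ[R] h) = s ⊗ₜ[R] lamk ψ h := rfl

lemma iot_tmul (s h : H) : iot (k := k) (R := R) (K := K) (s ⊗ₜ[R] h) = s ⊗ₜ[R] (h ⊗ₜ[k] 1) := rfl

lemma Kpt_apply (c : K) : (Kpt (k := k) (R := R) (H := H)).ofConv c = 1 ⊗ₜ[R] (1 ⊗ₜ[k] c) := rfl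

lemma push_Lam_ptL : push (Lam hker halg) ptL = push (iot (K := K)) ptL := by
  apply WithConv.ext
  apply AlgHom.ext
  intro h
  rw [push_apply, push_apply]
  change Lam hker halg (h ⊗ₜ[R] 1) = iot (h ⊗ₜ[R] 1)
  rw [Lam_tmul, iot_tmul, map_one, Algebra.TensorProduct.one_def]

lemma push_Lam_ptR : push (Lam hker halg) ptR = push (iot (K := K)) ptR * precomp ψ Kpt := by
  apply WithConv.ext
  apply AlgHom.ext
  intro h
  rw [push_apply, AlgHom.convMul_apply]
  change Lam hker halg (1 ⊗ₜ[R] h) = _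
  rw [Lam_tmul, lamk_apply]
  generalize Coalgebra.comul (R := k) h = z
  induction z using TensorProduct.induction_on with
  | zero => simp
  | tmul x y =>
    rw [Algebra.TensorProduct.map_tmul, Algebra.TensorProduct.lift_tmul]
    change _ = iot (1 ⊗ₜ[R] x) * (1 ⊗ₜ[R] (1 ⊗ₜ[k] ψ y))
    rw [iot_tmul, Algebra.TensorProduct.tmul_mul_tmul, Algebra.TensorProduct.tmul_mul_tmul,
      one_mul, one_mul, mul_one]
    rfl
  | add x y hx hy => simp only [map_add, TensorProduct.tmul_add, hx, hy]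

omit [Algebra R H] [IsScalarTower k R H] in
lemma precomp_injective (hψ : Function.Surjective ψ) {T : Type u} [CommRing T] [Algebra k T] :
    Function.Injective (precomp (k := T) ψ) := by
  intro f g hfg
  apply WithConv.ext
  apply AlgHom.ext
  intro c
  obtain ⟨h, rfl⟩ := hψ c
  have := congrArg (fun x : WithConv (H →ₐ[k] T) => x.ofConv h) hfg
  exact this

/-- the key identity: `κ · ξ(g', g κ) = ξ(g', g)` for `ξ(g', g) = g⁻¹ g'`. -/
theorem Kpt_mul_push (hψ : Function.Surjective ψ) (Ξ : Pt k K (H ⊗[R] H))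
    (hΞ : precomp ψ Ξ = (ptR : Pt k H (H ⊗[R] H))⁻¹ * ptL) :
    Kpt * push (Lam hker halg) Ξ = push (iot (K := K)) Ξ := by
  apply precomp_injective hψ
  have h1 : ∀ (f : H ⊗[R] H →ₐ[k] TT k R H K), precomp ψ (push f Ξ) = push f (precomp ψ Ξ) :=
    fun f => rfl
  rw [map_mul, h1, h1, hΞ, map_mul, map_mul, map_inv, map_inv, push_Lam_ptL, push_Lam_ptR,
    mul_inv_rev, mul_assoc, mul_inv_cancel_left]

end

end Groth.Agent.Lib.Helper7.HopfExact
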