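import Mathlib
import Groth.Agent.Lib.Helper7.EX2
import Groth.Agent.Lib.Helper7.EX3
import Groth.Agent.Lib.Helper7.EX4
import Groth.Agent.Lib.Helper7.StabIdeal
import Groth.Agent.Lib.Helper7.ComodHomLib

/-!
# Normal subgroups of linearly reductive groups are linearly reductive (helper7)
-/

set_option autoImplicit false
universe u
open TensorProduct WithConv

namespace Groth.Agent.Lib.Helper7.HopfExact

open HopfRep Groth.Agent.Lib.Helper7 Groth.Agent.Lib.Helper7.Comod Groth.Agent.Lib.Helper7.HH
  Groth.Agent.Lib.Helper7.Pts Groth.Agent.Lib.Helper7.StabIdeal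

variable {k : Type u} [Field k] {R H K : Type u} [CommRing R] [HopfAlgebra k R]
  [CommRing H] [HopfAlgebra k H] [CommRing K] [HopfAlgebra k K]
  {φ : R →ₐc[k] H} {ψ : H →ₐc[k] K}

section

variable (hker : RingHom.ker (ψ : H →ₐ[k] K) =
    Ideal.map (φ : R →ₐ[k] H) (RingHom.ker (Bialgebra.counitAlgHom k R)))
variable [Algebra R H] [IsScalarTower k R H] (halg : ∀ q, algebraMap R H q = φ q)

/-- `h ↦ h ⊗ 1` as an `O(Q)`-linear map. -/
noncomputable def inc1 : H →ₗ[R] H ⊗[k] K :=
  (Algebra.TensorProduct.includeLeft : H →ₐ[R] H ⊗[k] K).toLinearMap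

lemma inc1_apply (h : H) : inc1 (k := k) (R := R) (K := K) h = h ⊗ₜ[k] 1 := rfl

lemma lTensor_inc1 (w : H ⊗[R] H) :
    (inc1 (k := k) (R := R) (K := K)).lTensor H w = iot w := by
  induction w using TensorProduct.induction_on with
  | zero => simp
  | tmul s h => rfl
  | add a b ha hb => simp only [map_add, ha, hb]

lemma lTensor_mulLeft_lam (c : K) (w : H ⊗[R] H) :
    ((LinearMap.mulLeft R ((1 : H) ⊗ₜ[k] c)) ∘ₗ (lam hker halg).toLinearMap).lTensor H w =
      (Kpt (k := k) (R := R) (H := H)).ofConv c * Lam hker halg w := by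
  induction w using TensorProduct.induction_on with
  | zero => simp
  | tmul s h =>
    rw [LinearMap.lTensor_tmul, Lam_tmul, Kpt_apply, Algebra.TensorProduct.tmul_mul_tmul, one_mul]
    rfl
  | add a b ha hb => simp only [map_add, mul_add, ha, hb]

lemma contrL_one_tmul_mul (α : H →ₗ[k] k) (c : K) (w : H ⊗[k] K) :
    contrL K α (((1 : H) ⊗ₜ[k] c) * w) = c * contrL K α w := by
  induction w using TensorProduct.induction_on with
  | zero => simp
  | tmul h c' =>
    rw [Algebra.TensorProduct.tmul_mul_tmul, one_mul, contrL_tmul, contrL_tmul, mul_smul_comm]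
  | add a b ha hb => simp only [map_add, mul_add, ha, hb]

omit [Algebra R H] [IsScalarTower k R H] in
lemma contrL_lamk {α : H →ₗ[k] k} (hα : IsTrivIntegral k H α) (z : H) :
    contrL K α (lamk ψ z) = α z • (1 : K) := by
  rw [isTrivIntegral_iff] at hα
  have h1 : lamk ψ z = (ψ : H →ₗ[k] K).lTensor H (Coalgebra.comul (R := k) z) := by
    rw [lamk_apply]
    generalize Coalgebra.comul (R := k) z = w
    induction w using TensorProduct.induction_on with
    | zero => simp
    | tmul a b => rfl
    | add a b ha hb => simp only [map_add, ha, hb]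
  rw [h1, contrL_lTensor]
  have h2 : contrL H α (Coalgebra.comul (R := k) z) =
      (TensorProduct.lid k H) (α.rTensor H (Coalgebra.comul (R := k) z)) := rfl
  rw [h2, ← hα.1 z, TensorProduct.lid_tmul, map_smul]
  change α z • ψ 1 = _
  rw [map_one]

include hker halg in
/-- exactness of `K`-invariants on surjections onto the trivial comodule, from a total integral on
`G`. -/
theorem exists_fixed_of_integral (hφ : Function.Injective φ) (hψ : Function.Surjective ψ)
    {α : H →ₗ[k] k} (hα : IsTrivIntegral k H α)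
    (X : Type u) [AddCommGroup X] [Module k X] (cX : Comod k K X) [Module.Finite k X]
    (π : X →ₗ[k] k) (hπs : Function.Surjective π) (hπ : IsHom cX (Comod.trivial k K k) π) :
    ∃ x ∈ fixedOf cX, π x ≠ 0 := by
  classical
  letI := cX
  haveI : Module.FaithfullyFlat R H := HopfFlat.faithfullyFlat_of_injective φ hφ
    (fun b a => by rw [Algebra.smul_def, halg])
  set n := Module.finrank k X with hn
  set b : Module.Basis (Fin n) k X := Module.finBasis k X with hb
  set c : Fin n → Fin n → K := fun i j => mc K b i j with hc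
  have hcoact : ∀ j, cX.coact (b j) = ∑ i, b i ⊗ₜ[k] c i j := fun j => coact_basis b j
  set p : Fin n → k := fun j => π (b j) with hp
  -- `π` is a comodule map
  have hpc : ∀ j, ∑ i, p i • c i j = p j • (1 : K) := by
    intro j
    have h1 := (isHom_iff _ _ _).1 hπ (b j)
    rw [hcoact, map_sum] at h1
    simp only [LinearMap.rTensor_tmul] at h1
    have h2 := congrArg (TensorProduct.lid k K) h1
    rw [map_sum] at h2
    simp only [TensorProduct.lid_tmul] at h2
    rw [← h2]
    change (TensorProduct.lid k K) (π (b j) ⊗ₜ[k] (1 : K)) = _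
    rw [TensorProduct.lid_tmul]
  obtain ⟨x₀, hx₀⟩ := hπs 1
  set ξ : Fin n → k := fun j => b.repr x₀ j with hξ
  have hξp : ∑ j, ξ j * p j = 1 := by
    rw [← hx₀]
    conv_rhs => rw [← b.sum_repr x₀, map_sum]
    refine Finset.sum_congr rfl fun j _ => ?_
    rw [map_smul, smul_eq_mul]
  -- the point `g⁻¹ g'` of `K`
  have hw : precomp φ ((ptR : Pt k H (H ⊗[R] H))⁻¹ * ptL) = 1 := by
    rw [map_mul, map_inv, precomp_ptL_eq halg, inv_mul_cancel]
  obtain ⟨Ξ, hΞ⟩ := exists_factor hψ hker _ hw
  have key := Kpt_mul_push hker halg hψ Ξ hΞ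
  have key' : ∀ l m, ∑ j, (Kpt (k := k) (R := R) (H := H)).ofConv (c l j) *
      Lam hker halg (Ξ.ofConv (c j m)) = iot (Ξ.ofConv (c l m)) := by
    intro l m
    have h1 : (Kpt * push (Lam hker halg) Ξ).ofConv (c l m) =
        (push (iot (K := K)) Ξ).ofConv (c l m) := by rw [key]
    rw [AlgHom.convMul_apply, hc] at h1
    simp only [comul_mc, map_sum, Algebra.TensorProduct.lift_tmul] at h1
    exact h1
  set y : Fin n → H ⊗[R] H := fun j => ∑ m, ξ m • Ξ.ofConv (c j m) with hy
  let D : Option (Fin n) → Fin n → (H →ₗ[R] H ⊗[k] K) := fun l j =>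
    match l with
    | some l => (LinearMap.mulLeft R ((1 : H) ⊗ₜ[k] c l j)) ∘ₗ (lam hker halg).toLinearMap -
        (if l = j then inc1 else 0)
    | none => (algebraMap k R (p j)) • inc1
  let nn : Option (Fin n) → H ⊗[k] K := fun l =>
    match l with
    | some _ => 0
    | none => 1
  have hsys : ∀ l, ∑ j, (D l j).lTensor H (y j) = (1 : H) ⊗ₜ[R] nn l := by
    intro l
    cases l with
    | none =>
      change ∑ j, ((algebraMap k R (p j)) • inc1).lTensor H (y j) = (1 : H) ⊗ₜ[R] (1 : H ⊗[k] K)
      have h1 : ∀ j, ((algebraMap k R (p j)) • inc1 (k := k) (R := R) (K := K)).lTensor H (y j) =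
          iot (p j • y j) := by
        intro j
        rw [LinearMap.lTensor_smul, LinearMap.smul_apply, lTensor_inc1, algebraMap_smul, map_smul]
      simp only [h1]
      rw [← map_sum]
      have h2 : ∑ j, p j • y j = 1 := by
        simp only [hy, Finset.smul_sum]
        rw [Finset.sum_comm]
        have h3 : ∀ m, ∑ j, p j • ξ m • Ξ.ofConv (c j m) = (ξ m * p m) • (1 : H ⊗[R] H) := by
          intro m
          have : ∀ j, p j • ξ m • Ξ.ofConv (c j m) = ξ m • Ξ.ofConv (p j • c j m) := by
            intro j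
            rw [map_smul, smul_comm]
          simp only [this]
          rw [← Finset.smul_sum, ← map_sum, hpc, map_smul, map_one, smul_smul]
        simp only [h3]
        rw [← Finset.sum_smul, hξp, one_smul]
      rw [h2, map_one]
      rfl
    | some l =>
      change ∑ j, ((LinearMap.mulLeft R ((1 : H) ⊗ₜ[k] c l j)) ∘ₗ (lam hker halg).toLinearMap -
        (if l = j then inc1 else 0)).lTensor H (y j) = (1 : H) ⊗ₜ[R] (0 : H ⊗[k] K)
      rw [TensorProduct.tmul_zero]
      have h1 : ∀ j, ((LinearMap.mulLeft R ((1 : H) ⊗ₜ[k] c l j)) ∘ₗ (lam hker halg).toLinearMap -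
          (if l = j then inc1 else 0)).lTensor H (y j) =
          (Kpt (k := k) (R := R) (H := H)).ofConv (c l j) * Lam hker halg (y j) -
            (if l = j then iot (y j) else 0) := by
        intro j
        rw [LinearMap.lTensor_sub, LinearMap.sub_apply, lTensor_mulLeft_lam]
        split_ifs
        · rw [lTensor_inc1]
        · rw [LinearMap.lTensor_zero, LinearMap.zero_apply]
      simp only [h1]
      rw [Finset.sum_sub_distrib, Finset.sum_ite_eq, if_pos (Finset.mem_univ l), sub_eq_zero]
      simp only [hy, map_sum, map_smul, Finset.mul_sum, mul_smul_comm]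
      rw [Finset.sum_comm]
      refine Finset.sum_congr rfl fun m _ => ?_
      rw [← Finset.smul_sum, key']
  obtain ⟨z, hz⟩ := exists_solution_of_lTensor (S := H) D nn y hsys
  refine ⟨∑ j, α (z j) • b j, ?_, ?_⟩
  · -- fixed
    rw [mem_fixedOf]
    have h1 : ∀ i, ∑ j, α (z j) • c i j = α (z i) • (1 : K) := by
      intro i
      have h2 := hz (some i)
      change ∑ j, ((LinearMap.mulLeft R ((1 : H) ⊗ₜ[k] c i j)) ∘ₗ (lam hker halg).toLinearMap -
        (if i = j then inc1 else 0) : H →ₗ[R] H ⊗[k] K) (z j) = 0 at h2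
      have h3 : ∀ j, ((LinearMap.mulLeft R ((1 : H) ⊗ₜ[k] c i j)) ∘ₗ (lam hker halg).toLinearMap -
          (if i = j then inc1 else 0) : H →ₗ[R] H ⊗[k] K) (z j) =
          ((1 : H) ⊗ₜ[k] c i j) * lamk ψ (z j) - (if i = j then (z j) ⊗ₜ[k] (1 : K) else 0) := by
        intro j
        rw [LinearMap.sub_apply]
        split_ifs <;> rfl
      simp only [h3] at h2
      rw [Finset.sum_sub_distrib, Finset.sum_ite_eq, if_pos (Finset.mem_univ i), sub_eq_zero] at h2
      have h4 := congrArg (contrL K α) h2
      rw [map_sum, contrL_tmul] at h4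
      simp only [contrL_one_tmul_mul, contrL_lamk hα, mul_smul_comm, mul_one] at h4
      exact h4
    rw [map_sum, TensorProduct.sum_tmul]
    simp only [map_smul, hcoact, Finset.smul_sum]
    rw [Finset.sum_comm]
    refine Finset.sum_congr rfl fun i _ => ?_
    simp only [TensorProduct.smul_tmul', TensorProduct.smul_tmul]
    rw [← TensorProduct.tmul_sum, h1]
  · -- `π x' = 1`
    have h2 := hz none
    change ∑ j, ((algebraMap k R (p j)) • inc1 (k := k) (R := R) (K := K)) (z j) = 1 at h2
    have h3 : ∀ j, ((algebraMap k R (p j)) • inc1 (k := k) (R := R) (K := K)) (z j) =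
        p j • ((z j) ⊗ₜ[k] (1 : K)) := by
      intro j
      rw [LinearMap.smul_apply, algebraMap_smul]
      rfl
    simp only [h3] at h2
    have h4 := congrArg (contrL K α) h2
    rw [map_sum] at h4
    simp only [map_smul, contrL_tmul] at h4
    have h5 := congrArg (Coalgebra.counit (R := k) (A := K)) h4
    rw [map_sum] at h5
    simp only [map_smul, Bialgebra.counit_one, smul_eq_mul, mul_one] at h5
    have h6 : π (∑ j, α (z j) • b j) = 1 := by
      rw [map_sum]
      simp only [map_smul, smul_eq_mul]
      have h7 : contrL K α (1 : H ⊗[k] K) = 1 := by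
        rw [Algebra.TensorProduct.one_def, contrL_tmul, ((isTrivIntegral_iff α).1 hα).2, one_smul]
      rw [h7, Bialgebra.counit_one] at h5
      rw [← h5]
      exact Finset.sum_congr rfl fun j _ => mul_comm _ _
    rw [h6]
    exact one_ne_zero

end

end Groth.Agent.Lib.Helper7.HopfExact
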