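import Mathlib
import Groth.Agent.Lib.Helper7.EX5

/-!
# Torsors under a closed subgroup with affine quotient: invariants are exact (helper7)

Generalisation of `EX4`/`EX5`: `H = O(G)`, `K = O(H₀)` for a closed subgroup, `R → H` a faithfully
flat ring map such that `R` consists of right `K`-invariants and `g' ↦ g⁻¹ g'` on `G ×_R G` factors
through the subgroup.
-/

set_option autoImplicit false
universe u
open TensorProduct WithConv

namespace Groth.Agent.Lib.Helper7.HopfTorsor

open HopfRep Groth.Agent.Lib.Helper7 Groth.Agent.Lib.Helper7.Comod Groth.Agent.Lib.Helper7.HH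
  Groth.Agent.Lib.Helper7.Pts Groth.Agent.Lib.Helper7.StabIdeal Groth.Agent.Lib.Helper7.HopfExact

variable {k : Type u} [Field k] {R H K : Type u} [CommRing R] [Algebra k R]
  [CommRing H] [HopfAlgebra k H] [CommRing K] [HopfAlgebra k K]
  {ψ : H →ₐc[k] K}
variable [Algebra R H] [IsScalarTower k R H]

/-- the first projection `G ×_R G → G` as a point. -/
noncomputable def ptL : Pt k H (H ⊗[R] H) := toConv Algebra.TensorProduct.includeLeft

/-- the second projection `G ×_R G → G` as a point. -/
noncomputable def ptR : Pt k H (H ⊗[R] H) :=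
  toConv ((Algebra.TensorProduct.includeRight (R := R) (A := H) (B := H)).restrictScalars k)

lemma ptL_apply (h : H) : (ptL (k := k) (R := R) (H := H)).ofConv h = h ⊗ₜ[R] 1 := rfl

lemma ptR_apply (h : H) : (ptR (k := k) (R := R) (H := H)).ofConv h = 1 ⊗ₜ[R] h := rfl

section

variable (h1 : ∀ r : R, lamk ψ (algebraMap R H r) = algebraMap R H r ⊗ₜ[k] 1)

/-- right translation by the subgroup as an `R`-algebra map. -/
noncomputable def lam : H →ₐ[R] H ⊗[k] K :=
  { (lamk ψ).toRingHom with
    commutes' := by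
      intro q
      change lamk ψ (algebraMap R H q) = _
      rw [Algebra.TensorProduct.algebraMap_apply, h1] }

lemma lam_apply (h : H) : lam h1 h = lamk ψ h := rfl

/-- the ring of functions on `G ×_R G × H₀`. -/
abbrev TT (k R H K : Type u) [Field k] [CommRing R] [Algebra k R] [CommRing H] [HopfAlgebra k H]
    [CommRing K] [HopfAlgebra k K] [Algebra R H] [IsScalarTower k R H] : Type u :=
  H ⊗[R] (H ⊗[k] K)

/-- `(g', g, κ) ↦ (g', g κ)`. -/
noncomputable def Lam : H ⊗[R] H →ₐ[k] TT k R H K :=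
  (Algebra.TensorProduct.map (AlgHom.id R H) (lam h1)).restrictScalars k

/-- `(g', g, κ) ↦ (g', g)`. -/
noncomputable def iot : H ⊗[R] H →ₐ[k] TT k R H K :=
  (Algebra.TensorProduct.map (AlgHom.id R H)
    (Algebra.TensorProduct.includeLeft : H →ₐ[R] H ⊗[k] K)).restrictScalars k

/-- `(g', g, κ) ↦ κ`. -/
noncomputable def Kpt : Pt k K (TT k R H K) :=
  toConv (((Algebra.TensorProduct.includeRight (R := R) (A := H) (B := H ⊗[k] K)).restrictScalars
    k).comp (Algebra.TensorProduct.includeRight (R := k) (A := H) (B := K)))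

lemma Lam_tmul (s h : H) : Lam h1 (s ⊗ₜ[R] h) = s ⊗ₜ[R] lamk ψ h := rfl

lemma iot_tmul (s h : H) : iot (k := k) (R := R) (K := K) (s ⊗ₜ[R] h) = s ⊗ₜ[R] (h ⊗ₜ[k] 1) := rfl

lemma Kpt_apply (c : K) : (Kpt (k := k) (R := R) (H := H)).ofConv c = 1 ⊗ₜ[R] (1 ⊗ₜ[k] c) := rfl

lemma push_Lam_ptL : HH.push (Lam h1) ptL = HH.push (iot (K := K)) ptL := by
  apply WithConv.ext
  apply AlgHom.ext
  intro h
  rw [HH.push_apply, HH.push_apply]
  change Lam h1 (h ⊗ₜ[R] 1) = iot (h ⊗ₜ[R] 1)
  rw [Lam_tmul, iot_tmul, map_one, Algebra.TensorProduct.one_def]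

lemma push_Lam_ptR : HH.push (Lam h1) ptR = HH.push (iot (K := K)) ptR * precomp ψ Kpt := by
  apply WithConv.ext
  apply AlgHom.ext
  intro h
  rw [HH.push_apply, AlgHom.convMul_apply]
  change Lam h1 (1 ⊗ₜ[R] h) = _
  rw [Lam_tmul, lamk_apply]
  generalize Coalgebra.comul (R := k) h = z
  induction z using TensorProduct.induction_on with
  | zero => simp
  | tmul x y =>
    rw [Algebra.TensorProduct.map_tmul, Algebra.TensorProduct.lift_tmul]
    change _ = iot (1 ⊗ₜ[R] x) * (1 ⊗ₜ[R] (1 ⊗ₜ[k] ψ y))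
    rw [iot_tmul, Algebra.TensorProduct.tmul_mul_tmul, Algebra.TensorProduct.tmul_mul_tmul,
      one_mul, one_mul, mul_one]
    rfl
  | add x y hx hy => simp only [map_add, TensorProduct.tmul_add, hx, hy]

/-- the key identity: `κ · ξ(g', g κ) = ξ(g', g)` for `ξ(g', g) = g⁻¹ g'`. -/
theorem Kpt_mul_push (hψ : Function.Surjective ψ) (Ξ : Pt k K (H ⊗[R] H))
    (hΞ : precomp ψ Ξ = (ptR : Pt k H (H ⊗[R] H))⁻¹ * ptL) :
    Kpt * HH.push (Lam h1) Ξ = HH.push (iot (K := K)) Ξ := by
  apply precomp_injective hψ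
  have e1 : ∀ (f : H ⊗[R] H →ₐ[k] TT k R H K), precomp ψ (push f Ξ) = push f (precomp ψ Ξ) :=
    fun f => rfl
  rw [map_mul, e1, e1, hΞ, map_mul, map_mul, map_inv, map_inv, push_Lam_ptL, push_Lam_ptR,
    mul_inv_rev, mul_assoc, mul_inv_cancel_left]

/-- `h ↦ h ⊗ 1` as an `R`-linear map. -/
noncomputable def inc1 : H →ₗ[R] H ⊗[k] K :=
  (Algebra.TensorProduct.includeLeft : H →ₐ[R] H ⊗[k] K).toLinearMap

lemma inc1_apply (h : H) : inc1 (k := k) (R := R) (K := K) h = h ⊗ₜ[k] 1 := rfl

lemma lTensor_inc1 (w : H ⊗[R] H) :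
    (inc1 (k := k) (R := R) (K := K)).lTensor H w = iot w := by
  induction w using TensorProduct.induction_on with
  | zero => simp
  | tmul s h => rfl
  | add a b ha hb => simp only [map_add, ha, hb]

lemma lTensor_mulLeft_lam (c : K) (w : H ⊗[R] H) :
    ((LinearMap.mulLeft R ((1 : H) ⊗ₜ[k] c)) ∘ₗ (lam h1).toLinearMap).lTensor H w =
      (Kpt (k := k) (R := R) (H := H)).ofConv c * Lam h1 w := by
  induction w using TensorProduct.induction_on with
  | zero => simp
  | tmul s h =>
    rw [LinearMap.lTensor_tmul, Lam_tmul, Kpt_apply, Algebra.TensorProduct.tmul_mul_tmul, one_mul]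
    rfl
  | add a b ha hb => simp only [map_add, mul_add, ha, hb]

include h1 in
/-- exactness of invariants of the subgroup on surjections onto the trivial comodule, from a total
integral on `G`, when `G → Spec R` is a torsor. -/
theorem exists_fixed_of_integral [Module.FaithfullyFlat R H] (hψ : Function.Surjective ψ)
    (Ξ : Pt k K (H ⊗[R] H)) (hΞ : precomp ψ Ξ = (ptR : Pt k H (H ⊗[R] H))⁻¹ * ptL)
    {α : H →ₗ[k] k} (hα : IsTrivIntegral k H α)
    (X : Type u) [AddCommGroup X] [Module k X] (cX : Comod k K X) [Module.Finite k X]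
    (π : X →ₗ[k] k) (hπs : Function.Surjective π) (hπ : IsHom cX (Comod.trivial k K k) π) :
    ∃ x ∈ fixedOf cX, π x ≠ 0 := by
  classical
  letI := cX
  set n := Module.finrank k X with hn
  set b : Module.Basis (Fin n) k X := Module.finBasis k X with hb
  set c : Fin n → Fin n → K := fun i j => mc K b i j with hc
  have hcoact : ∀ j, cX.coact (b j) = ∑ i, b i ⊗ₜ[k] c i j := fun j => coact_basis b j
  set p : Fin n → k := fun j => π (b j) with hp
  -- `π` is a comodule map
  have hpc : ∀ j, ∑ i, p i • c i j = p j • (1 : K) := by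
    intro j
    have e1 := (isHom_iff _ _ _).1 hπ (b j)
    rw [hcoact, map_sum] at e1
    simp only [LinearMap.rTensor_tmul] at e1
    have e2 := congrArg (TensorProduct.lid k K) e1
    rw [map_sum] at e2
    simp only [TensorProduct.lid_tmul] at e2
    rw [← e2]
    change (TensorProduct.lid k K) (π (b j) ⊗ₜ[k] (1 : K)) = _
    rw [TensorProduct.lid_tmul]
  obtain ⟨x₀, hx₀⟩ := hπs 1
  set ξ : Fin n → k := fun j => b.repr x₀ j with hξ
  have hξp : ∑ j, ξ j * p j = 1 := by
    rw [← hx₀]
    conv_rhs => rw [← b.sum_repr x₀, map_sum]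
    refine Finset.sum_congr rfl fun j _ => ?_
    rw [map_smul, smul_eq_mul]
  have key := Kpt_mul_push h1 hψ Ξ hΞ
  have key' : ∀ l m, ∑ j, (Kpt (k := k) (R := R) (H := H)).ofConv (c l j) *
      Lam h1 (Ξ.ofConv (c j m)) = iot (Ξ.ofConv (c l m)) := by
    intro l m
    have e1 : (Kpt * HH.push (Lam h1) Ξ).ofConv (c l m) =
        (HH.push (iot (K := K)) Ξ).ofConv (c l m) := by rw [key]
    rw [AlgHom.convMul_apply, hc] at e1
    simp only [comul_mc, map_sum, Algebra.TensorProduct.lift_tmul] at e1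
    exact e1
  set y : Fin n → H ⊗[R] H := fun j => ∑ m, ξ m • Ξ.ofConv (c j m) with hy
  let D : Option (Fin n) → Fin n → (H →ₗ[R] H ⊗[k] K) := fun l j =>
    match l with
    | some l => (LinearMap.mulLeft R ((1 : H) ⊗ₜ[k] c l j)) ∘ₗ (lam h1).toLinearMap -
        (if l = j then inc1 else 0)
    | none => (algebraMap k R (p j)) • inc1
  let nn : Option (Fin n) → H ⊗[k] K := fun l =>
    match l with
    | some _ => 0
    | none => 1
  have hsys : ∀ l, ∑ j, (D l j).lTensor H (y j) = (1 : H) ⊗ₜ[R] nn l := by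
    intro l
    cases l with
    | none =>
      change ∑ j, ((algebraMap k R (p j)) • inc1).lTensor H (y j) = (1 : H) ⊗ₜ[R] (1 : H ⊗[k] K)
      have e1 : ∀ j, ((algebraMap k R (p j)) • inc1 (k := k) (R := R) (K := K)).lTensor H (y j) =
          iot (p j • y j) := by
        intro j
        rw [LinearMap.lTensor_smul, LinearMap.smul_apply, lTensor_inc1, algebraMap_smul, map_smul]
      simp only [e1]
      rw [← map_sum]
      have e2 : ∑ j, p j • y j = 1 := by
        simp only [hy, Finset.smul_sum]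
        rw [Finset.sum_comm]
        have e3 : ∀ m, ∑ j, p j • ξ m • Ξ.ofConv (c j m) = (ξ m * p m) • (1 : H ⊗[R] H) := by
          intro m
          have : ∀ j, p j • ξ m • Ξ.ofConv (c j m) = ξ m • Ξ.ofConv (p j • c j m) := by
            intro j
            rw [map_smul, smul_comm]
          simp only [this]
          rw [← Finset.smul_sum, ← map_sum, hpc, map_smul, map_one, smul_smul]
        simp only [e3]
        rw [← Finset.sum_smul, hξp, one_smul]
      rw [e2, map_one]
      rfl
    | some l =>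
      change ∑ j, ((LinearMap.mulLeft R ((1 : H) ⊗ₜ[k] c l j)) ∘ₗ (lam h1).toLinearMap -
        (if l = j then inc1 else 0)).lTensor H (y j) = (1 : H) ⊗ₜ[R] (0 : H ⊗[k] K)
      rw [TensorProduct.tmul_zero]
      have e1 : ∀ j, ((LinearMap.mulLeft R ((1 : H) ⊗ₜ[k] c l j)) ∘ₗ (lam h1).toLinearMap -
          (if l = j then inc1 else 0)).lTensor H (y j) =
          (Kpt (k := k) (R := R) (H := H)).ofConv (c l j) * Lam h1 (y j) -
            (if l = j then iot (y j) else 0) := by
        intro j
        rw [LinearMap.lTensor_sub, LinearMap.sub_apply, lTensor_mulLeft_lam]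
        split_ifs
        · rw [lTensor_inc1]
        · rw [LinearMap.lTensor_zero, LinearMap.zero_apply]
      simp only [e1]
      rw [Finset.sum_sub_distrib, Finset.sum_ite_eq, if_pos (Finset.mem_univ l), sub_eq_zero]
      simp only [hy, map_sum, map_smul, Finset.mul_sum, mul_smul_comm]
      rw [Finset.sum_comm]
      refine Finset.sum_congr rfl fun m _ => ?_
      rw [← Finset.smul_sum, key']
  obtain ⟨z, hz⟩ := exists_solution_of_lTensor (S := H) D nn y hsys
  refine ⟨∑ j, α (z j) • b j, ?_, ?_⟩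
  · -- fixed
    rw [mem_fixedOf]
    have e1 : ∀ i, ∑ j, α (z j) • c i j = α (z i) • (1 : K) := by
      intro i
      have e2 := hz (some i)
      change ∑ j, ((LinearMap.mulLeft R ((1 : H) ⊗ₜ[k] c i j)) ∘ₗ (lam h1).toLinearMap -
        (if i = j then inc1 else 0) : H →ₗ[R] H ⊗[k] K) (z j) = 0 at e2
      have e3 : ∀ j, ((LinearMap.mulLeft R ((1 : H) ⊗ₜ[k] c i j)) ∘ₗ (lam h1).toLinearMap -
          (if i = j then inc1 else 0) : H →ₗ[R] H ⊗[k] K) (z j) =
          ((1 : H) ⊗ₜ[k] c i j) * lamk ψ (z j) - (if i = j then (z j) ⊗ₜ[k] (1 : K) else 0) := by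
        intro j
        rw [LinearMap.sub_apply]
        split_ifs <;> rfl
      simp only [e3] at e2
      rw [Finset.sum_sub_distrib, Finset.sum_ite_eq, if_pos (Finset.mem_univ i), sub_eq_zero] at e2
      have e4 := congrArg (contrL K α) e2
      rw [map_sum, contrL_tmul] at e4
      simp only [contrL_one_tmul_mul, contrL_lamk hα, mul_smul_comm, mul_one] at e4
      exact e4
    rw [map_sum, TensorProduct.sum_tmul]
    simp only [map_smul, hcoact, Finset.smul_sum]
    rw [Finset.sum_comm]
    refine Finset.sum_congr rfl fun i _ => ?_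
    simp only [TensorProduct.smul_tmul', TensorProduct.smul_tmul]
    rw [← TensorProduct.tmul_sum, e1]
  · -- `π x' = 1`
    have e2 := hz none
    change ∑ j, ((algebraMap k R (p j)) • inc1 (k := k) (R := R) (K := K)) (z j) = 1 at e2
    have e3 : ∀ j, ((algebraMap k R (p j)) • inc1 (k := k) (R := R) (K := K)) (z j) =
        p j • ((z j) ⊗ₜ[k] (1 : K)) := by
      intro j
      rw [LinearMap.smul_apply, algebraMap_smul]
      rfl
    simp only [e3] at e2
    have e4 := congrArg (contrL K α) e2
    rw [map_sum] at e4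
    simp only [map_smul, contrL_tmul] at e4
    have e5 := congrArg (Coalgebra.counit (R := k) (A := K)) e4
    rw [map_sum] at e5
    simp only [map_smul, Bialgebra.counit_one, smul_eq_mul, mul_one] at e5
    have e6 : π (∑ j, α (z j) • b j) = 1 := by
      rw [map_sum]
      simp only [map_smul, smul_eq_mul]
      have e7 : contrL K α (1 : H ⊗[k] K) = 1 := by
        rw [Algebra.TensorProduct.one_def, contrL_tmul, ((isTrivIntegral_iff α).1 hα).2, one_smul]
      rw [e7, Bialgebra.counit_one] at e5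
      rw [← e5]
      exact Finset.sum_congr rfl fun j _ => mul_comm _ _
    rw [e6]
    exact one_ne_zero

end

end Groth.Agent.Lib.Helper7.HopfTorsor
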