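import Mathlib
import Groth.Agent.Lib.Helper7.EX6
import Groth.Prelude.Def_CoactBr
import Groth.Prelude.Def_RedSub

/-!
# Affine fppf quotients `G/H` in Hopf form (helper7)
-/

set_option autoImplicit false
universe u
open TensorProduct WithConv
open CategoryTheory MonoidalCategory CartesianMonoidalCategory AlgebraicGeometry MonObj

namespace Groth.Agent.Lib.Helper7.HopfTorsor

open HopfRep Groth.Agent.Lib.Helper7 Groth.Agent.Lib.Helper7.HH
  Groth.Agent.Lib.Helper7.Pts Groth.Agent.Lib.Helper7.HopfExact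

section Sch

variable {A : Type u} [CommRing A] {Y : Scheme.{u}} (f : Spec (CommRingCat.of A) ⟶ Y)

/-- the ring map on global sections of a morphism from an affine scheme. -/
noncomputable def betaS : Γ(Y, ⊤) →+* A :=
  (f.appTop ≫ (Scheme.ΓSpecIso (CommRingCat.of A)).hom).hom

lemma betaS_eq : betaS f =
    (Scheme.ΓSpecIso (CommRingCat.of A)).hom.hom.comp (f.appTop).hom := rfl

theorem flat_betaS [IsAffine Y] (hf : Flat f) : (betaS f).Flat := by
  have h1 : RingHom.Flat (f.appTop).hom :=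
    (HasRingHomProperty.iff_of_isAffine (P := @Flat)).1 hf
  rw [betaS_eq]
  refine RingHom.Flat.comp h1 (RingHom.Flat.of_bijective ?_)
  exact ConcreteCategory.bijective_of_isIso (Scheme.ΓSpecIso (CommRingCat.of A)).hom

theorem comap_betaS_surjective [IsAffine Y] (hs : Surjective f) :
    Function.Surjective (PrimeSpectrum.comap (betaS f)) := by
  have h1 : Spec.map (f.appTop) =
      (Spec (CommRingCat.of A)).isoSpec.inv ≫ f ≫ Y.isoSpec.hom := by
    rw [Iso.eq_inv_comp]
    exact Scheme.isoSpec_hom_naturality f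
  have h2 : Surjective (Spec.map (f.appTop)) := by
    rw [h1]
    infer_instance
  have h4 : Surjective (Spec.map (CommRingCat.ofHom (betaS f))) := by
    have : CommRingCat.ofHom (betaS f) =
        f.appTop ≫ (Scheme.ΓSpecIso (CommRingCat.of A)).hom := rfl
    rw [this, Spec.map_comp]
    infer_instance
  intro p
  obtain ⟨x, hx⟩ := h4.surj p
  exact ⟨x, hx⟩

theorem faithfullyFlat_betaS [IsAffine Y] (hs : Surjective f) (hf : Flat f) :
    @Module.FaithfullyFlat Γ(Y, ⊤) A _ _ (betaS f).toAlgebra.toModule := by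
  letI : Algebra Γ(Y, ⊤) A := (betaS f).toAlgebra
  haveI : Module.Flat Γ(Y, ⊤) A := flat_betaS f hf
  exact Module.FaithfullyFlat.of_comap_surjective (comap_betaS_surjective f hs)

theorem specMap_comp_eq_iff [IsAffine Y] {T : Type u} [CommRing T] (x y : A →+* T) :
    Spec.map (CommRingCat.ofHom x) ≫ f = Spec.map (CommRingCat.ofHom y) ≫ f ↔
      x.comp (betaS f) = y.comp (betaS f) := by
  have key : ∀ z : A →+* T, (Spec.map (CommRingCat.ofHom z) ≫ f).appTop ≫
      (Scheme.ΓSpecIso (CommRingCat.of T)).hom = CommRingCat.ofHom (z.comp (betaS f)) := by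
    intro z
    rw [Scheme.Hom.comp_appTop, Category.assoc, Scheme.ΓSpecIso_naturality, ← Category.assoc]
    rfl
  constructor
  · intro h
    have h1 := key x
    rw [h, key y] at h1
    exact (congrArg CommRingCat.Hom.hom h1).symm
  · intro h
    apply ext_of_isAffine
    rw [← cancel_mono (Scheme.ΓSpecIso (CommRingCat.of T)).hom, key x, key y, h]

end Sch

variable {k : Type u} [Field k] {AG AH : Type u} [CommRing AG] [HopfAlgebra k AG]
  [CommRing AH] [HopfAlgebra k AH] (ψ : AG →ₐc[k] AH)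
  {Q : Over (Spec (CommRingCat.of k))} (q : CoactBr.sp k AG ⟶ Q)

/-- the ring of functions of the quotient. -/
abbrev BQ (Q : Over (Spec (CommRingCat.of k))) : Type u := Γ(Q.left, ⊤)

/-- the ring map `O(Q) → O(G)`. -/
noncomputable def betaR : BQ Q →+* AG :=
  betaS (q.left : Spec (CommRingCat.of AG) ⟶ Q.left)

/-- the `k`-algebra structure on `O(Q)`. -/
@[instance_reducible] noncomputable def algKB (Q : Over (Spec (CommRingCat.of k))) : Algebra k (BQ Q) :=
  ((Scheme.ΓSpecIso (CommRingCat.of k)).inv ≫ Q.hom.appTop).hom.toAlgebra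

lemma betaR_algebraMap (c : k) :
    betaR q (@algebraMap k (BQ Q) _ _ (algKB Q) c) = algebraMap k AG c := by
  have h1 : q.left ≫ Q.hom = Spec.map (CommRingCat.ofHom (algebraMap k AG)) := Over.w q
  have h2 := congrArg Scheme.Hom.appTop h1
  rw [Scheme.Hom.comp_appTop] at h2
  have h3 := ConcreteCategory.congr_hom h2 ((Scheme.ΓSpecIso (CommRingCat.of k)).inv.hom c)
  have h4 := ConcreteCategory.congr_hom
    (Scheme.ΓSpecIso_naturality (CommRingCat.ofHom (algebraMap k AG)))
    ((Scheme.ΓSpecIso (CommRingCat.of k)).inv.hom c)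
  have h5 : (Scheme.ΓSpecIso (CommRingCat.of k)).hom.hom
      ((Scheme.ΓSpecIso (CommRingCat.of k)).inv.hom c) = c :=
    ConcreteCategory.congr_hom (Scheme.ΓSpecIso (CommRingCat.of k)).inv_hom_id c
  exact (congrArg (Scheme.ΓSpecIso (CommRingCat.of AG)).hom.hom h3).trans
    (h4.trans (congrArg (algebraMap k AG) h5))

theorem faithfullyFlat_betaR [IsAffine Q.left] (hs : Surjective q.left) (hf : Flat q.left) :
    @Module.FaithfullyFlat (BQ Q) AG _ _ (betaR q).toAlgebra.toModule :=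
  faithfullyFlat_betaS (q.left : Spec (CommRingCat.of AG) ⟶ Q.left) hs hf

theorem pt_comp_eq_iff [IsAffine Q.left] {T : Type u} [CommRing T] [Algebra k T]
    (x y : AG →ₐ[k] T) :
    CoactBr.pt x ≫ q = CoactBr.pt y ≫ q ↔ ∀ b, x (betaR q b) = y (betaR q b) := by
  have h0 := specMap_comp_eq_iff (q.left : Spec (CommRingCat.of AG) ⟶ Q.left)
    x.toRingHom y.toRingHom
  constructor
  · intro h b
    have h1 : Spec.map (CommRingCat.ofHom x.toRingHom) ≫ q.left =
        Spec.map (CommRingCat.ofHom y.toRingHom) ≫ q.left := congrArg CommaMorphism.left h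
    exact RingHom.congr_fun (h0.1 h1) b
  · intro h
    apply Over.OverMorphism.ext
    exact h0.2 (RingHom.ext h)

section Quot

variable {ψ}
variable (hq : RedSub.IsQuotient (CoactBr.pt (ψ : AG →ₐ[k] AH)) q)

/-- the action map `(g, h) ↦ g h` on points. -/
lemma lift_pt_pt_act {T : Type u} [CommRing T] [Algebra k T] (g : AG →ₐ[k] T) (h : AH →ₐ[k] T) :
    lift (CoactBr.pt g) (CoactBr.pt h) ≫
      ((CoactBr.sp k AG ◁ CoactBr.pt (ψ : AG →ₐ[k] AH)) ≫ μ[CoactBr.sp k AG]) =
      CoactBr.pt (toConv g * toConv (h.comp (ψ : AG →ₐ[k] AH))).ofConv := by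
  rw [lift_whiskerLeft_assoc, ← Hom.mul_def, ← CoactBr.pt_comp, CoactBr.pt_mul_pt]
  congr 1
  apply AlgHom.ext
  intro c
  rw [AlgHom.convMul_apply]
  rfl

include hq in
theorem lamk_betaR [IsAffine Q.left] (b : BQ Q) :
    lamk ψ (betaR q b) = betaR q b ⊗ₜ[k] 1 := by
  have hw := hq.2.2.2.w
  have h1 := congrArg (fun f => lift (CoactBr.pt (Algebra.TensorProduct.includeLeft :
    AG →ₐ[k] AG ⊗[k] AH)) (CoactBr.pt (Algebra.TensorProduct.includeRight :
    AH →ₐ[k] AG ⊗[k] AH)) ≫ f) hw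
  rw [lift_fst_assoc, ← Category.assoc, lift_pt_pt_act] at h1
  have h2 := (pt_comp_eq_iff q _ _).1 h1 b
  rw [Algebra.TensorProduct.includeLeft_apply] at h2
  rw [h2, AlgHom.convMul_apply, lamk_apply]
  generalize Coalgebra.comul (R := k) (betaR q b) = z
  induction z using TensorProduct.induction_on with
  | zero => simp
  | tmul x y =>
    rw [Algebra.TensorProduct.map_tmul, Algebra.TensorProduct.lift_tmul]
    change _ = (x ⊗ₜ[k] (1 : AH)) * ((1 : AG) ⊗ₜ[k] ψ y)
    rw [Algebra.TensorProduct.tmul_mul_tmul, _root_.one_mul, _root_.mul_one]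
    rfl
  | add x y hx hy => simp only [map_add, hx, hy]

include hq in
theorem exists_point [IsAffine Q.left] :
    letI : Algebra k (BQ Q) := algKB Q
    letI : Algebra (BQ Q) AG := (betaR q).toAlgebra
    haveI : IsScalarTower k (BQ Q) AG := IsScalarTower.of_algebraMap_eq (fun c =>
      (betaR_algebraMap q c).symm)
    ∃ Ξ : Pt k AH (AG ⊗[BQ Q] AG), precomp ψ Ξ =
      (ptR (k := k) (R := BQ Q) (H := AG))⁻¹ * ptL (k := k) (R := BQ Q) (H := AG) := by
  letI : Algebra k (BQ Q) := algKB Q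
  letI : Algebra (BQ Q) AG := (betaR q).toAlgebra
  haveI : IsScalarTower k (BQ Q) AG := IsScalarTower.of_algebraMap_eq (fun c =>
    (betaR_algebraMap q c).symm)
  set x : AG →ₐ[k] AG ⊗[BQ Q] AG := (ptL (k := k) (R := BQ Q) (H := AG)).ofConv with hx
  set y : AG →ₐ[k] AG ⊗[BQ Q] AG := (ptR (k := k) (R := BQ Q) (H := AG)).ofConv with hy
  have hxy : CoactBr.pt x ≫ q = CoactBr.pt y ≫ q := by
    rw [pt_comp_eq_iff]
    intro b
    rw [hx, hy, ptL_apply, ptR_apply]
    have : betaR q b = algebraMap (BQ Q) AG b := rfl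
    rw [this, Algebra.algebraMap_eq_smul_one, TensorProduct.smul_tmul]
  set w := hq.2.2.2.lift (CoactBr.pt x) (CoactBr.pt y) hxy with hw
  have hw1 : w ≫ fst _ _ = CoactBr.pt x := hq.2.2.2.lift_fst _ _ _
  have hw2 : w ≫ ((CoactBr.sp k AG ◁ CoactBr.pt (ψ : AG →ₐ[k] AH)) ≫ μ[CoactBr.sp k AG]) =
      CoactBr.pt y := hq.2.2.2.lift_snd _ _ _
  haveI : (algSpec (CommRingCat.of k)).Full := algSpec.instFull
  obtain ⟨f, hf⟩ := (algSpec (CommRingCat.of k)).map_surjective
    (X := Opposite.op (CommAlgCat.of k (AG ⊗[BQ Q] AG))) (Y := Opposite.op (CommAlgCat.of k AH))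
    (w ≫ snd _ _)
  set Ξ₀ : AH →ₐ[k] AG ⊗[BQ Q] AG := f.unop.hom with hΞ₀
  have hpt : CoactBr.pt Ξ₀ = w ≫ snd _ _ := hf
  have hwl : w = lift (CoactBr.pt x) (CoactBr.pt Ξ₀) := by
    rw [← hw1, hpt, lift_comp_fst_snd]
  rw [hwl, lift_pt_pt_act] at hw2
  have h3 := CoactBr.pt_injective hw2
  have h4 : ptL (k := k) (R := BQ Q) (H := AG) * precomp ψ (toConv Ξ₀) =
      ptR (k := k) (R := BQ Q) (H := AG) := by
    apply WithConv.ext
    exact h3
  refine ⟨(toConv Ξ₀)⁻¹, ?_⟩
  rw [map_inv, ← h4, mul_inv_rev, inv_mul_cancel_right]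

end Quot

end Groth.Agent.Lib.Helper7.HopfTorsor
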