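import Mathlib
import Groth.Agent.Lib.Helper7.CF2
import Groth.Agent.Lib.Helper7.EX7

/-!
# Class functions: scheme-valued points versus cocommutative elements (helper7)
-/

set_option autoImplicit false
universe u
open TensorProduct WithConv
open CategoryTheory MonoidalCategory CartesianMonoidalCategory AlgebraicGeometry MonObj

namespace Groth.Agent.Lib.Helper7.ClassFn

open HopfRep Groth.Agent.Lib.Helper7 Groth.Agent.Lib.Helper7.HH Groth.Agent.Lib.Helper7.HopfTorsor

variable {k : Type u} [Field k] {A : Type u} [CommRing A] [HopfAlgebra k A]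

section Pt

variable {K : Type u} [CommRing K] [Algebra k K]

/-- ring-valued points as a monoid hom into scheme-valued points. -/
noncomputable def ptHom : Pt k A K →* (CoactBr.sp k K ⟶ CoactBr.sp k A) where
  toFun f := CoactBr.pt f.ofConv
  map_one' := CoactBr.one_eq_pt.symm
  map_mul' f g := by
    rw [CoactBr.pt_mul_pt]
    congr 1
    apply AlgHom.ext
    intro c
    rw [AlgHom.convMul_apply]
    rfl

lemma ptHom_apply (f : Pt k A K) : ptHom f = CoactBr.pt f.ofConv := rfl

/-- the pull-back of a function along a ring-valued point. -/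
lemma pt_left_appTop (φ : A →ₐ[k] K) (f : A) :
    (CoactBr.pt φ).left.appTop ((Scheme.ΓSpecIso (CommRingCat.of A)).inv f) =
      (Scheme.ΓSpecIso (CommRingCat.of K)).inv (φ f) := by
  have h := ConcreteCategory.congr_hom
    (Scheme.ΓSpecIso_inv_naturality (CommRingCat.ofHom φ.toRingHom)) f
  exact h.symm

end Pt

section Cocomm

/-- cocommutative elements are invariant under conjugation of points. -/
theorem conj_apply_of_isCocomm {f : A} (hf : IsCocomm (k := k) f) {K : Type u} [CommRing K]
    [Algebra k K] (X G : Pt k A K) : (X * G * HH.pinv X).ofConv f = G.ofConv f := by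
  have hab : ∀ a b : Pt k A K, (a * b).ofConv f = (b * a).ofConv f := by
    intro a b
    rw [AlgHom.convMul_apply, AlgHom.convMul_apply]
    unfold IsCocomm at hf
    conv_lhs => rw [← hf]
    generalize Coalgebra.comul (R := k) f = z
    induction z using TensorProduct.induction_on with
    | zero => simp
    | tmul x y => simp [mul_comm]
    | add x y hx hy => simp only [map_add, hx, hy]
  rw [← HH.inv_def, _root_.mul_assoc, hab, _root_.inv_mul_cancel_right]

/-- an element invariant under conjugation by ring-valued points is cocommutative. -/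
theorem isCocomm_of_conj_apply {f : A}
    (h : ∀ X G : Pt k A (A ⊗[k] A), (X * G * HH.pinv X).ofConv f = G.ofConv f) :
    IsCocomm (k := k) f := by
  set i₁ : Pt k A (A ⊗[k] A) := toConv Algebra.TensorProduct.includeLeft with hi₁
  set i₂ : Pt k A (A ⊗[k] A) := toConv Algebra.TensorProduct.includeRight with hi₂
  have h1 := h i₁ (i₂ * i₁)
  rw [← HH.inv_def, ← _root_.mul_assoc, _root_.mul_inv_cancel_right] at h1
  rw [AlgHom.convMul_apply, AlgHom.convMul_apply] at h1
  unfold IsCocomm
  have e1 : ∀ z : A ⊗[k] A, Algebra.TensorProduct.lift i₁.ofConv i₂.ofConv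
      (fun _ _ => Commute.all _ _) z = z := by
    intro z
    induction z using TensorProduct.induction_on with
    | zero => simp
    | tmul x y =>
      rw [Algebra.TensorProduct.lift_tmul]
      change (x ⊗ₜ[k] (1 : A)) * ((1 : A) ⊗ₜ[k] y) = _
      rw [Algebra.TensorProduct.tmul_mul_tmul, _root_.mul_one, _root_.one_mul]
    | add x y hx hy => simp only [map_add, hx, hy]
  have e2 : ∀ z : A ⊗[k] A, Algebra.TensorProduct.lift i₂.ofConv i₁.ofConv
      (fun _ _ => Commute.all _ _) z = TensorProduct.comm k A A z := by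
    intro z
    induction z using TensorProduct.induction_on with
    | zero => simp
    | tmul x y =>
      rw [Algebra.TensorProduct.lift_tmul, TensorProduct.comm_tmul]
      change ((1 : A) ⊗ₜ[k] x) * (y ⊗ₜ[k] (1 : A)) = _
      rw [Algebra.TensorProduct.tmul_mul_tmul, _root_.mul_one, _root_.one_mul]
    | add x y hx hy => simp only [map_add, hx, hy]
  rw [e1, e2] at h1
  exact h1.symm

end Cocomm

section SchLemmas

variable {X : Scheme.{u}} {R S : Type u} [CommRing R] [CommRing S]

lemma eq_toSpecΓ_comp (a : X ⟶ Spec (CommRingCat.of S)) :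
    a = X.toSpecΓ ≫ Spec.map ((Scheme.ΓSpecIso (CommRingCat.of S)).inv ≫ a.appTop) := by
  rw [Spec.map_comp, ← Scheme.toSpecΓ_naturality_assoc, toSpecΓ_SpecMap_ΓSpecIso_inv,
    Category.comp_id]

lemma sharp_comp_apply (a : X ⟶ Spec (CommRingCat.of S)) (φ : R →+* S)
    (h : X ⟶ Spec (CommRingCat.of R)) (hw : a ≫ Spec.map (CommRingCat.ofHom φ) = h) (c : R) :
    ((Scheme.ΓSpecIso (CommRingCat.of S)).inv ≫ a.appTop).hom (φ c) =
      ((Scheme.ΓSpecIso (CommRingCat.of R)).inv ≫ h.appTop).hom c := by
  subst hw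
  rw [Scheme.Hom.comp_appTop]
  have h4 := ConcreteCategory.congr_hom
    (Scheme.ΓSpecIso_inv_naturality (CommRingCat.ofHom φ)) c
  exact congrArg a.appTop.hom h4

end SchLemmas

section Affinization

variable (T : Over (Spec (CommRingCat.of k)))

/-- the affinization `T ⟶ Spec Γ(T)` over `Spec k`. -/
noncomputable def tau : letI : Algebra k (BQ T) := algKB T; T ⟶ CoactBr.sp k (BQ T) :=
  letI : Algebra k (BQ T) := algKB T
  Over.homMk T.left.toSpecΓ (by
    change T.left.toSpecΓ ≫ Spec.map ((Scheme.ΓSpecIso (CommRingCat.of k)).inv ≫ T.hom.appTop) =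
      T.hom
    rw [Spec.map_comp, ← Scheme.toSpecΓ_naturality_assoc, toSpecΓ_SpecMap_ΓSpecIso_inv,
      Category.comp_id])

variable {T}

/-- the ring map `O(G) → Γ(T)` of a `T`-valued point. -/
noncomputable def sharpR (a : T ⟶ CoactBr.sp k A) : A →+* BQ T :=
  ((Scheme.ΓSpecIso (CommRingCat.of A)).inv ≫ a.left.appTop).hom

lemma sharpR_algebraMap (a : T ⟶ CoactBr.sp k A) (c : k) :
    sharpR a (algebraMap k A c) = @algebraMap k (BQ T) _ _ (algKB T) c := by
  exact sharp_comp_apply (a.left : T.left ⟶ Spec (CommRingCat.of A)) (algebraMap k A) T.hom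
    (Over.w a) c

/-- the algebra map `O(G) → Γ(T)` of a `T`-valued point. -/
noncomputable def sharp (a : T ⟶ CoactBr.sp k A) :
    letI : Algebra k (BQ T) := algKB T; A →ₐ[k] BQ T :=
  letI : Algebra k (BQ T) := algKB T
  { sharpR a with commutes' := sharpR_algebraMap a }

lemma sharp_apply (a : T ⟶ CoactBr.sp k A) (f : A) :
    letI : Algebra k (BQ T) := algKB T
    sharp a f = a.left.appTop ((Scheme.ΓSpecIso (CommRingCat.of A)).inv f) := rfl

theorem eq_tau_comp_pt (a : T ⟶ CoactBr.sp k A) :
    letI : Algebra k (BQ T) := algKB T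
    a = tau T ≫ CoactBr.pt (sharp a) := by
  letI : Algebra k (BQ T) := algKB T
  apply Over.OverMorphism.ext
  exact eq_toSpecΓ_comp (a.left : T.left ⟶ Spec (CommRingCat.of A))

end Affinization

section Main

lemma ptHom_pinv {K : Type u} [CommRing K] [Algebra k K] (X : Pt k A K) :
    ptHom (HH.pinv X) = (ptHom X)⁻¹ := (CoactBr.pt_inv X.ofConv).symm

/-- scheme-valued class functions are exactly the cocommutative elements. -/
theorem classFn_iff_isCocomm (f : A) :
    (∀ (T : Over (Spec (CommRingCat.of k))) (x g : T ⟶ CoactBr.sp k A),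
      (x * g * x⁻¹).left.appTop ((Scheme.ΓSpecIso (CommRingCat.of A)).inv f) =
        g.left.appTop ((Scheme.ΓSpecIso (CommRingCat.of A)).inv f)) ↔ IsCocomm (k := k) f := by
  constructor
  · intro h
    apply isCocomm_of_conj_apply
    intro X G
    have h1 := h (CoactBr.sp k (A ⊗[k] A)) (ptHom X) (ptHom G)
    rw [← ptHom_pinv, ← map_mul, ← map_mul, ptHom_apply, ptHom_apply, pt_left_appTop,
      pt_left_appTop] at h1
    exact (ConcreteCategory.bijective_of_isIso
      (Scheme.ΓSpecIso (CommRingCat.of (A ⊗[k] A))).inv).1 h1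
  · intro hf T x g
    letI : Algebra k (BQ T) := algKB T
    have hx := eq_tau_comp_pt x
    have hg := eq_tau_comp_pt g
    set X : Pt k A (BQ T) := toConv (sharp x) with hX
    set G : Pt k A (BQ T) := toConv (sharp g) with hG
    have h1 : x * g * x⁻¹ = tau T ≫ ptHom (X * G * HH.pinv X) := by
      rw [map_mul, map_mul, ptHom_pinv, MonObj.comp_mul, MonObj.comp_mul, GrpObj.comp_inv]
      change _ = (tau T ≫ CoactBr.pt (sharp x)) * (tau T ≫ CoactBr.pt (sharp g)) *
        (tau T ≫ CoactBr.pt (sharp x))⁻¹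
      rw [← hx, ← hg]
    have h2 : ∀ (φ : A →ₐ[k] BQ T),
        (tau T ≫ CoactBr.pt φ).left.appTop ((Scheme.ΓSpecIso (CommRingCat.of A)).inv f) =
          (tau T).left.appTop ((Scheme.ΓSpecIso (CommRingCat.of (BQ T))).inv (φ f)) := by
      intro φ
      rw [← pt_left_appTop]
      rfl
    rw [h1]
    conv_rhs => rw [hg]
    rw [ptHom_apply, h2, h2, conj_apply_of_isCocomm hf]

end Main

end Groth.Agent.Lib.Helper7.ClassFn
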