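import Mathlib
import Groth.Agent.Lib.Helper7.CF3
import Groth.Agent.Lib.Helper7.HopfLR

/-!
# Class functions: assembly (helper7)
-/

set_option autoImplicit false
universe u
open TensorProduct
open CategoryTheory MonoidalCategory CartesianMonoidalCategory MonObj AlgebraicGeometry

namespace Groth.Agent.Lib.Helper7.ClassFn

open HopfRep Groth.Agent.Lib.Helper7 Groth.Agent.Lib.Helper7.Comod Groth.Agent.Lib.Helper7.StabIdeal

variable {k : Type u} [Field k] {A : Type u} [CommRing A] [HopfAlgebra k A]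

lemma isCocomm_add {f g : A} (hf : IsCocomm (k := k) f) (hg : IsCocomm (k := k) g) :
    IsCocomm (k := k) (f + g) := by
  unfold IsCocomm at *
  rw [map_add, map_add, hf, hg]

lemma isCocomm_smul {f : A} (a : k) (hf : IsCocomm (k := k) f) : IsCocomm (k := k) (a • f) := by
  unfold IsCocomm at *
  rw [map_smul, map_smul, hf]

lemma isCocomm_chr {d : ℕ} (c : Comod k A (Fin d → k)) : IsCocomm (k := k) (chr c) := by
  rw [chr_eq_chi]
  exact @isCocomm_chi k _ A _ _ (Fin d → k) _ _ c (Fin d) _ _ (Pi.basisFun k (Fin d))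

lemma isCocomm_of_mem_chrSpan {f : A} (hf : f ∈ chrSpan k A) : IsCocomm (k := k) f := by
  unfold chrSpan at hf
  induction hf using Submodule.span_induction with
  | mem x hx =>
    obtain ⟨p, rfl⟩ := hx
    exact isCocomm_chr p.2
  | zero => exact isCocomm_zero
  | add x y _ _ hx hy => exact isCocomm_add hx hy
  | smul a x _ hx => exact isCocomm_smul a hx

/-- part (1). -/
theorem classFn_iff_mem_chrSpan [IsAlgClosed k] (hred : IsLinearlyReductive k A) (f : A) :
    (∀ (T : CategoryTheory.Over (AlgebraicGeometry.Spec (CommRingCat.of k)))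
        (x g : T ⟶ CoactBr.sp k A),
      (x * g * x⁻¹).left.appTop ((AlgebraicGeometry.Scheme.ΓSpecIso (CommRingCat.of A)).inv f) =
        g.left.appTop ((AlgebraicGeometry.Scheme.ΓSpecIso (CommRingCat.of A)).inv f)) ↔
      f ∈ chrSpan k A := by
  rw [classFn_iff_isCocomm]
  constructor
  · intro hf
    exact mem_chrSpan_of_isCocomm (isSemisimpleComod_of_isLinearlyReductive hred A) f hf
  · exact isCocomm_of_mem_chrSpan

lemma chr_mem_coeffSpace {d : ℕ} (c : Comod k A (Fin d → k)) :
    chr c ∈ @coeffSpace k _ A _ _ _ (Fin d → k) _ _ c := by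
  letI := c
  rw [chr_eq_chi]
  unfold chi mc
  exact Submodule.sum_mem _ fun i _ => coeffMap_mem _ _

lemma counit_chr {d : ℕ} (c : Comod k A (Fin d → k)) :
    Coalgebra.counit (R := k) (chr c) = (d : k) := by
  letI := c
  rw [chr_eq_chi]
  unfold chi
  rw [map_sum]
  simp only [counit_mc, if_true]
  simp

/-- part (2): characters of pairwise non-isomorphic simple comodules are linearly independent. -/
theorem linearIndependent_chr [CharZero k] (n : ℕ) (d : Fin n → ℕ)
    (c : (i : Fin n) → Comod k A (Fin (d i) → k))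
    (hs : ∀ i, @IsSimpleComod k A _ _ _ _ (Fin (d i) → k) _ _ (c i))
    (hne : ∀ i j, i ≠ j → ∀ P : (Fin (d i) → k) ≃ₗ[k] (Fin (d j) → k),
      LinearMap.rTensor A P.toLinearMap ∘ₗ @Comod.coact k A _ _ _ _ (Fin (d i) → k) _ _ (c i) ≠
        (@Comod.coact k A _ _ _ _ (Fin (d j) → k) _ _ (c j)) ∘ₗ P.toLinearMap) :
    LinearIndependent k (fun i : Fin n => chr (c i)) := by
  set D : Fin n → {D : Submodule k A // IsSimpleSubcoalg D} := fun i =>
    ⟨@coeffSpace k _ A _ _ _ (Fin (d i) → k) _ _ (c i),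
      @isSimpleSubcoalg_coeffSpace k _ A _ _ _ (Fin (d i) → k) _ _ (c i) (hs i)⟩ with hD
  have hinj : Function.Injective D := by
    intro i j hij
    by_contra hne'
    have h1 : @coeffSpace k _ A _ _ _ (Fin (d i) → k) _ _ (c i) =
        @coeffSpace k _ A _ _ _ (Fin (d j) → k) _ _ (c j) := congrArg Subtype.val hij
    obtain ⟨e, he⟩ := @exists_equiv_of_coeffSpace_eq k _ A _ _ _ (Fin (d i) → k) _ _ (c i)
      (Fin (d j) → k) _ _ (c j) (hs i) (hs j) h1
    exact hne i j hne' e he.symm
  have hind := (iSupIndep_isSimpleSubcoalg (k := k) (C := A)).comp hinj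
  refine iSupIndep.linearIndependent (fun i => (D i).1) hind (fun i => chr_mem_coeffSpace (c i))
    (fun i h0 => ?_)
  have h1 := counit_chr (c i)
  rw [h0, map_zero] at h1
  have hd : d i ≠ 0 := by
    intro hd0
    obtain ⟨x, y, hxy⟩ := (hs i).1
    apply hxy
    funext t
    exact (Fin.elim0 (hd0 ▸ t))
  exact hd (Nat.cast_injective (R := k) (by rw [← h1, Nat.cast_zero]))

end Groth.Agent.Lib.Helper7.ClassFn
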