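import Mathlib
import Groth.Prelude.Def_SGA3b

/-!
# Descent toolkit for groups of multiplicative type in Hopf-algebra form (helper7)

* `cf m` : coefficient functionals on `R[M]`, `mul_cf_comul`.
* `trivial_of_diag`, `eq_of_diag_cocomm`: rigidity of bialgebra maps into `R[M]` modulo a nilpotent
  ideal.
* `eq_zero_of_cover`: an element vanishing after the base changes of an `IsMultType` datum vanishes.
-/

universe u

open TensorProduct

namespace Groth.Agent.Lib.Helper7.MultDesc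

section Coeff

variable {R : Type*} [CommRing R] {M : Type*} [Monoid M]

/-- The coefficient functional at `m` on `R[M]`. -/
noncomputable def cf (m : M) : MonoidAlgebra R M →ₗ[R] R :=
  Finsupp.lapply m ∘ₗ (MonoidAlgebra.coeffLinearEquiv R).toLinearMap

lemma cf_apply (m : M) (x : MonoidAlgebra R M) : cf m x = x.coeff m := rfl

lemma cf_single [DecidableEq M] (m n : M) (r : R) :
    cf m (MonoidAlgebra.single n r) = if n = m then r else 0 := by
  rw [cf_apply, MonoidAlgebra.coeff_single, Finsupp.single_apply]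

lemma cf_mem_of_mem_smul_top (N : Ideal R) {x : MonoidAlgebra R M}
    (hx : x ∈ N • (⊤ : Submodule R (MonoidAlgebra R M))) (m : M) : cf m x ∈ N := by
  refine Submodule.smul_induction_on hx ?_ ?_
  · intro r hr y _
    rw [map_smul, smul_eq_mul]
    exact N.mul_mem_right _ hr
  · intro a b ha hb
    rw [map_add]
    exact N.add_mem ha hb

lemma mul_cf_comul (m : M) :
    LinearMap.mul' R R ∘ₗ TensorProduct.map (cf (R := R) m) (cf m) ∘ₗ
      Coalgebra.comul (R := R) (A := MonoidAlgebra R M) = cf m := by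
  classical
  apply MonoidAlgebra.lhom_ext'
  intro n
  apply LinearMap.ext_ring
  have hc : Coalgebra.comul (R := R) (A := R) (1 : R) = (1 : R) ⊗ₜ[R] (1 : R) := by
    simp [CommSemiring.comul_apply]
  simp only [LinearMap.comp_apply, MonoidAlgebra.lsingle_apply, MonoidAlgebra.comul_single, hc,
    TensorProduct.map_tmul, LinearMap.mul'_apply, cf_single]
  split_ifs <;> simp

lemma cf_mul_cf_comul_of_ne {m n : M} (hmn : m ≠ n) :
    LinearMap.mul' R R ∘ₗ TensorProduct.map (cf (R := R) m) (cf n) ∘ₗ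
      Coalgebra.comul (R := R) (A := MonoidAlgebra R M) = 0 := by
  classical
  apply MonoidAlgebra.lhom_ext'
  intro l
  apply LinearMap.ext_ring
  have hc : Coalgebra.comul (R := R) (A := R) (1 : R) = (1 : R) ⊗ₜ[R] (1 : R) := by
    simp [CommSemiring.comul_apply]
  simp only [LinearMap.comp_apply, MonoidAlgebra.lsingle_apply, MonoidAlgebra.comul_single, hc,
    TensorProduct.map_tmul, LinearMap.mul'_apply, cf_single, LinearMap.zero_apply]
  split_ifs with h1 h2
  · exact absurd (h1.symm.trans h2) hmn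
  · simp
  · simp
  · simp

lemma eq_of_forall_cf {x y : MonoidAlgebra R M} (h : ∀ m, cf m x = cf m y) : x = y := by
  apply MonoidAlgebra.coeff_injective
  ext m
  exact h m

lemma counit_eq_sum_cf (x : MonoidAlgebra R M) :
    Coalgebra.counit (R := R) x = x.coeff.sum fun _ r => r := by
  classical
  conv_lhs => rw [← MonoidAlgebra.sum_coeff_single x]
  rw [Finsupp.sum, map_sum]
  simp [Finsupp.sum, MonoidAlgebra.counit_single]

end Coeff

section Core

open WithConv

variable {R : Type*} [CommRing R] {M : Type*} [Monoid M] {C : Type*} [Semiring C] [Bialgebra R C]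

/-- Convolution of functionals with values in `J₁`, `J₂` has values in `J₁ * J₂`. -/
lemma conv_mem (f g : C →ₗ[R] R) (J₁ J₂ : Ideal R) (hf : ∀ c, f c ∈ J₁) (hg : ∀ c, g c ∈ J₂)
    (c : C) : (toConv f * toConv g) c ∈ J₁ * J₂ := by
  rw [LinearMap.convMul_apply]
  change LinearMap.mul' R R (TensorProduct.map f g (Coalgebra.comul (R := R) c)) ∈ J₁ * J₂
  induction Coalgebra.comul (R := R) c using TensorProduct.induction_on with
  | zero => simp
  | tmul a b =>
    rw [TensorProduct.map_tmul, LinearMap.mul'_apply]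
    exact Ideal.mul_mem_mul (hf a) (hg b)
  | add x y hx hy =>
    rw [map_add, map_add]
    exact add_mem hx hy

/-- A convolution-idempotent functional with values in a nilpotent ideal vanishes. -/
lemma eq_zero_of_conv_idem (f : C →ₗ[R] R) (hf : toConv f * toConv f = toConv f)
    (N : Ideal R) (hN : IsNilpotent N) (h : ∀ c, f c ∈ N) : f = 0 := by
  obtain ⟨n, hn⟩ := hN
  have key : ∀ j : ℕ, ∀ c, f c ∈ N ^ (2 ^ j) := by
    intro j
    induction j with
    | zero => simpa using h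
    | succ j ih =>
      intro c
      have h1 := conv_mem f f _ _ ih ih c
      rw [hf, ← pow_add, ← two_mul, ← pow_succ'] at h1
      exact h1
  ext c
  have h1 := key n c
  have h2 : N ^ (2 ^ n) ≤ N ^ n := Ideal.pow_le_pow_right (Nat.lt_two_pow_self).le
  have h3 := h2 h1
  rw [hn] at h3
  simpa using h3

/-- A functional with `d = d * d * d` (convolution) and values in a nilpotent ideal vanishes. -/
lemma eq_zero_of_conv_cube (d : C →ₗ[R] R) (hd : toConv d * toConv d * toConv d = toConv d)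
    (N : Ideal R) (hN : IsNilpotent N) (h : ∀ c, d c ∈ N) : d = 0 := by
  obtain ⟨n, hn⟩ := hN
  have key : ∀ j : ℕ, ∀ c, d c ∈ N ^ (2 ^ j) := by
    intro j
    induction j with
    | zero => simpa using h
    | succ j ih =>
      intro c
      have h0 : ∀ c, (toConv d * toConv d).ofConv c ∈ N ^ (2 ^ j) := by
        intro c
        have := conv_mem d d _ _ ih ih c
        exact Ideal.mul_le_right this
      have h1 := conv_mem (toConv d * toConv d).ofConv d _ _ h0 ih c
      rw [toConv_ofConv, hd, ← pow_add, ← two_mul, ← pow_succ'] at h1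
      exact h1
  ext c
  have h1 := key n c
  have h2 : N ^ (2 ^ n) ≤ N ^ n := Ideal.pow_le_pow_right (Nat.lt_two_pow_self).le
  have h3 := h2 h1
  rw [hn] at h3
  simpa using h3

/-- the `m`-th component of a coalgebra map into `R[M]` is a convolution idempotent. -/
lemma conv_cf_comp (φ : C →ₗc[R] MonoidAlgebra R M) (m : M) :
    toConv (cf m ∘ₗ (φ : C →ₗ[R] MonoidAlgebra R M)) * toConv (cf m ∘ₗ (φ : C →ₗ[R] _)) =
      toConv (cf m ∘ₗ (φ : C →ₗ[R] _)) := by
  rw [LinearMap.convMul_def]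
  congr 1
  change LinearMap.mul' R R ∘ₗ TensorProduct.map (cf m ∘ₗ (φ : C →ₗ[R] _)) (cf m ∘ₗ (φ : C →ₗ[R] _))
    ∘ₗ Coalgebra.comul = _
  rw [TensorProduct.map_comp, LinearMap.comp_assoc, CoalgHomClass.map_comp_comul,
    ← LinearMap.comp_assoc, ← LinearMap.comp_assoc]
  have h1 := mul_cf_comul (R := R) m
  rw [← LinearMap.comp_assoc] at h1
  rw [h1]

lemma algebraMap_monoidAlgebra (r : R) :
    algebraMap R (MonoidAlgebra R M) r = MonoidAlgebra.single 1 r := rfl

/-- Rigidity of the trivial homomorphism (diagonalisable case of SGA3 IX 3.?). -/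
theorem trivial_of_diag (φ : C →ₐc[R] MonoidAlgebra R M) (N : Ideal R) (hN : IsNilpotent N)
    (h : ∀ c : C, φ c - algebraMap R (MonoidAlgebra R M) (Coalgebra.counit (R := R) c) ∈
      N • (⊤ : Submodule R (MonoidAlgebra R M))) (c : C) :
    φ c = algebraMap R (MonoidAlgebra R M) (Coalgebra.counit (R := R) c) := by
  classical
  have hz : ∀ m : M, m ≠ 1 → cf m ∘ₗ ((φ : C →ₗc[R] MonoidAlgebra R M) : C →ₗ[R] _) = 0 := by
    intro m hm
    refine eq_zero_of_conv_idem _ (conv_cf_comp (φ : C →ₗc[R] MonoidAlgebra R M) m) N hN ?_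
    intro c
    have h1 := cf_mem_of_mem_smul_top N (h c) m
    rw [map_sub, algebraMap_monoidAlgebra, cf_single, if_neg (Ne.symm hm), sub_zero] at h1
    exact h1
  have hz' : ∀ m : M, m ≠ 1 → ∀ c, cf m (φ c) = 0 := fun m hm c => LinearMap.congr_fun (hz m hm) c
  have h1 : φ c = MonoidAlgebra.single 1 (cf 1 (φ c)) := by
    apply eq_of_forall_cf
    intro m
    rw [cf_single]
    split_ifs with hm
    · rw [hm]
    · exact hz' m (Ne.symm hm) c
  have h2 : Coalgebra.counit (R := R) (φ c) = Coalgebra.counit (R := R) c :=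
    CoalgHomClass.counit_comp_apply φ c
  rw [h1, MonoidAlgebra.counit_single, CommSemiring.counit_apply] at h2
  rw [h1, h2, algebraMap_monoidAlgebra]

end Core

section Cocomm

open WithConv

variable {R : Type*} [CommRing R] {M : Type*} [Monoid M] {C : Type*} [Semiring C] [Bialgebra R C]
  [Coalgebra.IsCocomm R C]

/-- Rigidity of homomorphisms to a commutative group (diagonalisable source). -/
theorem eq_of_diag_cocomm (φ ψ : C →ₐc[R] MonoidAlgebra R M) (N : Ideal R) (hN : IsNilpotent N)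
    (h : ∀ c : C, φ c - ψ c ∈ N • (⊤ : Submodule R (MonoidAlgebra R M))) : φ = ψ := by
  have key : ∀ m : M, cf m ∘ₗ ((φ : C →ₗc[R] MonoidAlgebra R M) : C →ₗ[R] _) =
      cf m ∘ₗ ((ψ : C →ₗc[R] MonoidAlgebra R M) : C →ₗ[R] _) := by
    intro m
    set e : WithConv (C →ₗ[R] R) := toConv (cf m ∘ₗ ((φ : C →ₗc[R] MonoidAlgebra R M) : C →ₗ[R] _))
      with he
    set f : WithConv (C →ₗ[R] R) := toConv (cf m ∘ₗ ((ψ : C →ₗc[R] MonoidAlgebra R M) : C →ₗ[R] _))
      with hf
    have hee : e * e = e := conv_cf_comp (φ : C →ₗc[R] MonoidAlgebra R M) m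
    have hff : f * f = f := conv_cf_comp (ψ : C →ₗc[R] MonoidAlgebra R M) m
    have hd : (e - f) * (e - f) * (e - f) = e - f := by
      linear_combination (e + 1 - 3 * f) * hee + (3 * e - f - 1) * hff
    have h0 : (e - f).ofConv = 0 := by
      refine eq_zero_of_conv_cube _ ?_ N hN ?_
      · rw [toConv_ofConv]; exact hd
      · intro c
        have h1 := cf_mem_of_mem_smul_top N (h c) m
        rw [map_sub] at h1
        exact h1
    have h1 : e - f = 0 := ofConv_eq_zero.1 h0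
    have h2 : e = f := sub_eq_zero.1 h1
    exact congrArg ofConv h2
  apply BialgHom.ext
  intro c
  apply eq_of_forall_cf
  intro m
  exact LinearMap.congr_fun (key m) c

end Cocomm

section Descent

variable {R : Type*} [CommRing R]

/-- Zariski-local vanishing. -/
lemma eq_zero_of_cover {A : Type*} [AddCommGroup A] [Module R A] (s : Set R)
    (hs : Ideal.span s = ⊤) (y : A)
    (h : ∀ f ∈ s, (1 : Localization.Away f) ⊗ₜ[R] y = 0) : y = 0 := by
  set J : Ideal R := LinearMap.ker (LinearMap.toSpanSingleton R A y) with hJ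
  have hmem : ∀ r : R, r ∈ J ↔ r • y = 0 := by
    intro r
    rw [hJ, LinearMap.mem_ker, LinearMap.toSpanSingleton_apply]
  have htop : J = ⊤ := by
    by_contra hne
    obtain ⟨m, hm, hJm⟩ := Ideal.exists_le_maximal J hne
    have hsm : ¬ (s ⊆ m) := by
      intro hsub
      have : Ideal.span s ≤ m := Ideal.span_le.2 hsub
      rw [hs] at this
      exact hm.ne_top (top_le_iff.1 this)
    obtain ⟨f, hfs, hfm⟩ := Set.not_subset.1 hsm
    have h1 := h f hfs
    have h2 : (TensorProduct.mk R (Localization.Away f) A 1) y = 0 := h1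
    rw [IsLocalizedModule.eq_zero_iff (Submonoid.powers f)] at h2
    obtain ⟨⟨_, n, rfl⟩, hn⟩ := h2
    have h3 : f ^ n ∈ J := (hmem _).2 hn
    exact hfm (hm.isPrime.mem_of_pow_mem n (hJm h3))
  have h1 : (1 : R) ∈ J := by rw [htop]; trivial
  simpa using (hmem 1).1 h1

/-- Base change of `I • ⊤`. -/
lemma tmul_mem_map_smul_top {A : Type*} [AddCommGroup A] [Module R A] (S : Type*) [CommRing S]
    [Algebra R S] (I : Ideal R) {y : A} (hy : y ∈ I • (⊤ : Submodule R A)) (t : S) :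
    t ⊗ₜ[R] y ∈ (I.map (algebraMap R S)) • (⊤ : Submodule S (S ⊗[R] A)) := by
  refine Submodule.smul_induction_on hy ?_ ?_
  · intro r hr a _
    have : t ⊗ₜ[R] (r • a) = (algebraMap R S r) • (t ⊗ₜ[R] a) := by
      rw [TensorProduct.tmul_smul, TensorProduct.smul_tmul', TensorProduct.smul_tmul',
        Algebra.smul_def, smul_eq_mul]
    rw [this]
    exact Submodule.smul_mem_smul (Ideal.mem_map_of_mem _ hr) Submodule.mem_top
  · intro a b ha hb
    rw [TensorProduct.tmul_add]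
    exact add_mem ha hb

lemma map_mem_smul_top {S : Type*} [CommRing S] {X Y : Type*} [AddCommGroup X] [Module S X]
    [AddCommGroup Y] [Module S Y] (e : X →ₗ[S] Y) (N : Ideal S) {x : X}
    (hx : x ∈ N • (⊤ : Submodule S X)) : e x ∈ N • (⊤ : Submodule S Y) := by
  refine Submodule.smul_induction_on hx ?_ ?_
  · intro r hr a _
    rw [map_smul]
    exact Submodule.smul_mem_smul hr Submodule.mem_top
  · intro a b ha hb
    rw [map_add]
    exact add_mem ha hb

lemma isNilpotent_map {S : Type*} [CommRing S] (g : R →+* S) (I : Ideal R) (hI : IsNilpotent I) :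
    IsNilpotent (I.map g) := by
  obtain ⟨n, hn⟩ := hI
  refine ⟨n, ?_⟩
  rw [← Ideal.map_pow, hn]
  simp

/-- `(1 : R/I) ⊗ y = 0` means `y ∈ I • ⊤`. -/
lemma mem_smul_top_of_one_tmul_eq_zero {A : Type*} [AddCommGroup A] [Module R A] (I : Ideal R)
    {y : A} (hy : (1 : R ⧸ I) ⊗ₜ[R] y = 0) : y ∈ I • (⊤ : Submodule R A) := by
  have h1 := congrArg (TensorProduct.quotTensorEquivQuotSMul A I) hy
  rw [TensorProduct.quotTensorEquivQuotSMul_mk_one_tmul, map_zero,
    Submodule.Quotient.mk_eq_zero] at h1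
  exact h1

lemma one_tmul_eq_zero_of_mem_smul_top {A : Type*} [AddCommGroup A] [Module R A] (I : Ideal R)
    {y : A} (hy : y ∈ I • (⊤ : Submodule R A)) : (1 : R ⧸ I) ⊗ₜ[R] y = 0 := by
  apply (TensorProduct.quotTensorEquivQuotSMul A I).injective
  rw [TensorProduct.quotTensorEquivQuotSMul_mk_one_tmul, map_zero,
    Submodule.Quotient.mk_eq_zero]
  exact hy

end Descent

section TwoStep

variable {R : Type*} [CommRing R] {R₁ : Type*} [CommRing R₁] [Algebra R R₁]
  {R₂ : Type*} [CommRing R₂] [Algebra R₁ R₂]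
  {A : Type*} [CommRing A] [Bialgebra R A] {C : Type*} [CommRing C] [Bialgebra R C]
  {M : Type*} [Monoid M]

variable (R₁ R₂) in
/-- two-step base change of a bialgebra map. -/
noncomputable def bc2 (φ : C →ₐc[R] A) :
    R₂ ⊗[R₁] (R₁ ⊗[R] C) →ₐc[R₂] R₂ ⊗[R₁] (R₁ ⊗[R] A) :=
  Bialgebra.TensorProduct.map (BialgHom.id R₂ R₂)
    (Bialgebra.TensorProduct.map (BialgHom.id R₁ R₁) φ)

@[simp] lemma bc2_tmul (φ : C →ₐc[R] A) (t : R₂) (r : R₁) (c : C) :
    bc2 R₁ R₂ φ (t ⊗ₜ[R₁] (r ⊗ₜ[R] c)) = t ⊗ₜ[R₁] (r ⊗ₜ[R] φ c) := rfl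

lemma tmul_tmul_algebraMap (t : R₂) (r : R₁) (x : R) :
    t ⊗ₜ[R₁] (r ⊗ₜ[R] algebraMap R A x) =
      algebraMap R₂ (R₂ ⊗[R₁] (R₁ ⊗[R] A)) (algebraMap R₁ R₂ (algebraMap R R₁ x * r) * t) := by
  rw [Algebra.TensorProduct.algebraMap_apply, Algebra.algebraMap_self_apply,
    Algebra.TensorProduct.one_def]
  have h1 : r ⊗ₜ[R] algebraMap R A x = (algebraMap R R₁ x * r) • ((1 : R₁) ⊗ₜ[R] (1 : A)) := by
    rw [Algebra.algebraMap_eq_smul_one, TensorProduct.tmul_smul, TensorProduct.smul_tmul',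
      TensorProduct.smul_tmul', Algebra.smul_def, smul_eq_mul, mul_one]
  rw [h1, TensorProduct.tmul_smul, TensorProduct.smul_tmul', Algebra.smul_def]

lemma counit_tmul_tmul (t : R₂) (r : R₁) (c : C) :
    Coalgebra.counit (R := R₂) (t ⊗ₜ[R₁] (r ⊗ₜ[R] c) : R₂ ⊗[R₁] (R₁ ⊗[R] C)) =
      algebraMap R₁ R₂ (algebraMap R R₁ (Coalgebra.counit (R := R) c) * r) * t := by
  rw [TensorProduct.counit_tmul, TensorProduct.counit_tmul, CommSemiring.counit_apply,
    CommSemiring.counit_apply, Algebra.smul_def, Algebra.smul_def]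

/-- The two-step ideal. -/
abbrev I2 (R₁ R₂ : Type*) [CommRing R₁] [Algebra R R₁] [CommRing R₂] [Algebra R₁ R₂]
    (I : Ideal R) : Ideal R₂ := (I.map (algebraMap R R₁)).map (algebraMap R₁ R₂)

lemma isNilpotent_I2 (I : Ideal R) (hI : IsNilpotent I) : IsNilpotent (I2 R₁ R₂ I) :=
  isNilpotent_map _ _ (isNilpotent_map _ _ hI)

lemma tmul_tmul_mem_I2 (I : Ideal R) {y : A} (hy : y ∈ I • (⊤ : Submodule R A)) (t : R₂) (r : R₁) :
    t ⊗ₜ[R₁] (r ⊗ₜ[R] y) ∈ I2 R₁ R₂ I • (⊤ : Submodule R₂ (R₂ ⊗[R₁] (R₁ ⊗[R] A))) :=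
  tmul_mem_map_smul_top R₂ _ (tmul_mem_map_smul_top R₁ I hy r) t

theorem trivial_of_two_step (e : R₂ ⊗[R₁] (R₁ ⊗[R] A) ≃ₐc[R₂] MonoidAlgebra R₂ M)
    (I : Ideal R) (hI : IsNilpotent I) (φ : C →ₐc[R] A)
    (h : ∀ c, φ c - algebraMap R A (Coalgebra.counit (R := R) c) ∈ I • (⊤ : Submodule R A))
    (c : C) :
    (1 : R₂) ⊗ₜ[R₁] ((1 : R₁) ⊗ₜ[R] (φ c - algebraMap R A (Coalgebra.counit (R := R) c))) = 0 := by
  set ψ : R₂ ⊗[R₁] (R₁ ⊗[R] C) →ₐc[R₂] MonoidAlgebra R₂ M :=
    (e : _ →ₐc[R₂] _).comp (bc2 R₁ R₂ φ) with hψ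
  have hψ' : ∀ x, ψ x = e (bc2 R₁ R₂ φ x) := fun x => rfl
  have hcond : ∀ x : R₂ ⊗[R₁] (R₁ ⊗[R] C),
      ψ x - algebraMap R₂ (MonoidAlgebra R₂ M) (Coalgebra.counit (R := R₂) x) ∈
        I2 R₁ R₂ I • (⊤ : Submodule R₂ (MonoidAlgebra R₂ M)) := by
    intro x
    have h1 : ∀ x : R₂ ⊗[R₁] (R₁ ⊗[R] C),
        bc2 R₁ R₂ φ x - algebraMap R₂ _ (Coalgebra.counit (R := R₂) x) ∈
          I2 R₁ R₂ I • (⊤ : Submodule R₂ (R₂ ⊗[R₁] (R₁ ⊗[R] A))) := by
      intro x
      induction x using TensorProduct.induction_on with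
      | zero => simp
      | add x y hx hy =>
        rw [map_add, map_add, map_add, add_sub_add_comm]
        exact add_mem hx hy
      | tmul t z =>
        induction z using TensorProduct.induction_on with
        | zero => simp
        | add x y hx hy =>
          rw [TensorProduct.tmul_add, map_add, map_add, map_add, add_sub_add_comm]
          exact add_mem hx hy
        | tmul r c =>
          rw [bc2_tmul, counit_tmul_tmul, ← tmul_tmul_algebraMap, ← TensorProduct.tmul_sub,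
            ← TensorProduct.tmul_sub]
          exact tmul_tmul_mem_I2 I (h c) t r
    have h2 := map_mem_smul_top (e : _ →ₗ[R₂] MonoidAlgebra R₂ M) _ (h1 x)
    have h3 : (e : _ →ₗ[R₂] MonoidAlgebra R₂ M)
        (bc2 R₁ R₂ φ x - algebraMap R₂ _ (Coalgebra.counit (R := R₂) x)) =
        ψ x - algebraMap R₂ (MonoidAlgebra R₂ M) (Coalgebra.counit (R := R₂) x) := by
      rw [map_sub, hψ']
      congr 1
      exact AlgHomClass.commutes e _
    rw [h3] at h2
    exact h2
  have key := trivial_of_diag ψ _ (isNilpotent_I2 (R₁ := R₁) (R₂ := R₂) I hI) hcond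
    ((1 : R₂) ⊗ₜ[R₁] ((1 : R₁) ⊗ₜ[R] c))
  rw [hψ', bc2_tmul, counit_tmul_tmul] at key
  have h4 : e (algebraMap R₂ _ (algebraMap R₁ R₂ (algebraMap R R₁ (Coalgebra.counit (R := R) c) * 1) * 1)) =
      algebraMap R₂ (MonoidAlgebra R₂ M)
        (algebraMap R₁ R₂ (algebraMap R R₁ (Coalgebra.counit (R := R) c) * 1) * 1) :=
    AlgHomClass.commutes e _
  rw [← h4] at key
  have h5 := e.injective key
  rw [TensorProduct.tmul_sub, TensorProduct.tmul_sub, h5, tmul_tmul_algebraMap, sub_self]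

theorem eq_of_two_step [Coalgebra.IsCocomm R C]
    (e : R₂ ⊗[R₁] (R₁ ⊗[R] A) ≃ₐc[R₂] MonoidAlgebra R₂ M)
    (I : Ideal R) (hI : IsNilpotent I) (φ ψ : C →ₐc[R] A)
    (h : ∀ c, φ c - ψ c ∈ I • (⊤ : Submodule R A)) (c : C) :
    (1 : R₂) ⊗ₜ[R₁] ((1 : R₁) ⊗ₜ[R] (φ c - ψ c)) = 0 := by
  set Φ : R₂ ⊗[R₁] (R₁ ⊗[R] C) →ₐc[R₂] MonoidAlgebra R₂ M :=
    (e : _ →ₐc[R₂] _).comp (bc2 R₁ R₂ φ) with hΦ
  set Ψ : R₂ ⊗[R₁] (R₁ ⊗[R] C) →ₐc[R₂] MonoidAlgebra R₂ M :=
    (e : _ →ₐc[R₂] _).comp (bc2 R₁ R₂ ψ) with hΨ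
  have hΦ' : ∀ x, Φ x = e (bc2 R₁ R₂ φ x) := fun x => rfl
  have hΨ' : ∀ x, Ψ x = e (bc2 R₁ R₂ ψ x) := fun x => rfl
  have hcond : ∀ x : R₂ ⊗[R₁] (R₁ ⊗[R] C),
      Φ x - Ψ x ∈ I2 R₁ R₂ I • (⊤ : Submodule R₂ (MonoidAlgebra R₂ M)) := by
    intro x
    have h1 : ∀ x : R₂ ⊗[R₁] (R₁ ⊗[R] C),
        bc2 R₁ R₂ φ x - bc2 R₁ R₂ ψ x ∈
          I2 R₁ R₂ I • (⊤ : Submodule R₂ (R₂ ⊗[R₁] (R₁ ⊗[R] A))) := by
      intro x
      induction x using TensorProduct.induction_on with
      | zero => simp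
      | add x y hx hy =>
        rw [map_add, map_add, add_sub_add_comm]
        exact add_mem hx hy
      | tmul t z =>
        induction z using TensorProduct.induction_on with
        | zero => simp
        | add x y hx hy =>
          rw [TensorProduct.tmul_add, map_add, map_add, add_sub_add_comm]
          exact add_mem hx hy
        | tmul r c =>
          rw [bc2_tmul, bc2_tmul, ← TensorProduct.tmul_sub, ← TensorProduct.tmul_sub]
          exact tmul_tmul_mem_I2 I (h c) t r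
    have h2 := map_mem_smul_top (e : _ →ₗ[R₂] MonoidAlgebra R₂ M) _ (h1 x)
    rw [map_sub] at h2
    exact h2
  have key := eq_of_diag_cocomm Φ Ψ _ (isNilpotent_I2 (R₁ := R₁) (R₂ := R₂) I hI) hcond
  have h3 := DFunLike.congr_fun key ((1 : R₂) ⊗ₜ[R₁] ((1 : R₁) ⊗ₜ[R] c))
  rw [hΦ', hΨ', bc2_tmul, bc2_tmul] at h3
  have h5 := e.injective h3
  rw [TensorProduct.tmul_sub, TensorProduct.tmul_sub, h5, sub_self]

end TwoStep

end Groth.Agent.Lib.Helper7.MultDesc
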