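import Groth.Agent.Lib.Helper7.HopfConv
import Groth.Agent.Lib.Helper7.MultDesc
import Groth.Agent.Lib.Helper7.CancelBC
import Groth.Prelude.Def_SGA3b

set_option autoImplicit false

namespace Groth.Agent.Lib.Helper7.MonoClosed

open WithConv TensorProduct Groth.Agent.Lib.Helper7.HopfConv
open Groth.Agent.Lib.Helper7.MultDesc (cf cf_apply cf_single)

universe u

section AntipodeX

variable {k : Type*} [CommRing k] {A : Type*} [CommRing A] [HopfAlgebra k A]
  {B : Type*} [CommRing B] [HopfAlgebra k B]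

theorem antipode_comp_eq (f : A →ₐc[k] B) :
    (HopfAlgebra.antipodeAlgHom k B).comp (f : A →ₐ[k] B) =
      (f : A →ₐ[k] B).comp (HopfAlgebra.antipodeAlgHom k A) := by
  have h1 : toConv ((HopfAlgebra.antipodeAlgHom k B).comp (f : A →ₐ[k] B)) *
      toConv (f : A →ₐ[k] B) = 1 := by
    have h := AlgHom.convMul_comp_bialgHom_distrib (toConv (HopfAlgebra.antipodeAlgHom k B))
      (toConv (AlgHom.id k B)) f
    rw [AlgHom.antipode_id_cancel, convOne_comp_bialgHom] at h
    apply WithConv.ofConv_injective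
    rw [h]
    rfl
  have h2 := self_mul_antipode (k := k) (f : A →ₐ[k] B)
  have h3 := left_inv_eq_right_inv h1 h2
  exact WithConv.toConv_injective h3

theorem map_antipode (f : A →ₐc[k] B) (a : A) :
    f (HopfAlgebra.antipode k a) = HopfAlgebra.antipode k (f a) :=
  (AlgHom.congr_fun (antipode_comp_eq f) a).symm

end AntipodeX

section Diag

variable {R : Type*} [CommRing R] {M : Type*} [CommGroup M] {C : Type*} [CommRing C]
  [HopfAlgebra R C] (φ : C →ₐc[R] MonoidAlgebra R M)

/-- The projection `rid ∘ (id ⊗ cf m) ∘ Δ` on `R[M]` is `x ↦ single m (x m)`. -/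
lemma rid_cf_comul (m : M) (x : MonoidAlgebra R M) :
    (TensorProduct.rid R (MonoidAlgebra R M)) (LinearMap.lTensor (MonoidAlgebra R M) (cf m)
      (Coalgebra.comul (R := R) x)) = MonoidAlgebra.single m (x.coeff m) := by
  classical
  induction x using MonoidAlgebra.induction_linear with
  | zero => simp
  | add x y hx hy =>
    rw [map_add, map_add, map_add, hx, hy, MonoidAlgebra.coeff_add, Finsupp.add_apply,
      MonoidAlgebra.single_add]
  | single n r =>
    have hc : Coalgebra.comul (R := R) (A := R) r = (1 : R) ⊗ₜ[R] r := by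
      simp [CommSemiring.comul_apply]
    rw [MonoidAlgebra.comul_single, hc, TensorProduct.map_tmul, LinearMap.lTensor_tmul,
      TensorProduct.rid_tmul, MonoidAlgebra.lsingle_apply, MonoidAlgebra.lsingle_apply, cf_single,
      MonoidAlgebra.coeff_single, Finsupp.single_apply]
    split_ifs with h
    · rw [MonoidAlgebra.smul_single, smul_eq_mul, mul_one, h]
    · rw [zero_smul, MonoidAlgebra.single_zero]

/-- The `m`-th isotypic projection, on `C`. -/
noncomputable def proj (m : M) : C →ₗ[R] C :=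
  (TensorProduct.rid R C).toLinearMap ∘ₗ
    (LinearMap.lTensor C ((cf m) ∘ₗ (φ : C →ₗ[R] MonoidAlgebra R M))) ∘ₗ Coalgebra.comul

lemma phi_proj (m : M) (c : C) :
    φ (proj φ m c) = MonoidAlgebra.single m ((φ c).coeff m) := by
  rw [← rid_cf_comul]
  have h1 : Coalgebra.comul (R := R) (φ c) =
      TensorProduct.map (φ : C →ₗ[R] MonoidAlgebra R M) (φ : C →ₗ[R] MonoidAlgebra R M)
        (Coalgebra.comul (R := R) c) := (CoalgHomClass.map_comp_comul_apply φ c).symm
  rw [h1]
  unfold proj
  simp only [LinearMap.comp_apply, LinearEquiv.coe_coe]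
  generalize Coalgebra.comul (R := R) c = z
  induction z using TensorProduct.induction_on with
  | zero => simp
  | tmul a b =>
    simp only [LinearMap.lTensor_tmul, TensorProduct.rid_tmul, TensorProduct.map_tmul,
      LinearMap.comp_apply, map_smul]
    rfl
  | add x y hx hy => simp only [map_add, hx, hy]

/-- The ideal of `r` with `single m r ∈ range φ`. -/
def coefIdeal (m : M) : Ideal R where
  carrier := {r | MonoidAlgebra.single m r ∈ Set.range φ}
  add_mem' := by
    rintro a b ⟨x, hx⟩ ⟨y, hy⟩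
    exact ⟨x + y, by rw [map_add, hx, hy, MonoidAlgebra.single_add]⟩
  zero_mem' := ⟨0, by rw [map_zero, MonoidAlgebra.single_zero]⟩
  smul_mem' := by
    rintro a b ⟨x, hx⟩
    exact ⟨a • x, by rw [map_smul, hx, MonoidAlgebra.smul_single]⟩

lemma mem_coefIdeal {m : M} {r : R} :
    r ∈ coefIdeal φ m ↔ MonoidAlgebra.single m r ∈ Set.range φ := Iff.rfl

lemma coeff_mem_coefIdeal (c : C) (m : M) : (φ c).coeff m ∈ coefIdeal φ m :=
  ⟨proj φ m c, phi_proj φ m c⟩

lemma one_mem_coefIdeal_one : (1 : R) ∈ coefIdeal φ 1 :=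
  ⟨1, by rw [map_one]; rfl⟩

lemma mul_mem_coefIdeal {m n : M} {r s : R} (hr : r ∈ coefIdeal φ m) (hs : s ∈ coefIdeal φ n) :
    r * s ∈ coefIdeal φ (m * n) := by
  obtain ⟨x, hx⟩ := hr
  obtain ⟨y, hy⟩ := hs
  exact ⟨x * y, by rw [map_mul, hx, hy, MonoidAlgebra.single_mul_single]⟩

lemma mem_coefIdeal_inv {m : M} {r : R} (hr : r ∈ coefIdeal φ m) : r ∈ coefIdeal φ m⁻¹ := by
  obtain ⟨x, hx⟩ := hr
  refine ⟨HopfAlgebra.antipode R x, ?_⟩
  rw [map_antipode, hx, MonoidAlgebra.antipode_single]
  simp

end Diag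

section DiagMain

theorem surjective_of_mono_diag {R : Type u} [CommRing R] {M : Type u} [CommGroup M]
    {C : Type u} [CommRing C] [HopfAlgebra R C] (φ : C →ₐc[R] MonoidAlgebra R M)
    (hmono : ∀ (T : Type u) [CommRing T] [Algebra R T],
      Function.Injective (fun x : MonoidAlgebra R M →ₐ[R] T =>
        x.comp (φ : C →ₐ[R] MonoidAlgebra R M))) :
    Function.Surjective φ := by
  classical
  have key : ∀ m₀ : M, coefIdeal φ m₀ = ⊤ := by
    intro m₀
    by_contra hne
    obtain ⟨𝔭, h𝔭, hle⟩ := Ideal.exists_le_maximal _ hne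
    have hprime := h𝔭.isPrime
    let N : Subgroup M :=
      { carrier := {m | ¬ coefIdeal φ m ≤ 𝔭}
        one_mem' := by
          intro h
          exact h𝔭.ne_top ((Ideal.eq_top_iff_one _).2 (h (one_mem_coefIdeal_one φ)))
        mul_mem' := by
          intro a b ha hb
          obtain ⟨r, hr, hr'⟩ := SetLike.not_le_iff_exists.1 ha
          obtain ⟨s, hs, hs'⟩ := SetLike.not_le_iff_exists.1 hb
          intro h
          have := h (mul_mem_coefIdeal φ hr hs)
          exact (hprime.mem_or_mem this).elim hr' hs'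
        inv_mem' := by
          intro a ha h
          exact ha (fun r hr => h (mem_coefIdeal_inv φ hr)) }
    let κ := R ⧸ 𝔭
    let T := MonoidAlgebra κ (M ⧸ N)
    let f₁ : M →* T := (MonoidAlgebra.of κ (M ⧸ N)).comp (QuotientGroup.mk' N)
    let x₁ : MonoidAlgebra R M →ₐ[R] T := MonoidAlgebra.lift R T M f₁
    let x₂ : MonoidAlgebra R M →ₐ[R] T := MonoidAlgebra.lift R T M 1
    have hx : x₁ = x₂ := by
      apply hmono T
      apply AlgHom.ext
      intro c
      change x₁ (φ c) = x₂ (φ c)
      simp only [x₁, x₂, MonoidAlgebra.lift_apply]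
      apply Finsupp.sum_congr
      intro m _
      by_cases hm : m ∈ N
      · have : f₁ m = 1 := by
          have h1 : (QuotientGroup.mk' N m : M ⧸ N) = 1 := (QuotientGroup.eq_one_iff m).2 hm
          simp only [f₁, MonoidHom.comp_apply, h1, map_one]
        rw [this]; rfl
      · have hle' : coefIdeal φ m ≤ 𝔭 := not_not.1 hm
        have h0 : (φ c).coeff m ∈ 𝔭 := hle' (coeff_mem_coefIdeal φ c m)
        have h1 : algebraMap R T ((φ c).coeff m) = 0 := by
          rw [IsScalarTower.algebraMap_apply R κ T]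
          have : algebraMap R κ ((φ c).coeff m) = 0 := Ideal.Quotient.eq_zero_iff_mem.2 h0
          rw [this, map_zero]
        rw [Algebra.smul_def, Algebra.smul_def, h1, zero_mul, zero_mul]
    have h2 := AlgHom.congr_fun hx (MonoidAlgebra.single m₀ 1)
    simp only [x₁, x₂, MonoidAlgebra.lift_single, one_smul, MonoidHom.one_apply] at h2
    have h3 : (QuotientGroup.mk' N m₀ : M ⧸ N) = 1 := by
      have : MonoidAlgebra.of κ (M ⧸ N) (QuotientGroup.mk' N m₀) = MonoidAlgebra.of κ (M ⧸ N) 1 := by
        rw [map_one]; exact h2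
      have hnt : Nontrivial κ := Ideal.Quotient.nontrivial_iff.2 h𝔭.ne_top
      exact MonoidAlgebra.of_injective this
    have h4 : m₀ ∈ N := (QuotientGroup.eq_one_iff m₀).1 h3
    exact h4 hle
  intro y
  induction y using MonoidAlgebra.induction_linear with
  | zero => exact ⟨0, map_zero _⟩
  | add x y hx hy =>
    obtain ⟨a, ha⟩ := hx
    obtain ⟨b, hb⟩ := hy
    exact ⟨a + b, by rw [map_add, ha, hb]⟩
  | single m r =>
    have : r ∈ coefIdeal φ m := by rw [key m]; trivial
    exact this

end DiagMain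

section BC

variable {R : Type u} [CommRing R] {A : Type u} [CommRing A] [HopfAlgebra R A]
  {C : Type u} [CommRing C] [HopfAlgebra R C]

/-- `Spec A ⟶ Spec C` is a monomorphism (on points in all `R`-algebras of the universe). -/
def Mono (φ : C →ₐc[R] A) : Prop :=
  ∀ (T : Type u) [CommRing T] [Algebra R T],
    Function.Injective (fun x : A →ₐ[R] T => x.comp (φ : C →ₐ[R] A))

lemma Mono.baseChange {φ : C →ₐc[R] A} (h : Mono φ) (S : Type u) [CommRing S] [Algebra R S] :
    Mono (Bialgebra.TensorProduct.map (BialgHom.id S S) φ : S ⊗[R] C →ₐc[S] S ⊗[R] A) := by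
  intro T _ _ x y hxy
  let _ : Algebra R T := Algebra.compHom T (algebraMap R S)
  have : IsScalarTower R S T := IsScalarTower.of_algebraMap_eq (fun _ => rfl)
  have hxy' : ∀ z : S ⊗[R] C,
      x (Bialgebra.TensorProduct.map (BialgHom.id S S) φ z) =
        y (Bialgebra.TensorProduct.map (BialgHom.id S S) φ z) := fun z => AlgHom.congr_fun hxy z
  let x' : A →ₐ[R] T := (x.restrictScalars R).comp Algebra.TensorProduct.includeRight
  let y' : A →ₐ[R] T := (y.restrictScalars R).comp Algebra.TensorProduct.includeRight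
  have h1 : x' = y' := by
    apply h T
    apply AlgHom.ext
    intro c
    exact hxy' ((1 : S) ⊗ₜ[R] c)
  apply Algebra.TensorProduct.ext'
  intro s a
  have h2 : s ⊗ₜ[R] a = s • ((1 : S) ⊗ₜ[R] a) := by
    rw [TensorProduct.smul_tmul', smul_eq_mul, mul_one]
  rw [h2, map_smul, map_smul]
  congr 1
  exact AlgHom.congr_fun h1 a

lemma map_eq_lTensor (φ : C →ₐc[R] A) (S : Type u) [CommRing S] [Algebra R S] (z : S ⊗[R] C) :
    (Bialgebra.TensorProduct.map (BialgHom.id S S) φ : S ⊗[R] C →ₐc[S] S ⊗[R] A) z =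
      LinearMap.lTensor S (φ : C →ₗ[R] A) z := by
  induction z using TensorProduct.induction_on with
  | zero => simp
  | tmul s c => rfl
  | add x y hx hy => simp only [map_add, hx, hy]

theorem surjective_of_ff (φ : C →ₐc[R] A) (hφ : Mono φ)
    (R' : Type u) [CommRing R'] [Algebra R R'] [Module.FaithfullyFlat R R']
    (M : Type u) [CommGroup M] (e : R' ⊗[R] A ≃ₐc[R'] MonoidAlgebra R' M) :
    Function.Surjective φ := by
  set φ' : R' ⊗[R] C →ₐc[R'] R' ⊗[R] A := Bialgebra.TensorProduct.map (BialgHom.id R' R') φ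
    with hφ'
  have hm : Mono φ' := hφ.baseChange R'
  set ψ : R' ⊗[R] C →ₐc[R'] MonoidAlgebra R' M := e.toBialgHom.comp φ' with hψ
  have hψm : ∀ (T : Type u) [CommRing T] [Algebra R' T],
      Function.Injective (fun x : MonoidAlgebra R' M →ₐ[R'] T =>
        x.comp (ψ : R' ⊗[R] C →ₐ[R'] MonoidAlgebra R' M)) := by
    intro T _ _ x y hxy
    have h1 : x.comp (e.toAlgEquiv : R' ⊗[R] A →ₐ[R'] MonoidAlgebra R' M) =
        y.comp (e.toAlgEquiv : R' ⊗[R] A →ₐ[R'] MonoidAlgebra R' M) := by
      apply hm T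
      apply AlgHom.ext
      intro z
      exact AlgHom.congr_fun hxy z
    apply AlgHom.ext
    intro w
    have := AlgHom.congr_fun h1 (e.symm w)
    simpa using this
  have hsurj : Function.Surjective ψ := surjective_of_mono_diag ψ hψm
  have hsurj' : Function.Surjective φ' := by
    intro w
    obtain ⟨z, hz⟩ := hsurj (e w)
    refine ⟨z, ?_⟩
    apply e.injective
    exact hz
  have h3 : Function.Surjective (LinearMap.lTensor R' (φ : C →ₗ[R] A)) := by
    intro w
    obtain ⟨z, hz⟩ := hsurj' w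
    exact ⟨z, by rw [← map_eq_lTensor]; exact hz⟩
  exact (Module.FaithfullyFlat.lTensor_surjective_iff_surjective R R' _).1 h3

end BC

section Main

lemma surjective_of_cover {R : Type*} [CommRing R] {A C : Type*} [AddCommGroup A] [Module R A]
    [AddCommGroup C] [Module R C] (φ : C →ₗ[R] A) (s : Set R) (hs : Ideal.span s = ⊤)
    (h : ∀ f ∈ s, Function.Surjective (LinearMap.lTensor (Localization.Away f) φ)) :
    Function.Surjective φ := by
  intro a
  have h0 : (LinearMap.range φ).mkQ a = 0 := by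
    apply Groth.Agent.Lib.Helper7.MultDesc.eq_zero_of_cover s hs
    intro f hf
    obtain ⟨z, hz⟩ := h f hf ((1 : Localization.Away f) ⊗ₜ[R] a)
    have h1 : (1 : Localization.Away f) ⊗ₜ[R] (LinearMap.range φ).mkQ a =
        LinearMap.lTensor _ (LinearMap.range φ).mkQ ((1 : Localization.Away f) ⊗ₜ[R] a) := rfl
    rw [h1, ← hz, ← LinearMap.comp_apply, ← LinearMap.lTensor_comp]
    have h2 : (LinearMap.range φ).mkQ ∘ₗ φ = 0 := LinearMap.range_mkQ_comp φ
    rw [h2, LinearMap.lTensor_zero, LinearMap.zero_apply]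
  rw [Submodule.mkQ_apply, Submodule.Quotient.mk_eq_zero] at h0
  exact h0

theorem main (R : Type u) [CommRing R] (A : Type u) [CommRing A] [HopfAlgebra R A]
    (h : SGA3b.IsMultType R A) (C : Type u) [CommRing C] [HopfAlgebra R C] (φ : C →ₐc[R] A)
    (hmono : ∀ (T : Type u) [CommRing T] [Algebra R T],
      Function.Injective (fun x : A →ₐ[R] T => x.comp (φ : C →ₐ[R] A))) :
    Function.Surjective φ := by
  obtain ⟨s, hs, hs'⟩ := h
  have hm : Mono φ := hmono
  have h0 : Function.Surjective (φ : C →ₗ[R] A) := by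
    apply surjective_of_cover _ s hs
    intro f hf
    obtain ⟨R', _, _, hff, M, _, ⟨e⟩⟩ := hs' f hf
    have hm' := hm.baseChange (Localization.Away f)
    have h1 := surjective_of_ff _ hm' R' M e
    intro w
    obtain ⟨z, hz⟩ := h1 w
    exact ⟨z, by rw [← map_eq_lTensor]; exact hz⟩
  exact h0

end Main

end Groth.Agent.Lib.Helper7.MonoClosed
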