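import Groth.Agent.Lib.Helper7.HopfFlatMain
import Groth.Agent.Lib.Helper7.MonoClosed

/-!
# A central `𝔾_m` in an affine group has a character restricting to a positive power (helper7)

Hopf-algebra form, first part: the weight projection attached to `ψ : A → k[M]` and `g : M`.
-/

set_option autoImplicit false
universe u v w
open TensorProduct

namespace Groth.Agent.Lib.Helper7.CG

open HopfRep Groth.Agent.Lib.Helper7.Comod Groth.Agent.Lib.Helper7.HopfGLn
  Groth.Agent.Lib.Helper7.MonoClosed
open Groth.Agent.Lib.Helper7.MultDesc (cf cf_apply cf_single)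

variable {k : Type u} [Field k] {A : Type v} [CommRing A] [HopfAlgebra k A]
  {M : Type w} [CommGroup M] (ψ : A →ₐc[k] MonoidAlgebra k M) (g : M)

/-- the functional `cf g ∘ ψ`. -/
noncomputable def cc : A →ₗ[k] k := (cf g) ∘ₗ (ψ : A →ₗ[k] MonoidAlgebra k M)

/-- left-handed weight operator `x ↦ Σ c(x₁) x₂`. -/
noncomputable def qq : A →ₗ[k] A :=
  contrL A (cc ψ g) ∘ₗ (Coalgebra.comul (R := k) (A := A))

/-- right-handed weight operator `x ↦ Σ x₁ c(x₂)`. -/
noncomputable def pp : A →ₗ[k] A :=
  (TensorProduct.rid k A).toLinearMap ∘ₗ (LinearMap.lTensor A (cc ψ g)) ∘ₗ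
    (Coalgebra.comul (R := k) (A := A))

/-- the right coaction of `k[M]` on `A`. -/
noncomputable def rho : A →ₗ[k] A ⊗[k] MonoidAlgebra k M :=
  (LinearMap.lTensor A (ψ : A →ₗ[k] MonoidAlgebra k M)) ∘ₗ (Coalgebra.comul (R := k) (A := A))

/-- `qq` is an endomorphism of the regular comodule. -/
lemma isComodHom_qq : Hoch.IsComodHom A (qq ψ g) :=
  isComodHom_coeffMap (C := A) (V := A) (cc ψ g)

/-- `v ⊗ w ↦ c(w) ψ(v)`. -/
noncomputable def Psi : A ⊗[k] A →ₗ[k] MonoidAlgebra k M :=
  (TensorProduct.rid k (MonoidAlgebra k M)).toLinearMap ∘ₗ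
    TensorProduct.map (ψ : A →ₗ[k] MonoidAlgebra k M) (cc ψ g)

lemma Psi_comul (v : A) :
    Psi ψ g (Coalgebra.comul (R := k) v) = (cc ψ g v) • (MonoidAlgebra.single g 1 : MonoidAlgebra k M) := by
  have h1 : Coalgebra.comul (R := k) (ψ v) =
      TensorProduct.map (ψ : A →ₗ[k] MonoidAlgebra k M) (ψ : A →ₗ[k] MonoidAlgebra k M)
        (Coalgebra.comul (R := k) v) := (CoalgHomClass.map_comp_comul_apply ψ v).symm
  have h2 := rid_cf_comul (R := k) g (ψ v)
  rw [h1] at h2
  have h3 : ∀ z : A ⊗[k] A, Psi ψ g z =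
      (TensorProduct.rid k (MonoidAlgebra k M)) (LinearMap.lTensor (MonoidAlgebra k M) (cf g)
        (TensorProduct.map (ψ : A →ₗ[k] MonoidAlgebra k M) (ψ : A →ₗ[k] MonoidAlgebra k M) z)) := by
    intro z
    induction z using TensorProduct.induction_on with
    | zero => simp
    | tmul a b => simp [Psi, cc]
    | add x y hx hy => simp only [map_add, hx, hy]
  rw [h3, h2]
  change MonoidAlgebra.single g ((ψ v).coeff g) = _
  rw [MonoidAlgebra.smul_single, smul_eq_mul, mul_one]
  rfl

lemma rho_pp (x : A) :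
    rho ψ (pp ψ g x) = (pp ψ g x) ⊗ₜ[k] (MonoidAlgebra.single g 1 : MonoidAlgebra k M) := by
  -- step B
  have hB : ∀ z : A ⊗[k] A,
      rho ψ ((TensorProduct.rid k A) (LinearMap.lTensor A (cc ψ g) z)) =
      LinearMap.lTensor A (Psi ψ g) (TensorProduct.assoc k A A A
        (LinearMap.rTensor A (Coalgebra.comul (R := k) (A := A)) z)) := by
    intro z
    induction z using TensorProduct.induction_on with
    | zero => simp
    | tmul a b =>
      rw [LinearMap.lTensor_tmul, TensorProduct.rid_tmul, map_smul, LinearMap.rTensor_tmul]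
      have : ∀ y : A ⊗[k] A, LinearMap.lTensor A (Psi ψ g) (TensorProduct.assoc k A A A (y ⊗ₜ[k] b)) =
          (cc ψ g b) • LinearMap.lTensor A (ψ : A →ₗ[k] MonoidAlgebra k M) y := by
        intro y
        induction y using TensorProduct.induction_on with
        | zero => simp
        | tmul u w =>
          simp [Psi, TensorProduct.tmul_smul]
        | add x y hx hy => simp only [TensorProduct.add_tmul, map_add, hx, hy, smul_add]
      rw [this]
      rfl
    | add x y hx hy => simp only [map_add, hx, hy]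
  have hco : TensorProduct.assoc k A A A
      (LinearMap.rTensor A (Coalgebra.comul (R := k) (A := A)) (Coalgebra.comul (R := k) x)) =
      LinearMap.lTensor A (Coalgebra.comul (R := k) (A := A)) (Coalgebra.comul (R := k) x) :=
    Coalgebra.coassoc_apply x
  have hC : ∀ z : A ⊗[k] A, LinearMap.lTensor A (Psi ψ g)
      (LinearMap.lTensor A (Coalgebra.comul (R := k) (A := A)) z) =
      ((TensorProduct.rid k A) (LinearMap.lTensor A (cc ψ g) z)) ⊗ₜ[k]
        (MonoidAlgebra.single g 1 : MonoidAlgebra k M) := by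
    intro z
    induction z using TensorProduct.induction_on with
    | zero => simp
    | tmul a b =>
      rw [LinearMap.lTensor_tmul, LinearMap.lTensor_tmul, Psi_comul, LinearMap.lTensor_tmul,
        TensorProduct.rid_tmul, TensorProduct.tmul_smul, TensorProduct.smul_tmul']
    | add x y hx hy => simp only [map_add, hx, hy, TensorProduct.add_tmul]
  change rho ψ ((TensorProduct.rid k A) (LinearMap.lTensor A (cc ψ g) (Coalgebra.comul (R := k) x))) = _
  rw [hB, hco, hC]
  rfl

lemma counit_pp (x : A) : Coalgebra.counit (R := k) (pp ψ g x) = cc ψ g x := by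
  have h := Coalgebra.rTensor_counit_comul (R := k) x
  have h2 : ∀ z : A ⊗[k] A, Coalgebra.counit (R := k)
      ((TensorProduct.rid k A) (LinearMap.lTensor A (cc ψ g) z)) =
      (TensorProduct.lid k k) (LinearMap.lTensor k (cc ψ g)
        (LinearMap.rTensor A (Coalgebra.counit (R := k) (A := A)) z)) := by
    intro z
    induction z using TensorProduct.induction_on with
    | zero => simp
    | tmul a b => simp [mul_comm]
    | add x y hx hy => simp only [map_add, hx, hy]
  change Coalgebra.counit (R := k)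
      ((TensorProduct.rid k A) (LinearMap.lTensor A (cc ψ g) (Coalgebra.comul (R := k) x))) = _
  rw [h2, h]
  simp

end Groth.Agent.Lib.Helper7.CG
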