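import Groth.Agent.Lib.Helper7.CG1

/-!
# A central `𝔾_m` in an affine group has a character restricting to a positive power (helper7)

Hopf-algebra form, main statement.
-/

set_option autoImplicit false
universe u v w
open TensorProduct

namespace Groth.Agent.Lib.Helper7.CG

open HopfRep Groth.Agent.Lib.Helper7.Comod Groth.Agent.Lib.Helper7.HopfGLn
  Groth.Agent.Lib.Helper7.MonoClosed Groth.Agent.Lib.Helper7.HopfFlat
open Groth.Agent.Lib.Helper7.MultDesc (cf cf_apply cf_single)

variable {k : Type u} [Field k] {A : Type v} [CommRing A] [HopfAlgebra k A]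
  {M : Type w} [CommGroup M] (ψ : A →ₐc[k] MonoidAlgebra k M) (g : M)

/-- centrality of the closed subgroup `Spec k[M] → Spec A`. -/
def IsCentral : Prop :=
  ∀ x : A, TensorProduct.map (ψ : A →ₗ[k] MonoidAlgebra k M) (LinearMap.id : A →ₗ[k] A)
      (Coalgebra.comul (R := k) x) =
    TensorProduct.map (ψ : A →ₗ[k] MonoidAlgebra k M) (LinearMap.id : A →ₗ[k] A)
      (TensorProduct.comm k A A (Coalgebra.comul (R := k) x))

variable {ψ}

lemma pp_eq_qq (hc : IsCentral ψ) (x : A) : pp ψ g x = qq ψ g x := by
  have h := congrArg (contrL A (cf g : MonoidAlgebra k M →ₗ[k] k)) (hc x)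
  have h1 : ∀ z : A ⊗[k] A, contrL A (cf g : MonoidAlgebra k M →ₗ[k] k)
      (TensorProduct.map (ψ : A →ₗ[k] MonoidAlgebra k M) (LinearMap.id : A →ₗ[k] A) z) =
      contrL A (cc ψ g) z := by
    intro z
    induction z using TensorProduct.induction_on with
    | zero => simp
    | tmul a b => simp [cc]
    | add x y hx hy => simp only [map_add, hx, hy]
  have h2 : ∀ z : A ⊗[k] A, contrL A (cf g : MonoidAlgebra k M →ₗ[k] k)
      (TensorProduct.map (ψ : A →ₗ[k] MonoidAlgebra k M) (LinearMap.id : A →ₗ[k] A)
        (TensorProduct.comm k A A z)) =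
      (TensorProduct.rid k A) (LinearMap.lTensor A (cc ψ g) z) := by
    intro z
    induction z using TensorProduct.induction_on with
    | zero => simp
    | tmul a b => simp [cc]
    | add x y hx hy => simp only [map_add, hx, hy]
  rw [h1, h2] at h
  exact h.symm

/-- **Main Hopf statement.** -/
theorem exists_groupLike (hc : IsCentral ψ) (a : A)
    (ha : ψ a = (MonoidAlgebra.single g 1 : MonoidAlgebra k M)) :
    ∃ (u : A) (n : ℕ), IsGroupLikeElem k u ∧ 1 ≤ n ∧
      ψ u = (MonoidAlgebra.single (g ^ n) 1 : MonoidAlgebra k M) := by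
  classical
  obtain ⟨U, hUfin, hsU, hU⟩ := exists_finite_subcomod_le (k := k) (A := A) (V := A) {a}
  have haU : a ∈ U := hsU (by simp)
  set W : Submodule k A := U.map (qq ψ g) with hWdef
  have hW : IsSubcomod (k := k) (A := A) W := isSubcomod_map (isComodHom_qq ψ g) hU
  haveI := hUfin
  haveI : Module.Finite k ↥W := Module.Finite.map U (qq ψ g)
  -- the nonzero element
  have ha'W : qq ψ g a ∈ W := ⟨a, haU, rfl⟩
  have ha'ne : qq ψ g a ≠ 0 := by
    intro h0
    have h1 := counit_pp ψ g a
    rw [pp_eq_qq g hc, h0, map_zero] at h1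
    have h2 : cc ψ g a = 1 := by
      change cf g (ψ a) = 1
      rw [ha, cf_single]
      simp
    rw [h2] at h1
    exact zero_ne_one h1
  -- every element of `W` has weight `g`
  have hwt : ∀ w ∈ W, rho ψ w = w ⊗ₜ[k] (MonoidAlgebra.single g 1 : MonoidAlgebra k M) := by
    rintro _ ⟨x, _, rfl⟩
    rw [← pp_eq_qq g hc]
    exact rho_pp ψ g x
  letI cW : Comod k A ↥W := ComodSub.Comod.restr (Comod.regular k A) W hW
  haveI : Module.Free k ↥W := Module.Free.of_divisionRing k ↥W
  let b := Module.finBasis k ↥W
  set n := Module.finrank k ↥W with hn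
  have hnpos : 1 ≤ n := by
    have : 0 < Module.finrank k ↥W := by
      apply Module.finrank_pos_iff_exists_ne_zero.2
      exact ⟨⟨qq ψ g a, ha'W⟩, fun h => ha'ne (congrArg Subtype.val h)⟩
    omega
  let t : Matrix (Fin n) (Fin n) A := mc A b
  -- comultiplication of the basis
  have hΔ : ∀ j, Coalgebra.comul (R := k) ((b j : ↥W) : A) = ∑ i, ((b i : ↥W) : A) ⊗ₜ[k] t i j := by
    intro j
    have h1 := coact_basis (A := A) b j
    have h2 := ComodSub.restr_coact_coe (Comod.regular k A) W hW (b j)
    change W.subtype.rTensor A (Comod.coact (k := k) (A := A) (b j)) = _ at h2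
    rw [h1, map_sum] at h2
    simp only [LinearMap.rTensor_tmul, Submodule.subtype_apply] at h2
    exact h2.symm
  -- `ψ (t i j)`
  have hψt : ∀ i j, ψ (t i j) = if i = j then (MonoidAlgebra.single g 1 : MonoidAlgebra k M) else 0 := by
    intro i j
    have h1 := hwt _ (b j).2
    change LinearMap.lTensor A (ψ : A →ₗ[k] MonoidAlgebra k M)
      (Coalgebra.comul (R := k) ((b j : ↥W) : A)) = _ at h1
    rw [hΔ, map_sum] at h1
    simp only [LinearMap.lTensor_tmul] at h1
    -- pull back to `W ⊗ L`
    have hinj : Function.Injective (W.subtype.rTensor (MonoidAlgebra k M)) :=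
      Module.Flat.rTensor_preserves_injective_linearMap _ W.injective_subtype
    have h2 : (∑ l, (b l) ⊗ₜ[k] ψ (t l j) : ↥W ⊗[k] MonoidAlgebra k M) =
        (b j) ⊗ₜ[k] (MonoidAlgebra.single g 1 : MonoidAlgebra k M) := by
      apply hinj
      rw [map_sum]
      simp only [LinearMap.rTensor_tmul, Submodule.subtype_apply]
      exact h1
    have h3 := congrArg (contrL (MonoidAlgebra k M) (b.coord i)) h2
    rw [map_sum] at h3
    simp only [contrL_tmul, Module.Basis.coord_apply, Module.Basis.repr_self,
      Finsupp.single_apply] at h3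
    rw [Finset.sum_eq_single i] at h3
    · simp only [if_true, one_smul] at h3
      rw [h3]
      by_cases hij : j = i
      · subst hij; simp
      · rw [if_neg hij, if_neg (fun h => hij h.symm), zero_smul]
    · intro l _ hl
      rw [if_neg hl, zero_smul]
    · intro h
      exact absurd (Finset.mem_univ i) h
  refine ⟨t.det, n, ⟨?_, ?_⟩, hnpos, ?_⟩
  · -- counit
    have h1 : Coalgebra.counit (R := k) t.det = (Bialgebra.counitAlgHom k A) t.det := rfl
    rw [h1, AlgHom.map_det]
    have h2 : (Bialgebra.counitAlgHom k A).mapMatrix t = 1 := by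
      ext i j
      change Coalgebra.counit (R := k) (mc A b i j) = _
      rw [counit_mc, Matrix.one_apply]
    rw [h2, Matrix.det_one]
  · -- comul
    have h1 : Coalgebra.comul (R := k) t.det = (Bialgebra.comulAlgHom k A) t.det := rfl
    rw [h1, AlgHom.map_det]
    have h2 : (Bialgebra.comulAlgHom k A).mapMatrix t =
        (Algebra.TensorProduct.includeLeft : A →ₐ[k] A ⊗[k] A).mapMatrix t *
          (Algebra.TensorProduct.includeRight : A →ₐ[k] A ⊗[k] A).mapMatrix t := by
      ext i j
      change Coalgebra.comul (R := k) (mc A b i j) = _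
      rw [comul_mc, Matrix.mul_apply]
      apply Finset.sum_congr rfl
      intro l _
      simp [Algebra.TensorProduct.tmul_mul_tmul]
      rfl
    rw [h2, Matrix.det_mul, ← AlgHom.map_det, ← AlgHom.map_det]
    simp [Algebra.TensorProduct.tmul_mul_tmul]
  · have h1 : ψ t.det = ((ψ : A →ₐc[k] MonoidAlgebra k M) : A →ₐ[k] MonoidAlgebra k M) t.det := rfl
    rw [h1, AlgHom.map_det]
    have h2 : ((ψ : A →ₐc[k] MonoidAlgebra k M) : A →ₐ[k] MonoidAlgebra k M).mapMatrix t =
        (MonoidAlgebra.single g 1 : MonoidAlgebra k M) • (1 : Matrix (Fin n) (Fin n) (MonoidAlgebra k M)) := by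
      refine Matrix.ext fun i j => ?_
      change ψ (t i j) = _
      rw [hψt, Matrix.smul_apply, Matrix.one_apply]
      by_cases hij : i = j
      · simp [hij]
      · simp [hij]
    rw [h2, Matrix.det_smul, Matrix.det_one, mul_one, Fintype.card_fin, MonoidAlgebra.single_pow,
      one_pow]

end Groth.Agent.Lib.Helper7.CG
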