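import Mathlib

/-!
# Hopf subalgebras of a commutative Hopf algebra over a field are Hopf algebras (helper7)
-/

universe u v

open TensorProduct

namespace Groth.Agent.Lib.Helper7.HopfSub

variable {k : Type u} [Field k] {A : Type v} [CommRing A] [HopfAlgebra k A]

/-- a subalgebra stable under comultiplication and antipode (universe polymorphic version of
`SGA3.IsHopfSubalgebra`). -/
structure IsHopfSub (B : Subalgebra k A) : Prop where
  comul_mem : ∀ b ∈ B, Coalgebra.comul (R := k) b ∈
    LinearMap.range (TensorProduct.map B.val.toLinearMap B.val.toLinearMap)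
  antipode_mem : ∀ b ∈ B, HopfAlgebra.antipode k b ∈ B

variable (B : Subalgebra k A)

/-- the inclusion `B ⊗ B → A ⊗ A`. -/
noncomputable def ιι : ↥B ⊗[k] ↥B →ₐ[k] A ⊗[k] A := Algebra.TensorProduct.map B.val B.val

lemma ιι_apply (z : ↥B ⊗[k] ↥B) :
    ιι B z = TensorProduct.map B.val.toLinearMap B.val.toLinearMap z := rfl

lemma ιι_injective : Function.Injective (ιι B) := by
  have : (ιι B : ↥B ⊗[k] ↥B → A ⊗[k] A) =
      TensorProduct.map B.val.toLinearMap B.val.toLinearMap := rfl
  rw [this]
  exact TensorProduct.map_injective_of_flat_flat _ _ Subtype.val_injective Subtype.val_injective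

variable {B} (hB : IsHopfSub B)

/-- the comultiplication of a Hopf subalgebra. -/
noncomputable def comulB : ↥B →ₐ[k] ↥B ⊗[k] ↥B :=
  ((AlgEquiv.ofInjective (ιι B) (ιι_injective B)).symm : (ιι B).range →ₐ[k] _).comp
    (((Bialgebra.comulAlgHom k A).comp B.val).codRestrict (ιι B).range (fun b => by
      obtain ⟨z, hz⟩ := hB.comul_mem b b.2
      exact ⟨z, hz⟩))

lemma ιι_comulB (b : ↥B) : ιι B (comulB hB b) = Coalgebra.comul (R := k) (b : A) := by
  unfold comulB
  rw [AlgHom.comp_apply]
  exact congrArg Subtype.val ((AlgEquiv.ofInjective (ιι B) (ιι_injective B)).apply_symm_apply _)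

lemma ιι_comp_comulB :
    (ιι B).comp (comulB hB) = (Bialgebra.comulAlgHom k A).comp B.val :=
  AlgHom.ext (fun b => ιι_comulB hB b)

/-- the counit of a subalgebra. -/
noncomputable def counitB (B : Subalgebra k A) : ↥B →ₐ[k] k :=
  (Bialgebra.counitAlgHom k A).comp B.val

lemma assoc_naturality (w : (↥B ⊗[k] ↥B) ⊗[k] ↥B) :
    Algebra.TensorProduct.map B.val (ιι B) (Algebra.TensorProduct.assoc k k k ↥B ↥B ↥B w) =
      Algebra.TensorProduct.assoc k k k A A A (Algebra.TensorProduct.map (ιι B) B.val w) := by
  induction w using TensorProduct.induction_on with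
  | zero => simp
  | tmul x c =>
    induction x using TensorProduct.induction_on with
    | zero => simp
    | tmul a b => simp [ιι]
    | add y z hy hz => simp only [TensorProduct.add_tmul, map_add, hy, hz]
  | add y z hy hz => simp only [map_add, hy, hz]

lemma map_ι_ιι_injective :
    Function.Injective (Algebra.TensorProduct.map B.val (ιι B)) := by
  have : (Algebra.TensorProduct.map B.val (ιι B) : ↥B ⊗[k] (↥B ⊗[k] ↥B) → A ⊗[k] (A ⊗[k] A)) =
      TensorProduct.map B.val.toLinearMap (ιι B).toLinearMap := rfl
  rw [this]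
  exact TensorProduct.map_injective_of_flat_flat _ _ Subtype.val_injective (ιι_injective B)

lemma map_ιι_ι_comulB (z : ↥B ⊗[k] ↥B) :
    Algebra.TensorProduct.map (ιι B) B.val
        (Algebra.TensorProduct.map (comulB hB) (AlgHom.id k ↥B) z) =
      Algebra.TensorProduct.map (Bialgebra.comulAlgHom k A) (AlgHom.id k A) (ιι B z) := by
  induction z using TensorProduct.induction_on with
  | zero => simp
  | tmul a b => simp [ιι, ← ιι_comulB hB]
  | add y z hy hz => simp only [map_add, hy, hz]

lemma map_ι_ιι_comulB (z : ↥B ⊗[k] ↥B) :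
    Algebra.TensorProduct.map B.val (ιι B)
        (Algebra.TensorProduct.map (AlgHom.id k ↥B) (comulB hB) z) =
      Algebra.TensorProduct.map (AlgHom.id k A) (Bialgebra.comulAlgHom k A) (ιι B z) := by
  induction z using TensorProduct.induction_on with
  | zero => simp
  | tmul a b => simp [ιι, ← ιι_comulB hB]
  | add y z hy hz => simp only [map_add, hy, hz]

lemma coassoc_B :
    (Algebra.TensorProduct.assoc k k k ↥B ↥B ↥B).toAlgHom.comp
        ((Algebra.TensorProduct.map (comulB hB) (AlgHom.id k ↥B)).comp (comulB hB)) =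
      (Algebra.TensorProduct.map (AlgHom.id k ↥B) (comulB hB)).comp (comulB hB) := by
  apply AlgHom.ext
  intro b
  apply map_ι_ιι_injective (B := B)
  simp only [AlgHom.comp_apply]
  refine (assoc_naturality (B := B) _).trans ?_
  rw [map_ιι_ι_comulB, map_ι_ιι_comulB, ιι_comulB]
  exact Coalgebra.coassoc_apply (b : A)

lemma lid_map_counitB (z : ↥B ⊗[k] ↥B) :
    ((Algebra.TensorProduct.lid k ↥B
        (Algebra.TensorProduct.map (counitB B) (AlgHom.id k ↥B) z) : ↥B) : A) =
      Algebra.TensorProduct.lid k A
        (Algebra.TensorProduct.map (Bialgebra.counitAlgHom k A) (AlgHom.id k A) (ιι B z)) := by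
  induction z using TensorProduct.induction_on with
  | zero => simp
  | tmul a b => simp [ιι, counitB]
  | add y z hy hz => simp only [map_add, Subalgebra.coe_add, hy, hz]

lemma rid_map_counitB (z : ↥B ⊗[k] ↥B) :
    ((Algebra.TensorProduct.rid k k ↥B
        (Algebra.TensorProduct.map (AlgHom.id k ↥B) (counitB B) z) : ↥B) : A) =
      Algebra.TensorProduct.rid k k A
        (Algebra.TensorProduct.map (AlgHom.id k A) (Bialgebra.counitAlgHom k A) (ιι B z)) := by
  induction z using TensorProduct.induction_on with
  | zero => simp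
  | tmul a b => simp [ιι, counitB]
  | add y z hy hz => simp only [map_add, Subalgebra.coe_add, hy, hz]

lemma rTensor_B :
    (Algebra.TensorProduct.map (counitB B) (AlgHom.id k ↥B)).comp (comulB hB) =
      (Algebra.TensorProduct.lid k ↥B).symm := by
  apply AlgHom.ext
  intro b
  rw [AlgHom.comp_apply]
  apply (Algebra.TensorProduct.lid k ↥B).injective
  apply Subtype.ext
  rw [lid_map_counitB, ιι_comulB]
  have h := Coalgebra.rTensor_counit_comul (R := k) (b : A)
  have h2 : Algebra.TensorProduct.map (Bialgebra.counitAlgHom k A) (AlgHom.id k A)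
      (Coalgebra.comul (R := k) (b : A)) = (1 : k) ⊗ₜ[k] (b : A) := h
  rw [h2]
  simp

lemma lTensor_B :
    (Algebra.TensorProduct.map (AlgHom.id k ↥B) (counitB B)).comp (comulB hB) =
      (Algebra.TensorProduct.rid k k ↥B).symm := by
  apply AlgHom.ext
  intro b
  rw [AlgHom.comp_apply]
  apply (Algebra.TensorProduct.rid k k ↥B).injective
  apply Subtype.ext
  rw [rid_map_counitB, ιι_comulB]
  have h := Coalgebra.lTensor_counit_comul (R := k) (b : A)
  have h2 : Algebra.TensorProduct.map (AlgHom.id k A) (Bialgebra.counitAlgHom k A)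
      (Coalgebra.comul (R := k) (b : A)) = (b : A) ⊗ₜ[k] (1 : k) := h
  rw [h2]
  simp

/-- the bialgebra structure on a Hopf subalgebra. -/
@[reducible] noncomputable def bialgebra : Bialgebra k ↥B :=
  Bialgebra.ofAlgHom (comulB hB) (counitB B) (coassoc_B hB) (rTensor_B hB) (lTensor_B hB)

/-- the antipode of a Hopf subalgebra. -/
noncomputable def antipodeB : ↥B →ₐ[k] ↥B :=
  ((HopfAlgebra.antipodeAlgHom k A).comp B.val).codRestrict B (fun b => hB.antipode_mem b b.2)

lemma coe_antipodeB (b : ↥B) : ((antipodeB hB b : ↥B) : A) = HopfAlgebra.antipode k (b : A) := rfl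

lemma lift_antipode_id (z : A ⊗[k] A) :
    Algebra.TensorProduct.lift (HopfAlgebra.antipodeAlgHom k A) (AlgHom.id k A)
      (fun _ _ => Commute.all _ _) z =
      LinearMap.mul' k A (LinearMap.rTensor A (HopfAlgebra.antipode k) z) := by
  induction z using TensorProduct.induction_on with
  | zero => simp
  | tmul a b => simp
  | add y z hy hz => simp only [map_add, hy, hz]

lemma lift_id_antipode (z : A ⊗[k] A) :
    Algebra.TensorProduct.lift (AlgHom.id k A) (HopfAlgebra.antipodeAlgHom k A)
      (fun _ _ => Commute.all _ _) z =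
      LinearMap.mul' k A (LinearMap.lTensor A (HopfAlgebra.antipode k) z) := by
  induction z using TensorProduct.induction_on with
  | zero => simp
  | tmul a b => simp
  | add y z hy hz => simp only [map_add, hy, hz]

lemma coe_lift_antipodeB_id (z : ↥B ⊗[k] ↥B) :
    ((Algebra.TensorProduct.lift (antipodeB hB) (AlgHom.id k ↥B)
      (fun _ _ => Commute.all _ _) z : ↥B) : A) =
      Algebra.TensorProduct.lift (HopfAlgebra.antipodeAlgHom k A) (AlgHom.id k A)
        (fun _ _ => Commute.all _ _) (ιι B z) := by
  induction z using TensorProduct.induction_on with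
  | zero => simp
  | tmul a b => simp [ιι, coe_antipodeB]
  | add y z hy hz => simp only [map_add, Subalgebra.coe_add, hy, hz]

lemma coe_lift_id_antipodeB (z : ↥B ⊗[k] ↥B) :
    ((Algebra.TensorProduct.lift (AlgHom.id k ↥B) (antipodeB hB)
      (fun _ _ => Commute.all _ _) z : ↥B) : A) =
      Algebra.TensorProduct.lift (AlgHom.id k A) (HopfAlgebra.antipodeAlgHom k A)
        (fun _ _ => Commute.all _ _) (ιι B z) := by
  induction z using TensorProduct.induction_on with
  | zero => simp
  | tmul a b => simp [ιι, coe_antipodeB]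
  | add y z hy hz => simp only [map_add, Subalgebra.coe_add, hy, hz]

/-- the Hopf algebra structure on a Hopf subalgebra. -/
@[reducible] noncomputable def hopfAlgebra : HopfAlgebra k ↥B :=
  letI := bialgebra hB
  HopfAlgebra.ofAlgHom (antipodeB hB)
    (by
      apply AlgHom.ext
      intro b
      apply Subtype.ext
      change ((Algebra.TensorProduct.lift (antipodeB hB) (AlgHom.id k ↥B)
        (fun _ _ => Commute.all _ _) (comulB hB b) : ↥B) : A) =
          algebraMap k A (Coalgebra.counit (R := k) (b : A))
      rw [coe_lift_antipodeB_id, ιι_comulB, lift_antipode_id,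
        HopfAlgebra.mul_antipode_rTensor_comul_apply])
    (by
      apply AlgHom.ext
      intro b
      apply Subtype.ext
      change ((Algebra.TensorProduct.lift (AlgHom.id k ↥B) (antipodeB hB)
        (fun _ _ => Commute.all _ _) (comulB hB b) : ↥B) : A) =
          algebraMap k A (Coalgebra.counit (R := k) (b : A))
      rw [coe_lift_id_antipodeB, ιι_comulB, lift_id_antipode,
        HopfAlgebra.mul_antipode_lTensor_comul_apply])

section API

/-- the comultiplication of the Hopf subalgebra is the restriction of that of `A`. -/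
lemma map_val_comul (b : ↥B) :
    letI := hopfAlgebra hB
    TensorProduct.map B.val.toLinearMap B.val.toLinearMap (Coalgebra.comul (R := k) b) =
      Coalgebra.comul (R := k) (b : A) :=
  ιι_comulB hB b

lemma counit_val (b : ↥B) :
    letI := hopfAlgebra hB
    Coalgebra.counit (R := k) b = Coalgebra.counit (R := k) (b : A) := rfl

lemma antipode_val (b : ↥B) :
    letI := hopfAlgebra hB
    ((HopfAlgebra.antipode k b : ↥B) : A) = HopfAlgebra.antipode k (b : A) := rfl

/-- the inclusion as a bialgebra homomorphism. -/
noncomputable def valBialgHom :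
    letI := hopfAlgebra hB
    ↥B →ₐc[k] A :=
  letI := hopfAlgebra hB
  BialgHom.ofAlgHom B.val rfl (by
    apply AlgHom.ext
    intro b
    exact map_val_comul hB b)

end API

end Groth.Agent.Lib.Helper7.HopfSub
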