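import Groth.Agent.Lib.Helper7.HopfFlatMain
import Groth.Agent.Lib.Helper7.HopfSub
import Groth.Agent.Lib.Helper7.HopfConv

/-!
# A Hopf subalgebra is the algebra of coinvariants of the quotient by its augmentation ideal

For a Hopf subalgebra `B` of a commutative Hopf algebra `A` over a field and `J = B⁺A`:
`B = {x | Δ x - x ⊗ 1 ∈ A ⊗ J}` (uses faithful flatness of `A` over `B`).
-/

set_option autoImplicit false

namespace Groth.Agent.Lib.Helper7.HopfCoinv

open TensorProduct WithConv Groth.Agent.Lib.Helper7.HopfConv Groth.Agent.Lib.Helper7.HopfSub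
  Groth.Agent.Lib.Helper7.HopfFlat

universe u v

variable {k : Type u} [Field k] {A : Type v} [CommRing A] [HopfAlgebra k A]

/-- the ideal generated by the augmentation ideal of a subalgebra. -/
def augSpan (B : Subalgebra k A) : Ideal A :=
  Ideal.span {a : A | a ∈ B ∧ Coalgebra.counit (R := k) a = 0}

variable (B : Subalgebra k A)

lemma sub_counit_mem_augSpan {b : A} (hb : b ∈ B) :
    b - algebraMap k A (Coalgebra.counit (R := k) b) ∈ augSpan B := by
  apply Ideal.subset_span
  refine ⟨B.sub_mem hb (B.algebraMap_mem _), ?_⟩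
  rw [map_sub, Bialgebra.counit_algebraMap, sub_self]

/-- elements of `B` are coinvariant modulo `B⁺A`. -/
theorem comul_sub_mem_of_mem (hB : IsHopfSub B) {x : A} (hx : x ∈ B) :
    Coalgebra.comul (R := k) x - x ⊗ₜ[k] (1 : A) ∈
      LinearMap.range (LinearMap.lTensor A ((augSpan B).restrictScalars k).subtype) := by
  have h1 : x ⊗ₜ[k] (1 : A) = LinearMap.lTensor A
      (Algebra.linearMap k A ∘ₗ Coalgebra.counit (R := k)) (Coalgebra.comul (R := k) x) := by
    rw [LinearMap.lTensor_comp, LinearMap.comp_apply, Coalgebra.lTensor_counit_comul]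
    simp [Algebra.TensorProduct.one_def]
  obtain ⟨z, hz⟩ := hB.comul_mem x hx
  rw [h1, ← hz]
  clear hz h1
  induction z using TensorProduct.induction_on with
  | zero => simp
  | tmul b b' =>
    simp only [TensorProduct.map_tmul, AlgHom.toLinearMap_apply, Subalgebra.coe_val,
      LinearMap.lTensor_tmul, LinearMap.comp_apply, Algebra.linearMap_apply]
    rw [← TensorProduct.tmul_sub]
    exact ⟨(b : A) ⊗ₜ[k] ⟨_, sub_counit_mem_augSpan B b'.2⟩, by simp⟩
  | add y z hy hz =>
    simp only [map_add]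
    rw [add_sub_add_comm]
    exact Submodule.add_mem _ hy hz

section Main

variable {B} (hB : IsHopfSub B)

/-- `a ↦ a ⊗ 1`, as a `k`-algebra map. -/
noncomputable def g₁ : A →ₐ[k] A ⊗[↥B] A := Algebra.TensorProduct.includeLeft

/-- `a ↦ 1 ⊗ a`, as a `k`-algebra map. -/
noncomputable def g₂ : A →ₐ[k] A ⊗[↥B] A :=
  (Algebra.TensorProduct.includeRight : A →ₐ[↥B] A ⊗[↥B] A).restrictScalars k

variable (B) in
/-- `Ξ(c) = Σ S(c₁) ⊗_B c₂`. -/
noncomputable def xi : A →ₐ[k] A ⊗[↥B] A :=
  (toConv ((g₁ (B := B)).comp (HopfAlgebra.antipodeAlgHom k A)) * toConv (g₂ (B := B))).ofConv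

lemma g₁_mul_xi : toConv (g₁ (B := B)) * toConv (xi B) = toConv (g₂ (B := B)) := by
  have h1 : toConv (g₁ (B := B)) * (toConv ((g₁ (B := B)).comp (HopfAlgebra.antipodeAlgHom k A)) *
      toConv (g₂ (B := B))) = (toConv (g₁ (B := B)) *
        toConv ((g₁ (B := B)).comp (HopfAlgebra.antipodeAlgHom k A))) * toConv (g₂ (B := B)) :=
    (mul_assoc (toConv (g₁ (B := B)))
      (toConv ((g₁ (B := B)).comp (HopfAlgebra.antipodeAlgHom k A))) (toConv (g₂ (B := B)))).symm
  have h2 : toConv (g₁ (B := B)) *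
      toConv ((g₁ (B := B)).comp (HopfAlgebra.antipodeAlgHom k A)) = 1 :=
    self_mul_antipode (g₁ (B := B))
  have h3 : (1 : WithConv (A →ₐ[k] A ⊗[↥B] A)) * toConv (g₂ (B := B)) = toConv (g₂ (B := B)) :=
    one_mul (toConv (g₂ (B := B)))
  exact h1.trans ((congrArg (· * toConv (g₂ (B := B))) h2).trans h3)

include hB in
lemma xi_apply_mem {b : A} (hb : b ∈ B) :
    xi B b = algebraMap k (A ⊗[↥B] A) (Coalgebra.counit (R := k) b) := by
  change (toConv ((g₁ (B := B)).comp (HopfAlgebra.antipodeAlgHom k A)) *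
    toConv (g₂ (B := B))) b = _
  rw [AlgHom.convMul_apply]
  obtain ⟨z, hz⟩ := hB.comul_mem b hb
  have h : ∀ z : ↥B ⊗[k] ↥B,
      Algebra.TensorProduct.lift ((g₁ (B := B)).comp (HopfAlgebra.antipodeAlgHom k A))
        (g₂ (B := B)) (fun _ _ => Commute.all _ _)
        (TensorProduct.map B.val.toLinearMap B.val.toLinearMap z) =
      g₁ (B := B) (LinearMap.mul' k A (LinearMap.rTensor A (HopfAlgebra.antipode k)
        (TensorProduct.map B.val.toLinearMap B.val.toLinearMap z))) := by
    intro z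
    induction z using TensorProduct.induction_on with
    | zero => simp
    | tmul β β' =>
      simp only [TensorProduct.map_tmul, AlgHom.toLinearMap_apply, Subalgebra.coe_val,
        Algebra.TensorProduct.lift_tmul, AlgHom.comp_apply, LinearMap.rTensor_tmul,
        LinearMap.mul'_apply]
      change ((HopfAlgebra.antipode k (β : A)) ⊗ₜ[↥B] (1 : A)) * ((1 : A) ⊗ₜ[↥B] (β' : A)) =
        (HopfAlgebra.antipode k (β : A) * (β' : A)) ⊗ₜ[↥B] (1 : A)
      rw [Algebra.TensorProduct.tmul_mul_tmul, mul_one, one_mul]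
      have h1 : (β' : A) = β' • (1 : A) := by
        rw [Subalgebra.smul_def, smul_eq_mul, mul_one]
      conv_lhs => rw [h1, ← TensorProduct.smul_tmul, Subalgebra.smul_def, smul_eq_mul, mul_comm]
    | add y z hy hz => simp only [map_add, hy, hz]
  rw [← hz, h, hz, HopfAlgebra.mul_antipode_rTensor_comul_apply]
  exact AlgHomClass.commutes (g₁ (B := B)) _

include hB in
lemma xi_eq_zero_of_mem_augSpan {j : A} (hj : j ∈ augSpan B) : xi B j = 0 := by
  have : augSpan B ≤ RingHom.ker ((xi B : A →ₐ[k] A ⊗[↥B] A) : A →+* A ⊗[↥B] A) := by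
    apply Ideal.span_le.2
    rintro b ⟨hb, hε⟩
    rw [SetLike.mem_coe, RingHom.mem_ker]
    change xi B b = 0
    rw [xi_apply_mem hB hb, hε, map_zero]
  exact this hj

include hB in
/-- coinvariants modulo `B⁺A` lie in `B`. -/
theorem mem_of_comul_sub_mem {x : A}
    (hx : Coalgebra.comul (R := k) x - x ⊗ₜ[k] (1 : A) ∈
      LinearMap.range (LinearMap.lTensor A ((augSpan B).restrictScalars k).subtype)) :
    x ∈ B := by
  letI := hopfAlgebra hB
  haveI : Module.FaithfullyFlat ↥B A :=
    faithfullyFlat_of_injective (valBialgHom hB) Subtype.val_injective (fun b a => rfl)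
  let Φ : A ⊗[k] A →ₐ[k] A ⊗[↥B] A :=
    Algebra.TensorProduct.lift (g₁ (B := B)) (xi B) (fun _ _ => Commute.all _ _)
  have hΦ1 : Φ (Coalgebra.comul (R := k) x) = g₂ (B := B) x := by
    have := congrArg (fun f : WithConv (A →ₐ[k] A ⊗[↥B] A) => f.ofConv x) (g₁_mul_xi (B := B))
    simp only at this
    rw [← this]
    exact (AlgHom.convMul_apply _ _ x).symm
  have hΦ2 : Φ (x ⊗ₜ[k] (1 : A)) = g₁ (B := B) x := by
    simp [Φ]
  have hΦ3 : ∀ w : A ⊗[k] ((augSpan B).restrictScalars k),
      Φ (LinearMap.lTensor A ((augSpan B).restrictScalars k).subtype w) = 0 := by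
    intro w
    induction w using TensorProduct.induction_on with
    | zero => simp
    | tmul a j =>
      simp only [LinearMap.lTensor_tmul, Submodule.subtype_apply, Φ,
        Algebra.TensorProduct.lift_tmul]
      rw [xi_eq_zero_of_mem_augSpan hB j.2, mul_zero]
    | add y z hy hz => simp only [map_add, hy, hz, add_zero]
  obtain ⟨w, hw⟩ := hx
  have h1 : Φ (Coalgebra.comul (R := k) x - x ⊗ₜ[k] (1 : A)) = 0 := by
    rw [← hw]; exact hΦ3 w
  rw [map_sub, hΦ1, hΦ2, sub_eq_zero] at h1
  have h2 : Algebra.TensorProduct.includeLeftSubRight ↥B A x = 0 := by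
    rw [Algebra.TensorProduct.includeLeftSubRight_apply, sub_eq_zero]
    exact h1.symm
  obtain ⟨b, hb⟩ := ((Algebra.IsEffective.of_faithfullyFlat ↥B A) x).1 h2
  rw [← hb]
  exact b.2

end Main

/-- **Takeuchi correspondence, one half**: `B = A^{co A/B⁺A}`. -/
theorem coe_eq_coinv (hB : IsHopfSub B) :
    (B : Set A) = {x : A | Coalgebra.comul (R := k) x - x ⊗ₜ[k] (1 : A) ∈
      LinearMap.range (LinearMap.lTensor A ((augSpan B).restrictScalars k).subtype)} := by
  ext x
  exact ⟨fun hx => comul_sub_mem_of_mem B hB hx, fun hx => mem_of_comul_sub_mem hB hx⟩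

end Groth.Agent.Lib.Helper7.HopfCoinv
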