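import Groth.Agent.Lib.Helper7.HopfConv
import Groth.Agent.Lib.Helper7.HopfSub

/-!
# Bialgebra maps between commutative Hopf algebras commute with antipodes; the image is a Hopf
subalgebra.
-/

set_option autoImplicit false

namespace Groth.Agent.Lib.Helper7.HopfMap

open WithConv TensorProduct Groth.Agent.Lib.Helper7.HopfConv Groth.Agent.Lib.Helper7.HopfSub

universe u v w

variable {k : Type u} [Field k] {A : Type v} [CommRing A] [HopfAlgebra k A]
  {B : Type w} [CommRing B] [HopfAlgebra k B]

theorem antipode_comp_eq (f : A →ₐc[k] B) :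
    (HopfAlgebra.antipodeAlgHom k B).comp (f : A →ₐ[k] B) =
      (f : A →ₐ[k] B).comp (HopfAlgebra.antipodeAlgHom k A) := by
  have h1 : toConv ((HopfAlgebra.antipodeAlgHom k B).comp (f : A →ₐ[k] B)) *
      toConv (f : A →ₐ[k] B) = 1 := by
    have h := AlgHom.convMul_comp_bialgHom_distrib (toConv (HopfAlgebra.antipodeAlgHom k B))
      (toConv (AlgHom.id k B)) f
    rw [AlgHom.antipode_id_cancel, convOne_comp_bialgHom] at h
    apply WithConv.ofConv_injective
    rw [h]
    rfl
  have h2 := self_mul_antipode (k := k) (f : A →ₐ[k] B)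
  have h3 := left_inv_eq_right_inv h1 h2
  exact WithConv.toConv_injective h3

theorem map_antipode (f : A →ₐc[k] B) (a : A) :
    f (HopfAlgebra.antipode k a) = HopfAlgebra.antipode k (f a) :=
  (AlgHom.congr_fun (antipode_comp_eq f) a).symm

theorem isHopfSub_range (f : A →ₐc[k] B) : IsHopfSub (f : A →ₐ[k] B).range := by
  refine ⟨?_, ?_⟩
  · rintro _ ⟨a, rfl⟩
    have h1 : Coalgebra.comul (R := k) (f a) =
        TensorProduct.map (f : A →ₗ[k] B) (f : A →ₗ[k] B) (Coalgebra.comul (R := k) a) :=
      (LinearMap.congr_fun (CoalgHomClass.map_comp_comul f) a).symm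
    have h2 : ∀ z : A ⊗[k] A, TensorProduct.map (f : A →ₗ[k] B) (f : A →ₗ[k] B) z =
        TensorProduct.map (f : A →ₐ[k] B).range.val.toLinearMap
          (f : A →ₐ[k] B).range.val.toLinearMap
          (TensorProduct.map (f : A →ₐ[k] B).rangeRestrict.toLinearMap
            (f : A →ₐ[k] B).rangeRestrict.toLinearMap z) := by
      intro z
      induction z using TensorProduct.induction_on with
      | zero => simp
      | tmul a b => simp
      | add y z hy hz => simp only [map_add, hy, hz]
    exact ⟨_, ((h1.trans (h2 _)).symm)⟩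
  · rintro _ ⟨a, rfl⟩
    exact ⟨HopfAlgebra.antipode k a, map_antipode f a⟩

end Groth.Agent.Lib.Helper7.HopfMap
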