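import Groth.Agent.Lib.Helper7.CoeffSpace
import Groth.Agent.Lib.Helper7.HopfAntipode
import Groth.Agent.Lib.Helper7.HopfSub
import Groth.Prelude.Def_ComodSub

/-!
# Generating Hopf subalgebras

* `isHopfSub_adjoin`: the subalgebra generated by a set whose elements have comultiplication and
  antipode in it is a Hopf subalgebra;
* `isHopfSub_sSup`: a supremum of Hopf subalgebras is a Hopf subalgebra;
* `exists_fg_hopfSub_le`: every finite subset of a commutative Hopf algebra over a field lies in a
  finitely generated Hopf subalgebra (universe polymorphic form of S5375).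
-/

set_option autoImplicit false

namespace Groth.Agent.Lib.Helper7.HopfSubGen

open TensorProduct WithConv HopfRep Groth.Agent.Lib.Helper7.Comod Groth.Agent.Lib.Helper7.HopfConv
  Groth.Agent.Lib.Helper7.HopfSub

universe u v

variable {k : Type u} [Field k] {A : Type v} [CommRing A] [HopfAlgebra k A]

/-- `S ∘ S = id` for a commutative Hopf algebra. -/
theorem antipode_antipode (a : A) : HopfAlgebra.antipode k (HopfAlgebra.antipode k a) = a := by
  have h2 : (toConv ((HopfAlgebra.antipodeAlgHom k A).comp (HopfAlgebra.antipodeAlgHom k A))) =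
      toConv (AlgHom.id k A) :=
    left_inv_eq_right_inv (antipode_mul_self (HopfAlgebra.antipodeAlgHom k A))
      (antipode_mul_self (AlgHom.id k A))
  have h3 := congrArg (fun f : WithConv (A →ₐ[k] A) => f.ofConv a) h2
  simpa using h3

/-- monotonicity of `B ⊗ B ⊆ A ⊗ A`. -/
lemma range_map_val_mono {B B' : Subalgebra k A} (h : B ≤ B') :
    LinearMap.range (TensorProduct.map B.val.toLinearMap B.val.toLinearMap) ≤
      LinearMap.range (TensorProduct.map B'.val.toLinearMap B'.val.toLinearMap) := by
  rintro _ ⟨z, rfl⟩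
  refine ⟨TensorProduct.map (Subalgebra.inclusion h).toLinearMap
    (Subalgebra.inclusion h).toLinearMap z, ?_⟩
  induction z using TensorProduct.induction_on with
  | zero => simp
  | tmul a b => simp
  | add y z hy hz => simp only [map_add, hy, hz]

/-- the subalgebra generated by a set closed under comultiplication and antipode is a Hopf
subalgebra. -/
theorem isHopfSub_adjoin (s : Set A)
    (hΔ : ∀ x ∈ s, Coalgebra.comul (R := k) x ∈ LinearMap.range (TensorProduct.map
      (Algebra.adjoin k s).val.toLinearMap (Algebra.adjoin k s).val.toLinearMap))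
    (hS : ∀ x ∈ s, HopfAlgebra.antipode k x ∈ Algebra.adjoin k s) :
    IsHopfSub (Algebra.adjoin k s) := by
  set B := Algebra.adjoin k s with hBdef
  refine ⟨?_, ?_⟩
  · let R : Subalgebra k (A ⊗[k] A) := (Algebra.TensorProduct.map B.val B.val).range
    have hle : B ≤ R.comap (Bialgebra.comulAlgHom k A) := by
      apply Algebra.adjoin_le
      intro u hu
      obtain ⟨z, hz⟩ := hΔ u hu
      change Bialgebra.comulAlgHom k A u ∈ R
      rw [Bialgebra.comulAlgHom_apply, ← hz]
      exact ⟨z, rfl⟩
    intro b hb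
    obtain ⟨z, hz⟩ := hle hb
    exact ⟨z, hz⟩
  · have hle : B ≤ B.comap (HopfAlgebra.antipodeAlgHom k A) := by
      apply Algebra.adjoin_le
      intro u hu
      exact hS u hu
    intro b hb
    exact hle hb

/-- a supremum of Hopf subalgebras is a Hopf subalgebra. -/
theorem isHopfSub_sSup (𝓗 : Set (Subalgebra k A)) (h : ∀ B ∈ 𝓗, IsHopfSub B) :
    IsHopfSub (sSup 𝓗) := by
  have hS : sSup 𝓗 = Algebra.adjoin k (⋃ B ∈ 𝓗, (B : Set A)) := by
    apply le_antisymm
    · apply sSup_le
      intro B hB x hx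
      exact Algebra.subset_adjoin (Set.mem_biUnion hB hx)
    · apply Algebra.adjoin_le
      intro x hx
      obtain ⟨B, hB, hx⟩ := Set.mem_iUnion₂.1 hx
      exact (le_sSup hB : B ≤ sSup 𝓗) hx
  rw [hS]
  apply isHopfSub_adjoin
  · intro x hx
    obtain ⟨B, hB, hx⟩ := Set.mem_iUnion₂.1 hx
    refine range_map_val_mono ?_ ((h B hB).comul_mem x hx)
    rw [← hS]
    exact le_sSup hB
  · intro x hx
    obtain ⟨B, hB, hx⟩ := Set.mem_iUnion₂.1 hx
    exact Algebra.subset_adjoin (Set.mem_biUnion hB ((h B hB).antipode_mem x hx))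

theorem isHopfSub_sup {B B' : Subalgebra k A} (h : IsHopfSub B) (h' : IsHopfSub B') :
    IsHopfSub (B ⊔ B') := by
  have := isHopfSub_sSup ({B, B'} : Set (Subalgebra k A)) (by
    rintro C (rfl | rfl)
    · exact h
    · exact h')
  rwa [sSup_pair] at this

theorem isHopfSub_bot : IsHopfSub (⊥ : Subalgebra k A) := by
  refine ⟨?_, ?_⟩
  · rintro _ ⟨c, rfl⟩
    refine ⟨(algebraMap k (⊥ : Subalgebra k A) c) ⊗ₜ[k] 1, ?_⟩
    simp [Algebra.algebraMap_eq_smul_one, TensorProduct.smul_tmul', Algebra.TensorProduct.one_def]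
  · rintro _ ⟨c, rfl⟩
    refine ⟨c, ?_⟩
    simp [Algebra.algebraMap_eq_smul_one]

theorem isSubcoalg_map_antipode (U : Submodule k A) (hU : IsSubcoalg U) :
    IsSubcoalg (U.map (HopfAlgebra.antipode k)) := by
  rintro _ ⟨u, hu, rfl⟩
  obtain ⟨z, hz⟩ := hU u hu
  rw [Groth.Agent.Lib.Helper7.HopfConv.comul_antipode, ← hz]
  let SU : U →ₗ[k] (U.map (HopfAlgebra.antipode k (A := A))) :=
    (HopfAlgebra.antipode k (A := A)).restrict (p := U) (q := U.map (HopfAlgebra.antipode k))
      (fun x hx => ⟨x, hx, rfl⟩)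
  refine ⟨TensorProduct.map SU SU (TensorProduct.comm k U U z), ?_⟩
  clear hz
  induction z using TensorProduct.induction_on with
  | zero => simp
  | tmul b c => simp [SU]
  | add y z hy hz => simp only [map_add, hy, hz]

theorem isSubcoalg_sup (U V : Submodule k A) (hU : IsSubcoalg U) (hV : IsSubcoalg V) :
    IsSubcoalg (U ⊔ V) := by
  have : U ⊔ V = ⨆ b : Bool, (if b then U else V) := by
    rw [iSup_bool_eq]; simp
  rw [this]
  apply isSubcoalg_iSup
  intro b
  cases b <;> simpa

/-- every element lies in a finitely generated Hopf subalgebra. -/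
theorem exists_fg_hopfSub_mem (x : A) :
    ∃ B : Subalgebra k A, x ∈ B ∧ B.FG ∧ IsHopfSub B := by
  classical
  obtain ⟨W, hWfin, hxW, hW⟩ :=
    Groth.Agent.Lib.Helper7.Comod.exists_finite_subcomod_mem (k := k) (C := A) (V := A) x
  letI cW : HopfRep.Comod k A W := ComodSub.Comod.restr (HopfRep.Comod.regular k A) W hW
  let U : Submodule k A := Groth.Agent.Lib.Helper7.Comod.coeffSpace k A W
  have hUfin : Module.Finite k U := Groth.Agent.Lib.Helper7.Comod.finite_coeffSpace
  have hUsub : IsSubcoalg U := isSubcoalg_coeffSpace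
  have hxU : x ∈ U := by
    have := apply_mem_coeffSpace_of_isComodHom (k := k) (C := A)
      (V := W) (f := W.subtype)
      (ComodSub.isComodHom_subtype (HopfRep.Comod.regular k A) W hW) ⟨x, hxW⟩
    exact this
  let U' : Submodule k A := U ⊔ U.map (HopfAlgebra.antipode k)
  have hU'sub : IsSubcoalg U' := isSubcoalg_sup _ _ hUsub (isSubcoalg_map_antipode U hUsub)
  have hU'S : U'.map (HopfAlgebra.antipode k) ≤ U' := by
    rw [Submodule.map_sup]
    apply sup_le
    · exact le_sup_right
    · rintro _ ⟨_, ⟨u, hu, rfl⟩, rfl⟩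
      rw [antipode_antipode]
      exact Submodule.mem_sup_left hu
  have hU'fg : U'.FG := by
    apply Submodule.FG.sup
    · exact Module.Finite.iff_fg.1 hUfin
    · exact (Module.Finite.iff_fg.1 hUfin).map _
  have hU'B : ∀ u ∈ U', u ∈ Algebra.adjoin k (U' : Set A) := fun u hu => Algebra.subset_adjoin hu
  refine ⟨Algebra.adjoin k (U' : Set A), hU'B x (Submodule.mem_sup_left hxU), ?_, ?_⟩
  · obtain ⟨s, hs⟩ := hU'fg
    have : Algebra.adjoin k (U' : Set A) = Algebra.adjoin k (s : Set A) := by
      rw [← hs, Algebra.adjoin_span]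
    rw [this]
    exact Subalgebra.fg_adjoin_finset s
  · apply isHopfSub_adjoin
    · intro u hu
      obtain ⟨z, hz⟩ := hU'sub u hu
      rw [← hz]
      let j : U' →ₗ[k] Algebra.adjoin k (U' : Set A) :=
        (LinearMap.id (R := k) (M := A)).restrict (p := U')
          (q := Subalgebra.toSubmodule (Algebra.adjoin k (U' : Set A)))
          (fun a ha => hU'B a ha)
      refine ⟨TensorProduct.map j j z, ?_⟩
      clear hz
      induction z using TensorProduct.induction_on with
      | zero => simp
      | tmul b c => simp [j]; rfl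
      | add y z hy hz => simp only [map_add, hy, hz]
    · intro u hu
      exact hU'B _ (hU'S ⟨u, hu, rfl⟩)

/-- every finite subset lies in a finitely generated Hopf subalgebra. -/
theorem exists_fg_hopfSub_le (s : Finset A) :
    ∃ B : Subalgebra k A, (s : Set A) ⊆ B ∧ B.FG ∧ IsHopfSub B := by
  classical
  induction s using Finset.induction_on with
  | empty => exact ⟨⊥, by simp, Subalgebra.fg_bot, isHopfSub_bot⟩
  | insert a s _ ih =>
    obtain ⟨B, hsB, hBfg, hB⟩ := ih
    obtain ⟨B', haB', hB'fg, hB'⟩ := exists_fg_hopfSub_mem (k := k) a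
    refine ⟨B ⊔ B', ?_, hBfg.sup hB'fg, isHopfSub_sup hB hB'⟩
    intro x hx
    rw [Finset.coe_insert] at hx
    rcases hx with rfl | hx
    · exact (le_sup_right : B' ≤ B ⊔ B') haB'
    · exact (le_sup_left : B ≤ B ⊔ B') (hsB hx)

end Groth.Agent.Lib.Helper7.HopfSubGen
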