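import Groth.Agent.Lib.Helper7.NormalKer
import Groth.Agent.Lib.Helper7.HopfMap
import Groth.Agent.Lib.Helper7.HopfSubGen
import Groth.Agent.Lib.Helper7.HopfCoinv

set_option autoImplicit false

namespace Groth.Agent.Lib.Helper7.NormalQuot

open TensorProduct WithConv HopfRep Groth.Agent.Lib.Helper7.HopfConv
  Groth.Agent.Lib.Helper7.HopfSub Groth.Agent.Lib.Helper7.NormalKer
  Groth.Agent.Lib.Helper7.NormalFix Groth.Agent.Lib.Helper7.HopfMap

universe u

section Universal

variable {k : Type u} [Field k] {A : Type u} [CommRing A] [HopfAlgebra k A] (I : Ideal A)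

/-- the universal conjugate `g h g⁻¹` over `(A/I) ⊗ A`. -/
noncomputable def adj : A →ₐ[k] (A ⧸ I) ⊗[k] A :=
  (toConv (gR k I) * toConv (hR k I) *
    toConv ((gR k I).comp (HopfAlgebra.antipodeAlgHom k A))).ofConv

lemma adj_eq_zero_of_normal (hI : SGA3.IsNormalHopfIdeal k A I) : ∀ a ∈ I, adj (k := k) I a = 0 := by
  intro a ha
  have := hI ((A ⧸ I) ⊗[k] A) (gR k I) (hR k I) (hR_kills I) a ha
  rwa [conv3_eq] at this

lemma normal_of_adj (h : ∀ a ∈ I, adj (k := k) I a = 0) : SGA3.IsNormalHopfIdeal k A I := by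
  intro R _ _ g h' hh a ha
  rw [conv3_eq]
  let hbar : A ⧸ I →ₐ[k] R := Ideal.Quotient.liftₐ I h' hh
  let u : (A ⧸ I) ⊗[k] A →ₐ[k] R := Algebra.TensorProduct.lift hbar g (fun _ _ => Commute.all _ _)
  have hug : u.comp (gR k I) = g := by
    ext x; simp [u, gR]
  have huh : u.comp (hR k I) = h' := by
    ext x
    simp only [u, hR, hbar, AlgHom.comp_apply, Algebra.TensorProduct.includeLeft_apply,
      Algebra.TensorProduct.lift_tmul, map_one, mul_one, Ideal.Quotient.mkₐ_eq_mk]
    exact Ideal.Quotient.lift_mk I _ _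
  have hugS : u.comp ((gR k I).comp (HopfAlgebra.antipodeAlgHom k A)) =
      g.comp (HopfAlgebra.antipodeAlgHom k A) := by
    rw [← AlgHom.comp_assoc, hug]
  have h1 : u.comp (adj (k := k) I) = (toConv g * toConv h' *
      toConv (g.comp (HopfAlgebra.antipodeAlgHom k A))).ofConv := by
    rw [adj, AlgHom.comp_convMul_distrib, toConv_ofConv, AlgHom.comp_convMul_distrib]
    simp only [toConv_ofConv, hug, huh, hugS]
  have h2 := AlgHom.congr_fun h1 a
  rw [AlgHom.comp_apply, h a ha, map_zero] at h2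
  exact h2.symm

end Universal

end Groth.Agent.Lib.Helper7.NormalQuot
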