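import Groth.Agent.Lib.Helper7.NormalKer
import Groth.Agent.Lib.Helper7.HopfMap
import Groth.Agent.Lib.Helper7.HopfSubGen
import Groth.Agent.Lib.Helper7.HopfCoinv
import Groth.Agent.Lib.Helper7.NQ1

set_option autoImplicit false

namespace Groth.Agent.Lib.Helper7.NormalQuot

open TensorProduct WithConv HopfRep Groth.Agent.Lib.Helper7.HopfConv
  Groth.Agent.Lib.Helper7.HopfSub Groth.Agent.Lib.Helper7.NormalKer
  Groth.Agent.Lib.Helper7.NormalFix Groth.Agent.Lib.Helper7.HopfMap
  Groth.Agent.Lib.Helper7.Chevalley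

universe u v w

section Ker

variable {k : Type u} [Field k] {A : Type v} [CommRing A] [HopfAlgebra k A]
  {D : Type w} [CommRing D] [HopfAlgebra k D]

/-- the kernel of a bialgebra map of commutative Hopf algebras over a field is a Hopf ideal. -/
theorem isHopfIdeal_ker (φ : A →ₐc[k] D) : (RingHom.ker (φ : A →+* D)).IsHopfIdeal k where
  counit_eq_zero := fun x hx => counit_eq_zero_of_mem_ker φ hx
  map_mkQ_comul_eq_zero := fun x hx => map_mk_comul_eq_zero_of_mem_ker φ hx
  antipode_mem := fun x hx => by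
    rw [RingHom.mem_ker] at hx ⊢
    change φ (HopfAlgebra.antipode k x) = 0
    rw [map_antipode, show φ x = 0 from hx, map_zero]

/-- the preimage of a Hopf ideal under a bialgebra map is a Hopf ideal. -/
theorem isHopfIdeal_comap (ι : A →ₐc[k] D) (I : Ideal D) [I.IsHopfIdeal k] :
    (Ideal.comap (ι : A →+* D) I).IsHopfIdeal k := by
  have h := isHopfIdeal_ker ((Bialgebra.Quotient.mkBialgHom I).comp ι)
  have h2 : RingHom.ker (((Bialgebra.Quotient.mkBialgHom I).comp ι : A →ₐc[k] D ⧸ I) :
      A →+* D ⧸ I) = Ideal.comap (ι : A →+* D) I := by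
    ext x
    rw [RingHom.mem_ker, Ideal.mem_comap]
    exact Ideal.Quotient.eq_zero_iff_mem
  rwa [h2] at h

end Ker

section Comap

variable {k : Type u} [Field k] {A : Type u} [CommRing A] [HopfAlgebra k A]
  {A' : Type u} [CommRing A'] [HopfAlgebra k A']

/-- normality passes to Hopf subalgebras. -/
theorem normal_comap (ι : A' →ₐc[k] A) (hι : Function.Injective ι) (I : Ideal A)
    (hI : SGA3.IsNormalHopfIdeal k A I) :
    SGA3.IsNormalHopfIdeal k A' (Ideal.comap (ι : A' →+* A) I) := by
  apply normal_of_adj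
  intro a' ha'
  set I' := Ideal.comap (ι : A' →+* A) I with hI'
  let ιbar : A' ⧸ I' →ₐ[k] A ⧸ I := Ideal.quotientMapₐ I (ι : A' →ₐ[k] A) le_rfl
  have hιbar : Function.Injective ιbar := Ideal.quotientMap_injective
  let u : (A' ⧸ I') ⊗[k] A' →ₐ[k] (A ⧸ I) ⊗[k] A :=
    Algebra.TensorProduct.map ιbar (ι : A' →ₐ[k] A)
  have hu : Function.Injective u := by
    have := TensorProduct.map_injective_of_flat_flat ιbar.toLinearMap (ι : A' →ₐ[k] A).toLinearMap
      hιbar hι
    intro x y hxy
    apply this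
    exact hxy
  have hug : u.comp (gR k I') = (gR k I).comp (ι : A' →ₐ[k] A) := by
    ext x; simp [u, gR]
  have huh : u.comp (hR k I') = (hR k I).comp (ι : A' →ₐ[k] A) := by
    ext x
    simp only [u, hR, AlgHom.comp_apply, Algebra.TensorProduct.includeLeft_apply,
      Algebra.TensorProduct.map_tmul, map_one, Ideal.Quotient.mkₐ_eq_mk]
    rfl
  have hugS : u.comp ((gR k I').comp (HopfAlgebra.antipodeAlgHom k A')) =
      ((gR k I).comp (HopfAlgebra.antipodeAlgHom k A)).comp (ι : A' →ₐ[k] A) := by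
    rw [← AlgHom.comp_assoc, hug, AlgHom.comp_assoc, AlgHom.comp_assoc, antipode_comp_eq]
  have h1 : u.comp (adj (k := k) I') = (adj (k := k) I).comp (ι : A' →ₐ[k] A) := by
    rw [adj, adj, AlgHom.comp_convMul_distrib, toConv_ofConv, AlgHom.comp_convMul_distrib,
      AlgHom.convMul_comp_bialgHom_distrib, toConv_ofConv, AlgHom.convMul_comp_bialgHom_distrib]
    simp only [toConv_ofConv, hug, huh, hugS]
  have h2 := AlgHom.congr_fun h1 a'
  rw [AlgHom.comp_apply, AlgHom.comp_apply] at h2
  have h3 : adj (k := k) I ((ι : A' →ₐ[k] A) a') = 0 := adj_eq_zero_of_normal I hI _ ha'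
  apply hu
  rw [h2, h3, map_zero]

end Comap

end Groth.Agent.Lib.Helper7.NormalQuot
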