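import Groth.Agent.Lib.Helper7.HopfFlatMain
import Groth.Agent.Lib.Helper7.HopfMap

/-!
# Consequences of faithful flatness of Hopf algebras over Hopf subalgebras
-/

set_option autoImplicit false

namespace Groth.Agent.Lib.Helper7.HopfFlat

open TensorProduct

universe u v w

/-- a nonzero finitely generated algebra over an algebraically closed field has a point. -/
theorem nonempty_algHom_of_nontrivial (K : Type u) [Field K] [IsAlgClosed K] (T : Type v)
    [CommRing T] [Algebra K T] [Algebra.FiniteType K T] [Nontrivial T] :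
    Nonempty (T →ₐ[K] K) := by
  obtain ⟨m, hm⟩ := Ideal.exists_maximal T
  let _ := Ideal.Quotient.field m
  have hfin : Module.Finite K (T ⧸ m) := finite_of_finite_type_of_isJacobsonRing K (T ⧸ m)
  have hbij : Function.Bijective (algebraMap K (T ⧸ m)) :=
    IsAlgClosed.algebraMap_bijective_of_isIntegral
  let e : (T ⧸ m) ≃ₐ[K] K := (AlgEquiv.ofBijective (Algebra.ofId K (T ⧸ m)) hbij).symm
  exact ⟨(e : (T ⧸ m) →ₐ[K] K).comp (Ideal.Quotient.mkₐ K m)⟩

variable {k : Type u} [Field k] {A : Type v} [CommRing A] [HopfAlgebra k A]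
  {B : Type w} [CommRing B] [HopfAlgebra k B]

/-- contraction of extended ideals. -/
theorem comap_map_eq (ψ : B →ₐc[k] A) (hψ : Function.Injective ψ) (I : Ideal B) :
    (I.map (ψ : B →+* A)).comap (ψ : B →+* A) = I := by
  letI : Algebra B A := (ψ : B →+* A).toAlgebra
  haveI : Module.FaithfullyFlat B A :=
    faithfullyFlat_of_injective ψ hψ (fun b a => Algebra.smul_def b a)
  exact Ideal.comap_map_eq_self_of_faithfullyFlat (A := B) (B := A) I

theorem dvd_of_map_dvd (ψ : B →ₐc[k] A) (hψ : Function.Injective ψ) (a c : B)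
    (h : ψ c ∣ ψ a) : c ∣ a := by
  have h1 : a ∈ ((Ideal.span {c}).map (ψ : B →+* A)).comap (ψ : B →+* A) := by
    rw [Ideal.mem_comap, Ideal.map_span, Set.image_singleton, Ideal.mem_span_singleton]
    exact h
  rw [comap_map_eq ψ hψ, Ideal.mem_span_singleton] at h1
  exact h1

/-- lifting of points with values in an algebraically closed field. -/
theorem exists_algHom_comp_eq [Algebra.FiniteType k A] (ψ : B →ₐc[k] A)
    (hψ : Function.Injective ψ) (k' : Type*) [Field k'] [IsAlgClosed k'] [Algebra k k']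
    (q : B →ₐ[k] k') : ∃ g : A →ₐ[k] k', g.comp (ψ : B →ₐ[k] A) = q := by
  classical
  letI algBA : Algebra B A := (ψ : B →+* A).toAlgebra
  letI algBk' : Algebra B k' := (q : B →+* k').toAlgebra
  haveI : IsScalarTower k B A :=
    IsScalarTower.of_algebraMap_eq (fun c => (AlgHomClass.commutes ψ c).symm)
  haveI : IsScalarTower k B k' := IsScalarTower.of_algebraMap_eq (fun c => (q.commutes c).symm)
  haveI ff : Module.FaithfullyFlat B A :=
    faithfullyFlat_of_injective ψ hψ (fun b a => Algebra.smul_def b a)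
  haveI : Algebra.FiniteType B A := Algebra.FiniteType.of_restrictScalars_finiteType k B A
  haveI : Algebra.FiniteType k' (k' ⊗[B] A) := inferInstance
  haveI : Nontrivial (k' ⊗[B] A) := inferInstance
  obtain ⟨h⟩ := nonempty_algHom_of_nontrivial k' (k' ⊗[B] A)
  let g0 : A →ₐ[B] k' := (h.restrictScalars B).comp Algebra.TensorProduct.includeRight
  refine ⟨g0.restrictScalars k, ?_⟩
  ext b
  exact g0.commutes b

end Groth.Agent.Lib.Helper7.HopfFlat

namespace Groth.Agent.Lib.Helper7.HopfFlat

open TensorProduct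

universe u v w

/-- a faithfully flat epimorphism of commutative rings is surjective. -/
theorem surjective_of_tmul_comm (C : Type u) (A : Type v) [CommRing C] [CommRing A] [Algebra C A]
    [Module.FaithfullyFlat C A] (h : ∀ a : A, a ⊗ₜ[C] (1 : A) = 1 ⊗ₜ[C] a) :
    Function.Surjective (algebraMap C A) := by
  have hs : Function.Surjective (LinearMap.lTensor A (Algebra.linearMap C A)) := by
    intro z
    induction z using TensorProduct.induction_on with
    | zero => exact ⟨0, map_zero _⟩
    | tmul x y =>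
      refine ⟨(x * y) ⊗ₜ[C] 1, ?_⟩
      rw [LinearMap.lTensor_tmul, Algebra.linearMap_apply, map_one]
      have : x ⊗ₜ[C] y = (x ⊗ₜ[C] (1 : A)) * ((1 : A) ⊗ₜ[C] y) := by
        rw [Algebra.TensorProduct.tmul_mul_tmul, mul_one, one_mul]
      rw [this, ← h y, Algebra.TensorProduct.tmul_mul_tmul, mul_one]
    | add y z hy hz =>
      obtain ⟨y', rfl⟩ := hy
      obtain ⟨z', rfl⟩ := hz
      exact ⟨y' + z', map_add _ _ _⟩
  exact (Module.FaithfullyFlat.lTensor_surjective_iff_surjective C A
    (Algebra.linearMap C A)).1 hs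

variable {k : Type u} [Field k] {A : Type v} [CommRing A] [HopfAlgebra k A]
  {A' : Type w} [CommRing A'] [HopfAlgebra k A']

/-- a bialgebra map between commutative Hopf algebras which is an epimorphism of rings is
surjective. -/
theorem surjective_of_epi (φ : A' →ₐc[k] A)
    (hepi : ∀ (f g : A →+* A ⊗[(φ : A' →ₐ[k] A).range] A),
      f.comp (φ : A' →+* A) = g.comp (φ : A' →+* A) → f = g) :
    Function.Surjective φ := by
  have hB' := Groth.Agent.Lib.Helper7.HopfMap.isHopfSub_range φ
  letI := Groth.Agent.Lib.Helper7.HopfSub.hopfAlgebra hB'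
  haveI : Module.FaithfullyFlat (φ : A' →ₐ[k] A).range A :=
    faithfullyFlat_of_injective (Groth.Agent.Lib.Helper7.HopfSub.valBialgHom hB')
      Subtype.val_injective (fun b a => rfl)
  have h1 := hepi (Algebra.TensorProduct.includeLeftRingHom)
    ((Algebra.TensorProduct.includeRight :
      A →ₐ[(φ : A' →ₐ[k] A).range] A ⊗[(φ : A' →ₐ[k] A).range] A) : A →+* _) (by
    ext a'
    change (φ a') ⊗ₜ[(φ : A' →ₐ[k] A).range] (1 : A) = (1 : A) ⊗ₜ[(φ : A' →ₐ[k] A).range] (φ a')
    have h2 : φ a' = (⟨φ a', a', rfl⟩ : (φ : A' →ₐ[k] A).range) • (1 : A) := by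
      rw [Subalgebra.smul_def, smul_eq_mul, mul_one]
    conv_lhs => rw [h2]
    conv_rhs => rw [h2]
    rw [TensorProduct.smul_tmul])
  have h3 := surjective_of_tmul_comm (φ : A' →ₐ[k] A).range A
    (fun a => RingHom.congr_fun h1 a)
  intro a
  obtain ⟨⟨_, a', rfl⟩, hc⟩ := h3 a
  exact ⟨a', hc⟩

end Groth.Agent.Lib.Helper7.HopfFlat
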