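import Groth.Agent.Lib.Helper7.Chevalley
import Groth.Agent.Lib.Helper7.CoeffSpace
import Groth.Prelude.Def_ComodTens

/-!
# Chevalley's theorem with a trivial character (helper7)
-/

universe u v v' w w' x

open TensorProduct

namespace Groth.Agent.Lib.Helper7.Chevalley

open HopfRep Groth.Agent.Lib.Helper7.Comod Groth.Agent.Lib.Helper7.StabTensor

section Lin

variable {k : Type u} [Field k] {V : Type w} [AddCommGroup V] [Module k V]

lemma exists_dual_eq_one {v : V} (hv : v ≠ 0) : ∃ φ : V →ₗ[k] k, φ v = 1 := by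
  obtain ⟨f, hf⟩ := Submodule.exists_le_ker_of_notMem (p := (⊥ : Submodule k V)) (v := v)
    (by simpa using hv)
  refine ⟨(f v)⁻¹ • f, ?_⟩
  rw [LinearMap.smul_apply, smul_eq_mul, inv_mul_cancel₀ hf.1]

lemma tmul_left_cancel {N : Type x} [AddCommGroup N] [Module k N] {v : V} (hv : v ≠ 0) {a b : N}
    (h : v ⊗ₜ[k] a = v ⊗ₜ[k] b) : a = b := by
  obtain ⟨φ, hφ⟩ := exists_dual_eq_one (k := k) hv
  have := congrArg (contrL N φ) h
  simpa [hφ] using this

lemma tmul_ne_zero {V' : Type w'} [AddCommGroup V'] [Module k V'] {v : V} {v' : V'} (hv : v ≠ 0)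
    (hv' : v' ≠ 0) : v ⊗ₜ[k] v' ≠ 0 := by
  intro h
  have h1 : v ⊗ₜ[k] v' = v ⊗ₜ[k] (0 : V') := by rw [h, TensorProduct.tmul_zero]
  exact hv' (tmul_left_cancel hv h1)

/-- elements of `(k v) ⊗ N` are pure tensors. -/
lemma exists_eq_tmul_of_mem_range {N : Type x} [AddCommGroup N] [Module k N] (v : V)
    (y : V ⊗[k] N)
    (hy : y ∈ LinearMap.range ((Submodule.span k {v}).subtype.rTensor N)) :
    ∃ c : N, y = v ⊗ₜ[k] c := by
  obtain ⟨z, rfl⟩ := hy
  induction z using TensorProduct.induction_on with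
  | zero => exact ⟨0, by simp⟩
  | tmul w n =>
    obtain ⟨a, ha⟩ := Submodule.mem_span_singleton.1 w.2
    refine ⟨a • n, ?_⟩
    rw [LinearMap.rTensor_tmul, Submodule.subtype_apply, ← ha, TensorProduct.smul_tmul]
  | add y z hy hz =>
    obtain ⟨c, hc⟩ := hy
    obtain ⟨c', hc'⟩ := hz
    exact ⟨c + c', by rw [map_add, hc, hc', TensorProduct.tmul_add]⟩

end Lin

section Char

variable {k : Type u} [Field k] {A : Type v} [CommRing A] [HopfAlgebra k A]
  {B : Type v'} [CommRing B] [HopfAlgebra k B] (π : A →ₐc[k] B)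
  {V : Type w} [AddCommGroup V] [Module k V]

/-- the eigenvalue of a nonzero eigenvector of the restricted coaction is group-like. -/
theorem isGroupLikeElem_of_eigen (c : Comod k A V) {v : V} (hv : v ≠ 0) {χ : B}
    (h : LinearMap.lTensor V π.toLinearMap (c.coact v) = v ⊗ₜ[k] χ) : IsGroupLikeElem k χ := by
  obtain ⟨φ, hφ⟩ := exists_dual_eq_one (k := k) hv
  letI := c
  set a : A := coeffMap (C := A) φ v with ha
  have hπa : π a = χ := by
    have := congrArg (contrL B φ) h
    rw [contrL_lTensor, contrL_tmul, hφ, one_smul] at this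
    exact this
  constructor
  · rw [← hπa, CoalgHomClass.counit_comp_apply, ha, counit_coeffMap, hφ]
  · have h1 : Coalgebra.comul (R := k) (π a) =
        TensorProduct.map π.toLinearMap π.toLinearMap (Coalgebra.comul (R := k) a) :=
      (CoalgHomClass.map_comp_comul_apply π a).symm
    have h2 : ∀ y : V ⊗[k] A, TensorProduct.map π.toLinearMap π.toLinearMap
        ((coeffMap (C := A) φ).rTensor A y) =
        (π.toLinearMap ∘ₗ coeffMap (C := A) φ).rTensor B
          (LinearMap.lTensor V π.toLinearMap y) := by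
      intro y
      induction y using TensorProduct.induction_on with
      | zero => simp
      | tmul u b => simp
      | add y z hy hz => simp only [map_add, hy, hz]
    have h3 : Coalgebra.comul (R := k) (π a) = π a ⊗ₜ[k] χ := by
      rw [h1, ha, comul_coeffMap, h2]
      change (π.toLinearMap ∘ₗ coeffMap (C := A) φ).rTensor B
          (LinearMap.lTensor V π.toLinearMap (c.coact v)) = _
      rw [h, LinearMap.rTensor_tmul]
      rfl
    rw [hπa] at h3
    exact h3

end Char

section TensorLine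

variable {k : Type u} [Field k] {A : Type v} [CommRing A] [HopfAlgebra k A]
  {R : Type x} [CommRing R] [Algebra k R] (g : A →ₐ[k] R)
variable {V : Type w} [AddCommGroup V] [Module k V] {V' : Type w'} [AddCommGroup V'] [Module k V']

/-- a point stabilizing the line of `v ⊗ v'` stabilizes the line of `v`. -/
theorem stabLine_left_of_tensor (c : Comod k A V) (c' : Comod k A V') {v : V} {v' : V'}
    (hv' : v' ≠ 0) {r : R}
    (h : LinearMap.lTensor (V ⊗[k] V') g.toLinearMap
      ((ComodTens.Comod.tensor c c').coact (v ⊗ₜ[k] v')) = (v ⊗ₜ[k] v') ⊗ₜ[k] r) :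
    ∃ r₁ : R, LinearMap.lTensor V g.toLinearMap (c.coact v) = v ⊗ₜ[k] r₁ := by
  apply exists_eq_tmul_of_mem_range
  rw [mem_range_rTensor_iff_contrL]
  intro φ hφ
  have hφv : φ v = 0 := hφ (Submodule.mem_span_singleton_self v)
  apply eq_zero_of_forall_mul_eq_zero g c' hv'
  intro ψ
  rw [← contrL_lTensor_coact, ← contrL_lTensor_tensor, h, contrL_tmul]
  simp [hφv]

end TensorLine

section Ker

variable {k : Type u} [Field k] {A : Type v} [CommRing A] [HopfAlgebra k A]
  {B : Type v'} [CommRing B] [HopfAlgebra k B] (π : A →ₐc[k] B)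

lemma counit_eq_zero_of_mem_ker {x : A} (hx : x ∈ RingHom.ker (π : A →+* B)) :
    Coalgebra.counit (R := k) x = 0 := by
  have hx' : π x = 0 := hx
  rw [← CoalgHomClass.counit_comp_apply π x, hx', map_zero]

lemma map_mk_comul_eq_zero_of_mem_ker {x : A} (hx : x ∈ RingHom.ker (π : A →+* B)) :
    TensorProduct.map (Ideal.Quotient.mkₐ k (RingHom.ker (π : A →+* B))).toLinearMap
      (Ideal.Quotient.mkₐ k (RingHom.ker (π : A →+* B))).toLinearMap
      (Coalgebra.comul (R := k) x) = 0 := by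
  have hx' : π x = 0 := hx
  set I := RingHom.ker (π : A →+* B) with hI
  let πbar : A ⧸ I →ₐ[k] B := Ideal.Quotient.liftₐ I (π : A →ₐ[k] B) (fun a ha => ha)
  have hinj : Function.Injective πbar.toLinearMap := by
    rw [← LinearMap.ker_eq_bot, LinearMap.ker_eq_bot']
    intro y hy
    obtain ⟨a, rfl⟩ := Ideal.Quotient.mk_surjective y
    have h1 : π a = 0 := hy
    exact Ideal.Quotient.eq_zero_iff_mem.2 h1
  have hinj2 := TensorProduct.map_injective_of_flat_flat πbar.toLinearMap πbar.toLinearMap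
    hinj hinj
  apply hinj2
  rw [map_zero]
  have h2 : ∀ y : A ⊗[k] A, TensorProduct.map πbar.toLinearMap πbar.toLinearMap
      (TensorProduct.map (Ideal.Quotient.mkₐ k I).toLinearMap
        (Ideal.Quotient.mkₐ k I).toLinearMap y) =
      TensorProduct.map π.toLinearMap π.toLinearMap y := by
    intro y
    induction y using TensorProduct.induction_on with
    | zero => simp
    | tmul a b => rfl
    | add y z hy hz => simp only [map_add, hy, hz]
  rw [h2]
  have h3 : TensorProduct.map π.toLinearMap π.toLinearMap (Coalgebra.comul (R := k) x) =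
      Coalgebra.comul (R := k) (π x) := CoalgHomClass.map_comp_comul_apply π x
  rw [h3, hx', map_zero]

end Ker

section Pow

variable {k : Type u} [Field k] {A : Type v} [CommRing A] [HopfAlgebra k A]
  {B : Type v'} [CommRing B] [HopfAlgebra k B] (π : A →ₐc[k] B)
  {V₁ : Type w} [AddCommGroup V₁] [Module k V₁] [Module.Finite k V₁] (c₁ : Comod k A V₁)
  {V₂ : Type w} [AddCommGroup V₂] [Module k V₂] [Module.Finite k V₂] (c₂ : Comod k A V₂)

theorem exists_tensor_pow {v₁ : V₁} (hv₁ : v₁ ≠ 0) {χ : B}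
    (h₁ : LinearMap.lTensor V₁ π.toLinearMap (c₁.coact v₁) = v₁ ⊗ₜ[k] χ)
    {v₂ : V₂} (hv₂ : v₂ ≠ 0) {ψ : B}
    (h₂ : LinearMap.lTensor V₂ π.toLinearMap (c₂.coact v₂) = v₂ ⊗ₜ[k] ψ) (n : ℕ) :
    ∃ (V : Type w) (_ : AddCommGroup V) (_ : Module k V) (c : Comod k A V)
      (_ : Module.Finite k V) (v : V), v ≠ 0 ∧
      LinearMap.lTensor V π.toLinearMap (c.coact v) = v ⊗ₜ[k] (χ ^ n * ψ) ∧
      (0 < n → ∀ (R : Type x) [CommRing R] [Algebra k R] (g : A →ₐ[k] R),
        (∃ r : R, LinearMap.lTensor V g.toLinearMap (c.coact v) = v ⊗ₜ[k] r) →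
          ∃ r : R, LinearMap.lTensor V₁ g.toLinearMap (c₁.coact v₁) = v₁ ⊗ₜ[k] r) := by
  induction n with
  | zero =>
    refine ⟨V₂, inferInstance, inferInstance, c₂, inferInstance, v₂, hv₂, ?_, ?_⟩
    · rw [pow_zero, one_mul, h₂]
    · intro h
      exact absurd h (lt_irrefl 0)
  | succ n ih =>
    obtain ⟨V, iV1, iV2, c, iV3, v, hv, hvπ, -⟩ := ih
    refine ⟨V₁ ⊗[k] V, inferInstance, inferInstance, ComodTens.Comod.tensor c₁ c, inferInstance,
      v₁ ⊗ₜ[k] v, tmul_ne_zero hv₁ hv, ?_, ?_⟩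
    · have h3 := lTensor_tensor_coact (π : A →ₐ[k] B) c₁ c v₁ v
      have h4 : LinearMap.lTensor V₁ (π : A →ₐ[k] B).toLinearMap (c₁.coact v₁) = v₁ ⊗ₜ[k] χ := h₁
      have h5 : LinearMap.lTensor V (π : A →ₐ[k] B).toLinearMap (c.coact v) =
        v ⊗ₜ[k] (χ ^ n * ψ) := hvπ
      rw [h4, h5, mu_tmul] at h3
      rw [pow_succ, mul_assoc, mul_comm (χ ^ n) (χ * ψ), mul_assoc, mul_comm ψ (χ ^ n)]
      exact h3
    · rintro - R _ _ g ⟨r, hr⟩
      exact stabLine_left_of_tensor g c₁ c hv hr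

end Pow

end Groth.Agent.Lib.Helper7.Chevalley
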