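import Groth.Agent.Lib.Helper7.HopfMap
import Groth.Agent.Lib.Helper7.ChevalleyChar
import Groth.Agent.Lib.Helper7.NQ2

set_option autoImplicit false

namespace Groth.Agent.Lib.Helper7.HopfIdealMap

open TensorProduct Groth.Agent.Lib.Helper7.HopfMap

universe u v w

variable {k : Type u} [Field k] {H : Type v} [CommRing H] [HopfAlgebra k H]
  {C : Type w} [CommRing C] [HopfAlgebra k C]

/-- the ideal generated by the image of a Hopf ideal under a bialgebra map is a Hopf ideal. -/
theorem isHopfIdeal_map (ψ : C →ₐc[k] H) (I : Ideal C) [I.IsHopfIdeal k] :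
    (Ideal.map (ψ : C →+* H) I).IsHopfIdeal k := by
  set J := Ideal.map (ψ : C →+* H) I with hJ
  have hmk : ∀ i ∈ I, Ideal.Quotient.mkₐ k J (ψ i) = 0 := fun i hi =>
    Ideal.Quotient.eq_zero_iff_mem.2 (Ideal.mem_map_of_mem _ hi)
  refine { counit_eq_zero := ?_, map_mkQ_comul_eq_zero := ?_, antipode_mem := ?_ }
  · have : J ≤ RingHom.ker (Bialgebra.counitAlgHom k H : H →+* k) := by
      rw [hJ, Ideal.map_le_iff_le_comap]
      intro i hi
      rw [Ideal.mem_comap, RingHom.mem_ker]
      change Coalgebra.counit (R := k) (ψ i) = 0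
      rw [CoalgHomClass.counit_comp_apply ψ i]
      exact Submodule.IsCoideal.counit_eq_zero (I := I.restrictScalars k) hi
    intro x hx
    exact this hx
  · let Φ : H →ₐ[k] (H ⧸ J) ⊗[k] (H ⧸ J) :=
      (Algebra.TensorProduct.map (Ideal.Quotient.mkₐ k J) (Ideal.Quotient.mkₐ k J)).comp
        (Bialgebra.comulAlgHom k H)
    have : J ≤ RingHom.ker (Φ : H →+* (H ⧸ J) ⊗[k] (H ⧸ J)) := by
      apply Ideal.map_le_iff_le_comap.2
      intro i hi
      rw [Ideal.mem_comap, RingHom.mem_ker]
      change Algebra.TensorProduct.map (Ideal.Quotient.mkₐ k J) (Ideal.Quotient.mkₐ k J)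
        (Coalgebra.comul (R := k) (ψ i)) = 0
      have h1 : Coalgebra.comul (R := k) (ψ i) =
          TensorProduct.map (ψ : C →ₗ[k] H) (ψ : C →ₗ[k] H) (Coalgebra.comul (R := k) i) :=
        (LinearMap.congr_fun (CoalgHomClass.map_comp_comul ψ) i).symm
      have h2 := ((Submodule.isCoideal_iff_comul_mem (I.restrictScalars k)).1 inferInstance).2 i hi
      have hy : ∀ y' : C ⊗[k] ↥(I.restrictScalars k),
          Algebra.TensorProduct.map (Ideal.Quotient.mkₐ k J) (Ideal.Quotient.mkₐ k J)
          (TensorProduct.map (ψ : C →ₗ[k] H) (ψ : C →ₗ[k] H)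
            (LinearMap.lTensor C (I.restrictScalars k).subtype y')) = 0 := by
        intro y'
        induction y' using TensorProduct.induction_on with
        | zero => simp
        | tmul c i' =>
          simp only [LinearMap.lTensor_tmul, Submodule.subtype_apply, TensorProduct.map_tmul,
            Algebra.TensorProduct.map_tmul]
          have := hmk i' i'.2
          rw [show ((ψ : C →ₗ[k] H) (i' : C)) = ψ (i' : C) from rfl, this, TensorProduct.tmul_zero]
        | add a b ha hb => simp only [map_add, ha, hb, add_zero]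
      have hz : ∀ z' : ↥(I.restrictScalars k) ⊗[k] C,
          Algebra.TensorProduct.map (Ideal.Quotient.mkₐ k J) (Ideal.Quotient.mkₐ k J)
          (TensorProduct.map (ψ : C →ₗ[k] H) (ψ : C →ₗ[k] H)
            (LinearMap.rTensor C (I.restrictScalars k).subtype z')) = 0 := by
        intro z'
        induction z' using TensorProduct.induction_on with
        | zero => simp
        | tmul i' c =>
          simp only [LinearMap.rTensor_tmul, Submodule.subtype_apply, TensorProduct.map_tmul,
            Algebra.TensorProduct.map_tmul]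
          have := hmk i' i'.2
          rw [show ((ψ : C →ₗ[k] H) (i' : C)) = ψ (i' : C) from rfl, this, TensorProduct.zero_tmul]
        | add a b ha hb => simp only [map_add, ha, hb, add_zero]
      obtain ⟨y, ⟨y', rfl⟩, z, ⟨z', rfl⟩, hyz⟩ := Submodule.mem_sup.1 h2
      rw [h1, ← hyz, map_add, map_add, hy, hz, add_zero]
    intro x hx
    have h3 := this hx
    rw [RingHom.mem_ker] at h3
    exact h3
  · have : J ≤ Ideal.comap (HopfAlgebra.antipodeAlgHom k H : H →+* H) J := by
      rw [hJ, Ideal.map_le_iff_le_comap]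
      intro i hi
      rw [Ideal.mem_comap, Ideal.mem_comap]
      change HopfAlgebra.antipode k (ψ i) ∈ _
      rw [← map_antipode]
      exact Ideal.mem_map_of_mem _ (Ideal.IsHopfIdeal.antipode_mem (R := k) hi)
    intro x hx
    exact this hx

/-- the augmentation ideal is a Hopf ideal. -/
instance isHopfIdeal_ker_counit :
    (RingHom.ker (Bialgebra.counitAlgHom k C)).IsHopfIdeal k := by
  have := Groth.Agent.Lib.Helper7.NormalQuot.isHopfIdeal_ker (Bialgebra.counitBialgHom k C)
  exact this

end Groth.Agent.Lib.Helper7.HopfIdealMap
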