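import Groth.Agent.Lib.Helper7.NQ3

set_option autoImplicit false

namespace Groth.Agent.Lib.Helper7.NormalQuot

open TensorProduct WithConv HopfRep Groth.Agent.Lib.Helper7.HopfConv
  Groth.Agent.Lib.Helper7.HopfSub Groth.Agent.Lib.Helper7.NormalKer
  Groth.Agent.Lib.Helper7.NormalFix Groth.Agent.Lib.Helper7.HopfMap
  Groth.Agent.Lib.Helper7.HopfCoinv Groth.Agent.Lib.Helper7.HopfSubGen
  Groth.Agent.Lib.Helper7.HopfGLn

universe u v w

section Map

variable {k : Type u} [Field k] {A : Type v} [CommRing A] [HopfAlgebra k A]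
  {A' : Type w} [CommRing A'] [HopfAlgebra k A']

/-- the image of a Hopf subalgebra under a bialgebra map is a Hopf subalgebra. -/
theorem isHopfSub_map (ι : A' →ₐc[k] A) (B' : Subalgebra k A') (hB' : IsHopfSub B') :
    IsHopfSub (B'.map (ι : A' →ₐ[k] A)) := by
  refine ⟨?_, ?_⟩
  · rintro _ ⟨b', hb', rfl⟩
    obtain ⟨z, hz⟩ := hB'.comul_mem b' hb'
    have h1 : Coalgebra.comul (R := k) ((ι : A' →ₐ[k] A) b') =
        TensorProduct.map (ι : A' →ₗ[k] A) (ι : A' →ₗ[k] A) (Coalgebra.comul (R := k) b') :=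
      (LinearMap.congr_fun (CoalgHomClass.map_comp_comul ι) b').symm
    let r : ↥B' →ₗ[k] ↥(B'.map (ι : A' →ₐ[k] A)) :=
      ((ι : A' →ₗ[k] A).restrict (p := Subalgebra.toSubmodule B')
        (q := Subalgebra.toSubmodule (B'.map (ι : A' →ₐ[k] A)))
        (fun x hx => ⟨x, hx, rfl⟩))
    refine ⟨TensorProduct.map r r z, ?_⟩
    rw [RingHom.coe_coe] at *
    rw [h1, ← hz]
    clear hz h1
    induction z using TensorProduct.induction_on with
    | zero => simp
    | tmul a b => simp [r]; rfl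
    | add y z hy hz => simp only [map_add, hy, hz]
  · rintro _ ⟨b', hb', rfl⟩
    refine ⟨HopfAlgebra.antipode k b', hB'.antipode_mem b' hb', ?_⟩
    exact map_antipode ι b'

end Map

section General

variable {k : Type u} [Field k] {A : Type u} [CommRing A] [HopfAlgebra k A]
  (I : Ideal A) [I.IsHopfIdeal k] (hI : SGA3.IsNormalHopfIdeal k A I)

include hI in
/-- **Takeuchi**: every normal Hopf ideal of a commutative Hopf algebra over a field is generated
by the augmentation ideal of a Hopf subalgebra. -/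
theorem exists_hopfSub : ∃ B : Subalgebra k A, IsHopfSub B ∧ I = augSpan B := by
  classical
  let 𝓗 : Set (Subalgebra k A) :=
    {B' | IsHopfSub B' ∧ ∀ b ∈ B', Coalgebra.counit (R := k) b = 0 → b ∈ I}
  have hBsub : IsHopfSub (sSup 𝓗) := isHopfSub_sSup 𝓗 (fun B h => h.1)
  have hBaug : sSup 𝓗 ≤ augSubalgebra (k := k) I := by
    apply sSup_le
    intro B' hB' x hx
    rw [mem_augSubalgebra]
    apply hB'.2 _ (B'.sub_mem hx (B'.algebraMap_mem _))
    rw [map_sub, Bialgebra.counit_algebraMap, sub_self]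
  refine ⟨sSup 𝓗, hBsub, le_antisymm ?_ ?_⟩
  · intro x hx
    obtain ⟨A₁, hxA₁, hfg, hA₁⟩ := exists_fg_hopfSub_mem (k := k) x
    letI := hopfAlgebra hA₁
    haveI : Algebra.FiniteType k ↥A₁ := (Subalgebra.fg_iff_finiteType A₁).1 hfg
    let ι : ↥A₁ →ₐc[k] A := valBialgHom hA₁
    let I' : Ideal ↥A₁ := Ideal.comap (ι : ↥A₁ →+* A) I
    haveI : I'.IsHopfIdeal k := isHopfIdeal_comap ι I
    have hI' : SGA3.IsNormalHopfIdeal k ↥A₁ I' := normal_comap ι Subtype.val_injective I hI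
    obtain ⟨B', hB', hB'aug, hI'le⟩ := exists_hopfSub_ft I' hI'
    have hB₁ : B'.map (ι : ↥A₁ →ₐ[k] A) ∈ 𝓗 := by
      refine ⟨isHopfSub_map ι B' hB', ?_⟩
      rintro _ ⟨b', hb', rfl⟩ hε
      exact hB'aug b' hb' hε
    have hx' : (⟨x, hxA₁⟩ : ↥A₁) ∈ I' := hx
    have h1 := hI'le hx'
    have hmap : Ideal.map (ι : ↥A₁ →+* A) (augSpan B') ≤ augSpan (sSup 𝓗) := by
      rw [augSpan, Ideal.map_span]
      apply Ideal.span_le.2
      rintro _ ⟨b', ⟨hb', hε⟩, rfl⟩
      apply Ideal.subset_span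
      exact ⟨(le_sSup hB₁ : _ ≤ sSup 𝓗) ⟨b', hb', rfl⟩, hε⟩
    exact hmap (Ideal.mem_map_of_mem (ι : ↥A₁ →+* A) h1)
  · apply Ideal.span_le.2
    rintro b ⟨hb, hε⟩
    exact mem_of_mem_augSubalgebra (hBaug hb) hε

end General

end Groth.Agent.Lib.Helper7.NormalQuot
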