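import Groth.Agent.Lib.Helper7.UnipPart
import Groth.Agent.Lib.Helper7.NQ4
import Groth.Agent.Lib.Helper7.HopfIdealMap
import Groth.Agent.Lib.Helper7.HopfFlatApps

set_option autoImplicit false

namespace Groth.Agent.Lib.Helper7.UnipQuot

open TensorProduct WithConv HopfRep Groth.Agent.Lib.Helper7.Comod Groth.Agent.Lib.Helper7.UnipExt
  Groth.Agent.Lib.Helper7.HopfSub Groth.Agent.Lib.Helper7.HopfSubGen
  Groth.Agent.Lib.Helper7.UnipPart Groth.Agent.Lib.Helper7.HopfCoinv
  Groth.Agent.Lib.Helper7.HopfIdealMap Groth.Agent.Lib.Helper7.NormalFix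
  Groth.Agent.Lib.Helper7.NormalQuot Groth.Agent.Lib.Helper7.HopfFlat

universe u v w

section Normal

variable {k : Type u} [Field k] {A : Type u} [CommRing A] [HopfAlgebra k A]
  [Coalgebra.IsCocomm k A]

/-- every Hopf ideal of a cocommutative Hopf algebra is normal. -/
theorem normal_of_isCocomm (I : Ideal A) : SGA3.IsNormalHopfIdeal k A I := by
  intro R _ _ g h hh a ha
  rw [conv3_eq]
  have h1 : toConv g * toConv h * toConv (g.comp (HopfAlgebra.antipodeAlgHom k A)) = toConv h := by
    rw [mul_comm (toConv g) (toConv h), mul_assoc,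
      Groth.Agent.Lib.Helper7.HopfConv.self_mul_antipode, mul_one]
  rw [h1]
  exact hh a ha

end Normal

section Prim

variable {k : Type u} [Field k] {A : Type v} [CommRing A] [HopfAlgebra k A]

lemma counit_eq_zero_of_primitive {p : A}
    (hp : Coalgebra.comul (R := k) p = p ⊗ₜ[k] (1 : A) + (1 : A) ⊗ₜ[k] p) :
    Coalgebra.counit (R := k) p = 0 := by
  have h := Coalgebra.rTensor_counit_comul (R := k) p
  rw [hp, map_add, LinearMap.rTensor_tmul, LinearMap.rTensor_tmul, Bialgebra.counit_one] at h
  have h' := congrArg (TensorProduct.lid k A) h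
  rw [map_add, TensorProduct.lid_tmul, TensorProduct.lid_tmul, one_smul, add_eq_right] at h'
  have h2 := congrArg (Coalgebra.counit (R := k)) h'
  rw [map_smul, Bialgebra.counit_one, smul_eq_mul, mul_one, map_zero] at h2
  exact h2

lemma antipode_primitive {p : A}
    (hp : Coalgebra.comul (R := k) p = p ⊗ₜ[k] (1 : A) + (1 : A) ⊗ₜ[k] p) :
    HopfAlgebra.antipode k p = -p := by
  have h := HopfAlgebra.mul_antipode_rTensor_comul_apply (R := k) p
  rw [hp, map_add, LinearMap.rTensor_tmul, LinearMap.rTensor_tmul, map_add,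
    LinearMap.mul'_apply, LinearMap.mul'_apply, HopfAlgebra.antipode_one, mul_one, one_mul,
    counit_eq_zero_of_primitive hp, map_zero] at h
  exact eq_neg_of_add_eq_zero_left h

lemma isHopfSub_adjoin_primitive {p : A}
    (hp : Coalgebra.comul (R := k) p = p ⊗ₜ[k] (1 : A) + (1 : A) ⊗ₜ[k] p) :
    IsHopfSub (Algebra.adjoin k {p}) := by
  apply isHopfSub_adjoin
  · intro x hx
    rw [Set.mem_singleton_iff] at hx
    subst hx
    have hx' : x ∈ Algebra.adjoin k {x} := Algebra.subset_adjoin (Set.mem_singleton x)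
    refine ⟨(⟨x, hx'⟩ : Algebra.adjoin k {x}) ⊗ₜ[k] 1 + 1 ⊗ₜ[k] ⟨x, hx'⟩, ?_⟩
    rw [map_add, TensorProduct.map_tmul, TensorProduct.map_tmul, hp]
    rfl
  · intro x hx
    rw [Set.mem_singleton_iff] at hx
    subst hx
    rw [antipode_primitive hp]
    exact Subalgebra.neg_mem _ (Algebra.subset_adjoin (Set.mem_singleton x))

lemma adjoin_primitive_le_unipSub {p : A}
    (hp : Coalgebra.comul (R := k) p = p ⊗ₜ[k] (1 : A) + (1 : A) ⊗ₜ[k] p) :
    Algebra.adjoin k {p} ≤ unipSub k A := by
  apply Algebra.adjoin_le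
  intro x hx
  rw [Set.mem_singleton_iff] at hx
  subst hx
  refine ⟨2, ?_⟩
  rw [fixFilt_succ, mem_nextFix]
  change Coalgebra.comul (R := k) x - x ⊗ₜ[k] (1 : A) ∈ _
  rw [hp, add_sub_cancel_left]
  exact tmul_mem_range_rTensor one_mem_fixFilt_one x

end Prim

section Incl

variable {k : Type u} [Field k] {A : Type v} [CommRing A] [HopfAlgebra k A]

/-- the inclusion of Hopf subalgebras, as a bialgebra map. -/
noncomputable def inclBialgHom {B B' : Subalgebra k A} (hB : IsHopfSub B) (hB' : IsHopfSub B')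
    (h : B ≤ B') :
    letI := hopfAlgebra hB
    letI := hopfAlgebra hB'
    ↥B →ₐc[k] ↥B' :=
  letI := hopfAlgebra hB
  letI := hopfAlgebra hB'
  BialgHom.ofAlgHom (Subalgebra.inclusion h) rfl (by
    apply AlgHom.ext
    intro b
    apply ιι_injective B'
    change ιι B' (Algebra.TensorProduct.map (Subalgebra.inclusion h) (Subalgebra.inclusion h)
      (comulB hB b)) = ιι B' (comulB hB' (Subalgebra.inclusion h b))
    rw [ιι_comulB]
    have h1 : ∀ z : ↥B ⊗[k] ↥B, ιι B' (Algebra.TensorProduct.map (Subalgebra.inclusion h)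
        (Subalgebra.inclusion h) z) = ιι B z := by
      intro z
      induction z using TensorProduct.induction_on with
      | zero => simp
      | tmul x y => simp [ιι]
      | add y z hy hz => simp only [map_add, hy, hz]
    rw [h1, ιι_comulB]
    rfl)

lemma inclBialgHom_apply {B B' : Subalgebra k A} (hB : IsHopfSub B) (hB' : IsHopfSub B')
    (h : B ≤ B') (b : ↥B) : ((inclBialgHom hB hB' h b : ↥B') : A) = (b : A) := rfl

end Incl

section Lift

variable {k : Type u} [Field k] {B : Type v} [CommRing B] [HopfAlgebra k B]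
  {D : Type w} [CommRing D] [HopfAlgebra k D]

/-- a bialgebra map killing a Hopf ideal descends to the quotient. -/
noncomputable def quotLift (I : Ideal B) [I.IsHopfIdeal k] (f : B →ₐc[k] D)
    (hf : ∀ x ∈ I, f x = 0) : B ⧸ I →ₐc[k] D :=
  BialgHom.ofAlgHom (Ideal.Quotient.liftₐ I (f : B →ₐ[k] D) hf)
    (by
      apply Ideal.Quotient.algHom_ext
      apply AlgHom.ext
      intro b
      change Coalgebra.counit (R := k) (f b) = Coalgebra.counit (R := k) (Ideal.Quotient.mk I b)
      rw [CoalgHomClass.counit_comp_apply f b]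
      rfl)
    (by
      apply Ideal.Quotient.algHom_ext
      apply AlgHom.ext
      intro b
      change Algebra.TensorProduct.map (Ideal.Quotient.liftₐ I (f : B →ₐ[k] D) hf)
        (Ideal.Quotient.liftₐ I (f : B →ₐ[k] D) hf)
          (Coalgebra.comul (R := k) (Bialgebra.Quotient.mkBialgHom (R := k) I b)) =
        Coalgebra.comul (R := k) (f b)
      rw [← CoalgHomClass.map_comp_comul_apply (Bialgebra.Quotient.mkBialgHom (R := k) I) b,
        ← CoalgHomClass.map_comp_comul_apply f b]
      generalize Coalgebra.comul (R := k) b = z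
      induction z using TensorProduct.induction_on with
      | zero => simp
      | tmul x y => rfl
      | add y z hy hz => simp only [map_add, hy, hz])

@[simp] lemma quotLift_mk (I : Ideal B) [I.IsHopfIdeal k] (f : B →ₐc[k] D)
    (hf : ∀ x ∈ I, f x = 0) (b : B) : quotLift I f hf (Ideal.Quotient.mk I b) = f b := rfl

end Lift

section Aug

variable {k : Type u} [Field k] {A : Type v} [CommRing A] [HopfAlgebra k A]

lemma augSpan_eq_map {B : Subalgebra k A} (hB : IsHopfSub B) :
    letI := hopfAlgebra hB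
    augSpan B = Ideal.map ((valBialgHom hB : ↥B →ₐc[k] A) : ↥B →+* A)
      (RingHom.ker (Bialgebra.counitAlgHom k ↥B)) := by
  letI := hopfAlgebra hB
  rw [map_ker_counit_eq_augSpan]
  congr 1
  exact (Subalgebra.range_val B).symm

lemma isHopfIdeal_augSpan {B : Subalgebra k A} (hB : IsHopfSub B) :
    (augSpan B).IsHopfIdeal k := by
  letI := hopfAlgebra hB
  rw [augSpan_eq_map hB]
  exact isHopfIdeal_map _ _

lemma augSpan_mono {B B' : Subalgebra k A} (h : B ≤ B') : augSpan B ≤ augSpan B' :=
  Ideal.span_mono (fun _ ha => ⟨h ha.1, ha.2⟩)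

lemma range_lTensor_subtype_mono {V : Type w} [AddCommGroup V] [Module k V]
    {W W' : Submodule k V} (h : W ≤ W') (M : Type*) [AddCommGroup M] [Module k M] :
    LinearMap.range (W.subtype.lTensor M) ≤ LinearMap.range (W'.subtype.lTensor M) := by
  rintro _ ⟨y, rfl⟩
  refine ⟨(Submodule.inclusion h).lTensor M y, ?_⟩
  rw [← LinearMap.comp_apply, ← LinearMap.lTensor_comp]
  rfl

end Aug

end Groth.Agent.Lib.Helper7.UnipQuot
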