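import Groth.Agent.Lib.Helper7.GH5
import Groth.Agent.Lib.Helper7.UnipQuot
import Groth.Agent.Lib.Helper7.HopfFlatMain
import Groth.Agent.Lib.Helper7.NQ2

/-!
# Quotient of a "rigid" affine group by a finite subgroup (helper7)
-/

set_option autoImplicit false
universe u
open CategoryTheory MonoidalCategory CartesianMonoidalCategory MonObj GrpObj AlgebraicGeometry

namespace Groth.Agent.Lib.Helper7.FQ

open Groth.Agent.Lib.Helper7.GH Groth.Agent.Lib.Helper7.GModComod
  Groth.Agent.Lib.Helper7.HopfSub Groth.Agent.Lib.Helper7.HopfCoinv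
  Groth.Agent.Lib.Helper7.NormalQuot Groth.Agent.Lib.Helper7.HopfFlat
  Groth.Agent.Lib.Helper7.UnipQuot

variable {k : Type u} [Field k]

section Iso

variable {A A' : Type u} [CommRing A] [HopfAlgebra k A] [CommRing A'] [HopfAlgebra k A']

/-- the isomorphism of spectra induced by a bialgebra isomorphism. -/
noncomputable def specIso (χ : A ≃ₐc[k] A') :
    (Spec (CommRingCat.of A)).asOver (Spec (CommRingCat.of k)) ≅
      (Spec (CommRingCat.of A')).asOver (Spec (CommRingCat.of k)) where
  hom := pg ((χ.symm : A' →ₐc[k] A) : A' →ₐ[k] A)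
  inv := pg ((χ : A →ₐc[k] A') : A →ₐ[k] A')
  hom_inv_id := by
    rw [pg_comp_pg]
    have : (((χ.symm : A' →ₐc[k] A) : A' →ₐ[k] A)).comp ((χ : A →ₐc[k] A') : A →ₐ[k] A') =
        AlgHom.id k A := by
      ext a
      exact χ.symm_apply_apply a
    rw [this]
    apply Over.OverMorphism.ext
    rw [pg_left]
    exact Spec.map_id _
  inv_hom_id := by
    rw [pg_comp_pg]
    have : (((χ : A →ₐc[k] A') : A →ₐ[k] A')).comp ((χ.symm : A' →ₐc[k] A) : A' →ₐ[k] A) =
        AlgHom.id k A' := by
      ext a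
      exact χ.apply_symm_apply a
    rw [this]
    apply Over.OverMorphism.ext
    rw [pg_left]
    exact Spec.map_id _

instance isMonHom_specIso_hom (χ : A ≃ₐc[k] A') : IsMonHom (specIso χ).hom :=
  isMonHom_pg (χ.symm : A' →ₐc[k] A)

/-- change the Hopf algebra of a model along a bialgebra isomorphism. -/
noncomputable def modelOfBialgEquiv {G : Over (Spec (CommRingCat.of k))} [GrpObj G] (M : Model G)
    (χ : M.A ≃ₐc[k] A') : Model G :=
  { A := A'
    e := M.e ≪≫ specIso χ
    mon := inferInstanceAs (IsMonHom (M.e.hom ≫ (specIso χ).hom)) }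

/-- transport a model along an isomorphism of group objects. -/
noncomputable def modelOfIso {G G₀ : Over (Spec (CommRingCat.of k))} [GrpObj G] [GrpObj G₀]
    (M : Model G₀) (e : G ≅ G₀) [IsMonHom e.hom] : Model G :=
  { A := M.A
    e := e ≪≫ M.e
    mon := inferInstanceAs (IsMonHom (e.hom ≫ M.e.hom)) }

end Iso

section Main

variable (G H : Over (Spec (CommRingCat.of k))) [GrpObj G] [GrpObj H]

/-- if the Hopf algebra `A` of `G` is cocommutative, infinite dimensional, and every Hopf subalgebra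
`≠ k` of `A` is isomorphic to `A`, then every finite subgroup of `G` is the kernel of a faithfully
flat endomorphism of `G`. -/
theorem exists_endo (MG : Model G) [Coalgebra.IsCocomm k MG.A] (hinf : ¬ Module.Finite k MG.A)
    (hclass : ∀ (B : Subalgebra k MG.A) (hB : IsHopfSub B), B ≠ ⊥ →
      Nonempty (letI := hopfAlgebra hB; ↥B ≃ₐc[k] MG.A))
    (i : H ⟶ G) [IsMonHom i] [Mono i] [IsFinite H.hom] :
    ∃ φ : G ⟶ G, IsMonHom φ ∧ AlgGrp.IsKernel i φ ∧ Flat φ.left ∧ Surjective φ.left := by
  classical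
  haveI hisoG : IsIso MG.e.hom.left :=
    inferInstanceAs (IsIso ((Over.forget (Spec (CommRingCat.of k))).map MG.e.hom))
  haveI hisoG' : IsIso MG.e.inv.left :=
    inferInstanceAs (IsIso ((Over.forget (Spec (CommRingCat.of k))).map MG.e.inv))
  haveI : IsAffine G.left :=
    @IsAffine.of_isIso _ _ MG.e.hom.left hisoG (inferInstanceAs (IsAffine (Spec (CommRingCat.of MG.A))))
  haveI : IsAffine H.left := isAffine_of_isAffineHom H.hom
  -- `i` is a closed immersion
  haveI : IsSeparated G.hom := inferInstance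
  haveI : IsFinite (i.left ≫ G.hom) := by
    rw [Over.w i]
    infer_instance
  haveI : IsFinite i.left := IsFinite.of_comp i.left G.hom
  haveI : Mono i.left := inferInstanceAs (Mono ((Over.forget (Spec (CommRingCat.of k))).map i))
  haveI : IsClosedImmersion i.left := (IsClosedImmersion.iff_isFinite_and_mono i.left).2 ⟨‹_›, ‹_›⟩
  obtain ⟨MN⟩ := nonempty_model H
  let f : (Spec (CommRingCat.of MN.A)).asOver (Spec (CommRingCat.of k)) ⟶
      (Spec (CommRingCat.of MG.A)).asOver (Spec (CommRingCat.of k)) := MN.e.inv ≫ i ≫ MG.e.hom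
  haveI : IsMonHom f := inferInstanceAs (IsMonHom (MN.e.inv ≫ i ≫ MG.e.hom))
  obtain ⟨ψ, hψf⟩ := exists_bialgHom f
  haveI hisoN : IsIso MN.e.inv.left :=
    inferInstanceAs (IsIso ((Over.forget (Spec (CommRingCat.of k))).map MN.e.inv))
  -- `ψ` is surjective
  have hψ : Function.Surjective ψ := by
    have h1 : IsClosedImmersion f.left := by
      change IsClosedImmersion (MN.e.inv.left ≫ i.left ≫ MG.e.hom.left)
      infer_instance
    rw [hψf, pg_left] at h1
    exact @surjective_of_isClosedImmersion _ _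
      (CommRingCat.ofHom ((ψ : MG.A →ₐ[k] MN.A) : MG.A →+* MN.A)) h1
  -- `MN.A` is finite dimensional
  haveI hfinN : Module.Finite k MN.A := by
    have h1 : IsFinite (MN.e.inv.left ≫ H.hom) := inferInstance
    have h2 : MN.e.inv.left ≫ H.hom =
        Spec.map (CommRingCat.ofHom (algebraMap k MN.A)) := Over.w MN.e.inv
    rw [h2] at h1
    have h3 := (IsFinite.SpecMap_iff (CommRingCat.ofHom (algebraMap k MN.A))).1 h1
    exact RingHom.finite_algebraMap.1 h3
  -- normality
  haveI : (RingHom.ker (ψ : MG.A →+* MN.A)).IsHopfIdeal k := isHopfIdeal_ker ψ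
  have hnorm : SGA3.IsNormalHopfIdeal k MG.A (RingHom.ker (ψ : MG.A →+* MN.A)) :=
    normal_of_isCocomm _
  obtain ⟨B, hB, hker⟩ := exists_hopfSub (RingHom.ker (ψ : MG.A →+* MN.A)) hnorm
  -- `B ≠ ⊥`
  have hBne : B ≠ ⊥ := by
    intro hbot
    apply hinf
    have hinj : Function.Injective ψ := by
      rw [injective_iff_map_eq_zero]
      intro a ha
      have ha' : a ∈ RingHom.ker (ψ : MG.A →+* MN.A) := ha
      rw [hker, hbot] at ha'
      have h0 : augSpan (⊥ : Subalgebra k MG.A) = ⊥ := by
        rw [eq_bot_iff]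
        unfold augSpan
        rw [Ideal.span_le]
        rintro x ⟨hx, hx0⟩
        obtain ⟨c, rfl⟩ := Algebra.mem_bot.1 hx
        have : c = 0 := by
          have := hx0
          rwa [Bialgebra.counit_algebraMap] at this
        rw [this, map_zero]
        exact Ideal.zero_mem _
      rw [h0] at ha'
      exact ha'
    exact Module.Finite.of_injective ((ψ : MG.A →ₐ[k] MN.A) : MG.A →ₗ[k] MN.A) hinj
  letI := hopfAlgebra hB
  obtain ⟨χ⟩ := hclass B hB hBne
  haveI hff : Module.FaithfullyFlat ↥B MG.A :=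
    faithfullyFlat_of_injective (valBialgHom hB) Subtype.val_injective (fun b a => rfl)
  let q₀ : (Spec (CommRingCat.of MG.A)).asOver (Spec (CommRingCat.of k)) ⟶
      (Spec (CommRingCat.of ↥B)).asOver (Spec (CommRingCat.of k)) :=
    pg (valBialgHom hB : ↥B →ₐ[k] MG.A)
  haveI : IsMonHom q₀ := isMonHom_pg (valBialgHom hB)
  let E : (Spec (CommRingCat.of ↥B)).asOver (Spec (CommRingCat.of k)) ≅ G :=
    specIso χ ≪≫ MG.e.symm
  haveI : IsMonHom E.hom := inferInstanceAs (IsMonHom ((specIso χ).hom ≫ MG.e.inv))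
  haveI : IsIso E.hom.left :=
    inferInstanceAs (IsIso ((Over.forget (Spec (CommRingCat.of k))).map E.hom))
  refine ⟨MG.e.hom ≫ q₀ ≫ E.hom, inferInstance, ?_, ?_, ?_⟩
  · have h1 := isKernel_pg B hB ψ hψ hker
    unfold AlgGrp.IsKernel at h1 ⊢
    refine h1.of_iso MN.e.symm MG.e.symm (Iso.refl _) E ?_ ?_ ?_ ?_
    · rw [← hψf]
      simp only [f, Iso.symm_hom, Category.assoc, Iso.hom_inv_id, Category.comp_id]
    · exact toUnit_unique _ _
    · simp only [Iso.symm_hom, Iso.inv_hom_id_assoc]
      rfl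
    · simp only [Iso.refl_hom, Category.id_comp]
      exact IsMonHom.one_hom E.hom
  · have h1 : Flat q₀.left := by
      change Flat (Spec.map (CommRingCat.ofHom (algebraMap ↥B MG.A)))
      rw [HasRingHomProperty.Spec_iff (P := @Flat)]
      exact RingHom.flat_algebraMap_iff.2 inferInstance
    change Flat (MG.e.hom.left ≫ q₀.left ≫ E.hom.left)
    infer_instance
  · have h1 : Surjective q₀.left := by
      refine ⟨?_⟩
      exact PrimeSpectrum.comap_surjective_of_faithfullyFlat (A := ↥B) (B := MG.A)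
    change Surjective (MG.e.hom.left ≫ q₀.left ≫ E.hom.left)
    infer_instance

end Main

end Groth.Agent.Lib.Helper7.FQ
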