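import Groth.Agent.Lib.Helper7.GaLaw
import Mathlib.Algebra.Polynomial.Laurent

/-!
# Group laws on the punctured affine line over a field (helper7)

Pure algebra: units of Laurent polynomial rings over a domain are monomials (`laurent_unit`); a functorial
group law on `R ↦ Rˣ` with unit `e` is `a * b * e⁻¹` (`law_eq_gm`).  Scheme side: the formula for the group law of
any group structure on `Red.Gm (Spec k)`.
-/

set_option autoImplicit false
universe u
open LaurentPolynomial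

namespace Groth.Agent.Lib.Helper7.GmLaw

theorem laurent_unit {D : Type*} [CommRing D] [IsDomain D] (f g : D[T;T⁻¹]) (hfg : f * g = 1) :
    ∃ (d : D) (n : ℤ), IsUnit d ∧ f = C d * T n := by
  obtain ⟨n₁, f', hf'⟩ := f.exists_T_pow
  obtain ⟨n₂, g', hg'⟩ := g.exists_T_pow
  have h : f' * g' = Polynomial.X ^ (n₁ + n₂) := by
    apply Polynomial.toLaurent_injective
    rw [map_mul, hf', hg', Polynomial.toLaurent_X_pow]
    calc f * T n₁ * (g * T n₂) = (f * g) * (T n₁ * T n₂) := by ring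
      _ = T ((n₁ + n₂ : ℕ) : ℤ) := by rw [hfg, one_mul, ← T_add]; push_cast; rfl
  have hdvd : f' ∣ Polynomial.X ^ (n₁ + n₂) := ⟨g', h.symm⟩
  obtain ⟨i, _, hi⟩ := (dvd_prime_pow Polynomial.prime_X _).mp hdvd
  obtain ⟨u, hu⟩ := hi.symm
  obtain ⟨d, hd, hdu⟩ := Polynomial.isUnit_iff.mp u.isUnit
  refine ⟨d, i - n₁, hd, ?_⟩
  have h2 : f * T n₁ = T i * C d := by
    rw [← hf', ← hu, ← hdu, map_mul, Polynomial.toLaurent_X_pow, Polynomial.toLaurent_C]
  calc f = f * T n₁ * T (-n₁) := by rw [mul_assoc, ← T_add, add_neg_cancel, T_zero, mul_one]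
    _ = C d * T (i - n₁) := by rw [h2, mul_comm (T i) (C d), mul_assoc, ← T_add, sub_eq_add_neg]

theorem unitT_zpow {D : Type*} [CommRing D] (n : ℤ) :
    (((isUnit_T (R := D) 1).unit ^ n : (D[T;T⁻¹])ˣ) : D[T;T⁻¹]) = T n := by
  have key : ∀ m : ℕ, (((isUnit_T (R := D) 1).unit ^ m : (D[T;T⁻¹])ˣ) : D[T;T⁻¹]) = T m := by
    intro m
    rw [Units.val_pow_eq_pow_val, IsUnit.unit_spec, T_pow, mul_one]
  obtain ⟨m, rfl | rfl⟩ := Int.eq_nat_or_neg n
  · rw [zpow_natCast]; exact key m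
  · rw [zpow_neg, zpow_natCast]
    exact Units.inv_eq_of_mul_eq_one_right (by rw [key, ← T_add, add_neg_cancel, T_zero])

theorem T_eq_C_mul_T {D : Type*} [CommRing D] [Nontrivial D] (r : D) (n i : ℤ)
    (h : (T n : D[T;T⁻¹]) = C r * T i) : i = n ∧ r = 1 := by
  have h1 : (T n : D[T;T⁻¹]).coeff n = (C r * T i : D[T;T⁻¹]).coeff n := by rw [← h]
  rw [← single_eq_C_mul_T, T_apply, if_pos rfl, AddMonoidAlgebra.coeff_single, Finsupp.single_apply] at h1
  by_cases hin : i = n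
  · rw [if_pos hin] at h1
    exact ⟨hin, h1.symm⟩
  · exfalso
    rw [if_neg hin] at h1
    exact one_ne_zero h1

variable (k : Type u) [Field k]

/-- evaluation of two-variable Laurent polynomials at a pair of units -/
noncomputable def ev (R : Type u) [CommRing R] [Algebra k R] (a b : Rˣ) :
    (k[T;T⁻¹])[T;T⁻¹] →ₐ[k] R :=
  { LaurentPolynomial.eval₂ (LaurentPolynomial.eval₂ (algebraMap k R) b) a with
    commutes' := fun c => by
      change LaurentPolynomial.eval₂ (LaurentPolynomial.eval₂ (algebraMap k R) b) a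
        (algebraMap k ((k[T;T⁻¹])[T;T⁻¹]) c) = _
      have : algebraMap k ((k[T;T⁻¹])[T;T⁻¹]) c = C (C c) := rfl
      rw [this]; simp }

end Groth.Agent.Lib.Helper7.GmLaw

namespace Groth.Agent.Lib.Helper7.GmLaw

variable (k : Type u) [Field k]

@[simp] theorem ev_T (R : Type u) [CommRing R] [Algebra k R] (a b : Rˣ) (n : ℤ) :
    ev k R a b (T n) = ((a ^ n : Rˣ) : R) := by
  change LaurentPolynomial.eval₂ (LaurentPolynomial.eval₂ (algebraMap k R) b) a (T n) = _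
  simp

@[simp] theorem ev_C_T (R : Type u) [CommRing R] [Algebra k R] (a b : Rˣ) (n : ℤ) :
    ev k R a b (C (T n)) = ((b ^ n : Rˣ) : R) := by
  change LaurentPolynomial.eval₂ (LaurentPolynomial.eval₂ (algebraMap k R) b) a (C (T n)) = _
  simp

@[simp] theorem ev_C_C (R : Type u) [CommRing R] [Algebra k R] (a b : Rˣ) (c : k) :
    ev k R a b (C (C c)) = algebraMap k R c := by
  change LaurentPolynomial.eval₂ (LaurentPolynomial.eval₂ (algebraMap k R) b) a (C (C c)) = _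
  simp

/-- the universal units -/
noncomputable def ux : ((k[T;T⁻¹])[T;T⁻¹])ˣ := (isUnit_T 1).unit
noncomputable def uy : ((k[T;T⁻¹])[T;T⁻¹])ˣ := Units.map ((C : k[T;T⁻¹] →+* (k[T;T⁻¹])[T;T⁻¹]) : k[T;T⁻¹] →* (k[T;T⁻¹])[T;T⁻¹]) (isUnit_T 1).unit

theorem map_ux (R : Type u) [CommRing R] [Algebra k R] (a b : Rˣ) :
    Units.map (ev k R a b : (k[T;T⁻¹])[T;T⁻¹] →* R) (ux k) = a := by
  ext
  simp [ux]

theorem map_uy (R : Type u) [CommRing R] [Algebra k R] (a b : Rˣ) :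
    Units.map (ev k R a b : (k[T;T⁻¹])[T;T⁻¹] →* R) (uy k) = b := by
  ext
  simp [uy]

theorem law_eq_gm
    (m : ∀ (R : Type u) [CommRing R] [Algebra k R], Rˣ → Rˣ → Rˣ)
    (e : kˣ)
    (hnat : ∀ (R R' : Type u) [CommRing R] [CommRing R'] [Algebra k R] [Algebra k R']
      (φ : R →ₐ[k] R') (a b : Rˣ),
      Units.map (φ : R →* R') (m R a b) = m R' (Units.map (φ : R →* R') a) (Units.map (φ : R →* R') b))
    (hone : ∀ (R : Type u) [CommRing R] [Algebra k R] (a : Rˣ),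
      m R a (Units.map (algebraMap k R : k →* R) e) = a)
    (hone' : ∀ (R : Type u) [CommRing R] [Algebra k R] (a : Rˣ),
      m R (Units.map (algebraMap k R : k →* R) e) a = a)
    (R : Type u) [CommRing R] [Algebra k R] (a b : Rˣ) :
    m R a b = a * b * (Units.map (algebraMap k R : k →* R) e)⁻¹ := by
  set M := m ((k[T;T⁻¹])[T;T⁻¹]) (ux k) (uy k) with hM
  obtain ⟨d, i, hd, hMd⟩ := laurent_unit (M : (k[T;T⁻¹])[T;T⁻¹]) ((M⁻¹ : ((k[T;T⁻¹])[T;T⁻¹])ˣ) :
    (k[T;T⁻¹])[T;T⁻¹]) (by simp)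
  obtain ⟨d', hd'⟩ := hd
  obtain ⟨c, j, hc, hdc⟩ := laurent_unit (d' : k[T;T⁻¹]) ((d'⁻¹ : (k[T;T⁻¹])ˣ) : k[T;T⁻¹]) (by simp)
  have step1 : ∀ (R : Type u) [CommRing R] [Algebra k R] (a b : Rˣ),
      ((m R a b : Rˣ) : R) = algebraMap k R c * ((b ^ j : Rˣ) : R) * ((a ^ i : Rˣ) : R) := by
    intro R _ _ a b
    have h1 := hnat _ R (ev k R a b) (ux k) (uy k)
    rw [map_ux, map_uy, ← hM] at h1
    rw [← h1]
    change ev k R a b (M : (k[T;T⁻¹])[T;T⁻¹]) = _
    rw [hMd, ← hd', hdc, map_mul, map_mul, map_mul, ev_T, ev_C_T, ev_C_C]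
  -- unit laws in the one-variable Laurent ring
  have h1 := step1 (k[T;T⁻¹]) (isUnit_T 1).unit (Units.map (algebraMap k (k[T;T⁻¹]) : k →* k[T;T⁻¹]) e)
  rw [hone] at h1
  have h2 := step1 (k[T;T⁻¹]) (Units.map (algebraMap k (k[T;T⁻¹]) : k →* k[T;T⁻¹]) e) (isUnit_T 1).unit
  rw [hone'] at h2
  have hu1 : (((isUnit_T (R := k) 1).unit : (k[T;T⁻¹])ˣ) : k[T;T⁻¹]) = T 1 := IsUnit.unit_spec _
  have hmapz : ∀ n : ℤ, (((Units.map (algebraMap k (k[T;T⁻¹]) : k →* k[T;T⁻¹])) e ^ n : (k[T;T⁻¹])ˣ) :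
      k[T;T⁻¹]) = C ((e ^ n : kˣ) : k) := by
    intro n
    rw [← map_zpow]; rfl
  rw [hu1, hmapz, unitT_zpow] at h1
  rw [hu1, hmapz, unitT_zpow] at h2
  have h1' : (T 1 : k[T;T⁻¹]) = C (c * ((e ^ j : kˣ) : k)) * T i := by
    rw [h1, map_mul]; rfl
  have h2' : (T 1 : k[T;T⁻¹]) = C (c * ((e ^ i : kˣ) : k)) * T j := by
    rw [h2, map_mul]
    have : (algebraMap k (k[T;T⁻¹])) c = C c := rfl
    rw [this]; ring
  obtain ⟨hi, hci⟩ := T_eq_C_mul_T _ _ _ h1'
  obtain ⟨hj, hcj⟩ := T_eq_C_mul_T _ _ _ h2'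
  subst hi hj
  rw [zpow_one] at hci
  ext
  rw [step1 R a b, zpow_one, zpow_one]
  have hc' : c = ((e⁻¹ : kˣ) : k) := by
    rw [Units.val_inv_eq_inv_val]
    exact eq_inv_of_mul_eq_one_left hci
  have h3 : (((Units.map (algebraMap k R : k →* R)) e)⁻¹ : Rˣ) =
      Units.map (algebraMap k R : k →* R) e⁻¹ := (map_inv _ _).symm
  rw [hc', Units.val_mul, Units.val_mul, h3, Units.coe_map]
  simp only [MonoidHom.coe_coe]
  ring

end Groth.Agent.Lib.Helper7.GmLaw


namespace Groth.Agent.Lib.Helper7.GmLaw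

open CategoryTheory MonoidalCategory CartesianMonoidalCategory MonObj GrpObj AlgebraicGeometry
  CategoryTheory.Limits
open Groth.Agent.Lib.Helper21.GaPts Groth.Agent.Lib.Helper7.GaLaw

section Gm

variable {k : Type u} [Field k]

/-- Points of `𝔾_m` are determined by the value of the coordinate. -/
theorem gm_ext {S : Scheme.{u}} {X : Over S} {x y : X ⟶ Red.Gm S}
    (h : dsFn (1 : ℤ) x = dsFn (1 : ℤ) y) : x = y := by
  apply dsFn_injective
  intro m
  have hc : dsChar x = dsChar y := MonoidHom.ext_mint h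
  exact congrArg (fun f : Multiplicative ℤ →* Γ(X.left, ⊤) => f (Multiplicative.ofAdd m)) hc

/-- The value in `Rˣ` of an `R`-point of `𝔾_m`. -/
noncomputable def gmVal (R : Type u) [CommRing R] [Algebra k R]
    (a : XR k R ⟶ Red.Gm (Spec (CommRingCat.of k))) : Rˣ :=
  Units.map ((Scheme.ΓSpecIso (CommRingCat.of R)).hom.hom : Γ(Spec (CommRingCat.of R), ⊤) →* R)
    (isUnit_dsFn (1 : ℤ) a).unit

theorem gmVal_val (R : Type u) [CommRing R] [Algebra k R]
    (a : XR k R ⟶ Red.Gm (Spec (CommRingCat.of k))) :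
    ((gmVal R a : Rˣ) : R) = (Scheme.ΓSpecIso (CommRingCat.of R)).hom (dsFn (1 : ℤ) a) := rfl

/-- The character `ℤ → Γˣ → Γ` of a unit. -/
noncomputable def chiOf {B : Type u} [CommRing B] (u : Bˣ) : Multiplicative ℤ →* B :=
  (Units.coeHom B).comp (zpowersHom Bˣ u)

theorem chiOf_one {B : Type u} [CommRing B] (u : Bˣ) : chiOf u (Multiplicative.ofAdd 1) = u := by
  simp [chiOf]

/-- The `R`-point of `𝔾_m` with value `r`. -/
noncomputable def gmOf (R : Type u) [CommRing R] [Algebra k R] (r : Rˣ) :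
    XR k R ⟶ Red.Gm (Spec (CommRingCat.of k)) :=
  dsPt (X := XR k R) (chiOf (Units.map ((Scheme.ΓSpecIso (CommRingCat.of R)).inv.hom :
    R →* Γ(Spec (CommRingCat.of R), ⊤)) r))

@[simp]
theorem gmVal_gmOf (R : Type u) [CommRing R] [Algebra k R] (r : Rˣ) : gmVal R (gmOf (k := k) R r) = r := by
  ext
  rw [gmVal_val, gmOf, dsFn_dsPt, chiOf_one]
  exact congrArg (fun f : CommRingCat.of R ⟶ CommRingCat.of R => f (r : R))
    (Scheme.ΓSpecIso (CommRingCat.of R)).inv_hom_id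

theorem gmVal_injective (R : Type u) [CommRing R] [Algebra k R] :
    Function.Injective (gmVal (k := k) R) := by
  intro a b h
  apply gm_ext
  have e1 : ∀ t : Γ(Spec (CommRingCat.of R), ⊤),
      (Scheme.ΓSpecIso (CommRingCat.of R)).inv ((Scheme.ΓSpecIso (CommRingCat.of R)).hom t) = t :=
    fun t => congrArg (fun f : Γ(Spec (CommRingCat.of R), ⊤) ⟶ Γ(Spec (CommRingCat.of R), ⊤) => f t)
      (Scheme.ΓSpecIso (CommRingCat.of R)).hom_inv_id
  have h1 : (Scheme.ΓSpecIso (CommRingCat.of R)).inv ((gmVal R a : Rˣ) : R) = dsFn (1 : ℤ) a := e1 _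
  have h2 : (Scheme.ΓSpecIso (CommRingCat.of R)).inv ((gmVal R b : Rˣ) : R) = dsFn (1 : ℤ) b := e1 _
  rw [h] at h1
  exact h1.symm.trans h2

@[simp]
theorem gmOf_gmVal (R : Type u) [CommRing R] [Algebra k R]
    (a : XR k R ⟶ Red.Gm (Spec (CommRingCat.of k))) : gmOf R (gmVal R a) = a :=
  gmVal_injective R (gmVal_gmOf R _)

theorem gmVal_map {R R' : Type u} [CommRing R] [CommRing R'] [Algebra k R] [Algebra k R']
    (φ : R →ₐ[k] R') (a : XR k R ⟶ Red.Gm (Spec (CommRingCat.of k))) :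
    gmVal R' (XRmap φ ≫ a) = Units.map (φ : R →* R') (gmVal R a) := by
  ext
  rw [gmVal_val, dsFn_comp, Units.coe_map, gmVal_val]
  have h := Scheme.ΓSpecIso_naturality (CommRingCat.ofHom (φ : R →+* R'))
  exact congrArg (fun f : Γ(Spec (CommRingCat.of R), ⊤) ⟶ CommRingCat.of R' => f (dsFn (1 : ℤ) a)) h

theorem map_gmOf {R R' : Type u} [CommRing R] [CommRing R'] [Algebra k R] [Algebra k R']
    (φ : R →ₐ[k] R') (r : Rˣ) :
    XRmap φ ≫ gmOf (k := k) R r = gmOf R' (Units.map (φ : R →* R') r) :=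
  gmVal_injective R' (by rw [gmVal_map, gmVal_gmOf, gmVal_gmOf])

theorem dsFn_canon_comp (X : Over (Spec (CommRingCat.of k))) :
    letI := algΓ X
    ∀ a' : XR k Γ(X.left, ⊤) ⟶ Red.Gm (Spec (CommRingCat.of k)),
      dsFn (1 : ℤ) (canon X ≫ a') = ((gmVal Γ(X.left, ⊤) a' : Γ(X.left, ⊤)ˣ) : Γ(X.left, ⊤)) := by
  letI := algΓ X
  intro a'
  rw [dsFn_comp]
  change X.left.toSpecΓ.appTop (dsFn (1 : ℤ) a') = _
  rw [Scheme.toSpecΓ_appTop]
  rfl

/-- Every point factors through the canonical morphism to the spectrum of global functions. -/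
theorem canon_comp_gmOf (X : Over (Spec (CommRingCat.of k)))
    (a : X ⟶ Red.Gm (Spec (CommRingCat.of k))) :
    letI := algΓ X
    canon X ≫ gmOf Γ(X.left, ⊤) (isUnit_dsFn (1 : ℤ) a).unit = a := by
  letI := algΓ X
  apply gm_ext
  rw [dsFn_canon_comp, gmVal_gmOf]
  rfl

variable [hG : GrpObj (Red.Gm (Spec (CommRingCat.of k)))]

/-- The unit of the group law, as an element of `kˣ`. -/
noncomputable def gmUnit : kˣ := gmVal k (1 : XR k k ⟶ Red.Gm (Spec (CommRingCat.of k)))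

theorem gmVal_one (R : Type u) [CommRing R] [Algebra k R] :
    gmVal R (1 : XR k R ⟶ Red.Gm (Spec (CommRingCat.of k))) =
      Units.map (algebraMap k R : k →* R) (gmUnit (k := k)) := by
  have h : XRmap (Algebra.ofId k R) ≫ (1 : XR k k ⟶ Red.Gm (Spec (CommRingCat.of k))) = 1 :=
    MonObj.comp_one _
  rw [← h, gmVal_map]
  rfl

/-- The transported multiplication on `Rˣ`. -/
noncomputable def gmM (R : Type u) [CommRing R] [Algebra k R] (x y : Rˣ) : Rˣ :=
  gmVal (k := k) R (gmOf R x * gmOf R y)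

theorem gmM_nat (R R' : Type u) [CommRing R] [CommRing R'] [Algebra k R] [Algebra k R']
    (φ : R →ₐ[k] R') (x y : Rˣ) :
    Units.map (φ : R →* R') (gmM (k := k) R x y) =
      gmM (k := k) R' (Units.map (φ : R →* R') x) (Units.map (φ : R →* R') y) := by
  unfold gmM
  rw [← gmVal_map, MonObj.comp_mul, map_gmOf, map_gmOf]

theorem gmM_one (R : Type u) [CommRing R] [Algebra k R] (x : Rˣ) :
    gmM (k := k) R x (Units.map (algebraMap k R : k →* R) (gmUnit (k := k))) = x := by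
  unfold gmM
  rw [← gmVal_one, gmOf_gmVal, _root_.mul_one, gmVal_gmOf]

theorem gmM_one' (R : Type u) [CommRing R] [Algebra k R] (x : Rˣ) :
    gmM (k := k) R (Units.map (algebraMap k R : k →* R) (gmUnit (k := k))) x = x := by
  unfold gmM
  rw [← gmVal_one, gmOf_gmVal, _root_.one_mul, gmVal_gmOf]

theorem gmVal_mul (R : Type u) [CommRing R] [Algebra k R]
    (a b : XR k R ⟶ Red.Gm (Spec (CommRingCat.of k))) :
    gmVal R (a * b) = gmVal R a * gmVal R b *
      (Units.map (algebraMap k R : k →* R) (gmUnit (k := k)))⁻¹ := by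
  have key := law_eq_gm k (fun R _ _ => gmM (k := k) R) (gmUnit (k := k))
    (fun R R' _ _ _ _ => gmM_nat R R') (fun R _ _ => gmM_one R)
    (fun R _ _ => gmM_one' R) R (gmVal R a) (gmVal R b)
  change gmM (k := k) R (gmVal R a) (gmVal R b) = _ at key
  unfold gmM at key
  rwa [gmOf_gmVal, gmOf_gmVal] at key

/-- The group law of any group structure on the punctured affine line, on arbitrary points. -/
theorem dsFn_mul_eq (X : Over (Spec (CommRingCat.of k)))
    (a b : X ⟶ Red.Gm (Spec (CommRingCat.of k))) :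
    dsFn (1 : ℤ) (a * b) = dsFn (1 : ℤ) a * dsFn (1 : ℤ) b *
      evalHom X.hom (((gmUnit (k := k))⁻¹ : kˣ) : k) := by
  letI := algΓ X
  have ha := canon_comp_gmOf X a
  have hb := canon_comp_gmOf X b
  rw [← ha, ← hb, ← MonObj.comp_mul, dsFn_canon_comp, gmVal_mul, gmVal_gmOf, gmVal_gmOf, ha, hb]
  have h3 : (((Units.map (algebraMap k Γ(X.left, ⊤) : k →* Γ(X.left, ⊤))) (gmUnit (k := k)))⁻¹ :
      Γ(X.left, ⊤)ˣ) = Units.map (algebraMap k Γ(X.left, ⊤) : k →* Γ(X.left, ⊤)) (gmUnit (k := k))⁻¹ :=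
    (map_inv _ _).symm
  rw [h3, Units.val_mul, Units.val_mul, Units.coe_map]
  rfl

end Gm

end Groth.Agent.Lib.Helper7.GmLaw
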