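import Groth.Agent.Lib.Helper7.GaIsog1
import Groth.Agent.Lib.Helper7.GmLaw
import Groth.Agent.Lib.Helper7.GmIsog2

/-!
# The Hopf algebra of `𝔾_m` over a field (helper7)

Any Hopf-algebra model `A` of `Red.Gm (Spec k)` is the group algebra `k[ℤ]`.
-/

set_option autoImplicit false
universe u
open CategoryTheory MonoidalCategory CartesianMonoidalCategory MonObj GrpObj AlgebraicGeometry
  CategoryTheory.Limits
open TensorProduct WithConv

namespace Groth.Agent.Lib.Helper7.GmIsog

open Groth.Agent.Lib.Helper7.GH Groth.Agent.Lib.Helper7.GModComod Groth.Agent.Lib.Helper7.GaLaw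
  Groth.Agent.Lib.Helper21.GaPts Groth.Agent.Lib.Helper7.GaIsog Groth.Agent.Lib.Helper7.GmLaw

variable {k : Type u} [Field k]

instance isAffine_Gm : IsAffine (Red.Gm (Spec (CommRingCat.of k))).left := by
  haveI : IsAffine (Red.diag (ULift.{u} ℤ) ℤ).left := inferInstanceAs (IsAffine (Spec _))
  change IsAffine (pullback _ _)
  infer_instance

variable (M : Model (Red.Gm (Spec (CommRingCat.of k))))

/-- the value of an `R`-point of the model. -/
noncomputable def thm (R : Type u) [CommRing R] [Algebra k R] (g : M.A →ₐ[k] R) : Rˣ :=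
  gmVal (k := k) R (pgX g ≫ M.e.inv)

lemma thm_comp {R R' : Type u} [CommRing R] [CommRing R'] [Algebra k R] [Algebra k R']
    (ψ : R →ₐ[k] R') (g : M.A →ₐ[k] R) :
    thm M R' (ψ.comp g) = Units.map (ψ : R →* R') (thm M R g) := by
  unfold thm
  rw [← gmVal_map ψ, pgX_comp, Category.assoc]

lemma gmVal_mul' (R : Type u) [CommRing R] [Algebra k R]
    (a b : XR k R ⟶ Red.Gm (Spec (CommRingCat.of k))) :
    gmVal R (a * b) = gmVal R a * gmVal R b := by
  ext
  rw [Units.val_mul, gmVal_val, gmVal_val, gmVal_val, dsFn_mul]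
  exact map_mul (Scheme.ΓSpecIso (CommRingCat.of R)).hom.hom _ _

lemma thm_mul (R : Type u) [CommRing R] [Algebra k R] (g g' : M.A →ₐ[k] R) :
    thm M R (toConv g * toConv g').ofConv = thm M R g * thm M R g' := by
  unfold thm
  have h1 : pgX (toConv g * toConv g').ofConv ≫ M.e.inv = (pgX g ≫ M.e.inv) * (pgX g' ≫ M.e.inv) := by
    rw [pgX_mul]
    exact MonObj.mul_comp (pgX g) (pgX g') M.e.inv
  rw [h1, gmVal_mul']

lemma thm_injective (R : Type u) [CommRing R] [Algebra k R] : Function.Injective (thm M R) := by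
  intro g g' h
  unfold thm at h
  have h1 := gmVal_injective R h
  rw [cancel_mono] at h1
  exact pgX_injective h1

lemma thm_surjective (R : Type u) [CommRing R] [Algebra k R] : Function.Surjective (thm M R) := by
  intro r
  obtain ⟨g, hg⟩ := pgX_surjective (A := M.A) (gmOf (k := k) R r ≫ M.e.hom)
  refine ⟨g, ?_⟩
  unfold thm
  rw [hg, Category.assoc, Iso.hom_inv_id, Category.comp_id, gmVal_gmOf]

/-- the coordinate of the model. -/
noncomputable def u₀ : M.Aˣ := thm M M.A (AlgHom.id k M.A)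

lemma thm_eq (R : Type u) [CommRing R] [Algebra k R] (g : M.A →ₐ[k] R) :
    thm M R g = Units.map (g : M.A →* R) (u₀ M) := by
  have := thm_comp M g (AlgHom.id k M.A)
  rwa [AlgHom.comp_id] at this

lemma isGroupLikeElem_u₀ : IsGroupLikeElem k ((u₀ M : M.Aˣ) : M.A) := by
  refine ⟨?_, ?_⟩
  · have h1 := thm_mul M k (1 : WithConv (M.A →ₐ[k] k)).ofConv (1 : WithConv (M.A →ₐ[k] k)).ofConv
    rw [toConv_ofConv, _root_.mul_one] at h1
    have h2 : thm M k (1 : WithConv (M.A →ₐ[k] k)).ofConv = 1 := by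
      have := mul_left_cancel (a := thm M k (1 : WithConv (M.A →ₐ[k] k)).ofConv)
        (b := 1) (c := thm M k (1 : WithConv (M.A →ₐ[k] k)).ofConv) (by rw [_root_.mul_one]; exact h1)
      exact this.symm
    rw [thm_eq] at h2
    have h3 := congrArg Units.val h2
    rw [Units.coe_map] at h3
    exact h3
  · have h1 := thm_mul M (M.A ⊗[k] M.A) Algebra.TensorProduct.includeLeft
      Algebra.TensorProduct.includeRight
    rw [← Groth.Agent.Lib.Helper7.HopfConv.comul_eq_includeLeft_mul_includeRight, ofConv_toConv,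
      thm_eq, thm_eq, thm_eq] at h1
    have h3 := congrArg Units.val h1
    rw [Units.val_mul, Units.coe_map, Units.coe_map, Units.coe_map] at h3
    change Coalgebra.comul (R := k) ((u₀ M : M.Aˣ) : M.A) =
      (((u₀ M : M.Aˣ) : M.A) ⊗ₜ[k] (1 : M.A)) * ((1 : M.A) ⊗ₜ[k] ((u₀ M : M.Aˣ) : M.A)) at h3
    rw [h3, Algebra.TensorProduct.tmul_mul_tmul, _root_.mul_one, _root_.one_mul]

/-- the bialgebra map `k[ℤ] → A` of the coordinate. -/
noncomputable def ψ₀ : MonoidAlgebra k (Multiplicative ℤ) →ₐc[k] M.A :=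
  ofGroupLike ⟨((u₀ M : M.Aˣ) : M.A), isGroupLikeElem_u₀ M⟩

lemma ψ₀_single_one :
    ψ₀ M (MonoidAlgebra.single (Multiplicative.ofAdd (1 : ℤ)) 1) = ((u₀ M : M.Aˣ) : M.A) := by
  unfold ψ₀
  rw [ofGroupLike_single, zpow_one]

/-- the unit `T` of `k[ℤ]`. -/
noncomputable def unitT : (MonoidAlgebra k (Multiplicative ℤ))ˣ :=
  Units.map (MonoidAlgebra.of k (Multiplicative ℤ) : Multiplicative ℤ →* _)
    (toUnits (Multiplicative.ofAdd (1 : ℤ)))

lemma unitT_val : ((unitT (k := k) : (MonoidAlgebra k (Multiplicative ℤ))ˣ) :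
    MonoidAlgebra k (Multiplicative ℤ)) = MonoidAlgebra.single (Multiplicative.ofAdd (1 : ℤ)) 1 := rfl

lemma ψ₀_bijective : Function.Bijective (ψ₀ M) := by
  obtain ⟨g₁, hg₁⟩ := thm_surjective M (MonoidAlgebra k (Multiplicative ℤ)) unitT
  rw [thm_eq] at hg₁
  have hg₁' : g₁ ((u₀ M : M.Aˣ) : M.A) = MonoidAlgebra.single (Multiplicative.ofAdd (1 : ℤ)) 1 := by
    have := congrArg Units.val hg₁
    rwa [Units.coe_map, unitT_val] at this
  have h1 : g₁.comp (ψ₀ M : MonoidAlgebra k (Multiplicative ℤ) →ₐ[k] M.A) =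
      AlgHom.id k (MonoidAlgebra k (Multiplicative ℤ)) := by
    have hmon : ((g₁.comp (ψ₀ M : MonoidAlgebra k (Multiplicative ℤ) →ₐ[k] M.A) :
        MonoidAlgebra k (Multiplicative ℤ) →ₐ[k] MonoidAlgebra k (Multiplicative ℤ)) :
        MonoidAlgebra k (Multiplicative ℤ) →* MonoidAlgebra k (Multiplicative ℤ)).comp
          (MonoidAlgebra.of k (Multiplicative ℤ)) = MonoidAlgebra.of k (Multiplicative ℤ) := by
      apply MonoidHom.ext_mint
      change g₁ (ψ₀ M (MonoidAlgebra.single (Multiplicative.ofAdd (1 : ℤ)) 1)) =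
        MonoidAlgebra.single (Multiplicative.ofAdd (1 : ℤ)) 1
      rw [ψ₀_single_one, hg₁']
    apply MonoidAlgebra.algHom_ext
    · intro x
      exact DFunLike.congr_fun hmon x
    · exact Subsingleton.elim _ _
  have h2 : (ψ₀ M : MonoidAlgebra k (Multiplicative ℤ) →ₐ[k] M.A).comp g₁ = AlgHom.id k M.A := by
    apply thm_injective M M.A
    rw [thm_eq, thm_eq]
    ext
    rw [Units.coe_map, Units.coe_map]
    change ψ₀ M (g₁ ((u₀ M : M.Aˣ) : M.A)) = ((u₀ M : M.Aˣ) : M.A)
    rw [hg₁', ψ₀_single_one]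
  constructor
  · intro p p' h
    have := congrArg g₁ h
    have e1 : ∀ p, g₁ (ψ₀ M p) = p := fun p =>
      congrArg (fun f : MonoidAlgebra k (Multiplicative ℤ) →ₐ[k] MonoidAlgebra k (Multiplicative ℤ) => f p) h1
    rwa [e1, e1] at this
  · intro a
    exact ⟨g₁ a, congrArg (fun f : M.A →ₐ[k] M.A => f a) h2⟩

end Groth.Agent.Lib.Helper7.GmIsog
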