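import Groth.Agent.Lib.Helper7.CG2
import Groth.Agent.Lib.Helper7.FQ5
import Groth.Agent.Lib.Helper7.GmIsog1

/-!
# A central `𝔾_m` in an affine group has a character restricting to a positive power (helper7)

Scheme side.
-/

set_option autoImplicit false
universe u
open CategoryTheory MonoidalCategory CartesianMonoidalCategory MonObj GrpObj AlgebraicGeometry
open TensorProduct WithConv

namespace Groth.Agent.Lib.Helper7.CG

open Groth.Agent.Lib.Helper7.GH Groth.Agent.Lib.Helper7.GModComod
  Groth.Agent.Lib.Helper7.GmIsog Groth.Agent.Lib.Helper7.FQ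

variable {k : Type u} [Field k]

/-- `𝔾_m` is the spectrum of the group algebra `k[ℤ]`, as a group. -/
theorem exists_gm_iso :
    ∃ e : Red.Gm (Spec (CommRingCat.of k)) ≅
      (Spec (CommRingCat.of (MonoidAlgebra k (Multiplicative ℤ)))).asOver (Spec (CommRingCat.of k)),
      IsMonHom e.hom := by
  obtain ⟨M₀⟩ := nonempty_model (Red.Gm (Spec (CommRingCat.of k)))
  let χ₀ : MonoidAlgebra k (Multiplicative ℤ) ≃ₐc[k] M₀.A :=
    BialgEquiv.ofBijective (ψ₀ M₀) (ψ₀_bijective M₀)
  let M₁ := modelOfBialgEquiv M₀ χ₀.symm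
  exact ⟨M₁.e, M₁.mon⟩

section Central

variable {A : Type u} [CommRing A] [HopfAlgebra k A]
  {M : Type} [CommGroup M] (ψ : A →ₐc[k] MonoidAlgebra k M)

/-- centrality on points implies centrality of the Hopf algebra map. -/
theorem isCentral_of_points
    (h : (pg ((Algebra.TensorProduct.includeLeft :
          MonoidAlgebra k M →ₐ[k] MonoidAlgebra k M ⊗[k] A).comp (ψ : A →ₐ[k] MonoidAlgebra k M)) :
        (Spec (CommRingCat.of (MonoidAlgebra k M ⊗[k] A))).asOver (Spec (CommRingCat.of k)) ⟶
          (Spec (CommRingCat.of A)).asOver (Spec (CommRingCat.of k))) *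
        pg (Algebra.TensorProduct.includeRight : A →ₐ[k] MonoidAlgebra k M ⊗[k] A) =
      pg (Algebra.TensorProduct.includeRight : A →ₐ[k] MonoidAlgebra k M ⊗[k] A) *
        pg ((Algebra.TensorProduct.includeLeft :
          MonoidAlgebra k M →ₐ[k] MonoidAlgebra k M ⊗[k] A).comp (ψ : A →ₐ[k] MonoidAlgebra k M))) :
    IsCentral ψ := by
  have h1 := congrArg pf h
  rw [pf_mul, pf_mul, pf_pg, pf_pg] at h1
  intro x
  have h2 := DFunLike.congr_fun h1 x
  have h3 := AlgHom.convMul_apply
    (toConv ((Algebra.TensorProduct.includeLeft :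
          MonoidAlgebra k M →ₐ[k] MonoidAlgebra k M ⊗[k] A).comp (ψ : A →ₐ[k] MonoidAlgebra k M)))
    (toConv (Algebra.TensorProduct.includeRight : A →ₐ[k] MonoidAlgebra k M ⊗[k] A)) x
  have h4 := AlgHom.convMul_apply
    (toConv (Algebra.TensorProduct.includeRight : A →ₐ[k] MonoidAlgebra k M ⊗[k] A))
    (toConv ((Algebra.TensorProduct.includeLeft :
          MonoidAlgebra k M →ₐ[k] MonoidAlgebra k M ⊗[k] A).comp (ψ : A →ₐ[k] MonoidAlgebra k M))) x
  have e1 : ∀ z : A ⊗[k] A, Algebra.TensorProduct.lift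
      ((Algebra.TensorProduct.includeLeft :
          MonoidAlgebra k M →ₐ[k] MonoidAlgebra k M ⊗[k] A).comp (ψ : A →ₐ[k] MonoidAlgebra k M))
      (Algebra.TensorProduct.includeRight : A →ₐ[k] MonoidAlgebra k M ⊗[k] A)
      (fun _ _ => .all ..) z =
      TensorProduct.map (ψ : A →ₗ[k] MonoidAlgebra k M) (LinearMap.id : A →ₗ[k] A) z := by
    intro z
    induction z using TensorProduct.induction_on with
    | zero => simp
    | tmul a b => simp [Algebra.TensorProduct.tmul_mul_tmul]
    | add x y hx hy => simp only [map_add, hx, hy]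
  have e2 : ∀ z : A ⊗[k] A, Algebra.TensorProduct.lift
      (Algebra.TensorProduct.includeRight : A →ₐ[k] MonoidAlgebra k M ⊗[k] A)
      ((Algebra.TensorProduct.includeLeft :
          MonoidAlgebra k M →ₐ[k] MonoidAlgebra k M ⊗[k] A).comp (ψ : A →ₐ[k] MonoidAlgebra k M))
      (fun _ _ => .all ..) z =
      TensorProduct.map (ψ : A →ₗ[k] MonoidAlgebra k M) (LinearMap.id : A →ₗ[k] A)
        (TensorProduct.comm k A A z) := by
    intro z
    induction z using TensorProduct.induction_on with
    | zero => simp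
    | tmul a b => simp [Algebra.TensorProduct.tmul_mul_tmul]
    | add x y hx hy => simp only [map_add, hx, hy]
  rw [← e1, ← e2]
  exact h3.symm.trans (h2.trans h4)

end Central

end Groth.Agent.Lib.Helper7.CG
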