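import Groth.Agent.Lib.Helper7.CG3

set_option autoImplicit false
universe u
open CategoryTheory MonoidalCategory CartesianMonoidalCategory MonObj GrpObj AlgebraicGeometry
open TensorProduct WithConv

namespace Groth.Agent.Lib.Helper7.CG

open Groth.Agent.Lib.Helper7.GH Groth.Agent.Lib.Helper7.GModComod
  Groth.Agent.Lib.Helper7.GmIsog Groth.Agent.Lib.Helper7.FQ

variable {k : Type u} [Field k]

/-- the `n`-th power endomorphism of `k[ℤ]`. -/
lemma comp_ofGroupLike_eq {A : Type u} [CommRing A] [HopfAlgebra k A]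
    (ψ : A →ₐc[k] MonoidAlgebra k (Multiplicative ℤ)) (s : GroupLike k A) (n : ℕ)
    (hs : ψ (s : A) = (MonoidAlgebra.single ((Multiplicative.ofAdd (1 : ℤ)) ^ n) 1 :
      MonoidAlgebra k (Multiplicative ℤ))) :
    (ψ : A →ₐ[k] MonoidAlgebra k (Multiplicative ℤ)).comp
      (ofGroupLike s : MonoidAlgebra k (Multiplicative ℤ) →ₐ[k] A) =
      ((toConv (AlgHom.id k (MonoidAlgebra k (Multiplicative ℤ)))) ^ n).ofConv := by
  have hmon : (((ψ : A →ₐ[k] MonoidAlgebra k (Multiplicative ℤ)).comp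
      (ofGroupLike s : MonoidAlgebra k (Multiplicative ℤ) →ₐ[k] A) :
        MonoidAlgebra k (Multiplicative ℤ) →ₐ[k] MonoidAlgebra k (Multiplicative ℤ)) :
        MonoidAlgebra k (Multiplicative ℤ) →* MonoidAlgebra k (Multiplicative ℤ)).comp
          (MonoidAlgebra.of k (Multiplicative ℤ)) =
      ((((toConv (AlgHom.id k (MonoidAlgebra k (Multiplicative ℤ)))) ^ n).ofConv :
        MonoidAlgebra k (Multiplicative ℤ) →ₐ[k] MonoidAlgebra k (Multiplicative ℤ)) :
        MonoidAlgebra k (Multiplicative ℤ) →* MonoidAlgebra k (Multiplicative ℤ)).comp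
          (MonoidAlgebra.of k (Multiplicative ℤ)) := by
    apply MonoidHom.ext_mint
    change ψ (ofGroupLike s (MonoidAlgebra.single (Multiplicative.ofAdd (1 : ℤ)) 1)) =
      ((toConv (AlgHom.id k (MonoidAlgebra k (Multiplicative ℤ)))) ^ n).ofConv
        (MonoidAlgebra.single (Multiplicative.ofAdd (1 : ℤ)) 1)
    rw [ofGroupLike_single, zpow_one, hs, convPow_id_groupLike
      (MonoidAlgebra.isGroupLikeElem_single_one (Multiplicative.ofAdd (1 : ℤ))),
      MonoidAlgebra.single_pow, one_pow]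
  apply MonoidAlgebra.algHom_ext
  · intro x
    exact DFunLike.congr_fun hmon x
  · exact Subsingleton.elim _ _

end Groth.Agent.Lib.Helper7.CG

namespace Groth.Agent.Lib.Helper7.CG

open Groth.Agent.Lib.Helper7.GH Groth.Agent.Lib.Helper7.GModComod
  Groth.Agent.Lib.Helper7.GmIsog Groth.Agent.Lib.Helper7.FQ

variable {k : Type u} [Field k]

local notation "𝔏" => MonoidAlgebra k (Multiplicative ℤ)

/-- **Main theorem**: a central closed `𝔾_m` in an affine group over a field admits a character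
restricting to a positive power. -/
theorem exists_character (E : Over (Spec (CommRingCat.of k))) [GrpObj E] [IsAffine E.left]
    (i : Red.Gm (Spec (CommRingCat.of k)) ⟶ E) [IsMonHom i] [IsClosedImmersion i.left]
    (hcent : ∀ (T : Over (Spec (CommRingCat.of k))) (t : T ⟶ Red.Gm (Spec (CommRingCat.of k)))
      (g : T ⟶ E), (t ≫ i) * g = g * (t ≫ i)) :
    ∃ (χ : E ⟶ Red.Gm (Spec (CommRingCat.of k))) (n : ℕ), IsMonHom χ ∧ 1 ≤ n ∧
      ∀ (T : Over (Spec (CommRingCat.of k))) (t : T ⟶ Red.Gm (Spec (CommRingCat.of k))),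
        (t ≫ i) ≫ χ = t ^ n := by
  classical
  obtain ⟨ME⟩ := nonempty_model E
  obtain ⟨e, he⟩ := exists_gm_iso (k := k)
  haveI := he
  let i' : (Spec (CommRingCat.of 𝔏)).asOver (Spec (CommRingCat.of k)) ⟶
      (Spec (CommRingCat.of ME.A)).asOver (Spec (CommRingCat.of k)) := e.inv ≫ i ≫ ME.e.hom
  haveI : IsMonHom i' := inferInstanceAs (IsMonHom (e.inv ≫ i ≫ ME.e.hom))
  obtain ⟨ψ, hψ⟩ := exists_bialgHom i'
  haveI hisoe : IsIso e.inv.left :=
    inferInstanceAs (IsIso ((Over.forget (Spec (CommRingCat.of k))).map e.inv))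
  haveI hisoE : IsIso ME.e.hom.left :=
    inferInstanceAs (IsIso ((Over.forget (Spec (CommRingCat.of k))).map ME.e.hom))
  have hsurj : Function.Surjective ψ := by
    have h1 : IsClosedImmersion i'.left := by
      change IsClosedImmersion (e.inv.left ≫ i.left ≫ ME.e.hom.left)
      infer_instance
    rw [hψ, pg_left] at h1
    exact @surjective_of_isClosedImmersion _ _
      (CommRingCat.ofHom ((ψ : ME.A →ₐ[k] 𝔏) : ME.A →+* 𝔏)) h1
  obtain ⟨a, ha⟩ := hsurj (MonoidAlgebra.single (Multiplicative.ofAdd (1 : ℤ)) 1)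
  have hc : IsCentral ψ := by
    apply isCentral_of_points
    have h := hcent ((Spec (CommRingCat.of (𝔏 ⊗[k] ME.A))).asOver (Spec (CommRingCat.of k)))
      (pg (Algebra.TensorProduct.includeLeft : 𝔏 →ₐ[k] 𝔏 ⊗[k] ME.A) ≫ e.inv)
      (pg (Algebra.TensorProduct.includeRight : ME.A →ₐ[k] 𝔏 ⊗[k] ME.A) ≫ ME.e.inv)
    have h' := congrArg (fun x => x ≫ ME.e.hom) h
    beta_reduce at h'
    rw [MonObj.mul_comp, MonObj.mul_comp] at h'
    simp only [Category.assoc, Iso.inv_hom_id, Category.comp_id] at h'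
    have h5 : pg (Algebra.TensorProduct.includeLeft : 𝔏 →ₐ[k] 𝔏 ⊗[k] ME.A) ≫ e.inv ≫ i ≫ ME.e.hom =
        pg ((Algebra.TensorProduct.includeLeft : 𝔏 →ₐ[k] 𝔏 ⊗[k] ME.A).comp (ψ : ME.A →ₐ[k] 𝔏)) := by
      change pg (Algebra.TensorProduct.includeLeft : 𝔏 →ₐ[k] 𝔏 ⊗[k] ME.A) ≫ i' = _
      rw [hψ, pg_comp_pg]
    rw [h5] at h'
    exact h'
  obtain ⟨u, n, hu, hn, hψu⟩ := exists_groupLike (Multiplicative.ofAdd (1 : ℤ)) hc a ha
  let s : GroupLike k ME.A := ⟨u, hu⟩
  let χ' : (Spec (CommRingCat.of ME.A)).asOver (Spec (CommRingCat.of k)) ⟶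
      (Spec (CommRingCat.of 𝔏)).asOver (Spec (CommRingCat.of k)) :=
    pg ((ofGroupLike s : 𝔏 →ₐc[k] ME.A) : 𝔏 →ₐ[k] ME.A)
  haveI : IsMonHom χ' := isMonHom_pg (ofGroupLike s)
  refine ⟨ME.e.hom ≫ χ' ≫ e.inv, n, inferInstance, hn, ?_⟩
  intro T t
  have h1 : i ≫ ME.e.hom = e.hom ≫ i' := by
    change _ = e.hom ≫ e.inv ≫ i ≫ ME.e.hom
    rw [Iso.hom_inv_id_assoc]
  have h2 : i' ≫ χ' = (𝟙 ((Spec (CommRingCat.of 𝔏)).asOver (Spec (CommRingCat.of k)))) ^ n := by
    rw [hψ]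
    change pg _ ≫ pg _ = _
    rw [pg_comp_pg, comp_ofGroupLike_eq ψ s n hψu]
    unfold pg
    rw [toConv_ofConv, map_pow]
    congr 1
    apply Over.OverMorphism.ext
    change Spec.map _ = 𝟙 _
    exact Spec.map_id _
  calc (t ≫ i) ≫ ME.e.hom ≫ χ' ≫ e.inv
      = t ≫ (i ≫ ME.e.hom) ≫ χ' ≫ e.inv := by simp only [Category.assoc]
    _ = (t ≫ e.hom) ≫ (i' ≫ χ') ≫ e.inv := by rw [h1]; simp only [Category.assoc]
    _ = ((t ≫ e.hom) ^ n) ≫ e.inv := by
        rw [h2, ← Category.assoc, MonObj.comp_pow, Category.comp_id]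
    _ = t ^ n := by
        rw [MonObj.pow_comp (t ≫ e.hom) n e.inv, Category.assoc, Iso.hom_inv_id, Category.comp_id]

end Groth.Agent.Lib.Helper7.CG
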