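import Mathlib
import Groth.Agent.Lib.Helper7.CHR2

/-!
# Chase–Harrison–Rosenberg, III: pairs of points with the same image (helper7)
-/

set_option autoImplicit false
set_option linter.unusedSectionVars false
set_option linter.style.haveILetI false

namespace Groth.Agent.Lib.Helper7.CHR

open TensorProduct

universe u v w

variable {B A : Type u} [CommRing B] [CommRing A] [Algebra B A] {G : Type v} [Group G]
  [MulSemiringAction G A] [SMulCommClass G B A] [Fintype G] [DecidableEq G]
  (hinv : ∀ a : A, (∀ g : G, g • a = a) → a ∈ Set.range (algebraMap B A))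
  {S : Finset (A × A)} (hS : ∀ g : G, ∑ s ∈ S, s.1 * g • s.2 = if g = 1 then 1 else 0)

include hinv hS in
/-- two points of `A` in a domain with the same restriction to `B` are conjugate. -/
theorem exists_smul_of_comp_eq {K : Type w} [CommRing K] [IsDomain K] (a b : A →+* K)
    (hab : ∀ x : B, a (algebraMap B A x) = b (algebraMap B A x)) :
    ∃ g : G, ∀ a' : A, b a' = a (g • a') := by
  letI : Algebra B K := (a.comp (algebraMap B A)).toAlgebra
  let aa : A →ₐ[B] K := { a with commutes' := fun x => rfl }
  let bb : A →ₐ[B] K := { b with commutes' := fun x => (hab x).symm }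
  let χ : A ⊗[B] A →ₐ[B] K := Algebra.TensorProduct.lift aa bb (fun _ _ => Commute.all _ _)
  have hχ : ∀ x y : A, χ (x ⊗ₜ[B] y) = a x * b y := fun x y => by
    simp [χ, aa, bb]
  have hbij := Phi_bijective (B := B) hinv hS
  let e : G → A ⊗[B] A := fun g => Psi B S (Pi.single g (1 : A))
  have he : ∀ g h : G, mm B h (e g) = if h = g then 1 else 0 := by
    intro g h
    have := congrFun (Phi_Psi (B := B) hS (Pi.single g (1 : A))) h
    rw [Phi_apply] at this
    rw [this, Pi.single_apply]
  have hsum : ∑ g : G, e g = 1 := by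
    apply hbij.1
    funext h
    rw [Phi_apply, map_sum]
    simp only [he]
    simp
  have hidem : ∀ g : G, e g * e g = e g := by
    intro g
    apply hbij.1
    funext h
    rw [Phi_apply, Phi_apply, map_mul, he]
    split_ifs <;> simp
  have hex : ∃ g : G, χ (e g) ≠ 0 := by
    by_contra hcon
    simp only [not_exists, not_not] at hcon
    have h1 : χ (∑ g : G, e g) = 0 := by
      rw [map_sum]
      exact Finset.sum_eq_zero (fun g _ => hcon g)
    rw [hsum, map_one] at h1
    exact one_ne_zero h1
  obtain ⟨g, hg⟩ := hex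
  have hg1 : χ (e g) = 1 := by
    have h1 : χ (e g) * χ (e g) = χ (e g) := by rw [← map_mul, hidem]
    have h2 : χ (e g) * (χ (e g) - 1) = 0 := by rw [mul_sub, h1, mul_one, sub_self]
    rcases mul_eq_zero.1 h2 with h3 | h3
    · exact absurd h3 hg
    · exact sub_eq_zero.1 h3
  have hkey : ∀ t : A ⊗[B] A, t * e g = (mm B g t ⊗ₜ[B] (1 : A)) * e g := by
    intro t
    apply hbij.1
    funext h
    rw [Phi_apply, Phi_apply, map_mul, map_mul, he, mm_tmul, smul_one, mul_one]
    split_ifs with hh
    · subst hh; rfl
    · simp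
  refine ⟨g, fun a' => ?_⟩
  have h1 : χ ((1 : A) ⊗ₜ[B] a') = χ ((1 : A) ⊗ₜ[B] a') * χ (e g) := by rw [hg1, mul_one]
  rw [← map_mul, hkey, map_mul, hg1, mul_one, hχ, hχ, mm_tmul, one_mul, map_one, map_one, one_mul,
    mul_one] at h1
  exact h1

end Groth.Agent.Lib.Helper7.CHR
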