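import Groth.Prelude.Def_SGA1
import Mathlib.RingTheory.Invariant.Basic
import Mathlib.AlgebraicGeometry.Morphisms.Integral
import Mathlib.AlgebraicGeometry.Restrict
import Mathlib.AlgebraicGeometry.Morphisms.Affine
import Mathlib.Topology.Sheaves.SheafCondition.UniqueGluing
import Mathlib.RingTheory.Localization.Away.Basic

set_option autoImplicit false

universe u

open CategoryTheory AlgebraicGeometry SGA1

namespace Groth.Agent.Lib.Helper7.FiniteQuotient

lemma appLE_of_eq_id {X : Scheme.{u}} (f : X ⟶ X) (hf : f = 𝟙 X) (U V : X.Opens)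
    (e : V ≤ f ⁻¹ᵁ U) (e' : V ≤ U) :
    f.appLE U V e = X.presheaf.map (homOfLE e').op := by
  subst hf
  simp only [Scheme.Hom.appLE, Scheme.Hom.id_app]
  rfl

lemma appLE_congr_hom {X Y : Scheme.{u}} {f g : X ⟶ Y} (h : f = g) (U : Y.Opens) (V : X.Opens)
    (e : V ≤ f ⁻¹ᵁ U) : f.appLE U V e = g.appLE U V (h ▸ e) := by
  subst h; rfl

variable {X Y : Scheme.{u}} {G : Type u} [Group G]

section Act

variable (ρ : G →* Aut X) (p : X ⟶ Y) (hinv : ∀ g : G, (ρ g).hom ≫ p = p)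

/-- The endomorphism of `Γ(X, p⁻¹U)` induced by `g`: pull back sections along `ρ g`. -/
noncomputable def actHom (U : Y.Opens) (g : G) : Γ(X, p ⁻¹ᵁ U) ⟶ Γ(X, p ⁻¹ᵁ U) :=
  (ρ g).hom.appLE (p ⁻¹ᵁ U) (p ⁻¹ᵁ U) (preimage_le_of_inv ρ p hinv g U)

lemma actHom_one (U : Y.Opens) : actHom ρ p hinv U 1 = 𝟙 _ := by
  have h : (ρ 1).hom = 𝟙 X := by rw [map_one]; rfl
  unfold actHom
  rw [appLE_of_eq_id _ h _ _ _ le_rfl]
  simp

lemma actHom_mul (U : Y.Opens) (g h : G) :
    actHom ρ p hinv U (g * h) = actHom ρ p hinv U g ≫ actHom ρ p hinv U h := by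
  have e : (ρ (g * h)).hom = (ρ h).hom ≫ (ρ g).hom := by rw [map_mul]; rfl
  unfold actHom
  rw [Scheme.Hom.appLE_comp_appLE, appLE_congr_hom e]

lemma app_actHom (U : Y.Opens) (g : G) :
    p.app U ≫ actHom ρ p hinv U g = p.app U := by
  unfold actHom
  rw [Scheme.Hom.app_eq_appLE, Scheme.Hom.appLE_comp_appLE, appLE_congr_hom (hinv g)]

lemma actHom_map {U V : Y.Opens} (hVU : V ≤ U) (g : G) :
    actHom ρ p hinv U g ≫ X.presheaf.map (homOfLE (show p ⁻¹ᵁ V ≤ p ⁻¹ᵁ U from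
      fun _ hx => hVU hx)).op =
    X.presheaf.map (homOfLE (show p ⁻¹ᵁ V ≤ p ⁻¹ᵁ U from fun _ hx => hVU hx)).op ≫
      actHom ρ p hinv V g := by
  unfold actHom
  rw [Scheme.Hom.appLE_map, Scheme.Hom.map_appLE]

/-- The left action of `G` on `Γ(X, p⁻¹U)`: `g • s = (ρ g⁻¹)^* s`. -/
@[reducible] noncomputable def mulSemiringAction (U : Y.Opens) :
    MulSemiringAction G Γ(X, p ⁻¹ᵁ U) where
  smul g s := (actHom ρ p hinv U g⁻¹).hom s
  one_smul s := by
    change (actHom ρ p hinv U 1⁻¹).hom s = s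
    rw [inv_one, actHom_one]; rfl
  mul_smul g h s := by
    change (actHom ρ p hinv U (g * h)⁻¹).hom s =
      (actHom ρ p hinv U g⁻¹).hom ((actHom ρ p hinv U h⁻¹).hom s)
    rw [mul_inv_rev, actHom_mul]; rfl
  smul_zero g := map_zero _
  smul_add g := map_add _
  smul_one g := map_one _
  smul_mul g := map_mul _

lemma smul_def (U : Y.Opens) (g : G) (s : Γ(X, p ⁻¹ᵁ U)) :
    letI := mulSemiringAction ρ p hinv U
    g • s = (actHom ρ p hinv U g⁻¹).hom s := rfl

lemma smul_eq_iff (U : Y.Opens) (s : Γ(X, p ⁻¹ᵁ U)) :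
    letI := mulSemiringAction ρ p hinv U
    (∀ g : G, g • s = s) ↔ ∀ g : G, (actHom ρ p hinv U g).hom s = s := by
  constructor
  · intro h g
    have := h g⁻¹
    rwa [smul_def, inv_inv] at this
  · intro h g
    rw [smul_def]
    exact h g⁻¹

end Act

section Quot

variable {ρ : G →* Aut X} {p : X ⟶ Y} (hp : IsQuot ρ p)

include hp in
lemma isInvariant (U : Y.Opens) :
    letI := (p.app U).hom.toAlgebra
    letI := mulSemiringAction ρ p hp.inv U
    Algebra.IsInvariant Γ(Y, U) Γ(X, p ⁻¹ᵁ U) G := by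
  let _ := (p.app U).hom.toAlgebra
  let _ := mulSemiringAction ρ p hp.inv U
  refine ⟨fun s hs => ?_⟩
  rw [smul_eq_iff] at hs
  exact (hp.range_iff U s).mpr hs

include hp in
lemma smulCommClass (U : Y.Opens) :
    letI := (p.app U).hom.toAlgebra
    letI := mulSemiringAction ρ p hp.inv U
    SMulCommClass G Γ(Y, U) Γ(X, p ⁻¹ᵁ U) := by
  let _ := (p.app U).hom.toAlgebra
  let _ := mulSemiringAction ρ p hp.inv U
  refine ⟨fun g b s => ?_⟩
  rw [Algebra.smul_def, smul_mul', Algebra.smul_def]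
  congr 1
  have h := (hp.range_iff U ((p.app U).hom b)).mp ⟨b, rfl⟩
  rw [smul_def]
  exact h g⁻¹

include hp in
lemma isIntegral_app [Finite G] (U : Y.Opens) : (p.app U).hom.IsIntegral := by
  let _ := (p.app U).hom.toAlgebra
  let _ := mulSemiringAction ρ p hp.inv U
  have := isInvariant hp U
  have h : Algebra.IsIntegral Γ(Y, U) Γ(X, p ⁻¹ᵁ U) := Algebra.IsInvariant.isIntegral _ _ G
  exact fun s => h.isIntegral s

include hp in
/-- A quotient by a finite group is an integral morphism. -/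
theorem isIntegralHom [Finite G] : IsIntegralHom p :=
  { toIsAffineHom := hp.affine
    isIntegral_app := fun U _ => isIntegral_app hp U }

include hp in
lemma surjective [Finite G] : Function.Surjective p.base := by
  intro y
  obtain ⟨_, ⟨U, hU, rfl⟩, hyU, -⟩ :=
    Y.isBasis_affineOpens.exists_subset_of_mem_open (Set.mem_univ y) isOpen_univ
  have : IsAffineHom p := hp.affine
  have hW : IsAffineOpen (p ⁻¹ᵁ U) := hU.preimage p
  have hsurj := (isIntegral_app hp U).comap_surjective (hp.injective U)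
  obtain ⟨x', hx'⟩ := hsurj (hU.primeIdealOf ⟨y, hyU⟩)
  refine ⟨hW.fromSpec x', ?_⟩
  have h1 := hU.SpecMap_appLE_fromSpec p hW le_rfl
  rw [Scheme.Hom.appLE_eq_app] at h1
  have h2 : p.base (hW.fromSpec x') = hU.fromSpec ((Spec.map (p.app U)).base x') := by
    rw [← Scheme.Hom.comp_apply, ← h1, Scheme.Hom.comp_apply]
  rw [h2]
  have h3 : (Spec.map (p.app U)).base x' = hU.primeIdealOf ⟨y, hyU⟩ := hx'
  rw [h3, hU.fromSpec_primeIdealOf]

include hp in
lemma exists_smul_eq_of_app_eq [Finite G] {x x' : X} (h : p.base x = p.base x') :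
    ∃ g : G, (ρ g).hom.base x = x' := by
  obtain ⟨_, ⟨U, hU, rfl⟩, hyU, -⟩ :=
    Y.isBasis_affineOpens.exists_subset_of_mem_open (Set.mem_univ (p.base x)) isOpen_univ
  have : IsAffineHom p := hp.affine
  have hW : IsAffineOpen (p ⁻¹ᵁ U) := hU.preimage p
  have hxW : x ∈ p ⁻¹ᵁ U := hyU
  have hx'W : x' ∈ p ⁻¹ᵁ U := by change p.base x' ∈ U; rw [← h]; exact hyU
  let _ := (p.app U).hom.toAlgebra
  let _ := mulSemiringAction ρ p hp.inv U
  have := isInvariant hp U
  have := smulCommClass hp U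
  set P := hW.primeIdealOf ⟨x, hxW⟩ with hP
  set P' := hW.primeIdealOf ⟨x', hx'W⟩ with hP'
  have h1 := hU.SpecMap_appLE_fromSpec p hW le_rfl
  rw [Scheme.Hom.appLE_eq_app] at h1
  have hpt : ∀ Q : PrimeSpectrum Γ(X, p ⁻¹ᵁ U),
      p.base (hW.fromSpec Q) = hU.fromSpec ((Spec.map (p.app U)).base Q) := by
    intro Q
    rw [← Scheme.Hom.comp_apply, ← h1, Scheme.Hom.comp_apply]
  have hinj : Function.Injective hU.fromSpec.base := hU.fromSpec.isOpenEmbedding.injective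
  have h2 : (Spec.map (p.app U)).base P = (Spec.map (p.app U)).base P' := by
    apply hinj
    rw [← hpt, ← hpt, hP, hP', hW.fromSpec_primeIdealOf, hW.fromSpec_primeIdealOf]
    exact h
  have h3 : P.asIdeal.under Γ(Y, U) = P'.asIdeal.under Γ(Y, U) :=
    congrArg PrimeSpectrum.asIdeal h2
  obtain ⟨g, hg⟩ := Algebra.IsInvariant.exists_smul_of_under_eq Γ(Y, U) Γ(X, p ⁻¹ᵁ U) G
    P.asIdeal P'.asIdeal h3
  refine ⟨g, ?_⟩
  have h4 := hW.SpecMap_appLE_fromSpec (ρ g).hom hW (preimage_le_of_inv ρ p hp.inv g U)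
  have h5 : (ρ g).hom.base (hW.fromSpec P) =
      hW.fromSpec ((Spec.map (actHom ρ p hp.inv U g)).base P) := by
    rw [← Scheme.Hom.comp_apply, ← h4, Scheme.Hom.comp_apply]
    rfl
  have h6 : (Spec.map (actHom ρ p hp.inv U g)).base P = P' := by
    apply PrimeSpectrum.ext
    rw [hg]
    ext s
    rw [Ideal.mem_pointwise_smul_iff_inv_smul_mem, smul_def, inv_inv]
    rfl
  have hx : hW.fromSpec P = x := hW.fromSpec_primeIdealOf ⟨x, hxW⟩
  rw [← hx, h5, h6]
  exact hW.fromSpec_primeIdealOf ⟨x', hx'W⟩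

include hp in
lemma app_eq_iff [Finite G] (x x' : X) :
    p.base x = p.base x' ↔ ∃ g : G, (ρ g).hom.base x = x' := by
  refine ⟨exists_smul_eq_of_app_eq hp, ?_⟩
  rintro ⟨g, rfl⟩
  rw [← Scheme.Hom.comp_apply, hp.inv g]

include hp in
lemma isQuotientMap [Finite G] : Topology.IsQuotientMap p.base := by
  have := isIntegralHom hp
  exact IsClosedMap.isQuotientMap p.isClosedMap p.continuous (surjective hp)

end Quot

section Restrict

/-- restriction maps along an open immersion with matching image are bijective -/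
lemma bijective_ι_appLE {X : Scheme.{u}} (U : X.Opens) (W : X.Opens) (W' : U.toScheme.Opens)
    (h : U.ι ''ᵁ W' = W) (e : W' ≤ U.ι ⁻¹ᵁ W) :
    Function.Bijective (U.ι.appLE W W' e).hom := by
  subst h
  have : U.ι.appLE (U.ι ''ᵁ W') W' e = (U.ι.appIso W').hom := (Scheme.Hom.appIso_hom' _ _).symm
  rw [this]
  exact ConcreteCategory.bijective_of_isIso _

variable {ρ : G →* Aut X} {p : X ⟶ Y}

/-- The restriction of a quotient to an open of the base is a quotient. -/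
theorem restrict (hp : IsQuot ρ p) (U : Y.Opens)
    (ρU : G →* Aut (p ⁻¹ᵁ U).toScheme)
    (hρU : ∀ g : G, (ρU g).hom ≫ (p ⁻¹ᵁ U).ι = (p ⁻¹ᵁ U).ι ≫ (ρ g).hom) :
    IsQuot ρU (p ∣_ U) := by
  have haff : IsAffineHom p := hp.affine
  have hinvU : ∀ g : G, (ρU g).hom ≫ p ∣_ U = p ∣_ U := by
    intro g
    rw [← cancel_mono U.ι, Category.assoc, morphismRestrict_ι, ← Category.assoc, hρU,
      Category.assoc, hp.inv]
  refine ⟨IsZariskiLocalAtTarget.restrict haff U, hinvU, ?_, ?_⟩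
  · intro V
    rw [morphismRestrict_app]
    have h1 := hp.injective (U.ι ''ᵁ V)
    intro a b hab
    apply h1
    have hinj : Function.Injective (X.presheaf.map
        (eqToHom (image_morphismRestrict_preimage p U V)).op).hom :=
      (ConcreteCategory.bijective_of_isIso _).1
    exact hinj hab
  · intro V s
    have hW : (p ⁻¹ᵁ U).ι ''ᵁ ((p ∣_ U) ⁻¹ᵁ V) = p ⁻¹ᵁ (U.ι ''ᵁ V) :=
      image_morphismRestrict_preimage p U V
    have e : (p ∣_ U) ⁻¹ᵁ V ≤ (p ⁻¹ᵁ U).ι ⁻¹ᵁ (p ⁻¹ᵁ (U.ι ''ᵁ V)) := by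
      rw [← hW]; exact ((p ⁻¹ᵁ U).ι.preimage_image_eq _).ge
    have hJ := bijective_ι_appLE (p ⁻¹ᵁ U) (p ⁻¹ᵁ (U.ι ''ᵁ V)) ((p ∣_ U) ⁻¹ᵁ V) hW e
    -- Fact A
    have hA : (p ∣_ U).app V =
        p.app (U.ι ''ᵁ V) ≫ (p ⁻¹ᵁ U).ι.appLE (p ⁻¹ᵁ (U.ι ''ᵁ V)) ((p ∣_ U) ⁻¹ᵁ V) e := by
      rw [morphismRestrict_app', Scheme.Opens.ι_appLE]
      rfl
    -- Fact B
    have hB : ∀ g : G, (p ⁻¹ᵁ U).ι.appLE (p ⁻¹ᵁ (U.ι ''ᵁ V)) ((p ∣_ U) ⁻¹ᵁ V) e ≫
        (ρU g).hom.appLE ((p ∣_ U) ⁻¹ᵁ V) ((p ∣_ U) ⁻¹ᵁ V)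
          (preimage_le_of_inv ρU (p ∣_ U) hinvU g V) =
        actHom ρ p hp.inv (U.ι ''ᵁ V) g ≫
          (p ⁻¹ᵁ U).ι.appLE (p ⁻¹ᵁ (U.ι ''ᵁ V)) ((p ∣_ U) ⁻¹ᵁ V) e := by
      intro g
      unfold actHom
      rw [Scheme.Hom.appLE_comp_appLE, Scheme.Hom.appLE_comp_appLE, appLE_congr_hom (hρU g)]
    constructor
    · rintro ⟨b, rfl⟩ g
      have hb : ((p ∣_ U).app V).hom b =
          ((p ⁻¹ᵁ U).ι.appLE (p ⁻¹ᵁ (U.ι ''ᵁ V)) ((p ∣_ U) ⁻¹ᵁ V) e).hom
            ((p.app (U.ι ''ᵁ V)).hom b) := by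
        rw [hA]; rfl
      rw [hb]
      have h1 := congrArg (fun f => f.hom ((p.app (U.ι ''ᵁ V)).hom b)) (hB g)
      have h2 := congrArg (fun f => f.hom b) (app_actHom ρ p hp.inv (U.ι ''ᵁ V) g)
      simp only [CommRingCat.hom_comp, RingHom.comp_apply] at h1 h2
      rw [h1, h2]
    · intro hs
      obtain ⟨t, rfl⟩ := hJ.2 s
      have ht : ∀ g : G, (actHom ρ p hp.inv (U.ι ''ᵁ V) g).hom t = t := by
        intro g
        apply hJ.1
        have := congrArg (fun f => f.hom t) (hB g)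
        simp only [CommRingCat.hom_comp, RingHom.comp_apply] at this
        rw [← this]
        exact hs g
      obtain ⟨b, rfl⟩ := (hp.range_iff (U.ι ''ᵁ V) t).mpr ht
      exact ⟨b, by rw [hA]; rfl⟩

end Restrict

section Basis

open TopologicalSpace Opposite

/-- injectivity on sections can be checked on a basis -/
theorem injective_app_of_isBasis (p : X ⟶ Y) (𝓑 : Set Y.Opens) (hB : Opens.IsBasis 𝓑)
    (hinj : ∀ U ∈ 𝓑, Function.Injective (p.app U).hom) (V : Y.Opens) :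
    Function.Injective (p.app V).hom := by
  rw [injective_iff_map_eq_zero]
  intro s hs
  let ι := {U : Y.Opens // U ∈ 𝓑 ∧ U ≤ V}
  have hcover : V ≤ ⨆ i : ι, i.1 := by
    intro y hy
    obtain ⟨U, hU, hyU, hUV⟩ := Opens.isBasis_iff_nbhd.mp hB hy
    exact Opens.mem_iSup.mpr ⟨⟨U, hU, hUV⟩, hyU⟩
  refine Y.sheaf.eq_of_locally_eq' (fun i : ι => i.1) V (fun i => homOfLE i.2.2) hcover s 0 ?_
  intro i
  apply hinj i.1 i.2.1
  have hnat := p.naturality (homOfLE i.2.2).op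
  have h1 := congrArg (fun f => f.hom s) hnat
  simp only [CommRingCat.hom_comp, RingHom.comp_apply] at h1
  change (p.app i.1).hom ((Y.presheaf.map (homOfLE i.2.2).op).hom s) =
    (p.app i.1).hom ((Y.presheaf.map (homOfLE i.2.2).op).hom 0)
  rw [h1, hs, map_zero, map_zero, map_zero]

/-- The quotient property can be checked on a basis of opens of the target. -/
theorem isQuot_of_isBasis (ρ : G →* Aut X) (p : X ⟶ Y) (haff : IsAffineHom p)
    (hinv : ∀ g : G, (ρ g).hom ≫ p = p) (𝓑 : Set Y.Opens) (hB : Opens.IsBasis 𝓑)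
    (hinj : ∀ U ∈ 𝓑, Function.Injective (p.app U).hom)
    (hrange : ∀ U ∈ 𝓑, ∀ s : Γ(X, p ⁻¹ᵁ U),
      (∀ g : G, (actHom ρ p hinv U g).hom s = s) → s ∈ Set.range (p.app U).hom) :
    IsQuot ρ p := by
  have hinj' := injective_app_of_isBasis p 𝓑 hB hinj
  refine ⟨haff, hinv, hinj', fun V s => ⟨?_, ?_⟩⟩
  · rintro ⟨b, rfl⟩ g
    exact congrArg (fun f => f.hom b) (app_actHom ρ p hinv V g)
  · intro hs
    let ι := {U : Y.Opens // U ∈ 𝓑 ∧ U ≤ V}
    have hcover : V ≤ ⨆ i : ι, i.1 := by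
      intro y hy
      obtain ⟨U, hU, hyU, hUV⟩ := Opens.isBasis_iff_nbhd.mp hB hy
      exact Opens.mem_iSup.mpr ⟨⟨U, hU, hUV⟩, hyU⟩
    have hle : ∀ i : ι, p ⁻¹ᵁ i.1 ≤ p ⁻¹ᵁ V := fun i _ hx => i.2.2 hx
    -- local preimages
    have hloc : ∀ i : ι, ∃ t : Γ(Y, i.1), (p.app i.1).hom t =
        (X.presheaf.map (homOfLE (hle i)).op).hom s := by
      intro i
      apply hrange i.1 i.2.1
      intro g
      have h1 := congrArg (fun f => f.hom s) (actHom_map ρ p hinv i.2.2 g)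
      simp only [CommRingCat.hom_comp, RingHom.comp_apply] at h1
      rw [← h1]
      exact congrArg _ (hs g)
    choose t ht using hloc
    have hcompat : TopCat.Presheaf.IsCompatible Y.sheaf.1 (fun i : ι => i.1) t := by
      intro i j
      apply hinj' (i.1 ⊓ j.1)
      have h1 := congrArg (fun f => f.hom (t i)) (p.naturality (Opens.infLELeft i.1 j.1).op)
      have h2 := congrArg (fun f => f.hom (t j)) (p.naturality (Opens.infLERight i.1 j.1).op)
      simp only [CommRingCat.hom_comp, RingHom.comp_apply] at h1 h2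
      change (p.app (i.1 ⊓ j.1)).hom ((Y.presheaf.map (Opens.infLELeft i.1 j.1).op).hom (t i)) =
        (p.app (i.1 ⊓ j.1)).hom ((Y.presheaf.map (Opens.infLERight i.1 j.1).op).hom (t j))
      rw [h1, h2, ht, ht, ← RingHom.comp_apply, ← RingHom.comp_apply, ← CommRingCat.hom_comp,
        ← CommRingCat.hom_comp, ← Functor.map_comp, ← Functor.map_comp]
      rfl
    obtain ⟨b, hb, -⟩ := Y.sheaf.existsUnique_gluing' (fun i : ι => i.1) V
      (fun i => homOfLE i.2.2) hcover t hcompat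
    refine ⟨b, ?_⟩
    have hcoverX : p ⁻¹ᵁ V ≤ ⨆ i : ι, p ⁻¹ᵁ i.1 := by
      intro x hx
      obtain ⟨i, hi⟩ := Opens.mem_iSup.mp (hcover hx)
      exact Opens.mem_iSup.mpr ⟨i, hi⟩
    refine X.sheaf.eq_of_locally_eq' (fun i : ι => p ⁻¹ᵁ i.1) (p ⁻¹ᵁ V)
      (fun i => homOfLE (hle i)) hcoverX _ _ ?_
    intro i
    have h1 := congrArg (fun f => f.hom b) (p.naturality (homOfLE i.2.2).op)
    simp only [CommRingCat.hom_comp, RingHom.comp_apply] at h1
    change (X.presheaf.map (homOfLE (hle i)).op).hom ((p.app V).hom b) =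
      (X.presheaf.map (homOfLE (hle i)).op).hom s
    rw [← ht i, ← hb i]
    exact h1.symm

end Basis

section Cover

open TopologicalSpace Opposite


/-- Invariants commute with localization at an invariant element (abstract form). -/
theorem localization_invariants {R A R' A' : Type*} [CommRing R] [CommRing A] [CommRing R']
    [CommRing A'] [Algebra R R'] [Algebra A A'] (φ : R →+* A) (φ' : R' →+* A')
    (hcomm : ∀ r, φ' (algebraMap R R' r) = algebraMap A A' (φ r))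
    (b : R) [IsLocalization.Away b R'] [IsLocalization.Away (φ b) A']
    {G : Type*} [Finite G] (σ : G → A →+* A) (σ' : G → A' →+* A')
    (hσ : ∀ g a, σ' g (algebraMap A A' a) = algebraMap A A' (σ g a))
    (hσφ : ∀ g r, σ g (φ r) = φ r)
    (hinj : Function.Injective φ)
    (hrange : ∀ a, (∀ g, σ g a = a) → a ∈ Set.range φ) :
    Function.Injective φ' ∧ ∀ s, (∀ g, σ' g s = s) → s ∈ Set.range φ' := by
  have hunit : ∀ k : ℕ, IsUnit (algebraMap R R' (b ^ k)) := fun k =>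
    IsLocalization.map_units R' (⟨b ^ k, k, rfl⟩ : Submonoid.powers b)
  constructor
  · rw [injective_iff_map_eq_zero]
    intro t ht
    obtain ⟨⟨t₀, ⟨_, n, rfl⟩⟩, h1⟩ := IsLocalization.surj (Submonoid.powers b) t
    simp only at h1
    have h2 : algebraMap A A' (φ t₀) = 0 := by
      rw [← hcomm, ← h1, map_mul, ht, zero_mul]
    obtain ⟨⟨_, m, rfl⟩, hm⟩ := (IsLocalization.map_eq_zero_iff (Submonoid.powers (φ b)) A' _).mp h2
    simp only at hm
    have h3 : b ^ m * t₀ = 0 := by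
      apply hinj
      rw [map_mul, map_pow, hm, map_zero]
    have h4 : algebraMap R R' t₀ = 0 := by
      have : algebraMap R R' (b ^ m) * algebraMap R R' t₀ = 0 := by
        rw [← map_mul, h3, map_zero]
      exact (hunit m).mul_right_eq_zero.mp this
    rw [h4] at h1
    exact (hunit n).mul_left_eq_zero.mp h1
  · intro s hs
    obtain ⟨⟨a, ⟨_, n, rfl⟩⟩, h1⟩ := IsLocalization.surj (Submonoid.powers (φ b)) s
    simp only at h1
    -- each `σ g a - a` is killed by a power of `φ b`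
    have h2 : ∀ g, ∃ m : ℕ, φ b ^ m * (σ g a - a) = 0 := by
      intro g
      have : algebraMap A A' (σ g a - a) = 0 := by
        rw [map_sub, ← hσ, ← h1, map_mul, hs g, hσ, map_pow (σ g), hσφ, sub_self]
      obtain ⟨⟨_, m, rfl⟩, hm⟩ :=
        (IsLocalization.map_eq_zero_iff (Submonoid.powers (φ b)) A' _).mp this
      exact ⟨m, hm⟩
    choose m hm using h2
    obtain ⟨M, hM⟩ := (Set.finite_range m).bddAbove
    have hM' : ∀ g, m g ≤ M := fun g => hM ⟨g, rfl⟩
    have h3 : ∀ g, σ g (φ b ^ M * a) = φ b ^ M * a := by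
      intro g
      rw [map_mul, map_pow, hσφ]
      have : φ b ^ M * (σ g a - a) = 0 := by
        rw [← Nat.sub_add_cancel (hM' g), pow_add, mul_assoc, hm, mul_zero]
      rw [mul_sub, sub_eq_zero] at this
      exact this
    obtain ⟨c, hc⟩ := hrange _ h3
    obtain ⟨u, hu⟩ := hunit (n + M)
    refine ⟨algebraMap R R' c * ↑u⁻¹, ?_⟩
    have h4 : φ' (algebraMap R R' c) = s * algebraMap A A' (φ b ^ (n + M)) := by
      rw [hcomm, hc, map_mul, pow_add, map_mul, ← mul_assoc, ← h1]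
      ring
    have h5 : φ' (↑u) = algebraMap A A' (φ b ^ (n + M)) := by
      rw [hu, hcomm, map_pow]
    have h6 : φ' (↑u) * φ' (↑u⁻¹) = 1 := by
      rw [← map_mul, Units.mul_inv, map_one]
    rw [map_mul, h4, ← h5, mul_assoc, h6, mul_one]


variable {X Y : Scheme.{u}} {G : Type u} [Group G]

/-- The quotient condition on an affine open with affine preimage passes to basic opens. -/
theorem localize_basicOpen [Finite G] (ρ : G →* Aut X) (p : X ⟶ Y)
    (hinv : ∀ g : G, (ρ g).hom ≫ p = p) {U : Y.Opens} (hU : IsAffineOpen U)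
    (hW : IsAffineOpen (p ⁻¹ᵁ U))
    (hinjU : Function.Injective (p.app U).hom)
    (hrangeU : ∀ s : Γ(X, p ⁻¹ᵁ U),
      (∀ g : G, (actHom ρ p hinv U g).hom s = s) → s ∈ Set.range (p.app U).hom)
    (b : Γ(Y, U)) :
    Function.Injective (p.app (Y.basicOpen b)).hom ∧
      ∀ s : Γ(X, p ⁻¹ᵁ (Y.basicOpen b)),
        (∀ g : G, (actHom ρ p hinv (Y.basicOpen b) g).hom s = s) →
          s ∈ Set.range (p.app (Y.basicOpen b)).hom := by
  have hVU : Y.basicOpen b ≤ U := Y.basicOpen_le b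
  have hle : p ⁻¹ᵁ (Y.basicOpen b) ≤ p ⁻¹ᵁ U := fun _ hx => hVU hx
  have e : p ⁻¹ᵁ (Y.basicOpen b) = X.basicOpen ((p.app U).hom b) := Scheme.preimage_basicOpen p b
  have hlocY : IsLocalization.Away b Γ(Y, Y.basicOpen b) := hU.isLocalization_basicOpen b
  let _ : Algebra Γ(X, p ⁻¹ᵁ U) Γ(X, p ⁻¹ᵁ (Y.basicOpen b)) :=
    (X.presheaf.map (homOfLE hle).op).hom.toAlgebra
  have hlocX : IsLocalization.Away ((p.app U).hom b) Γ(X, p ⁻¹ᵁ (Y.basicOpen b)) :=
    hW.isLocalization_of_eq_basicOpen ((p.app U).hom b) (homOfLE hle) e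
  refine localization_invariants (p.app U).hom (p.app (Y.basicOpen b)).hom ?_ b
    (fun g => (actHom ρ p hinv U g).hom) (fun g => (actHom ρ p hinv (Y.basicOpen b) g).hom)
    ?_ ?_ hinjU hrangeU
  · intro r
    have := congrArg (fun f => f.hom r) (p.naturality (homOfLE hVU).op)
    simp only [CommRingCat.hom_comp, RingHom.comp_apply] at this
    exact this
  · intro g a
    have := congrArg (fun f => f.hom a) (actHom_map ρ p hinv hVU g)
    simp only [CommRingCat.hom_comp, RingHom.comp_apply] at this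
    exact this.symm
  · intro g r
    exact congrArg (fun f => f.hom r) (app_actHom ρ p hinv U g)

/-- The quotient property can be checked on a cover by affine opens with affine preimages. -/
theorem isQuot_of_affine_cover [Finite G] (ρ : G →* Aut X) (p : X ⟶ Y)
    (hinv : ∀ g : G, (ρ g).hom ≫ p = p) (𝒰 : Set Y.Opens)
    (hcov : ∀ y : Y, ∃ U ∈ 𝒰, y ∈ U)
    (haff : ∀ U ∈ 𝒰, IsAffineOpen U) (haff' : ∀ U ∈ 𝒰, IsAffineOpen (p ⁻¹ᵁ U))
    (hinj : ∀ U ∈ 𝒰, Function.Injective (p.app U).hom)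
    (hrange : ∀ U ∈ 𝒰, ∀ s : Γ(X, p ⁻¹ᵁ U),
      (∀ g : G, (actHom ρ p hinv U g).hom s = s) → s ∈ Set.range (p.app U).hom) :
    IsQuot ρ p := by
  have hp : IsAffineHom p := by
    apply isAffineHom_of_forall_exists_isAffineOpen
    intro y
    obtain ⟨U, hU, hy⟩ := hcov y
    exact ⟨U, hy, haff U hU, haff' U hU⟩
  let 𝓑 : Set Y.Opens := {V | ∃ U ∈ 𝒰, ∃ b : Γ(Y, U), V = Y.basicOpen b}
  have hB : Opens.IsBasis 𝓑 := by
    rw [Opens.isBasis_iff_nbhd]
    intro O y hy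
    obtain ⟨U, hU, hyU⟩ := hcov y
    obtain ⟨f, hf1, hf2⟩ := (haff U hU).exists_basicOpen_le ⟨y, hy⟩ hyU
    exact ⟨Y.basicOpen f, ⟨U, hU, f, rfl⟩, hf2, hf1⟩
  refine isQuot_of_isBasis ρ p hp hinv 𝓑 hB ?_ ?_
  · rintro _ ⟨U, hU, b, rfl⟩
    exact (localize_basicOpen ρ p hinv (haff U hU) (haff' U hU) (hinj U hU) (hrange U hU) b).1
  · rintro _ ⟨U, hU, b, rfl⟩
    exact (localize_basicOpen ρ p hinv (haff U hU) (haff' U hU) (hinj U hU) (hrange U hU) b).2

end Cover

end Groth.Agent.Lib.Helper7.FiniteQuotient
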