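import Mathlib
import Groth.Prelude.Def_SGA1
import Groth.Agent.Lib.Helper7.FiniteQuotient
import Groth.Agent.Lib.Helper7.CHR3

/-!
# Free finite quotients of schemes are Galois (helper7)
-/

set_option autoImplicit false
set_option linter.unusedSectionVars false
set_option linter.style.haveILetI false

namespace Groth.Agent.Lib.Helper7.CHR

open CategoryTheory CategoryTheory.Limits AlgebraicGeometry SGA1
  Groth.Agent.Lib.Helper7.FiniteQuotient

universe u

variable {X Y : Scheme.{u}} {G : Type u} [Group G] {ρ : G →* Aut X} {p : X ⟶ Y}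
  (hp : IsQuot ρ p)

include hp in
lemma fromSpec_comp_action (V : Y.Opens) (hW : IsAffineOpen (p ⁻¹ᵁ V)) (g : G) :
    hW.fromSpec ≫ (ρ g).hom = Spec.map (actHom ρ p hp.inv V g) ≫ hW.fromSpec :=
  (hW.SpecMap_appLE_fromSpec (ρ g).hom hW (preimage_le_of_inv ρ p hp.inv g V)).symm

include hp in
lemma specMap_app_fromSpec (V : Y.Opens) (hV : IsAffineOpen V) (hW : IsAffineOpen (p ⁻¹ᵁ V)) :
    Spec.map (p.app V) ≫ hV.fromSpec = hW.fromSpec ≫ p := by
  have h1 := hV.SpecMap_appLE_fromSpec p hW le_rfl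
  rwa [Scheme.Hom.appLE_eq_app] at h1

variable (hfree : ∀ (K : Type u) [Field K] [IsAlgClosed K] (ξ : Spec (CommRingCat.of K) ⟶ X)
  (g : G), ξ ≫ (ρ g).hom = ξ → g = 1)

include hp hfree in
/-- freeness on geometric points gives the ring-level freeness. -/
lemma span_eq_top (V : Y.Opens) (hV : IsAffineOpen V) (g : G) (hg : g ≠ 1) :
    letI := mulSemiringAction ρ p hp.inv V
    Ideal.span (Set.range fun a : Γ(X, p ⁻¹ᵁ V) => g • a - a) = ⊤ := by
  letI := mulSemiringAction ρ p hp.inv V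
  by_contra hne
  obtain ⟨m, hm, hle⟩ := Ideal.exists_le_maximal _ hne
  have : IsAffineHom p := hp.affine
  have hW : IsAffineOpen (p ⁻¹ᵁ V) := hV.preimage p
  letI : Field (Γ(X, p ⁻¹ᵁ V) ⧸ m) := Ideal.Quotient.field m
  let K := AlgebraicClosure (Γ(X, p ⁻¹ᵁ V) ⧸ m)
  let φ : Γ(X, p ⁻¹ᵁ V) →+* K :=
    (algebraMap (Γ(X, p ⁻¹ᵁ V) ⧸ m) K).comp (Ideal.Quotient.mk m)
  have hφ : ∀ a : Γ(X, p ⁻¹ᵁ V), φ (g • a) = φ a := by
    intro a
    have h1 : g • a - a ∈ m := hle (Ideal.subset_span ⟨a, rfl⟩)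
    have h2 : Ideal.Quotient.mk m (g • a) = Ideal.Quotient.mk m a := Ideal.Quotient.eq.2 h1
    change algebraMap _ K (Ideal.Quotient.mk m (g • a)) = algebraMap _ K (Ideal.Quotient.mk m a)
    rw [h2]
  let ξ : Spec (CommRingCat.of K) ⟶ X := Spec.map (CommRingCat.ofHom φ) ≫ hW.fromSpec
  have hξ : ξ ≫ (ρ g).hom = ξ := by
    change (Spec.map (CommRingCat.ofHom φ) ≫ hW.fromSpec) ≫ (ρ g).hom =
      Spec.map (CommRingCat.ofHom φ) ≫ hW.fromSpec
    rw [Category.assoc, fromSpec_comp_action hp V hW g, ← Category.assoc, ← Spec.map_comp]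
    congr 2
    ext b
    change φ ((actHom ρ p hp.inv V g).hom b) = φ b
    have h3 := hφ (g⁻¹ • b)
    rw [smul_inv_smul] at h3
    rw [h3, smul_def, inv_inv]
  exact hg (hfree K ξ g hξ)

variable [Finite G]

include hp hfree in
/-- the dual basis over an affine open. -/
lemma exists_dual_app (V : Y.Opens) (hV : IsAffineOpen V) :
    letI := mulSemiringAction ρ p hp.inv V
    letI := Fintype.ofFinite G
    ∃ S : Finset (Γ(X, p ⁻¹ᵁ V) × Γ(X, p ⁻¹ᵁ V)),
      ∀ g : G, ∑ s ∈ S, s.1 * g • s.2 = open Classical in if g = 1 then 1 else 0 := by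
  classical
  letI := (p.app V).hom.toAlgebra
  letI := mulSemiringAction ρ p hp.inv V
  letI := Fintype.ofFinite G
  haveI := smulCommClass hp V
  obtain ⟨S, -, hS⟩ := exists_dual (B := Γ(Y, V)) (A := Γ(X, p ⁻¹ᵁ V)) (G := G)
    (fun g hg => span_eq_top hp hfree V hV g hg)
  exact ⟨S, fun g => by convert hS g⟩

include hp in
lemma hinv_app (V : Y.Opens) :
    letI := (p.app V).hom.toAlgebra
    letI := mulSemiringAction ρ p hp.inv V
    ∀ a : Γ(X, p ⁻¹ᵁ V), (∀ g : G, g • a = a) → a ∈ Set.range (algebraMap Γ(Y, V) Γ(X, p ⁻¹ᵁ V)) := by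
  letI := (p.app V).hom.toAlgebra
  letI := mulSemiringAction ρ p hp.inv V
  intro a ha
  exact (isInvariant hp V).isInvariant a ha

include hp hfree in
lemma flat_app (V : Y.Opens) (hV : IsAffineOpen V) : (p.app V).hom.Flat := by
  classical
  letI := (p.app V).hom.toAlgebra
  letI := mulSemiringAction ρ p hp.inv V
  letI := Fintype.ofFinite G
  haveI := smulCommClass hp V
  obtain ⟨S, hS⟩ := exists_dual_app hp hfree V hV
  have hS' : ∀ g : G, ∑ s ∈ S, s.1 * g • s.2 = if g = 1 then 1 else 0 := fun g => by convert hS g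
  have h := (projective_and_finite (B := Γ(Y, V)) (A := Γ(X, p ⁻¹ᵁ V)) (G := G)
    (hp.injective V) (hinv_app hp V) hS').1
  change Module.Flat Γ(Y, V) Γ(X, p ⁻¹ᵁ V)
  infer_instance

include hp hfree in
lemma formallyUnramified_app (V : Y.Opens) (hV : IsAffineOpen V) :
    (p.app V).hom.FormallyUnramified := by
  classical
  letI := (p.app V).hom.toAlgebra
  letI := mulSemiringAction ρ p hp.inv V
  letI := Fintype.ofFinite G
  haveI := smulCommClass hp V
  obtain ⟨S, hS⟩ := exists_dual_app hp hfree V hV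
  have hS' : ∀ g : G, ∑ s ∈ S, s.1 * g • s.2 = if g = 1 then 1 else 0 := fun g => by convert hS g
  exact formallyUnramified (B := Γ(Y, V)) (A := Γ(X, p ⁻¹ᵁ V)) (G := G) (hinv_app hp V) hS'

include hp in
lemma of_app {P : MorphismProperty Scheme.{u}}
    {Q : ∀ {R S : Type u} [CommRing R] [CommRing S], (R →+* S) → Prop} [HasRingHomProperty P Q]
    (hQ : RingHom.StableUnderCompositionWithLocalizationAwaySource Q)
    (h : ∀ (V : Y.Opens), IsAffineOpen V → Q (p.app V).hom) : P p := by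
  rw [HasRingHomProperty.iff_exists_appLE (P := P) hQ]
  intro x
  obtain ⟨_, ⟨V, hV, rfl⟩, hyV, -⟩ :=
    Y.isBasis_affineOpens.exists_subset_of_mem_open (Set.mem_univ (p.base x)) isOpen_univ
  have : IsAffineHom p := hp.affine
  have hW : IsAffineOpen (p ⁻¹ᵁ V) := hV.preimage p
  refine ⟨⟨V, hV⟩, ⟨p ⁻¹ᵁ V, hW⟩, hyV, le_rfl, ?_⟩
  have := h V hV
  rwa [← Scheme.Hom.appLE_eq_app] at this

include hp hfree in
theorem flat_of_free : Flat p :=
  of_app hp (RingHom.Flat.stableUnderComposition.stableUnderCompositionWithLocalizationAway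
    RingHom.Flat.holdsForLocalizationAway).left (fun V hV => flat_app hp hfree V hV)

include hp hfree in
theorem formallyUnramified_of_free : FormallyUnramified p :=
  of_app hp (RingHom.FormallyUnramified.stableUnderComposition.stableUnderCompositionWithLocalizationAway
    RingHom.FormallyUnramified.holdsForLocalizationAway).left
    (fun V hV => formallyUnramified_app hp hfree V hV)

end Groth.Agent.Lib.Helper7.CHR
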