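import Mathlib
import Groth.Prelude.Def_SGA1
import Groth.Agent.Lib.Helper7.CHR4

/-!
# Free finite quotients of schemes are Galois, II: the graph decomposition (helper7)
-/

set_option autoImplicit false
set_option linter.unusedSectionVars false
set_option linter.style.haveILetI false

namespace Groth.Agent.Lib.Helper7.CHR

open CategoryTheory CategoryTheory.Limits AlgebraicGeometry SGA1
  Groth.Agent.Lib.Helper7.FiniteQuotient

universe u

variable {X Y : Scheme.{u}} {G : Type u} [Group G] {ρ : G →* Aut X} {p : X ⟶ Y}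
  (hp : IsQuot ρ p)

/-- the graph of `g`. -/
noncomputable def graph (g : G) : X ⟶ pullback p p :=
  pullback.lift (𝟙 X) (ρ g).hom ((Category.id_comp p).trans (hp.inv g).symm)

@[reassoc (attr := simp)] lemma graph_fst (g : G) : graph hp g ≫ pullback.fst p p = 𝟙 X :=
  pullback.lift_fst _ _ _

@[reassoc (attr := simp)] lemma graph_snd (g : G) : graph hp g ≫ pullback.snd p p = (ρ g).hom :=
  pullback.lift_snd _ _ _

lemma graph_eq (g : G) :
    graph hp g = pullback.diagonal p ≫ pullback.map p p p p (𝟙 X) (ρ g).hom (𝟙 Y)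
      (by simp) (by rw [hp.inv g]; simp) := by
  apply pullback.hom_ext
  · rw [graph_fst, Category.assoc, pullback.lift_fst, ← Category.assoc, pullback.diagonal_fst,
      Category.id_comp]
  · rw [graph_snd, Category.assoc, pullback.lift_snd, ← Category.assoc, pullback.diagonal_snd,
      Category.id_comp]

instance isOpenImmersion_graph [FormallyUnramified p] [LocallyOfFiniteType p] (g : G) :
    IsOpenImmersion (graph hp g) := by
  rw [graph_eq]
  haveI : IsOpenImmersion (pullback.diagonal p) := FormallyUnramified.isOpenImmersion_diagonal p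
  haveI : IsIso (ρ g).hom := Iso.isIso_hom (ρ g)
  haveI : IsIso (pullback.map p p p p (𝟙 X) (ρ g).hom (𝟙 Y)
      (by simp) (by rw [hp.inv g]; simp)) := pullback.map_isIso _ _ _ _ _ _ _ _ _
  exact IsOpenImmersion.comp _ _

lemma aut_mul_hom (g h : G) : (ρ (g * h)).hom = (ρ h).hom ≫ (ρ g).hom := by
  rw [map_mul]; rfl

lemma aut_hom_inv (g : G) : (ρ g).hom ≫ (ρ g⁻¹).hom = 𝟙 X := by
  rw [← aut_mul_hom, inv_mul_cancel, map_one]; rfl

variable (hfree : ∀ (K : Type u) [Field K] [IsAlgClosed K] (ξ : Spec (CommRingCat.of K) ⟶ X)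
  (g : G), ξ ≫ (ρ g).hom = ξ → g = 1)

include hfree in
theorem eq_of_graph_eq [FormallyUnramified p] [LocallyOfFiniteType p] (g h : G) (x x' : X)
    (e : (graph hp g).base x = (graph hp h).base x') : g = h := by
  have hx : x = x' := by
    have h1 := congrArg (pullback.fst p p).base e
    rw [← Scheme.Hom.comp_apply, ← Scheme.Hom.comp_apply, graph_fst, graph_fst] at h1
    exact h1
  subst hx
  let U : X.Opens := (graph hp g) ⁻¹ᵁ (graph hp h).opensRange
  have hxU : x ∈ U := ⟨x, e.symm⟩
  have hrange : Set.range (U.ι ≫ graph hp g).base ⊆ Set.range (graph hp h).base := by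
    rintro _ ⟨u, rfl⟩
    rw [Scheme.Hom.comp_apply]
    exact u.2
  let θ : U.toScheme ⟶ X := IsOpenImmersion.lift (graph hp h) (U.ι ≫ graph hp g) hrange
  have hθ : θ ≫ graph hp h = U.ι ≫ graph hp g := IsOpenImmersion.lift_fac _ _ _
  have hθ' : θ = U.ι := by
    have := congrArg (· ≫ pullback.fst p p) hθ
    simpa using this
  have hgh : U.ι ≫ (ρ h).hom = U.ι ≫ (ρ g).hom := by
    have := congrArg (· ≫ pullback.snd p p) hθ
    simpa [hθ'] using this
  -- a geometric point at `x`
  let K := AlgebraicClosure (X.residueField x)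
  let ξ : Spec (CommRingCat.of K) ⟶ X :=
    Spec.map (CommRingCat.ofHom (algebraMap (X.residueField x) K)) ≫ X.fromSpecResidueField x
  have hξr : Set.range ξ.base ⊆ Set.range U.ι.base := by
    rintro _ ⟨s, rfl⟩
    change (Spec.map _ ≫ X.fromSpecResidueField x).base s ∈ _
    rw [Scheme.Hom.comp_apply, Scheme.fromSpecResidueField_apply]
    rw [Scheme.Opens.range_ι]
    exact hxU
  let ξU : Spec (CommRingCat.of K) ⟶ U.toScheme := IsOpenImmersion.lift U.ι ξ hξr
  have hξU : ξU ≫ U.ι = ξ := IsOpenImmersion.lift_fac _ _ _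
  have h1 : ξ ≫ (ρ h).hom = ξ ≫ (ρ g).hom := by
    rw [← hξU, Category.assoc, Category.assoc, hgh]
  have h2 : ξ ≫ (ρ (g⁻¹ * h)).hom = ξ := by
    rw [aut_mul_hom, ← Category.assoc, h1, Category.assoc, aut_hom_inv, Category.comp_id]
  have h3 := hfree K ξ (g⁻¹ * h) h2
  exact (inv_mul_eq_one.1 h3)

variable [Finite G]

include hfree in
theorem exists_graph_eq (z : ↥(pullback p p)) : ∃ (g : G) (x : X), (graph hp g).base x = z := by
  classical
  letI := Fintype.ofFinite G
  have : IsAffineHom p := hp.affine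
  let T := pullback p p
  let ζ : Spec (T.residueField z) ⟶ T := T.fromSpecResidueField z
  let α : Spec (T.residueField z) ⟶ X := ζ ≫ pullback.fst p p
  let β : Spec (T.residueField z) ⟶ X := ζ ≫ pullback.snd p p
  have hαβ : α ≫ p = β ≫ p := by
    simp only [α, β, Category.assoc, pullback.condition]
  have hα : ∀ s, α.base s = (pullback.fst p p).base z := by
    intro s
    change (ζ ≫ pullback.fst p p).base s = _
    rw [Scheme.Hom.comp_apply, Scheme.fromSpecResidueField_apply]
  have hβ : ∀ s, β.base s = (pullback.snd p p).base z := by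
    intro s
    change (ζ ≫ pullback.snd p p).base s = _
    rw [Scheme.Hom.comp_apply, Scheme.fromSpecResidueField_apply]
  obtain ⟨_, ⟨V, hV, rfl⟩, hyV, -⟩ :=
    Y.isBasis_affineOpens.exists_subset_of_mem_open
      (Set.mem_univ (p.base ((pullback.fst p p).base z))) isOpen_univ
  have hW : IsAffineOpen (p ⁻¹ᵁ V) := hV.preimage p
  have hyV' : p.base ((pullback.snd p p).base z) ∈ V := by
    have := congrArg (fun f => f.base z) (pullback.condition (f := p) (g := p))
    simp only [Scheme.Hom.comp_apply] at this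
    rw [← this]; exact hyV
  have hαr : Set.range α.base ⊆ Set.range hW.fromSpec.base := by
    rintro _ ⟨s, rfl⟩
    rw [hW.range_fromSpec, hα]
    exact hyV
  have hβr : Set.range β.base ⊆ Set.range hW.fromSpec.base := by
    rintro _ ⟨s, rfl⟩
    rw [hW.range_fromSpec, hβ]
    exact hyV'
  let α' := IsOpenImmersion.lift hW.fromSpec α hαr
  let β' := IsOpenImmersion.lift hW.fromSpec β hβr
  have hα' : α' ≫ hW.fromSpec = α := IsOpenImmersion.lift_fac _ _ _
  have hβ' : β' ≫ hW.fromSpec = β := IsOpenImmersion.lift_fac _ _ _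
  let a : Γ(X, p ⁻¹ᵁ V) ⟶ T.residueField z := Spec.preimage α'
  let b : Γ(X, p ⁻¹ᵁ V) ⟶ T.residueField z := Spec.preimage β'
  have ha : Spec.map a = α' := Spec.map_preimage _
  have hb : Spec.map b = β' := Spec.map_preimage _
  have h1 := specMap_app_fromSpec hp V hV hW
  haveI : IsOpenImmersion hV.fromSpec := hV.isOpenImmersion_fromSpec
  have hab : p.app V ≫ a = p.app V ≫ b := by
    apply Spec.map_injective
    rw [Spec.map_comp, Spec.map_comp, ha, hb, ← cancel_mono hV.fromSpec, Category.assoc,
      Category.assoc, h1, ← Category.assoc, ← Category.assoc, hα', hβ', hαβ]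
  letI := (p.app V).hom.toAlgebra
  letI := mulSemiringAction ρ p hp.inv V
  haveI := smulCommClass hp V
  obtain ⟨S, hS⟩ := exists_dual_app hp hfree V hV
  have hS' : ∀ g : G, ∑ s ∈ S, s.1 * g • s.2 = if g = 1 then 1 else 0 := fun g => by convert hS g
  obtain ⟨g, hg⟩ := exists_smul_of_comp_eq (B := Γ(Y, V)) (A := Γ(X, p ⁻¹ᵁ V)) (G := G)
    (hinv_app hp V) hS' a.hom b.hom
    (fun x => congrArg (fun f => f.hom x) hab)
  have hb' : b = actHom ρ p hp.inv V g⁻¹ ≫ a := by
    ext a'
    exact hg a'
  have hβα : β = α ≫ (ρ g⁻¹).hom := by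
    rw [← hβ', ← hb, hb', Spec.map_comp, Category.assoc, ← fromSpec_comp_action hp V hW g⁻¹,
      ← Category.assoc, ha, hα']
  have hζ : ζ = α ≫ graph hp g⁻¹ := by
    apply pullback.hom_ext
    · rw [Category.assoc, graph_fst, Category.comp_id]
    · rw [Category.assoc, graph_snd, ← hβα]
  have : Nonempty (Spec (T.residueField z)) :=
    inferInstanceAs (Nonempty (PrimeSpectrum (T.residueField z)))
  obtain ⟨s⟩ := this
  refine ⟨g⁻¹, α.base s, ?_⟩
  rw [← Scheme.Hom.comp_apply, ← hζ]
  exact Scheme.fromSpecResidueField_apply _ _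

include hfree in
/-- **Galois property of free finite quotients.** -/
theorem isIso_sigmaDesc_graph [FormallyUnramified p] [LocallyOfFiniteType p] :
    IsIso (Sigma.desc (fun g : G => graph hp g)) := by
  have hcov : ⨆ g : G, (graph hp g).opensRange = ⊤ := by
    rw [eq_top_iff]
    rintro z -
    obtain ⟨g, x, hx⟩ := exists_graph_eq hp hfree z
    exact TopologicalSpace.Opens.mem_iSup.2 ⟨g, x, hx⟩
  have hdisj : Pairwise (Function.onFun Disjoint fun g : G => (graph hp g).opensRange) := by
    intro g h hgh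
    rw [Function.onFun, disjoint_iff]
    ext z
    simp only [TopologicalSpace.Opens.coe_inf, Set.mem_inter_iff, TopologicalSpace.Opens.coe_bot,
      Set.mem_empty_iff_false, iff_false, not_and]
    rintro ⟨x, hx⟩ ⟨x', hx'⟩
    exact hgh (eq_of_graph_eq hp hfree g h x x' (hx.trans hx'.symm))
  have := nonempty_isColimit_cofanMk_of (fun g : G => graph hp g) hcov hdisj
  rw [Cofan.nonempty_isColimit_iff_isIso_sigmaDesc] at this
  exact this

end Groth.Agent.Lib.Helper7.CHR
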