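import Mathlib
import Groth.Prelude.Def_SGA1
import Groth.Agent.Lib.Helper7.CHR5

/-!
# Free finite quotients with a section are trivial (helper7)
-/

set_option autoImplicit false
set_option linter.unusedSectionVars false
set_option linter.style.haveILetI false

namespace Groth.Agent.Lib.Helper7.CHR

open CategoryTheory CategoryTheory.Limits AlgebraicGeometry SGA1
  Groth.Agent.Lib.Helper7.FiniteQuotient

universe u

variable {X Y : Scheme.{u}} {G : Type u} [Group G] {ρ : G →* Aut X} {p : X ⟶ Y}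
  (hp : IsQuot ρ p)

/-- a section of a morphism with open diagonal is an open immersion. -/
lemma isOpenImmersion_of_section [IsOpenImmersion (pullback.diagonal p)] (s : Y ⟶ X)
    (hs : s ≫ p = 𝟙 Y) : IsOpenImmersion s := by
  have h1 : (@IsOpenImmersion).HasOfPostcompProperty (@IsOpenImmersion).diagonal :=
    (MorphismProperty.hasOfPostcompProperty_iff_le_diagonal).2 le_rfl
  refine MorphismProperty.of_postcomp (W := @IsOpenImmersion)
    (W' := (@IsOpenImmersion).diagonal) s p ?_ ?_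
  · exact (inferInstance : IsOpenImmersion (pullback.diagonal p))
  · rw [hs]; infer_instance

variable (hfree : ∀ (K : Type u) [Field K] [IsAlgClosed K] (ξ : Spec (CommRingCat.of K) ⟶ X)
  (g : G), ξ ≫ (ρ g).hom = ξ → g = 1)

include hp hfree in
theorem eq_of_section_eq (s : Y ⟶ X) (hs : s ≫ p = 𝟙 Y) [IsOpenImmersion s] (g h : G) (y y' : Y)
    (e : (s ≫ (ρ g).hom).base y = (s ≫ (ρ h).hom).base y') : g = h := by
  haveI : IsIso (ρ g).hom := Iso.isIso_hom (ρ g)
  haveI : IsIso (ρ h).hom := Iso.isIso_hom (ρ h)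
  have hpg : (s ≫ (ρ g).hom) ≫ p = 𝟙 Y := by rw [Category.assoc, hp.inv, hs]
  have hph : (s ≫ (ρ h).hom) ≫ p = 𝟙 Y := by rw [Category.assoc, hp.inv, hs]
  have hy : y = y' := by
    have h1 := congrArg p.base e
    rw [← Scheme.Hom.comp_apply, ← Scheme.Hom.comp_apply, hpg, hph] at h1
    exact h1
  subst hy
  let U : Y.Opens := (s ≫ (ρ g).hom) ⁻¹ᵁ (s ≫ (ρ h).hom).opensRange
  have hyU : y ∈ U := ⟨y, e.symm⟩
  have hrange : Set.range (U.ι ≫ s ≫ (ρ g).hom).base ⊆ Set.range (s ≫ (ρ h).hom).base := by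
    rintro _ ⟨u, rfl⟩
    rw [Scheme.Hom.comp_apply]
    exact u.2
  let θ : U.toScheme ⟶ Y := IsOpenImmersion.lift (s ≫ (ρ h).hom) (U.ι ≫ s ≫ (ρ g).hom) hrange
  have hθ : θ ≫ s ≫ (ρ h).hom = U.ι ≫ s ≫ (ρ g).hom := IsOpenImmersion.lift_fac _ _ _
  have hθ' : θ = U.ι := by
    have := congrArg (· ≫ p) hθ
    simp only [Category.assoc] at this
    rw [hp.inv, hp.inv, hs, Category.comp_id, Category.comp_id] at this
    exact this
  rw [hθ'] at hθ
  -- a geometric point at `y`
  let K := AlgebraicClosure (Y.residueField y)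
  let η : Spec (CommRingCat.of K) ⟶ Y :=
    Spec.map (CommRingCat.ofHom (algebraMap (Y.residueField y) K)) ≫ Y.fromSpecResidueField y
  have hηr : Set.range η.base ⊆ Set.range U.ι.base := by
    rintro _ ⟨t, rfl⟩
    change (Spec.map _ ≫ Y.fromSpecResidueField y).base t ∈ _
    rw [Scheme.Hom.comp_apply, Scheme.fromSpecResidueField_apply]
    rw [Scheme.Opens.range_ι]
    exact hyU
  let ηU : Spec (CommRingCat.of K) ⟶ U.toScheme := IsOpenImmersion.lift U.ι η hηr
  have hηU : ηU ≫ U.ι = η := IsOpenImmersion.lift_fac _ _ _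
  let ξ : Spec (CommRingCat.of K) ⟶ X := η ≫ s
  have h1 : ξ ≫ (ρ h).hom = ξ ≫ (ρ g).hom := by
    change (η ≫ s) ≫ (ρ h).hom = (η ≫ s) ≫ (ρ g).hom
    rw [← hηU, Category.assoc, Category.assoc, Category.assoc, Category.assoc, hθ]
  have h2 : ξ ≫ (ρ (g⁻¹ * h)).hom = ξ := by
    rw [aut_mul_hom, ← Category.assoc, h1, Category.assoc, aut_hom_inv, Category.comp_id]
  have h3 := hfree K ξ (g⁻¹ * h) h2
  exact (inv_mul_eq_one.1 h3)

variable [Finite G]

include hp hfree in
theorem isIso_sigmaDesc_section [FormallyUnramified p] [LocallyOfFiniteType p]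
    (s : Y ⟶ X) (hs : s ≫ p = 𝟙 Y) :
    IsIso (Sigma.desc (fun g : G => s ≫ (ρ g).hom)) := by
  haveI : IsOpenImmersion (pullback.diagonal p) := FormallyUnramified.isOpenImmersion_diagonal p
  haveI : IsOpenImmersion s := isOpenImmersion_of_section s hs
  haveI : ∀ g : G, IsOpenImmersion (s ≫ (ρ g).hom) := fun g => by
    haveI : IsIso (ρ g).hom := Iso.isIso_hom (ρ g)
    exact IsOpenImmersion.comp _ _
  have hcov : ⨆ g : G, (s ≫ (ρ g).hom).opensRange = ⊤ := by
    rw [eq_top_iff]
    rintro x -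
    have h1 : p.base (s.base (p.base x)) = p.base x := by
      rw [← Scheme.Hom.comp_apply, hs]; rfl
    obtain ⟨g, hg⟩ := exists_smul_eq_of_app_eq hp h1
    refine TopologicalSpace.Opens.mem_iSup.2 ⟨g, p.base x, ?_⟩
    rw [Scheme.Hom.comp_apply]
    exact hg
  have hdisj : Pairwise (Function.onFun Disjoint fun g : G => (s ≫ (ρ g).hom).opensRange) := by
    intro g h hgh
    rw [Function.onFun, disjoint_iff]
    ext z
    simp only [TopologicalSpace.Opens.coe_inf, Set.mem_inter_iff, TopologicalSpace.Opens.coe_bot,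
      Set.mem_empty_iff_false, iff_false, not_and]
    rintro ⟨y, hy⟩ ⟨y', hy'⟩
    exact hgh (eq_of_section_eq hp hfree s hs g h y y' (hy.trans hy'.symm))
  have := nonempty_isColimit_cofanMk_of (fun g : G => s ≫ (ρ g).hom) hcov hdisj
  rw [Cofan.nonempty_isColimit_iff_isIso_sigmaDesc] at this
  exact this

end Groth.Agent.Lib.Helper7.CHR
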