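import Groth.Agent.Lib.Helper7.UnipRoot

/-!
# The coradical filtration of a unipotent Hopf algebra (helper7)
-/

universe u v w

open TensorProduct

namespace Groth.Agent.Lib.Helper7.UnipFilt

open HopfRep Groth.Agent.Lib.Helper7.Comod Groth.Agent.Lib.Helper7.UnipRoot

section Lin

variable {k : Type u} [Field k] {V : Type v} [AddCommGroup V] [Module k V]
  {W : Type w} [AddCommGroup W] [Module k W]

lemma contrL_map {V' : Type*} [AddCommGroup V'] [Module k V'] {W' : Type*} [AddCommGroup W']
    [Module k W'] (f : V →ₗ[k] V') (g : W →ₗ[k] W') (φ : V' →ₗ[k] k) (y : V ⊗[k] W) :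
    contrL W' φ (TensorProduct.map f g y) = g (contrL W (φ ∘ₗ f) y) := by
  induction y using TensorProduct.induction_on with
  | zero => simp
  | tmul v w => simp
  | add a b ha hb => simp only [map_add, ha, hb]

/-- a criterion for membership in `X ⊗ W + V ⊗ Y`. -/
lemma mem_sup_of_forall_contrL (X : Submodule k V) (Y : Submodule k W) (y : V ⊗[k] W)
    (h : ∀ τ : V →ₗ[k] k, X ≤ LinearMap.ker τ → contrL W τ y ∈ Y) :
    y ∈ LinearMap.range (X.subtype.rTensor W) ⊔ LinearMap.range (Y.subtype.lTensor V) := by
  have h0 : TensorProduct.map X.mkQ Y.mkQ y = 0 := by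
    apply eq_zero_of_forall_contrL_eq_zero
    intro φ
    rw [contrL_map]
    have h1 := h (φ ∘ₗ X.mkQ) (by
      intro x hx
      rw [LinearMap.mem_ker, LinearMap.comp_apply, Submodule.mkQ_apply,
        (Submodule.Quotient.mk_eq_zero X).2 hx, map_zero])
    rw [Submodule.mkQ_apply, Submodule.Quotient.mk_eq_zero]
    exact h1
  have hk := TensorProduct.map_ker (LinearMap.exact_subtype_mkQ X) (Submodule.mkQ_surjective X)
    (LinearMap.exact_subtype_mkQ Y) (Submodule.mkQ_surjective Y)
  have h2 : y ∈ LinearMap.ker (TensorProduct.map X.mkQ Y.mkQ) := h0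
  rw [hk, sup_comm] at h2
  exact h2

lemma contrL_mem_of_mem_sup (X : Submodule k V) (Y : Submodule k W) (y : V ⊗[k] W)
    (hy : y ∈ LinearMap.range (X.subtype.rTensor W) ⊔ LinearMap.range (Y.subtype.lTensor V))
    (τ : V →ₗ[k] k) (hτ : X ≤ LinearMap.ker τ) : contrL W τ y ∈ Y := by
  obtain ⟨y₁, ⟨z₁, rfl⟩, y₂, ⟨z₂, rfl⟩, rfl⟩ := Submodule.mem_sup.1 hy
  rw [map_add, contrL_rTensor, contrL_lTensor]
  have h0 : τ ∘ₗ X.subtype = 0 := by
    apply LinearMap.ext
    intro x
    exact hτ x.2
  rw [h0]
  have h1 : contrL W (0 : ↥X →ₗ[k] k) z₁ = 0 := by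
    clear hy
    induction z₁ using TensorProduct.induction_on with
    | zero => simp
    | tmul v w => simp
    | add a b ha hb => simp only [map_add, ha, hb, add_zero]
  rw [h1, zero_add]
  exact (contrL ↥Y τ z₂).2

/-- `(X ⊗ W) ∩ (V ⊗ Y) = X ⊗ Y`. -/
lemma mem_range_map_of_mem_of_mem (X : Submodule k V) (Y : Submodule k W) (z : V ⊗[k] W)
    (h1 : z ∈ LinearMap.range (X.subtype.rTensor W))
    (h2 : z ∈ LinearMap.range (Y.subtype.lTensor V)) :
    z ∈ LinearMap.range (TensorProduct.map X.subtype Y.subtype) := by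
  obtain ⟨y, rfl⟩ := h2
  have hy : y ∈ LinearMap.range (X.subtype.rTensor ↥Y) := by
    rw [mem_range_rTensor_iff_contr]
    intro f
    obtain ⟨f', hf'⟩ := exists_comp_eq_of_injective Y.subtype Y.injective_subtype f
    have h3 := (mem_range_rTensor_iff_contr X _).1 h1 f'
    have h4 : contr V f' (Y.subtype.lTensor V y) = contr V f y := by
      rw [← hf']
      clear h1 h3
      induction y using TensorProduct.induction_on with
      | zero => simp
      | tmul v w => simp
      | add a b ha hb => simp only [map_add, ha, hb]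
    rw [h4] at h3
    exact h3
  obtain ⟨w, rfl⟩ := hy
  exact ⟨w, map_eq_lTensor_rTensor _ _ w⟩

end Lin


section Hopf

variable {k : Type u} [Field k] {A : Type v} [CommRing A] [Bialgebra k A]

/-- `Δ(F_{p+q}) ⊆ F_p ⊗ A + A ⊗ F_q`. -/
theorem comul_mem_sup (p q : ℕ) : ∀ a ∈ fixFilt k A A (p + q),
    Coalgebra.comul (R := k) a ∈ LinearMap.range ((fixFilt k A A p).subtype.rTensor A) ⊔
      LinearMap.range ((fixFilt k A A q).subtype.lTensor A) := by
  induction q with
  | zero =>
    intro a ha
    exact le_sup_left (a := LinearMap.range ((fixFilt k A A p).subtype.rTensor A))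
      (isSubcomod_fixFilt (k := k) (A := A) (V := A) p a ha)
  | succ q ih =>
    intro a ha
    rw [← add_assoc, fixFilt_succ, mem_nextFix] at ha
    obtain ⟨y, hy⟩ := ha
    change (fixFilt k A A (p + q)).subtype.rTensor A y =
      Coalgebra.comul (R := k) a - a ⊗ₜ[k] (1 : A) at hy
    have h1 : Coalgebra.comul (R := k) a = a ⊗ₜ[k] (1 : A) +
        (fixFilt k A A (p + q)).subtype.rTensor A y := by rw [hy]; abel
    rw [h1]
    refine Submodule.add_mem _ ?_ ?_
    · refine le_sup_right (a := LinearMap.range ((fixFilt k A A p).subtype.rTensor A)) ?_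
      have h1' : (1 : A) ∈ fixFilt k A A (q + 1) :=
        fixFilt_mono (Nat.succ_le_succ (Nat.zero_le q))
          Groth.Agent.Lib.Helper7.UnipPart.one_mem_fixFilt_one
      exact ⟨a ⊗ₜ[k] (⟨1, h1'⟩ : fixFilt k A A (q + 1)), by simp⟩
    · apply mem_sup_of_forall_contrL
      intro τ hτ
      set L : A →ₗ[k] A := (contrL A τ) ∘ₗ Coalgebra.comul (R := k) with hL
      -- `L` maps `F_{p+q}` into `F_q`
      have hLmem : ∀ b ∈ fixFilt k A A (p + q), L b ∈ fixFilt k A A q := by
        intro b hb
        exact contrL_mem_of_mem_sup _ _ _ (ih b hb) τ hτ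
      set c := contrL A τ ((fixFilt k A A (p + q)).subtype.rTensor A y) with hc
      have hc' : c = L a - τ a • (1 : A) := by
        rw [hc, hy, map_sub, contrL_tmul]
        rfl
      rw [fixFilt_succ, mem_nextFix]
      change Coalgebra.comul (R := k) c - c ⊗ₜ[k] (1 : A) ∈ _
      have h2 : Coalgebra.comul (R := k) (L a) =
          L a ⊗ₜ[k] (1 : A) + L.rTensor A ((fixFilt k A A (p + q)).subtype.rTensor A y) := by
        change Coalgebra.comul (R := k) (contrL A τ (Coalgebra.comul (R := k) a)) = _
        rw [comul_contrL_comul]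
        conv_lhs => rw [h1]
        rw [map_add, LinearMap.rTensor_tmul]
      have h3 : Coalgebra.comul (R := k) c - c ⊗ₜ[k] (1 : A) =
          L.rTensor A ((fixFilt k A A (p + q)).subtype.rTensor A y) := by
        rw [hc', map_sub, map_smul, h2, Bialgebra.comul_one, Algebra.TensorProduct.one_def,
          TensorProduct.sub_tmul, TensorProduct.smul_tmul']
        abel
      rw [h3]
      let L' : ↥(fixFilt k A A (p + q)) →ₗ[k] ↥(fixFilt k A A q) :=
        L.restrict (p := fixFilt k A A (p + q)) (q := fixFilt k A A q) hLmem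
      refine ⟨L'.rTensor A y, ?_⟩
      clear hy h1 hc hc' h2 h3
      induction y using TensorProduct.induction_on with
      | zero => simp
      | tmul b d => simp [L']
      | add y z hy hz => simp only [map_add, hy, hz]

/-- **the coproduct respects the filtration**: `Δ(F_{r+1}) ⊆ Σ_{i ≤ r} F_{i+1} ⊗ F_{r-i+1}`. -/
theorem comul_mem_iSup (r : ℕ) : ∀ a ∈ fixFilt k A A (r + 1),
    Coalgebra.comul (R := k) a ∈ ⨆ i ∈ Finset.range (r + 1),
      LinearMap.range (TensorProduct.mapIncl (fixFilt k A A (i + 1)) (fixFilt k A A (r - i + 1))) := by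
  intro a ha
  set w := Coalgebra.comul (R := k) a with hw
  have key : ∀ m, m ≤ r + 1 → w ∈ (⨆ i ∈ Finset.range m,
      LinearMap.range (TensorProduct.mapIncl (fixFilt k A A (i + 1)) (fixFilt k A A (r - i + 1)))) ⊔
      LinearMap.range ((fixFilt k A A (r + 1 - m)).subtype.lTensor A) := by
    intro m
    induction m with
    | zero =>
      intro _
      have h0 := comul_mem_sup 0 (r + 1) a (by rw [zero_add]; exact ha)
      obtain ⟨y₁, ⟨z₁, rfl⟩, y₂, hy₂, h12⟩ := Submodule.mem_sup.1 h0
      have hz₁ : z₁ = 0 := by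
        have : Subsingleton (↥(fixFilt k A A 0) ⊗[k] A) := by
          have : Subsingleton ↥(fixFilt k A A 0) := by
            rw [fixFilt_zero]; infer_instance
          infer_instance
        exact Subsingleton.elim _ _
      rw [hz₁, map_zero, zero_add] at h12
      rw [hw, ← h12]
      exact le_sup_right (a := ⨆ i ∈ Finset.range 0, LinearMap.range
        (TensorProduct.mapIncl (fixFilt k A A (i + 1)) (fixFilt k A A (r - i + 1)))) hy₂
    | succ m ih =>
      intro hm
      have hm' : m ≤ r := Nat.lt_succ_iff.1 hm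
      obtain ⟨s, hs, b, hb, hsb⟩ := Submodule.mem_sup.1 (ih (Nat.le_of_succ_le hm))
      have hcl := comul_mem_sup (m + 1) (r - m) a (by
        have : m + 1 + (r - m) = r + 1 := by omega
        rw [this]; exact ha)
      obtain ⟨c, hc, d, hd, hcd⟩ := Submodule.mem_sup.1 hcl
      -- `s ∈ F_{m+1} ⊗ A`
      have hs' : s ∈ LinearMap.range ((fixFilt k A A (m + 1)).subtype.rTensor A) := by
        have hle : (⨆ i ∈ Finset.range m, LinearMap.range (TensorProduct.mapIncl
            (fixFilt k A A (i + 1)) (fixFilt k A A (r - i + 1)))) ≤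
            LinearMap.range ((fixFilt k A A (m + 1)).subtype.rTensor A) := by
          apply iSup₂_le
          intro i hi
          rw [Finset.mem_range] at hi
          rintro _ ⟨z, rfl⟩
          rw [mem_range_rTensor_iff_contr]
          intro f
          change contr A f (TensorProduct.map (fixFilt k A A (i + 1)).subtype
            (fixFilt k A A (r - i + 1)).subtype z) ∈ _
          rw [map_eq_rTensor_lTensor, contr_rTensor]
          have hle2 : i + 1 ≤ m + 1 := by omega
          exact fixFilt_mono hle2 (contr ↥(fixFilt k A A (i + 1)) f _).2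
        exact hle hs
      have hr1 : r + 1 - m = r - m + 1 := by omega
      have hr2 : r + 1 - (m + 1) = r - m := by omega
      -- `b - d ∈ (A ⊗ F_{r-m+1}) ∩ (F_{m+1} ⊗ A)`
      have hd' : d ∈ LinearMap.range ((fixFilt k A A (r - m + 1)).subtype.lTensor A) := by
        obtain ⟨d', rfl⟩ := hd
        rw [mem_range_lTensor_subtype_iff]
        intro φ
        rw [contrL_lTensor]
        exact fixFilt_mono (Nat.le_succ _) (contrL _ φ d').2
      rw [hr1] at hb
      have hbd1 : b - d ∈ LinearMap.range ((fixFilt k A A (r - m + 1)).subtype.lTensor A) :=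
        Submodule.sub_mem _ hb hd'
      have hbd2 : b - d ∈ LinearMap.range ((fixFilt k A A (m + 1)).subtype.rTensor A) := by
        have : b - d = c - s := by
          have h1 : s + b = c + d := hsb.trans hcd.symm
          have : b = c + d - s := by rw [← h1]; abel
          rw [this]; abel
        rw [this]
        exact Submodule.sub_mem _ hc hs'
      have hbd := mem_range_map_of_mem_of_mem _ _ _ hbd2 hbd1
      have hwe : w = s + (b - d) + d := by rw [← hsb]; abel
      rw [hwe, hr2]
      refine Submodule.add_mem _ (le_sup_left (b := LinearMap.range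
        ((fixFilt k A A (r - m)).subtype.lTensor A)) ?_) (le_sup_right (a := ⨆ i ∈ Finset.range (m + 1),
          LinearMap.range (TensorProduct.mapIncl (fixFilt k A A (i + 1))
            (fixFilt k A A (r - i + 1)))) hd)
      refine Submodule.add_mem _ ?_ ?_
      · refine (iSup₂_le fun i hi => ?_ : (⨆ i ∈ Finset.range m, LinearMap.range
          (TensorProduct.mapIncl (fixFilt k A A (i + 1)) (fixFilt k A A (r - i + 1)))) ≤ _) hs
        exact le_iSup₂ (f := fun i (_ : i ∈ Finset.range (m + 1)) => LinearMap.range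
          (TensorProduct.mapIncl (fixFilt k A A (i + 1)) (fixFilt k A A (r - i + 1)))) i
          (Finset.mem_range.2 (Nat.lt_succ_of_lt (Finset.mem_range.1 hi)))
      · exact le_iSup₂ (f := fun i (_ : i ∈ Finset.range (m + 1)) => LinearMap.range
          (TensorProduct.mapIncl (fixFilt k A A (i + 1)) (fixFilt k A A (r - i + 1)))) m
          (Finset.mem_range.2 (Nat.lt_succ_self m)) hbd
  have hfin := key (r + 1) le_rfl
  obtain ⟨s, hs, b, hb, hsb⟩ := Submodule.mem_sup.1 hfin
  rw [Nat.sub_self] at hb
  obtain ⟨b', rfl⟩ := hb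
  have hb0 : b' = 0 := by
    have : Subsingleton (A ⊗[k] ↥(fixFilt k A A 0)) := by
      have : Subsingleton ↥(fixFilt k A A 0) := by
        rw [fixFilt_zero]; infer_instance
      infer_instance
    exact Subsingleton.elim _ _
  rw [hb0, map_zero, add_zero] at hsb
  rw [← hsb]
  exact hs

end Hopf


section Main

variable {k : Type u} [Field k] {A : Type v} [CommRing A] [Bialgebra k A]

lemma fixFilt_one_eq : fixFilt k A A 1 = Submodule.span k {(1 : A)} := by
  apply le_antisymm
  · intro a ha
    rw [counit_smul_one_of_mem_fixFilt_one ha]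
    exact Submodule.smul_mem _ _ (Submodule.subset_span rfl)
  · rw [Submodule.span_le]
    rintro _ rfl
    exact Groth.Agent.Lib.Helper7.UnipPart.one_mem_fixFilt_one

/-- a coconnected filtration lies in the fixed point filtration. -/
theorem le_fixFilt_of_filtration (C : ℕ → Submodule k A)
    (h0 : C 0 = Submodule.span k {(1 : A)})
    (hΔ : ∀ r, Submodule.map (CoalgebraStruct.comul (R := k) (A := A)) (C r) ≤
      ⨆ i ∈ Finset.range (r + 1), LinearMap.range (TensorProduct.mapIncl (C i) (C (r - i)))) :
    ∀ r, C r ≤ fixFilt k A A (r + 1) := by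
  intro r
  induction r using Nat.strong_induction_on with
  | _ r ih =>
    intro a ha
    have h1 : Coalgebra.comul (R := k) a ∈ ⨆ i ∈ Finset.range (r + 1),
        LinearMap.range (TensorProduct.mapIncl (C i) (C (r - i))) := hΔ r ⟨a, ha, rfl⟩
    have hle : (⨆ i ∈ Finset.range (r + 1),
        LinearMap.range (TensorProduct.mapIncl (C i) (C (r - i)))) ≤
        LinearMap.range ((fixFilt k A A r).subtype.rTensor A) ⊔
          (Submodule.map ((TensorProduct.mk k A A).flip 1) (C r)) := by
      apply iSup₂_le
      intro i hi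
      rw [Finset.mem_range] at hi
      rcases Nat.lt_succ_iff_lt_or_eq.1 hi with hlt | heq
      · refine le_trans ?_ (le_sup_left (a := LinearMap.range ((fixFilt k A A r).subtype.rTensor A)))
        rintro _ ⟨z, rfl⟩
        rw [mem_range_rTensor_iff_contr]
        intro f
        change contr A f (TensorProduct.map (C i).subtype (C (r - i)).subtype z) ∈ _
        rw [map_eq_rTensor_lTensor, contr_rTensor]
        have hle2 : i + 1 ≤ r := hlt
        exact fixFilt_mono hle2 (ih i hlt (contr ↥(C i) f _).2)
      · refine le_trans ?_ (le_sup_right (a := LinearMap.range ((fixFilt k A A r).subtype.rTensor A)))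
        subst heq
        rw [Nat.sub_self, h0]
        rintro _ ⟨z, rfl⟩
        induction z using TensorProduct.induction_on with
        | zero => rw [map_zero]; exact Submodule.zero_mem _
        | tmul c d =>
          obtain ⟨l, hl⟩ := Submodule.mem_span_singleton.1 d.2
          refine ⟨l • (c : A), Submodule.smul_mem _ _ c.2, ?_⟩
          change (l • (c : A)) ⊗ₜ[k] (1 : A) = (c : A) ⊗ₜ[k] (d : A)
          rw [← hl, TensorProduct.smul_tmul]
        | add x y hx hy => rw [map_add]; exact Submodule.add_mem _ hx hy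
    obtain ⟨u, hu, v, ⟨c, hc, rfl⟩, huv⟩ := Submodule.mem_sup.1 (hle h1)
    change u + c ⊗ₜ[k] (1 : A) = Coalgebra.comul (R := k) a at huv
    -- apply `id ⊗ ε`
    have h2 : a = contr A (Coalgebra.counit (R := k)) u + c := by
      have h3 := congrArg (contr A (Coalgebra.counit (R := k))) huv
      rw [map_add, contr_tmul, Bialgebra.counit_one, one_smul] at h3
      rw [h3]
      change a = (TensorProduct.rid k A) ((Coalgebra.counit (R := k)).lTensor A
        (Coalgebra.comul (R := k) a))
      rw [Coalgebra.lTensor_counit_comul]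
      simp
    rw [fixFilt_succ, mem_nextFix]
    change Coalgebra.comul (R := k) a - a ⊗ₜ[k] (1 : A) ∈ _
    have h4 : Coalgebra.comul (R := k) a - a ⊗ₜ[k] (1 : A) =
        u - contr A (Coalgebra.counit (R := k)) u ⊗ₜ[k] (1 : A) := by
      rw [← huv]
      conv_lhs => rw [h2]
      rw [TensorProduct.add_tmul]
      abel
    rw [h4]
    refine Submodule.sub_mem _ hu (tmul_mem_range_rTensor ?_ 1)
    exact (mem_range_rTensor_iff_contr _ u).1 hu _

/-- **unipotent iff coconnected.** -/
theorem isUnipotent_iff :
    IsUnipotent k A ↔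
      ∃ C : ℕ → Submodule k A, Monotone C ∧ C 0 = Submodule.span k {(1 : A)} ∧ (⨆ r, C r) = ⊤ ∧
        ∀ r, Submodule.map (CoalgebraStruct.comul (R := k) (A := A)) (C r) ≤
          ⨆ i ∈ Finset.range (r + 1), LinearMap.range (TensorProduct.mapIncl (C i) (C (r - i))) := by
  constructor
  · intro hU
    refine ⟨fun r => fixFilt k A A (r + 1), ?_, fixFilt_one_eq, ?_, ?_⟩
    · intro i j hij
      exact fixFilt_mono (Nat.succ_le_succ hij)
    · rw [eq_top_iff]
      intro a _
      obtain ⟨n, hn⟩ := exists_mem_fixFilt_regular hU a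
      exact Submodule.mem_iSup_of_mem n (fixFilt_mono (Nat.le_succ n) hn)
    · intro r
      rintro _ ⟨a, ha, rfl⟩
      exact comul_mem_iSup r a ha
  · rintro ⟨C, hmono, h0, htop, hΔ⟩
    apply Groth.Agent.Lib.Helper7.UnipPart.isUnipotent_of_forall_mem_unipSub
      (BialgHom.id k A) Function.injective_id
    intro a
    have ha : a ∈ ⨆ r, C r := by rw [htop]; trivial
    obtain ⟨r, hr⟩ := (Submodule.mem_iSup_of_directed C hmono.directed_le).1 ha
    exact ⟨r + 1, le_fixFilt_of_filtration C h0 hΔ r hr⟩

end Main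

end Groth.Agent.Lib.Helper7.UnipFilt
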