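import Groth.Agent.Lib.Helper7.CoeffSpace
import Groth.Agent.Lib.Helper7.UnipFilt
import Mathlib.RingTheory.Coalgebra.Convolution
import Mathlib.RingTheory.Bialgebra.TensorProduct
import Mathlib.RingTheory.Artinian.Ring
import Mathlib.LinearAlgebra.Dual.Lemmas

/-!
# Conilpotence of connected cocommutative bialgebras (helper7, for S4135)

For a cocommutative bialgebra `H` over a field in which every nonzero subcoalgebra contains `1`,
every element lies in a finite-dimensional subcoalgebra `D ∋ 1` on which a convolution power of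
`J = id - ηε` vanishes.
-/

universe u v w

open TensorProduct WithConv

namespace Groth.Agent.Lib.Helper7.CMM

open HopfRep Groth.Agent.Lib.Helper7.Comod

section Gen

variable {k : Type u} [Field k] {H : Type v} [Ring H] [Bialgebra k H]

/-- Two convolution elements agree on a submodule. -/
def EqOnD {A : Type w} [Semiring A] [Algebra k A] (D : Submodule k H)
    (f g : WithConv (H →ₗ[k] A)) : Prop := ∀ d ∈ D, f d = g d

lemma EqOnD.refl {A : Type w} [Semiring A] [Algebra k A] (D : Submodule k H)
    (f : WithConv (H →ₗ[k] A)) : EqOnD D f f := fun _ _ => rfl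

lemma EqOnD.symm {A : Type w} [Semiring A] [Algebra k A] {D : Submodule k H}
    {f g : WithConv (H →ₗ[k] A)} (h : EqOnD D f g) : EqOnD D g f := fun d hd => (h d hd).symm

lemma EqOnD.trans {A : Type w} [Semiring A] [Algebra k A] {D : Submodule k H}
    {f g h : WithConv (H →ₗ[k] A)} (h1 : EqOnD D f g) (h2 : EqOnD D g h) : EqOnD D f h :=
  fun d hd => (h1 d hd).trans (h2 d hd)

lemma mul_congr {A : Type w} [Semiring A] [Algebra k A] {D : Submodule k H} (hD : IsSubcoalg D)
    {f f' g g' : WithConv (H →ₗ[k] A)} (hf : EqOnD D f f') (hg : EqOnD D g g') :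
    EqOnD D (f * g) (f' * g') := by
  intro d hd
  obtain ⟨z, hz⟩ := hD d hd
  have h1 : f.ofConv ∘ₗ D.subtype = f'.ofConv ∘ₗ D.subtype := LinearMap.ext fun a => hf a a.2
  have h2 : g.ofConv ∘ₗ D.subtype = g'.ofConv ∘ₗ D.subtype := LinearMap.ext fun a => hg a a.2
  rw [LinearMap.convMul_apply, LinearMap.convMul_apply, ← hz,
    ← LinearMap.comp_apply (TensorProduct.map f.ofConv g.ofConv),
    ← LinearMap.comp_apply (TensorProduct.map f'.ofConv g'.ofConv),
    ← TensorProduct.map_comp, ← TensorProduct.map_comp, h1, h2]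

lemma eqOnD_add {A : Type w} [Semiring A] [Algebra k A] {D : Submodule k H}
    {f f' g g' : WithConv (H →ₗ[k] A)} (hf : EqOnD D f f') (hg : EqOnD D g g') :
    EqOnD D (f + g) (f' + g') := by
  intro d hd
  change f d + g d = f' d + g' d
  rw [hf d hd, hg d hd]

lemma eqOnD_smul {A : Type w} [Semiring A] [Algebra k A] {D : Submodule k H}
    {f f' : WithConv (H →ₗ[k] A)} (c : k) (hf : EqOnD D f f') :
    EqOnD D (c • f) (c • f') := by
  intro d hd
  change c • f d = c • f' d
  rw [hf d hd]

lemma eqOnD_sum {A : Type w} [Semiring A] [Algebra k A] {D : Submodule k H} {ι : Type*}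
    (s : Finset ι) {f f' : ι → WithConv (H →ₗ[k] A)} (hf : ∀ i ∈ s, EqOnD D (f i) (f' i)) :
    EqOnD D (∑ i ∈ s, f i) (∑ i ∈ s, f' i) := by
  intro d hd
  change (∑ i ∈ s, f i).ofConv d = (∑ i ∈ s, f' i).ofConv d
  rw [ofConv_sum, ofConv_sum, LinearMap.sum_apply, LinearMap.sum_apply]
  exact Finset.sum_congr rfl fun i hi => hf i hi d hd

lemma pow_congr {A : Type w} [Semiring A] [Algebra k A] {D : Submodule k H} (hD : IsSubcoalg D)
    {f f' : WithConv (H →ₗ[k] A)} (hf : EqOnD D f f') (n : ℕ) :
    EqOnD D (f ^ n) (f' ^ n) := by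
  induction n with
  | zero => simp only [pow_zero]; exact EqOnD.refl D 1
  | succ n ih => rw [pow_succ, pow_succ]; exact mul_congr hD ih hf

end Gen

section Cocomm

variable {k : Type u} [Field k] {H : Type v} [Ring H] [Bialgebra k H] [Coalgebra.IsCocomm k H]

/-- A right coideal of a cocommutative coalgebra is a subcoalgebra. -/
lemma isSubcoalg_of_isSubcomod {W : Submodule k H}
    (hW : IsSubcomod (k := k) (A := H) (V := H) W) : IsSubcoalg W := by
  intro w hw
  have h1 : Coalgebra.comul (R := k) w ∈ LinearMap.range (W.subtype.rTensor H) := hW w hw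
  have h2 : Coalgebra.comul (R := k) w ∈ LinearMap.range (W.subtype.lTensor H) := by
    obtain ⟨y, hy⟩ := h1
    refine ⟨TensorProduct.comm k W H y, ?_⟩
    have h3 : TensorProduct.comm k H H (Coalgebra.comul (R := k) w) = Coalgebra.comul (R := k) w :=
      Coalgebra.comm_comul k w
    rw [← h3, ← hy]
    clear hy h3
    induction y using TensorProduct.induction_on with
    | zero => simp
    | tmul a b => simp
    | add a b ha hb => simp only [map_add, ha, hb]
  exact Groth.Agent.Lib.Helper7.UnipFilt.mem_range_map_of_mem_of_mem W W _ h1 h2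

/-- Every element lies in a finite-dimensional subcoalgebra containing `1`. -/
theorem exists_finite_subcoalg_mem (x : H) :
    ∃ D : Submodule k H, Module.Finite k D ∧ x ∈ D ∧ (1 : H) ∈ D ∧ IsSubcoalg D := by
  obtain ⟨W₁, hf₁, hx₁, hW₁⟩ := exists_finite_subcomod_mem (k := k) (C := H) (V := H) x
  obtain ⟨W₂, hf₂, hx₂, hW₂⟩ := exists_finite_subcomod_mem (k := k) (C := H) (V := H) (1 : H)
  refine ⟨W₁ ⊔ W₂, ?_, Submodule.mem_sup_left hx₁, Submodule.mem_sup_right hx₂,
    isSubcoalg_of_isSubcomod (isSubcomod_sup hW₁ hW₂)⟩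
  haveI := hf₁
  haveI := hf₂
  exact Submodule.finite_sup W₁ W₂

/-- The dual convolution algebra (commutative). -/
abbrev Hd (k : Type u) [Field k] (H : Type v) [Ring H] [Bialgebra k H] : Type _ :=
  WithConv (H →ₗ[k] k)

/-- The convolution algebra of endomorphisms. -/
abbrev EH (k : Type u) [Field k] (H : Type v) [Ring H] [Bialgebra k H] : Type _ :=
  WithConv (H →ₗ[k] H)

/-- The annihilator of a subcoalgebra in the dual algebra. -/
def annD (D : Submodule k H) (hD : IsSubcoalg D) : Ideal (Hd k H) where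
  carrier := {f | ∀ d ∈ D, f d = 0}
  add_mem' := by
    intro f g hf hg d hd
    change f d + g d = 0
    rw [hf d hd, hg d hd, add_zero]
  zero_mem' := fun d _ => rfl
  smul_mem' := by
    intro g f hf d hd
    have h := mul_congr hD (EqOnD.refl D g) (show EqOnD D f 0 from fun d hd => hf d hd) d hd
    rw [smul_eq_mul, h, mul_zero]
    rfl

lemma mem_annD {D : Submodule k H} {hD : IsSubcoalg D} {f : Hd k H} :
    f ∈ annD D hD ↔ ∀ d ∈ D, f d = 0 := Iff.rfl

/-- The augmentation ideal of the dual algebra. -/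
def mI (k : Type u) [Field k] (H : Type v) [Ring H] [Bialgebra k H] [Coalgebra.IsCocomm k H] :
    Ideal (Hd k H) where
  carrier := {f | f (1 : H) = 0}
  add_mem' := by
    intro f g hf hg
    change f 1 + g 1 = 0
    rw [hf, hg, add_zero]
  zero_mem' := rfl
  smul_mem' := by
    intro g f hf
    change (g * f) (1 : H) = 0
    rw [LinearMap.convMul_apply, Bialgebra.comul_one]
    change g 1 * f 1 = 0
    rw [hf, mul_zero]

lemma mem_mI {f : Hd k H} : f ∈ mI k H ↔ f (1 : H) = 0 := Iff.rfl

lemma mI_ne_top : mI k H ≠ ⊤ := by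
  intro h
  have h1 : (1 : Hd k H) ∈ mI k H := h ▸ Submodule.mem_top
  rw [mem_mI, LinearMap.convOne_apply, Bialgebra.counit_one] at h1
  simp at h1

/-- restriction of functionals to `D`. -/
noncomputable def resD (D : Submodule k H) : Hd k H →ₗ[k] (D →ₗ[k] k) where
  toFun f := f.ofConv ∘ₗ D.subtype
  map_add' _ _ := rfl
  map_smul' _ _ := rfl

@[simp] lemma resD_apply (D : Submodule k H) (f : Hd k H) (d : D) : resD D f d = f (d : H) := rfl

lemma ker_resD (D : Submodule k H) (hD : IsSubcoalg D) :
    LinearMap.ker (resD D) = (annD D hD).restrictScalars k := by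
  ext f
  rw [LinearMap.mem_ker, Submodule.restrictScalars_mem, mem_annD]
  constructor
  · intro h d hd
    exact LinearMap.congr_fun h ⟨d, hd⟩
  · intro h
    ext d
    exact h d d.2

lemma finite_quot (D : Submodule k H) [Module.Finite k D] (hD : IsSubcoalg D) :
    Module.Finite k (Hd k H ⧸ annD D hD) := by
  let ι₀ : (Hd k H ⧸ (annD D hD).restrictScalars k) →ₗ[k] (D →ₗ[k] k) :=
    Submodule.liftQ _ (resD D) (ker_resD D hD).ge
  have h0 : Function.Injective ι₀ := by
    rw [← LinearMap.ker_eq_bot]
    exact Submodule.ker_liftQ_eq_bot _ _ _ (ker_resD D hD).le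
  let ι₁ : (Hd k H ⧸ annD D hD) →ₗ[k] (D →ₗ[k] k) :=
    ι₀ ∘ₗ (Submodule.Quotient.restrictScalarsEquiv k (annD D hD)).symm.toLinearMap
  have h1 : Function.Injective ι₁ :=
    h0.comp (Submodule.Quotient.restrictScalarsEquiv k (annD D hD)).symm.injective
  exact Module.Finite.of_injective ι₁ h1

/-- contraction formulas -/
lemma apply_contr (f : Hd k H) (g : H →ₗ[k] k) (z : H ⊗[k] H) :
    f (contr H g z) = LinearMap.mul' k k (TensorProduct.map f.ofConv g z) := by
  induction z using TensorProduct.induction_on with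
  | zero => simp
  | tmul a b => simp [mul_comm]
  | add a b ha hb => simp only [map_add, ha, hb]

lemma apply_contrL (f : Hd k H) (g : H →ₗ[k] k) (z : H ⊗[k] H) :
    f (contrL H g z) = LinearMap.mul' k k (TensorProduct.map g f.ofConv z) := by
  induction z using TensorProduct.induction_on with
  | zero => simp
  | tmul a b => simp
  | add a b ha hb => simp only [map_add, ha, hb]

/-- Every maximal ideal of the dual algebra containing `ann D` is contained in the augmentation
ideal, when `H` is connected. -/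
lemma le_mI_of_isMaximal (hconn : ∀ D : Submodule k H, IsSubcoalg D → D ≠ ⊥ → (1 : H) ∈ D)
    (D : Submodule k H) [Module.Finite k D] (hD : IsSubcoalg D) (M : Ideal (Hd k H))
    (hM : M.IsMaximal) (hle : annD D hD ≤ M) : M ≤ mI k H := by
  -- the orthogonal of `M` in `D`
  let W : Submodule k H :=
    { carrier := {d | d ∈ D ∧ ∀ f ∈ M, f d = 0}
      add_mem' := by
        rintro a b ⟨ha, ha'⟩ ⟨hb, hb'⟩
        refine ⟨D.add_mem ha hb, fun f hf => ?_⟩
        change f.ofConv (a + b) = 0
        rw [map_add]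
        change f a + f b = 0
        rw [ha' f hf, hb' f hf, add_zero]
      zero_mem' := ⟨D.zero_mem, fun f _ => map_zero f.ofConv⟩
      smul_mem' := by
        rintro c a ⟨ha, ha'⟩
        refine ⟨D.smul_mem c ha, fun f hf => ?_⟩
        change f.ofConv (c • a) = 0
        rw [map_smul]
        change c • f a = 0
        rw [ha' f hf, smul_zero] }
  have hWmem : ∀ d, d ∈ W ↔ d ∈ D ∧ ∀ f ∈ M, f d = 0 := fun d => Iff.rfl
  have hWsub : IsSubcoalg W := by
    rw [isSubcoalg_iff]
    intro w hw
    obtain ⟨hwD, hw'⟩ := (hWmem w).1 hw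
    have hDw := (isSubcoalg_iff D).1 hD w hwD
    constructor
    · intro g
      refine (hWmem _).2 ⟨hDw.1 g, fun f hf => ?_⟩
      rw [apply_contr]
      have h1 : f * toConv g ∈ M := Ideal.mul_mem_right _ _ hf
      have h2 := hw' _ h1
      rwa [LinearMap.convMul_apply] at h2
    · intro g
      refine (hWmem _).2 ⟨hDw.2 g, fun f hf => ?_⟩
      rw [apply_contrL]
      have h1 : toConv g * f ∈ M := Ideal.mul_mem_left _ _ hf
      have h2 := hw' _ h1
      rwa [LinearMap.convMul_apply] at h2
  have hWne : W ≠ ⊥ := by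
    intro hW
    apply hM.ne_top
    -- the image of `M` in the dual of `D`
    let Φ : Subspace k (Module.Dual k D) := Submodule.map (resD D) (M.restrictScalars k)
    have hco : Φ.dualCoannihilator = ⊥ := by
      rw [eq_bot_iff]
      intro d hd
      rw [Submodule.mem_dualCoannihilator] at hd
      have hdW : (d : H) ∈ W := by
        refine (hWmem _).2 ⟨d.2, fun f hf => ?_⟩
        exact hd (resD D f) ⟨f, hf, rfl⟩
      rw [hW, Submodule.mem_bot] at hdW
      rw [Submodule.mem_bot]
      exact Subtype.ext hdW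
    have htop : Φ = ⊤ := by
      rw [← Subspace.dualCoannihilator_dualAnnihilator_eq (W := Φ), hco]
      exact Submodule.dualAnnihilator_bot
    rw [Ideal.eq_top_iff_one]
    have h1 : resD D (1 : Hd k H) ∈ Φ := by rw [htop]; exact Submodule.mem_top
    obtain ⟨g, hg, hg1⟩ := h1
    have h2 : (1 : Hd k H) - g ∈ annD D hD := by
      rw [mem_annD]
      intro d hd
      have := LinearMap.congr_fun hg1 ⟨d, hd⟩
      simp only [resD_apply] at this
      change (1 : Hd k H) d - g d = 0
      rw [this, sub_self]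
    have h3 : (1 : Hd k H) - g ∈ M := hle h2
    have h4 : (1 : Hd k H) - g + g ∈ M := M.add_mem h3 hg
    rwa [sub_add_cancel] at h4
  have h1W : (1 : H) ∈ W := hconn W hWsub hWne
  intro f hf
  rw [mem_mI]
  exact ((hWmem _).1 h1W).2 f hf

/-- Nilpotency of the augmentation ideal modulo `ann D`. -/
theorem exists_pow_le_annD (hconn : ∀ D : Submodule k H, IsSubcoalg D → D ≠ ⊥ → (1 : H) ∈ D)
    (D : Submodule k H) [Module.Finite k D] (hD : IsSubcoalg D) :
    ∃ N : ℕ, mI k H ^ N ≤ annD D hD := by
  haveI : Module.Finite k (Hd k H ⧸ annD D hD) := finite_quot D hD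
  haveI : IsArtinianRing (Hd k H ⧸ annD D hD) := IsArtinianRing.of_finite k _
  obtain ⟨N, hN⟩ := IsArtinianRing.isNilpotent_jacobson_bot (R := Hd k H ⧸ annD D hD)
  refine ⟨N, ?_⟩
  have h1 : Ideal.map (Ideal.Quotient.mk (annD D hD)) (mI k H) ≤
      Ideal.jacobson (⊥ : Ideal (Hd k H ⧸ annD D hD)) := by
    rw [Ideal.jacobson, le_sInf_iff]
    rintro M ⟨-, hM⟩
    have hM' : (M.comap (Ideal.Quotient.mk (annD D hD))).IsMaximal :=
      Ideal.comap_isMaximal_of_surjective _ Ideal.Quotient.mk_surjective
    have hle : annD D hD ≤ M.comap (Ideal.Quotient.mk (annD D hD)) := by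
      intro f hf
      rw [Ideal.mem_comap, Ideal.Quotient.eq_zero_iff_mem.2 hf]
      exact M.zero_mem
    have h2 := le_mI_of_isMaximal hconn D hD _ hM' hle
    have h3 : M.comap (Ideal.Quotient.mk (annD D hD)) = mI k H := hM'.eq_of_le mI_ne_top h2
    rw [Ideal.map_le_iff_le_comap, h3]
  have h2 : Ideal.map (Ideal.Quotient.mk (annD D hD)) (mI k H ^ N) = ⊥ := by
    have h3 := Ideal.map_pow (Ideal.Quotient.mk (annD D hD)) (mI k H) N
    rw [h3, eq_bot_iff, ← Ideal.zero_eq_bot, ← hN]
    exact Ideal.pow_right_mono h1 N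
  rw [Ideal.map_eq_bot_iff_le_ker, Ideal.mk_ker] at h2
  exact h2

/-- rank-one convolution elements. -/
noncomputable def Phi (f : Hd k H) (h : H) : EH k H :=
  toConv ((LinearMap.toSpanSingleton k H h) ∘ₗ f.ofConv)

@[simp] lemma Phi_apply (f : Hd k H) (h : H) (c : H) : Phi f h c = f c • h := rfl

lemma Phi_mul (f f' : Hd k H) (h h' : H) : Phi f h * Phi f' h' = Phi (f * f') (h * h') := by
  apply WithConv.ext
  ext c
  change (Phi f h * Phi f' h') c = Phi (f * f') (h * h') c
  rw [LinearMap.convMul_apply, Phi_apply, LinearMap.convMul_apply]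
  generalize Coalgebra.comul (R := k) c = z
  induction z using TensorProduct.induction_on with
  | zero => simp
  | tmul a b =>
    simp only [TensorProduct.map_tmul, LinearMap.mul'_apply]
    change (f a • h) * (f' b • h') = (f a * f' b) • (h * h')
    rw [smul_mul_smul_comm]
  | add a b ha hb => simp only [map_add, ha, hb, add_smul]

/-- the span of rank-one elements with functional in `m^n`. -/
def NN (k : Type u) [Field k] (H : Type v) [Ring H] [Bialgebra k H] [Coalgebra.IsCocomm k H]
    (n : ℕ) : Submodule k (EH k H) :=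
  Submodule.span k {T | ∃ f ∈ mI k H ^ n, ∃ h : H, T = Phi f h}

lemma NN_mul {a b : ℕ} {T T' : EH k H} (hT : T ∈ NN k H a) (hT' : T' ∈ NN k H b) :
    T * T' ∈ NN k H (a + b) := by
  induction hT using Submodule.span_induction with
  | mem T h =>
    obtain ⟨f, hf, h, rfl⟩ := h
    induction hT' using Submodule.span_induction with
    | mem T' h' =>
      obtain ⟨f', hf', h', rfl⟩ := h'
      rw [Phi_mul]
      refine Submodule.subset_span ⟨f * f', ?_, h * h', rfl⟩
      rw [pow_add (mI k H) a b]
      exact Ideal.mul_mem_mul hf hf'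
    | zero => rw [mul_zero]; exact Submodule.zero_mem _
    | add x y _ _ hx hy => rw [mul_add]; exact Submodule.add_mem _ hx hy
    | smul c x _ hx => rw [mul_smul_comm]; exact Submodule.smul_mem _ c hx
  | zero => rw [zero_mul]; exact Submodule.zero_mem _
  | add x y _ _ hx hy => rw [add_mul]; exact Submodule.add_mem _ hx hy
  | smul c x _ hx => rw [smul_mul_assoc]; exact Submodule.smul_mem _ c hx

lemma eqOnD_zero_of_mem_NN {D : Submodule k H} {hD : IsSubcoalg D} {N : ℕ}
    (hN : mI k H ^ N ≤ annD D hD) {T : EH k H} (hT : T ∈ NN k H N) : EqOnD D T 0 := by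
  induction hT using Submodule.span_induction with
  | mem T h =>
    obtain ⟨f, hf, h, rfl⟩ := h
    intro d hd
    rw [Phi_apply, (mem_annD.1 (hN hf)) d hd, zero_smul]
    rfl
  | zero => exact EqOnD.refl D 0
  | add x y _ _ hx hy =>
    have := eqOnD_add hx hy
    rwa [add_zero] at this
  | smul c x _ hx =>
    have := eqOnD_smul c hx
    rwa [smul_zero] at this

/-- `J = id - ηε` in the convolution algebra. -/
noncomputable def Jc (k : Type u) [Field k] (H : Type v) [Ring H] [Bialgebra k H] : EH k H :=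
  toConv LinearMap.id - 1

omit [Coalgebra.IsCocomm k H] in
lemma Jc_apply (c : H) : Jc k H c = c - algebraMap k H (Coalgebra.counit (R := k) c) := rfl

omit [Coalgebra.IsCocomm k H] in
lemma Jc_one : Jc k H (1 : H) = 0 := by
  rw [Jc_apply, Bialgebra.counit_one, map_one, sub_self]

/-- `J` agrees on `D` with an element of `NN 1`. -/
lemma exists_mem_NN_one (D : Submodule k H) [Module.Finite k D] (h1 : (1 : H) ∈ D) :
    ∃ T ∈ NN k H 1, EqOnD D (Jc k H) T := by
  classical
  obtain ⟨r, hr⟩ := LinearMap.exists_leftInverse_of_injective D.subtype (Submodule.ker_subtype D)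
  have hr' : ∀ d (hd : d ∈ D), r d = ⟨d, hd⟩ := fun d hd => LinearMap.congr_fun hr ⟨d, hd⟩
  let b := Module.finBasis k D
  let f : Fin (Module.finrank k D) → Hd k H := fun i =>
    toConv ((b.coord i) ∘ₗ r) - (b.coord i (r 1)) • (1 : Hd k H)
  have hf : ∀ i, f i ∈ mI k H ^ 1 := by
    intro i
    rw [pow_one, mem_mI]
    change (b.coord i) (r 1) - (b.coord i (r 1)) • ((1 : Hd k H) (1 : H)) = 0
    rw [LinearMap.convOne_apply, Bialgebra.counit_one]
    simp
  refine ⟨∑ i, Phi (f i) (Jc k H (b i : H)), ?_, ?_⟩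
  · exact Submodule.sum_mem _ fun i _ => Submodule.subset_span ⟨f i, hf i, _, rfl⟩
  · intro d hd
    change Jc k H d = (∑ i, Phi (f i) (Jc k H (b i : H))).ofConv d
    rw [ofConv_sum, LinearMap.sum_apply]
    have hfi : ∀ i, (Phi (f i) (Jc k H (b i : H))).ofConv d =
        b.repr ⟨d, hd⟩ i • Jc k H (b i : H) -
          Coalgebra.counit (R := k) d • (b.repr (r 1) i • Jc k H (b i : H)) := by
      intro i
      change (f i) d • Jc k H (b i : H) = _
      have : (f i) d = b.repr ⟨d, hd⟩ i - b.repr (r 1) i * Coalgebra.counit (R := k) d := by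
        change (b.coord i) (r d) - (b.coord i (r 1)) • ((1 : Hd k H) d) = _
        rw [hr' d hd, LinearMap.convOne_apply]
        simp
      rw [this, sub_smul, mul_smul, smul_comm]
    rw [Finset.sum_congr rfl fun i _ => hfi i, Finset.sum_sub_distrib, ← Finset.smul_sum]
    have h2 : ∀ e : D, ∑ i, b.repr e i • Jc k H (b i : H) = Jc k H (e : H) := by
      intro e
      conv_rhs => rw [← b.sum_repr e]
      rw [Submodule.coe_sum, map_sum]
      refine Finset.sum_congr rfl fun i _ => ?_
      rw [Submodule.coe_smul, map_smul]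
    rw [h2, h2, hr' 1 h1]
    change _ = Jc k H d - Coalgebra.counit (R := k) d • Jc k H (1 : H)
    rw [Jc_one, smul_zero, sub_zero]

/-- **Conilpotence.** In a connected cocommutative bialgebra over a field, every element lies in a
finite-dimensional subcoalgebra `D ∋ 1` such that a convolution power of `J` vanishes on `D`. -/
theorem exists_subcoalg_nilp
    (hconn : ∀ D : Submodule k H, IsSubcoalg D → D ≠ ⊥ → (1 : H) ∈ D) (x : H) :
    ∃ (D : Submodule k H) (N : ℕ), x ∈ D ∧ (1 : H) ∈ D ∧ IsSubcoalg D ∧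
      EqOnD D (Jc k H ^ N) 0 := by
  obtain ⟨D, hfin, hx, h1, hD⟩ := exists_finite_subcoalg_mem (k := k) x
  haveI := hfin
  obtain ⟨N, hN⟩ := exists_pow_le_annD hconn D hD
  obtain ⟨T, hT, hJT⟩ := exists_mem_NN_one D h1
  refine ⟨D, N, hx, h1, hD, ?_⟩
  have h2 : ∀ n : ℕ, T ^ n ∈ NN k H n := by
    intro n
    induction n with
    | zero =>
      rw [pow_zero]
      refine Submodule.subset_span ⟨1, ?_, 1, ?_⟩
      · rw [pow_zero (mI k H), Ideal.one_eq_top]; trivial
      · apply WithConv.ext
        ext c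
        change (1 : EH k H) c = Phi (1 : Hd k H) 1 c
        rw [Phi_apply, LinearMap.convOne_apply, LinearMap.convOne_apply, Algebra.algebraMap_eq_smul_one,
          Algebra.algebraMap_eq_smul_one, smul_eq_mul, mul_one]
    | succ n ih =>
      rw [pow_succ]
      have := NN_mul ih (by simpa using hT : T ∈ NN k H 1)
      exact this
  exact (pow_congr hD hJT N).trans (eqOnD_zero_of_mem_NN hN (h2 N))

end Cocomm

end Groth.Agent.Lib.Helper7.CMM
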