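import Groth.Agent.Lib.Helper7.CMM1
import Groth.Prelude.Def_SGA3y
import Mathlib.RingTheory.Polynomial.Pochhammer
import Mathlib.Algebra.Polynomial.Roots
import Mathlib.Data.Nat.Choose.Sum

/-!
# Surjectivity in Cartier–Milnor–Moore via Adams operations (helper7, for S4135)
-/

universe u v w

open TensorProduct WithConv Polynomial

namespace Groth.Agent.Lib.Helper7.CMM

open HopfRep Groth.Agent.Lib.Helper7.Comod

section Extract

variable {k : Type u} [Field k] [CharZero k] {V : Type v} [AddCommGroup V] [Module k V]

/-- Coefficient extraction: a polynomial identity with vector coefficients valid at all natural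
numbers holds coefficientwise. -/
lemma extract (N : ℕ) (a b : ℕ → V)
    (h : ∀ m : ℕ, ∑ i ∈ Finset.range N, (m : k) ^ i • a i =
      ∑ i ∈ Finset.range N, (m : k) ^ i • b i) :
    ∀ i < N, a i = b i := by
  intro i hi
  rw [← sub_eq_zero, ← Module.forall_dual_apply_eq_zero_iff k]
  intro φ
  let p : k[X] := ∑ j ∈ Finset.range N, C (φ (a j - b j)) * X ^ j
  have hroot : ∀ m : ℕ, p.IsRoot (m : k) := by
    intro m
    have h1 := congrArg φ (h m)
    rw [map_sum, map_sum] at h1
    change p.eval (m : k) = 0
    simp only [p, eval_finset_sum, eval_mul, eval_C, eval_pow, eval_X]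
    rw [← sub_eq_zero, ← Finset.sum_sub_distrib] at h1
    rw [← h1]
    refine Finset.sum_congr rfl fun j _ => ?_
    rw [map_smul, map_smul, map_sub, smul_eq_mul, smul_eq_mul]
    ring
  have hp : p = 0 := by
    apply Polynomial.eq_zero_of_infinite_isRoot
    exact Set.infinite_of_injective_forall_mem (f := fun m : ℕ => (m : k)) Nat.cast_injective hroot
  have hc : p.coeff i = φ (a i - b i) := by
    simp only [p, finset_sum_coeff, coeff_C_mul_X_pow]
    rw [Finset.sum_ite_eq, if_pos (Finset.mem_range.2 hi)]
  rw [← hc, hp, coeff_zero]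

/-- Extraction of the linear coefficient from a double sum. -/
lemma extract2 (N : ℕ) (hN : 2 ≤ N) (a : ℕ → V) (w : ℕ → ℕ → V)
    (h : ∀ m : ℕ, ∑ i ∈ Finset.range N, (m : k) ^ i • a i =
      ∑ i ∈ Finset.range N, ∑ j ∈ Finset.range N, (m : k) ^ (i + j) • w i j) :
    a 1 = w 0 1 + w 1 0 := by
  let a' : ℕ → V := fun l => if l < N then a l else 0
  let b : ℕ → V := fun l => ∑ i ∈ Finset.range N, ∑ j ∈ Finset.range N,
    if i + j = l then w i j else 0
  have h1 : ∀ m : ℕ, ∑ l ∈ Finset.range (2 * N), (m : k) ^ l • a' l =
      ∑ l ∈ Finset.range (2 * N), (m : k) ^ l • b l := by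
    intro m
    have hL : ∑ l ∈ Finset.range (2 * N), (m : k) ^ l • a' l =
        ∑ i ∈ Finset.range N, (m : k) ^ i • a i := by
      symm
      rw [← Finset.sum_subset (s₁ := Finset.range N) (s₂ := Finset.range (2 * N))]
      · refine Finset.sum_congr rfl fun i hi => ?_
        simp only [a', if_pos (Finset.mem_range.1 hi)]
      · intro x hx
        rw [Finset.mem_range] at hx ⊢
        omega
      · intro x _ hx
        rw [Finset.mem_range] at hx
        simp only [a', if_neg hx, smul_zero]
    have hR : ∑ l ∈ Finset.range (2 * N), (m : k) ^ l • b l =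
        ∑ i ∈ Finset.range N, ∑ j ∈ Finset.range N, (m : k) ^ (i + j) • w i j := by
      simp only [b, Finset.smul_sum]
      rw [Finset.sum_comm]
      refine Finset.sum_congr rfl fun i hi => ?_
      rw [Finset.sum_comm]
      refine Finset.sum_congr rfl fun j hj => ?_
      rw [Finset.sum_eq_single (i + j)]
      · rw [if_pos rfl]
      · intro l _ hl
        rw [if_neg (Ne.symm hl), smul_zero]
      · intro hl
        exfalso
        apply hl
        rw [Finset.mem_range] at hi hj ⊢
        omega
    rw [hL, hR]
    exact h m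
  have h2 := extract (k := k) (2 * N) a' b h1 1 (by omega)
  have h3 : a' 1 = a 1 := by simp only [a', if_pos (show 1 < N by omega)]
  rw [← h3, h2]
  simp only [b]
  rw [Finset.sum_eq_add (0 : ℕ) 1 (by omega)]
  · congr 1
    · rw [Finset.sum_eq_single 1]
      · simp
      · intro j _ hj
        rw [if_neg (by omega)]
      · intro hj
        exfalso
        apply hj
        rw [Finset.mem_range]
        omega
    · rw [Finset.sum_eq_single 0]
      · simp
      · intro j _ hj
        rw [if_neg (by omega)]
      · intro hj
        exfalso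
        apply hj
        rw [Finset.mem_range]
        omega
  · intro c _ hc
    refine Finset.sum_eq_zero fun j _ => ?_
    rw [if_neg (by omega)]
  · intro h0
    exfalso
    apply h0
    rw [Finset.mem_range]
    omega
  · intro h0
    exfalso
    apply h0
    rw [Finset.mem_range]
    omega

end Extract

section Binom

variable (k : Type u) [Field k] [CharZero k]

/-- The binomial polynomial `X(X-1)⋯(X-j+1)/j!`. -/
noncomputable def binomPoly (j : ℕ) : k[X] := C ((j.factorial : k)⁻¹) * descPochhammer k j

lemma binomPoly_eval (m j : ℕ) : (binomPoly k j).eval (m : k) = (m.choose j : k) := by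
  rw [binomPoly, eval_mul, eval_C, descPochhammer_eval_eq_descFactorial,
    Nat.descFactorial_eq_factorial_mul_choose, Nat.cast_mul, ← mul_assoc,
    inv_mul_cancel₀ (Nat.cast_ne_zero.2 (Nat.factorial_ne_zero j)), one_mul]

lemma binomPoly_natDegree_le (j : ℕ) : (binomPoly k j).natDegree ≤ j := by
  rw [binomPoly]
  refine (natDegree_C_mul_le _ _).trans ?_
  rw [descPochhammer_natDegree]

lemma binomPoly_eval_eq_sum {N j : ℕ} (hj : j < N) (m : ℕ) :
    (m.choose j : k) = ∑ i ∈ Finset.range N, (binomPoly k j).coeff i * (m : k) ^ i := by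
  rw [← binomPoly_eval k m j]
  exact eval_eq_sum_range' (lt_of_le_of_lt (binomPoly_natDegree_le k j) hj) _

end Binom

end Groth.Agent.Lib.Helper7.CMM
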