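import Groth.Agent.Lib.Helper7.CMM2

/-!
# Adams operations on a connected cocommutative bialgebra (helper7, for S4135)
-/

universe u v w

open TensorProduct WithConv Polynomial

namespace Groth.Agent.Lib.Helper7.CMM

open HopfRep Groth.Agent.Lib.Helper7.Comod

section Adams

variable {k : Type u} [Field k] [CharZero k] {H : Type v} [Ring H] [Bialgebra k H]

/-- identity in the convolution algebra -/
noncomputable def Ic (k : Type u) [Field k] (H : Type v) [Ring H] [Bialgebra k H] : EH k H :=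
  toConv LinearMap.id

omit [CharZero k] in
@[simp] lemma Ic_apply (c : H) : Ic k H c = c := rfl

omit [CharZero k] in
lemma Ic_eq : Ic k H = Jc k H + 1 := by
  rw [Jc, sub_add_cancel]
  rfl

omit [CharZero k] in
lemma Jc_pow_eqOnD_zero {D : Submodule k H} (hD : IsSubcoalg D) {N : ℕ}
    (hN : EqOnD D (Jc k H ^ N) 0) {j : ℕ} (hj : N ≤ j) : EqOnD D (Jc k H ^ j) 0 := by
  obtain ⟨r, rfl⟩ := Nat.exists_eq_add_of_le hj
  rw [pow_add]
  have := mul_congr hD hN (EqOnD.refl D (Jc k H ^ r))
  rwa [zero_mul] at this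

/-- the coefficients `E_i` of the Adams operations as polynomials in `m`. -/
noncomputable def Ecoef (k : Type u) [Field k] [CharZero k] (H : Type v) [Ring H] [Bialgebra k H]
    (N i : ℕ) : EH k H :=
  ∑ j ∈ Finset.range N, ((binomPoly k j).coeff i) • Jc k H ^ j

lemma Ecoef_eq_zero {N i : ℕ} (hi : N ≤ i) : Ecoef k H N i = 0 := by
  rw [Ecoef]
  refine Finset.sum_eq_zero fun j hj => ?_
  rw [Finset.mem_range] at hj
  rw [coeff_eq_zero_of_natDegree_lt, zero_smul]
  exact lt_of_le_of_lt (binomPoly_natDegree_le k j) (by omega)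

/-- the polynomial `P(m) = Σ m^i E_i`. -/
noncomputable def Ppoly (k : Type u) [Field k] [CharZero k] (H : Type v) [Ring H] [Bialgebra k H]
    (N m : ℕ) : EH k H :=
  ∑ i ∈ Finset.range N, ((m : k) ^ i) • Ecoef k H N i

lemma sum_choose_smul_eq_Ppoly (N m : ℕ) :
    ∑ j ∈ Finset.range N, ((m.choose j : ℕ) : k) • Jc k H ^ j = Ppoly k H N m := by
  rw [Ppoly]
  simp only [Ecoef, Finset.smul_sum]
  rw [Finset.sum_comm]
  refine Finset.sum_congr rfl fun j hj => ?_
  rw [binomPoly_eval_eq_sum k (Finset.mem_range.1 hj) m, Finset.sum_smul]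
  refine Finset.sum_congr rfl fun i _ => ?_
  rw [smul_smul, mul_comm]

lemma Ic_pow_eqOnD {D : Submodule k H} (hD : IsSubcoalg D) {N : ℕ}
    (hN : EqOnD D (Jc k H ^ N) 0) (m : ℕ) : EqOnD D (Ic k H ^ m) (Ppoly k H N m) := by
  rw [← sum_choose_smul_eq_Ppoly, Ic_eq, (Commute.one_right (Jc k H)).add_pow m]
  have h1 : ∀ j, Jc k H ^ j * 1 ^ (m - j) * ((m.choose j : ℕ) : EH k H) =
      ((m.choose j : ℕ) : k) • Jc k H ^ j := by
    intro j
    rw [one_pow, mul_one, ← nsmul_eq_mul', Nat.cast_smul_eq_nsmul]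
  rw [Finset.sum_congr rfl fun j _ => h1 j]
  intro d hd
  change (∑ j ∈ Finset.range (m + 1), ((m.choose j : ℕ) : k) • Jc k H ^ j).ofConv d =
    (∑ j ∈ Finset.range N, ((m.choose j : ℕ) : k) • Jc k H ^ j).ofConv d
  rw [ofConv_sum, ofConv_sum, LinearMap.sum_apply, LinearMap.sum_apply]
  have hA : ∑ j ∈ Finset.range (m + 1), (((m.choose j : ℕ) : k) • Jc k H ^ j).ofConv d =
      ∑ j ∈ Finset.range (max (m + 1) N), (((m.choose j : ℕ) : k) • Jc k H ^ j).ofConv d := by
    apply Finset.sum_subset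
    · intro x hx
      rw [Finset.mem_range] at hx ⊢
      exact lt_of_lt_of_le hx (le_max_left _ _)
    · intro x _ hx
      rw [Finset.mem_range, not_lt] at hx
      rw [Nat.choose_eq_zero_of_lt (by omega), Nat.cast_zero, zero_smul]
      rfl
  have hB : ∑ j ∈ Finset.range N, (((m.choose j : ℕ) : k) • Jc k H ^ j).ofConv d =
      ∑ j ∈ Finset.range (max (m + 1) N), (((m.choose j : ℕ) : k) • Jc k H ^ j).ofConv d := by
    apply Finset.sum_subset
    · intro x hx
      rw [Finset.mem_range] at hx ⊢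
      exact lt_of_lt_of_le hx (le_max_right _ _)
    · intro x _ hx
      rw [Finset.mem_range, not_lt] at hx
      change ((m.choose x : ℕ) : k) • (Jc k H ^ x) d = 0
      rw [Jc_pow_eqOnD_zero hD hN hx d hd]
      exact smul_zero _
  rw [hA, hB]

end Adams

section CoalgMap

variable {k : Type u} [Field k] {H : Type v} [Ring H] [Bialgebra k H] [Coalgebra.IsCocomm k H]

/-- `f` commutes with the comultiplication. -/
def IsCoalgMap (f : EH k H) : Prop :=
  Coalgebra.comul (R := k) ∘ₗ f.ofConv =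
    (TensorProduct.map f.ofConv f.ofConv) ∘ₗ Coalgebra.comul (R := k)

omit [Coalgebra.IsCocomm k H] in
lemma isCoalgMap_Ic : IsCoalgMap (Ic k H) := by
  change Coalgebra.comul (R := k) ∘ₗ LinearMap.id =
    (TensorProduct.map LinearMap.id LinearMap.id) ∘ₗ Coalgebra.comul (R := k)
  rw [TensorProduct.map_id, LinearMap.comp_id, LinearMap.id_comp]

omit [Coalgebra.IsCocomm k H] in
lemma map_one_left (g : H →ₗ[k] H) (c : H) :
    TensorProduct.map (1 : EH k H).ofConv g (Coalgebra.comul (R := k) c) = 1 ⊗ₜ[k] g c := by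
  have h1 : TensorProduct.map (1 : EH k H).ofConv g =
      (TensorProduct.map (Algebra.linearMap k H) g) ∘ₗ
        (Coalgebra.counit (R := k) (A := H)).rTensor H := by
    rw [LinearMap.rTensor, ← TensorProduct.map_comp, LinearMap.comp_id]
    rfl
  rw [h1, LinearMap.comp_apply, Coalgebra.rTensor_counit_comul, TensorProduct.map_tmul]
  simp

omit [Coalgebra.IsCocomm k H] in
lemma map_one_right (g : H →ₗ[k] H) (c : H) :
    TensorProduct.map g (1 : EH k H).ofConv (Coalgebra.comul (R := k) c) = g c ⊗ₜ[k] 1 := by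
  have h1 : TensorProduct.map g (1 : EH k H).ofConv =
      (TensorProduct.map g (Algebra.linearMap k H)) ∘ₗ
        (Coalgebra.counit (R := k) (A := H)).lTensor H := by
    rw [LinearMap.lTensor, ← TensorProduct.map_comp, LinearMap.comp_id]
    rfl
  rw [h1, LinearMap.comp_apply, Coalgebra.lTensor_counit_comul, TensorProduct.map_tmul]
  simp

omit [Coalgebra.IsCocomm k H] in
lemma isCoalgMap_one : IsCoalgMap (1 : EH k H) := by
  apply LinearMap.ext
  intro c
  rw [LinearMap.comp_apply, LinearMap.comp_apply, map_one_left]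
  change Coalgebra.comul (R := k) (algebraMap k H (Coalgebra.counit (R := k) c)) =
    1 ⊗ₜ[k] algebraMap k H (Coalgebra.counit (R := k) c)
  rw [Algebra.algebraMap_eq_smul_one, map_smul, Bialgebra.comul_one, TensorProduct.tmul_smul]
  rfl

lemma isCoalgMap_mul {f g : EH k H} (hf : IsCoalgMap f) (hg : IsCoalgMap g) :
    IsCoalgMap (f * g) := by
  unfold IsCoalgMap at hf hg ⊢
  have h1 := LinearMap.algHom_comp_convMul_distrib (Bialgebra.comulAlgHom k H) f g
  rw [Bialgebra.toLinearMap_comulAlgHom] at h1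
  rw [h1, hf, hg]
  have h2 := LinearMap.convMul_comp_coalgHom_distrib
    (toConv (TensorProduct.map f.ofConv f.ofConv)) (toConv (TensorProduct.map g.ofConv g.ofConv))
    (Coalgebra.comulCoalgHom k H)
  have h3 : (Coalgebra.comulCoalgHom k H).toLinearMap = Coalgebra.comul (R := k) := rfl
  rw [h3] at h2
  rw [← h2, TensorProduct.map_convMul_map]

lemma isCoalgMap_pow {f : EH k H} (hf : IsCoalgMap f) (n : ℕ) : IsCoalgMap (f ^ n) := by
  induction n with
  | zero => rw [pow_zero]; exact isCoalgMap_one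
  | succ n ih => rw [pow_succ]; exact isCoalgMap_mul ih hf

omit [Coalgebra.IsCocomm k H] in
/-- `f ⊗ g` applied to `Δ d` only depends on `f, g` on `D`. -/
lemma map_congr_of_eqOnD {D : Submodule k H} (hD : IsSubcoalg D) {f f' g g' : EH k H}
    (hf : EqOnD D f f') (hg : EqOnD D g g') {d : H} (hd : d ∈ D) :
    TensorProduct.map f.ofConv g.ofConv (Coalgebra.comul (R := k) d) =
      TensorProduct.map f'.ofConv g'.ofConv (Coalgebra.comul (R := k) d) := by
  obtain ⟨z, hz⟩ := hD d hd
  have h1 : f.ofConv ∘ₗ D.subtype = f'.ofConv ∘ₗ D.subtype := LinearMap.ext fun a => hf a a.2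
  have h2 : g.ofConv ∘ₗ D.subtype = g'.ofConv ∘ₗ D.subtype := LinearMap.ext fun a => hg a a.2
  rw [← hz, ← LinearMap.comp_apply (TensorProduct.map f.ofConv g.ofConv),
    ← LinearMap.comp_apply (TensorProduct.map f'.ofConv g'.ofConv),
    ← TensorProduct.map_comp, ← TensorProduct.map_comp, h1, h2]

end CoalgMap

end Groth.Agent.Lib.Helper7.CMM
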