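import Groth.Agent.Lib.Helper7.CMM3

/-!
# Eulerian components and surjectivity (helper7, for S4135)
-/

universe u v w

open TensorProduct WithConv Polynomial

namespace Groth.Agent.Lib.Helper7.CMM

open HopfRep Groth.Agent.Lib.Helper7.Comod

section Eval

variable {k : Type u} [Field k] {H : Type v} [Ring H] [Bialgebra k H]

lemma conv_sum_apply {A : Type w} [Semiring A] [Algebra k A] {ι : Type*} (s : Finset ι)
    (f : ι → WithConv (H →ₗ[k] A)) (d : H) : (∑ i ∈ s, f i) d = ∑ i ∈ s, (f i) d := by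
  change (∑ i ∈ s, f i).ofConv d = _
  rw [ofConv_sum, LinearMap.sum_apply]

lemma tmap_sum_left {ι : Type*} (s : Finset ι) (F : ι → (H →ₗ[k] H)) (g : H →ₗ[k] H) :
    TensorProduct.map (∑ i ∈ s, F i) g = ∑ i ∈ s, TensorProduct.map (F i) g := by
  classical
  induction s using Finset.induction_on with
  | empty => simp
  | insert a s ha ih =>
    rw [Finset.sum_insert ha, Finset.sum_insert ha, TensorProduct.map_add_left, ih]

lemma tmap_sum_right {ι : Type*} (s : Finset ι) (f : H →ₗ[k] H) (G : ι → (H →ₗ[k] H)) :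
    TensorProduct.map f (∑ i ∈ s, G i) = ∑ i ∈ s, TensorProduct.map f (G i) := by
  classical
  induction s using Finset.induction_on with
  | empty => simp
  | insert a s ha ih =>
    rw [Finset.sum_insert ha, Finset.sum_insert ha, TensorProduct.map_add_right, ih]

end Eval

section Euler

variable {k : Type u} [Field k] [CharZero k] {H : Type v} [Ring H] [Bialgebra k H]
  [Coalgebra.IsCocomm k H]
variable {D : Submodule k H} (hD : IsSubcoalg D) {N : ℕ} (hN : EqOnD D (Jc k H ^ N) 0)

omit [Coalgebra.IsCocomm k H] in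
lemma Ppoly_apply (N m : ℕ) (d : H) :
    Ppoly k H N m d = ∑ i ∈ Finset.range N, (m : k) ^ i • Ecoef k H N i d := by
  rw [Ppoly, conv_sum_apply]
  rfl

include hD hN in
omit [Coalgebra.IsCocomm k H] in
lemma Ecoef_zero_eqOnD (hN1 : 1 ≤ N) : EqOnD D (Ecoef k H N 0) 1 := by
  intro d hd
  have h := Ic_pow_eqOnD hD hN 0 d hd
  rw [pow_zero, Ppoly_apply, Finset.sum_eq_single 0] at h
  · rw [h]
    simp
  · intro i _ hi
    rw [Nat.cast_zero, zero_pow hi, zero_smul]
  · intro h0
    exfalso
    exact h0 (Finset.mem_range.2 (by omega))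

include hD hN in
omit [Coalgebra.IsCocomm k H] in
lemma sum_Ecoef_apply {d : H} (hd : d ∈ D) :
    ∑ i ∈ Finset.range N, Ecoef k H N i d = d := by
  have h := Ic_pow_eqOnD hD hN 1 d hd
  rw [pow_one, Ppoly_apply, Ic_apply] at h
  refine Eq.trans ?_ h.symm
  refine Finset.sum_congr rfl fun i _ => ?_
  rw [Nat.cast_one, one_pow, one_smul]

include hD hN in
omit [Coalgebra.IsCocomm k H] in
/-- `E_1 * E_j = (j+1) E_{j+1}` on `D`. -/
lemma Ecoef_mul_apply {d : H} (hd : d ∈ D) (hN2 : 2 ≤ N) (j : ℕ) :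
    (Ecoef k H N 1 * Ecoef k H N j) d = ((j + 1 : ℕ) : k) • Ecoef k H N (j + 1) d := by
  by_cases hj : j < N
  swap
  · rw [Ecoef_eq_zero (not_lt.1 hj), Ecoef_eq_zero (by omega : N ≤ j + 1), mul_zero]
    change (0 : H) = _ • (0 : H)
    rw [smul_zero]
  have hB : ∀ m' : ℕ, (Ecoef k H N 1 * Ic k H ^ m') d =
      ∑ l ∈ Finset.range N, (((l.choose 1 : ℕ) : k) * (m' : k) ^ (l - 1)) • Ecoef k H N l d := by
    intro m'
    refine extract (k := k) N (fun i => (Ecoef k H N i * Ic k H ^ m') d)
      (fun i => ∑ l ∈ Finset.range N,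
        (((l.choose i : ℕ) : k) * (m' : k) ^ (l - i)) • Ecoef k H N l d) ?_ 1 (by omega)
    intro m
    have hL : ∑ i ∈ Finset.range N, (m : k) ^ i • (Ecoef k H N i * Ic k H ^ m') d =
        (Ppoly k H N (m + m')) d := by
      have e1 : Ppoly k H N m * Ic k H ^ m' =
          ∑ i ∈ Finset.range N, (m : k) ^ i • (Ecoef k H N i * Ic k H ^ m') := by
        rw [Ppoly, Finset.sum_mul]
        exact Finset.sum_congr rfl fun i _ => smul_mul_assoc _ _ _
      have e2 : (Ppoly k H N m * Ic k H ^ m') d = (Ic k H ^ m * Ic k H ^ m') d :=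
        (mul_congr hD (Ic_pow_eqOnD hD hN m) (EqOnD.refl D _) d hd).symm
      rw [← pow_add] at e2
      rw [← Ic_pow_eqOnD hD hN (m + m') d hd, ← e2, e1, conv_sum_apply]
      rfl
    rw [hL, Ppoly_apply]
    simp only [Finset.smul_sum, smul_smul]
    rw [Finset.sum_comm]
    refine Finset.sum_congr rfl fun l hl => ?_
    rw [← Finset.sum_smul]
    congr 1
    rw [Finset.mem_range] at hl
    rw [Nat.cast_add, add_pow]
    apply Finset.sum_subset_zero_on_sdiff
    · intro x hx
      rw [Finset.mem_range] at hx ⊢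
      omega
    · intro x hx
      rw [Finset.mem_sdiff, Finset.mem_range, Finset.mem_range] at hx
      rw [Nat.choose_eq_zero_of_lt (by omega), Nat.cast_zero, zero_mul, mul_zero]
    · intro x _
      ring
  have hC : ∀ m' : ℕ, ∑ i ∈ Finset.range N, (m' : k) ^ i • (Ecoef k H N 1 * Ecoef k H N i) d =
      ∑ i ∈ Finset.range N, (m' : k) ^ i • (((i + 1 : ℕ) : k) • Ecoef k H N (i + 1) d) := by
    intro m'
    have e1 : Ecoef k H N 1 * Ppoly k H N m' =
        ∑ i ∈ Finset.range N, (m' : k) ^ i • (Ecoef k H N 1 * Ecoef k H N i) := by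
      rw [Ppoly, Finset.mul_sum]
      exact Finset.sum_congr rfl fun i _ => mul_smul_comm _ _ _
    have e2 : (Ecoef k H N 1 * Ppoly k H N m') d = (Ecoef k H N 1 * Ic k H ^ m') d :=
      (mul_congr hD (EqOnD.refl D _) (Ic_pow_eqOnD hD hN m') d hd).symm
    have e3 : ∑ i ∈ Finset.range N, (m' : k) ^ i • (Ecoef k H N 1 * Ecoef k H N i) d =
        (Ecoef k H N 1 * Ppoly k H N m') d := by
      rw [e1, conv_sum_apply]
      rfl
    rw [e3, e2, hB m']
    obtain ⟨N', rfl⟩ : ∃ N', N = N' + 1 := ⟨N - 1, by omega⟩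
    rw [Finset.sum_range_succ', Finset.sum_range_succ (fun i => (m' : k) ^ i •
      (((i + 1 : ℕ) : k) • Ecoef k H (N' + 1) (i + 1) d))]
    rw [Ecoef_eq_zero (le_refl (N' + 1))]
    simp only [Nat.choose_one_right, Nat.cast_zero, zero_mul, zero_smul, add_zero,
      Nat.add_sub_cancel]
    change _ = _ + _ • (_ • (0 : H))
    rw [smul_zero, smul_zero, add_zero]
    refine Finset.sum_congr rfl fun i _ => ?_
    rw [smul_smul, mul_comm]
  exact extract (k := k) N _ _ hC j hj

include hD hN in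
/-- `E_1 d` is primitive for `d ∈ D`. -/
lemma Ecoef_one_prim {d : H} (hd : d ∈ D) (hN2 : 2 ≤ N) :
    Coalgebra.comul (R := k) (Ecoef k H N 1 d) =
      Ecoef k H N 1 d ⊗ₜ[k] 1 + 1 ⊗ₜ[k] Ecoef k H N 1 d := by
  have h := extract2 (k := k) N hN2 (fun i => Coalgebra.comul (R := k) (Ecoef k H N i d))
    (fun i j => TensorProduct.map (Ecoef k H N i).ofConv (Ecoef k H N j).ofConv
      (Coalgebra.comul (R := k) d)) ?_
  · change Coalgebra.comul (R := k) (Ecoef k H N 1 d) = _ at h
    rw [h]
    have h0 := Ecoef_zero_eqOnD hD hN (by omega : 1 ≤ N)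
    rw [map_congr_of_eqOnD hD h0 (EqOnD.refl D _) hd, map_one_left,
      map_congr_of_eqOnD hD (EqOnD.refl D _) h0 hd, map_one_right, add_comm]
  · intro m
    have hc := isCoalgMap_pow (isCoalgMap_Ic (k := k) (H := H)) m
    have h1 := LinearMap.congr_fun hc d
    simp only [LinearMap.comp_apply] at h1
    have hL : Coalgebra.comul (R := k) ((Ic k H ^ m).ofConv d) =
        ∑ i ∈ Finset.range N, (m : k) ^ i • Coalgebra.comul (R := k) (Ecoef k H N i d) := by
      have : (Ic k H ^ m).ofConv d = Ppoly k H N m d := Ic_pow_eqOnD hD hN m d hd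
      rw [this, Ppoly_apply, map_sum]
      exact Finset.sum_congr rfl fun i _ => map_smul _ _ _
    have hR : TensorProduct.map (Ic k H ^ m).ofConv (Ic k H ^ m).ofConv
        (Coalgebra.comul (R := k) d) =
        ∑ i ∈ Finset.range N, ∑ j ∈ Finset.range N, (m : k) ^ (i + j) •
          TensorProduct.map (Ecoef k H N i).ofConv (Ecoef k H N j).ofConv
            (Coalgebra.comul (R := k) d) := by
      rw [map_congr_of_eqOnD hD (Ic_pow_eqOnD hD hN m) (Ic_pow_eqOnD hD hN m) hd]
      rw [Ppoly, ofConv_sum, tmap_sum_left, LinearMap.sum_apply]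
      refine Finset.sum_congr rfl fun i _ => ?_
      rw [tmap_sum_right, LinearMap.sum_apply]
      refine Finset.sum_congr rfl fun j _ => ?_
      rw [ofConv_smul, ofConv_smul, TensorProduct.map_smul_left, TensorProduct.map_smul_right,
        LinearMap.smul_apply, LinearMap.smul_apply, smul_smul, pow_add]
    rw [← hL, h1, hR]

include hD hN in
/-- Everything in `D` lies in any subalgebra containing the primitives. -/
theorem le_of_prim_le {d : H} (hd : d ∈ D) (B : Subalgebra k H)
    (hB : ∀ x : H, Coalgebra.comul (R := k) x = x ⊗ₜ[k] 1 + 1 ⊗ₜ[k] x → x ∈ B) : d ∈ B := by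
  -- enlarge `N` so that `2 ≤ N`
  have hN' : EqOnD D (Jc k H ^ (N + 2)) 0 := Jc_pow_eqOnD_zero hD hN (by omega)
  have hE : ∀ n : ℕ, ∀ d ∈ D, Ecoef k H (N + 2) n d ∈ B := by
    intro n
    induction n with
    | zero =>
      intro d hd
      rw [Ecoef_zero_eqOnD hD hN' (by omega) d hd, LinearMap.convOne_apply]
      exact B.algebraMap_mem _
    | succ n ih =>
      intro d hd
      have h1 := Ecoef_mul_apply hD hN' hd (by omega) n
      have h2 : Ecoef k H (N + 2) (n + 1) d =
          (((n + 1 : ℕ) : k))⁻¹ • (Ecoef k H (N + 2) 1 * Ecoef k H (N + 2) n) d := by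
        rw [h1, smul_smul, inv_mul_cancel₀ (Nat.cast_ne_zero.2 (Nat.succ_ne_zero n)), one_smul]
      rw [h2]
      refine B.smul_mem ?_ _
      rw [LinearMap.convMul_apply]
      obtain ⟨z, hz⟩ := hD d hd
      rw [← hz]
      clear hz h1 h2
      induction z using TensorProduct.induction_on with
      | zero => simp only [map_zero]; exact B.zero_mem
      | tmul a b =>
        simp only [TensorProduct.map_tmul, LinearMap.mul'_apply, Submodule.subtype_apply]
        exact B.mul_mem (hB _ (Ecoef_one_prim hD hN' a.2 (by omega))) (ih b b.2)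
      | add a b ha hb => simp only [map_add]; exact B.add_mem ha hb
  rw [← sum_Ecoef_apply hD hN' hd]
  exact B.sum_mem fun i _ => hE i d hd

end Euler

section Final

variable {k : Type u} [Field k] [CharZero k] {H : Type v} [Ring H] [Bialgebra k H]
  [Coalgebra.IsCocomm k H]

/-- **Generation by primitives.** A connected cocommutative bialgebra over a field of
characteristic zero is generated by its primitive elements. -/
theorem mem_of_prim_le (hconn : ∀ D : Submodule k H, IsSubcoalg D → D ≠ ⊥ → (1 : H) ∈ D)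
    (B : Subalgebra k H)
    (hB : ∀ x : H, Coalgebra.comul (R := k) x = x ⊗ₜ[k] 1 + 1 ⊗ₜ[k] x → x ∈ B) (x : H) : x ∈ B := by
  obtain ⟨D, N, hx, -, hD, hN⟩ := exists_subcoalg_nilp hconn x
  exact le_of_prim_le hD hN hx B hB

end Final

end Groth.Agent.Lib.Helper7.CMM
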