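import Mathlib.RingTheory.Bialgebra.Basic
import Mathlib.RingTheory.Bialgebra.TensorProduct
import Mathlib.Data.Finset.Sort
import Mathlib.Data.Finsupp.Antidiagonal
import Mathlib.Algebra.Group.Finsupp
import Mathlib.Data.Nat.Choose.Sum
import Mathlib.Algebra.Order.Antidiag.Prod
import Mathlib.Tactic.FieldSimp
import Mathlib.Tactic.Ring

/-!
# Ordered products of divided powers of primitive elements (helper7, for S4135)
-/

universe u v w

open TensorProduct

namespace Groth.Agent.Lib.Helper7.CMM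

section OP

variable {I : Type w} [LinearOrder I] {R : Type v} [Monoid R]

/-- The ordered product `∏_{i increasing} y i (a i)`. -/
noncomputable def OP (y : I → ℕ → R) (a : I →₀ ℕ) : R :=
  ((a.support.sort (· ≤ ·)).map (fun i => y i (a i))).prod

lemma OP_zero (y : I → ℕ → R) : OP y 0 = 1 := by
  simp [OP]

lemma OP_single_add (y : I → ℕ → R) (hy : ∀ i, y i 0 = 1) (i : I) (n : ℕ) (f : I →₀ ℕ)
    (hf : ∀ j ∈ f.support, i < j) : OP y (Finsupp.single i n + f) = y i n * OP y f := by
  classical
  have hi : i ∉ f.support := fun h => lt_irrefl i (hf i h)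
  have hfi : f i = 0 := Finsupp.notMem_support_iff.1 hi
  by_cases hn : n = 0
  · subst hn
    rw [Finsupp.single_zero, zero_add, hy, one_mul]
  have hdisj : Disjoint (Finsupp.single i n).support f.support := by
    rw [Finsupp.support_single_ne_zero i hn, Finset.disjoint_singleton_left]
    exact hi
  have hsupp : (Finsupp.single i n + f).support = insert i f.support := by
    rw [Finsupp.support_add_eq hdisj, Finsupp.support_single_ne_zero i hn, Finset.insert_eq]
  unfold OP
  rw [hsupp, Finset.sort_insert (r := (· ≤ ·)) (fun b hb => (hf b hb).le) hi, List.map_cons,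
    List.prod_cons]
  congr 1
  · rw [Finsupp.add_apply, Finsupp.single_eq_same, hfi, add_zero]
  · congr 1
    apply List.map_congr_left
    intro j hj
    rw [Finset.mem_sort] at hj
    have hji : j ≠ i := fun h => hi (h ▸ hj)
    rw [Finsupp.add_apply, Finsupp.single_eq_of_ne hji, zero_add]

lemma OP_map {S : Type*} [Monoid S] (φ : R →* S) (y : I → ℕ → R) (a : I →₀ ℕ) :
    φ (OP y a) = OP (fun i n => φ (y i n)) a := by
  unfold OP
  rw [map_list_prod, List.map_map]
  rfl

end OP

section Antidiag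

variable {I : Type w} [DecidableEq I]

/-- Reindexing the antidiagonal of `single i n + f`. -/
lemma sum_antidiagonal_single_add {M : Type*} [AddCommMonoid M] (i : I) (n : ℕ) (f : I →₀ ℕ)
    (hfi : f i = 0) (G : (I →₀ ℕ) → (I →₀ ℕ) → M) :
    ∑ p ∈ Finset.antidiagonal n, ∑ q ∈ Finset.antidiagonal f,
        G (Finsupp.single i p.1 + q.1) (Finsupp.single i p.2 + q.2) =
      ∑ r ∈ Finset.antidiagonal (Finsupp.single i n + f), G r.1 r.2 := by
  rw [← Finset.sum_product']
  refine Finset.sum_nbij'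
    (fun pq => (Finsupp.single i pq.1.1 + pq.2.1, Finsupp.single i pq.1.2 + pq.2.2))
    (fun r => ((r.1 i, r.2 i), (r.1.erase i, r.2.erase i))) ?_ ?_ ?_ ?_ ?_
  · rintro ⟨⟨p1, p2⟩, ⟨b, c⟩⟩ h
    simp only [Finset.mem_product, Finset.mem_antidiagonal] at h ⊢
    obtain ⟨h1, h2⟩ := h
    rw [← h1, ← h2, Finsupp.single_add]
    abel
  · rintro ⟨r1, r2⟩ h
    simp only [Finset.mem_product, Finset.mem_antidiagonal] at h ⊢
    constructor
    · have := DFunLike.congr_fun h i
      simpa [hfi] using this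
    · rw [← Finsupp.erase_add, h, Finsupp.erase_add, Finsupp.erase_single, zero_add]
      exact Finsupp.erase_of_notMem_support (Finsupp.notMem_support_iff.2 hfi)
  · rintro ⟨⟨p1, p2⟩, ⟨b, c⟩⟩ h
    simp only [Finset.mem_product, Finset.mem_antidiagonal] at h
    obtain ⟨h1, h2⟩ := h
    have hbc := DFunLike.congr_fun h2 i
    rw [Finsupp.add_apply, hfi] at hbc
    have hb : b i = 0 := by omega
    have hc : c i = 0 := by omega
    have hb' : b.erase i = b :=
      Finsupp.erase_of_notMem_support (Finsupp.notMem_support_iff.2 hb)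
    have hc' : c.erase i = c :=
      Finsupp.erase_of_notMem_support (Finsupp.notMem_support_iff.2 hc)
    simp only [Finsupp.add_apply, Finsupp.single_eq_same, hb, hc, add_zero, Finsupp.erase_add,
      Finsupp.erase_single, zero_add, hb', hc']
  · rintro ⟨r1, r2⟩ _
    simp only [Finsupp.single_add_erase]
  · rintro ⟨⟨p1, p2⟩, ⟨b, c⟩⟩ _
    rfl

end Antidiag

section DP

variable {k : Type u} [Field k] [CharZero k] {R : Type v} [Ring R] [Algebra k R]

/-- Divided powers. -/
noncomputable def dp (k : Type u) [Field k] {R : Type v} [Ring R] [Algebra k R] (x : R) (n : ℕ) :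
    R := ((n.factorial : k)⁻¹) • x ^ n

omit [CharZero k] in
lemma dp_zero (x : R) : dp k x 0 = 1 := by
  simp [dp]

omit [CharZero k] in
lemma dp_map {S : Type*} [Ring S] [Algebra k S] (φ : R →ₐ[k] S) (x : R) (n : ℕ) :
    φ (dp k x n) = dp k (φ x) n := by
  rw [dp, map_smul, map_pow, dp]

lemma mul_dp (x : R) (n : ℕ) : x * dp k x n = ((n + 1 : ℕ) : k) • dp k x (n + 1) := by
  rw [dp, dp, mul_smul_comm, ← pow_succ', smul_smul, Nat.factorial_succ, Nat.cast_mul,
    mul_inv, ← mul_assoc, mul_inv_cancel₀ (Nat.cast_ne_zero.2 (Nat.succ_ne_zero n)), one_mul]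

variable {I : Type w} [LinearOrder I]

/-- Ordered divided-power monomials. -/
noncomputable def Dm (k : Type u) [Field k] {R : Type v} [Ring R] [Algebra k R] (x : I → R)
    (a : I →₀ ℕ) : R :=
  OP (fun i n => dp k (x i) n) a

omit [CharZero k] in
lemma Dm_zero (x : I → R) : Dm k x 0 = 1 := OP_zero _

omit [CharZero k] in
lemma Dm_single_add (x : I → R) (i : I) (n : ℕ) (f : I →₀ ℕ) (hf : ∀ j ∈ f.support, i < j) :
    Dm k x (Finsupp.single i n + f) = dp k (x i) n * Dm k x f :=
  OP_single_add _ (fun i => dp_zero (x i)) i n f hf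

omit [CharZero k] in
lemma Dm_map {S : Type*} [Ring S] [Algebra k S] (φ : R →ₐ[k] S) (x : I → R) (a : I →₀ ℕ) :
    φ (Dm k x a) = Dm k (fun i => φ (x i)) a := by
  unfold Dm
  rw [← AlgHom.coe_toMonoidHom, OP_map]
  congr 1
  funext i n
  exact dp_map φ (x i) n

end DP

section Bialg

variable {k : Type u} [Field k] [CharZero k] {H : Type v} [Ring H] [Bialgebra k H]

omit [CharZero k] in
lemma counit_eq_zero_of_prim {x : H}
    (hx : Coalgebra.comul (R := k) x = x ⊗ₜ[k] 1 + 1 ⊗ₜ[k] x) :
    Coalgebra.counit (R := k) x = 0 := by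
  have h1 := Coalgebra.rTensor_counit_comul (R := k) x
  rw [hx, map_add, LinearMap.rTensor_tmul, LinearMap.rTensor_tmul, Bialgebra.counit_one] at h1
  have h2 : Coalgebra.counit (R := k) x ⊗ₜ[k] (1 : H) = 0 := by
    have := add_eq_right.1 h1
    exact this
  have h3 := congrArg (TensorProduct.lid k H) h2
  rw [TensorProduct.lid_tmul, map_zero] at h3
  have h4 := congrArg (Coalgebra.counit (R := k)) h3
  rwa [map_smul, Bialgebra.counit_one, smul_eq_mul, mul_one, map_zero] at h4

lemma comul_dp {x : H} (hx : Coalgebra.comul (R := k) x = x ⊗ₜ[k] 1 + 1 ⊗ₜ[k] x) (n : ℕ) :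
    Coalgebra.comul (R := k) (dp k x n) =
      ∑ p ∈ Finset.antidiagonal n, dp k x p.1 ⊗ₜ[k] dp k x p.2 := by
  have hcomm : Commute (x ⊗ₜ[k] (1 : H)) ((1 : H) ⊗ₜ[k] x) := by
    change _ * _ = _ * _
    rw [Algebra.TensorProduct.tmul_mul_tmul, Algebra.TensorProduct.tmul_mul_tmul]
    simp only [mul_one, one_mul]
  rw [dp, map_smul, Bialgebra.comul_pow, hx, hcomm.add_pow', Finset.smul_sum]
  refine Finset.sum_congr rfl fun p hp => ?_
  rw [Finset.mem_antidiagonal] at hp
  rw [Algebra.TensorProduct.tmul_pow, Algebra.TensorProduct.tmul_pow, one_pow, one_pow,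
    Algebra.TensorProduct.tmul_mul_tmul, mul_one, one_mul, dp, dp, TensorProduct.smul_tmul_smul,
    ← Nat.cast_smul_eq_nsmul k, smul_smul]
  congr 1
  have h1 : ((n.choose p.1 : ℕ) : k) * (p.1.factorial : k) * (p.2.factorial : k) =
      (n.factorial : k) := by
    have h5 := Nat.choose_mul_factorial_mul_factorial (show p.1 ≤ n by omega)
    have h6 : n - p.1 = p.2 := by omega
    rw [h6] at h5
    exact_mod_cast h5
  have h2 : (p.1.factorial : k) ≠ 0 := Nat.cast_ne_zero.2 (Nat.factorial_ne_zero _)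
  have h3 : (p.2.factorial : k) ≠ 0 := Nat.cast_ne_zero.2 (Nat.factorial_ne_zero _)
  have h4 : (n.factorial : k) ≠ 0 := Nat.cast_ne_zero.2 (Nat.factorial_ne_zero _)
  have h7 : ((n.choose p.1 : ℕ) : k) ≠ 0 :=
    Nat.cast_ne_zero.2 (Nat.choose_pos (show p.1 ≤ n by omega)).ne'
  rw [← h1]
  field_simp

omit [CharZero k] in
lemma counit_dp {x : H} (hx : Coalgebra.counit (R := k) x = 0) {n : ℕ} (hn : n ≠ 0) :
    Coalgebra.counit (R := k) (dp k x n) = 0 := by
  rw [dp, map_smul, Bialgebra.counit_pow, hx, zero_pow hn, smul_zero]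

variable {I : Type w} [LinearOrder I]

theorem comul_Dm (x : I → H)
    (hx : ∀ i, Coalgebra.comul (R := k) (x i) = x i ⊗ₜ[k] 1 + 1 ⊗ₜ[k] x i) (a : I →₀ ℕ) :
    Coalgebra.comul (R := k) (Dm k x a) =
      ∑ p ∈ Finset.antidiagonal a, Dm k x p.1 ⊗ₜ[k] Dm k x p.2 := by
  classical
  induction a using Finsupp.induction_on_min with
  | zero =>
    rw [Finsupp.antidiagonal_zero, Finset.sum_singleton, Dm_zero, Bialgebra.comul_one]
    rfl
  | single_add i n f hf hn ih =>
    have hfi : f i = 0 := Finsupp.notMem_support_iff.1 fun h => lt_irrefl i (hf i h)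
    rw [Dm_single_add x i n f hf, Bialgebra.comul_mul, comul_dp (hx i), ih, Finset.sum_mul_sum,
      ← sum_antidiagonal_single_add i n f hfi (fun b c => Dm k x b ⊗ₜ[k] Dm k x c)]
    refine Finset.sum_congr rfl fun p _ => ?_
    refine Finset.sum_congr rfl fun q hq => ?_
    rw [Finset.mem_antidiagonal] at hq
    have hq1 : ∀ j ∈ q.1.support, i < j := by
      intro j hj
      apply hf j
      rw [Finsupp.mem_support_iff] at hj ⊢
      have := DFunLike.congr_fun hq j
      rw [Finsupp.add_apply] at this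
      omega
    have hq2 : ∀ j ∈ q.2.support, i < j := by
      intro j hj
      apply hf j
      rw [Finsupp.mem_support_iff] at hj ⊢
      have := DFunLike.congr_fun hq j
      rw [Finsupp.add_apply] at this
      omega
    rw [Algebra.TensorProduct.tmul_mul_tmul, Dm_single_add x i p.1 q.1 hq1,
      Dm_single_add x i p.2 q.2 hq2]

omit [CharZero k] in
lemma counit_Dm (x : I → H) (hx : ∀ i, Coalgebra.counit (R := k) (x i) = 0) (a : I →₀ ℕ)
    (ha : a ≠ 0) : Coalgebra.counit (R := k) (Dm k x a) = 0 := by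
  induction a using Finsupp.induction_on_min with
  | zero => exact absurd rfl ha
  | single_add i n f hf hn ih =>
    rw [Dm_single_add x i n f hf, Bialgebra.counit_mul, counit_dp (hx i) hn, zero_mul]

end Bialg

end Groth.Agent.Lib.Helper7.CMM
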