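import Groth.Agent.Lib.Helper7.CMM5
import Groth.Agent.Lib.Helper7.TS3
import Mathlib.Data.Finsupp.Weight

/-!
# Linear independence of ordered divided-power monomials (helper7, for S4135)
-/

universe u v w

open TensorProduct

namespace Groth.Agent.Lib.Helper7.CMM

section Lin

variable {k : Type u} [Field k] {V : Type v} [AddCommGroup V] [Module k V]

lemma coeff_eq_zero_of_dual {T : Type w} (v : T → V) (l : T →₀ k)
    (hl : Finsupp.linearCombination k v l = 0) (a₀ : T) (Φ : V →ₗ[k] k)
    (hΦ : ∀ a ∈ l.support, a ≠ a₀ → Φ (v a) = 0) (h₀ : Φ (v a₀) = 1) : l a₀ = 0 := by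
  have h1 := congrArg Φ hl
  rw [Finsupp.linearCombination_apply, Finsupp.sum, map_sum, map_zero,
    Finset.sum_eq_single a₀] at h1
  · rwa [map_smul, h₀, smul_eq_mul, mul_one] at h1
  · intro a ha hne
    rw [map_smul, hΦ a ha hne, smul_zero]
  · intro ha
    rw [Finsupp.notMem_support_iff.1 ha, zero_smul, map_zero]

end Lin

section LI

variable {k : Type u} [Field k] [CharZero k] {H : Type v} [Ring H] [Bialgebra k H]
variable {I : Type w} [LinearOrder I]

omit [CharZero k] in
lemma Dm_single_one (x : I → H) (i : I) : Dm k x (Finsupp.single i 1) = x i := by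
  have h := Dm_single_add (k := k) x i 1 0 (by simp)
  rw [add_zero, Dm_zero, mul_one] at h
  rw [h, dp]
  simp

variable (x : I → H)
  (hx : ∀ i, Coalgebra.comul (R := k) (x i) = x i ⊗ₜ[k] 1 + 1 ⊗ₜ[k] x i)
  (hli : LinearIndependent k x)

/-- linear independence in degrees `≤ n`. -/
def LIn (k : Type u) [Field k] {H : Type v} [Ring H] [Bialgebra k H] (x : I → H) (n : ℕ) : Prop :=
  LinearIndependent k (fun a : {a : I →₀ ℕ // Finsupp.degree a ≤ n} => Dm k x a.1)

include hx hli in
omit [CharZero k] in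
lemma LIn_one : LIn k x 1 := by
  classical
  unfold LIn
  rw [linearIndependent_iff]
  intro l hl
  have hcase : ∀ a : {a : I →₀ ℕ // Finsupp.degree a ≤ 1},
      a.1 = 0 ∨ ∃ i, a.1 = Finsupp.single i 1 := by
    rintro ⟨a, ha⟩
    rcases Nat.lt_or_ge (Finsupp.degree a) 1 with h | h
    · left
      exact (Finsupp.degree_eq_zero_iff a).1 (by omega)
    · right
      have h1 : a ∈ {d : I →₀ ℕ | Finsupp.degree d = 1} := le_antisymm ha h
      rw [← Finsupp.range_single_one] at h1
      obtain ⟨i, hi⟩ := h1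
      exact ⟨i, hi.symm⟩
  have hε : ∀ i, Coalgebra.counit (R := k) (x i) = 0 := fun i => counit_eq_zero_of_prim (hx i)
  -- coefficient at zero
  have h0 : l ⟨0, by simp⟩ = 0 := by
    refine coeff_eq_zero_of_dual _ l hl _ (Coalgebra.counit (R := k)) ?_ ?_
    · intro a _ hne
      refine counit_Dm x hε a.1 fun h => hne (Subtype.ext h)
    · change Coalgebra.counit (R := k) (Dm k x 0) = 1
      rw [Dm_zero, Bialgebra.counit_one]
  ext a
  rw [Finsupp.zero_apply]
  rcases hcase a with h | ⟨i₀, h⟩
  · have : a = ⟨0, by simp⟩ := Subtype.ext h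
    rw [this, h0]
  · obtain ⟨θ, hθ⟩ := TS.exists_linearMap_of_li hli (fun i => if i = i₀ then (1 : k) else 0)
    refine coeff_eq_zero_of_dual _ l hl a θ ?_ ?_
    · intro b hb hne
      rcases hcase b with hb0 | ⟨i, hbi⟩
      · exfalso
        have : b = ⟨0, by simp⟩ := Subtype.ext hb0
        rw [Finsupp.mem_support_iff, this] at hb
        exact hb h0
      · change θ (Dm k x b.1) = 0
        rw [hbi, Dm_single_one, hθ, if_neg]
        rintro rfl
        exact hne (Subtype.ext (hbi.trans h.symm))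
    · change θ (Dm k x a.1) = 1
      rw [h, Dm_single_one, hθ, if_pos rfl]

include hx in
lemma LIn_succ {n : ℕ} (hn : 1 ≤ n) (h : LIn k x n) : LIn k x (n + 1) := by
  classical
  unfold LIn at h ⊢
  rw [linearIndependent_iff]
  intro l hl
  -- functionals dual to the degree ≤ n part
  have hfun : ∀ b₀ : I →₀ ℕ, ∃ θ : H →ₗ[k] k, ∀ b : I →₀ ℕ, Finsupp.degree b ≤ n →
      θ (Dm k x b) = if b = b₀ then 1 else 0 := by
    intro b₀
    obtain ⟨θ, hθ⟩ := TS.exists_linearMap_of_li h (fun b => if b.1 = b₀ then (1 : k) else 0)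
    exact ⟨θ, fun b hb => hθ ⟨b, hb⟩⟩
  -- top degree coefficients vanish
  have htop : ∀ a₀ : {a : I →₀ ℕ // Finsupp.degree a ≤ n + 1}, Finsupp.degree a₀.1 = n + 1 →
      l a₀ = 0 := by
    rintro ⟨a₀, ha₀⟩ hdeg
    change Finsupp.degree a₀ = n + 1 at hdeg
    have hne : a₀ ≠ 0 := by
      rintro rfl
      rw [map_zero] at hdeg
      omega
    obtain ⟨i₀, hi₀⟩ : ∃ i₀, a₀ i₀ ≠ 0 := by
      by_contra hcon
      push Not at hcon
      exact hne (Finsupp.ext hcon)
    set b₀ : I →₀ ℕ := Finsupp.single i₀ 1 with hb₀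
    have hle : b₀ ≤ a₀ := by
      rw [hb₀, Finsupp.single_le_iff]
      omega
    set c₀ : I →₀ ℕ := a₀ - b₀ with hc₀
    have hsum : b₀ + c₀ = a₀ := add_tsub_cancel_of_le hle
    have hdb : Finsupp.degree b₀ = 1 := Finsupp.degree_single i₀ 1
    have hdc : Finsupp.degree c₀ = n := by
      have := congrArg Finsupp.degree hsum
      rw [map_add, hdb, hdeg] at this
      omega
    have hb₀ne : b₀ ≠ 0 := by
      intro h0
      rw [h0, map_zero] at hdb
      omega
    have hc₀ne : c₀ ≠ 0 := by
      intro h0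
      rw [h0, map_zero] at hdc
      omega
    obtain ⟨θb, hθb⟩ := hfun b₀
    obtain ⟨θc, hθc⟩ := hfun c₀
    let Ψ : H ⊗[k] H →ₗ[k] k := LinearMap.mul' k k ∘ₗ TensorProduct.map θb θc
    have hΨ : ∀ u w : H, Ψ (u ⊗ₜ[k] w) = θb u * θc w := fun u w => rfl
    have hkey : ∀ b c : I →₀ ℕ, Finsupp.degree b + Finsupp.degree c ≤ n + 1 →
        θb (Dm k x b) * θc (Dm k x c) = if b = b₀ ∧ c = c₀ then 1 else 0 := by
      intro b c hbc
      by_cases hb : Finsupp.degree b ≤ n
      · by_cases hc : Finsupp.degree c ≤ n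
        · rw [hθb b hb, hθc c hc]
          by_cases h1 : b = b₀ <;> by_cases h2 : c = c₀ <;> simp [h1, h2]
        · have hb0 : b = 0 := (Finsupp.degree_eq_zero_iff b).1 (by omega)
          rw [hθb b hb, if_neg (by rw [hb0]; exact fun h => hb₀ne h.symm), zero_mul, if_neg]
          rintro ⟨h1, -⟩
          exact hb₀ne (h1.symm.trans hb0)
      · have hc0 : c = 0 := (Finsupp.degree_eq_zero_iff c).1 (by omega)
        have hc : Finsupp.degree c ≤ n := by rw [hc0, map_zero]; omega
        rw [hθc c hc, if_neg (by rw [hc0]; exact fun h => hc₀ne h.symm), mul_zero, if_neg]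
        rintro ⟨-, h2⟩
        exact hc₀ne (h2.symm.trans hc0)
    have hΨD : ∀ a : I →₀ ℕ, Finsupp.degree a ≤ n + 1 →
        Ψ (Coalgebra.comul (R := k) (Dm k x a)) = if a = a₀ then 1 else 0 := by
      intro a ha
      rw [comul_Dm x hx, map_sum]
      have h1 : ∀ p ∈ Finset.HasAntidiagonal.antidiagonal a, Ψ (Dm k x p.1 ⊗ₜ[k] Dm k x p.2) =
          if p = (b₀, c₀) then 1 else 0 := by
        intro p hp
        rw [Finset.HasAntidiagonal.mem_antidiagonal] at hp
        rw [hΨ, hkey p.1 p.2 (by rw [← map_add, hp]; exact ha)]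
        by_cases h2 : p = (b₀, c₀)
        · rw [if_pos h2, if_pos]
          rw [h2]
          exact ⟨rfl, rfl⟩
        · rw [if_neg h2, if_neg]
          rintro ⟨h3, h4⟩
          exact h2 (Prod.ext h3 h4)
      rw [Finset.sum_congr rfl h1, Finset.sum_ite_eq']
      by_cases ha₀ : a = a₀
      · rw [if_pos ha₀, if_pos]
        rw [Finset.HasAntidiagonal.mem_antidiagonal, ha₀]
        exact hsum
      · rw [if_neg ha₀, if_neg]
        rw [Finset.HasAntidiagonal.mem_antidiagonal]
        intro h2
        exact ha₀ (h2.symm.trans hsum)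
    refine coeff_eq_zero_of_dual _ l hl _ (Ψ ∘ₗ Coalgebra.comul (R := k)) ?_ ?_
    · intro a _ hne
      rw [LinearMap.comp_apply, hΨD a.1 a.2, if_neg]
      intro h2
      exact hne (Subtype.ext h2)
    · rw [LinearMap.comp_apply, hΨD a₀ ha₀, if_pos rfl]
  -- lower degree coefficients vanish
  ext a₀
  rw [Finsupp.zero_apply]
  by_cases hdeg : Finsupp.degree a₀.1 ≤ n
  · obtain ⟨θ, hθ⟩ := hfun a₀.1
    refine coeff_eq_zero_of_dual _ l hl a₀ θ ?_ ?_
    · intro a ha hne
      have hda : Finsupp.degree a.1 ≤ n := by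
        by_contra hcon
        have : Finsupp.degree a.1 = n + 1 := le_antisymm a.2 (by omega)
        rw [Finsupp.mem_support_iff] at ha
        exact ha (htop a this)
      change θ (Dm k x a.1) = 0
      rw [hθ a.1 hda, if_neg]
      intro h2
      exact hne (Subtype.ext h2)
    · change θ (Dm k x a₀.1) = 1
      rw [hθ a₀.1 hdeg, if_pos rfl]
  · exact htop a₀ (le_antisymm a₀.2 (by omega))

include hx hli in
/-- **Linear independence of the ordered divided-power monomials** in linearly independent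
primitive elements. -/
theorem linearIndependent_Dm : LinearIndependent k (Dm k x) := by
  classical
  have hall : ∀ n, 1 ≤ n → LIn k x n := by
    intro n hn
    induction n, hn using Nat.le_induction with
    | base => exact LIn_one x hx hli
    | succ n hn ih => exact LIn_succ x hx hn ih
  rw [linearIndependent_iff]
  intro l hl
  set n := l.support.sup (fun a => Finsupp.degree a) + 1 with hn
  have hdeg : ∀ a ∈ l.support, Finsupp.degree a ≤ n := by
    intro a ha
    have := Finset.le_sup (f := fun a => Finsupp.degree a) ha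
    omega
  have hLI := hall n (by omega)
  unfold LIn at hLI
  rw [linearIndependent_iff] at hLI
  -- transfer `l` to the subtype
  let l' : {a : I →₀ ℕ // Finsupp.degree a ≤ n} →₀ k :=
    l.comapDomain Subtype.val Subtype.val_injective.injOn
  have hl' : Finsupp.mapDomain Subtype.val l' = l := by
    apply Finsupp.mapDomain_comapDomain _ Subtype.val_injective
    intro a ha
    exact ⟨⟨a, hdeg a ha⟩, rfl⟩
  have h2 : Finsupp.linearCombination k
      (fun a : {a : I →₀ ℕ // Finsupp.degree a ≤ n} => Dm k x a.1) l' = 0 := by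
    have h3 := Finsupp.linearCombination_mapDomain k (v' := Dm k x) Subtype.val l'
    rw [hl', hl] at h3
    exact h3.symm
  have h4 := hLI l' h2
  rw [← hl', h4, Finsupp.mapDomain_zero]

end LI

end Groth.Agent.Lib.Helper7.CMM
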