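import Groth.Agent.Lib.Helper7.CMM6
import Mathlib.Algebra.Lie.UniversalEnveloping
import Mathlib.Data.List.Sort
import Mathlib.Algebra.Algebra.Subalgebra.Lattice

/-!
# Ordered divided-power monomials span the universal enveloping algebra (helper7, for S4135)
-/

universe u v w

open TensorProduct

attribute [local instance] LieRing.ofAssociativeRing

namespace Groth.Agent.Lib.Helper7.CMM

section Span

variable {k : Type u} [Field k] [CharZero k] {L : Type v} [LieRing L] [LieAlgebra k L]
variable {I : Type w} [LinearOrder I] (b : Module.Basis I k L)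

local notation "UL" => UniversalEnvelopingAlgebra k L

/-- the generators of `U(L)` attached to a basis. -/
noncomputable def xU (i : I) : UL := UniversalEnvelopingAlgebra.ι k (b i)

/-- the standard filtration, via products of basis elements. -/
def Fil (n : ℕ) : Submodule k UL :=
  Submodule.span k {m | ∃ l : List I, l.length ≤ n ∧ m = (l.map (xU b)).prod}

omit [CharZero k] [LinearOrder I] in
lemma Fil_mono {n m : ℕ} (h : n ≤ m) : Fil b n ≤ Fil b m := by
  apply Submodule.span_mono
  rintro _ ⟨l, hl, rfl⟩
  exact ⟨l, hl.trans h, rfl⟩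

omit [CharZero k] [LinearOrder I] in
lemma prod_mem_Fil (l : List I) {n : ℕ} (hl : l.length ≤ n) : (l.map (xU b)).prod ∈ Fil b n :=
  Submodule.subset_span ⟨l, hl, rfl⟩

omit [CharZero k] [LinearOrder I] in
lemma xU_mul_mem {n : ℕ} (i : I) {m : UL} (hm : m ∈ Fil b n) : xU b i * m ∈ Fil b (n + 1) := by
  induction hm using Submodule.span_induction with
  | mem m h =>
    obtain ⟨l, hl, rfl⟩ := h
    refine Submodule.subset_span ⟨i :: l, by simpa using hl, ?_⟩
    rw [List.map_cons, List.prod_cons]
  | zero => rw [mul_zero]; exact Submodule.zero_mem _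
  | add x y _ _ hx hy => rw [mul_add]; exact Submodule.add_mem _ hx hy
  | smul c x _ hx => rw [mul_smul_comm]; exact Submodule.smul_mem _ c hx

omit [CharZero k] [LinearOrder I] in
lemma iota_mul_mem {n : ℕ} (y : L) {m : UL} (hm : m ∈ Fil b n) :
    UniversalEnvelopingAlgebra.ι k y * m ∈ Fil b (n + 1) := by
  have hy : y ∈ Submodule.span k (Set.range b) := by rw [b.span_eq]; exact Submodule.mem_top
  induction hy using Submodule.span_induction with
  | mem y h =>
    obtain ⟨i, rfl⟩ := h
    exact xU_mul_mem b i hm
  | zero => rw [map_zero, zero_mul]; exact Submodule.zero_mem _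
  | add x y _ _ hx hy => rw [map_add, add_mul]; exact Submodule.add_mem _ hx hy
  | smul c x _ hx => rw [map_smul, smul_mul_assoc]; exact Submodule.smul_mem _ c hx

omit [CharZero k] [LinearOrder I] in
/-- Permuting the factors changes the product only by lower-order terms. -/
lemma perm_sub_mem {l₁ l₂ : List I} (h : l₁.Perm l₂) :
    ∀ n : ℕ, l₁.length ≤ n + 1 → (l₁.map (xU b)).prod - (l₂.map (xU b)).prod ∈ Fil b n := by
  induction h with
  | nil => intro n _; rw [sub_self]; exact Submodule.zero_mem _
  | cons a p ih =>
    rename_i l₁ l₂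
    intro n hn
    rw [List.map_cons, List.map_cons, List.prod_cons, List.prod_cons, ← mul_sub]
    rw [List.length_cons] at hn
    rcases Nat.eq_zero_or_pos n with rfl | hpos
    · have h1 : l₁ = [] := List.length_eq_zero_iff.1 (by omega)
      subst h1
      have h2 : l₂ = [] := p.symm.eq_nil
      subst h2
      rw [sub_self, mul_zero]
      exact Submodule.zero_mem _
    · obtain ⟨n', rfl⟩ : ∃ n', n = n' + 1 := ⟨n - 1, by omega⟩
      exact xU_mul_mem b a (ih n' (by omega))
  | swap a c l =>
    intro n hn
    simp only [List.length_cons] at hn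
    simp only [List.map_cons, List.prod_cons]
    have h1 : xU b c * (xU b a * (l.map (xU b)).prod) - xU b a * (xU b c * (l.map (xU b)).prod) =
        UniversalEnvelopingAlgebra.ι k ⁅b c, b a⁆ * (l.map (xU b)).prod := by
      rw [LieHom.map_lie, LieRing.of_associative_ring_bracket, sub_mul, mul_assoc, mul_assoc]
      rfl
    rw [h1]
    obtain ⟨n', rfl⟩ : ∃ n', n = n' + 1 := ⟨n - 1, by omega⟩
    exact iota_mul_mem b _ (prod_mem_Fil b l (by omega))
  | trans p q ih₁ ih₂ =>
    rename_i l₁ l₂ l₃
    intro n hn
    have h1 := ih₁ n hn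
    have h2 := ih₂ n (by rw [← p.length_eq]; exact hn)
    have := Submodule.add_mem _ h1 h2
    rwa [sub_add_sub_cancel] at this

omit [CharZero k] [LinearOrder I] in
lemma adjoin_range_ι : Algebra.adjoin k (Set.range (UniversalEnvelopingAlgebra.ι k (L := L))) = ⊤ := by
  set S := Algebra.adjoin k (Set.range (UniversalEnvelopingAlgebra.ι k (L := L))) with hS
  let f : L →ₗ⁅k⁆ S :=
    { toFun := fun x => ⟨UniversalEnvelopingAlgebra.ι k x, Algebra.subset_adjoin ⟨x, rfl⟩⟩
      map_add' := fun x y => Subtype.ext (map_add _ x y)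
      map_smul' := fun c x => Subtype.ext (map_smul _ c x)
      map_lie' := by
        intro x y
        apply Subtype.ext
        change UniversalEnvelopingAlgebra.ι k ⁅x, y⁆ = _
        rw [LieHom.map_lie]
        rfl }
  have h1 : S.val.comp (UniversalEnvelopingAlgebra.lift k f) = AlgHom.id k UL := by
    apply UniversalEnvelopingAlgebra.hom_ext
    ext x
    simp only [LieHom.coe_comp, Function.comp_apply, AlgHom.coe_toLieHom, AlgHom.coe_comp,
      UniversalEnvelopingAlgebra.lift_ι_apply, AlgHom.coe_id, id_eq]
    rfl
  rw [eq_top_iff]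
  intro u _
  have h2 := AlgHom.congr_fun h1 u
  rw [AlgHom.comp_apply, AlgHom.id_apply] at h2
  rw [← h2]
  exact (UniversalEnvelopingAlgebra.lift k f u).2

omit [CharZero k] [LinearOrder I] in
lemma exists_mem_Fil (u : UL) : ∃ n, u ∈ Fil b n := by
  have hu : u ∈ Algebra.adjoin k (Set.range (UniversalEnvelopingAlgebra.ι k (L := L))) := by
    rw [adjoin_range_ι]; exact Algebra.mem_top
  have hu' : u ∈ Subalgebra.toSubmodule
      (Algebra.adjoin k (Set.range (UniversalEnvelopingAlgebra.ι k (L := L)))) := hu
  rw [Algebra.adjoin_eq_span] at hu'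
  clear hu
  induction hu' using Submodule.span_induction with
  | mem m h =>
    induction h using Submonoid.closure_induction_left with
    | one => exact ⟨0, prod_mem_Fil b [] (le_refl _)⟩
    | mul_left x hx y _ ih =>
      obtain ⟨n, hn⟩ := ih
      obtain ⟨z, rfl⟩ := hx
      exact ⟨n + 1, iota_mul_mem b z hn⟩
  | zero => exact ⟨0, Submodule.zero_mem _⟩
  | add x y _ _ hx hy =>
    obtain ⟨n, hn⟩ := hx
    obtain ⟨m, hm⟩ := hy
    exact ⟨max n m, Submodule.add_mem _ (Fil_mono b (le_max_left _ _) hn)
      (Fil_mono b (le_max_right _ _) hm)⟩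
  | smul c x _ hx =>
    obtain ⟨n, hn⟩ := hx
    exact ⟨n, Submodule.smul_mem _ c hn⟩

/-- products over sorted lists are multiples of ordered divided-power monomials. -/
lemma sorted_prod_eq (l : List I) (hl : l.Pairwise (· ≤ ·)) :
    ∃ (a : I →₀ ℕ) (c : k), (∀ j ∈ a.support, j ∈ l) ∧
      (l.map (xU b)).prod = c • Dm k (xU b) a := by
  classical
  induction l with
  | nil => exact ⟨0, 1, by simp, by rw [Dm_zero, one_smul]; rfl⟩
  | cons i l ih =>
    rw [List.pairwise_cons] at hl
    obtain ⟨a, c, ha, hprod⟩ := ih hl.2
    set e := a.erase i with he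
    have hae : Finsupp.single i (a i) + e = a := Finsupp.single_add_erase i a
    have hlt : ∀ j ∈ e.support, i < j := by
      intro j hj
      rw [he, Finsupp.support_erase, Finset.mem_erase] at hj
      exact lt_of_le_of_ne (hl.1 j (ha j hj.2)) (Ne.symm hj.1)
    refine ⟨Finsupp.single i (a i + 1) + e, c * ((a i + 1 : ℕ) : k), ?_, ?_⟩
    · intro j hj
      have := Finsupp.support_add hj
      rw [Finset.mem_union] at this
      rcases this with h | h
      · have h2 := Finsupp.support_single_subset h
        rw [Finset.mem_singleton] at h2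
        rw [h2]
        exact List.mem_cons_self
      · rw [he, Finsupp.support_erase, Finset.mem_erase] at h
        exact List.mem_cons_of_mem _ (ha j h.2)
    · have hD : Dm k (xU b) a = dp k (xU b i) (a i) * Dm k (xU b) e := by
        rw [← Dm_single_add _ i (a i) e hlt, hae]
      rw [List.map_cons, List.prod_cons, hprod, hD,
        Dm_single_add _ i (a i + 1) e hlt, mul_smul_comm, ← mul_assoc, mul_dp, smul_mul_assoc,
        smul_smul]

/-- **Spanning half of PBW**: ordered divided-power monomials span `U(L)`. -/
theorem span_Dm_eq_top : Submodule.span k (Set.range (Dm k (xU b))) = ⊤ := by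
  classical
  have hF : ∀ n, Fil b n ≤ Submodule.span k (Set.range (Dm k (xU b))) := by
    intro n
    induction n with
    | zero =>
      apply Submodule.span_le.2
      rintro _ ⟨l, hl, rfl⟩
      have : l = [] := List.length_eq_zero_iff.1 (by omega)
      subst this
      refine Submodule.subset_span ⟨0, ?_⟩
      rw [Dm_zero]
      rfl
    | succ n ih =>
      apply Submodule.span_le.2
      rintro _ ⟨l, hl, rfl⟩
      have h1 := perm_sub_mem b (List.perm_insertionSort (· ≤ ·) l).symm n hl
      obtain ⟨a, c, -, h2⟩ := sorted_prod_eq b (l.insertionSort (· ≤ ·))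
        (List.pairwise_insertionSort (· ≤ ·) l)
      have h3 : (l.map (xU b)).prod = ((l.map (xU b)).prod -
          ((l.insertionSort (· ≤ ·)).map (xU b)).prod) +
          ((l.insertionSort (· ≤ ·)).map (xU b)).prod := by abel
      rw [SetLike.mem_coe, h3]
      refine Submodule.add_mem _ (ih h1) ?_
      rw [h2]
      exact Submodule.smul_mem _ c (Submodule.subset_span ⟨a, rfl⟩)
  rw [eq_top_iff]
  intro u _
  obtain ⟨n, hn⟩ := exists_mem_Fil b u
  exact hF n hn

end Span

section Inj

variable {k : Type u} [Field k] [CharZero k] {L : Type v} [LieRing L] [LieAlgebra k L]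
variable {H : Type w} [Ring H] [Bialgebra k H]

/-- **Injectivity criterion**: a Lie homomorphism into a bialgebra, injective and with primitive
values, induces an injective map on the enveloping algebra. -/
theorem lift_injective (f : L →ₗ⁅k⁆ H) (hf : Function.Injective f)
    (hprim : ∀ y : L, Coalgebra.comul (R := k) (f y) = f y ⊗ₜ[k] 1 + 1 ⊗ₜ[k] f y) :
    Function.Injective (UniversalEnvelopingAlgebra.lift k f) := by
  classical
  let b := Module.Basis.ofVectorSpace k L
  letI : LinearOrder (Module.Basis.ofVectorSpaceIndex k L) :=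
    IsWellOrder.linearOrder WellOrderingRel
  set φ := UniversalEnvelopingAlgebra.lift k f with hφ
  have hli : LinearIndependent k (fun i => f (b i)) := by
    have := b.linearIndependent.map' (f : L →ₗ[k] H) (LinearMap.ker_eq_bot.2 hf)
    exact this
  have hLI := linearIndependent_Dm (k := k) (fun i => f (b i)) (fun i => hprim (b i)) hli
  rw [injective_iff_map_eq_zero]
  intro u hu
  have hu' : u ∈ Submodule.span k (Set.range (Dm k (xU b))) := by
    rw [span_Dm_eq_top]; exact Submodule.mem_top
  obtain ⟨c, rfl⟩ := (Finsupp.mem_span_range_iff_exists_finsupp).1 hu'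
  rw [Finsupp.sum, map_sum] at hu
  have h1 : ∀ a, φ (c a • Dm k (xU b) a) = c a • Dm k (fun i => f (b i)) a := by
    intro a
    rw [map_smul, Dm_map]
    congr 2
    funext i
    exact UniversalEnvelopingAlgebra.lift_ι_apply k f (b i)
  rw [Finset.sum_congr rfl fun a _ => h1 a] at hu
  have h2 : Finsupp.linearCombination k (Dm k (fun i => f (b i))) c = 0 := by
    rw [Finsupp.linearCombination_apply, Finsupp.sum]
    exact hu
  have h3 := (linearIndependent_iff.1 hLI) c h2
  rw [h3]
  simp

end Inj

end Groth.Agent.Lib.Helper7.CMM
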