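import Groth.Agent.Lib.Helper7.MonoClosed

/-!
# The grading of a Hopf algebra induced by a homomorphism from a diagonalisable group (helper7)
-/

set_option autoImplicit false

namespace Groth.Agent.Lib.Helper7.Clopen

open TensorProduct Groth.Agent.Lib.Helper7.MonoClosed
open Groth.Agent.Lib.Helper7.MultDesc (cf cf_apply cf_single)

universe u

section Graded

variable {R : Type u} [CommRing R] {M : Type u} [CommGroup M] {C : Type u} [CommRing C]
  [HopfAlgebra R C] (φ : C →ₐc[R] MonoidAlgebra R M)

/-- the coaction of `D(M)` on `Spec C` by translation through `φ`. -/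
noncomputable def rho : C →ₐ[R] C ⊗[R] MonoidAlgebra R M :=
  (Algebra.TensorProduct.map (AlgHom.id R C) (φ : C →ₐ[R] MonoidAlgebra R M)).comp
    (Bialgebra.comulAlgHom R C)

lemma rho_apply (c : C) : rho φ c =
    LinearMap.lTensor C (φ : C →ₗ[R] MonoidAlgebra R M) (Coalgebra.comul (R := R) c) := by
  change Algebra.TensorProduct.map (AlgHom.id R C) (φ : C →ₐ[R] MonoidAlgebra R M)
    (Coalgebra.comul (R := R) c) = _
  generalize Coalgebra.comul (R := R) c = w
  induction w using TensorProduct.induction_on with
  | zero => simp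
  | tmul a b => rfl
  | add x y hx hy => rw [map_add, map_add, hx, hy]

lemma proj_eq (m : M) (c : C) :
    proj φ m c = TensorProduct.rid R C (LinearMap.lTensor C (cf m) (rho φ c)) := by
  rw [rho_apply]
  unfold proj
  simp only [LinearMap.comp_apply, LinearEquiv.coe_coe]
  congr 1
  generalize Coalgebra.comul (R := R) c = w
  induction w using TensorProduct.induction_on with
  | zero => simp
  | tmul a b => rfl
  | add x y hx hy => rw [map_add, map_add, map_add, hx, hy]

/-- homogeneous elements. -/
def IsHomog (m : M) (x : C) : Prop := rho φ x = x ⊗ₜ[R] MonoidAlgebra.single m (1 : R)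

variable {φ}

lemma IsHomog.mul {m n : M} {x y : C} (hx : IsHomog φ m x) (hy : IsHomog φ n y) :
    IsHomog φ (m * n) (x * y) := by
  unfold IsHomog at *
  rw [map_mul, hx, hy, Algebra.TensorProduct.tmul_mul_tmul, MonoidAlgebra.single_mul_single,
    mul_one]

lemma proj_of_isHomog [DecidableEq M] {m : M} {x : C} (hx : IsHomog φ m x) (n : M) :
    proj φ n x = if m = n then x else 0 := by
  rw [proj_eq, hx, LinearMap.lTensor_tmul, TensorProduct.rid_tmul, cf_single]
  split_ifs
  · rw [one_smul]
  · rw [zero_smul]

lemma proj_self_of_isHomog {m : M} {x : C} (hx : IsHomog φ m x) : proj φ m x = x := by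
  classical
  rw [proj_of_isHomog hx, if_pos rfl]

lemma phi_of_isHomog {m : M} {x : C} (hx : IsHomog φ m x) :
    φ x = MonoidAlgebra.single m ((φ x).coeff m) := by
  conv_lhs => rw [← proj_self_of_isHomog hx]
  exact phi_proj φ m x

lemma proj_mul_of_isHomog_one {d : C} (hd : IsHomog φ 1 d) (m : M) (c : C) :
    proj φ m (d * c) = d * proj φ m c := by
  rw [proj_eq, proj_eq, map_mul, hd]
  generalize rho φ c = w
  induction w using TensorProduct.induction_on with
  | zero => simp
  | tmul a h =>
    rw [Algebra.TensorProduct.tmul_mul_tmul, LinearMap.lTensor_tmul, LinearMap.lTensor_tmul,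
      TensorProduct.rid_tmul, TensorProduct.rid_tmul, mul_smul_comm]
    congr 2
    change (MonoidAlgebra.single (1 : M) (1 : R)) * h = h
    rw [← MonoidAlgebra.one_def, one_mul]
  | add x y hx hy => rw [mul_add, map_add, map_add, hx, hy, map_add, map_add, mul_add]

variable (φ)

lemma isHomog_proj (m : M) (c : C) : IsHomog φ m (proj φ m c) := by
  classical
  unfold IsHomog
  set ψ : C →ₗ[R] MonoidAlgebra R M := (φ : C →ₗ[R] MonoidAlgebra R M) with hψ
  -- auxiliary maps
  let g : C ⊗[R] C →ₗ[R] MonoidAlgebra R M :=
    (TensorProduct.rid R (MonoidAlgebra R M)).toLinearMap ∘ₗ TensorProduct.map ψ (cf m ∘ₗ ψ)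
  let h : C →ₗ[R] MonoidAlgebra R M :=
    (LinearMap.toSpanSingleton R (MonoidAlgebra R M) (MonoidAlgebra.single m (1 : R))) ∘ₗ
      (cf m ∘ₗ ψ)
  have hg_apply : ∀ a b : C, g (a ⊗ₜ[R] b) = cf m (ψ b) • ψ a := fun a b => rfl
  have hh_apply : ∀ b : C, h b = cf m (ψ b) • MonoidAlgebra.single m (1 : R) := fun b => rfl
  have hT : ∀ w : C ⊗[R] C, TensorProduct.rid R C (LinearMap.lTensor C (cf m ∘ₗ ψ) w) ⊗ₜ[R]
      MonoidAlgebra.single m (1 : R) = LinearMap.lTensor C h w := by
    intro w
    induction w using TensorProduct.induction_on with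
    | zero => simp
    | tmul a b =>
      rw [LinearMap.lTensor_tmul, TensorProduct.rid_tmul, LinearMap.lTensor_tmul, hh_apply,
        LinearMap.comp_apply, TensorProduct.smul_tmul]
    | add x y hx hy => rw [map_add, map_add, TensorProduct.add_tmul, hx, hy, map_add]
  have hF : ∀ w : C ⊗[R] C,
      LinearMap.lTensor C ψ (Coalgebra.comul (R := R)
        (TensorProduct.rid R C (LinearMap.lTensor C (cf m ∘ₗ ψ) w))) =
      LinearMap.lTensor C g (TensorProduct.assoc R C C C
        (LinearMap.rTensor C (Coalgebra.comul (R := R)) w)) := by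
    intro w
    induction w using TensorProduct.induction_on with
    | zero => simp
    | tmul a b =>
      rw [LinearMap.lTensor_tmul, TensorProduct.rid_tmul, LinearMap.rTensor_tmul, map_smul, map_smul]
      generalize Coalgebra.comul (R := R) a = u
      induction u using TensorProduct.induction_on with
      | zero => simp
      | tmul a₁ a₂ =>
        rw [TensorProduct.assoc_tmul, LinearMap.lTensor_tmul, LinearMap.lTensor_tmul, hg_apply,
          LinearMap.comp_apply, TensorProduct.tmul_smul]
      | add x y hx hy =>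
        rw [map_add, smul_add, hx, hy, TensorProduct.add_tmul, map_add, map_add]
    | add x y hx hy => simp only [map_add, hx, hy]
  have hgh : ∀ b : C, g (Coalgebra.comul (R := R) b) = h b := by
    intro b
    rw [hh_apply, cf_apply, MonoidAlgebra.smul_single, smul_eq_mul, mul_one, ← rid_cf_comul]
    have h1 : Coalgebra.comul (R := R) (ψ b) = TensorProduct.map ψ ψ (Coalgebra.comul (R := R) b) :=
      (CoalgHomClass.map_comp_comul_apply φ b).symm
    rw [h1]
    generalize Coalgebra.comul (R := R) b = w
    induction w using TensorProduct.induction_on with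
    | zero => simp
    | tmul a₁ a₂ =>
      rw [hg_apply, TensorProduct.map_tmul, LinearMap.lTensor_tmul, TensorProduct.rid_tmul]
    | add x y hx hy => rw [map_add, hx, hy, map_add, map_add, map_add]
  rw [rho_apply]
  unfold proj
  simp only [LinearMap.comp_apply, LinearEquiv.coe_coe]
  rw [hF, Coalgebra.coassoc_apply, hT]
  generalize Coalgebra.comul (R := R) c = w
  induction w using TensorProduct.induction_on with
  | zero => simp
  | tmul a b => rw [LinearMap.lTensor_tmul, LinearMap.lTensor_tmul, LinearMap.lTensor_tmul, hgh]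
  | add x y hx hy => rw [map_add, map_add, map_add, hx, hy]

/-- auxiliary predicate for the finite decomposition. -/
def DecompAt (w : C ⊗[R] MonoidAlgebra R M) : Prop :=
  ∃ s : Finset M, (∀ m ∉ s, TensorProduct.rid R C (LinearMap.lTensor C (cf m) w) = 0) ∧
    ∑ m ∈ s, TensorProduct.rid R C (LinearMap.lTensor C (cf m) w) =
      TensorProduct.rid R C
        (LinearMap.lTensor C (Coalgebra.counit (R := R) (A := MonoidAlgebra R M)) w)

omit [CommGroup M] in
lemma DecompAt.add {w w' : C ⊗[R] MonoidAlgebra R M} (h : DecompAt w) (h' : DecompAt w') :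
    DecompAt (w + w') := by
  classical
  obtain ⟨s, h1, h2⟩ := h
  obtain ⟨s', h1', h2'⟩ := h'
  refine ⟨s ∪ s', ?_, ?_⟩
  · intro m hm
    rw [Finset.mem_union, not_or] at hm
    rw [map_add, map_add, h1 m hm.1, h1' m hm.2, add_zero]
  · simp only [map_add, Finset.sum_add_distrib]
    rw [← h2, ← h2']
    congr 1
    · exact (Finset.sum_subset Finset.subset_union_left (fun m _ hm => h1 m hm)).symm
    · exact (Finset.sum_subset Finset.subset_union_right (fun m _ hm => h1' m hm)).symm

lemma decompAt (w : C ⊗[R] MonoidAlgebra R M) : DecompAt w := by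
  classical
  induction w using TensorProduct.induction_on with
  | zero => exact ⟨∅, fun m _ => by simp, by simp⟩
  | add x y hx hy => exact hx.add hy
  | tmul a x =>
    induction x using MonoidAlgebra.induction_linear with
    | zero => exact ⟨∅, fun m _ => by simp, by simp⟩
    | add x y hx hy =>
      rw [TensorProduct.tmul_add]
      exact hx.add hy
    | single n r =>
      refine ⟨{n}, ?_, ?_⟩
      · intro m hm
        rw [Finset.mem_singleton] at hm
        rw [LinearMap.lTensor_tmul, TensorProduct.rid_tmul, cf_single, if_neg (Ne.symm hm),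
          zero_smul]
      · rw [Finset.sum_singleton, LinearMap.lTensor_tmul, TensorProduct.rid_tmul, cf_single,
          if_pos rfl, LinearMap.lTensor_tmul, TensorProduct.rid_tmul, MonoidAlgebra.counit_single]
        rfl

lemma exists_finset_sum_proj (c : C) :
    ∃ s : Finset M, (∀ m ∉ s, proj φ m c = 0) ∧ ∑ m ∈ s, proj φ m c = c := by
  obtain ⟨s, h1, h2⟩ := decompAt (rho φ c)
  refine ⟨s, fun m hm => by rw [proj_eq]; exact h1 m hm, ?_⟩
  simp only [proj_eq]
  rw [h2, rho_apply]
  have h3 : ∀ w : C ⊗[R] C, TensorProduct.rid R C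
      (LinearMap.lTensor C (Coalgebra.counit (R := R) (A := MonoidAlgebra R M))
        (LinearMap.lTensor C (φ : C →ₗ[R] MonoidAlgebra R M) w)) =
      TensorProduct.rid R C (LinearMap.lTensor C (Coalgebra.counit (R := R) (A := C)) w) := by
    intro w
    induction w using TensorProduct.induction_on with
    | zero => simp
    | tmul a b =>
      rw [LinearMap.lTensor_tmul, LinearMap.lTensor_tmul, LinearMap.lTensor_tmul]
      congr 2
      exact CoalgHomClass.counit_comp_apply φ b
    | add x y hx hy => simp only [map_add, hx, hy]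
  rw [h3, Coalgebra.lTensor_counit_comul, TensorProduct.rid_tmul, one_smul]

variable {φ} in
lemma phi_of_isHomog_one {d : C} (hd : IsHomog φ 1 d) :
    φ d = algebraMap R (MonoidAlgebra R M) (Coalgebra.counit (R := R) d) := by
  have h1 := phi_of_isHomog hd
  have h2 : Coalgebra.counit (R := R) (φ d) = Coalgebra.counit (R := R) d :=
    CoalgHomClass.counit_comp_apply φ d
  rw [h1, MonoidAlgebra.counit_single] at h2
  rw [h1, ← h2]
  rfl

end Graded

end Groth.Agent.Lib.Helper7.Clopen
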