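import Mathlib
import Groth.Agent.Lib.Helper7.CO5
import Groth.Agent.Lib.Helper7.FFDesc8

/-!
# An isotrivial group whose reduction modulo an ideal in the radical is a torus is a torus (helper7)
-/

set_option autoImplicit false

namespace Groth.Agent.Lib.Helper7.Clopen

open TensorProduct SGA3b Groth.Agent.Lib.Helper7.CancelBC Groth.Agent.Lib.Helper7.FFDesc

universe u v

section Typed

theorem mulEquiv_of_bialgEquiv {K : Type u} [Field K] {M : Type u} {N : Type v} [CommGroup M]
    [CommGroup N]
    (e : MonoidAlgebra K M ≃ₐc[K] MonoidAlgebra K N) : Nonempty (M ≃* N) := by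
  set f : M →* N := MonoidAlgebra.mapDomainOfBialgHom (e : MonoidAlgebra K M →ₐc[K] _) with hf
  set g : N →* M := MonoidAlgebra.mapDomainOfBialgHom (e.symm : MonoidAlgebra K N →ₐc[K] _) with hg
  have hfs : ∀ m : M, MonoidAlgebra.single (f m) (1 : K) = e (MonoidAlgebra.single m 1) :=
    fun m => MonoidAlgebra.single_mapDomainOfBialgHom _ m 1
  have hgs : ∀ n : N, MonoidAlgebra.single (g n) (1 : K) = e.symm (MonoidAlgebra.single n 1) :=
    fun n => MonoidAlgebra.single_mapDomainOfBialgHom _ n 1
  refine ⟨{ toFun := f, invFun := g, left_inv := ?_, right_inv := ?_, map_mul' := map_mul f }⟩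
  · intro m
    apply MonoidAlgebra.single_left_injective (R := K) one_ne_zero
    change MonoidAlgebra.single (g (f m)) (1 : K) = MonoidAlgebra.single m 1
    rw [hgs, hfs, BialgEquiv.symm_apply_apply]
  · intro n
    apply MonoidAlgebra.single_left_injective (R := K) one_ne_zero
    change MonoidAlgebra.single (f (g n)) (1 : K) = MonoidAlgebra.single n 1
    rw [hfs, hgs, BialgEquiv.apply_symm_apply]

section DiagBC

variable {R : Type u} [CommRing R] {A : Type u} [CommRing A] [HopfAlgebra R A]
  {M : Type v} [CommGroup M]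

/-- base change of a diagonalisation, with the same group. -/
theorem nonempty_bialgEquiv_baseChange' (S : Type u) [CommRing S] [Algebra R S]
    (e : A ≃ₐc[R] MonoidAlgebra R M) : Nonempty (S ⊗[R] A ≃ₐc[S] MonoidAlgebra S M) := by
  classical
  have hgl : ∀ m : M, IsGroupLikeElem S ((1 : S) ⊗ₜ[R] e.symm (MonoidAlgebra.single m 1) :
      S ⊗[R] A) := fun m =>
    Groth.Agent.Lib.Helper7.DiagSub.isGroupLikeElem_one_tmul S
      ((MonoidAlgebra.isGroupLikeElem_single_one (R := R) (A := R) m).map e.symm)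
  let γ : M →* GroupLike S (S ⊗[R] A) :=
    { toFun := fun m => ⟨_, hgl m⟩
      map_one' := by
        apply GroupLike.val_injective
        change (1 : S) ⊗ₜ[R] e.symm (1 : MonoidAlgebra R M) = 1
        rw [map_one]
        rfl
      map_mul' := by
        intro m m'
        apply GroupLike.val_injective
        change (1 : S) ⊗ₜ[R] e.symm (MonoidAlgebra.single (m * m') 1) =
          ((1 : S) ⊗ₜ[R] e.symm (MonoidAlgebra.single m 1)) *
            ((1 : S) ⊗ₜ[R] e.symm (MonoidAlgebra.single m' 1))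
        rw [Algebra.TensorProduct.tmul_mul_tmul, mul_one, ← map_mul,
          MonoidAlgebra.single_mul_single, mul_one] }
  set φ : MonoidAlgebra S M →ₐc[S] S ⊗[R] A :=
    (MonoidAlgebra.liftGroupLikeBialgHom (R := S) (A := S ⊗[R] A)).comp
      (MonoidAlgebra.mapDomainBialgHom S γ) with hφ
  have hφs : ∀ (m : M) (r : S), φ (MonoidAlgebra.single m r) =
      r • ((1 : S) ⊗ₜ[R] e.symm (MonoidAlgebra.single m 1)) := by
    intro m r
    simp [hφ, γ]
  have hφeq : ∀ x : MonoidAlgebra S M, φ x =
      (LinearEquiv.lTensor S e.symm.toLinearEquiv)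
        ((MonoidAlgebra.scalarTensorEquiv (M := M) R S).symm x) := by
    intro x
    induction x using MonoidAlgebra.induction_linear with
    | zero => simp
    | add x y hx hy => rw [map_add, hx, hy, map_add, map_add]
    | single m r =>
      rw [hφs, MonoidAlgebra.scalarTensorEquiv_symm_single, LinearEquiv.lTensor_tmul,
        TensorProduct.smul_tmul', smul_eq_mul, mul_one]
      rfl
  have hbij : Function.Bijective φ := by
    have : (φ : MonoidAlgebra S M → S ⊗[R] A) =
        (LinearEquiv.lTensor S e.symm.toLinearEquiv) ∘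
          ((MonoidAlgebra.scalarTensorEquiv (M := M) R S).symm) := by
      funext x
      exact hφeq x
    rw [this]
    exact (LinearEquiv.bijective _).comp (AlgEquiv.bijective _)
  exact ⟨(BialgEquiv.ofBijective φ hbij).symm⟩

end DiagBC

variable {A : Type u} [CommRing A] {S T : Type u} [CommRing S] [Algebra A S] [CommRing T]
  [Algebra A T] {B : Type u} [CommRing B] [HopfAlgebra A B] {M : Type v} [CommGroup M]

/-- typed version of `isDiag_of_algHom`. -/
theorem typed_of_algHom (f : S →ₐ[A] T) (e : S ⊗[A] B ≃ₐc[S] MonoidAlgebra S M) :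
    Nonempty (T ⊗[A] B ≃ₐc[T] MonoidAlgebra T M) := by
  let _ : Algebra S T := f.toRingHom.toAlgebra
  have : IsScalarTower A S T := IsScalarTower.of_algebraMap_eq (fun a => (f.commutes a).symm)
  obtain ⟨e'⟩ := nonempty_bialgEquiv_baseChange' T e
  exact ⟨(cancelBC A S T B).symm.trans e'⟩

/-- change of group. -/
noncomputable def domCongrBialg (R : Type u) [CommRing R] {M : Type u} {N : Type v} [CommGroup M]
    [CommGroup N]
    (σ : M ≃* N) : MonoidAlgebra R M ≃ₐc[R] MonoidAlgebra R N :=
  BialgEquiv.ofBialgHom (MonoidAlgebra.mapDomainBialgHom R (σ : M →* N))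
    (MonoidAlgebra.mapDomainBialgHom R (σ.symm : N →* M))
    (by
      rw [← MonoidAlgebra.mapDomainBialgHom_comp]
      have : (σ : M →* N).comp (σ.symm : N →* M) = MonoidHom.id N := by ext; simp
      rw [this, MonoidAlgebra.mapDomainBialgHom_id])
    (by
      rw [← MonoidAlgebra.mapDomainBialgHom_comp]
      have : (σ.symm : N →* M).comp (σ : M →* N) = MonoidHom.id M := by ext; simp
      rw [this, MonoidAlgebra.mapDomainBialgHom_id])

end Typed

section Torus

variable {A : Type u} [CommRing A] {I : Ideal A} (hI : I ≤ Ideal.jacobson ⊥)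
  {C : Type u} [CommRing C] [HopfAlgebra A C]

theorem isTorus_of_typed {A' : Type u} [CommRing A'] [Algebra A A'] [Module.FaithfullyFlat A A']
    (n : ℕ) (e : A' ⊗[A] C ≃ₐc[A'] MonoidAlgebra A' (Multiplicative (Fin n → ℤ))) :
    IsTorus A C := by
  refine ⟨{1}, by rw [Ideal.span_singleton_one], ?_⟩
  intro f hf
  rw [Set.mem_singleton_iff] at hf
  subst hf
  refine ⟨Localization.Away (1 : A) ⊗[A] A', inferInstance, inferInstance, inferInstance, n, ?_⟩
  obtain ⟨e'⟩ := typed_of_algHom (B := C)
    (Algebra.TensorProduct.includeRight : A' →ₐ[A] Localization.Away (1 : A) ⊗[A] A') e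
  exact ⟨(cancelBC A (Localization.Away (1 : A)) (Localization.Away (1 : A) ⊗[A] A') C).trans e'⟩

include hI in
theorem isTorus_of_isIsotrivial (hiso : IsIsotrivial A C)
    (ht : IsTorus (A ⧸ I) ((A ⧸ I) ⊗[A] C)) : IsTorus A C := by
  obtain ⟨A', _, _, -, -, hff, M, _, ⟨eM⟩⟩ := hiso
  by_cases hA : Subsingleton A
  · have h01 : (0 : A') = 1 := by
      rw [← map_zero (algebraMap A A'), ← map_one (algebraMap A A')]
      congr 1
      exact Subsingleton.elim _ _
    have : Subsingleton A' := subsingleton_of_zero_eq_one h01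
    have h1 : Subsingleton (MonoidAlgebra A' M) := Module.subsingleton A' _
    have h2 : Subsingleton (MonoidAlgebra A' (Multiplicative (Fin 0 → ℤ))) :=
      Module.subsingleton A' _
    exact isTorus_of_typed 0 (eM.trans (BialgEquiv.ofBijective
      (MonoidAlgebra.mapDomainBialgHom A' (1 : M →* Multiplicative (Fin 0 → ℤ)))
      ⟨fun _ _ _ => Subsingleton.elim _ _, fun y => ⟨0, Subsingleton.elim _ _⟩⟩))
  · have hAn : Nontrivial A := not_subsingleton_iff_nontrivial.1 hA
    have hIne : I ≠ ⊤ := by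
      intro h
      rw [h] at hI
      have h1 := top_le_iff.1 hI
      rw [Ideal.jacobson_eq_top_iff] at h1
      exact bot_ne_top h1
    have : Nontrivial (A ⧸ I) := Ideal.Quotient.nontrivial_iff.2 hIne
    obtain ⟨s, hs, hs2⟩ := ht
    obtain ⟨𝔭, h𝔭⟩ := Ideal.exists_maximal (A ⧸ I)
    obtain ⟨f, hf, hf𝔭⟩ : ∃ f ∈ s, f ∉ 𝔭 := by
      by_contra hcon
      push Not at hcon
      have h1 : Ideal.span s ≤ 𝔭 := Ideal.span_le.2 hcon
      rw [hs] at h1
      exact h𝔭.ne_top (top_le_iff.1 h1)
    obtain ⟨R', _, _, hffR, n, ⟨eT⟩⟩ := hs2 f hf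
    have hL : Nontrivial (Localization.Away f) := by
      refine ⟨⟨0, 1, ?_⟩⟩
      intro h01
      have h1 : algebraMap (A ⧸ I) (Localization.Away f) 0 =
          algebraMap (A ⧸ I) (Localization.Away f) 1 := by
        rw [map_zero, map_one]
        exact h01
      obtain ⟨⟨_, k, rfl⟩, hk⟩ :=
        (IsLocalization.eq_iff_exists (Submonoid.powers f) (Localization.Away f)).1 h1
      rw [mul_zero, mul_one] at hk
      apply hf𝔭
      apply h𝔭.isPrime.mem_of_pow_mem k
      have hk' : f ^ k = 0 := hk.symm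
      rw [hk']
      exact 𝔭.zero_mem
    have hR' : Nontrivial R' := by
      have h1 : Nontrivial (R' ⊗[Localization.Away f] Localization.Away f) :=
        (Module.FaithfullyFlat.nontrivial_tensorProduct_iff_right (Localization.Away f) R').2 hL
      exact (TensorProduct.rid (Localization.Away f) R').injective.nontrivial
    let _ : Algebra (A ⧸ I) R' :=
      ((algebraMap (Localization.Away f) R').comp
        (algebraMap (A ⧸ I) (Localization.Away f))).toAlgebra
    have : IsScalarTower (A ⧸ I) (Localization.Away f) R' :=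
      IsScalarTower.of_algebraMap_eq (fun _ => rfl)
    let _ : Algebra A R' := ((algebraMap (A ⧸ I) R').comp (algebraMap A (A ⧸ I))).toAlgebra
    have : IsScalarTower A (A ⧸ I) R' := IsScalarTower.of_algebraMap_eq (fun _ => rfl)
    have eR' : R' ⊗[A] C ≃ₐc[R'] MonoidAlgebra R' (Multiplicative (Fin n → ℤ)) :=
      ((cancelBC A (A ⧸ I) R' C).symm.trans
        (cancelBC (A ⧸ I) (Localization.Away f) R' ((A ⧸ I) ⊗[A] C)).symm).trans eT
    have hT : Nontrivial (A' ⊗[A] R') :=
      (Module.FaithfullyFlat.nontrivial_tensorProduct_iff_right A A').2 hR'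
    obtain ⟨𝔪, h𝔪⟩ := Ideal.exists_maximal (A' ⊗[A] R')
    let _ : Field ((A' ⊗[A] R') ⧸ 𝔪) := Ideal.Quotient.field 𝔪
    let g₁ : A' →ₐ[A] (A' ⊗[A] R') ⧸ 𝔪 :=
      (Ideal.Quotient.mkₐ A 𝔪).comp Algebra.TensorProduct.includeLeft
    let g₂ : R' →ₐ[A] (A' ⊗[A] R') ⧸ 𝔪 :=
      (Ideal.Quotient.mkₐ A 𝔪).comp Algebra.TensorProduct.includeRight
    obtain ⟨e₁⟩ := typed_of_algHom (B := C) g₁ eM
    obtain ⟨e₂⟩ := typed_of_algHom (B := C) g₂ eR'
    obtain ⟨σ⟩ := mulEquiv_of_bialgEquiv (e₁.symm.trans e₂)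
    exact isTorus_of_typed n (eM.trans (domCongrBialg A' σ))

end Torus

end Groth.Agent.Lib.Helper7.Clopen
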