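import Groth.Agent.Lib.Helper7.HopfIntegral
import Groth.Agent.Lib.Helper7.ComodAlg

/-!
# Total integrals `A → B` for comodule algebras over a commutative Hopf algebra (helper7)

A comodule map `α : A → B` with `α 1 = 1` gives a comodule retraction `B ⊗ A → B` of the coaction and a
Reynolds operator `B → B^A`, linear over the invariants and preserving invariant ideals.
-/

universe u v v' w w' w''

open TensorProduct

namespace Groth.Agent.Lib.Helper7.Comod

open HopfRep

section MulA

variable {k : Type u} [CommRing k] {A : Type v} [CommRing A] [HopfAlgebra k A]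
variable {B : Type w} [CommRing B] [Algebra k B] [Comod k A B] [GLin.IsCoactAlg k A B]

/-- `b ⊗ a ↦ b * α a`. -/
noncomputable def mulA (α : A →ₗ[k] B) : B ⊗[k] A →ₗ[k] B :=
  LinearMap.mul' k B ∘ₗ LinearMap.lTensor B α

omit [Comod k A B] [GLin.IsCoactAlg k A B] in
@[simp] lemma mulA_tmul (α : A →ₗ[k] B) (b : B) (a : A) : mulA α (b ⊗ₜ[k] a) = b * α a := by
  simp [mulA]

omit [GLin.IsCoactAlg k A B] in
lemma rTensor_mulA_pairD (α : A →ₗ[k] B) (y : B ⊗[k] A) (d : A ⊗[k] A) :
    (mulA α).rTensor A (pairD y d) = y * α.rTensor A d := by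
  induction d using TensorProduct.induction_on with
  | zero => simp
  | tmul b c =>
    induction y using TensorProduct.induction_on with
    | zero => simp
    | tmul u b' => simp [Algebra.TensorProduct.tmul_mul_tmul]
    | add y z hy hz => simp only [pairD_add_left, map_add, hy, hz, add_mul]
  | add d e hd he => rw [pairD_add_right, map_add, hd, he, map_add, mul_add]

/-- multiplication against a comodule map `α : A → B` intertwines the diagonal coaction with `ρ_B`. -/
theorem coact_mulA {α : A →ₗ[k] B} (hα : Hoch.IsComodHom A α) (x : B ⊗[k] A) :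
    Comod.coact (k := k) (A := A) (mulA α x) = (mulA α).rTensor A (diagCoact B x) := by
  induction x using TensorProduct.induction_on with
  | zero => simp
  | tmul b a =>
    rw [diagCoact_tmul, rTensor_mulA_pairD, mulA_tmul, GLin.IsCoactAlg.coact_mul,
      isComodHom_apply hα]
    rfl
  | add y z hy hz => simp only [map_add, hy, hz]

/-- The retraction `B ⊗ A → B`, `b ⊗ a ↦ Σ b₀ α(S(b₁) a)`. -/
noncomputable def retr (α : A →ₗ[k] B) : B ⊗[k] A →ₗ[k] B :=
  mulA α ∘ₗ tw B (HopfAlgebra.antipode k (A := A))

/-- `retr` as a map out of the induced comodule. -/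
noncomputable def retrInd (α : A →ₗ[k] B) : Hoch.Ind k A B →ₗ[k] B := retr α

theorem isComodHom_retr {α : A →ₗ[k] B} (hα : Hoch.IsComodHom A α) :
    Hoch.IsComodHom A (retrInd α) := by
  rw [isComodHom_iff]
  intro x
  change Comod.coact (k := k) (A := A) (retr α x) = (retr α).rTensor A
    ((TensorProduct.assoc k B A A).symm ((Coalgebra.comul (R := k) (A := A)).lTensor B x))
  obtain ⟨y, rfl⟩ : ∃ y, tw B LinearMap.id y = x :=
    ⟨tw B (HopfAlgebra.antipode k (A := A)) x, tw_id_tw_antipode x⟩
  rw [ind_coact_tw, ← LinearMap.comp_apply ((retr α).rTensor A), ← LinearMap.rTensor_comp]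
  have h1 : retr α ∘ₗ tw B LinearMap.id = mulA α := by
    apply LinearMap.ext
    intro z
    simp only [retr, LinearMap.comp_apply, tw_antipode_tw_id]
  have h2 : retr α (tw B LinearMap.id y) = mulA α y := LinearMap.congr_fun h1 y
  rw [h1, h2, coact_mulA hα]

omit [GLin.IsCoactAlg k A B] in
theorem retr_coact {α : A →ₗ[k] B} (h1 : α 1 = 1) (b : B) :
    retr α (Comod.coact (k := k) (A := A) b) = b := by
  simp only [retr, LinearMap.comp_apply, tw_antipode_coact, mulA_tmul, h1, mul_one]

omit [GLin.IsCoactAlg k A B] in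
theorem retr_comp_toInd {α : A →ₗ[k] B} (h1 : α 1 = 1) :
    retrInd α ∘ₗ Hoch.toInd k A B = LinearMap.id := by
  apply LinearMap.ext
  intro b
  exact retr_coact h1 b

/-- The Reynolds operator `b ↦ Σ b₀ α(S(b₁))`. -/
noncomputable def reyn (α : A →ₗ[k] B) : B →ₗ[k] B :=
  retr α ∘ₗ (TensorProduct.mk k B A).flip 1

omit [GLin.IsCoactAlg k A B] in
lemma reyn_apply (α : A →ₗ[k] B) (b : B) : reyn α b = retr α (b ⊗ₜ[k] (1 : A)) := rfl

theorem reyn_mem_invariants {α : A →ₗ[k] B} (hα : Hoch.IsComodHom A α) (b : B) :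
    reyn α b ∈ GLin.invariants k A B := by
  rw [GLin.mem_invariants_iff, reyn_apply]
  have h := isComodHom_apply (isComodHom_retr hα) ((b ⊗ₜ[k] (1 : A) : B ⊗[k] A) : Hoch.Ind k A B)
  change Comod.coact (k := k) (A := A) (retrInd α ((b ⊗ₜ[k] (1 : A) : B ⊗[k] A) : Hoch.Ind k A B)) = _
  rw [h]
  change (retr α).rTensor A ((TensorProduct.assoc k B A A).symm
    ((Coalgebra.comul (R := k) (A := A)).lTensor B (b ⊗ₜ[k] (1 : A)))) = _
  rw [LinearMap.lTensor_tmul, Bialgebra.comul_one, Algebra.TensorProduct.one_def,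
    TensorProduct.assoc_symm_tmul, LinearMap.rTensor_tmul]

theorem reyn_of_mem {α : A →ₗ[k] B} (h1 : α 1 = 1) {c : B} (hc : c ∈ GLin.invariants k A B) :
    reyn α c = c := by
  rw [reyn_apply, ← (GLin.mem_invariants_iff k A B c).1 hc, retr_coact h1]

omit [Comod k A B] [GLin.IsCoactAlg k A B] in
lemma lTensor_mul_tmul_one (g : A →ₗ[k] A) (c : B) (y : B ⊗[k] A) :
    LinearMap.lTensor B g ((c ⊗ₜ[k] (1 : A)) * y) = (c ⊗ₜ[k] (1 : A)) * LinearMap.lTensor B g y := by
  induction y using TensorProduct.induction_on with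
  | zero => simp
  | tmul u b => simp [Algebra.TensorProduct.tmul_mul_tmul]
  | add y z hy hz => simp only [mul_add, map_add, hy, hz]

omit [Comod k A B] [GLin.IsCoactAlg k A B] in
lemma rmul_mul_tmul_one (a : A) (c : B) (y : B ⊗[k] A) :
    rmul B a ((c ⊗ₜ[k] (1 : A)) * y) = (c ⊗ₜ[k] (1 : A)) * rmul B a y := by
  induction y using TensorProduct.induction_on with
  | zero => simp
  | tmul u b => simp [Algebra.TensorProduct.tmul_mul_tmul]
  | add y z hy hz => simp only [mul_add, map_add, hy, hz]

omit [Comod k A B] [GLin.IsCoactAlg k A B] in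
lemma mulA_mul_tmul_one (α : A →ₗ[k] B) (c : B) (y : B ⊗[k] A) :
    mulA α ((c ⊗ₜ[k] (1 : A)) * y) = c * mulA α y := by
  induction y using TensorProduct.induction_on with
  | zero => simp
  | tmul u b => simp [Algebra.TensorProduct.tmul_mul_tmul, mul_assoc]
  | add y z hy hz => simp only [mul_add, map_add, hy, hz]

/-- `retr` is linear over the invariants. -/
theorem retr_mul_tmul (α : A →ₗ[k] B) {c : B} (hc : c ∈ GLin.invariants k A B) (b : B) (a : A) :
    retr α ((c * b) ⊗ₜ[k] a) = c * retr α (b ⊗ₜ[k] a) := by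
  simp only [retr, LinearMap.comp_apply, tw_tmul]
  rw [GLin.IsCoactAlg.coact_mul, (GLin.mem_invariants_iff k A B c).1 hc, lTensor_mul_tmul_one,
    rmul_mul_tmul_one, mulA_mul_tmul_one]

theorem reyn_mul (α : A →ₗ[k] B) {c : B} (hc : c ∈ GLin.invariants k A B) (b : B) :
    reyn α (c * b) = c * reyn α b := by
  rw [reyn_apply, reyn_apply, retr_mul_tmul α hc]

/-- The Reynolds operator maps an invariant ideal into itself. -/
theorem reyn_mem_of_isSubcomod (α : A →ₗ[k] B) (I : Ideal B)
    (hI : IsSubcomod (k := k) (A := A) (I.restrictScalars k)) {b : B} (hb : b ∈ I) :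
    reyn α b ∈ I := by
  obtain ⟨z, hz⟩ := hI b hb
  have key : ∀ z : (I.restrictScalars k : Submodule k B) ⊗[k] A,
      mulA α (rmul B (1 : A) (LinearMap.lTensor B (HopfAlgebra.antipode k (A := A))
        ((I.restrictScalars k).subtype.rTensor A z))) ∈ I := by
    intro z
    induction z using TensorProduct.induction_on with
    | zero => simp
    | tmul u a =>
      simp only [LinearMap.rTensor_tmul, Submodule.subtype_apply, LinearMap.lTensor_tmul, rmul_tmul,
        mulA_tmul]
      exact I.mul_mem_right _ u.2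
    | add y z hy hz =>
      simp only [map_add]
      exact I.add_mem hy hz
  have := key z
  rw [hz] at this
  simpa only [reyn_apply, retr, LinearMap.comp_apply, tw_tmul] using this

end MulA

section Rings

/-- Abstract "Reynolds" contraction lemma: if `E : R → S` is additive, `E ∘ f = id` and
`E (r * f s) = E r * s`, then `(I R) ∩ S = I`. -/
theorem comap_map_eq_of_projection {S R : Type*} [CommRing S] [CommRing R] (f : S →+* R)
    (E : R →+ S) (hE1 : ∀ s, E (f s) = s) (hE2 : ∀ r s, E (r * f s) = E r * s) (I : Ideal S) :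
    (I.map f).comap f = I := by
  apply le_antisymm _ Ideal.le_comap_map
  intro x hx
  rw [Ideal.mem_comap] at hx
  have key : ∀ z ∈ Ideal.map f I, ∀ r : R, E (r * z) ∈ I := by
    intro z hz
    rw [Ideal.map] at hz
    refine Submodule.span_induction (p := fun z _ => ∀ r : R, E (r * z) ∈ I) ?_ ?_ ?_ ?_ hz
    · rintro _ ⟨a, ha, rfl⟩ r
      rw [hE2]
      exact I.mul_mem_left _ ha
    · intro r; simp
    · intro z z' _ _ hz hz' r
      rw [mul_add, map_add]
      exact I.add_mem (hz r) (hz' r)
    · intro s z _ hz r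
      rw [smul_eq_mul, ← mul_assoc]
      exact hz (r * s)
  have := key _ hx 1
  rwa [one_mul, hE1] at this

/-- If `J ∩ S = p` for a prime `p` of `S`, some prime of `R` above `J` contracts to `p`. -/
theorem exists_prime_comap_eq_of_comap_eq {S R : Type*} [CommRing S] [CommRing R] (f : S →+* R)
    (J : Ideal R) (p : Ideal S) [hp : p.IsPrime] (hJ : J.comap f = p) :
    ∃ q : Ideal R, q.IsPrime ∧ J ≤ q ∧ q.comap f = p := by
  have hdis : Disjoint (J : Set R) ((p.primeCompl.map f : Submonoid R) : Set R) := by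
    rw [Set.disjoint_left]
    rintro x hxJ ⟨s, hs, rfl⟩
    apply hs
    rw [← hJ]
    exact hxJ
  obtain ⟨q, hq, hJq, hqd⟩ := Ideal.exists_le_prime_disjoint J _ hdis
  refine ⟨q, hq, hJq, le_antisymm ?_ ?_⟩
  · intro s hs
    by_contra hsp
    exact Set.disjoint_left.1 hqd hs ⟨s, hsp, rfl⟩
  · rw [← hJ]
    exact Ideal.comap_mono hJq

end Rings

end Groth.Agent.Lib.Helper7.Comod

namespace Groth.Agent.Lib.Helper7.Comod

open HopfRep

section IndOne

variable {k : Type u} [CommRing k] {A : Type v} [CommRing A] [Bialgebra k A]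
variable {B : Type w} [AddCommGroup B] [Module k B]

/-- `a ↦ b ⊗ a`, as a map from the regular comodule into the induced comodule. -/
noncomputable def mkInd (b : B) : A →ₗ[k] Hoch.Ind k A B :=
  (Hoch.Ind.equiv k A B).toLinearMap ∘ₗ TensorProduct.mk k B A b

lemma mkInd_apply (b : B) (a : A) : mkInd (k := k) b a = Hoch.Ind.equiv k A B (b ⊗ₜ[k] a) := rfl

theorem isComodHom_mkInd (b : B) : Hoch.IsComodHom A (mkInd (k := k) (A := A) b) := by
  rw [isComodHom_iff]
  intro a
  change (TensorProduct.assoc k B A A).symm (b ⊗ₜ[k] Coalgebra.comul (R := k) a) =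
    (TensorProduct.mk k B A b).rTensor A (Coalgebra.comul (R := k) a)
  generalize Coalgebra.comul (R := k) a = y
  induction y using TensorProduct.induction_on with
  | zero => simp
  | tmul c d => simp
  | add y z hy hz => simp only [TensorProduct.tmul_add, map_add, hy, hz]

end IndOne

section Converse

variable {k : Type u} [CommRing k] {A : Type v} [CommRing A] [HopfAlgebra k A]
variable {B : Type w} [CommRing B] [Algebra k B] [Comod k A B] [GLin.IsCoactAlg k A B]

/-- S12918: total integrals are the same as comodule retractions of the coaction. -/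
theorem exists_totalIntegral_iff_exists_retraction :
    (∃ α : A →ₗ[k] B, Hoch.IsComodHom A α ∧ α 1 = 1) ↔
      ∃ lam : Hoch.Ind k A B →ₗ[k] B, Hoch.IsComodHom A lam ∧
        lam ∘ₗ Hoch.toInd k A B = LinearMap.id := by
  constructor
  · rintro ⟨α, hα, h1⟩
    exact ⟨retrInd α, isComodHom_retr hα, retr_comp_toInd h1⟩
  · rintro ⟨lam, hlam, h1⟩
    refine ⟨lam ∘ₗ mkInd (1 : B), isComodHom_comp hlam (isComodHom_mkInd 1), ?_⟩
    have h2 : mkInd (k := k) (A := A) (1 : B) 1 = Hoch.toInd k A B 1 := by
      change (1 : B) ⊗ₜ[k] (1 : A) = Comod.coact (k := k) (A := A) (1 : B)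
      rw [GLin.IsCoactAlg.coact_one, Algebra.TensorProduct.one_def]
    rw [LinearMap.comp_apply, h2]
    exact LinearMap.congr_fun h1 1

/-- The Reynolds operator as an additive map to the invariants. -/
noncomputable def reynInv {α : A →ₗ[k] B} (hα : Hoch.IsComodHom A α) :
    B →+ GLin.invariants k A B where
  toFun b := ⟨reyn α b, reyn_mem_invariants hα b⟩
  map_zero' := by ext; simp
  map_add' x y := by ext; simp

/-- S12921: `c B ∩ C = c`. -/
theorem comap_map_invariants_of_totalIntegral
    (htame : ∃ α : A →ₗ[k] B, Hoch.IsComodHom A α ∧ α 1 = 1)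
    (c : Ideal (GLin.invariants k A B)) :
    (c.map (algebraMap (GLin.invariants k A B) B)).comap (algebraMap (GLin.invariants k A B) B)
      = c := by
  obtain ⟨α, hα, h1⟩ := htame
  refine comap_map_eq_of_projection _ (reynInv hα) ?_ ?_ c
  · intro s
    exact Subtype.ext (reyn_of_mem h1 s.2)
  · intro r s
    apply Subtype.ext
    change reyn α (r * (s : B)) = reyn α r * (s : B)
    rw [mul_comm, reyn_mul α s.2, mul_comm]

/-- Core of S12922/S12923: a prime of the invariants containing `b ∩ C` lifts to a prime above `b`. -/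
theorem exists_prime_of_totalIntegral
    (htame : ∃ α : A →ₗ[k] B, Hoch.IsComodHom A α ∧ α 1 = 1)
    (b : Ideal B) (hb : HopfRep.IsSubcomod (k := k) (A := A) (b.restrictScalars k))
    (p : Ideal (GLin.invariants k A B)) [hp : p.IsPrime]
    (hbp : b.comap (algebraMap (GLin.invariants k A B) B) ≤ p) :
    ∃ q : Ideal B, q.IsPrime ∧ b ≤ q ∧ q.comap (algebraMap (GLin.invariants k A B) B) = p := by
  obtain ⟨α, hα, h1⟩ := htame
  set f := algebraMap (GLin.invariants k A B) B with hf
  have hJ : (b ⊔ p.map f).comap f = p := by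
    apply le_antisymm
    · intro x hx
      rw [Ideal.mem_comap] at hx
      obtain ⟨y, hy, z, hz, hyz⟩ := Submodule.mem_sup.1 hx
      -- apply the Reynolds operator
      have hx' : reyn α (f x) = f x := reyn_of_mem h1 x.2
      have hEy : reyn α y ∈ b := reyn_mem_of_isSubcomod α b hb hy
      have hEy' : (⟨reyn α y, reyn_mem_invariants hα y⟩ : GLin.invariants k A B) ∈ p :=
        hbp (by rw [Ideal.mem_comap]; exact hEy)
      have key : ∀ z ∈ Ideal.map f p, ∀ r : B, reynInv hα (r * z) ∈ p := by
        intro z hz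
        rw [Ideal.map] at hz
        refine Submodule.span_induction (p := fun z _ => ∀ r : B, reynInv hα (r * z) ∈ p)
          ?_ ?_ ?_ ?_ hz
        · rintro _ ⟨a, ha, rfl⟩ r
          have : reynInv hα (r * f a) = reynInv hα r * a := by
            apply Subtype.ext
            change reyn α (r * (a : B)) = reyn α r * (a : B)
            rw [mul_comm, reyn_mul α a.2, mul_comm]
          rw [this]
          exact p.mul_mem_left _ ha
        · intro r; simp
        · intro z z' _ _ hz hz' r
          rw [mul_add, map_add]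
          exact p.add_mem (hz r) (hz' r)
        · intro s z _ hz r
          rw [smul_eq_mul, ← mul_assoc]
          exact hz (r * s)
      have hEz := key z hz 1
      rw [one_mul] at hEz
      have : x = ⟨reyn α y, reyn_mem_invariants hα y⟩ + reynInv hα z := by
        apply Subtype.ext
        change (x : B) = reyn α y + reyn α z
        rw [← map_add, hyz]
        exact hx'.symm
      rw [this]
      exact p.add_mem hEy' hEz
    · intro x hx
      rw [Ideal.mem_comap]
      exact Ideal.mem_sup_right (Ideal.mem_map_of_mem f hx)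
  obtain ⟨q, hq, hJq, hqp⟩ := exists_prime_comap_eq_of_comap_eq f (b ⊔ p.map f) p hJ
  exact ⟨q, hq, le_trans le_sup_left hJq, hqp⟩

end Converse

end Groth.Agent.Lib.Helper7.Comod
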