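import Mathlib
import Groth.Agent.Lib.Helper7.HopfTotalInt
import Groth.Agent.Lib.Helper7.ComodInd

/-!
# Invariant opens of `Spec B` contain saturated basic opens (helper7)
-/

set_option autoImplicit false

universe u v w

open TensorProduct

namespace Groth.Agent.Lib.Helper7.CatQuot

open HopfRep Groth.Agent.Lib.Helper7.Comod

variable {k : Type u} [CommRing k] {A : Type v} [CommRing A] [HopfAlgebra k A]
variable {B : Type w} [CommRing B] [Algebra k B] [Comod k A B] [GLin.IsCoactAlg k A B]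

lemma map_id_eq_rTensor {B' : Type*} [CommRing B'] [Algebra k B'] (f : B →ₐ[k] B') (x : B ⊗[k] A) :
    Algebra.TensorProduct.map f (AlgHom.id k A) x = f.toLinearMap.rTensor A x := by
  induction x using TensorProduct.induction_on with
  | zero => simp
  | tmul b a => simp
  | add y z hy hz => simp only [map_add, hy, hz]

variable (k A) in
/-- `b ↦ (mk ⊗ id)(ρ b) : B → (B/I) ⊗ A`. -/
noncomputable def satHom (I : Ideal B) : B →ₐ[k] (B ⧸ I) ⊗[k] A :=
  (Algebra.TensorProduct.map (Ideal.Quotient.mkₐ k I) (AlgHom.id k A)).comp (GLin.coactAlgHom k A B)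

variable (k A) in
/-- the largest invariant ideal inside `I`. -/
noncomputable def satI (I : Ideal B) : Ideal B := RingHom.ker (satHom k A I : B →+* (B ⧸ I) ⊗[k] A)

lemma mem_satI_iff (I : Ideal B) (b : B) :
    b ∈ satI k A I ↔ (Ideal.Quotient.mkₐ k I).toLinearMap.rTensor A
      (Comod.coact (k := k) (A := A) b) = 0 := by
  unfold satI
  rw [RingHom.mem_ker]
  change (Algebra.TensorProduct.map (Ideal.Quotient.mkₐ k I) (AlgHom.id k A))
    (Comod.coact (k := k) (A := A) b) = 0 ↔ _
  rw [map_id_eq_rTensor]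

theorem satI_le (I : Ideal B) : satI k A I ≤ I := by
  intro b hb
  rw [mem_satI_iff] at hb
  have h1 := congrArg (LinearMap.lTensor (B ⧸ I) (Coalgebra.counit (R := k) (A := A))) hb
  rw [map_zero, ← LinearMap.comp_apply, LinearMap.lTensor_comp_rTensor,
    ← LinearMap.rTensor_comp_lTensor, LinearMap.comp_apply] at h1
  have h2 := LinearMap.congr_fun (Comod.counit_comp (k := k) (A := A) (V := B)) b
  simp only [LinearMap.comp_apply, LinearMap.flip_apply, TensorProduct.mk_apply] at h2
  rw [h2, LinearMap.rTensor_tmul] at h1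
  have h3 := congrArg (TensorProduct.rid k (B ⧸ I)) h1
  rw [TensorProduct.rid_tmul, one_smul, map_zero] at h3
  exact Ideal.Quotient.eq_zero_iff_mem.1 h3

theorem isSubcomod_satI [Module.Flat k A] (I : Ideal B) :
    IsSubcomod (k := k) (A := A) ((satI k A I).restrictScalars k) := by
  have hθ := isComodHom_ind_of_linear (k := k) (A := A) (V := B) (N := B ⧸ I)
    (Ideal.Quotient.mkₐ k I).toLinearMap
  have h := isSubcomod_ker hθ
  have heq : (satI k A I).restrictScalars k = LinearMap.ker
      ((Hoch.Ind.equiv k A (B ⧸ I)).toLinearMap ∘ₗ (Ideal.Quotient.mkₐ k I).toLinearMap.rTensor A ∘ₗ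
        Comod.coact (k := k) (A := A)) := by
    ext b
    rw [Submodule.restrictScalars_mem, mem_satI_iff, LinearMap.mem_ker]
    simp only [LinearMap.comp_apply, LinearEquiv.coe_coe]
    exact ⟨fun h => by rw [h, map_zero], fun h => (Hoch.Ind.equiv k A (B ⧸ I)).injective
      (by rw [h, map_zero])⟩
  rw [heq]
  exact h

/-- if the closed set `V(I)` is invariant then `V(satI I) = V(I)`. -/
theorem zeroLocus_satI_subset (I : Ideal B) (F : Set (PrimeSpectrum B)) (hF : IsClosed F)
    (hIF : PrimeSpectrum.zeroLocus (I : Set B) ⊆ F)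
    (hinv : ∀ Q : PrimeSpectrum (B ⊗[k] A),
      PrimeSpectrum.comap (Algebra.TensorProduct.includeLeft : B →ₐ[k] B ⊗[k] A).toRingHom Q ∈ F →
      PrimeSpectrum.comap (GLin.coactAlgHom k A B).toRingHom Q ∈ F) :
    PrimeSpectrum.zeroLocus (satI k A I : Set B) ⊆ F := by
  unfold satI
  rw [← PrimeSpectrum.closure_range_comap]
  apply closure_minimal _ hF
  rintro _ ⟨Q', rfl⟩
  set Q : PrimeSpectrum (B ⊗[k] A) := PrimeSpectrum.comap
    (Algebra.TensorProduct.map (Ideal.Quotient.mkₐ k I) (AlgHom.id k A)).toRingHom Q' with hQ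
  have h1 : PrimeSpectrum.comap (satHom k A I : B →+* (B ⧸ I) ⊗[k] A) Q' =
      PrimeSpectrum.comap (GLin.coactAlgHom k A B).toRingHom Q := by
    rw [hQ]
    rfl
  rw [h1]
  apply hinv
  apply hIF
  rw [PrimeSpectrum.mem_zeroLocus]
  intro b hb
  change (Algebra.TensorProduct.map (Ideal.Quotient.mkₐ k I) (AlgHom.id k A))
    ((Algebra.TensorProduct.includeLeft : B →ₐ[k] B ⊗[k] A) b) ∈ Q'.asIdeal
  rw [Algebra.TensorProduct.includeLeft_apply, Algebra.TensorProduct.map_tmul]
  have : (Ideal.Quotient.mkₐ k I) b = 0 := Ideal.Quotient.eq_zero_iff_mem.2 hb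
  rw [this, TensorProduct.zero_tmul]
  exact Q'.asIdeal.zero_mem

/-- Given a cover of `Spec B` by invariant open sets, every prime of the ring of invariants has a
basic open neighbourhood whose preimage lies in one member of the cover. -/
theorem exists_invariant_basicOpen_subset [Module.Flat k A]
    (htame : ∃ α : A →ₗ[k] B, Hoch.IsComodHom A α ∧ α 1 = 1)
    {ι : Type*} (U : ι → Set (PrimeSpectrum B)) (hU : ∀ i, IsOpen (U i))
    (hcov : ∀ q, ∃ i, q ∈ U i)
    (hinv : ∀ i (Q : PrimeSpectrum (B ⊗[k] A)),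
      PrimeSpectrum.comap (GLin.coactAlgHom k A B).toRingHom Q ∈ U i →
      PrimeSpectrum.comap (Algebra.TensorProduct.includeLeft : B →ₐ[k] B ⊗[k] A).toRingHom Q ∈ U i)
    (p : PrimeSpectrum (GLin.invariants k A B)) :
    ∃ i, ∃ f : GLin.invariants k A B, f ∉ p.asIdeal ∧
      (PrimeSpectrum.basicOpen (f : B) : Set (PrimeSpectrum B)) ⊆ U i := by
  obtain ⟨α, hα, h1⟩ := htame
  set I : ι → Ideal B := fun i => PrimeSpectrum.vanishingIdeal (U i)ᶜ with hI
  have hzI : ∀ i, PrimeSpectrum.zeroLocus (I i : Set B) = (U i)ᶜ := by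
    intro i
    rw [hI, PrimeSpectrum.zeroLocus_vanishingIdeal_eq_closure, (hU i).isClosed_compl.closure_eq]
  set J : ι → Ideal B := fun i => satI k A (I i) with hJ
  have hzJ : ∀ i, PrimeSpectrum.zeroLocus (J i : Set B) ⊆ (U i)ᶜ := by
    intro i
    apply zeroLocus_satI_subset (I i) _ (hU i).isClosed_compl (hzI i).subset
    intro Q hQ hQ'
    exact hQ (hinv i Q hQ')
  have htop : (⨆ i, J i) = ⊤ := by
    rw [← PrimeSpectrum.zeroLocus_empty_iff_eq_top, PrimeSpectrum.zeroLocus_iSup]
    rw [Set.eq_empty_iff_forall_notMem]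
    intro q hq
    rw [Set.mem_iInter] at hq
    obtain ⟨i, hi⟩ := hcov q
    exact hzJ i (hq i) hi
  set T : Ideal (GLin.invariants k A B) :=
    ⨆ i, (J i).comap (algebraMap (GLin.invariants k A B) B) with hT
  have key : ∀ x ∈ (⨆ i, J i), reynInv hα x ∈ T := by
    intro x hx
    refine Submodule.iSup_induction (p := J) (motive := fun x => reynInv hα x ∈ T) hx ?_ ?_ ?_
    · intro i x hx
      have : reyn α x ∈ J i := reyn_mem_of_isSubcomod α (J i) (isSubcomod_satI (I i)) hx
      exact (le_iSup (fun i => (J i).comap (algebraMap (GLin.invariants k A B) B)) i)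
        (by rw [Ideal.mem_comap]; exact this)
    · rw [map_zero]; exact T.zero_mem
    · intro x y hx hy
      rw [map_add]; exact T.add_mem hx hy
  have h1T : (1 : GLin.invariants k A B) ∈ T := by
    have := key 1 (by rw [htop]; trivial)
    have h2 : reynInv hα 1 = 1 := Subtype.ext (reyn_of_mem h1 (one_mem _))
    rwa [h2] at this
  have hTp : ¬ T ≤ p.asIdeal := fun h => p.2.ne_top ((Ideal.eq_top_iff_one _).2 (h h1T))
  rw [hT, iSup_le_iff, not_forall] at hTp
  obtain ⟨i, hi⟩ := hTp
  obtain ⟨f, hf, hfp⟩ := SetLike.not_le_iff_exists.1 hi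
  refine ⟨i, f, hfp, ?_⟩
  intro q hq
  by_contra hqU
  have h3 : q ∈ PrimeSpectrum.zeroLocus (I i : Set B) := by rw [hzI i]; exact hqU
  rw [PrimeSpectrum.mem_zeroLocus] at h3
  rw [Ideal.mem_comap] at hf
  exact hq (h3 (satI_le (I i) hf))

end Groth.Agent.Lib.Helper7.CatQuot
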