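import Mathlib
import Groth.Agent.Lib.Helper7.HopfTotalInt

/-!
# Split-injective ring maps give epimorphisms of schemes (helper7)
-/

set_option autoImplicit false

universe u

open CategoryTheory AlgebraicGeometry

namespace Groth.Agent.Lib.Helper7.CatQuot

/-- a morphism from an affine scheme landing in an affine open factors through `fromSpec`. -/
theorem exists_factor_fromSpec {Z : Scheme.{u}} (S : CommRingCat.{u}) (v : Spec S ⟶ Z)
    {W : Z.Opens} (hW : IsAffineOpen W) (hv : Set.range v.base ⊆ (W : Set Z)) :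
    ∃ ν : Γ(Z, W) ⟶ S, v = Spec.map ν ≫ hW.fromSpec := by
  have e : (⊤ : (Spec S).Opens) ≤ v ⁻¹ᵁ W := by
    intro x _
    exact hv ⟨x, rfl⟩
  refine ⟨v.appLE W ⊤ e ≫ (Scheme.ΓSpecIso S).hom, ?_⟩
  have h := IsAffineOpen.SpecMap_appLE_fromSpec v hW (isAffineOpen_top (Spec S)) e
  rw [IsAffineOpen.fromSpec_top, Scheme.isoSpec_Spec_inv] at h
  rw [Spec.map_comp, Category.assoc, h, ← Category.assoc, ← Spec.map_comp, Iso.inv_hom_id,
    Spec.map_id, Category.id_comp]

/-- A ring map which is surjective on spectra and stays injective after inverting any element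
induces an epimorphism of schemes. -/
theorem eq_of_SpecMap_comp_eq {R R' : CommRingCat.{u}} (φ : R ⟶ R')
    (h1 : Function.Surjective (PrimeSpectrum.comap φ.hom))
    (h2 : ∀ r : R, Function.Injective (Localization.awayMap φ.hom r))
    {Z : Scheme.{u}} (u u' : Spec R ⟶ Z) (h : Spec.map φ ≫ u = Spec.map φ ≫ u') : u = u' := by
  -- pointwise equality
  have hpt : ∀ x : Spec R, u.base x = u'.base x := by
    intro x
    obtain ⟨y, hy⟩ := h1 x
    have h3 : (Spec.map φ ≫ u) (show Spec R' from y) = (Spec.map φ ≫ u') (show Spec R' from y) := by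
      rw [h]
    rw [Scheme.Hom.comp_apply, Scheme.Hom.comp_apply] at h3
    have h4 : (Spec.map φ) (show Spec R' from y) = x := hy
    rw [h4] at h3
    exact h3
  -- local data
  have hloc : ∀ x : Spec R, ∃ (r : R) (W : Z.Opens), IsAffineOpen W ∧ r ∉ x.asIdeal ∧
      (PrimeSpectrum.basicOpen r : Set (PrimeSpectrum R)) ⊆ u.base ⁻¹' (W : Set Z) ∧
      (PrimeSpectrum.basicOpen r : Set (PrimeSpectrum R)) ⊆ u'.base ⁻¹' (W : Set Z) := by
    intro x
    obtain ⟨_, ⟨W, hW, rfl⟩, hxW, -⟩ := Z.isBasis_affineOpens.exists_subset_of_mem_open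
      (Set.mem_univ (u.base x)) isOpen_univ
    have hopen : IsOpen (u.base ⁻¹' (W : Set Z) ∩ u'.base ⁻¹' (W : Set Z)) :=
      (W.2.preimage u.continuous).inter (W.2.preimage u'.continuous)
    have hx : x ∈ u.base ⁻¹' (W : Set Z) ∩ u'.base ⁻¹' (W : Set Z) := by
      refine ⟨hxW, ?_⟩
      change u'.base x ∈ (W : Set Z)
      rw [← hpt x]
      exact hxW
    obtain ⟨_, ⟨r, rfl⟩, hxr, hsub⟩ :=
      PrimeSpectrum.isTopologicalBasis_basic_opens.exists_subset_of_mem_open hx hopen
    exact ⟨r, W, hW, hxr, fun y hy => (hsub hy).1, fun y hy => (hsub hy).2⟩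
  choose s W hW hs hsu hsu' using hloc
  have hspan : Ideal.span (Set.range s) = ⊤ := by
    by_contra hne
    obtain ⟨m, hm, hle⟩ := Ideal.exists_le_maximal _ hne
    exact hs ⟨m, hm.isPrime⟩ (hle (Ideal.subset_span ⟨⟨m, hm.isPrime⟩, rfl⟩))
  refine (Scheme.affineOpenCoverOfSpanRangeEqTop s hspan).openCover.hom_ext _ _ fun x => ?_
  change Spec.map (CommRingCat.ofHom (algebraMap R (Localization.Away (s x)))) ≫ u =
    Spec.map (CommRingCat.ofHom (algebraMap R (Localization.Away (s x)))) ≫ u'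
  set j := Spec.map (CommRingCat.ofHom (algebraMap R (Localization.Away (s x)))) with hj
  have hrange : ∀ y, (j.base y : PrimeSpectrum R) ∈
      (PrimeSpectrum.basicOpen (s x) : Set (PrimeSpectrum R)) := by
    intro y
    have := PrimeSpectrum.localization_away_comap_range (Localization.Away (s x)) (s x)
    rw [← this]
    exact ⟨y, rfl⟩
  obtain ⟨ν, hν⟩ := exists_factor_fromSpec _ (j ≫ u) (hW x) (by
    rintro _ ⟨y, rfl⟩
    simp only [Scheme.Hom.comp_base, TopCat.comp_app]
    exact hsu x (hrange y))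
  obtain ⟨ν', hν'⟩ := exists_factor_fromSpec _ (j ≫ u') (hW x) (by
    rintro _ ⟨y, rfl⟩
    simp only [Scheme.Hom.comp_base, TopCat.comp_app]
    exact hsu' x (hrange y))
  set m := Localization.awayMap φ.hom (s x) with hm
  have hsq : CommRingCat.ofHom (algebraMap R (Localization.Away (s x))) ≫ CommRingCat.ofHom m =
      φ ≫ CommRingCat.ofHom (algebraMap R' (Localization.Away (φ.hom (s x)))) := by
    ext a
    simp [hm, Localization.awayMap, IsLocalization.Away.map, IsLocalization.map_eq]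
  have hsq' : Spec.map (CommRingCat.ofHom m) ≫ j =
      Spec.map (CommRingCat.ofHom (algebraMap R' (Localization.Away (φ.hom (s x))))) ≫
        Spec.map φ := by
    rw [hj, ← Spec.map_comp, ← Spec.map_comp, hsq]
  have h5 : Spec.map (CommRingCat.ofHom m) ≫ (j ≫ u) = Spec.map (CommRingCat.ofHom m) ≫ (j ≫ u') := by
    rw [← Category.assoc, ← Category.assoc, hsq', Category.assoc, Category.assoc, h]
  rw [hν, hν', ← Category.assoc, ← Category.assoc, cancel_mono, ← Spec.map_comp,
    ← Spec.map_comp] at h5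
  have h6 := Spec.map_injective h5
  have h7 : ν = ν' := by
    ext a
    apply h2 (s x)
    have := congrArg (fun f => f.hom a) h6
    simpa using this
  rw [hν, hν', h7]

section Split

variable {R R' : Type u} [CommRing R] [CommRing R'] (φ : R →+* R') (E : R' →+ R)
  (hE1 : ∀ r, E (φ r) = r) (hE2 : ∀ x r, E (x * φ r) = E x * r)

include hE1 hE2 in
theorem comap_surjective_of_split : Function.Surjective (PrimeSpectrum.comap φ) := by
  intro p
  have h := Groth.Agent.Lib.Helper7.Comod.comap_map_eq_of_projection φ E hE1 hE2 p.asIdeal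
  obtain ⟨q, hq, -, hqp⟩ :=
    Groth.Agent.Lib.Helper7.Comod.exists_prime_comap_eq_of_comap_eq φ _ p.asIdeal h
  exact ⟨⟨q, hq⟩, PrimeSpectrum.ext hqp⟩

include hE1 hE2 in
theorem awayMap_injective_of_split (r : R) : Function.Injective (Localization.awayMap φ r) := by
  rw [injective_iff_map_eq_zero]
  intro x hx
  obtain ⟨a, ⟨_, n, rfl⟩, rfl⟩ := IsLocalization.exists_mk'_eq (Submonoid.powers r) x
  rw [Localization.awayMap, IsLocalization.Away.map, IsLocalization.map_mk',
    IsLocalization.mk'_eq_zero_iff] at hx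
  obtain ⟨⟨_, m, rfl⟩, hm⟩ := hx
  rw [IsLocalization.mk'_eq_zero_iff]
  refine ⟨⟨r ^ m, m, rfl⟩, ?_⟩
  have h3 : φ (r ^ m * a) = 0 := by
    rw [map_mul, map_pow]
    exact hm
  have h4 := hE1 (r ^ m * a)
  rw [h3, map_zero] at h4
  exact h4.symm

include hE1 hE2 in
/-- a split injective ring map induces an epimorphism of schemes. -/
theorem eq_of_SpecMap_comp_eq_of_split {Z : Scheme.{u}}
    (u u' : Spec (CommRingCat.of R) ⟶ Z)
    (h : Spec.map (CommRingCat.ofHom φ) ≫ u = Spec.map (CommRingCat.ofHom φ) ≫ u') : u = u' :=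
  eq_of_SpecMap_comp_eq (CommRingCat.ofHom φ) (comap_surjective_of_split φ E hE1 hE2)
    (awayMap_injective_of_split φ E hE1 hE2) u u' h

end Split

end Groth.Agent.Lib.Helper7.CatQuot
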