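import Mathlib
import Groth.Agent.Lib.Helper7.CQ2
import Groth.Agent.Lib.Helper7.HopfTotalInt

/-!
# Local descent of an invariant morphism to the quotient (helper7)
-/

set_option autoImplicit false

universe u

open TensorProduct CategoryTheory AlgebraicGeometry

namespace Groth.Agent.Lib.Helper7.CatQuot

open HopfRep Groth.Agent.Lib.Helper7.Comod

theorem exists_ringHom_of_range_le {R S T : Type*} [CommRing R] [CommRing S] [CommRing T]
    (i : S →+* T) (hi : Function.Injective i) (φ : R →+* T) (h : ∀ x, φ x ∈ i.range) :
    ∃ φ' : R →+* S, i.comp φ' = φ := by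
  let e : S ≃+* i.range := RingEquiv.ofBijective i.rangeRestrict
    ⟨fun a b hab => hi (congrArg Subtype.val hab), i.rangeRestrict_surjective⟩
  refine ⟨e.symm.toRingHom.comp (φ.codRestrict i.range h), ?_⟩
  ext x
  have : e (e.symm (φ.codRestrict i.range h x)) = φ.codRestrict i.range h x :=
    e.apply_symm_apply _
  exact congrArg Subtype.val this

variable {k : Type u} [CommRing k] {A : Type u} [CommRing A] [HopfAlgebra k A]
variable {B : Type u} [CommRing B] [Algebra k B] [Comod k A B] [GLin.IsCoactAlg k A B]

variable (k A B) in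
/-- the coaction as a map of algebras over the invariants. -/
noncomputable def coactC : B →ₐ[GLin.invariants k A B] B ⊗[k] A :=
  { (GLin.coactAlgHom k A B : B →+* B ⊗[k] A) with
    commutes' := fun c => by
      change Comod.coact (k := k) (A := A) ((c : B)) = _
      rw [(GLin.mem_invariants_iff k A B c).1 c.2]
      rfl }

variable (k A B) in
/-- `b ↦ b ⊗ 1` as a map of algebras over the invariants. -/
noncomputable def inclC : B →ₐ[GLin.invariants k A B] B ⊗[k] A :=
  { (Algebra.TensorProduct.includeLeft : B →ₐ[k] B ⊗[k] A).toRingHom with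
    commutes' := fun c => rfl }

section Equalizer

variable (R : Type u) [CommRing R] [Algebra (GLin.invariants k A B) R]

omit [Comod k A B] [GLin.IsCoactAlg k A B] in
lemma map_id_eq_lTensor {C : Type*} [CommRing C] {B₁ B₂ : Type*} [CommRing B₁] [Algebra C B₁]
    [CommRing B₂] [Algebra C B₂] (R : Type*) [CommRing R] [Algebra C R]
    (f : B₁ →ₐ[C] B₂) (z : R ⊗[C] B₁) :
    Algebra.TensorProduct.map (AlgHom.id C R) f z = f.toLinearMap.lTensor R z := by
  induction z using TensorProduct.induction_on with
  | zero => simp
  | tmul b a => simp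
  | add y z hy hz => simp only [map_add, hy, hz]

theorem mem_range_includeLeft_of_eq [Module.Flat (GLin.invariants k A B) R]
    (z : R ⊗[GLin.invariants k A B] B)
    (hz : Algebra.TensorProduct.map (AlgHom.id (GLin.invariants k A B) R) (coactC k A B) z =
      Algebra.TensorProduct.map (AlgHom.id (GLin.invariants k A B) R) (inclC k A B) z) :
    z ∈ (Algebra.TensorProduct.includeLeftRingHom :
      R →+* R ⊗[GLin.invariants k A B] B).range := by
  set d : B →ₗ[GLin.invariants k A B] B ⊗[k] A :=
    (coactC k A B).toLinearMap - (inclC k A B).toLinearMap with hd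
  have hex : Function.Exact (Algebra.linearMap (GLin.invariants k A B) B) d := by
    intro b
    rw [hd, LinearMap.sub_apply, sub_eq_zero]
    constructor
    · intro h
      exact ⟨⟨b, h⟩, rfl⟩
    · rintro ⟨c, rfl⟩
      exact c.2
  have hex' := Module.Flat.lTensor_exact R hex
  have h0 : d.lTensor R z = 0 := by
    rw [hd, LinearMap.lTensor_sub, LinearMap.sub_apply, ← map_id_eq_lTensor, ← map_id_eq_lTensor,
      hz, sub_self]
  obtain ⟨y, rfl⟩ := (hex' z).1 h0
  clear h0 hz
  induction y using TensorProduct.induction_on with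
  | zero => rw [map_zero]; exact Subring.zero_mem _
  | add y z hy hz => rw [map_add]; exact Subring.add_mem _ hy hz
  | tmul r c =>
    refine ⟨c • r, ?_⟩
    rw [LinearMap.lTensor_tmul, Algebra.linearMap_apply, Algebra.TensorProduct.includeLeftRingHom_apply,
      TensorProduct.smul_tmul, Algebra.algebraMap_eq_smul_one]

theorem includeLeft_injective [Module.Flat (GLin.invariants k A B) R] :
    Function.Injective (Algebra.TensorProduct.includeLeftRingHom :
      R →+* R ⊗[GLin.invariants k A B] B) := by
  have h1 : Function.Injective (Algebra.linearMap (GLin.invariants k A B) B) :=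
    Subtype.val_injective
  have h2 := Module.Flat.lTensor_preserves_injective_linearMap (M := R) _ h1
  intro r r' hrr'
  apply (TensorProduct.rid (GLin.invariants k A B) R).symm.injective
  apply h2
  simpa using hrr'

end Equalizer

section Local

variable {Z : Scheme.{u}} (ψ : Spec (CommRingCat.of B) ⟶ Z)
  (hψ : Spec.map (CommRingCat.ofHom (GLin.coactAlgHom k A B).toRingHom) ≫ ψ =
    Spec.map (CommRingCat.ofHom
      (Algebra.TensorProduct.includeLeftRingHom : B →+* B ⊗[k] A)) ≫ ψ)
  (R : Type u) [CommRing R] [Algebra (GLin.invariants k A B) R]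

include hψ in
/-- over a flat algebra `R` over the invariants such that `Spec (R ⊗ B)` lands in an affine open
of `Z`, the invariant morphism `ψ` descends to `Spec R`. -/
theorem exists_local_desc [Module.Flat (GLin.invariants k A B) R]
    {W : Z.Opens} (hW : IsAffineOpen W)
    (hRW : ∀ y : Spec (CommRingCat.of (R ⊗[GLin.invariants k A B] B)),
      (Spec.map (CommRingCat.ofHom (Algebra.TensorProduct.includeRight :
        B →ₐ[GLin.invariants k A B] R ⊗[GLin.invariants k A B] B).toRingHom) ≫ ψ) y ∈ W) :
    ∃ χ : Spec (CommRingCat.of R) ⟶ Z,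
      Spec.map (CommRingCat.ofHom (Algebra.TensorProduct.includeLeftRingHom :
        R →+* R ⊗[GLin.invariants k A B] B)) ≫ χ =
      Spec.map (CommRingCat.ofHom (Algebra.TensorProduct.includeRight :
        B →ₐ[GLin.invariants k A B] R ⊗[GLin.invariants k A B] B).toRingHom) ≫ ψ := by
  set incR := (Algebra.TensorProduct.includeRight :
        B →ₐ[GLin.invariants k A B] R ⊗[GLin.invariants k A B] B) with hincR
  set g₀ := Spec.map (CommRingCat.ofHom incR.toRingHom) ≫ ψ with hg₀
  obtain ⟨φ, hφ⟩ := exists_factor_fromSpec _ g₀ hW (by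
    rintro _ ⟨y, rfl⟩
    exact hRW y)
  set ρR := Algebra.TensorProduct.map (AlgHom.id (GLin.invariants k A B) R) (coactC k A B) with hρR
  set ιR := Algebra.TensorProduct.map (AlgHom.id (GLin.invariants k A B) R) (inclC k A B) with hιR
  -- invariance of `g₀`
  have hinv : Spec.map (CommRingCat.ofHom ρR.toRingHom) ≫ g₀ =
      Spec.map (CommRingCat.ofHom ιR.toRingHom) ≫ g₀ := by
    have e1 : ρR.toRingHom.comp incR.toRingHom =
        (Algebra.TensorProduct.includeRight : B ⊗[k] A →ₐ[GLin.invariants k A B]
          R ⊗[GLin.invariants k A B] (B ⊗[k] A)).toRingHom.comp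
          (GLin.coactAlgHom k A B).toRingHom := by
      ext b
      simp [hρR, hincR, coactC]
    have e2 : ιR.toRingHom.comp incR.toRingHom =
        (Algebra.TensorProduct.includeRight : B ⊗[k] A →ₐ[GLin.invariants k A B]
          R ⊗[GLin.invariants k A B] (B ⊗[k] A)).toRingHom.comp
          (Algebra.TensorProduct.includeLeftRingHom : B →+* B ⊗[k] A) := by
      ext b
      simp [hιR, hincR, inclC]
    rw [hg₀, ← Category.assoc, ← Category.assoc, ← Spec.map_comp, ← Spec.map_comp,
      ← CommRingCat.ofHom_comp, ← CommRingCat.ofHom_comp, e1, e2, CommRingCat.ofHom_comp,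
      CommRingCat.ofHom_comp, Spec.map_comp, Spec.map_comp, Category.assoc, Category.assoc, hψ]
  rw [hφ, ← Category.assoc, ← Category.assoc, cancel_mono, ← Spec.map_comp, ← Spec.map_comp] at hinv
  have hinv' := Spec.map_injective hinv
  have hmem : ∀ w, φ.hom w ∈ (Algebra.TensorProduct.includeLeftRingHom :
      R →+* R ⊗[GLin.invariants k A B] B).range := by
    intro w
    apply mem_range_includeLeft_of_eq R
    have := congrArg (fun f => f.hom w) hinv'
    simpa using this
  obtain ⟨φ', hφ'⟩ := exists_ringHom_of_range_le _ (includeLeft_injective R) φ.hom hmem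
  refine ⟨Spec.map (CommRingCat.ofHom φ') ≫ hW.fromSpec, ?_⟩
  rw [← Category.assoc, ← Spec.map_comp, ← CommRingCat.ofHom_comp, hφ', hφ]
  rfl

end Local

end Groth.Agent.Lib.Helper7.CatQuot
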