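import Mathlib
import Groth.Agent.Lib.Helper7.CQ1
import Groth.Agent.Lib.Helper7.CQ3

/-!
# The categorical quotient by a coaction with a total integral (helper7)
-/

set_option autoImplicit false

universe u

open TensorProduct CategoryTheory AlgebraicGeometry Limits

namespace Groth.Agent.Lib.Helper7.CatQuot

open HopfRep Groth.Agent.Lib.Helper7.Comod

variable {k : Type u} [CommRing k] {A : Type u} [CommRing A] [HopfAlgebra k A]
variable {B : Type u} [CommRing B] [Algebra k B] [Comod k A B] [GLin.IsCoactAlg k A B]

section Split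

variable {α : A →ₗ[k] B} (hα : Hoch.IsComodHom A α)

/-- the Reynolds operator as a map linear over the invariants. -/
noncomputable def reynL : B →ₗ[GLin.invariants k A B] GLin.invariants k A B where
  toFun := reynInv hα
  map_add' := map_add _
  map_smul' c b := by
    apply Subtype.ext
    change reyn α (c • b) = (c : B) * reyn α b
    rw [Algebra.smul_def]
    exact reyn_mul α c.2 b

variable (R : Type u) [CommRing R] [Algebra (GLin.invariants k A B) R]

/-- the retraction `R ⊗ B → R`. -/
noncomputable def splitE : R ⊗[GLin.invariants k A B] B →ₗ[GLin.invariants k A B] R :=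
  (TensorProduct.rid (GLin.invariants k A B) R).toLinearMap ∘ₗ (reynL hα).lTensor R

lemma splitE_tmul (r : R) (b : B) : splitE hα R (r ⊗ₜ b) = reynInv hα b • r := by
  simp [splitE, reynL]

lemma splitE_mul (x : R ⊗[GLin.invariants k A B] B) (r : R) :
    splitE hα R (x * (Algebra.TensorProduct.includeLeftRingHom r)) = splitE hα R x * r := by
  induction x using TensorProduct.induction_on with
  | zero => simp
  | add y z hy hz => simp only [add_mul, map_add, hy, hz]
  | tmul r' b =>
    rw [Algebra.TensorProduct.includeLeftRingHom_apply, Algebra.TensorProduct.tmul_mul_tmul,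
      mul_one, splitE_tmul, splitE_tmul, smul_mul_assoc]

lemma splitE_incl (h1 : α 1 = 1) (r : R) :
    splitE hα R (Algebra.TensorProduct.includeLeftRingHom r) = r := by
  rw [Algebra.TensorProduct.includeLeftRingHom_apply, splitE_tmul]
  have : reynInv hα 1 = 1 := Subtype.ext (reyn_of_mem h1 (one_mem _))
  rw [this, one_smul]

end Split

section Desc

variable {Z : Scheme.{u}} (ψ : Spec (CommRingCat.of B) ⟶ Z)

variable (k A) in
/-- `χ` is a descent of `ψ` over the algebra `R` over the invariants. -/
def IsDesc (R : Type u) [CommRing R] [Algebra (GLin.invariants k A B) R]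
    (χ : Spec (CommRingCat.of R) ⟶ Z) : Prop :=
  Spec.map (CommRingCat.ofHom (Algebra.TensorProduct.includeLeftRingHom :
        R →+* R ⊗[GLin.invariants k A B] B)) ≫ χ =
      Spec.map (CommRingCat.ofHom (Algebra.TensorProduct.includeRight :
        B →ₐ[GLin.invariants k A B] R ⊗[GLin.invariants k A B] B).toRingHom) ≫ ψ

variable {ψ}

theorem IsDesc.unique (htame : ∃ α : A →ₗ[k] B, Hoch.IsComodHom A α ∧ α 1 = 1)
    {R : Type u} [CommRing R] [Algebra (GLin.invariants k A B) R]
    {χ χ' : Spec (CommRingCat.of R) ⟶ Z} (h : IsDesc k A ψ R χ) (h' : IsDesc k A ψ R χ') : χ = χ' := by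
  obtain ⟨α, hα, h1⟩ := htame
  refine eq_of_SpecMap_comp_eq_of_split (Algebra.TensorProduct.includeLeftRingHom :
        R →+* R ⊗[GLin.invariants k A B] B) (splitE hα R).toAddMonoidHom
    (fun r => splitE_incl hα R h1 r) (fun x r => splitE_mul hα R x r) χ χ' ?_
  rw [IsDesc] at h h'
  rw [h, h']

theorem IsDesc.map {R R' : Type u} [CommRing R] [Algebra (GLin.invariants k A B) R]
    [CommRing R'] [Algebra (GLin.invariants k A B) R'] (θ : R →ₐ[GLin.invariants k A B] R')
    {χ : Spec (CommRingCat.of R) ⟶ Z} (h : IsDesc k A ψ R χ) :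
    IsDesc k A ψ R' (Spec.map (CommRingCat.ofHom θ.toRingHom) ≫ χ) := by
  rw [IsDesc] at h ⊢
  set θB := Algebra.TensorProduct.map θ (AlgHom.id (GLin.invariants k A B) B) with hθB
  have e1 : (Algebra.TensorProduct.includeLeftRingHom :
        R' →+* R' ⊗[GLin.invariants k A B] B).comp θ.toRingHom =
      θB.toRingHom.comp (Algebra.TensorProduct.includeLeftRingHom :
        R →+* R ⊗[GLin.invariants k A B] B) := by
    ext r
    simp [hθB]
  have e2 : (Algebra.TensorProduct.includeRight :
        B →ₐ[GLin.invariants k A B] R' ⊗[GLin.invariants k A B] B).toRingHom =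
      θB.toRingHom.comp (Algebra.TensorProduct.includeRight :
        B →ₐ[GLin.invariants k A B] R ⊗[GLin.invariants k A B] B).toRingHom := by
    ext b
    simp [hθB]
  rw [← Category.assoc, ← Spec.map_comp, ← CommRingCat.ofHom_comp, e1, e2, CommRingCat.ofHom_comp,
    CommRingCat.ofHom_comp, Spec.map_comp, Spec.map_comp, Category.assoc, Category.assoc, h]

theorem IsDesc.comm {R : Type u} [CommRing R] [Algebra (GLin.invariants k A B) R]
    {χ : Spec (CommRingCat.of R) ⟶ Z} (h : IsDesc k A ψ R χ) :
    Spec.map (CommRingCat.ofHom (Algebra.TensorProduct.includeRight :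
        R →ₐ[GLin.invariants k A B] B ⊗[GLin.invariants k A B] R).toRingHom) ≫ χ =
      Spec.map (CommRingCat.ofHom (Algebra.TensorProduct.includeLeftRingHom :
        B →+* B ⊗[GLin.invariants k A B] R)) ≫ ψ := by
  rw [IsDesc] at h
  set τ := (Algebra.TensorProduct.comm (GLin.invariants k A B) R B).toAlgHom with hτ
  have t1 : (Algebra.TensorProduct.includeRight :
        R →ₐ[GLin.invariants k A B] B ⊗[GLin.invariants k A B] R).toRingHom =
      τ.toRingHom.comp (Algebra.TensorProduct.includeLeftRingHom :
        R →+* R ⊗[GLin.invariants k A B] B) := by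
    ext r
    simp [hτ]
  have t2 : (Algebra.TensorProduct.includeLeftRingHom : B →+* B ⊗[GLin.invariants k A B] R) =
      τ.toRingHom.comp (Algebra.TensorProduct.includeRight :
        B →ₐ[GLin.invariants k A B] R ⊗[GLin.invariants k A B] B).toRingHom := by
    ext b
    simp [hτ]
  rw [t1, t2, CommRingCat.ofHom_comp, CommRingCat.ofHom_comp, Spec.map_comp, Spec.map_comp,
    Category.assoc, Category.assoc, h]

end Desc

section Main

variable [Module.Flat k A] (htame : ∃ α : A →ₗ[k] B, Hoch.IsComodHom A α ∧ α 1 = 1)
  {Z : Scheme.{u}} (ψ : Spec (CommRingCat.of B) ⟶ Z)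
  (hψ : Spec.map (CommRingCat.ofHom (GLin.coactAlgHom k A B).toRingHom) ≫ ψ =
    Spec.map (CommRingCat.ofHom
      (Algebra.TensorProduct.includeLeftRingHom : B →+* B ⊗[k] A)) ≫ ψ)

include htame hψ in
theorem exists_local (p : PrimeSpectrum (GLin.invariants k A B)) :
    ∃ f : GLin.invariants k A B, f ∉ p.asIdeal ∧
      ∃ χ : Spec (CommRingCat.of (Localization.Away f)) ⟶ Z,
        IsDesc k A ψ (Localization.Away f) χ := by
  obtain ⟨W, f, hfp, hsub⟩ := exists_invariant_basicOpen_subset htame
    (fun W : Z.affineOpens => ψ.base ⁻¹' (W.1 : Set Z))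
    (fun W => W.1.2.preimage ψ.continuous)
    (fun q => by
      obtain ⟨_, ⟨W, hW, rfl⟩, hxW, -⟩ := Z.isBasis_affineOpens.exists_subset_of_mem_open
        (Set.mem_univ (ψ.base q)) isOpen_univ
      exact ⟨⟨W, hW⟩, hxW⟩)
    (fun W Q hQ => by
      have h3 : (Spec.map (CommRingCat.ofHom (GLin.coactAlgHom k A B).toRingHom) ≫ ψ)
          (show Spec (CommRingCat.of (B ⊗[k] A)) from Q) =
          (Spec.map (CommRingCat.ofHom
            (Algebra.TensorProduct.includeLeftRingHom : B →+* B ⊗[k] A)) ≫ ψ)
          (show Spec (CommRingCat.of (B ⊗[k] A)) from Q) := by rw [hψ]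
      rw [Scheme.Hom.comp_apply, Scheme.Hom.comp_apply] at h3
      change ψ.base _ ∈ (W.1 : Set Z)
      change ψ.base _ ∈ (W.1 : Set Z) at hQ
      convert hQ using 1
      exact h3.symm) p
  refine ⟨f, hfp, ?_⟩
  have hunit : IsUnit ((Algebra.TensorProduct.includeRight : B →ₐ[GLin.invariants k A B]
      (Localization.Away f) ⊗[GLin.invariants k A B] B) (f : B)) := by
    have h1 : (Algebra.TensorProduct.includeRight : B →ₐ[GLin.invariants k A B]
      (Localization.Away f) ⊗[GLin.invariants k A B] B) (f : B) =
        (Algebra.TensorProduct.includeLeftRingHom : Localization.Away f →+*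
          (Localization.Away f) ⊗[GLin.invariants k A B] B)
          (algebraMap (GLin.invariants k A B) (Localization.Away f) f) := by
      rw [Algebra.TensorProduct.includeRight_apply, Algebra.TensorProduct.includeLeftRingHom_apply,
        Algebra.algebraMap_eq_smul_one, TensorProduct.smul_tmul]
      congr 1
      rw [Algebra.smul_def, mul_one]
      rfl
    rw [h1]
    exact (IsLocalization.Away.algebraMap_isUnit f).map _
  exact exists_local_desc ψ hψ (Localization.Away f) W.2 (fun y => by
    rw [Scheme.Hom.comp_apply]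
    apply hsub
    intro hmem
    exact y.2.ne_top (Ideal.eq_top_of_isUnit_mem _ hmem hunit))

include htame hψ in
theorem existsUnique_desc :
    ∃! χ : Spec (CommRingCat.of (GLin.invariants k A B)) ⟶ Z,
      Spec.map (CommRingCat.ofHom (algebraMap (GLin.invariants k A B) B)) ≫ χ = ψ := by
  choose s hs χl hχl using exists_local htame ψ hψ
  have hspan : Ideal.span (Set.range s) = ⊤ := by
    by_contra hne
    obtain ⟨m, hm, hle⟩ := Ideal.exists_le_maximal _ hne
    exact hs ⟨m, hm.isPrime⟩ (hle (Ideal.subset_span ⟨⟨m, hm.isPrime⟩, rfl⟩))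
  let 𝒰 := (Scheme.affineOpenCoverOfSpanRangeEqTop
    (R := CommRingCat.of (GLin.invariants k A B)) s hspan).openCover
  have compat : ∀ x y, pullback.fst (𝒰.f x) (𝒰.f y) ≫ χl x = pullback.snd _ _ ≫ χl y := by
    intro x y
    have hx := (hχl x).map (Algebra.TensorProduct.includeLeft :
      Localization.Away (s x) →ₐ[GLin.invariants k A B]
        Localization.Away (s x) ⊗[GLin.invariants k A B] Localization.Away (s y))
    have hy := (hχl y).map (Algebra.TensorProduct.includeRight :
      Localization.Away (s y) →ₐ[GLin.invariants k A B]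
        Localization.Away (s x) ⊗[GLin.invariants k A B] Localization.Away (s y))
    have h := hx.unique htame hy
    have e1 := pullbackSpecIso_inv_fst (GLin.invariants k A B) (Localization.Away (s x))
      (Localization.Away (s y))
    have e2 := pullbackSpecIso_inv_snd (GLin.invariants k A B) (Localization.Away (s x))
      (Localization.Away (s y))
    change pullback.fst
        (Spec.map (CommRingCat.ofHom (algebraMap (GLin.invariants k A B) (Localization.Away (s x)))))
        (Spec.map (CommRingCat.ofHom (algebraMap (GLin.invariants k A B) (Localization.Away (s y)))))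
        ≫ χl x = pullback.snd _ _ ≫ χl y
    rw [← cancel_epi (pullbackSpecIso (GLin.invariants k A B) (Localization.Away (s x))
      (Localization.Away (s y))).inv]
    rw [← Category.assoc, ← Category.assoc, e1, e2]
    exact h
  have hglue : Spec.map (CommRingCat.ofHom (algebraMap (GLin.invariants k A B) B)) ≫
      𝒰.glueMorphisms χl compat = ψ := by
    refine Scheme.Cover.hom_ext (𝒰.pullback₁ (Spec.map (CommRingCat.ofHom
      (algebraMap (GLin.invariants k A B) B)))) _ _ fun (i : 𝒰.I₀) => ?_
    change pullback.fst (Spec.map (CommRingCat.ofHom (algebraMap (GLin.invariants k A B) B)))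
      (𝒰.f i) ≫ Spec.map (CommRingCat.ofHom (algebraMap (GLin.invariants k A B) B)) ≫
        𝒰.glueMorphisms χl compat = pullback.fst _ _ ≫ ψ
    rw [pullback.condition_assoc, Scheme.Cover.ι_glueMorphisms 𝒰 χl compat i]
    have e1 := pullbackSpecIso_inv_fst (GLin.invariants k A B) B (Localization.Away (s i))
    have e2 := pullbackSpecIso_inv_snd (GLin.invariants k A B) B (Localization.Away (s i))
    change pullback.snd (Spec.map (CommRingCat.ofHom (algebraMap (GLin.invariants k A B) B)))
      (Spec.map (CommRingCat.ofHom (algebraMap (GLin.invariants k A B) (Localization.Away (s i)))))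
      ≫ χl i = pullback.fst _ _ ≫ ψ
    rw [← cancel_epi (pullbackSpecIso (GLin.invariants k A B) B (Localization.Away (s i))).inv,
      ← Category.assoc, ← Category.assoc, e1, e2]
    exact (hχl i).comm
  obtain ⟨α, hα, h1⟩ := htame
  refine ⟨𝒰.glueMorphisms χl compat, hglue, ?_⟩
  intro χ' hχ'
  refine eq_of_SpecMap_comp_eq_of_split (algebraMap (GLin.invariants k A B) B) (reynInv hα)
    (fun c => Subtype.ext (reyn_of_mem h1 c.2)) (fun x c => ?_) _ _ (by rw [hχ', hglue])
  apply Subtype.ext
  change reyn α (x * (c : B)) = reyn α x * (c : B)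
  rw [mul_comm, reyn_mul α c.2, mul_comm]

end Main

end Groth.Agent.Lib.Helper7.CatQuot
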