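import Groth.Agent.Lib.Helper7.UnipFilt
import Mathlib

/-!
# Commutative cocommutative unipotent Hopf algebras in characteristic zero, I:
the Adams operation `ψ = m ∘ Δ` and the reduced coproduct (helper7)
-/

set_option autoImplicit false

universe u v

open TensorProduct

namespace Groth.Agent.Lib.Helper7.CU

open HopfRep Groth.Agent.Lib.Helper7.Comod Coalgebra

variable {k : Type u} [Field k] {A : Type v} [CommRing A] [Bialgebra k A]

section Basic

/-- `π = id - uε`, the projection onto the augmentation ideal. -/
noncomputable def pi : A →ₗ[k] A := LinearMap.id - (Algebra.linearMap k A) ∘ₗ (counit (R := k) (A := A))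

/-- `uε`. -/
noncomputable def ue : A →ₗ[k] A := (Algebra.linearMap k A) ∘ₗ (counit (R := k) (A := A))

lemma ue_apply (a : A) : ue (k := k) a = algebraMap k A (counit (R := k) a) := rfl

lemma pi_apply (a : A) : pi (k := k) a = a - algebraMap k A (counit (R := k) a) := rfl

lemma pi_eq : (pi : A →ₗ[k] A) = LinearMap.id - ue := rfl

lemma pi_one : pi (k := k) (1 : A) = 0 := by
  rw [pi_apply, Bialgebra.counit_one, map_one, sub_self]

lemma counit_pi (a : A) : counit (R := k) (pi (k := k) a) = 0 := by
  rw [pi_apply, map_sub, Bialgebra.counit_algebraMap]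
  simp

lemma pi_pi (a : A) : pi (k := k) (pi (k := k) a) = pi (k := k) a := by
  rw [pi_apply (pi a), counit_pi, map_zero, sub_zero]

lemma lTensor_ue_comul (a : A) : (ue (k := k)).lTensor A (comul a) = a ⊗ₜ[k] (1 : A) := by
  unfold ue
  rw [LinearMap.lTensor_comp, LinearMap.comp_apply, Coalgebra.lTensor_counit_comul]
  simp

lemma rTensor_ue_comul (a : A) : (ue (k := k)).rTensor A (comul a) = (1 : A) ⊗ₜ[k] a := by
  unfold ue
  rw [LinearMap.rTensor_comp, LinearMap.comp_apply, Coalgebra.rTensor_counit_comul]
  simp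

/-- `(id ⊗ π) Δ a = Δ a - a ⊗ 1`. -/
lemma lTensor_pi_comul (a : A) :
    (pi (k := k)).lTensor A (comul a) = dCoact k A A a := by
  rw [pi_eq, LinearMap.lTensor_sub, LinearMap.sub_apply, LinearMap.lTensor_id, LinearMap.id_apply,
    lTensor_ue_comul]
  rfl

lemma lTensor_pi_comp_comul :
    (pi (k := k)).lTensor A ∘ₗ (comul (R := k) (A := A)) = dCoact k A A :=
  LinearMap.ext lTensor_pi_comul

/-- the reduced coproduct `δ = (π ⊗ π) Δ`. -/
noncomputable def delta : A →ₗ[k] A ⊗[k] A :=
  TensorProduct.map (pi (k := k)) (pi (k := k)) ∘ₗ (comul (R := k) (A := A))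

lemma map_pi_pi (z : A ⊗[k] A) :
    TensorProduct.map (pi (k := k)) (pi (k := k)) z =
      z - (ue (k := k)).lTensor A z - (ue (k := k)).rTensor A z +
        TensorProduct.map (ue (k := k)) (ue (k := k)) z := by
  induction z using TensorProduct.induction_on with
  | zero => simp
  | tmul x y =>
    simp only [TensorProduct.map_tmul, LinearMap.lTensor_tmul, LinearMap.rTensor_tmul, pi_eq,
      LinearMap.sub_apply, LinearMap.id_apply, TensorProduct.sub_tmul, TensorProduct.tmul_sub]
    abel
  | add x y hx hy => simp only [map_add, hx, hy]; abel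

lemma delta_eq (a : A) :
    delta (k := k) a = comul a - a ⊗ₜ[k] (1 : A) - (1 : A) ⊗ₜ[k] a +
      counit (R := k) a • ((1 : A) ⊗ₜ[k] (1 : A)) := by
  change TensorProduct.map (pi (k := k)) (pi (k := k)) (comul a) = _
  rw [map_pi_pi, lTensor_ue_comul, rTensor_ue_comul]
  congr 1
  have h : TensorProduct.map (ue (k := k)) (ue (k := k)) (comul a) =
      (ue (k := k)).lTensor A ((ue (k := k)).rTensor A (comul a)) := by
    generalize (comul a : A ⊗[k] A) = z
    induction z using TensorProduct.induction_on with
    | zero => simp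
    | tmul x y => simp
    | add x y hx hy => simp only [map_add, hx, hy]
  rw [h, rTensor_ue_comul, LinearMap.lTensor_tmul, ue_apply, Algebra.algebraMap_eq_smul_one,
    TensorProduct.tmul_smul]

lemma delta_algebraMap (c : k) : delta (k := k) (algebraMap k A c) = 0 := by
  rw [Algebra.algebraMap_eq_smul_one, map_smul]
  change c • TensorProduct.map (pi (k := k)) (pi (k := k)) (comul (1 : A)) = 0
  rw [Bialgebra.comul_one, Algebra.TensorProduct.one_def, TensorProduct.map_tmul, pi_one,
    TensorProduct.zero_tmul, smul_zero]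

lemma delta_pi (a : A) : delta (k := k) (pi (k := k) a) = delta (k := k) a := by
  rw [pi_apply, map_sub, delta_algebraMap, sub_zero]

lemma delta_comp_pi : delta (k := k) ∘ₗ (pi (k := k) : A →ₗ[k] A) = delta (k := k) :=
  LinearMap.ext delta_pi

end Basic

end Groth.Agent.Lib.Helper7.CU
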