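import Groth.Agent.Lib.Helper7.CU1

/-!
# Commutative cocommutative unipotent Hopf algebras in characteristic zero, II:
identities for `ψ` (helper7)
-/

set_option autoImplicit false

universe u v

open TensorProduct

namespace Groth.Agent.Lib.Helper7.CU

open HopfRep Groth.Agent.Lib.Helper7.Comod Coalgebra

variable {k : Type u} [Field k] {A : Type v} [CommRing A] [Bialgebra k A]

section K

lemma lTensor_map_assoc (w : (A ⊗[k] A) ⊗[k] A) :
    (TensorProduct.map (pi (k := k)) (pi (k := k))).lTensor A (TensorProduct.assoc k A A A w) =
      TensorProduct.assoc k A A A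
        (TensorProduct.map ((pi (k := k)).lTensor A) (pi (k := k)) w) := by
  induction w using TensorProduct.induction_on with
  | zero => simp
  | tmul t c =>
    induction t using TensorProduct.induction_on with
    | zero => simp
    | tmul x y => simp
    | add s t hs ht => simp only [TensorProduct.add_tmul, map_add, hs, ht]
  | add s t hs ht => simp only [map_add, hs, ht]

lemma map_lTensor_rTensor_comul (z : A ⊗[k] A) :
    TensorProduct.map ((pi (k := k)).lTensor A) (pi (k := k))
        ((comul (R := k) (A := A)).rTensor A z) =
      (dCoact k A A).rTensor A ((pi (k := k)).lTensor A z) := by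
  induction z using TensorProduct.induction_on with
  | zero => simp
  | tmul x y =>
    simp only [LinearMap.rTensor_tmul, LinearMap.lTensor_tmul, TensorProduct.map_tmul,
      lTensor_pi_comul]
  | add s t hs ht => simp only [map_add, hs, ht]

/-- the key identity `(id ⊗ δ) ∘ d = (d ⊗ id) ∘ d` (up to reassociation). -/
theorem lTensor_delta_dCoact (a : A) :
    (delta (k := k)).lTensor A (dCoact k A A a) =
      TensorProduct.assoc k A A A ((dCoact k A A).rTensor A (dCoact k A A a)) := by
  rw [← lTensor_pi_comul, ← LinearMap.comp_apply, ← LinearMap.lTensor_comp, delta_comp_pi]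
  unfold delta
  rw [LinearMap.lTensor_comp, LinearMap.comp_apply, ← Coalgebra.coassoc_apply, lTensor_map_assoc,
    map_lTensor_rTensor_comul]

lemma lTensor_ue_dCoact (a : A) : (ue (k := k)).lTensor A (dCoact k A A a) = 0 := by
  rw [dCoact_apply, map_sub]
  change (ue (k := k)).lTensor A (comul a) - _ = 0
  rw [lTensor_ue_comul, LinearMap.lTensor_tmul, ue_apply, Bialgebra.counit_one, map_one, sub_self]

lemma comm_map_pi_pi (z : A ⊗[k] A) :
    TensorProduct.comm k A A (TensorProduct.map (pi (k := k)) (pi (k := k)) z) =
      TensorProduct.map (pi (k := k)) (pi (k := k)) (TensorProduct.comm k A A z) := by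
  induction z using TensorProduct.induction_on with
  | zero => simp
  | tmul x y => simp
  | add s t hs ht => simp only [map_add, hs, ht]

lemma comm_delta [Coalgebra.IsCocomm k A] (a : A) :
    TensorProduct.comm k A A (delta (k := k) a) = delta (k := k) a := by
  change TensorProduct.comm k A A (TensorProduct.map pi pi (comul a)) = _
  rw [comm_map_pi_pi, Coalgebra.comm_comul]
  rfl

end K

section Psi

variable [Coalgebra.IsCocomm k A]

/-- the Adams operation `ψ = m ∘ Δ` (squaring on the group), a bialgebra endomorphism. -/
noncomputable def psi : A →ₐc[k] A :=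
  (Bialgebra.mulBialgHom k A).comp (Bialgebra.comulBialgHom k A)

lemma psi_apply (a : A) : psi (k := k) a = LinearMap.mul' k A (comul a) := rfl

lemma psi_eq (a : A) :
    psi (k := k) a = (2 : k) • a - algebraMap k A (counit (R := k) a) +
      LinearMap.mul' k A (delta (k := k) a) := by
  rw [delta_eq]
  simp only [map_add, map_sub, map_smul, LinearMap.mul'_apply, mul_one, one_mul, psi_apply,
    Algebra.algebraMap_eq_smul_one, two_smul]
  abel

/-- `ψ` as a linear map. -/
noncomputable def psiL : A →ₗ[k] A := (psi (k := k) (A := A)).toCoalgHom.toLinearMap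

lemma psiL_apply (a : A) : psiL (k := k) a = psi (k := k) a := rfl

lemma comul_psi (a : A) :
    comul (psi (k := k) a) =
      TensorProduct.map (psiL (k := k)) (psiL (k := k)) (comul a) := by
  have h := LinearMap.congr_fun (CoalgHomClass.map_comp_comul (psi (k := k) (A := A))) a
  exact h.symm

lemma dCoact_psi (a : A) :
    dCoact k A A (psi (k := k) a) =
      TensorProduct.map (psiL (k := k)) (psiL (k := k)) (dCoact k A A a) := by
  rw [dCoact_apply, dCoact_apply, map_sub]
  change comul (psi (k := k) a) - _ = TensorProduct.map _ _ (comul a) - _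
  rw [comul_psi, TensorProduct.map_tmul]
  congr 2
  exact (map_one (psi (k := k) (A := A))).symm

end Psi

end Groth.Agent.Lib.Helper7.CU
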