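import Groth.Agent.Lib.Helper7.CU2

/-!
# Commutative cocommutative unipotent Hopf algebras in characteristic zero, III:
`ψ` on the fixed-point filtration; generation by primitives (helper7)
-/

set_option autoImplicit false

universe u v

open TensorProduct

namespace Groth.Agent.Lib.Helper7.CU

open HopfRep Groth.Agent.Lib.Helper7.Comod Coalgebra

variable {k : Type u} [Field k] {A : Type v} [CommRing A] [Bialgebra k A]

section Ranges

lemma map_mem_range_rTensor {W W' : Submodule k A} (f g : A →ₗ[k] A) (hf : ∀ w ∈ W, f w ∈ W')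
    (y : A ⊗[k] A) (hy : y ∈ LinearMap.range (W.subtype.rTensor A)) :
    TensorProduct.map f g y ∈ LinearMap.range (W'.subtype.rTensor A) := by
  obtain ⟨z, rfl⟩ := hy
  refine ⟨TensorProduct.map (f.restrict hf) g z, ?_⟩
  induction z using TensorProduct.induction_on with
  | zero => simp
  | tmul w b => simp [LinearMap.restrict_apply]
  | add s t hs ht => simp only [map_add, hs, ht]

lemma comm_mem_range_lTensor {W : Submodule k A} (y : A ⊗[k] A)
    (hy : y ∈ LinearMap.range (W.subtype.rTensor A)) :
    TensorProduct.comm k A A y ∈ LinearMap.range (W.subtype.lTensor A) := by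
  obtain ⟨z, rfl⟩ := hy
  refine ⟨TensorProduct.comm k W A z, ?_⟩
  induction z using TensorProduct.induction_on with
  | zero => simp
  | tmul w b => simp
  | add s t hs ht => simp only [map_add, hs, ht]

lemma mul_assoc_rTensor_dCoact_mem {W W' : Submodule k A}
    (hD : ∀ w ∈ W, dCoact k A A w ∈ LinearMap.range (W'.subtype.rTensor A))
    (y : A ⊗[k] A) (hy : y ∈ LinearMap.range (W.subtype.rTensor A)) :
    (LinearMap.mul' k A).lTensor A
        (TensorProduct.assoc k A A A ((dCoact k A A).rTensor A y)) ∈
      LinearMap.range (W'.subtype.rTensor A) := by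
  obtain ⟨z, rfl⟩ := hy
  induction z using TensorProduct.induction_on with
  | zero => simp
  | tmul w b =>
    obtain ⟨t, ht⟩ := hD w w.2
    rw [LinearMap.rTensor_tmul, LinearMap.rTensor_tmul, Submodule.subtype_apply, ← ht]
    clear ht
    induction t using TensorProduct.induction_on with
    | zero => simp
    | tmul w' a' =>
      refine ⟨w' ⊗ₜ[k] (a' * b), ?_⟩
      simp
    | add s t hs ht => simp only [TensorProduct.add_tmul, map_add]; exact Submodule.add_mem _ hs ht
  | add s t hs ht => simp only [map_add]; exact Submodule.add_mem _ hs ht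

lemma mul'_mem_of_mem_range_map {W : Submodule k A} (R : Subalgebra k A)
    (hW : W ≤ Subalgebra.toSubmodule R) (y : A ⊗[k] A)
    (hy : y ∈ LinearMap.range (TensorProduct.map W.subtype W.subtype)) :
    LinearMap.mul' k A y ∈ R := by
  obtain ⟨z, rfl⟩ := hy
  induction z using TensorProduct.induction_on with
  | zero => simp
  | tmul w b =>
    rw [TensorProduct.map_tmul, LinearMap.mul'_apply]
    exact R.mul_mem (hW w.2) (hW b.2)
  | add s t hs ht => simp only [map_add]; exact R.add_mem hs ht

end Ranges

section Filt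

variable [Coalgebra.IsCocomm k A]

lemma psiL_sub_two :
    psiL (k := k) - (2 : k) • (LinearMap.id : A →ₗ[k] A) =
      LinearMap.mul' k A ∘ₗ delta (k := k) - ue (k := k) := by
  ext a
  simp only [LinearMap.sub_apply, LinearMap.smul_apply, LinearMap.id_apply, LinearMap.comp_apply,
    psiL_apply, ue_apply]
  rw [psi_eq]
  abel

lemma map_psi_sub (c : k) (y : A ⊗[k] A) :
    TensorProduct.map (psiL (k := k)) (psiL (k := k)) y - ((2 : k) * c) • y =
      TensorProduct.map (psiL (k := k) - c • (LinearMap.id : A →ₗ[k] A)) (psiL (k := k)) y +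
        c • LinearMap.lTensor A (psiL (k := k) - (2 : k) • (LinearMap.id : A →ₗ[k] A)) y := by
  induction y using TensorProduct.induction_on with
  | zero => simp
  | tmul x y =>
    simp only [TensorProduct.map_tmul, LinearMap.lTensor_tmul, LinearMap.sub_apply,
      LinearMap.smul_apply, LinearMap.id_apply, TensorProduct.sub_tmul, TensorProduct.tmul_sub,
      TensorProduct.smul_tmul', TensorProduct.tmul_smul, smul_sub, mul_smul]
    rw [smul_comm c (2 : k)]
    abel
  | add s t hs ht =>
    simp only [map_add, smul_add] at hs ht ⊢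
    rw [add_sub_add_comm, hs, ht]
    abel

/-- `ψ` acts by `2^n` on `F_{n+1}/F_n`. -/
theorem psi_sub_mem (n : ℕ) :
    ∀ a ∈ fixFilt k A A (n + 1), psi (k := k) a - (2 : k) ^ n • a ∈ fixFilt k A A n := by
  induction n with
  | zero =>
    intro a ha
    rw [counit_smul_one_of_mem_fixFilt_one ha, map_smul, map_one, pow_zero, one_smul, sub_self]
    exact Submodule.zero_mem _
  | succ n ih =>
    intro a ha
    rw [fixFilt_succ, mem_nextFix]
    change dCoact k A A (psi (k := k) a - (2 : k) ^ (n + 1) • a) ∈ _
    have hy : dCoact k A A a ∈ LinearMap.range ((fixFilt k A A (n + 1)).subtype.rTensor A) :=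
      (mem_nextFix _ _).1 ha
    rw [map_sub, map_smul, dCoact_psi (k := k), pow_succ', map_psi_sub]
    refine Submodule.add_mem _ ?_ (Submodule.smul_mem _ _ ?_)
    · exact map_mem_range_rTensor _ _ (fun w hw => ih w hw) _ hy
    · rw [psiL_sub_two, LinearMap.lTensor_sub, LinearMap.sub_apply, lTensor_ue_dCoact, sub_zero,
        LinearMap.lTensor_comp, LinearMap.comp_apply, lTensor_delta_dCoact]
      refine mul_assoc_rTensor_dCoact_mem (W := fixFilt k A A (n + 1)) ?_ _ hy
      intro w hw
      exact (mem_nextFix _ _).1 hw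

lemma pi_mem_fixFilt (n : ℕ) {w : A} (hw : w ∈ fixFilt k A A (n + 1)) :
    pi (k := k) w ∈ fixFilt k A A (n + 1) := by
  rw [pi_apply, Algebra.algebraMap_eq_smul_one]
  refine Submodule.sub_mem _ hw (Submodule.smul_mem _ _ ?_)
  exact fixFilt_mono (Nat.succ_le_succ (Nat.zero_le n))
    Groth.Agent.Lib.Helper7.UnipPart.one_mem_fixFilt_one

/-- the reduced coproduct of `F_{n+2}` lies in `F_{n+1} ⊗ F_{n+1}`. -/
theorem delta_mem (n : ℕ) (a : A) (ha : a ∈ fixFilt k A A (n + 2)) :
    delta (k := k) a ∈ LinearMap.range
      (TensorProduct.map (fixFilt k A A (n + 1)).subtype (fixFilt k A A (n + 1)).subtype) := by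
  have hy : dCoact k A A a ∈ LinearMap.range ((fixFilt k A A (n + 1)).subtype.rTensor A) :=
    (mem_nextFix _ _).1 ha
  have h1 : delta (k := k) a = TensorProduct.map (pi (k := k)) (pi (k := k)) (dCoact k A A a) := by
    rw [dCoact_apply, map_sub, TensorProduct.map_tmul, pi_one, TensorProduct.tmul_zero, sub_zero]
    rfl
  have h2 : delta (k := k) a ∈ LinearMap.range ((fixFilt k A A (n + 1)).subtype.rTensor A) := by
    rw [h1]
    exact map_mem_range_rTensor _ _ (fun w hw => pi_mem_fixFilt n hw) _ hy
  have h3 : delta (k := k) a ∈ LinearMap.range ((fixFilt k A A (n + 1)).subtype.lTensor A) := by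
    rw [← comm_delta]
    exact comm_mem_range_lTensor _ h2
  exact Groth.Agent.Lib.Helper7.UnipFilt.mem_range_map_of_mem_of_mem _ _ _ h2 h3

end Filt

end Groth.Agent.Lib.Helper7.CU
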