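import Groth.Agent.Lib.Helper7.CU3

/-!
# Commutative cocommutative unipotent Hopf algebras in characteristic zero, IV:
generation by primitives (helper7)
-/

set_option autoImplicit false

universe u v

open TensorProduct

namespace Groth.Agent.Lib.Helper7.CU

open HopfRep Groth.Agent.Lib.Helper7.Comod Coalgebra

variable {k : Type u} [Field k] {A : Type v} [CommRing A] [Bialgebra k A]

section Prim

/-- `x ↦ Δ x - x ⊗ 1 - 1 ⊗ x`. -/
noncomputable def primMap : A →ₗ[k] A ⊗[k] A :=
  comul - (TensorProduct.mk k A A).flip 1 - TensorProduct.mk k A A 1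

/-- the space of primitive elements. -/
noncomputable def Prim : Submodule k A := LinearMap.ker (primMap (k := k) (A := A))

lemma mem_Prim {x : A} :
    x ∈ Prim (k := k) ↔ comul (R := k) x = x ⊗ₜ[k] (1 : A) + (1 : A) ⊗ₜ[k] x := by
  unfold Prim primMap
  rw [LinearMap.mem_ker]
  simp only [LinearMap.sub_apply, LinearMap.flip_apply, TensorProduct.mk_apply]
  constructor
  · intro h
    rw [sub_sub, sub_eq_zero] at h
    exact h
  · intro h
    rw [h]
    abel

lemma counit_of_mem_Prim {x : A} (hx : x ∈ Prim (k := k)) : counit (R := k) x = 0 := by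
  rw [mem_Prim] at hx
  have h := congrArg (fun z => LinearMap.mul' k A ((ue (k := k)).rTensor A z)) hx
  simp only [rTensor_ue_comul, map_add, LinearMap.rTensor_tmul, LinearMap.mul'_apply, one_mul,
    mul_one, ue_apply, Bialgebra.counit_one, map_one] at h
  have h2 : algebraMap k A (counit (R := k) x) = 0 := by
    have := h
    rw [right_eq_add] at this
    exact this
  have h3 := congrArg (counit (R := k) (A := A)) h2
  rw [Bialgebra.counit_algebraMap, map_zero] at h3
  simpa using h3

lemma pi_mem_Prim_of_delta_eq_zero {a : A} (h : delta (k := k) a = 0) :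
    pi (k := k) a ∈ Prim (k := k) := by
  rw [delta_eq] at h
  rw [mem_Prim, pi_apply, map_sub, Bialgebra.comul_algebraMap]
  have h1 : comul (R := k) a = a ⊗ₜ[k] (1 : A) + (1 : A) ⊗ₜ[k] a -
      counit (R := k) a • ((1 : A) ⊗ₜ[k] (1 : A)) := by
    rw [← sub_eq_zero, ← h]
    abel
  rw [h1, Algebra.TensorProduct.algebraMap_apply, Algebra.algebraMap_eq_smul_one,
    TensorProduct.sub_tmul, TensorProduct.tmul_sub, TensorProduct.smul_tmul',
    TensorProduct.tmul_smul, ← TensorProduct.smul_tmul']
  abel

lemma psi_of_mem_Prim [Coalgebra.IsCocomm k A] {x : A} (hx : x ∈ Prim (k := k)) :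
    psi (k := k) x = (2 : k) • x := by
  rw [psi_apply, mem_Prim.1 hx, map_add, LinearMap.mul'_apply, LinearMap.mul'_apply, mul_one,
    one_mul, two_smul]

lemma map_pi_pi_eq_zero_of_mem (z : A ⊗[k] A)
    (hz : z ∈ LinearMap.range
      (TensorProduct.map (fixFilt k A A 1).subtype (fixFilt k A A 1).subtype)) :
    TensorProduct.map (pi (k := k)) (pi (k := k)) z = 0 := by
  obtain ⟨t, rfl⟩ := hz
  induction t using TensorProduct.induction_on with
  | zero => simp
  | tmul w w' =>
    rw [TensorProduct.map_tmul, TensorProduct.map_tmul, Submodule.subtype_apply,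
      counit_smul_one_of_mem_fixFilt_one w.2, map_smul, pi_one, smul_zero, TensorProduct.zero_tmul]
  | add s t hs ht => simp only [map_add, hs, ht, add_zero]

lemma map_pi_pi_delta (a : A) :
    TensorProduct.map (pi (k := k)) (pi (k := k)) (delta (k := k) a) = delta (k := k) a := by
  change TensorProduct.map pi pi (TensorProduct.map pi pi (comul a)) = TensorProduct.map pi pi _
  generalize (comul a : A ⊗[k] A) = z
  induction z using TensorProduct.induction_on with
  | zero => simp
  | tmul x y => simp only [TensorProduct.map_tmul, pi_pi]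
  | add s t hs ht => simp only [map_add, hs, ht]

end Prim

section Gen

variable [Coalgebra.IsCocomm k A] [CharZero k]

theorem fixFilt_le_adjoin (n : ℕ) :
    fixFilt k A A n ≤ Subalgebra.toSubmodule (Algebra.adjoin k (Prim (k := k) (A := A) : Set A)) := by
  induction n using Nat.strong_induction_on with
  | _ n ih =>
    set R := Algebra.adjoin k (Prim (k := k) (A := A) : Set A) with hR
    match n, ih with
    | 0, _ => rw [fixFilt_zero]; exact bot_le
    | 1, _ =>
      rw [Groth.Agent.Lib.Helper7.UnipFilt.fixFilt_one_eq, Submodule.span_le]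
      rintro _ rfl
      exact R.one_mem
    | 2, _ =>
      intro a ha
      have h1 := delta_mem (k := k) 0 a ha
      have h2 : delta (k := k) a = 0 := by
        rw [← map_pi_pi_delta]
        exact map_pi_pi_eq_zero_of_mem _ h1
      have h3 := pi_mem_Prim_of_delta_eq_zero h2
      have h4 : a = pi (k := k) a + algebraMap k A (counit (R := k) a) := by
        rw [pi_apply]; abel
      rw [h4]
      exact R.add_mem (Algebra.subset_adjoin h3) (R.algebraMap_mem _)
    | m + 3, ih =>
      intro a ha
      have h1 := delta_mem (k := k) (m + 1) a ha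
      have h2 : LinearMap.mul' k A (delta (k := k) a) ∈ R :=
        mul'_mem_of_mem_range_map R (ih (m + 2) (by omega)) _ h1
      have h3 : psi (k := k) a - (2 : k) ^ (m + 2) • a ∈ R :=
        ih (m + 2) (by omega) (psi_sub_mem (k := k) (m + 2) a ha)
      have h4 : psi (k := k) a - (2 : k) • a ∈ R := by
        rw [psi_eq]
        have : (2 : k) • a - algebraMap k A (counit (R := k) a) +
            LinearMap.mul' k A (delta (k := k) a) - (2 : k) • a =
            LinearMap.mul' k A (delta (k := k) a) - algebraMap k A (counit (R := k) a) := by abel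
        rw [this]
        exact R.sub_mem h2 (R.algebraMap_mem _)
      have h5 : ((2 : k) ^ (m + 2) - 2) • a ∈ R := by
        have : ((2 : k) ^ (m + 2) - 2) • a =
            (psi (k := k) a - (2 : k) • a) - (psi (k := k) a - (2 : k) ^ (m + 2) • a) := by
          rw [sub_smul]; abel
        rw [this]
        exact R.sub_mem h4 h3
      have h6 : ((2 : k) ^ (m + 2) - 2) ≠ 0 := by
        have h4' : 4 ≤ 2 ^ (m + 2) := by
          calc 4 = 2 ^ 2 := rfl
            _ ≤ 2 ^ (m + 2) := Nat.pow_le_pow_right (by norm_num) (by omega)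
        have h7 : ((2 ^ (m + 2) - 2 : ℕ) : k) ≠ 0 := Nat.cast_ne_zero.2 (by omega)
        rw [Nat.cast_sub (by omega)] at h7
        push_cast at h7
        exact h7
      have h8 : a = ((2 : k) ^ (m + 2) - 2)⁻¹ • (((2 : k) ^ (m + 2) - 2) • a) := by
        rw [smul_smul, inv_mul_cancel₀ h6, one_smul]
      rw [h8]
      exact R.smul_mem h5 _

/-- **a commutative cocommutative unipotent bialgebra in characteristic zero is generated by
its primitive elements.** -/
theorem adjoin_Prim_eq_top (hU : IsUnipotent k A) :
    Algebra.adjoin k (Prim (k := k) (A := A) : Set A) = ⊤ := by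
  rw [eq_top_iff]
  intro a _
  obtain ⟨n, hn⟩ := exists_mem_fixFilt_regular hU a
  exact fixFilt_le_adjoin n hn

end Gen

end Groth.Agent.Lib.Helper7.CU
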