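import Groth.Agent.Lib.Helper7.CU4

/-!
# Commutative cocommutative unipotent Hopf algebras in characteristic zero, V:
weights; primitives are independent modulo `k + I²` (helper7)
-/

set_option autoImplicit false

universe u v

open TensorProduct

namespace Groth.Agent.Lib.Helper7.CU

open HopfRep Groth.Agent.Lib.Helper7.Comod Coalgebra

variable {k : Type u} [Field k] {A : Type v} [CommRing A] [Bialgebra k A]

section Weights

variable [Coalgebra.IsCocomm k A]

lemma psi_of_mem_pow (d : ℕ) :
    ∀ a ∈ (Prim (k := k) (A := A)) ^ d, psi (k := k) a = (2 : k) ^ d • a := by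
  induction d with
  | zero =>
    intro a ha
    rw [pow_zero, Submodule.mem_one] at ha
    obtain ⟨c, rfl⟩ := ha
    rw [pow_zero, one_smul]
    exact AlgHomClass.commutes (psi (k := k) (A := A)) c
  | succ d ih =>
    intro a ha
    rw [pow_succ] at ha
    refine Submodule.mul_induction_on ha ?_ ?_
    · intro m hm n hn
      rw [map_mul, ih m hm, psi_of_mem_Prim hn, pow_succ, smul_mul_smul_comm]
    · intro x y hx hy
      rw [map_add, hx, hy, smul_add]

lemma pow_le_eigenspace (d : ℕ) :
    (Prim (k := k) (A := A)) ^ d ≤ Module.End.eigenspace (psiL (k := k) (A := A)) ((2 : k) ^ d) := by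
  intro a ha
  rw [Module.End.mem_eigenspace_iff]
  exact psi_of_mem_pow d a ha

/-- the sum of all powers of the primitive space. -/
noncomputable def powSup : Submodule k A := ⨆ d : ℕ, (Prim (k := k) (A := A)) ^ d

/-- the sum of the powers `≥ j`. -/
noncomputable def powSupGe (j : ℕ) : Submodule k A := ⨆ d : ℕ, (Prim (k := k) (A := A)) ^ (d + j)

lemma powSupGe_mul (i j : ℕ) :
    powSupGe (k := k) (A := A) i * powSupGe (k := k) (A := A) j ≤
      powSupGe (k := k) (A := A) (i + j) := by
  unfold powSupGe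
  rw [Submodule.iSup_mul]
  refine iSup_le fun d => ?_
  rw [Submodule.mul_iSup]
  refine iSup_le fun e => ?_
  rw [← pow_add]
  have : d + i + (e + j) = (d + e) + (i + j) := by omega
  rw [this]
  exact le_iSup (fun n : ℕ => (Prim (k := k) (A := A)) ^ (n + (i + j))) (d + e)

lemma powSupGe_zero : powSupGe (k := k) (A := A) 0 = powSup (k := k) (A := A) := rfl

lemma adjoin_le_powSup :
    Subalgebra.toSubmodule (Algebra.adjoin k (Prim (k := k) (A := A) : Set A)) ≤
      powSup (k := k) (A := A) := by
  rw [Algebra.adjoin_eq_span, Submodule.span_le]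
  intro x hx
  induction hx using Submonoid.closure_induction with
  | mem y hy =>
    have : y ∈ (Prim (k := k) (A := A)) ^ 1 := by rw [pow_one]; exact hy
    exact (le_iSup (fun n : ℕ => (Prim (k := k) (A := A)) ^ n) 1) this
  | one =>
    have : (1 : A) ∈ (Prim (k := k) (A := A)) ^ 0 := by
      rw [pow_zero]; exact Submodule.one_le.1 le_rfl
    exact (le_iSup (fun n : ℕ => (Prim (k := k) (A := A)) ^ n) 0) this
  | mul x y _ _ hx hy =>
    have h := powSupGe_mul (k := k) (A := A) 0 0
    rw [powSupGe_zero] at h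
    exact h (Submodule.mul_mem_mul hx hy)

lemma powSupGe_one_le_ker :
    powSupGe (k := k) (A := A) 1 ≤ LinearMap.ker (counit (R := k) (A := A)) := by
  unfold powSupGe
  refine iSup_le fun d => ?_
  rw [pow_succ, Submodule.mul_le]
  intro m _ n hn
  rw [LinearMap.mem_ker, Bialgebra.counit_mul, counit_of_mem_Prim hn, mul_zero]

lemma powSup_le : powSup (k := k) (A := A) ≤ 1 ⊔ powSupGe (k := k) (A := A) 1 := by
  unfold powSup
  refine iSup_le fun d => ?_
  cases d with
  | zero => rw [pow_zero]; exact le_sup_left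
  | succ d => exact le_sup_of_le_right (le_iSup (fun n : ℕ => (Prim (k := k) (A := A)) ^ (n + 1)) d)

lemma ker_counit_le (htop : Algebra.adjoin k (Prim (k := k) (A := A) : Set A) = ⊤) :
    LinearMap.ker (counit (R := k) (A := A)) ≤ powSupGe (k := k) (A := A) 1 := by
  intro a ha
  have h1 : a ∈ powSup (k := k) (A := A) := by
    apply adjoin_le_powSup
    rw [htop]; trivial
  obtain ⟨y, hy, z, hz, rfl⟩ := Submodule.mem_sup.1 (powSup_le h1)
  rw [Submodule.mem_one] at hy
  obtain ⟨c, rfl⟩ := hy
  rw [LinearMap.mem_ker, map_add, Bialgebra.counit_algebraMap,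
    LinearMap.mem_ker.1 (powSupGe_one_le_ker hz), add_zero] at ha
  have hc : c = 0 := by simpa using ha
  rw [hc, map_zero, zero_add]
  exact hz

variable [CharZero k]

lemma two_pow_ne_two (d : ℕ) : (2 : k) ^ (d + 2) ≠ 2 := by
  intro h
  have h4' : 4 ≤ 2 ^ (d + 2) := by
    calc 4 = 2 ^ 2 := rfl
      _ ≤ 2 ^ (d + 2) := Nat.pow_le_pow_right (by norm_num) (by omega)
  have h7 : ((2 ^ (d + 2) : ℕ) : k) = ((2 : ℕ) : k) := by push_cast; exact h
  have := Nat.cast_injective h7
  omega

lemma powSupGe_two_le :
    powSupGe (k := k) (A := A) 2 ≤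
      ⨆ μ : k, ⨆ (_ : μ ≠ 2), Module.End.eigenspace (psiL (k := k) (A := A)) μ := by
  unfold powSupGe
  refine iSup_le fun d => ?_
  exact le_trans (pow_le_eigenspace (d + 2))
    (le_iSup₂_of_le ((2 : k) ^ (d + 2)) (two_pow_ne_two d) le_rfl)

/-- a primitive element in `k + I²` vanishes. -/
theorem prim_disjoint (htop : Algebra.adjoin k (Prim (k := k) (A := A) : Set A) = ⊤) :
    Disjoint (Prim (k := k) (A := A))
      (1 ⊔ LinearMap.ker (counit (R := k) (A := A)) * LinearMap.ker (counit (R := k) (A := A))) := by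
  rw [Submodule.disjoint_def]
  intro x hx hx2
  obtain ⟨y, hy, z, hz, rfl⟩ := Submodule.mem_sup.1 hx2
  rw [Submodule.mem_one] at hy
  obtain ⟨c, rfl⟩ := hy
  have hz1 : z ∈ powSupGe (k := k) (A := A) 2 :=
    powSupGe_mul 1 1 (mul_le_mul' (ker_counit_le htop) (ker_counit_le htop) hz)
  have hz0 : counit (R := k) z = 0 := by
    have h : LinearMap.ker (counit (R := k) (A := A)) * LinearMap.ker (counit (R := k) (A := A)) ≤
        LinearMap.ker (counit (R := k) (A := A)) := by
      rw [Submodule.mul_le]
      intro m hm n _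
      rw [LinearMap.mem_ker, Bialgebra.counit_mul, LinearMap.mem_ker.1 hm, zero_mul]
    exact LinearMap.mem_ker.1 (h hz)
  have hc : c = 0 := by
    have h := counit_of_mem_Prim hx
    rw [map_add, Bialgebra.counit_algebraMap, hz0, add_zero] at h
    simpa using h
  rw [hc, map_zero, zero_add] at hx ⊢
  have h2 : z ∈ Module.End.eigenspace (psiL (k := k) (A := A)) 2 := by
    rw [Module.End.mem_eigenspace_iff]
    exact psi_of_mem_Prim hx
  have hind := Module.End.eigenspaces_iSupIndep (psiL (k := k) (A := A))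
  have hd := hind (2 : k)
  rw [Submodule.disjoint_def] at hd
  exact hd z h2 (powSupGe_two_le hz1)

end Weights

end Groth.Agent.Lib.Helper7.CU
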