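import Groth.Agent.Lib.Helper7.CU5

/-!
# Commutative cocommutative unipotent Hopf algebras in characteristic zero, VI:
invariant derivations and algebraic independence (helper7)
-/

set_option autoImplicit false

universe u v

open TensorProduct

namespace Groth.Agent.Lib.Helper7.CU

open HopfRep Groth.Agent.Lib.Helper7.Comod Coalgebra

variable {k : Type u} [Field k] {A : Type v} [CommRing A] [Bialgebra k A]

section Deriv

lemma lam_mul (lam : A →ₗ[k] k) (h1 : lam 1 = 0)
    (h2 : ∀ a b : A, counit (R := k) a = 0 → counit (R := k) b = 0 → lam (a * b) = 0) (x y : A) :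
    lam (x * y) = counit (R := k) x * lam y + lam x * counit (R := k) y := by
  have e : x * y = pi (k := k) x * pi (k := k) y + counit (R := k) y • pi (k := k) x +
      counit (R := k) x • pi (k := k) y + (counit (R := k) x * counit (R := k) y) • (1 : A) := by
    simp only [pi_apply, Algebra.smul_def, map_mul]
    ring
  have hpi : ∀ z : A, lam (pi (k := k) z) = lam z := by
    intro z
    rw [pi_apply, map_sub, Algebra.algebraMap_eq_smul_one, map_smul, h1, smul_zero, sub_zero]
  rw [e, map_add, map_add, map_add, map_smul, map_smul, map_smul, h1, hpi, hpi,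
    h2 _ _ (counit_pi x) (counit_pi y)]
  simp only [smul_eq_mul, mul_zero, zero_add, add_zero]
  ring

/-- `D_λ = (id ⊗ λ) ∘ Δ`. -/
noncomputable def derivOf (lam : A →ₗ[k] k) : A →ₗ[k] A :=
  contr A lam ∘ₗ (comul (R := k) (A := A))

lemma contr_mul (lam : A →ₗ[k] k)
    (hlam : ∀ x y : A, lam (x * y) = counit (R := k) x * lam y + lam x * counit (R := k) y)
    (z w : A ⊗[k] A) :
    contr A lam (z * w) =
      contr A lam z * contr A (counit (R := k) (A := A)) w +
        contr A (counit (R := k) (A := A)) z * contr A lam w := by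
  induction z using TensorProduct.induction_on with
  | zero => simp
  | tmul x y =>
    induction w using TensorProduct.induction_on with
    | zero => simp
    | tmul x' y' =>
      rw [Algebra.TensorProduct.tmul_mul_tmul, contr_tmul, contr_tmul, contr_tmul, contr_tmul,
        contr_tmul, hlam, smul_mul_smul_comm, smul_mul_smul_comm, add_smul, add_comm]
    | add s t hs ht => rw [mul_add, map_add, map_add, map_add, hs, ht]; ring
  | add s t hs ht => rw [add_mul, map_add, map_add, map_add, hs, ht]; ring

lemma contr_counit_comul (a : A) : contr A (counit (R := k) (A := A)) (comul a) = a := by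
  unfold contr
  rw [LinearMap.comp_apply, Coalgebra.lTensor_counit_comul]
  simp

lemma derivOf_mul (lam : A →ₗ[k] k)
    (hlam : ∀ x y : A, lam (x * y) = counit (R := k) x * lam y + lam x * counit (R := k) y)
    (a b : A) :
    derivOf (k := k) lam (a * b) = a • derivOf (k := k) lam b + b • derivOf (k := k) lam a := by
  unfold derivOf
  rw [LinearMap.comp_apply, Bialgebra.comul_mul, contr_mul lam hlam, contr_counit_comul,
    contr_counit_comul, smul_eq_mul, smul_eq_mul]
  simp only [LinearMap.comp_apply]
  ring

/-- the invariant derivation attached to a tangent vector. -/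
noncomputable def derivationOf (lam : A →ₗ[k] k)
    (hlam : ∀ x y : A, lam (x * y) = counit (R := k) x * lam y + lam x * counit (R := k) y) :
    Derivation k A A :=
  Derivation.mk' (derivOf (k := k) lam) (derivOf_mul lam hlam)

lemma derivationOf_apply (lam : A →ₗ[k] k)
    (hlam : ∀ x y : A, lam (x * y) = counit (R := k) x * lam y + lam x * counit (R := k) y)
    (a : A) : derivationOf lam hlam a = derivOf (k := k) lam a := rfl

lemma derivOf_prim (lam : A →ₗ[k] k) (h1 : lam 1 = 0) {x : A} (hx : x ∈ Prim (k := k)) :
    derivOf (k := k) lam x = lam x • (1 : A) := by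
  unfold derivOf
  rw [LinearMap.comp_apply, mem_Prim.1 hx, map_add, contr_tmul, contr_tmul, h1, zero_smul,
    zero_add]

end Deriv

section Chain

lemma deriv_aeval {σ : Type*} [Fintype σ] (D : Derivation k A A) (x : σ → A)
    (f : MvPolynomial σ k) :
    D (MvPolynomial.aeval x f) =
      ∑ i, MvPolynomial.aeval x (MvPolynomial.pderiv i f) * D (x i) := by
  classical
  induction f using MvPolynomial.induction_on with
  | C a =>
    simp
  | add p q hp hq =>
    simp only [map_add, hp, hq, add_mul, Finset.sum_add_distrib]
  | mul_X p j hp =>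
    rw [map_mul, MvPolynomial.aeval_X, Derivation.leibniz, hp]
    simp only [Derivation.leibniz, MvPolynomial.pderiv_X, map_add, smul_eq_mul, map_mul,
      MvPolynomial.aeval_X, add_mul, Finset.sum_add_distrib]
    have h1 : ∑ i, (MvPolynomial.aeval x) p *
        (MvPolynomial.aeval x) ((Pi.single i 1 : σ → MvPolynomial σ k) j) * D (x i) =
        (MvPolynomial.aeval x) p * D (x j) := by
      rw [Finset.sum_eq_single j]
      · simp
      · intro b _ hb
        rw [Pi.single_eq_of_ne (Ne.symm hb)]
        simp
      · intro h; exact absurd (Finset.mem_univ j) h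
    rw [h1, Finset.mul_sum]
    congr 1
    apply Finset.sum_congr rfl
    intro i _
    ring

end Chain

section PderivIdeal

variable [CharZero k]

lemma eq_C_of_pderiv_eq_zero {σ : Type*} (f : MvPolynomial σ k)
    (h : ∀ i, MvPolynomial.pderiv i f = 0) : f = MvPolynomial.C (MvPolynomial.coeff 0 f) := by
  classical
  ext m
  rw [MvPolynomial.coeff_C]
  by_cases hm : m = 0
  · subst hm; simp
  · rw [if_neg (Ne.symm hm)]
    obtain ⟨i, hi⟩ : ∃ i, m i ≠ 0 := by
      by_contra hcon
      push Not at hcon
      exact hm (Finsupp.ext hcon)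
    have h1 := MvPolynomial.coeff_pderiv (i := i) f (m - Finsupp.single i 1)
    rw [h i, MvPolynomial.coeff_zero] at h1
    have h2 : m - Finsupp.single i 1 + Finsupp.single i 1 = m := by
      ext j
      by_cases hj : j = i
      · subst hj
        simp only [Finsupp.coe_add, Finsupp.coe_tsub, Pi.add_apply, Pi.sub_apply,
          Finsupp.single_eq_same]
        omega
      · simp [Finsupp.single_eq_of_ne hj]
    rw [h2] at h1
    have h3 : (((m - Finsupp.single i 1 : σ →₀ ℕ) i : ℕ) : k) + 1 ≠ 0 :=
      Nat.cast_add_one_ne_zero _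
    rcases mul_eq_zero.1 h1.symm with h4 | h4
    · exact h4
    · exact absurd h4 h3

lemma totalDegree_pderiv_lt {σ : Type*} (f : MvPolynomial σ k) (i : σ)
    (hf : 0 < f.totalDegree) : (MvPolynomial.pderiv i f).totalDegree < f.totalDegree := by
  classical
  rw [MvPolynomial.totalDegree, Finset.sup_lt_iff hf]
  intro m hm
  rw [MvPolynomial.mem_support_iff, MvPolynomial.coeff_pderiv] at hm
  have h1 : MvPolynomial.coeff (m + Finsupp.single i 1) f ≠ 0 := left_ne_zero_of_mul hm
  have h2 := MvPolynomial.le_totalDegree (MvPolynomial.mem_support_iff.2 h1)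
  rw [Finsupp.sum_add_index' (fun _ => rfl) (fun _ _ _ => rfl), Finsupp.sum_single_index rfl] at h2
  omega

/-- an ideal of a polynomial ring in characteristic zero which is stable under all partial
derivatives and proper is zero. -/
theorem ideal_eq_bot_of_pderiv_mem {σ : Type*} (J : Ideal (MvPolynomial σ k)) (hJ : J ≠ ⊤)
    (hd : ∀ f ∈ J, ∀ i, MvPolynomial.pderiv i f ∈ J) : J = ⊥ := by
  rw [eq_bot_iff]
  have key : ∀ n : ℕ, ∀ f ∈ J, f.totalDegree = n → f = 0 := by
    intro n
    induction n using Nat.strong_induction_on with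
    | _ n ih =>
      intro f hf hn
      have h0 : ∀ i, MvPolynomial.pderiv i f = 0 := by
        intro i
        by_cases hpos : 0 < f.totalDegree
        · exact ih _ (hn ▸ totalDegree_pderiv_lt f i hpos) _ (hd f hf i) rfl
        · have h1 : f.totalDegree = 0 := by omega
          rw [(MvPolynomial.totalDegree_eq_zero_iff_eq_C).1 h1, MvPolynomial.pderiv_C]
      obtain ⟨c, hc⟩ : ∃ c : k, f = MvPolynomial.C c := ⟨_, eq_C_of_pderiv_eq_zero f h0⟩
      by_contra hne
      have h2 : c ≠ 0 := by
        intro h3
        rw [h3, map_zero] at hc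
        exact hne hc
      apply hJ
      rw [Ideal.eq_top_iff_one]
      have h3 : (1 : MvPolynomial σ k) = MvPolynomial.C c⁻¹ * f := by
        rw [hc, ← map_mul, inv_mul_cancel₀ h2, map_one]
      rw [h3]
      exact J.mul_mem_left _ hf
  intro f hf
  rw [Ideal.mem_bot]
  exact key _ f hf rfl

end PderivIdeal

end Groth.Agent.Lib.Helper7.CU
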