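import Groth.Agent.Lib.Helper7.StabLine
import Groth.Agent.Lib.Helper7.ComodAlg
import Groth.Prelude.Def_ComodSub
import Groth.Prelude.Def_SGA3

/-!
# Chevalley's theorem: a closed subgroup is the stabilizer of a line (helper7)
-/

universe u v w x

open TensorProduct

namespace Groth.Agent.Lib.Helper7.Chevalley

open HopfRep Groth.Agent.Lib.Helper7.ExtComod Groth.Agent.Lib.Helper7.ExtLine
  Groth.Agent.Lib.Helper7.Comod Groth.Agent.Lib.Helper7.StabTensor
  Groth.Agent.Lib.Helper7.StabLine

section Kills

variable {k : Type u} [Field k] {A : Type v} [CommRing A] [HopfAlgebra k A]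
  (I : Ideal A)
  (hε : ∀ x ∈ I, Coalgebra.counit (R := k) x = 0)
  (hΔ : ∀ x ∈ I, TensorProduct.map (Ideal.Quotient.mkₐ k I).toLinearMap
    (Ideal.Quotient.mkₐ k I).toLinearMap (Coalgebra.comul (R := k) x) = 0)
  (U : Submodule k A) (hU : IsSubcomod (k := k) (A := A) U)
  (hspan : Ideal.span ((U ⊓ I.restrictScalars k : Submodule k A) : Set A) = I)
  {R : Type x} [CommRing R] [Algebra k R] (g : A →ₐ[k] R)

/-- the trace of the ideal on the subcomodule `U`. -/
def WI : Submodule k ↥U := Submodule.comap U.subtype (I.restrictScalars k)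

lemma mem_WI (w : ↥U) : w ∈ WI I U ↔ (w : A) ∈ I := Iff.rfl

lemma rTensor_subtype_lTensor_coact (w : ↥U) :
    U.subtype.rTensor R (LinearMap.lTensor ↥U g.toLinearMap
      ((ComodSub.Comod.restr (Comod.regular k A) U hU).coact w)) =
      LinearMap.lTensor A g.toLinearMap (Coalgebra.comul (R := k) (w : A)) := by
  rw [← ComodTens.lTensor_rTensor_comm, ComodSub.restr_coact_coe]
  rfl

include hε hspan in
lemma kills_of_stabilizes
    (h : ∀ w ∈ WI I U, LinearMap.lTensor ↥U g.toLinearMap
      ((ComodSub.Comod.restr (Comod.regular k A) U hU).coact w) ∈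
        LinearMap.range ((WI I U).subtype.rTensor R)) : ∀ a ∈ I, g a = 0 := by
  have key : ∀ w₀ ∈ (U ⊓ I.restrictScalars k : Submodule k A), g w₀ = 0 := by
    intro w₀ hw₀
    have hwW : (⟨w₀, hw₀.1⟩ : ↥U) ∈ WI I U := hw₀.2
    have h1 := h _ hwW
    rw [mem_range_rTensor_iff_contrL] at h1
    have h2 := h1 ((Coalgebra.counit (R := k) (A := A)) ∘ₗ U.subtype) (by
      intro w hw
      rw [LinearMap.mem_ker, LinearMap.comp_apply]
      exact hε _ hw)
    rw [← contrL_rTensor, rTensor_subtype_lTensor_coact, contrL_lTensor] at h2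
    have h3 : contrL A (Coalgebra.counit (R := k) (A := A)) (Coalgebra.comul (R := k) w₀) = w₀ := by
      unfold contrL
      rw [LinearMap.comp_apply, Coalgebra.rTensor_counit_comul]
      simp
    change g (contrL A (Coalgebra.counit (R := k) (A := A)) (Coalgebra.comul (R := k) w₀)) = 0 at h2
    rwa [h3] at h2
  have hle : I ≤ RingHom.ker (g : A →+* R) := by
    rw [← hspan, Ideal.span_le]
    intro w₀ hw₀
    exact key w₀ hw₀
  intro a ha
  exact hle ha

include hΔ in
lemma stabilizes_of_kills (h : ∀ a ∈ I, g a = 0) :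
    ∀ w ∈ WI I U, LinearMap.lTensor ↥U g.toLinearMap
      ((ComodSub.Comod.restr (Comod.regular k A) U hU).coact w) ∈
        LinearMap.range ((WI I U).subtype.rTensor R) := by
  intro w hw
  let bR := Module.Free.chooseBasis k R
  rw [mem_range_rTensor_iff bR]
  intro α
  rw [mem_WI]
  have h1 := coordR_rTensor bR α U.subtype (LinearMap.lTensor ↥U g.toLinearMap
      ((ComodSub.Comod.restr (Comod.regular k A) U hU).coact w))
  rw [rTensor_subtype_lTensor_coact] at h1
  rw [Submodule.subtype_apply] at h1
  rw [← h1, ← Ideal.Quotient.eq_zero_iff_mem]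
  let gbar : A ⧸ I →ₐ[k] R := Ideal.Quotient.liftₐ I g h
  have h2 : ∀ x : A ⊗[k] A, (Ideal.Quotient.mkₐ k I).toLinearMap.rTensor R
      (LinearMap.lTensor A g.toLinearMap x) =
      LinearMap.lTensor (A ⧸ I) gbar.toLinearMap
        (TensorProduct.map (Ideal.Quotient.mkₐ k I).toLinearMap
          (Ideal.Quotient.mkₐ k I).toLinearMap x) := by
    intro x
    induction x using TensorProduct.induction_on with
    | zero => simp
    | tmul a b => simp [gbar]
    | add y z hy hz => simp only [map_add, hy, hz]
  have h3 := coordR_rTensor bR α (Ideal.Quotient.mkₐ k I).toLinearMap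
    (LinearMap.lTensor A g.toLinearMap (Coalgebra.comul (R := k) (w : A)))
  have hw' : (w : A) ∈ I := hw
  rw [h2, hΔ (w : A) hw', map_zero, map_zero] at h3
  exact h3.symm

end Kills

section Main

variable {k : Type u} [Field k] {A : Type u} [CommRing A] [HopfAlgebra k A]
  [Algebra.FiniteType k A]

/-- **Chevalley's theorem**: an ideal `I` of a finitely generated Hopf algebra that is a coideal
is cut out as the stabilizer of a line in a finite-dimensional comodule. -/
theorem exists_comod_line (I : Ideal A)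
    (hε : ∀ x ∈ I, Coalgebra.counit (R := k) x = 0)
    (hΔ : ∀ x ∈ I, TensorProduct.map (Ideal.Quotient.mkₐ k I).toLinearMap
      (Ideal.Quotient.mkₐ k I).toLinearMap (Coalgebra.comul (R := k) x) = 0) :
    ∃ (V : Type u) (_ : AddCommGroup V) (_ : Module k V) (_ : HopfRep.Comod k A V)
      (_ : Module.Finite k V) (v : V),
      v ≠ 0 ∧ Dyn.Represents k A I (fun R _ _ g => SGA3.StabilizesLine k A v R g) := by
  haveI : IsNoetherianRing A := Algebra.FiniteType.isNoetherianRing k A
  obtain ⟨s, hs⟩ := (isNoetherianRing_iff_ideal_fg A).1 inferInstance I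
  obtain ⟨U, hUfin, hsU, hU⟩ := exists_finite_subcomod_le (k := k) (A := A) (V := A) s
  have hspan : Ideal.span ((U ⊓ I.restrictScalars k : Submodule k A) : Set A) = I := by
    apply le_antisymm
    · rw [Ideal.span_le]
      intro x hx
      exact hx.2
    · rw [← hs, Ideal.span_le]
      intro x hx
      apply Ideal.subset_span
      refine ⟨hsU hx, ?_⟩
      exact Ideal.subset_span hx
  haveI := hUfin
  let cU : Comod k A ↥U := ComodSub.Comod.restr (Comod.regular k A) U hU
  haveI : Module.Finite k ↥(WI I U) := inferInstance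
  haveI : Module.Free k ↥(WI I U) := Module.Free.of_divisionRing k ↥(WI I U)
  let bW := Module.finBasis k ↥(WI I U)
  refine ⟨ExteriorAlgebra k ↥U, inferInstance, inferInstance, extComod cU, ?_,
    ω (WI I U) bW, ω_ne_zero (WI I U) bW, ?_⟩
  · exact Module.Finite.of_basis ((Module.finBasis k ↥U).ExteriorAlgebra)
  · intro R _ _ g
    unfold SGA3.StabilizesLine
    beta_reduce
    rw [stabilizesLine_iff cU (WI I U) bW g]
    exact ⟨stabilizes_of_kills I hΔ U hU g, kills_of_stabilizes I hε U hU hspan g⟩

end Main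

end Groth.Agent.Lib.Helper7.Chevalley
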