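import Groth.Agent.Lib.Helper7.SerreFinMod

/-!
# The double-annihilator closure of a subcomodule is a subcomodule (projective coalgebra) (helper7)
-/

set_option autoImplicit false
universe u v w w'
open TensorProduct

namespace Groth.Agent.Lib.Helper7.ClSubcomod

open HopfRep Groth.Agent.Lib.Helper7.Comod Groth.Agent.Lib.Helper7.DAnn

variable {R : Type u} [CommRing R] {C : Type v} [AddCommGroup C] [Module R C]
variable {M : Type w} [AddCommGroup M] [Module R M]

/-- contraction of the second factor against the `c'`-th coordinate. -/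
noncomputable def kap (s : C →ₗ[R] C →₀ R) (c' : C) : M ⊗[R] C →ₗ[R] M :=
  (TensorProduct.rid R M).toLinearMap ∘ₗ
    LinearMap.lTensor M ((Finsupp.lapply c' : (C →₀ R) →ₗ[R] R) ∘ₗ s)

lemma kap_tmul (s : C →ₗ[R] C →₀ R) (c' : C) (m : M) (c : C) :
    kap s c' (m ⊗ₜ[R] c) = (s c c') • m := by
  simp [kap]

lemma recon (s : C →ₗ[R] C →₀ R) (hs : Finsupp.linearCombination R id ∘ₗ s = LinearMap.id)
    (z : M ⊗[R] C) :
    ∃ T : Finset C, ∀ T' : Finset C, T ⊆ T' → z = ∑ c' ∈ T', kap s c' z ⊗ₜ[R] c' := by
  classical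
  induction z using TensorProduct.induction_on with
  | zero => exact ⟨∅, fun T' _ => by simp⟩
  | tmul m c =>
    refine ⟨(s c).support, fun T' hT' => ?_⟩
    simp only [kap_tmul]
    have h1 : c = ∑ c' ∈ T', (s c c') • c' := by
      have h := LinearMap.congr_fun hs c
      simp only [LinearMap.comp_apply, LinearMap.id_apply] at h
      conv_lhs => rw [← h]
      rw [Finsupp.linearCombination_apply, Finsupp.sum_of_support_subset (s c) hT' _
        (by intro i _; simp)]
      rfl
    conv_lhs => rw [h1, TensorProduct.tmul_sum]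
    refine Finset.sum_congr rfl (fun c' _ => ?_)
    rw [TensorProduct.tmul_smul, TensorProduct.smul_tmul']
  | add y z hy hz =>
    obtain ⟨T₁, h₁⟩ := hy
    obtain ⟨T₂, h₂⟩ := hz
    refine ⟨T₁ ∪ T₂, fun T' hT' => ?_⟩
    conv_lhs => rw [h₁ T' (Finset.union_subset_left hT'), h₂ T' (Finset.union_subset_right hT')]
    rw [← Finset.sum_add_distrib]
    refine Finset.sum_congr rfl (fun c' _ => ?_)
    rw [map_add, TensorProduct.add_tmul]

lemma kap_mem (s : C →ₗ[R] C →₀ R) (c' : C) (W : Submodule R M) (y : W ⊗[R] C) :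
    kap s c' (W.subtype.rTensor C y) ∈ W := by
  induction y using TensorProduct.induction_on with
  | zero => simp
  | tmul w c =>
    rw [LinearMap.rTensor_tmul, kap_tmul]
    exact W.smul_mem _ w.2
  | add y z hy hz =>
    rw [map_add, map_add]
    exact W.add_mem hy hz

variable [Coalgebra R C] [Comod R C M]

theorem isSubcomod_cl [Module.Projective R C] {W : Submodule R M}
    (hW : IsSubcomod (k := R) (A := C) W) : IsSubcomod (k := R) (A := C) (cl W) := by
  classical
  obtain ⟨s, hs⟩ := Module.projective_def'.mp ‹Module.Projective R C›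
  intro x hx
  obtain ⟨T, hT⟩ := recon (M := M) s hs (μ R C M x)
  have hz := hT T (Finset.Subset.refl T)
  change μ R C M x ∈ _
  rw [hz]
  refine Submodule.sum_mem _ (fun c' _ => ?_)
  refine tmul_mem_range_rTensor ?_ c'
  have := map_mem_cl (kap s c' ∘ₗ μ R C M) (W := W) (fun w hw => by
    obtain ⟨y, hy⟩ := hW w hw
    rw [LinearMap.comp_apply]
    change kap s c' (Comod.coact (k := R) (A := C) w) ∈ W
    rw [← hy]
    exact kap_mem s c' W y) hx
  exact this

end Groth.Agent.Lib.Helper7.ClSubcomod
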