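import Groth.Agent.Lib.Helper7.ClSubcomod
import Groth.Agent.Lib.Helper7.ComodInd

/-!
# Resolving a finitely generated comodule by subcomodules of induced comodules (helper7)
-/

set_option autoImplicit false
universe u v w w' w''
open TensorProduct

namespace Groth.Agent.Lib.Helper7.CoResol

open HopfRep Groth.Agent.Lib.Helper7.Comod Groth.Agent.Lib.Helper7.DAnn
  Groth.Agent.Lib.Helper7.SerreFinMod

variable {R : Type u} [CommRing R] {C : Type v} [AddCommGroup C] [Module R C] [Coalgebra R C]
variable {F : Type w} [AddCommGroup F] [Module R F] [Comod R C F]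

lemma counit_toInd (f : F) : Hoch.Ind.counit R C F (Hoch.toInd R C F f) = f := by
  have h := LinearMap.congr_fun (Comod.counit_comp (k := R) (A := C) (V := F)) f
  simp only [LinearMap.comp_apply, LinearMap.flip_apply, TensorProduct.mk_apply] at h
  change TensorProduct.rid R F ((Coalgebra.counit (R := R) (A := C)).lTensor F
    (Comod.coact (k := R) (A := C) f)) = f
  rw [h, TensorProduct.rid_tmul, one_smul]

/-- the map of induced comodules attached to a linear map. -/
noncomputable def indMap {L : Type w'} [AddCommGroup L] [Module R L] (u : L →ₗ[R] F) :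
    Hoch.Ind R C L →ₗ[R] Hoch.Ind R C F :=
  (Hoch.Ind.equiv R C F).toLinearMap ∘ₗ u.rTensor C ∘ₗ (Hoch.Ind.equiv R C L).symm.toLinearMap

omit [Comod R C F] in
lemma isComodHom_indMap {L : Type w'} [AddCommGroup L] [Module R L] (u : L →ₗ[R] F) :
    Hoch.IsComodHom C (indMap (C := C) u) := by
  rw [isComodHom_iff]
  intro x
  exact assoc_symm_lTensor_rTensor (Coalgebra.comul (R := R) (A := C)) u x

omit [Coalgebra R C] [Comod R C F] in
lemma indMap_surjective {L : Type w'} [AddCommGroup L] [Module R L] (u : L →ₗ[R] F)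
    (hu : Function.Surjective u) : Function.Surjective (indMap (C := C) u) :=
  LinearMap.rTensor_surjective C hu

section general

variable {M : Type w'} [AddCommGroup M] [Module R M] [Comod R C M]
variable (U : M →ₗ[R] Hoch.Ind R C F)

/-- the preimage of `F ⊆ Ind F`. -/
def KK : Submodule R M := (LinearMap.range (Hoch.toInd R C F)).comap U

variable {U}

lemma isSubcomod_KK [Module.Flat R C] (hU : Hoch.IsComodHom C U) :
    IsSubcomod (k := R) (A := C) (KK U) :=
  isSubcomod_comap hU (isSubcomod_range isComodHom_toInd)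

/-- the induced map `N → F` for `N ≤ KK U`. -/
noncomputable def ww (N : Submodule R M) : N →ₗ[R] F :=
  Hoch.Ind.counit R C F ∘ₗ U ∘ₗ N.subtype

lemma toInd_ww {N : Submodule R M} (hN : N ≤ KK U) (y : N) :
    Hoch.toInd R C F (ww (U := U) N y) = U (y : M) := by
  obtain ⟨f, hf⟩ := hN y.2
  change Hoch.toInd R C F (Hoch.Ind.counit R C F (U (y : M))) = U (y : M)
  rw [← hf, counit_toInd]

lemma rTensor_toInd_injective :
    Function.Injective ((Hoch.toInd R C F).rTensor C) := by
  have h : (Hoch.Ind.counit R C F).rTensor C ∘ₗ (Hoch.toInd R C F).rTensor C = LinearMap.id := by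
    rw [← LinearMap.rTensor_comp]
    have : Hoch.Ind.counit R C F ∘ₗ Hoch.toInd R C F = LinearMap.id :=
      LinearMap.ext counit_toInd
    rw [this, LinearMap.rTensor_id]
  exact Function.LeftInverse.injective (g := (Hoch.Ind.counit R C F).rTensor C)
    (fun x => LinearMap.congr_fun h x)

/-- Lemma H: the induced map is a comodule map. -/
theorem isComodHom_ww [Module.Flat R C] (hU : Hoch.IsComodHom C U) {N : Submodule R M}
    (hNs : IsSubcomod (k := R) (A := C) N) (hN : N ≤ KK U) :
    @Hoch.IsComodHom R _ C _ _ _ N _ _ (ComodSub.Comod.restr (inferInstance : Comod R C M) N hNs)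
      F _ _ _ (ww (U := U) N) := by
  letI cN : Comod R C N := ComodSub.Comod.restr (inferInstance : Comod R C M) N hNs
  have hι : Hoch.IsComodHom C N.subtype := ComodSub.isComodHom_subtype _ N hNs
  have h1 : Hoch.toInd R C F ∘ₗ ww (U := U) N = U ∘ₗ N.subtype :=
    LinearMap.ext (fun y => toInd_ww hN y)
  have h2 : Hoch.IsComodHom C (Hoch.toInd R C F ∘ₗ ww (U := U) N) := by
    rw [h1]
    exact isComodHom_comp hU hι
  rw [isComodHom_iff]
  intro y
  apply rTensor_toInd_injective (R := R) (C := C) (F := F)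
  have h3 := isComodHom_apply h2 y
  rw [LinearMap.rTensor_comp] at h3
  change _ = (LinearMap.rTensor C (Hoch.toInd R C F)) ((LinearMap.rTensor C (ww N)) ((μ R C ↥N) y)) at h3
  rw [← h3, LinearMap.comp_apply]
  exact (isComodHom_apply isComodHom_toInd _).symm

/-- existence of a finitely generated subcomodule mapping onto `F`. -/
theorem exists_fg_sub [IsNoetherianRing R] [Module.Flat R C] [Module.Finite R F]
    (hU : Hoch.IsComodHom C U) (hUs : Function.Surjective U) :
    ∃ N : Submodule R M, N.FG ∧ IsSubcomod (k := R) (A := C) N ∧ N ≤ KK U ∧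
      Function.Surjective (ww (U := U) N) := by
  classical
  obtain ⟨G, hG⟩ := (Module.Finite.fg_top : (⊤ : Submodule R F).FG)
  choose x hx using fun g : F => hUs (Hoch.toInd R C F g)
  have hXK : (↑(G.image x) : Set M) ⊆ KK U := by
    intro y hy
    rw [Finset.mem_coe, Finset.mem_image] at hy
    obtain ⟨g, -, rfl⟩ := hy
    exact ⟨g, (hx g).symm⟩
  obtain ⟨N, hfg, hXN, hNK, hNs⟩ :=
    exists_fg_subcomod_le (KK U) (isSubcomod_KK hU) (G.image x) hXK
  refine ⟨N, hfg, hNs, hNK, ?_⟩
  rw [← LinearMap.range_eq_top, eq_top_iff, ← hG, Submodule.span_le]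
  intro g hg
  refine ⟨⟨x g, hXN (Finset.mem_coe.2 (Finset.mem_image_of_mem x hg))⟩, ?_⟩
  change Hoch.Ind.counit R C F (U (x g)) = g
  rw [hx g, counit_toInd]

/-- `KK U` is closed when `F` embeds compatibly in a module `Z` with `Z ⊗ C` projective. -/
theorem cl_KK {Z : Type w''} [AddCommGroup Z] [Module R Z] [Module.Projective R (Z ⊗[R] C)]
    (j : F →ₗ[R] Z) (hj : Function.Injective (j.rTensor C)) : cl (KK U) = KK U := by
  let Θ : M →ₗ[R] Z ⊗[R] C :=
    j.rTensor C ∘ₗ (Hoch.Ind.equiv R C F).symm.toLinearMap ∘ₗ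
      (LinearMap.id - Hoch.toInd R C F ∘ₗ Hoch.Ind.counit R C F) ∘ₗ U
  have hker : LinearMap.ker Θ = KK U := by
    ext x
    rw [LinearMap.mem_ker]
    change j.rTensor C ((Hoch.Ind.equiv R C F).symm
      ((LinearMap.id - Hoch.toInd R C F ∘ₗ Hoch.Ind.counit R C F :
        Hoch.Ind R C F →ₗ[R] Hoch.Ind R C F) (U x))) = 0 ↔ _
    rw [← map_zero (j.rTensor C), hj.eq_iff, LinearEquiv.map_eq_zero_iff, LinearMap.sub_apply,
      LinearMap.id_apply, LinearMap.comp_apply, sub_eq_zero]
    constructor
    · intro h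
      exact ⟨_, h.symm⟩
    · rintro ⟨f, hf⟩
      rw [← hf, counit_toInd]
  rw [← hker]
  exact cl_ker Θ

end general

end Groth.Agent.Lib.Helper7.CoResol
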