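import Groth.Prelude.Def_HopfRep
import Mathlib.Algebra.DirectSum.Module
import Mathlib.LinearAlgebra.TensorProduct.Associator
import Mathlib.RingTheory.Coalgebra.Basic

/-!
# Decomposition of comodules over a direct sum of subcoalgebras (helper7)
-/

universe u v w w'

open TensorProduct DirectSum

namespace Groth.Agent.Lib.Helper7.CoalgDecomp

open HopfRep

theorem exists_projections {R : Type u} [CommRing R] {C : Type v} [AddCommGroup C] [Module R C]
    {ι : Type w} (D : ι → Submodule R C) (hind : iSupIndep D) (htop : iSup D = ⊤) :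
    ∃ p : ι → (C →ₗ[R] C),
      (∀ i c, p i c ∈ D i) ∧ (∀ i, ∀ d ∈ D i, p i d = d) ∧
      (∀ i j, i ≠ j → ∀ d ∈ D j, p i d = 0) ∧
      (∀ c, ∃ s : Finset ι, ∀ t, s ⊆ t → ∑ j ∈ t, p j c = c) := by
  classical
  have hint := DirectSum.isInternal_submodule_of_iSupIndep_of_iSup_eq_top hind htop
  let e : (⨁ i, D i) ≃ₗ[R] C := LinearEquiv.ofBijective (DirectSum.coeLinearMap D) hint
  have he : ∀ x, e x = DirectSum.coeLinearMap D x := fun x => rfl
  refine ⟨fun i => (D i).subtype ∘ₗ DirectSum.component R ι (fun i => D i) i ∘ₗ e.symm.toLinearMap,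
    ?_, ?_, ?_, ?_⟩
  · intro i c
    exact (DirectSum.component R ι (fun i => D i) i (e.symm c)).2
  · intro i d hd
    have : e.symm d = DirectSum.lof R ι (fun i => D i) i ⟨d, hd⟩ := by
      rw [LinearEquiv.symm_apply_eq, he, DirectSum.coeLinearMap_lof]
    simp only [LinearMap.comp_apply, LinearEquiv.coe_coe, this, DirectSum.component.lof_self,
      Submodule.subtype_apply]
  · intro i j hij d hd
    have : e.symm d = DirectSum.lof R ι (fun i => D i) j ⟨d, hd⟩ := by
      rw [LinearEquiv.symm_apply_eq, he, DirectSum.coeLinearMap_lof]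
    simp only [LinearMap.comp_apply, LinearEquiv.coe_coe, this, DirectSum.component.of,
      dif_neg (Ne.symm hij), Submodule.subtype_apply, ZeroMemClass.coe_zero]
  · intro c
    refine ⟨(e.symm c).support, fun t ht => ?_⟩
    have h0 : ∀ x : ⨁ i, D i, x.support ⊆ t →
        ∑ j ∈ t, DirectSum.of (fun i => D i) j (x j) = x := by
      intro x hx
      calc ∑ j ∈ t, DirectSum.of (fun i => D i) j (x j)
          = ∑ j ∈ x.support, DirectSum.of (fun i => D i) j (x j) :=
            (Finset.sum_subset hx (fun j _ hj => by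
              rw [DFinsupp.notMem_support_iff.1 hj, map_zero])).symm
        _ = x := DirectSum.sum_support_of x
    have h2 := congrArg e (h0 (e.symm c) ht)
    rw [LinearEquiv.apply_symm_apply, map_sum] at h2
    conv_rhs => rw [← h2]
    apply Finset.sum_congr rfl
    intro j _
    rw [he, DirectSum.coeLinearMap_of]
    rfl

section Contr

variable {R : Type u} [CommRing R] {C : Type v} [AddCommGroup C] [Module R C]
variable {V : Type w'} [AddCommGroup V] [Module R V]

/-- `v ⊗ c ↦ f c • v`. -/
noncomputable def ctr (V : Type w') [AddCommGroup V] [Module R V] (f : C →ₗ[R] R) :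
    V ⊗[R] C →ₗ[R] V :=
  (TensorProduct.rid R V).toLinearMap ∘ₗ LinearMap.lTensor V f

@[simp] lemma ctr_tmul (f : C →ₗ[R] R) (v : V) (c : C) : ctr V f (v ⊗ₜ[R] c) = f c • v := by
  simp [ctr]

/-- `c ⊗ c' ↦ f c • c'`. -/
noncomputable def ctl (f : C →ₗ[R] R) : C ⊗[R] C →ₗ[R] C :=
  (TensorProduct.lid R C).toLinearMap ∘ₗ LinearMap.rTensor C f

@[simp] lemma ctl_tmul (f : C →ₗ[R] R) (c c' : C) : ctl f (c ⊗ₜ[R] c') = f c • c' := by
  simp [ctl]

lemma map_eq_lTensor_rTensor {M N P Q : Type*} [AddCommGroup M] [Module R M] [AddCommGroup N]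
    [Module R N] [AddCommGroup P] [Module R P] [AddCommGroup Q] [Module R Q]
    (f : M →ₗ[R] P) (g : N →ₗ[R] Q) (y : M ⊗[R] N) :
    TensorProduct.map f g y = g.lTensor P (f.rTensor N y) := by
  induction y using TensorProduct.induction_on with
  | zero => simp
  | tmul m n => simp
  | add a b ha hb => simp only [map_add, ha, hb]

lemma map_eq_rTensor_lTensor {M N P Q : Type*} [AddCommGroup M] [Module R M] [AddCommGroup N]
    [Module R N] [AddCommGroup P] [Module R P] [AddCommGroup Q] [Module R Q]
    (f : M →ₗ[R] P) (g : N →ₗ[R] Q) (y : M ⊗[R] N) :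
    TensorProduct.map f g y = f.rTensor Q (g.lTensor M y) := by
  induction y using TensorProduct.induction_on with
  | zero => simp
  | tmul m n => simp
  | add a b ha hb => simp only [map_add, ha, hb]

variable [Coalgebra R C] [Comod R C V]

lemma coact_injective : Function.Injective (Comod.coact (k := R) (A := C) (V := V)) := by
  intro v w h
  have hv := LinearMap.congr_fun (Comod.counit_comp (k := R) (A := C) (V := V)) v
  have hw := LinearMap.congr_fun (Comod.counit_comp (k := R) (A := C) (V := V)) w
  simp only [LinearMap.comp_apply, LinearMap.flip_apply, TensorProduct.mk_apply] at hv hw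
  rw [h, hw] at hv
  have := congrArg (TensorProduct.rid R V) hv
  simpa using this.symm

/-- K1. -/
lemma coact_ctr_coact (f : C →ₗ[R] R) (v : V) :
    Comod.coact (k := R) (A := C) (ctr V f (Comod.coact (k := R) (A := C) v)) =
      LinearMap.lTensor V (ctr C f ∘ₗ Coalgebra.comul (R := R) (A := C))
        (Comod.coact (k := R) (A := C) v) := by
  have h1 : ∀ y : V ⊗[R] C, Comod.coact (k := R) (A := C) (ctr V f y) =
      ctr (V ⊗[R] C) f ((Comod.coact (k := R) (A := C) (V := V)).rTensor C y) := by
    intro y
    induction y using TensorProduct.induction_on with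
    | zero => simp
    | tmul u c => simp
    | add a b ha hb => simp only [map_add, ha, hb]
  have h2 : ∀ w : V ⊗[R] (C ⊗[R] C), ctr (V ⊗[R] C) f ((TensorProduct.assoc R V C C).symm w) =
      LinearMap.lTensor V (ctr C f) w := by
    intro w
    induction w using TensorProduct.induction_on with
    | zero => simp
    | tmul u z =>
      induction z using TensorProduct.induction_on with
      | zero => simp
      | tmul c₁ c₂ => simp [TensorProduct.tmul_smul, TensorProduct.smul_tmul']
      | add a b ha hb => simp only [TensorProduct.tmul_add, map_add, ha, hb]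
    | add a b ha hb => simp only [map_add, ha, hb]
  have hc := LinearMap.congr_fun (Comod.coassoc (k := R) (A := C) (V := V)) v
  simp only [LinearMap.comp_apply, LinearEquiv.coe_coe] at hc
  rw [h1, ← (TensorProduct.assoc R V C C).symm_apply_apply
    ((Comod.coact (k := R) (A := C) (V := V)).rTensor C (Comod.coact (k := R) (A := C) v)), hc, h2,
    ← LinearMap.comp_apply, ← LinearMap.lTensor_comp]

/-- K2. -/
lemma rTensor_ctr_coact_coact (f : C →ₗ[R] R) (v : V) :
    (ctr V f ∘ₗ Comod.coact (k := R) (A := C) (V := V)).rTensor C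
        (Comod.coact (k := R) (A := C) v) =
      LinearMap.lTensor V (ctl f ∘ₗ Coalgebra.comul (R := R) (A := C))
        (Comod.coact (k := R) (A := C) v) := by
  have h2 : ∀ w : V ⊗[R] (C ⊗[R] C), (ctr V f).rTensor C ((TensorProduct.assoc R V C C).symm w) =
      LinearMap.lTensor V (ctl f) w := by
    intro w
    induction w using TensorProduct.induction_on with
    | zero => simp
    | tmul u z =>
      induction z using TensorProduct.induction_on with
      | zero => simp
      | tmul c₁ c₂ => simp [TensorProduct.tmul_smul, TensorProduct.smul_tmul']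
      | add a b ha hb => simp only [TensorProduct.tmul_add, map_add, ha, hb]
    | add a b ha hb => simp only [map_add, ha, hb]
  have hc := LinearMap.congr_fun (Comod.coassoc (k := R) (A := C) (V := V)) v
  simp only [LinearMap.comp_apply, LinearEquiv.coe_coe] at hc
  rw [LinearMap.rTensor_comp, LinearMap.comp_apply,
    ← (TensorProduct.assoc R V C C).symm_apply_apply
    ((Comod.coact (k := R) (A := C) (V := V)).rTensor C (Comod.coact (k := R) (A := C) v)), hc, h2,
    ← LinearMap.comp_apply, ← LinearMap.lTensor_comp]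

end Contr

section Main

variable {R : Type u} [CommRing R] {C : Type v} [AddCommGroup C] [Module R C] [Coalgebra R C]
variable {ι : Type w} (D : ι → Submodule R C)
variable {V : Type w'} [AddCommGroup V] [Module R V] [Comod R C V]

omit [Coalgebra R C] in
lemma ctr_map {M N : Type*} [AddCommGroup M] [Module R M] [AddCommGroup N] [Module R N]
    (f : C →ₗ[R] R) (g : M →ₗ[R] C) (h : N →ₗ[R] C) (z : M ⊗[R] N) :
    ctr C f (TensorProduct.map g h z) = g (ctr M (f ∘ₗ h) z) := by
  induction z using TensorProduct.induction_on with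
  | zero => simp
  | tmul a b => simp
  | add a b ha hb => simp only [map_add, ha, hb]

omit [Coalgebra R C] in
lemma ctl_map {M N : Type*} [AddCommGroup M] [Module R M] [AddCommGroup N] [Module R N]
    (f : C →ₗ[R] R) (g : M →ₗ[R] C) (h : N →ₗ[R] C) (z : M ⊗[R] N) :
    ctl f (TensorProduct.map g h z) =
      h ((TensorProduct.lid R N) ((f ∘ₗ g).rTensor N z)) := by
  induction z using TensorProduct.induction_on with
  | zero => simp
  | tmul a b => simp
  | add a b ha hb => simp only [map_add, ha, hb]

lemma ctr_counit_comul (c : C) :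
    ctr C (Coalgebra.counit (R := R) (A := C)) (Coalgebra.comul (R := R) c) = c := by
  rw [ctr, LinearMap.comp_apply, Coalgebra.lTensor_counit_comul]
  simp

lemma ctl_counit_comul (c : C) :
    ctl (Coalgebra.counit (R := R) (A := C)) (Coalgebra.comul (R := R) c) = c := by
  rw [ctl, LinearMap.comp_apply, Coalgebra.rTensor_counit_comul]
  simp

/-- For a linear map `q` which on each `D j` is the identity or zero: `(id ⊗ εq)Δ = q = (εq ⊗ id)Δ`. -/
lemma ctr_ctl_comul_eq (hD : ∀ i, ∀ d ∈ D i, CoalgebraStruct.comul (R := R) d ∈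
      LinearMap.range (TensorProduct.map (D i).subtype (D i).subtype))
    (htop : iSup D = ⊤) (q : C →ₗ[R] C)
    (hq : ∀ j, (∀ d ∈ D j, q d = d) ∨ (∀ d ∈ D j, q d = 0)) (c : C) :
    ctr C (Coalgebra.counit (R := R) (A := C) ∘ₗ q) (Coalgebra.comul (R := R) c) = q c ∧
    ctl (Coalgebra.counit (R := R) (A := C) ∘ₗ q) (Coalgebra.comul (R := R) c) = q c := by
  have hc : c ∈ iSup D := by rw [htop]; trivial
  refine Submodule.iSup_induction _ (motive := fun c =>
    ctr C (Coalgebra.counit (R := R) (A := C) ∘ₗ q) (Coalgebra.comul (R := R) c) = q c ∧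
    ctl (Coalgebra.counit (R := R) (A := C) ∘ₗ q) (Coalgebra.comul (R := R) c) = q c) hc ?_ ?_ ?_
  · intro j d hd
    obtain ⟨z, hz⟩ := hD j d hd
    rcases hq j with h | h
    · have hqs : q ∘ₗ (D j).subtype = (D j).subtype := by
        apply LinearMap.ext
        intro x
        exact h x x.2
      constructor
      · rw [← hz, ctr_map, LinearMap.comp_assoc, hqs, ← ctr_map, hz, ctr_counit_comul, h d hd]
      · have h1 := ctl_map (Coalgebra.counit (R := R) (A := C) ∘ₗ q) (D j).subtype (D j).subtype z
        have h2 := ctl_map (Coalgebra.counit (R := R) (A := C)) (D j).subtype (D j).subtype z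
        rw [LinearMap.comp_assoc, hqs] at h1
        rw [← hz, h1, ← h2, hz, ctl_counit_comul, h d hd]
    · have hqs : q ∘ₗ (D j).subtype = 0 := by
        apply LinearMap.ext
        intro x
        exact h x x.2
      constructor
      · rw [← hz, ctr_map, LinearMap.comp_assoc, hqs, h d hd]
        simp [ctr]
      · rw [← hz, ctl_map, LinearMap.comp_assoc, hqs, h d hd]
        simp
  · simp
  · intro a b ha hb
    simp only [map_add, ha.1, ha.2, hb.1, hb.2, and_self]

/-- The `i`-th isotypic piece of `V`. -/
def piece (i : ι) : Submodule R V :=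
  (LinearMap.range (LinearMap.lTensor V (D i).subtype)).comap
    (Comod.coact (k := R) (A := C) (V := V))

omit [Coalgebra R C] in
lemma exists_finset_sum_lTensor (p : ι → (C →ₗ[R] C))
    (hp4 : ∀ c, ∃ s : Finset ι, ∀ t, s ⊆ t → ∑ j ∈ t, p j c = c) (y : V ⊗[R] C) :
    ∃ s : Finset ι, ∀ t, s ⊆ t → ∑ j ∈ t, (p j).lTensor V y = y := by
  classical
  induction y using TensorProduct.induction_on with
  | zero => exact ⟨∅, fun t _ => by simp⟩
  | tmul u c =>
    obtain ⟨s, hs⟩ := hp4 c
    refine ⟨s, fun t ht => ?_⟩
    simp only [LinearMap.lTensor_tmul]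
    rw [← TensorProduct.tmul_sum, hs t ht]
  | add a b ha hb =>
    obtain ⟨s₁, h₁⟩ := ha
    obtain ⟨s₂, h₂⟩ := hb
    refine ⟨s₁ ∪ s₂, fun t ht => ?_⟩
    simp only [map_add, Finset.sum_add_distrib]
    rw [h₁ t (Finset.union_subset_left ht), h₂ t (Finset.union_subset_right ht)]

/-- S14844. -/
theorem decomposition (hD : ∀ i, ∀ d ∈ D i, CoalgebraStruct.comul (R := R) d ∈
      LinearMap.range (TensorProduct.map (D i).subtype (D i).subtype))
    (hind : iSupIndep D) (htop : iSup D = ⊤) :
    (∀ i, IsSubcomod (k := R) (A := C) (piece D (V := V) i)) ∧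
    iSupIndep (fun i => piece D (V := V) i) ∧ (⨆ i, piece D (V := V) i) = ⊤ ∧
    ∀ i, ∀ v ∈ piece D (V := V) i, Comod.coact (k := R) (A := C) v ∈
      LinearMap.range (TensorProduct.map (piece D (V := V) i).subtype (D i).subtype) := by
  classical
  obtain ⟨p, hp1, hp2, hp3, hp4⟩ := exists_projections D hind htop
  have hq : ∀ i j, (∀ d ∈ D j, p i d = d) ∨ (∀ d ∈ D j, p i d = 0) := by
    intro i j
    by_cases hij : i = j
    · subst hij; exact Or.inl (hp2 i)
    · exact Or.inr (hp3 i j hij)
  have hL1 : ∀ i, ctr C (Coalgebra.counit (R := R) (A := C) ∘ₗ p i) ∘ₗ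
      Coalgebra.comul (R := R) (A := C) = p i := fun i =>
    LinearMap.ext fun c => (ctr_ctl_comul_eq D hD htop (p i) (hq i) c).1
  have hL2 : ∀ i, ctl (Coalgebra.counit (R := R) (A := C) ∘ₗ p i) ∘ₗ
      Coalgebra.comul (R := R) (A := C) = p i := fun i =>
    LinearMap.ext fun c => (ctr_ctl_comul_eq D hD htop (p i) (hq i) c).2
  let π : ι → (V →ₗ[R] V) := fun i =>
    ctr V (Coalgebra.counit (R := R) (A := C) ∘ₗ p i) ∘ₗ Comod.coact (k := R) (A := C) (V := V)
  have hM1 : ∀ i v, Comod.coact (k := R) (A := C) (π i v) =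
      (p i).lTensor V (Comod.coact (k := R) (A := C) v) := by
    intro i v
    change Comod.coact (k := R) (A := C) (ctr V _ (Comod.coact (k := R) (A := C) v)) = _
    rw [coact_ctr_coact, hL1]
  have hM2 : ∀ i v, (π i).rTensor C (Comod.coact (k := R) (A := C) v) =
      (p i).lTensor V (Comod.coact (k := R) (A := C) v) := by
    intro i v
    change (ctr V _ ∘ₗ Comod.coact (k := R) (A := C) (V := V)).rTensor C _ = _
    rw [rTensor_ctr_coact_coact, hL2]
  have hM3 : ∀ i, ∀ v ∈ piece D (V := V) i,
      (p i).lTensor V (Comod.coact (k := R) (A := C) v) = Comod.coact (k := R) (A := C) v := by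
    intro i v hv
    obtain ⟨y, hy⟩ := hv
    have : p i ∘ₗ (D i).subtype = (D i).subtype := LinearMap.ext fun x => hp2 i x x.2
    rw [← hy, ← LinearMap.comp_apply, ← LinearMap.lTensor_comp, this]
  have hM3' : ∀ i j, j ≠ i → ∀ v ∈ piece D (V := V) i,
      (p j).lTensor V (Comod.coact (k := R) (A := C) v) = 0 := by
    intro i j hji v hv
    obtain ⟨y, hy⟩ := hv
    have : p j ∘ₗ (D i).subtype = 0 := LinearMap.ext fun x => hp3 j i hji x x.2
    rw [← hy, ← LinearMap.comp_apply, ← LinearMap.lTensor_comp, this, LinearMap.lTensor_zero,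
      LinearMap.zero_apply]
  have hM4 : ∀ i v, π i v ∈ piece D (V := V) i := by
    intro i v
    change Comod.coact (k := R) (A := C) (π i v) ∈
      LinearMap.range (LinearMap.lTensor V (D i).subtype)
    rw [hM1]
    have : p i = (D i).subtype ∘ₗ LinearMap.codRestrict (D i) (p i) (hp1 i) := by
      apply LinearMap.ext; intro c; rfl
    rw [this, LinearMap.lTensor_comp, LinearMap.comp_apply]
    exact ⟨_, rfl⟩
  have hM5 : ∀ i, ∀ v ∈ piece D (V := V) i, π i v = v := by
    intro i v hv
    apply coact_injective (R := R) (C := C)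
    rw [hM1, hM3 i v hv]
  have hM5' : ∀ i j, j ≠ i → ∀ v ∈ piece D (V := V) i, π j v = 0 := by
    intro i j hji v hv
    apply coact_injective (R := R) (C := C)
    rw [hM1, hM3' i j hji v hv, map_zero]
  refine ⟨?_, ?_, ?_, ?_⟩
  · -- subcomodules
    intro i v hv
    have h1 : Comod.coact (k := R) (A := C) v =
        (π i).rTensor C (Comod.coact (k := R) (A := C) v) := by
      rw [hM2, hM3 i v hv]
    have : π i = (piece D (V := V) i).subtype ∘ₗ
        LinearMap.codRestrict (piece D (V := V) i) (π i) (hM4 i) := by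
      apply LinearMap.ext; intro c; rfl
    rw [h1, this, LinearMap.rTensor_comp, LinearMap.comp_apply]
    exact ⟨_, rfl⟩
  · -- independence
    intro i
    rw [Submodule.disjoint_def]
    intro x hx hx'
    have hker : (⨆ (j : ι) (_ : j ≠ i), piece D (V := V) j) ≤ LinearMap.ker (π i) := by
      apply iSup_le
      intro j
      apply iSup_le
      intro hj w hw
      exact hM5' j i (Ne.symm hj) w hw
    rw [← hM5 i x hx]
    exact hker hx'
  · -- sum
    rw [eq_top_iff]
    intro v _
    obtain ⟨s, hs⟩ := exists_finset_sum_lTensor p hp4 (Comod.coact (k := R) (A := C) v)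
    have : v = ∑ j ∈ s, π j v := by
      apply coact_injective (R := R) (C := C)
      rw [map_sum]
      simp only [hM1]
      exact (hs s (Finset.Subset.refl s)).symm
    rw [this]
    exact Submodule.sum_mem _ fun j _ => (le_iSup (fun i => piece D (V := V) i) j) (hM4 j v)
  · intro i v hv
    have h1 : Comod.coact (k := R) (A := C) v =
        TensorProduct.map (π i) (p i) (Comod.coact (k := R) (A := C) v) := by
      rw [map_eq_lTensor_rTensor, hM2, hM3 i v hv, hM3 i v hv]
    have hπ : π i = (piece D (V := V) i).subtype ∘ₗ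
        LinearMap.codRestrict (piece D (V := V) i) (π i) (hM4 i) := by
      apply LinearMap.ext; intro c; rfl
    have hp : p i = (D i).subtype ∘ₗ LinearMap.codRestrict (D i) (p i) (hp1 i) := by
      apply LinearMap.ext; intro c; rfl
    rw [h1, hπ, hp, TensorProduct.map_comp, LinearMap.comp_apply]
    exact ⟨_, rfl⟩

end Main

end Groth.Agent.Lib.Helper7.CoalgDecomp
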