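import Mathlib

/-!
# Common eigenvectors of commuting operators from a common eigen-functional (helper7)
-/

namespace Groth.Agent.Lib.Helper7.CommEigen

open Module
open scoped IsMulCommutative

/-- Nakayama for a commutative algebra of operators: if the generators `G` of an ideal kill a
nonzero vector then their images do not span. -/
theorem naka {k F : Type*} [Field k] [AddCommGroup F] [Module k F] [Module.Finite k F]
    (𝒜 : Subalgebra k (Module.End k F)) [IsMulCommutative 𝒜] (G : Set (Module.End k F))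
    (hG : G ⊆ 𝒜) (ε : F) (hε : ε ≠ 0) (hεG : ∀ t ∈ G, t ε = 0) :
    ∃ Λ : F →ₗ[k] k, Λ ≠ 0 ∧ ∀ t ∈ G, ∀ x, Λ (t x) = 0 := by
  classical
  let 𝔪 : Ideal 𝒜 := Ideal.span {a : 𝒜 | (a : Module.End k F) ∈ G}
  have h𝔪ε : ∀ j ∈ 𝔪, j • ε = 0 := by
    intro j hj
    refine Submodule.span_induction (p := fun j _ => j • ε = 0) ?_ ?_ ?_ ?_ hj
    · intro a ha
      exact hεG _ ha
    · exact zero_smul _ _
    · intro x y _ _ hx hy
      rw [add_smul, hx, hy, add_zero]
    · intro a x _ hx
      rw [smul_eq_mul, mul_smul, hx, smul_zero]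
  have hne : (𝔪 • (⊤ : Submodule 𝒜 F)) ≠ ⊤ := by
    intro htop
    have hfg : (⊤ : Submodule 𝒜 F).FG := by
      have h1 : (⊤ : Submodule k F).FG := Module.Finite.fg_top
      obtain ⟨s, hs⟩ := h1
      refine ⟨s, ?_⟩
      rw [eq_top_iff]
      intro x _
      have hx : x ∈ Submodule.span k (s : Set F) := by rw [hs]; trivial
      refine Submodule.span_induction (p := fun x _ => x ∈ Submodule.span 𝒜 (s : Set _))
        ?_ ?_ ?_ ?_ hx
      · intro y hy
        exact Submodule.subset_span hy
      · exact Submodule.zero_mem _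
      · intro y z _ _ hy hz
        exact Submodule.add_mem _ hy hz
      · intro c y _ hy
        have : c • y = (algebraMap k 𝒜 c) • y := by
          rw [algebraMap_smul]
        rw [this]
        exact Submodule.smul_mem _ _ hy
    obtain ⟨r, hr1, hr2⟩ := Submodule.exists_sub_one_mem_and_smul_eq_zero_of_fg_of_le_smul 𝔪
      (⊤ : Submodule 𝒜 F) hfg htop.ge
    have h1 := hr2 ε trivial
    have h2 : r • ε = ε := by
      have : r = (r - 1) + 1 := by ring
      rw [this, add_smul, h𝔪ε _ hr1, zero_add, one_smul]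
    rw [h2] at h1
    exact hε h1
  have hlt : (𝔪 • (⊤ : Submodule 𝒜 F)).restrictScalars k < ⊤ := by
    rw [lt_top_iff_ne_top]
    intro h
    apply hne
    rw [eq_top_iff]
    intro x _
    have : x ∈ (𝔪 • (⊤ : Submodule 𝒜 F)).restrictScalars k := by rw [h]; trivial
    exact this
  obtain ⟨Λ, hΛ0, hΛ⟩ := Submodule.exists_le_ker_of_lt_top _ hlt
  refine ⟨Λ, hΛ0, ?_⟩
  intro t ht x
  have h1 : (⟨t, hG ht⟩ : 𝒜) • x ∈ 𝔪 • (⊤ : Submodule 𝒜 F) :=
    Submodule.smul_mem_smul (Ideal.subset_span ht) trivial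
  exact hΛ h1

/-- Let `S i` be pairwise commuting endomorphisms of a finite-dimensional vector space `E` and `ε` a
nonzero functional killed by all transposes (`ε ∘ S i = 0`). Then some nonzero vector is killed
by all `S i`. -/
theorem exists_ne_zero_forall_eq_zero {k E : Type*} [Field k] [AddCommGroup E] [Module k E]
    [Module.Finite k E] {ι : Type*} (S : ι → Module.End k E)
    (hcomm : ∀ i j, S i * S j = S j * S i)
    (ε : Module.Dual k E) (hε : ε ≠ 0) (hεS : ∀ i, ε ∘ₗ S i = 0) :
    ∃ b : E, b ≠ 0 ∧ ∀ i, S i b = 0 := by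
  classical
  let T : ι → Module.End k (Module.Dual k E) := fun i => (S i).dualMap
  have hTcomm : ∀ a ∈ Set.range T, ∀ b ∈ Set.range T, a * b = b * a := by
    rintro _ ⟨i, rfl⟩ _ ⟨j, rfl⟩
    change (S i).dualMap ∘ₗ (S j).dualMap = (S j).dualMap ∘ₗ (S i).dualMap
    rw [LinearMap.dualMap_comp_dualMap, LinearMap.dualMap_comp_dualMap]
    congr 1
    exact hcomm j i
  have hcommA : IsMulCommutative (Algebra.adjoin k (Set.range T)) :=
    Algebra.isMulCommutative_adjoin k hTcomm
  obtain ⟨Λ, hΛ0, hΛ⟩ := naka (Algebra.adjoin k (Set.range T)) (Set.range T)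
    Algebra.subset_adjoin ε hε (by
      rintro _ ⟨i, rfl⟩
      change (S i).dualMap ε = 0
      rw [LinearMap.dualMap_apply']
      exact hεS i)
  refine ⟨(Module.evalEquiv k E).symm Λ, ?_, ?_⟩
  · intro h
    apply hΛ0
    have := congrArg (Module.evalEquiv k E) h
    rwa [LinearEquiv.apply_symm_apply, map_zero] at this
  · intro i
    rw [← Module.forall_dual_apply_eq_zero_iff (R := k)]
    intro lam
    have h2 : Λ (T i lam) = 0 := hΛ (T i) ⟨i, rfl⟩ lam
    have h3 : T i lam = lam ∘ₗ S i := by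
      change (S i).dualMap lam = _
      rw [LinearMap.dualMap_apply']
    rw [h3] at h2
    have h4 : Λ (lam ∘ₗ S i) = (lam ∘ₗ S i) ((Module.evalEquiv k E).symm Λ) := by
      conv_lhs => rw [← (Module.evalEquiv k E).apply_symm_apply Λ]
      rfl
    rw [h4] at h2
    exact h2

end Groth.Agent.Lib.Helper7.CommEigen
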