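import Groth.Agent.Lib.Helper7.ComodPoints
import Mathlib.RingTheory.HopfAlgebra.Convolution

/-!
# The action of rational points on a comodule is a monoid action (helper7)
-/

universe u v w

open TensorProduct

namespace Groth.Agent.Lib.Helper7.Comod

open HopfRep

section Act

variable {k : Type u} [Field k] {A : Type v} [CommRing A] [Bialgebra k A]
variable {V : Type w} [AddCommGroup V] [Module k V] [Comod k A V]

lemma act_convOne :
    Comod.act k A V (WithConv.ofConv (1 : WithConv (A →ₐ[k] k))) = LinearMap.id := by
  apply LinearMap.ext
  intro v
  have h := LinearMap.congr_fun (Comod.counit_comp (k := k) (A := A) (V := V)) v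
  simp only [LinearMap.comp_apply] at h
  change (TensorProduct.rid k V) (LinearMap.lTensor V
    (WithConv.ofConv (1 : WithConv (A →ₐ[k] k))).toLinearMap (Comod.coact (k := k) (A := A) v)) = v
  have e : (WithConv.ofConv (1 : WithConv (A →ₐ[k] k))).toLinearMap =
      (CoalgebraStruct.counit (R := k) (A := A)) := by
    apply LinearMap.ext
    intro a
    simp [AlgHom.convOne_def]
  rw [e, h]
  simp

/-- two-step contraction -/
lemma contr_contr_assoc_symm (g h : WithConv (A →ₐ[k] k)) (y : V ⊗[k] A) :
    contr V g.ofConv.toLinearMap (contr (V ⊗[k] A) h.ofConv.toLinearMap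
      ((TensorProduct.assoc k V A A).symm (LinearMap.lTensor V (Coalgebra.comul (R := k)) y))) =
    contr V (g * h).ofConv.toLinearMap y := by
  induction y using TensorProduct.induction_on with
  | zero => simp
  | add y z hy hz => simp only [map_add, hy, hz]
  | tmul v a =>
    rw [LinearMap.lTensor_tmul, contr_tmul, AlgHom.toLinearMap_apply, AlgHom.convMul_apply]
    generalize Coalgebra.comul (R := k) a = d
    induction d using TensorProduct.induction_on with
    | zero => simp
    | add y z hy hz =>
      simp only [TensorProduct.tmul_add, map_add, hy, hz, add_smul]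
    | tmul b c =>
      simp [smul_smul, mul_comm]

lemma act_convMul (g h : WithConv (A →ₐ[k] k)) :
    Comod.act k A V (g * h).ofConv = Comod.act k A V g.ofConv ∘ₗ Comod.act k A V h.ofConv := by
  apply LinearMap.ext
  intro v
  rw [LinearMap.comp_apply, act_eq_contr, act_eq_contr, act_eq_contr, ← contr_rTensor,
    ← contr_contr_assoc_symm]
  have hco := LinearMap.congr_fun (Comod.coassoc (k := k) (A := A) (V := V)) v
  simp only [LinearMap.comp_apply, LinearEquiv.coe_coe] at hco
  rw [← hco, LinearEquiv.symm_apply_apply]

variable (k A V) in
/-- The action of the monoid of rational points on a comodule. -/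
noncomputable def actHom : WithConv (A →ₐ[k] k) →* Module.End k V where
  toFun g := Comod.act k A V g.ofConv
  map_one' := act_convOne
  map_mul' g h := act_convMul g h

@[simp] lemma actHom_apply (g : WithConv (A →ₐ[k] k)) :
    actHom k A V g = Comod.act k A V g.ofConv := rfl

lemma commute_act_of_isCocomm [Coalgebra.IsCocomm k A] (g h : A →ₐ[k] k) :
    Commute (Comod.act k A V g) (Comod.act k A V h) := by
  have := (Commute.all (WithConv.toConv g) (WithConv.toConv h)).map (actHom k A V)
  exact this

end Act

end Groth.Agent.Lib.Helper7.Comod
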