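import Groth.Agent.Lib.Helper7.HopfAntipode
import Groth.Agent.Lib.Helper7.Comod
import Groth.Prelude.Def_ComodDual

/-!
# The contragredient comodule exists (helper7)
-/

universe u v w

open TensorProduct

namespace Groth.Agent.Lib.Helper7.Comod

open HopfRep

section Dual

variable {k : Type u} [CommRing k] {A : Type v} [CommRing A] [HopfAlgebra k A]
variable {V : Type w} [AddCommGroup V] [Module k V]

/-- `u ⊗ b ↦ f u • S b`. -/
noncomputable def dT (f : Module.Dual k V) : V ⊗[k] A →ₗ[k] A :=
  (TensorProduct.lid k A).toLinearMap ∘ₗ
    TensorProduct.map f (HopfAlgebraStruct.antipode (R := k) (A := A))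

@[simp] lemma dT_tmul (f : Module.Dual k V) (u : V) (b : A) :
    dT f (u ⊗ₜ[k] b) = f u • HopfAlgebraStruct.antipode (R := k) b := by
  simp [dT]

lemma dualCoactFun_eq (c : Comod k A V) (f : Module.Dual k V) (v : V) :
    ComodTens.dualCoactFun c f v = dT f (c.coact v) := rfl

/-- `f ↦ (v ↦ Σ f v₀ • S v₁)` as a linear map. -/
noncomputable def dualCoactFunL (c : Comod k A V) : Module.Dual k V →ₗ[k] V →ₗ[k] A where
  toFun := ComodTens.dualCoactFun c
  map_add' := ComodTens.dualCoactFun_add c
  map_smul' := ComodTens.dualCoactFun_smul c

variable [Module.Finite k V] [Module.Projective k V]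

/-- The contragredient coaction. -/
noncomputable def dualCoact (c : Comod k A V) : Module.Dual k V →ₗ[k] Module.Dual k V ⊗[k] A :=
  (dualTensorHomEquiv k V A).symm.toLinearMap ∘ₗ dualCoactFunL c

lemma dualTensorHom_dualCoact (c : Comod k A V) (f : Module.Dual k V) :
    dualTensorHom k V A (dualCoact c f) = ComodTens.dualCoactFun c f := by
  change dualTensorHomEquiv k V A ((dualTensorHomEquiv k V A).symm (ComodTens.dualCoactFun c f)) = _
  rw [LinearEquiv.apply_symm_apply]

omit [Module.Finite k V] [Module.Projective k V] in
lemma dualTensorHom_lTensor {N P : Type*} [AddCommGroup N] [Module k N] [AddCommGroup P]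
    [Module k P] (g : N →ₗ[k] P) (x : Module.Dual k V ⊗[k] N) (v : V) :
    dualTensorHom k V P (g.lTensor _ x) v = g (dualTensorHom k V N x v) := by
  have := LinearMap.congr_fun (dualTensorHom_comp_lTensor (R := k) (M := V) g) x
  simp only [LinearMap.comp_apply] at this
  rw [this]
  rfl

omit [Module.Finite k V] [Module.Projective k V] in
lemma dualTensorHom_assoc_tmul (y : Module.Dual k V ⊗[k] A) (a : A) (v : V) :
    dualTensorHom k V (A ⊗[k] A) (TensorProduct.assoc k _ A A (y ⊗ₜ[k] a)) v =
      dualTensorHom k V A y v ⊗ₜ[k] a := by
  induction y using TensorProduct.induction_on with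
  | zero => simp
  | tmul φ b => simp [TensorProduct.smul_tmul']
  | add y z hy hz => simp only [TensorProduct.add_tmul, map_add, LinearMap.add_apply, hy, hz]

/-- Lemma A. -/
lemma dualTensorHom_assoc_rTensor_dualCoact (c : Comod k A V) (x : Module.Dual k V ⊗[k] A) (v : V) :
    dualTensorHom k V (A ⊗[k] A)
        (TensorProduct.assoc k _ A A ((dualCoact c).rTensor A x)) v =
      (TensorProduct.comm k A A)
        (TensorProduct.map (dualTensorHom k V A x) (HopfAlgebraStruct.antipode (R := k) (A := A))
          (c.coact v)) := by
  induction x using TensorProduct.induction_on with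
  | zero => simp
  | tmul φ a =>
    rw [LinearMap.rTensor_tmul, dualTensorHom_assoc_tmul, dualTensorHom_dualCoact, dualCoactFun_eq]
    generalize c.coact v = y
    induction y using TensorProduct.induction_on with
    | zero => simp
    | tmul u b => simp [TensorProduct.smul_tmul]
    | add y z hy hz => simp only [map_add, TensorProduct.add_tmul, hy, hz]
  | add y z hy hz =>
    simp only [map_add, LinearMap.add_apply, hy, hz, TensorProduct.map_add_left]

omit [Module.Finite k V] [Module.Projective k V] in
/-- Lemma B. -/
lemma comul_dT (f : Module.Dual k V) (y : V ⊗[k] A) :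
    Coalgebra.comul (R := k) (dT (A := A) f y) =
      (TensorProduct.comm k A A)
        (TensorProduct.map (dT (A := A) f) (HopfAlgebraStruct.antipode (R := k) (A := A))
          ((TensorProduct.assoc k V A A).symm
            ((Coalgebra.comul (R := k) (A := A)).lTensor V y))) := by
  induction y using TensorProduct.induction_on with
  | zero => simp
  | tmul u b =>
    rw [dT_tmul, map_smul, Groth.Agent.Lib.Helper7.HopfConv.comul_antipode, LinearMap.lTensor_tmul]
    generalize Coalgebra.comul (R := k) b = z
    induction z using TensorProduct.induction_on with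
    | zero => simp
    | tmul b₁ b₂ => simp [TensorProduct.tmul_smul]
    | add y z hy hz => simp only [map_add, TensorProduct.tmul_add, smul_add, hy, hz]
  | add y z hy hz => simp only [map_add, hy, hz]

omit [Module.Finite k V] [Module.Projective k V] in
lemma map_comp_rTensor_apply {N P Q : Type*} [AddCommGroup N] [Module k N] [AddCommGroup P]
    [Module k P] [AddCommGroup Q] [Module k Q] (g : N →ₗ[k] P) (h : V →ₗ[k] N) (s : A →ₗ[k] Q)
    (y : V ⊗[k] A) :
    TensorProduct.map (g ∘ₗ h) s y = TensorProduct.map g s (h.rTensor A y) := by
  induction y using TensorProduct.induction_on with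
  | zero => simp
  | tmul u b => simp
  | add y z hy hz => simp only [map_add, hy, hz]

/-- The contragredient comodule structure on the dual of a finite projective comodule. -/
noncomputable def dualComod (c : Comod k A V) : Comod k A (Module.Dual k V) where
  coact := dualCoact c
  coassoc := by
    apply LinearMap.ext
    intro f
    apply (dualTensorHom_bijective (R := k) (M := V) (N := A ⊗[k] A)).1
    apply LinearMap.ext
    intro v
    simp only [LinearMap.comp_apply, LinearEquiv.coe_coe]
    rw [dualTensorHom_lTensor, dualTensorHom_assoc_rTensor_dualCoact, dualTensorHom_dualCoact,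
      dualCoactFun_eq, comul_dT]
    congr 1
    have hc := LinearMap.congr_fun c.coassoc v
    simp only [LinearMap.comp_apply, LinearEquiv.coe_coe] at hc
    rw [← hc, LinearEquiv.symm_apply_apply]
    have : ComodTens.dualCoactFun c f = dT f ∘ₗ c.coact := rfl
    rw [this, map_comp_rTensor_apply]
  counit_comp := by
    apply LinearMap.ext
    intro f
    apply (dualTensorHom_bijective (R := k) (M := V) (N := k)).1
    apply LinearMap.ext
    intro v
    simp only [LinearMap.comp_apply, LinearMap.flip_apply, TensorProduct.mk_apply]
    rw [dualTensorHom_lTensor, dualTensorHom_dualCoact, dualCoactFun_eq, dualTensorHom_apply]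
    have hu := LinearMap.congr_fun c.counit_comp v
    simp only [LinearMap.comp_apply, LinearMap.flip_apply, TensorProduct.mk_apply] at hu
    have key : ∀ y : V ⊗[k] A, Coalgebra.counit (R := k) (dT (A := A) f y) =
        f (TensorProduct.rid k V ((Coalgebra.counit (R := k) (A := A)).lTensor V y)) := by
      intro y
      induction y using TensorProduct.induction_on with
      | zero => simp
      | tmul u b => simp [HopfAlgebra.counit_antipode, mul_comm]
      | add y z hy hz => simp only [map_add, hy, hz]
    rw [key, hu]
    simp

theorem isDual_dualComod (c : Comod k A V) : ComodTens.Comod.IsDual c (dualComod c) :=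
  fun f => dualTensorHom_dualCoact c f

end Dual

end Groth.Agent.Lib.Helper7.Comod
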