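import Groth.Agent.Lib.Helper7.ComodInd
import Mathlib.RingTheory.HopfAlgebra.Basic

/-!
# The untwisting isomorphism `V ⊗ A ≅ V ⊗ A` for comodules over a commutative Hopf algebra (helper7)
-/

universe u v v' w w' w''

open TensorProduct

namespace Groth.Agent.Lib.Helper7.Comod

open HopfRep

section RMul

variable {k : Type u} [CommRing k] {A : Type v} [CommRing A] [Algebra k A]
variable {V : Type w} [AddCommGroup V] [Module k V]

/-- Right multiplication by `a` on the `A`-factor of `V ⊗ A`. -/
noncomputable def rmul (V : Type w) [AddCommGroup V] [Module k V] (a : A) :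
    V ⊗[k] A →ₗ[k] V ⊗[k] A :=
  LinearMap.lTensor V (LinearMap.mulRight k a)

@[simp] lemma rmul_tmul (a : A) (v : V) (b : A) : rmul V a (v ⊗ₜ[k] b) = v ⊗ₜ[k] (b * a) := by
  simp [rmul]

lemma rmul_rmul (a b : A) (x : V ⊗[k] A) : rmul V a (rmul V b x) = rmul V (b * a) x := by
  induction x using TensorProduct.induction_on with
  | zero => simp
  | tmul v c => simp [mul_assoc]
  | add y z hy hz => simp only [map_add, hy, hz]

lemma rmul_one (x : V ⊗[k] A) : rmul V (1 : A) x = x := by
  induction x using TensorProduct.induction_on with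
  | zero => simp
  | tmul v c => simp
  | add y z hy hz => simp only [map_add, hy, hz]

lemma rmul_add (a b : A) : rmul (k := k) V (a + b) = rmul V a + rmul V b := by
  apply LinearMap.ext
  intro x
  induction x using TensorProduct.induction_on with
  | zero => simp
  | tmul v c => simp [mul_add, TensorProduct.tmul_add]
  | add y z hy hz => simp only [map_add, hy, hz]

lemma rmul_zero : rmul (k := k) V (0 : A) = 0 := by
  apply LinearMap.ext
  intro x
  induction x using TensorProduct.induction_on with
  | zero => simp
  | tmul v c => simp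
  | add y z hy hz => simp only [map_add, hy, hz]

lemma rmul_smul_one (c : k) (x : V ⊗[k] A) : rmul V (c • (1 : A)) x = c • x := by
  induction x using TensorProduct.induction_on with
  | zero => simp
  | tmul v b => simp [TensorProduct.tmul_smul]
  | add y z hy hz => simp only [map_add, hy, hz, smul_add]

end RMul

section Twist

variable {k : Type u} [CommRing k] {A : Type v} [CommRing A] [HopfAlgebra k A]
variable {V : Type w} [AddCommGroup V] [Module k V] [Comod k A V]

/-- `v ⊗ a ↦ Σ v₀ ⊗ g(v₁) a`. -/
noncomputable def tw (V : Type w) [AddCommGroup V] [Module k V] [Comod k A V] (g : A →ₗ[k] A) :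
    V ⊗[k] A →ₗ[k] V ⊗[k] A :=
  LinearMap.lTensor V (LinearMap.mul' k A) ∘ₗ (TensorProduct.assoc k V A A).toLinearMap ∘ₗ
    LinearMap.rTensor A (LinearMap.lTensor V g ∘ₗ Comod.coact (k := k) (A := A))

lemma tw_tmul (g : A →ₗ[k] A) (v : V) (a : A) :
    tw V g (v ⊗ₜ[k] a) = rmul V a (LinearMap.lTensor V g (Comod.coact (k := k) (A := A) v)) := by
  simp only [tw, LinearMap.comp_apply, LinearMap.rTensor_tmul, LinearEquiv.coe_coe]
  generalize Comod.coact (k := k) (A := A) v = y
  induction y using TensorProduct.induction_on with
  | zero => simp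
  | tmul u b => simp
  | add y z hy hz => simp only [map_add, TensorProduct.add_tmul, hy, hz]

lemma tw_rmul (g : A →ₗ[k] A) (a : A) (x : V ⊗[k] A) :
    tw V g (rmul V a x) = rmul V a (tw V g x) := by
  induction x using TensorProduct.induction_on with
  | zero => simp
  | tmul u b => rw [rmul_tmul, tw_tmul, tw_tmul, rmul_rmul]
  | add y z hy hz => simp only [map_add, hy, hz]

/-- `Σ v₀₀ ⊗ v₀₁ S(v₁) = v ⊗ 1`. -/
lemma tw_id_lTensor_antipode_coact (v : V) :
    tw V LinearMap.id (LinearMap.lTensor V (HopfAlgebra.antipode k (A := A))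
      (Comod.coact (k := k) (A := A) v)) = v ⊗ₜ[k] (1 : A) := by
  have h1 : ∀ y : V ⊗[k] A, tw V LinearMap.id (LinearMap.lTensor V (HopfAlgebra.antipode k (A := A)) y) =
      LinearMap.lTensor V (LinearMap.mul' k A ∘ₗ LinearMap.lTensor A (HopfAlgebra.antipode k (A := A)))
        (TensorProduct.assoc k V A A (LinearMap.rTensor A (Comod.coact (k := k) (A := A)) y)) := by
    intro y
    induction y using TensorProduct.induction_on with
    | zero => simp
    | tmul u c =>
      rw [LinearMap.lTensor_tmul, tw_tmul, LinearMap.rTensor_tmul, LinearMap.lTensor_id,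
        LinearMap.id_apply]
      generalize Comod.coact (k := k) (A := A) u = z
      induction z using TensorProduct.induction_on with
      | zero => simp
      | tmul w b => simp
      | add y z hy hz => simp only [map_add, TensorProduct.add_tmul, hy, hz]
    | add y z hy hz => simp only [map_add, hy, hz]
  have hc := LinearMap.congr_fun (Comod.coassoc (k := k) (A := A) (V := V)) v
  have hu := LinearMap.congr_fun (Comod.counit_comp (k := k) (A := A) (V := V)) v
  simp only [LinearMap.comp_apply, LinearEquiv.coe_coe, LinearMap.flip_apply,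
    TensorProduct.mk_apply] at hc hu
  rw [h1, hc, ← LinearMap.comp_apply (LinearMap.lTensor V _) (LinearMap.lTensor V _),
    ← LinearMap.lTensor_comp, LinearMap.comp_assoc, HopfAlgebra.mul_antipode_lTensor_comul,
    LinearMap.lTensor_comp, LinearMap.comp_apply, hu]
  simp

/-- `Σ v₀₀ ⊗ S(v₀₁) v₁ = v ⊗ 1`. -/
lemma tw_antipode_coact (v : V) :
    tw V (HopfAlgebra.antipode k (A := A)) (Comod.coact (k := k) (A := A) v) = v ⊗ₜ[k] (1 : A) := by
  have h1 : ∀ y : V ⊗[k] A, tw V (HopfAlgebra.antipode k (A := A)) y =
      LinearMap.lTensor V (LinearMap.mul' k A ∘ₗ LinearMap.rTensor A (HopfAlgebra.antipode k (A := A)))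
        (TensorProduct.assoc k V A A (LinearMap.rTensor A (Comod.coact (k := k) (A := A)) y)) := by
    intro y
    induction y using TensorProduct.induction_on with
    | zero => simp
    | tmul u c =>
      rw [tw_tmul, LinearMap.rTensor_tmul]
      generalize Comod.coact (k := k) (A := A) u = z
      induction z using TensorProduct.induction_on with
      | zero => simp
      | tmul w b => simp
      | add y z hy hz => simp only [map_add, TensorProduct.add_tmul, hy, hz]
    | add y z hy hz => simp only [map_add, hy, hz]
  have hc := LinearMap.congr_fun (Comod.coassoc (k := k) (A := A) (V := V)) v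
  have hu := LinearMap.congr_fun (Comod.counit_comp (k := k) (A := A) (V := V)) v
  simp only [LinearMap.comp_apply, LinearEquiv.coe_coe, LinearMap.flip_apply,
    TensorProduct.mk_apply] at hc hu
  rw [h1, hc, ← LinearMap.comp_apply (LinearMap.lTensor V _) (LinearMap.lTensor V _),
    ← LinearMap.lTensor_comp, LinearMap.comp_assoc, HopfAlgebra.mul_antipode_rTensor_comul,
    LinearMap.lTensor_comp, LinearMap.comp_apply, hu]
  simp

/-- `θ ∘ θ' = id`. -/
theorem tw_id_tw_antipode (x : V ⊗[k] A) :
    tw V LinearMap.id (tw V (HopfAlgebra.antipode k (A := A)) x) = x := by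
  induction x using TensorProduct.induction_on with
  | zero => simp
  | tmul v a => rw [tw_tmul, tw_rmul, tw_id_lTensor_antipode_coact, rmul_tmul, one_mul]
  | add y z hy hz => simp only [map_add, hy, hz]

/-- `θ' ∘ θ = id`. -/
theorem tw_antipode_tw_id (x : V ⊗[k] A) :
    tw V (HopfAlgebra.antipode k (A := A)) (tw V LinearMap.id x) = x := by
  induction x using TensorProduct.induction_on with
  | zero => simp
  | tmul v a =>
    rw [tw_tmul, tw_rmul, LinearMap.lTensor_id, LinearMap.id_apply, tw_antipode_coact, rmul_tmul,
      one_mul]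
  | add y z hy hz => simp only [map_add, hy, hz]

end Twist

end Groth.Agent.Lib.Helper7.Comod
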