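import Groth.Agent.Lib.Helper7.ComodDual
import Groth.Agent.Lib.Helper7.HopfTwist
import Groth.Prelude.Def_ComodTens
import Mathlib.Algebra.Module.FinitePresentation
import Mathlib.Algebra.FiveLemma
import Mathlib.LinearAlgebra.LeftExact
import Mathlib.RingTheory.Flat.Basic

/-!
# `M^* ⊗ N → Hom(M, N)` is bijective for `M` finitely presented and `N` flat; invariants of
`B ⊗ M^*` are comodule maps `M → B` (helper7)
-/

universe u v w w'

open TensorProduct

namespace Groth.Agent.Lib.Helper7.Comod

open HopfRep

theorem dualTensorHom_bijective_of_fp_of_flat (k : Type u) [CommRing k]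
    (M : Type v) [AddCommGroup M] [Module k M] [Module.FinitePresentation k M]
    (N : Type w) [AddCommGroup N] [Module k N] [Module.Flat k N] :
    Function.Bijective (dualTensorHom k M N) := by
  obtain ⟨n, m, f, g, hf, hfg⟩ := Module.FinitePresentation.exists_fin' k M
  refine LinearMap.bijective_of_bijective_of_injective_of_left_exact
    (M₁ := Module.Dual k M ⊗[k] N) (M₂ := Module.Dual k (Fin n → k) ⊗[k] N)
    (M₃ := Module.Dual k (Fin m → k) ⊗[k] N)
    (N₁ := M →ₗ[k] N) (N₂ := (Fin n → k) →ₗ[k] N) (N₃ := (Fin m → k) →ₗ[k] N)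
    (f.dualMap.rTensor N) (g.dualMap.rTensor N)
    (LinearMap.lcomp k N f) (LinearMap.lcomp k N g)
    (dualTensorHom k M N) (dualTensorHom k (Fin n → k) N) (dualTensorHom k (Fin m → k) N)
    ?_ ?_ ?_ ?_ ?_ ?_ ?_ ?_
  · apply TensorProduct.ext'
    intro φ b
    ext x
    simp
  · apply TensorProduct.ext'
    intro φ b
    ext x
    simp
  · exact Module.Flat.rTensor_exact N
      (LinearMap.exact_lcomp_of_exact_of_surjective k hfg hf)
  · exact LinearMap.exact_lcomp_of_exact_of_surjective N hfg hf
  · exact (dualTensorHomEquiv k (Fin n → k) N).bijective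
  · exact (dualTensorHomEquiv k (Fin m → k) N).injective
  · exact Module.Flat.rTensor_preserves_injective_linearMap _
      (LinearMap.lcomp_injective_of_surjective f hf)
  · exact LinearMap.lcomp_injective_of_surjective f hf

section Tw

variable {k : Type u} [CommRing k] {A : Type v} [CommRing A] [HopfAlgebra k A]
variable {B : Type w} [AddCommGroup B] [Module k B] [Comod k A B]
variable {M : Type w'} [AddCommGroup M] [Module k M] [Comod k A M]

omit [Comod k A B] [Comod k A M] in
lemma rTensor_rmul (h : M →ₗ[k] B) (a : A) (x : M ⊗[k] A) :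
    h.rTensor A (rmul M a x) = rmul B a (h.rTensor A x) := by
  induction x using TensorProduct.induction_on with
  | zero => simp
  | tmul u b => simp
  | add y z hy hz => simp only [map_add, hy, hz]

/-- `h` is a comodule map iff it intertwines the untwisting maps. -/
lemma isComodHom_iff_tw (h : M →ₗ[k] B) :
    Hoch.IsComodHom A h ↔
      tw B (LinearMap.id : A →ₗ[k] A) ∘ₗ h.rTensor A = h.rTensor A ∘ₗ tw M LinearMap.id := by
  constructor
  · intro hh
    apply TensorProduct.ext'
    intro m a
    have := LinearMap.congr_fun hh m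
    simp only [LinearMap.comp_apply] at this
    simp only [LinearMap.comp_apply, LinearMap.rTensor_tmul, tw_tmul, LinearMap.lTensor_id,
      LinearMap.id_apply, rTensor_rmul, this]
  · intro hh
    apply LinearMap.ext
    intro m
    have := LinearMap.congr_fun hh (m ⊗ₜ[k] (1 : A))
    simpa only [LinearMap.comp_apply, LinearMap.rTensor_tmul, tw_tmul, LinearMap.lTensor_id,
      LinearMap.id_apply, rmul_one] using this

/-- `h` is a comodule map iff `Σ ρ_B(h(m₀)) (1 ⊗ S(m₁)) = h(m) ⊗ 1` for all `m`. -/
lemma isComodHom_iff_forall_tw (h : M →ₗ[k] B) :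
    Hoch.IsComodHom A h ↔
      ∀ m : M, tw B (LinearMap.id : A →ₗ[k] A) (h.rTensor A
        ((HopfAlgebra.antipode k (A := A)).lTensor M (Comod.coact (k := k) (A := A) m))) =
          h m ⊗ₜ[k] (1 : A) := by
  have h1 : (∀ m : M, tw B (LinearMap.id : A →ₗ[k] A) (h.rTensor A
        ((HopfAlgebra.antipode k (A := A)).lTensor M (Comod.coact (k := k) (A := A) m))) =
          h m ⊗ₜ[k] (1 : A)) ↔
      tw B (LinearMap.id : A →ₗ[k] A) ∘ₗ h.rTensor A ∘ₗ tw M (HopfAlgebra.antipode k (A := A)) =
        h.rTensor A := by
    constructor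
    · intro hh
      apply TensorProduct.ext'
      intro m a
      simp only [LinearMap.comp_apply, tw_tmul, rTensor_rmul, tw_rmul, hh, rmul_tmul, one_mul,
        LinearMap.rTensor_tmul]
    · intro hh m
      have := LinearMap.congr_fun hh (m ⊗ₜ[k] (1 : A))
      simpa only [LinearMap.comp_apply, tw_tmul, rmul_one, LinearMap.rTensor_tmul] using this
  rw [h1, isComodHom_iff_tw]
  constructor
  · intro hh
    rw [← LinearMap.comp_assoc, hh, LinearMap.comp_assoc]
    apply LinearMap.ext
    intro x
    simp only [LinearMap.comp_apply, tw_id_tw_antipode]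
  · intro hh
    conv_rhs => rw [← hh]
    apply LinearMap.ext
    intro x
    simp only [LinearMap.comp_apply, tw_antipode_tw_id]

end Tw

section Pairing

variable {k : Type u} [CommRing k] {A : Type v} [CommRing A] [HopfAlgebra k A]
variable {B : Type w} [AddCommGroup B] [Module k B]
variable {M : Type w'} [AddCommGroup M] [Module k M]

variable (k A B M) in
/-- `(b ⊗ φ) ⊗ a ↦ (m ↦ φ m • (b ⊗ a))`. -/
noncomputable def pairBD : (B ⊗[k] Module.Dual k M) ⊗[k] A →ₗ[k] (M →ₗ[k] B ⊗[k] A) :=
  dualTensorHom k M (B ⊗[k] A) ∘ₗ (TensorProduct.assoc k (Module.Dual k M) B A).toLinearMap ∘ₗ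
    (TensorProduct.comm k B (Module.Dual k M)).toLinearMap.rTensor A

@[simp] lemma pairBD_tmul_tmul (b : B) (φ : Module.Dual k M) (a : A) (m : M) :
    pairBD k A B M ((b ⊗ₜ[k] φ) ⊗ₜ[k] a) m = φ m • (b ⊗ₜ[k] a) := by
  simp [pairBD]

lemma pairBD_injective_of (hinj : Function.Injective (dualTensorHom k M (B ⊗[k] A))) :
    Function.Injective (pairBD k A B M) := by
  unfold pairBD
  rw [LinearMap.coe_comp, LinearMap.coe_comp]
  refine hinj.comp
    ((TensorProduct.assoc k (Module.Dual k M) B A).injective.comp ?_)
  have : (TensorProduct.comm k B (Module.Dual k M)).toLinearMap.rTensor A =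
      ((TensorProduct.comm k B (Module.Dual k M)).rTensor A).toLinearMap := rfl
  rw [this]
  exact LinearEquiv.injective _

lemma pairBD_injective [Module.FinitePresentation k M] [Module.Flat k B] [Module.Flat k A] :
    Function.Injective (pairBD k A B M) :=
  pairBD_injective_of (dualTensorHom_bijective_of_fp_of_flat k M (B ⊗[k] A)).1

lemma pairBD_tmul_one (x : B ⊗[k] Module.Dual k M) (m : M) :
    pairBD k A B M (x ⊗ₜ[k] (1 : A)) m =
      dualTensorHom k M B (TensorProduct.comm k B (Module.Dual k M) x) m ⊗ₜ[k] (1 : A) := by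
  induction x using TensorProduct.induction_on with
  | zero => simp
  | tmul b φ => simp [TensorProduct.smul_tmul']
  | add y z hy hz => simp only [map_add, TensorProduct.add_tmul, LinearMap.add_apply, hy, hz]

/-- The pairing with the coaction of `B ⊗ M^*`. -/
lemma pairBD_coact [cB : Comod k A B] [cM : Comod k A M] (d : Comod k A (Module.Dual k M))
    (hd : ComodTens.Comod.IsDual cM d) (x : B ⊗[k] Module.Dual k M) (m : M) :
    pairBD k A B M ((ComodTens.Comod.tensor cB d).coact x) m =
      tw B (LinearMap.id : A →ₗ[k] A)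
        ((dualTensorHom k M B (TensorProduct.comm k B (Module.Dual k M) x)).rTensor A
          ((HopfAlgebra.antipode k (A := A)).lTensor M (cM.coact m))) := by
  induction x using TensorProduct.induction_on with
  | zero => simp
  | tmul b φ =>
    have h1 : ∀ (y : B ⊗[k] A) (z : Module.Dual k M ⊗[k] A),
        pairBD k A B M (TensorProduct.map LinearMap.id (LinearMap.mul' k A)
          (AlgebraTensorModule.tensorTensorTensorComm k k k k B A (Module.Dual k M) A
            (y ⊗ₜ[k] z))) m = rmul B (dualTensorHom k M A z m) y := by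
      intro y z
      induction y using TensorProduct.induction_on with
      | zero => simp
      | tmul b₀ b₁ =>
        induction z using TensorProduct.induction_on with
        | zero => simp
        | tmul φ₀ φ₁ => simp [TensorProduct.tmul_smul]
        | add y z hy hz =>
          simp only [TensorProduct.tmul_add, map_add, LinearMap.add_apply, hy, hz, rmul_add]
      | add y z hy hz => simp only [TensorProduct.add_tmul, map_add, LinearMap.add_apply, hy, hz]
    have h2 : ∀ w : M ⊗[k] A,
        (dualTensorHom k M B (TensorProduct.comm k B (Module.Dual k M) (b ⊗ₜ[k] φ))).rTensor A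
          ((HopfAlgebra.antipode k (A := A)).lTensor M w) = b ⊗ₜ[k] dT φ w := by
      intro w
      induction w using TensorProduct.induction_on with
      | zero => simp
      | tmul u a => simp [TensorProduct.smul_tmul]
      | add y z hy hz => simp only [map_add, TensorProduct.tmul_add, hy, hz]
    rw [ComodTens.tensor_coact_tmul, h1, hd φ, dualCoactFun_eq, h2, tw_tmul, LinearMap.lTensor_id,
      LinearMap.id_apply]
  | add y z hy hz => simp only [map_add, LinearMap.add_apply, hy, hz, LinearMap.rTensor_add]

/-- `x ∈ (B ⊗ M^*)^A` iff the associated map `M → B` is a comodule map. -/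
theorem mem_fixedPts_tensor_dual_iff_of_injective
    (hinj : Function.Injective (dualTensorHom k M (B ⊗[k] A)))
    [cB : Comod k A B] [cM : Comod k A M] (d : Comod k A (Module.Dual k M))
    (hd : ComodTens.Comod.IsDual cM d) (x : B ⊗[k] Module.Dual k M) :
    x ∈ @HopfRep.fixedPts k A _ _ _ (B ⊗[k] Module.Dual k M) _ _ (ComodTens.Comod.tensor cB d) ↔
      Hoch.IsComodHom A (dualTensorHom k M B (TensorProduct.comm k B (Module.Dual k M) x)) := by
  rw [isComodHom_iff_forall_tw]
  change (ComodTens.Comod.tensor cB d).coact x = x ⊗ₜ[k] (1 : A) ↔ _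
  constructor
  · intro hx m
    rw [← pairBD_coact d hd, hx, pairBD_tmul_one]
  · intro hx
    apply pairBD_injective_of hinj
    apply LinearMap.ext
    intro m
    rw [pairBD_coact d hd, pairBD_tmul_one, hx m]

/-- `x ∈ (B ⊗ M^*)^A` iff the associated map `M → B` is a comodule map. -/
theorem mem_fixedPts_tensor_dual_iff [Module.FinitePresentation k M] [Module.Flat k B]
    [Module.Flat k A] [cB : Comod k A B] [cM : Comod k A M] (d : Comod k A (Module.Dual k M))
    (hd : ComodTens.Comod.IsDual cM d) (x : B ⊗[k] Module.Dual k M) :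
    x ∈ @HopfRep.fixedPts k A _ _ _ (B ⊗[k] Module.Dual k M) _ _ (ComodTens.Comod.tensor cB d) ↔
      Hoch.IsComodHom A (dualTensorHom k M B (TensorProduct.comm k B (Module.Dual k M) x)) :=
  mem_fixedPts_tensor_dual_iff_of_injective
    (dualTensorHom_bijective_of_fp_of_flat k M (B ⊗[k] A)).1 d hd x

end Pairing

end Groth.Agent.Lib.Helper7.Comod
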