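import Groth.Agent.Lib.Helper7.UE1

set_option autoImplicit false

namespace Groth.Agent.Lib.Helper7.UnipExt

open TensorProduct HopfRep Groth.Agent.Lib.Helper7.Comod

universe u v v' w

section Push

variable {k : Type u} [Field k] {A : Type v} [CommRing A] [Bialgebra k A]
  {B : Type v'} [CommRing B] [Bialgebra k B]
  {V : Type w} [AddCommGroup V] [Module k V]

lemma range_rTensor_subtype_mono {W W' : Submodule k V} (h : W ≤ W') (M : Type*)
    [AddCommGroup M] [Module k M] :
    LinearMap.range (W.subtype.rTensor M) ≤ LinearMap.range (W'.subtype.rTensor M) := by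
  rintro _ ⟨y, rfl⟩
  refine ⟨(Submodule.inclusion h).rTensor M y, ?_⟩
  rw [← LinearMap.comp_apply, ← LinearMap.rTensor_comp]
  rfl

/-- the fixed-point filtration grows under restriction along a bialgebra map. -/
lemma fixFilt_push_le (φ : A →ₐc[k] B) (c : Comod k A V) (n : ℕ) :
    @fixFilt k _ A _ _ V _ _ c n ≤
      @fixFilt k _ B _ _ V _ _ (push (φ : A →ₗc[k] B) c) n := by
  induction n with
  | zero => exact le_rfl
  | succ n ih =>
    intro v hv
    letI := c
    rw [fixFilt_succ, mem_nextFix] at hv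
    obtain ⟨y, hy⟩ := hv
    letI := push (φ : A →ₗc[k] B) c
    rw [fixFilt_succ, mem_nextFix]
    apply range_rTensor_subtype_mono ih
    refine ⟨LinearMap.lTensor _ (φ : A →ₗ[k] B) y, ?_⟩
    have h1 : Comod.coact (k := k) (A := B) v =
        LinearMap.lTensor V (φ : A →ₗ[k] B) (c.coact v) := rfl
    rw [h1]
    have h2 : v ⊗ₜ[k] (1 : B) = LinearMap.lTensor V (φ : A →ₗ[k] B) (v ⊗ₜ[k] (1 : A)) := by
      rw [LinearMap.lTensor_tmul]
      congr 1
      exact (map_one φ).symm
    rw [h2, ← map_sub, ← hy, ← LinearMap.comp_apply, ← LinearMap.comp_apply,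
      LinearMap.rTensor_comp_lTensor, LinearMap.lTensor_comp_rTensor]

end Push

section Quotient

variable {k : Type u} [Field k] {A : Type v} [CommRing A] [Bialgebra k A]
  {B : Type v'} [CommRing B] [Bialgebra k B]

/-- closed subgroups of unipotent groups are unipotent. -/
theorem isUnipotent_of_surjective (φ : A →ₐc[k] B) (hφ : Function.Surjective φ)
    (hA : IsUnipotent k A) : IsUnipotent k B := by
  apply isUnipotent_of_regular_exhaustive
  intro b
  obtain ⟨a, rfl⟩ := hφ b
  obtain ⟨n, hn⟩ := exists_mem_fixFilt_regular hA a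
  refine ⟨n, ?_⟩
  have h1 := fixFilt_push_le φ (Comod.regular k A) n hn
  letI cA : Comod k B A := push (φ : A →ₗc[k] B) (Comod.regular k A)
  have hhom : Hoch.IsComodHom B (φ : A →ₗ[k] B) := by
    change Comod.coact (k := k) (A := B) ∘ₗ (φ : A →ₗ[k] B) =
      (φ : A →ₗ[k] B).rTensor B ∘ₗ ((φ : A →ₗ[k] B).lTensor A ∘ₗ Coalgebra.comul (R := k))
    rw [← LinearMap.comp_assoc, LinearMap.rTensor_comp_lTensor]
    exact (CoalgHomClass.map_comp_comul φ).symm
  exact map_fixFilt_le hhom n ⟨a, h1, rfl⟩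

end Quotient

section Sub

variable {k : Type u} [Field k] {A : Type v} [CommRing A] [Bialgebra k A]
  {B : Type v} [CommRing B] [Bialgebra k B]

/-- quotients of unipotent groups are unipotent. -/
theorem isUnipotent_of_injective (ψ : B →ₐc[k] A) (hψ : Function.Injective ψ)
    (hA : IsUnipotent k A) : IsUnipotent k B := by
  intro V _ _ c hfin hnt
  have h := @hA V _ _ (push (ψ : B →ₗc[k] A) c) hfin hnt
  intro hbot
  apply h
  rw [eq_bot_iff]
  intro v hv
  rw [← hbot]
  change c.coact v = v ⊗ₜ[k] (1 : B)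
  have hv' : LinearMap.lTensor V (ψ : B →ₗ[k] A) (c.coact v) = v ⊗ₜ[k] (1 : A) := hv
  have hinj : Function.Injective (LinearMap.lTensor V (ψ : B →ₗ[k] A)) :=
    Module.Flat.lTensor_preserves_injective_linearMap _ hψ
  apply hinj
  rw [hv', LinearMap.lTensor_tmul]
  congr 1
  exact (map_one ψ).symm

end Sub

end Groth.Agent.Lib.Helper7.UnipExt
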