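import Groth.Agent.Lib.Helper7.ComodIsotypic
import Groth.Prelude.Def_GLin
import Mathlib.RingTheory.Bialgebra.MonoidAlgebra

/-!
# Total integrals (helper7)
-/

universe u v v' w w' w''

open TensorProduct

namespace Groth.Agent.Lib.Helper7.Comod

open HopfRep

section Integral

variable {k : Type u} [CommRing k] {A : Type v} [CommRing A] [Bialgebra k A]

variable (k A) in
/-- `α : A → k` is a total integral for the trivial action: a comodule map from the regular comodule
to the trivial comodule `k` with `α 1 = 1`. -/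
def IsTrivIntegral (α : A →ₗ[k] k) : Prop :=
  @Hoch.IsComodHom k _ A _ _ _ A _ _ _ k _ _ (Comod.trivial k A k) α ∧ α 1 = 1

lemma isTrivIntegral_iff (α : A →ₗ[k] k) :
    IsTrivIntegral k A α ↔
      (∀ a : A, α a ⊗ₜ[k] (1 : A) = α.rTensor A (Coalgebra.comul (R := k) a)) ∧ α 1 = 1 := by
  constructor
  · rintro ⟨h, h1⟩
    exact ⟨fun a => LinearMap.congr_fun h a, h1⟩
  · rintro ⟨h, h1⟩
    exact ⟨LinearMap.ext h, h1⟩

lemma coact_regular (a : A) :
    Comod.coact (k := k) (A := A) (V := A) a = Coalgebra.comul (R := k) a := rfl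

lemma isSubcomod_span_one :
    IsSubcomod (k := k) (A := A) (V := A) (Submodule.span k {(1 : A)}) := by
  refine isSubcomod_span (k := k) (A := A) (V := A) (s := {(1 : A)}) ?_
  intro v hv
  rw [Set.mem_singleton_iff] at hv
  subst hv
  rw [coact_regular, Bialgebra.comul_one, Algebra.TensorProduct.one_def]
  have h1 : (1 : A) ∈ Submodule.span k {(1 : A)} := Submodule.subset_span (Set.mem_singleton _)
  exact tmul_mem_range_rTensor (A := A) h1 (1 : A)

/-- S12926. -/
theorem exists_isTrivIntegral_of_isCompl (H : Submodule k A)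
    (hH : IsSubcomod (k := k) (A := A) H) (hc : IsCompl (Submodule.span k {(1 : A)}) H) :
    ∃ α : A →ₗ[k] k, IsTrivIntegral k A α := by
  set p : A →ₗ[k] A := (Submodule.span k {(1 : A)}).subtype ∘ₗ
    Submodule.projectionOnto _ H hc with hp
  have hpc : Hoch.IsComodHom A p := isComodHom_proj isSubcomod_span_one hH hc
  have hp1 : p 1 = 1 := by
    rw [hp, LinearMap.comp_apply]
    have := Submodule.projectionOnto_apply_left hc ⟨1, Submodule.subset_span rfl⟩
    rw [this]; rfl
  have hpr : ∀ a, ∃ c : k, p a = c • 1 := by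
    intro a
    have : p a ∈ Submodule.span k {(1 : A)} := by rw [hp]; exact Submodule.coe_mem _
    obtain ⟨c, hc⟩ := Submodule.mem_span_singleton.1 this
    exact ⟨c, hc.symm⟩
  refine ⟨(Coalgebra.counit (R := k) (A := A)) ∘ₗ p, ?_⟩
  rw [isTrivIntegral_iff]
  refine ⟨fun a => ?_, ?_⟩
  · obtain ⟨c, hc⟩ := hpr a
    have h1 := isComodHom_apply hpc a
    change Coalgebra.comul (R := k) (p a) = p.rTensor A (Coalgebra.comul (R := k) a) at h1
    have e1 : ((Coalgebra.counit (R := k) (A := A)) ∘ₗ p) a = Coalgebra.counit (R := k) (p a) := rfl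
    have e2 : (((Coalgebra.counit (R := k) (A := A)).rTensor A) ∘ₗ p.rTensor A)
        (Coalgebra.comul (R := k) a) =
        (Coalgebra.counit (R := k) (A := A)).rTensor A (p.rTensor A (Coalgebra.comul (R := k) a)) := rfl
    rw [e1, LinearMap.rTensor_comp, e2, ← h1, hc, map_smul, map_smul, map_smul, Bialgebra.comul_one,
      Algebra.TensorProduct.one_def, LinearMap.rTensor_tmul, Bialgebra.counit_one,
      TensorProduct.smul_tmul']
  · rw [LinearMap.comp_apply, hp1, Bialgebra.counit_one]

variable {B : Type w} [CommRing B] [Algebra k B] [Comod k A B] [GLin.IsCoactAlg k A B]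

/-- S12927. -/
theorem exists_totalIntegral_of_isTrivIntegral {α₀ : A →ₗ[k] k} (h : IsTrivIntegral k A α₀) :
    ∃ α : A →ₗ[k] B, Hoch.IsComodHom A α ∧ α 1 = 1 := by
  rw [isTrivIntegral_iff] at h
  refine ⟨Algebra.linearMap k B ∘ₗ α₀, ?_, ?_⟩
  · rw [isComodHom_iff]
    intro a
    change Comod.coact (k := k) (A := A) (algebraMap k B (α₀ a)) =
      (Algebra.linearMap k B ∘ₗ α₀).rTensor A (Coalgebra.comul (R := k) a)
    rw [LinearMap.rTensor_comp, LinearMap.comp_apply, ← h.1 a, LinearMap.rTensor_tmul,
      Algebra.algebraMap_eq_smul_one, map_smul, GLin.IsCoactAlg.coact_one,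
      Algebra.TensorProduct.one_def, TensorProduct.smul_tmul']
    simp [Algebra.algebraMap_eq_smul_one]
  · rw [LinearMap.comp_apply, h.2]
    simp

end Integral

section MonoidAlgebra

variable {k : Type u} [CommRing k] {M : Type v} [CommGroup M]

/-- The coefficient of the unit element is a total integral on `k[M]`. -/
theorem isTrivIntegral_monoidAlgebra :
    IsTrivIntegral k (MonoidAlgebra k M)
      (Finsupp.lapply (1 : M) ∘ₗ (MonoidAlgebra.coeffLinearEquiv k).toLinearMap) := by
  classical
  rw [isTrivIntegral_iff]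
  constructor
  · intro a
    have key : (TensorProduct.mk k k (MonoidAlgebra k M)).flip 1 ∘ₗ
        (Finsupp.lapply (1 : M) ∘ₗ (MonoidAlgebra.coeffLinearEquiv k).toLinearMap) =
        (Finsupp.lapply (1 : M) ∘ₗ (MonoidAlgebra.coeffLinearEquiv k).toLinearMap).rTensor
          (MonoidAlgebra k M) ∘ₗ Coalgebra.comul (R := k) (A := MonoidAlgebra k M) := by
      apply MonoidAlgebra.lhom_ext'
      intro m
      apply LinearMap.ext
      intro c
      simp only [LinearMap.comp_apply, MonoidAlgebra.lsingle_apply, LinearMap.flip_apply,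
        TensorProduct.mk_apply, LinearEquiv.coe_coe, Finsupp.lapply_apply,
        MonoidAlgebra.comul_single]
      have hc : Coalgebra.comul (R := k) (A := k) c = (1 : k) ⊗ₜ[k] c := by
        simp [CommSemiring.comul_apply]
      rw [hc, TensorProduct.map_tmul, LinearMap.rTensor_tmul, LinearMap.comp_apply]
      simp only [MonoidAlgebra.lsingle_apply, LinearEquiv.coe_coe, Finsupp.lapply_apply]
      by_cases hm : m = 1
      · subst hm
        have h1 : ((MonoidAlgebra.coeffLinearEquiv k) (MonoidAlgebra.single (1 : M) c) : M →₀ k) 1 = c := by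
          simp [MonoidAlgebra.coeffLinearEquiv]
        have h2 : ((MonoidAlgebra.coeffLinearEquiv k) (MonoidAlgebra.single (1 : M) (1 : k)) : M →₀ k) 1 = 1 := by
          simp [MonoidAlgebra.coeffLinearEquiv]
        rw [h1, h2, MonoidAlgebra.one_def]
        have h3 : MonoidAlgebra.single (1 : M) c = c • MonoidAlgebra.single (1 : M) (1 : k) := by
          simp
        rw [h3, TensorProduct.tmul_smul, TensorProduct.smul_tmul', smul_eq_mul, mul_one]
      · have h0 : ((MonoidAlgebra.coeffLinearEquiv k) (MonoidAlgebra.single m c) : M →₀ k) 1 = 0 := by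
          simp [MonoidAlgebra.coeffLinearEquiv, hm]
        have h0' : ((MonoidAlgebra.coeffLinearEquiv k) (MonoidAlgebra.single m (1 : k)) : M →₀ k) 1 = 0 := by
          simp [MonoidAlgebra.coeffLinearEquiv, hm]
        rw [h0, h0']
        simp
    exact LinearMap.congr_fun key a
  · simp [MonoidAlgebra.one_def, MonoidAlgebra.coeffLinearEquiv]

end MonoidAlgebra

end Groth.Agent.Lib.Helper7.Comod
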