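import Groth.Agent.Lib.Helper7.ComodDualFP
import Groth.Prelude.Def_ComodSub

/-!
# The left dual comodule of a finitely presented comodule over a flat coalgebra (helper7)
-/

universe u v w

open TensorProduct

namespace Groth.Agent.Lib.Helper7.Comod

open HopfRep

section LDual

variable {k : Type u} [CommRing k] {A : Type v} [AddCommGroup A] [Module k A] [Coalgebra k A]
variable {M : Type w} [AddCommGroup M] [Module k M]

/-- `g ↦ (m ↦ Σ g m₀ • m₁)` as a linear map. -/
noncomputable def ldualFunL (c : Comod k A M) : Module.Dual k M →ₗ[k] M →ₗ[k] A where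
  toFun := ComodSub.ldualFun c
  map_add' f g := by
    apply LinearMap.ext
    intro m
    simp only [ComodSub.ldualFun_apply, LinearMap.rTensor_add, LinearMap.add_apply, map_add]
  map_smul' r f := by
    apply LinearMap.ext
    intro m
    simp only [ComodSub.ldualFun_apply, LinearMap.rTensor_smul, LinearMap.smul_apply, map_smul,
      RingHom.id_apply]

/-- The reading map `A ⊗ (A ⊗ M^*) → Hom(M, A ⊗ A)`. -/
noncomputable def read₂ (k : Type u) [CommRing k] (A : Type v) [AddCommGroup A] [Module k A]
    (M : Type w) [AddCommGroup M] [Module k M] :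
    A ⊗[k] (A ⊗[k] Module.Dual k M) →ₗ[k] (M →ₗ[k] A ⊗[k] A) :=
  dualTensorHom k M (A ⊗[k] A) ∘ₗ (TensorProduct.comm k (A ⊗[k] A) (Module.Dual k M)).toLinearMap ∘ₗ
    (TensorProduct.assoc k A A (Module.Dual k M)).symm.toLinearMap

omit [Coalgebra k A] in
@[simp] lemma read₂_tmul (a a' : A) (φ : Module.Dual k M) (m : M) :
    read₂ k A M (a ⊗ₜ[k] (a' ⊗ₜ[k] φ)) m = φ m • (a ⊗ₜ[k] a') := by
  simp [read₂]

omit [Coalgebra k A] in
lemma read₂_injective [Module.FinitePresentation k M] [Module.Flat k A] :
    Function.Injective (read₂ k A M) := by
  unfold read₂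
  rw [LinearMap.coe_comp, LinearMap.coe_comp]
  exact (dualTensorHom_bijective_of_fp_of_flat k M (A ⊗[k] A)).1.comp
    ((TensorProduct.comm k (A ⊗[k] A) (Module.Dual k M)).injective.comp
      (TensorProduct.assoc k A A (Module.Dual k M)).symm.injective)

variable [Module.FinitePresentation k M] [Module.Flat k A]

/-- `M^* ⊗ A ≃ Hom(M, A)`. -/
noncomputable def dualTensorHomEquivFP (k : Type u) [CommRing k] (A : Type v) [AddCommGroup A]
    [Module k A] [Module.Flat k A] (M : Type w) [AddCommGroup M] [Module k M]
    [Module.FinitePresentation k M] : Module.Dual k M ⊗[k] A ≃ₗ[k] (M →ₗ[k] A) :=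
  LinearEquiv.ofBijective (dualTensorHom k M A) (dualTensorHom_bijective_of_fp_of_flat k M A)

omit [Coalgebra k A] in
@[simp] lemma dualTensorHomEquivFP_apply (y : Module.Dual k M ⊗[k] A) :
    dualTensorHomEquivFP k A M y = dualTensorHom k M A y := rfl

/-- The left coaction on the dual. -/
noncomputable def ldualCoact (c : Comod k A M) : Module.Dual k M →ₗ[k] A ⊗[k] Module.Dual k M :=
  (TensorProduct.comm k A (Module.Dual k M)).symm.toLinearMap ∘ₗ
    (dualTensorHomEquivFP k A M).symm.toLinearMap ∘ₗ ldualFunL c

lemma dualTensorHom_comm_ldualCoact (c : Comod k A M) (g : Module.Dual k M) :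
    dualTensorHom k M A (TensorProduct.comm k A (Module.Dual k M) (ldualCoact c g)) =
      ComodSub.ldualFun c g := by
  change dualTensorHomEquivFP k A M (TensorProduct.comm k A (Module.Dual k M)
    ((TensorProduct.comm k A (Module.Dual k M)).symm
      ((dualTensorHomEquivFP k A M).symm (ComodSub.ldualFun c g)))) = _
  rw [LinearEquiv.apply_symm_apply, LinearEquiv.apply_symm_apply]

omit [Module.FinitePresentation k M] [Module.Flat k A] [Coalgebra k A] in
lemma read₂_tmul' (a : A) (z : A ⊗[k] Module.Dual k M) (m : M) :
    read₂ k A M (a ⊗ₜ[k] z) m =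
      a ⊗ₜ[k] dualTensorHom k M A (TensorProduct.comm k A (Module.Dual k M) z) m := by
  induction z using TensorProduct.induction_on with
  | zero => simp
  | tmul a' ψ => simp [TensorProduct.tmul_smul]
  | add y z hy hz => simp only [TensorProduct.tmul_add, map_add, LinearMap.add_apply, hy, hz]

/-- L1. -/
lemma read₂_lTensor_ldualCoact (c : Comod k A M) (x : A ⊗[k] Module.Dual k M) (m : M) :
    read₂ k A M ((ldualCoact c).lTensor A x) m =
      (dualTensorHom k M A (TensorProduct.comm k A (Module.Dual k M) x)).rTensor A (c.coact m) := by
  induction x using TensorProduct.induction_on with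
  | zero => simp
  | tmul a φ =>
    rw [LinearMap.lTensor_tmul, read₂_tmul', dualTensorHom_comm_ldualCoact, ComodSub.ldualFun_apply]
    generalize c.coact m = w
    induction w using TensorProduct.induction_on with
    | zero => simp
    | tmul u b => simp [TensorProduct.smul_tmul]
    | add y z hy hz => simp only [map_add, TensorProduct.tmul_add, hy, hz]
  | add y z hy hz => simp only [map_add, LinearMap.add_apply, hy, hz, LinearMap.rTensor_add]

omit [Module.FinitePresentation k M] [Module.Flat k A] in
/-- L2. -/
lemma read₂_assoc_rTensor_comul (x : A ⊗[k] Module.Dual k M) (m : M) :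
    read₂ k A M (TensorProduct.assoc k A A (Module.Dual k M)
        ((CoalgebraStruct.comul (R := k) (A := A)).rTensor (Module.Dual k M) x)) m =
      CoalgebraStruct.comul (R := k)
        (dualTensorHom k M A (TensorProduct.comm k A (Module.Dual k M) x) m) := by
  induction x using TensorProduct.induction_on with
  | zero => simp
  | tmul a φ =>
    rw [LinearMap.rTensor_tmul]
    have : ∀ z : A ⊗[k] A, read₂ k A M (TensorProduct.assoc k A A (Module.Dual k M) (z ⊗ₜ[k] φ)) m =
        φ m • z := by
      intro z
      induction z using TensorProduct.induction_on with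
      | zero => simp
      | tmul a₁ a₂ => simp
      | add y z hy hz => simp only [TensorProduct.add_tmul, map_add, LinearMap.add_apply, hy, hz,
          smul_add]
    rw [this]
    simp
  | add y z hy hz => simp only [map_add, LinearMap.add_apply, hy, hz]

omit [Module.FinitePresentation k M] [Module.Flat k A] in
/-- L3. -/
lemma ldualFun_rTensor_coact (c : Comod k A M) (g : Module.Dual k M) (m : M) :
    (ComodSub.ldualFun c g).rTensor A (c.coact m) =
      CoalgebraStruct.comul (R := k) (ComodSub.ldualFun c g m) := by
  have h1 : ComodSub.ldualFun c g =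
      ((TensorProduct.lid k A).toLinearMap ∘ₗ g.rTensor A) ∘ₗ c.coact := rfl
  have hc := LinearMap.congr_fun c.coassoc m
  simp only [LinearMap.comp_apply, LinearEquiv.coe_coe] at hc
  have h2 : c.coact.rTensor A (c.coact m) =
      (TensorProduct.assoc k M A A).symm
        ((CoalgebraStruct.comul (R := k) (A := A)).lTensor M (c.coact m)) := by
    rw [← hc, LinearEquiv.symm_apply_apply]
  rw [h1, LinearMap.rTensor_comp, LinearMap.comp_apply, h2, LinearMap.comp_apply]
  generalize c.coact m = w
  induction w using TensorProduct.induction_on with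
  | zero => simp
  | tmul u a =>
    rw [LinearMap.lTensor_tmul]
    have : ∀ z : A ⊗[k] A, ((TensorProduct.lid k A).toLinearMap ∘ₗ g.rTensor A).rTensor A
        ((TensorProduct.assoc k M A A).symm (u ⊗ₜ[k] z)) = g u • z := by
      intro z
      induction z using TensorProduct.induction_on with
      | zero => simp
      | tmul a₁ a₂ => simp [TensorProduct.smul_tmul']
      | add y z hy hz => simp only [TensorProduct.tmul_add, map_add, hy, hz, smul_add]
    rw [this]
    simp
  | add y z hy hz => simp only [map_add, hy, hz]

omit [Module.FinitePresentation k M] [Module.Flat k A] in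
/-- L4. -/
lemma lid_rTensor_counit (x : A ⊗[k] Module.Dual k M) (m : M) :
    TensorProduct.lid k (Module.Dual k M)
        ((CoalgebraStruct.counit (R := k) (A := A)).rTensor (Module.Dual k M) x) m =
      CoalgebraStruct.counit (R := k)
        (dualTensorHom k M A (TensorProduct.comm k A (Module.Dual k M) x) m) := by
  induction x using TensorProduct.induction_on with
  | zero => simp
  | tmul a φ => simp [mul_comm]
  | add y z hy hz => simp only [map_add, LinearMap.add_apply, hy, hz]

omit [Module.FinitePresentation k M] [Module.Flat k A] in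
lemma counit_ldualFun (c : Comod k A M) (g : Module.Dual k M) (m : M) :
    CoalgebraStruct.counit (R := k) (ComodSub.ldualFun c g m) = g m := by
  have hu := LinearMap.congr_fun c.counit_comp m
  simp only [LinearMap.comp_apply, LinearMap.flip_apply, TensorProduct.mk_apply] at hu
  have key : ∀ w : M ⊗[k] A, CoalgebraStruct.counit (R := k)
      (TensorProduct.lid k A (g.rTensor A w)) =
        g (TensorProduct.rid k M ((CoalgebraStruct.counit (R := k) (A := A)).lTensor M w)) := by
    intro w
    induction w using TensorProduct.induction_on with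
    | zero => simp
    | tmul u a => simp [mul_comm]
    | add y z hy hz => simp only [map_add, hy, hz]
  rw [ComodSub.ldualFun_apply, key, hu]
  simp

/-- The left dual comodule of a finitely presented right comodule over a flat coalgebra. -/
noncomputable def ldualComod (c : Comod k A M) : ComodSub.LComod k A (Module.Dual k M) where
  coact := ldualCoact c
  coassoc := by
    apply LinearMap.ext
    intro g
    apply read₂_injective
    apply LinearMap.ext
    intro m
    simp only [LinearMap.comp_apply, LinearEquiv.coe_coe]
    rw [read₂_lTensor_ldualCoact, read₂_assoc_rTensor_comul, dualTensorHom_comm_ldualCoact,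
      ldualFun_rTensor_coact]
  counit_comp := by
    apply LinearMap.ext
    intro g
    apply (TensorProduct.lid k (Module.Dual k M)).injective
    apply LinearMap.ext
    intro m
    simp only [LinearMap.comp_apply, TensorProduct.mk_apply]
    rw [lid_rTensor_counit, dualTensorHom_comm_ldualCoact, counit_ldualFun]
    simp

theorem isLDual_ldualComod (c : Comod k A M) : ComodSub.LComod.IsLDual c (ldualComod c) :=
  fun g => dualTensorHom_comm_ldualCoact c g

end LDual

end Groth.Agent.Lib.Helper7.Comod
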