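import Groth.Agent.Lib.Helper7.Comod
import Groth.Agent.Lib.Helper7.AtomsCompl
import Mathlib.Order.CompleteSublattice
import Mathlib.Order.CompactlyGenerated.Basic
import Mathlib.LinearAlgebra.Span.Basic
import Mathlib.RingTheory.Finiteness.Basic

/-!
# The lattice of subcomodules (over a field) — helper7 toolbox
-/

universe u v w w'

open TensorProduct

namespace Groth.Agent.Lib.Helper7.Comod

open HopfRep

section Coord

variable {k : Type u} {C : Type v} [Field k] [AddCommGroup C] [Module k C]
variable {V : Type w} [AddCommGroup V] [Module k V]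

/-- The `i`-th left coefficient of `x : V ⊗ C` with respect to a basis of `C`. -/
noncomputable def coordR {ι : Type*} (b : Module.Basis ι k C) (i : ι) : V ⊗[k] C →ₗ[k] V :=
  (TensorProduct.rid k V).toLinearMap ∘ₗ LinearMap.lTensor V (b.coord i)

lemma coordR_tmul {ι : Type*} (b : Module.Basis ι k C) (i : ι) (v : V) (c : C) :
    coordR b i (v ⊗ₜ[k] c) = b.repr c i • v := by
  simp [coordR]

lemma coordR_rTensor {ι : Type*} (b : Module.Basis ι k C) (i : ι) {U : Type*} [AddCommGroup U]
    [Module k U] (f : U →ₗ[k] V) (y : U ⊗[k] C) :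
    coordR b i (f.rTensor C y) = f (coordR b i y) := by
  induction y using TensorProduct.induction_on with
  | zero => simp
  | tmul u c => simp [coordR_tmul]
  | add x y hx hy => simp only [map_add, hx, hy]

lemma sum_coordR_tmul {ι : Type*} (b : Module.Basis ι k C) (x : V ⊗[k] C) :
    ∃ s : Finset ι, x = ∑ i ∈ s, coordR b i x ⊗ₜ[k] b i := by
  classical
  refine ⟨(TensorProduct.equivFinsuppOfBasisRight b x).support, ?_⟩
  have h := (TensorProduct.equivFinsuppOfBasisRight b).symm_apply_apply x
  rw [TensorProduct.equivFinsuppOfBasisRight_symm_apply, Finsupp.sum] at h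
  conv_lhs => rw [← h]
  refine Finset.sum_congr rfl fun i _ => ?_
  rw [TensorProduct.equivFinsuppOfBasisRight_apply]
  rfl

/-- Membership in `W ⊗ C ⊆ V ⊗ C` is tested on coefficients. -/
lemma mem_range_rTensor_iff {ι : Type*} (b : Module.Basis ι k C) (W : Submodule k V)
    (x : V ⊗[k] C) :
    x ∈ LinearMap.range (W.subtype.rTensor C) ↔ ∀ i, coordR b i x ∈ W := by
  constructor
  · rintro ⟨y, rfl⟩ i
    rw [coordR_rTensor]
    exact (coordR b i y).2
  · intro h
    obtain ⟨s, hs⟩ := sum_coordR_tmul b x
    rw [hs]
    exact Submodule.sum_mem _ fun i _ => tmul_mem_range_rTensor (h i) _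

end Coord

section Inf

variable {k : Type u} {C : Type v} [Field k] [AddCommGroup C] [Module k C] [Coalgebra k C]
variable {V : Type w} [AddCommGroup V] [Module k V] [Comod k C V]

lemma isSubcomod_sInf {S : Set (Submodule k V)}
    (h : ∀ W ∈ S, IsSubcomod (k := k) (A := C) W) : IsSubcomod (k := k) (A := C) (sInf S) := by
  intro w hw
  let b := Module.Basis.ofVectorSpace k C
  rw [mem_range_rTensor_iff b]
  intro i
  rw [Submodule.mem_sInf]
  intro W hW
  exact (mem_range_rTensor_iff b W _).1 (h W hW w ((Submodule.mem_sInf.1 hw) W hW)) i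

lemma isSubcomod_inf {W W' : Submodule k V} (h : IsSubcomod (k := k) (A := C) W)
    (h' : IsSubcomod (k := k) (A := C) W') : IsSubcomod (k := k) (A := C) (W ⊓ W') := by
  rw [← sInf_pair]
  apply isSubcomod_sInf
  rintro U (rfl | rfl) <;> assumption

lemma isSubcomod_iInf {ι : Sort*} {W : ι → Submodule k V}
    (h : ∀ i, IsSubcomod (k := k) (A := C) (W i)) : IsSubcomod (k := k) (A := C) (⨅ i, W i) := by
  apply isSubcomod_sInf
  rintro _ ⟨i, rfl⟩
  exact h i

variable (k C V) in
/-- The complete lattice of subcomodules, as a complete sublattice of the lattice of subspaces. -/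
def subcomodLattice : CompleteSublattice (Submodule k V) :=
  CompleteSublattice.mk' {W | IsSubcomod (k := k) (A := C) W}
    (fun _ hs => isSubcomod_sSup fun W hW => hs hW)
    (fun _ hs => isSubcomod_sInf fun W hW => hs hW)

lemma mem_subcomodLattice {W : Submodule k V} :
    W ∈ subcomodLattice k C V ↔ IsSubcomod (k := k) (A := C) W := Iff.rfl

end Inf

section Instances

/-- A complete sublattice of a modular lattice is modular. -/
instance isModularLattice_completeSublattice {α : Type*} [CompleteLattice α] [IsModularLattice α]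
    (L : CompleteSublattice α) : IsModularLattice L :=
  ⟨fun {x} y {z} hxz =>
    IsModularLattice.sup_inf_le_assoc_of_le (x := (x : α)) (y : α) (z := (z : α)) hxz⟩

variable {k : Type u} {C : Type v} [Field k] [AddCommGroup C] [Module k C] [Coalgebra k C]
variable {V : Type w} [AddCommGroup V] [Module k V] [Comod k C V]

lemma isCompactElement_of_fg (y : subcomodLattice k C V) (hy : (y : Submodule k V).FG) :
    IsCompactElement y := by
  rw [CompleteLattice.isCompactElement_iff_le_of_directed_sSup_le]
  intro s hs hdir hle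
  have hc : IsCompactElement (y : Submodule k V) := (Submodule.fg_iff_compact _).1 hy
  rw [CompleteLattice.isCompactElement_iff_le_of_directed_sSup_le] at hc
  have hdir' : DirectedOn (· ≤ ·) (((↑) : subcomodLattice k C V → Submodule k V) '' s) := by
    rintro _ ⟨a, ha, rfl⟩ _ ⟨b, hb, rfl⟩
    obtain ⟨c, hc, hac, hbc⟩ := hdir a ha b hb
    exact ⟨c, ⟨c, hc, rfl⟩, hac, hbc⟩
  have hle' : (y : Submodule k V) ≤ sSup (((↑) : subcomodLattice k C V → Submodule k V) '' s) := by
    have : ((sSup s : subcomodLattice k C V) : Submodule k V) = sSup ((↑) '' s) := by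
      rw [CompleteSublattice.coe_sSup]
      congr 1
    rw [← this]
    exact hle
  obtain ⟨x, ⟨t, ht, rfl⟩, hx⟩ := hc _ (hs.image _) hdir' hle'
  exact ⟨t, ht, hx⟩

instance isCompactlyGenerated_subcomodLattice : IsCompactlyGenerated (subcomodLattice k C V) := by
  refine ⟨fun x => ⟨{y | (y : Submodule k V).FG ∧ y ≤ x}, fun y hy => isCompactElement_of_fg y hy.1,
    le_antisymm (sSup_le fun y hy => hy.2) ?_⟩⟩
  intro w hw
  obtain ⟨U, hUfin, hwU, hU⟩ := exists_finite_subcomod_mem (k := k) (C := C) (V := V) w
  have hUx : IsSubcomod (k := k) (A := C) (U ⊓ (x : Submodule k V)) := isSubcomod_inf hU x.2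
  let y : subcomodLattice k C V := ⟨U ⊓ x, hUx⟩
  have hyfg : (y : Submodule k V).FG := by
    have : Module.Finite k U := hUfin
    have h2 : Module.Finite k (U ⊓ (x : Submodule k V) : Submodule k V) :=
      Submodule.finiteDimensional_inf_left U _
    exact Module.Finite.iff_fg.1 h2
  have hy : y ∈ {y : subcomodLattice k C V | (y : Submodule k V).FG ∧ y ≤ x} :=
    ⟨hyfg, (inf_le_right : U ⊓ (x : Submodule k V) ≤ x)⟩
  have : y ≤ sSup {y : subcomodLattice k C V | (y : Submodule k V).FG ∧ y ≤ x} := le_sSup hy
  exact this ⟨hwU, hw⟩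

end Instances

section Semisimple

variable {k : Type u} {C : Type v} [Field k] [AddCommGroup C] [Module k C] [Coalgebra k C]
variable {V : Type w} [AddCommGroup V] [Module k V] [Comod k C V]

variable (k C) in
/-- `W` is a simple subcomodule of `V`. -/
def IsSimpleSub (W : Submodule k V) : Prop :=
  IsSubcomod (k := k) (A := C) W ∧ W ≠ ⊥ ∧
    ∀ W' : Submodule k V, IsSubcomod (k := k) (A := C) W' → W' ≤ W → W' = ⊥ ∨ W' = W

lemma isSemisimpleComod_iff_complementedLattice :
    IsSemisimpleComod k C V ↔ ComplementedLattice (subcomodLattice k C V) := by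
  rw [CompleteSublattice.isComplemented_iff]
  constructor
  · intro h a ha
    obtain ⟨b, hb, hab⟩ := h a ha
    exact ⟨b, hb, hab⟩
  · intro h W hW
    obtain ⟨b, hb, hab⟩ := h W hW
    exact ⟨b, hb, hab⟩

lemma isAtom_iff (x : subcomodLattice k C V) : IsAtom x ↔ IsSimpleSub k C (x : Submodule k V) := by
  constructor
  · rintro ⟨hne, hlt⟩
    refine ⟨x.2, fun h => hne (Subtype.ext h), fun W' hW' hle => ?_⟩
    by_cases heq : W' = x
    · exact Or.inr heq
    · left
      have hlt' : (⟨W', hW'⟩ : subcomodLattice k C V) < x :=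
        lt_of_le_of_ne hle fun h => heq (congrArg Subtype.val h)
      exact congrArg Subtype.val (hlt _ hlt')
  · rintro ⟨_, hne, hs⟩
    refine ⟨fun h => hne (congrArg Subtype.val h), fun b hb => ?_⟩
    rcases hs b b.2 hb.le with h | h
    · exact Subtype.ext h
    · exact absurd (Subtype.ext h) hb.ne

/-- S18818 : a semisimple comodule is the sum of its simple subcomodules. -/
theorem iSup_simple_eq_top_of_isSemisimpleComod (hV : IsSemisimpleComod k C V) :
    (⨆ W : {W : Submodule k V // IsSimpleSub k C W}, (W.1 : Submodule k V)) = ⊤ := by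
  have := isSemisimpleComod_iff_complementedLattice.1 hV
  have h := sSup_atoms_eq_top (α := subcomodLattice k C V)
  have h2 := congrArg (Subtype.val) h
  rw [CompleteSublattice.coe_sSup, CompleteSublattice.coe_top] at h2
  rw [eq_top_iff, ← h2]
  apply sSup_le
  rintro _ ⟨a, ha, rfl⟩
  exact le_iSup (fun W : {W : Submodule k V // IsSimpleSub k C W} => (W.1 : Submodule k V))
    ⟨a, (isAtom_iff a).1 ha⟩

/-- If `V` is a sum of simple subcomodules then it is semisimple. -/
theorem isSemisimpleComod_of_iSup_simple_eq_top {ι : Sort*} (S : ι → Submodule k V)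
    (hS : ∀ i, IsSimpleSub k C (S i)) (hsum : ⨆ i, S i = ⊤) : IsSemisimpleComod k C V := by
  rw [isSemisimpleComod_iff_complementedLattice]
  apply complementedLattice_of_sSup_atoms_eq_top
  rw [eq_top_iff]
  have : (⊤ : subcomodLattice k C V) = ⨆ i, (⟨S i, (hS i).1⟩ : subcomodLattice k C V) := by
    apply Subtype.ext
    rw [CompleteSublattice.coe_iSup, CompleteSublattice.coe_top, ← hsum]
  rw [this]
  apply iSup_le
  intro i
  exact le_sSup ((isAtom_iff _).2 (hS i))

/-- S7972: complements by subfamilies of a family of simple subcomodules summing to `V`. -/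
theorem exists_isCompl_iSup_of_sum_simple {ι : Type*} (S : ι → Submodule k V)
    (hS : ∀ i, IsSimpleSub k C (S i)) (hsum : ⨆ i, S i = ⊤) (W : Submodule k V)
    (hW : IsSubcomod (k := k) (A := C) W) :
    ∃ J : Set ι, iSupIndep (fun j : J => S j) ∧ IsCompl W (⨆ j : J, S j) := by
  classical
  let L := subcomodLattice k C V
  let S' : ι → L := fun i => ⟨S i, (hS i).1⟩
  have hT : ∀ a ∈ Set.range S', IsAtom a := by
    rintro _ ⟨i, rfl⟩
    exact (isAtom_iff _).2 (hS i)
  have htop : sSup (Set.range S') = ⊤ := by
    apply Subtype.ext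
    rw [sSup_range, CompleteSublattice.coe_iSup, CompleteSublattice.coe_top, ← hsum]
  obtain ⟨s, hsT, hind, hcompl⟩ :=
    AtomsCompl.exists_subset_sSupIndep_isCompl (Set.range S') hT htop ⟨W, hW⟩
  -- choose one index for each element of `s`
  choose idx hidx using fun a : s => hsT a.2
  let J : Set ι := Set.range idx
  have hinj : Function.Injective idx := by
    intro a b hab
    apply Subtype.ext
    rw [← hidx a, ← hidx b, hab]
  let e : s ≃ J := Equiv.ofInjective idx hinj
  have hSe : ∀ j : J, S' j = (e.symm j : L) := by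
    rintro ⟨_, a, rfl⟩
    have : e.symm ⟨idx a, a, rfl⟩ = a := by
      apply e.injective
      rw [Equiv.apply_symm_apply]
      rfl
    rw [this, hidx a]
  -- independence in `L`
  have hindL : iSupIndep (fun j : J => S' j) := by
    have h1 : iSupIndep (fun a : s => (a : L)) := (sSupIndep_iff s).1 hind
    have h2 := h1.comp (f := e.symm) e.symm.injective
    convert h2 using 1
    funext j
    exact hSe j
  have hsup : (⨆ j : J, S' j) = sSup s := by
    rw [sSup_eq_iSup']
    apply le_antisymm
    · apply iSup_le
      intro j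
      rw [hSe j]
      exact le_iSup (fun a : s => (a : L)) (e.symm j)
    · apply iSup_le
      intro a
      have := hSe (e a)
      rw [Equiv.symm_apply_apply] at this
      rw [← this]
      exact le_iSup (fun j : J => S' j) (e a)
  refine ⟨J, ?_, ?_⟩
  · -- transfer independence to `Submodule k V`
    intro j
    have := hindL j
    rw [CompleteSublattice.disjoint_iff] at this
    convert this using 1
    rw [CompleteSublattice.coe_iSup]
    congr 1
    funext j'
    rw [CompleteSublattice.coe_iSup]
  · have h3 := (CompleteSublattice.isCompl_iff (L := L) (a := ⟨W, hW⟩) (b := sSup s)).1 hcompl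
    rw [← hsup, CompleteSublattice.coe_iSup] at h3
    exact h3

end Semisimple

end Groth.Agent.Lib.Helper7.Comod
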