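import Groth.Agent.Lib.Helper7.Unitarian
import Groth.Agent.Lib.Helper7.ComodIsotypic

/-!
# Subquotients of copies of a single comodule; retracts in the semisimple case (helper7)
-/

universe u v w w'

open TensorProduct

namespace Groth.Agent.Lib.Helper7.Retract

open HopfRep ComodTens Groth.Agent.Lib.Helper7.Comod Groth.Agent.Lib.Helper7.Subquot

section Single

variable {k : Type u} [Field k] {A : Type u} [CommRing A] [Bialgebra k A]
variable {X : Type u} [AddCommGroup X] [Module k X] (cX : Comod k A X)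
variable {W : Type u} [AddCommGroup W] [Module k W] [Module.Finite k W] (σ : Comod k A W)

/-- If the coefficient space of `W` lies in that of `X`, then `W` is a subquotient of a finite
direct sum of copies of `X`. -/
theorem exists_subquotient_of_cf_le (h : cf σ ≤ cf cX) :
    ∃ (b : ℕ) (E' : Submodule k (Fin b → X))
      (τ : E' →ₗ[k] E' ⊗[k] A) (q : E' →ₗ[k] W),
      Function.Surjective q ∧
      (E'.subtype.rTensor A) ∘ₗ τ =
        (Comod.pi fun _ : Fin b => cX).coact ∘ₗ E'.subtype ∧
      (q.rTensor A) ∘ₗ τ = σ.coact ∘ₗ q := by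
  classical
  set r := Module.finrank k W with hr
  let bW := Module.finBasis k W
  let cY : Comod k A (Fin r → A) := Comod.pi (fun _ : Fin r => Comod.regular k A)
  let fι : Fin r → W →ₗ[k] A := fun s => contrL A (bW.coord s) ∘ₗ σ.coact
  let ι : W →ₗ[k] (Fin r → A) := LinearMap.pi fι
  have hι : IsHom σ cY ι := isHom_pi σ _ fι (fun s => isHom_contrL_coact σ _)
  have hιinj : Function.Injective ι := by
    rw [← LinearMap.ker_eq_bot, LinearMap.ker_eq_bot']
    intro w hw
    apply bW.ext_elem
    intro s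
    have h1 : Coalgebra.counit (R := k) (ι w s) = bW.repr w s :=
      @counit_coeffMap k _ A _ _ _ W _ _ σ (bW.coord s) w
    rw [hw] at h1
    simpa using h1.symm
  let Idx := {g : X →ₗ[k] (Fin r → A) // IsHom cX cY g}
  let S : Idx → Submodule k (Fin r → A) := fun p => LinearMap.range p.1
  have hGen : LinearMap.range ι ≤ ⨆ p, S p := by
    rintro _ ⟨w, rfl⟩
    have hy : ι w = ∑ s, LinearMap.single k (fun _ : Fin r => A) s (ι w s) := by
      ext j
      simp [Finset.sum_apply, Pi.single_apply]
    rw [hy]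
    refine Submodule.sum_mem _ (fun s _ => ?_)
    have hsub : cf cX ≤ (⨆ p, S p).comap (LinearMap.single k (fun _ : Fin r => A) s) := by
      unfold cf coeffSpace
      apply iSup_le
      rintro φ _ ⟨t, rfl⟩
      rw [Submodule.mem_comap]
      let g : X →ₗ[k] (Fin r → A) :=
        LinearMap.single k (fun _ : Fin r => A) s ∘ₗ (contrL A φ ∘ₗ cX.coact)
      have hg : IsHom cX cY g :=
        isHom_comp (isHom_contrL_coact _ φ) (isHom_single _ s)
      exact (le_iSup S ⟨g, hg⟩) ⟨t, rfl⟩
    have hmem : ι w s ∈ cf σ := contrL_coact_mem σ (bW.coord s) w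
    exact hsub (h hmem)
  have hfg : (LinearMap.range ι).FG := by
    rw [LinearMap.range_eq_map]
    exact Submodule.FG.map _ (Module.finite_def.1 inferInstance)
  have hcpt := (Submodule.fg_iff_compact _).1 hfg
  obtain ⟨t, ht⟩ := (CompleteLattice.isCompactElement_iff_exists_le_iSup_of_le_iSup _).1 hcpt Idx S
    hGen
  let e : t ≃ Fin t.card := t.equivFin
  let g : ∀ i : Fin t.card, X →ₗ[k] (Fin r → A) := fun i => (e.symm i).1.1
  have hg : ∀ i, IsHom cX cY (g i) := fun i => (e.symm i).1.2
  let cT : Comod k A (Fin t.card → X) := Comod.pi (fun _ : Fin t.card => cX)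
  let G : (Fin t.card → X) →ₗ[k] (Fin r → A) := ∑ i, g i ∘ₗ LinearMap.proj i
  have hG : IsHom cT cY G := isHom_sum_proj _ cY g hg
  have hrange : LinearMap.range ι ≤ LinearMap.range G := by
    refine ht.trans (Finset.sup_le ?_)
    intro p hp
    have h1 : S p = LinearMap.range (g (e ⟨p, hp⟩)) := by
      change S p = S (e.symm (e ⟨p, hp⟩)).1
      rw [e.symm_apply_apply]
    rw [h1]
    exact range_le_range_sum_proj g _
  let E' : Submodule k (Fin t.card → X) := (LinearMap.range ι).comap G
  have hRι : @IsSubcomod k A _ _ _ _ _ _ _ cY (LinearMap.range ι) := by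
    letI := σ
    letI := cY
    exact isSubcomod_range (k := k) (A := A) hι
  have hE' : @IsSubcomod k A _ _ _ _ _ _ _ cT E' := by
    letI := cT
    letI := cY
    exact isSubcomod_comap (k := k) (C := A) hG hRι
  let cE' : Comod k A E' := ComodSub.Comod.restr cT E' hE'
  have hτ : ∀ x : E', E'.subtype.rTensor A (cE'.coact x) = cT.coact (x : _) :=
    fun x => ComodSub.restr_coact_coe cT E' hE' x
  let ιe : W ≃ₗ[k] LinearMap.range ι := LinearEquiv.ofInjective ι hιinj
  let q : E' →ₗ[k] W := (ιe.symm : LinearMap.range ι →ₗ[k] W) ∘ₗ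
    (G ∘ₗ E'.subtype).codRestrict (LinearMap.range ι) (fun x => x.2)
  have hιq : ι ∘ₗ q = G ∘ₗ E'.subtype := by
    apply LinearMap.ext
    intro x
    change ι (ιe.symm _) = _
    have := LinearEquiv.apply_symm_apply ιe
      ((G ∘ₗ E'.subtype).codRestrict (LinearMap.range ι) (fun x => x.2) x)
    exact congrArg Subtype.val this
  refine ⟨t.card, E', cE'.coact, q, ?_, ?_, ?_⟩
  · intro w
    obtain ⟨f, hf⟩ := hrange ⟨w, rfl⟩
    have hfE : f ∈ E' := by
      change G f ∈ LinearMap.range ι
      rw [hf]; exact ⟨w, rfl⟩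
    refine ⟨⟨f, hfE⟩, ?_⟩
    apply hιinj
    have := LinearMap.congr_fun hιq ⟨f, hfE⟩
    rw [LinearMap.comp_apply] at this
    rw [this]
    exact hf
  · apply LinearMap.ext
    intro x
    exact hτ x
  · apply LinearMap.ext
    intro x
    have hinj : Function.Injective (ι.rTensor A) :=
      Module.Flat.rTensor_preserves_injective_linearMap ι hιinj
    apply hinj
    rw [LinearMap.comp_apply, LinearMap.comp_apply, ← LinearMap.comp_apply (ι.rTensor A),
      ← LinearMap.rTensor_comp, hιq, LinearMap.rTensor_comp, LinearMap.comp_apply, hτ x]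
    have h1 : cY.coact (G (x : _)) = G.rTensor A (cT.coact (x : _)) :=
      LinearMap.congr_fun hG (x : _)
    have h2 : cY.coact (ι (q x)) = ι.rTensor A (σ.coact (q x)) := LinearMap.congr_fun hι (q x)
    rw [← h1, ← h2]
    congr 1
    exact (LinearMap.congr_fun hιq x).symm

end Single

section Retr

variable {k : Type u} [Field k] {A : Type v} [CommRing A] [Bialgebra k A]
variable {U : Type w} [AddCommGroup U] [Module k U] {W : Type w'} [AddCommGroup W] [Module k W]

/-- a subquotient of a semisimple comodule is a retract of it. -/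
theorem exists_retract_of_subquotient (cU : Comod k A U) (σ : Comod k A W)
    (hU : @IsSemisimpleComod k A _ _ _ _ U _ _ cU)
    (E' : Submodule k U) (τ' : E' →ₗ[k] E' ⊗[k] A) (q : E' →ₗ[k] W)
    (hq : Function.Surjective q)
    (h1 : (E'.subtype.rTensor A) ∘ₗ τ' = cU.coact ∘ₗ E'.subtype)
    (h2 : (q.rTensor A) ∘ₗ τ' = σ.coact ∘ₗ q) :
    ∃ (i : W →ₗ[k] U) (p : U →ₗ[k] W), p ∘ₗ i = LinearMap.id ∧ IsHom σ cU i ∧ IsHom cU σ p := by
  have hinj : Function.Injective (E'.subtype.rTensor A) :=
    Module.Flat.rTensor_preserves_injective_linearMap _ (Submodule.injective_subtype E')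
  have hE' : @IsSubcomod k A _ _ _ _ U _ _ cU E' := by
    intro x hx
    exact ⟨τ' ⟨x, hx⟩, LinearMap.congr_fun h1 ⟨x, hx⟩⟩
  obtain ⟨E'', hE'', hc⟩ := hU E' hE'
  let pr : U →ₗ[k] E' := Submodule.projectionOnto E' E'' hc
  have hP : cU.coact ∘ₗ (E'.subtype ∘ₗ pr) = (E'.subtype ∘ₗ pr).rTensor A ∘ₗ cU.coact := by
    letI := cU
    exact isComodHom_proj (k := k) (C := A) hE' hE'' hc
  -- the kernel
  let K : Submodule k U := (LinearMap.ker q).map E'.subtype
  have hK : @IsSubcomod k A _ _ _ _ U _ _ cU K := by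
    rintro _ ⟨x, hx, rfl⟩
    letI := cU
    rw [mem_range_rTensor_iff_contr]
    intro f
    have e1 : cU.coact (E'.subtype x) = E'.subtype.rTensor A (τ' x) :=
      (LinearMap.congr_fun h1 x).symm
    change contr U f (cU.coact (E'.subtype x)) ∈ K
    rw [e1, contr_rTensor]
    refine ⟨contr E' f (τ' x), ?_, rfl⟩
    have hx' : q x = 0 := hx
    change q (contr E' f (τ' x)) = 0
    rw [← contr_rTensor]
    have e2 : q.rTensor A (τ' x) = σ.coact (q x) := LinearMap.congr_fun h2 x
    rw [e2, hx', map_zero, map_zero]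
  obtain ⟨K', hK', hcK⟩ := hU K hK
  let Q : U →ₗ[k] U := K'.subtype ∘ₗ Submodule.projectionOnto K' K hcK.symm
  have hQ : cU.coact ∘ₗ Q = Q.rTensor A ∘ₗ cU.coact := by
    letI := cU
    exact isComodHom_proj (k := k) (C := A) hK' hK hcK.symm
  have hQK : ∀ x ∈ K, Q x = 0 := by
    intro x hx
    change ((Submodule.projectionOnto K' K hcK.symm x : K') : U) = 0
    rw [Submodule.projectionOnto_apply_of_mem_right hcK.symm hx]
    rfl
  have hQsub : ∀ x : U, x - Q x ∈ K := by
    intro x
    have h3 := Submodule.projection_eq_self_sub_projection hcK.symm x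
    change K.projection K' hcK.symm.symm x = x - Q x at h3
    rw [← h3]
    exact (K.projectionOnto K' hcK.symm.symm x).2
  obtain ⟨s, hs⟩ := LinearMap.exists_rightInverse_of_surjective q (LinearMap.range_eq_top.2 hq)
  have hs' : ∀ w, q (s w) = w := fun w => LinearMap.congr_fun hs w
  let i : W →ₗ[k] U := Q ∘ₗ E'.subtype ∘ₗ s
  let p : U →ₗ[k] W := q ∘ₗ pr
  -- `i ∘ q = Q ∘ subtype`
  have hiq : ∀ x : E', i (q x) = Q (x : U) := by
    intro x
    change Q ((s (q x) : E') : U) = Q (x : U)
    rw [← sub_eq_zero, ← map_sub]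
    apply hQK
    refine ⟨s (q x) - x, ?_, by simp⟩
    change q (s (q x) - x) = 0
    rw [map_sub, hs', sub_self]
  -- `τ' ∘ pr = (pr ⊗ id) ∘ coact`
  have hpr : ∀ u : U, τ' (pr u) = pr.rTensor A (cU.coact u) := by
    intro u
    apply hinj
    rw [← LinearMap.comp_apply (E'.subtype.rTensor A) τ', h1, ← LinearMap.comp_apply _ pr,
      ← LinearMap.comp_apply (E'.subtype.rTensor A), ← LinearMap.rTensor_comp]
    exact LinearMap.congr_fun hP u
  refine ⟨i, p, ?_, ?_, ?_⟩
  · apply LinearMap.ext
    intro w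
    obtain ⟨_, ⟨k', hk', rfl⟩, hkk⟩ : ∃ y ∈ K, y = ((s w : E') : U) - Q (s w : U) :=
      ⟨_, hQsub _, rfl⟩
    have hk0 : q k' = 0 := hk'
    have hQx : Q ((s w : E') : U) = ((s w - k' : E') : U) := by
      rw [Submodule.coe_sub, show (k' : U) = E'.subtype k' from rfl, hkk]
      abel
    change q (pr (Q ((s w : E') : U))) = w
    rw [hQx]
    change q (Submodule.projectionOnto E' E'' hc ((s w - k' : E') : U)) = w
    rw [Submodule.projectionOnto_apply_left, map_sub, hs', hk0, sub_zero]
  · -- `i` is a morphism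
    apply LinearMap.ext
    intro w
    obtain ⟨x, rfl⟩ := hq w
    change cU.coact (i (q x)) = i.rTensor A (σ.coact (q x))
    rw [hiq]
    have e2 : σ.coact (q x) = q.rTensor A (τ' x) := (LinearMap.congr_fun h2 x).symm
    have e3 : i ∘ₗ q = Q ∘ₗ E'.subtype := LinearMap.ext hiq
    have e4 : E'.subtype.rTensor A (τ' x) = cU.coact (x : U) := LinearMap.congr_fun h1 x
    have e5 : (i.rTensor A) ((q.rTensor A) (τ' x)) =
        Q.rTensor A (E'.subtype.rTensor A (τ' x)) := by
      rw [← LinearMap.comp_apply (i.rTensor A), ← LinearMap.rTensor_comp, e3,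
        LinearMap.rTensor_comp]
      rfl
    rw [e2, e5, e4]
    exact LinearMap.congr_fun hQ (x : U)
  · apply LinearMap.ext
    intro u
    change σ.coact (q (pr u)) = (q ∘ₗ pr).rTensor A (cU.coact u)
    have e2 : σ.coact (q (pr u)) = q.rTensor A (τ' (pr u)) :=
      (LinearMap.congr_fun h2 (pr u)).symm
    rw [e2, hpr, LinearMap.rTensor_comp, LinearMap.comp_apply]

end Retr

section TwistPi

variable {k : Type u} [Field k] {A : Type v} [CommRing A] [Bialgebra k A]

theorem comod_ext {V : Type w} [AddCommGroup V] [Module k V] {c d : Comod k A V}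
    (h : c.coact = d.coact) : c = d := by
  cases c
  cases d
  cases h
  rfl

variable {ι : Type} [Fintype ι] [DecidableEq ι] {X : ι → Type w} [∀ i, AddCommGroup (X i)]
  [∀ i, Module k (X i)]

theorem twist_pi (c : ∀ i, Comod k A (X i)) (g : A) (hg : IsGroupLikeElem k g) :
    Comod.twist (Comod.pi c) g hg = Comod.pi (fun i => Comod.twist (c i) g hg) := by
  apply comod_ext
  apply LinearMap.ext
  intro f
  rw [twist_coact, pi_coact, pi_coact, map_sum]
  apply Finset.sum_congr rfl
  intro i _
  rw [twist_coact]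
  generalize (c i).coact (f i) = y
  induction y using TensorProduct.induction_on with
  | zero => simp
  | add y z hy hz => simp only [map_add, hy, hz]
  | tmul x a => simp

end TwistPi

end Groth.Agent.Lib.Helper7.Retract
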