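import Groth.Agent.Lib.Helper7.ComodLattice
import Groth.Prelude.Def_ComodSub

/-!
# Semisimple comodules: permanence (helper7 toolbox)
-/

universe u v v' w w' w''

open TensorProduct

namespace Groth.Agent.Lib.Helper7.Comod

open HopfRep

section Contr

variable {k : Type u} {C : Type v} [Field k] [AddCommGroup C] [Module k C]
variable {V : Type w} [AddCommGroup V] [Module k V]

/-- Contraction of the coalgebra factor against a functional: `V ⊗ C → V`. -/
noncomputable def contr (V : Type w) [AddCommGroup V] [Module k V] (f : C →ₗ[k] k) :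
    V ⊗[k] C →ₗ[k] V :=
  (TensorProduct.rid k V).toLinearMap ∘ₗ LinearMap.lTensor V f

@[simp] lemma contr_tmul (f : C →ₗ[k] k) (v : V) (c : C) : contr V f (v ⊗ₜ[k] c) = f c • v := by
  simp [contr]

lemma coordR_eq_contr {ι : Type*} (b : Module.Basis ι k C) (i : ι) :
    (coordR b i : V ⊗[k] C →ₗ[k] V) = contr V (b.coord i) := rfl

lemma contr_rTensor (f : C →ₗ[k] k) {U : Type*} [AddCommGroup U] [Module k U] (g : U →ₗ[k] V)
    (y : U ⊗[k] C) : contr V f (g.rTensor C y) = g (contr U f y) := by
  induction y using TensorProduct.induction_on with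
  | zero => simp
  | tmul u c => simp
  | add x y hx hy => simp only [map_add, hx, hy]

lemma contr_lTensor {D : Type*} [AddCommGroup D] [Module k D] (i : C →ₗ[k] D) (f : D →ₗ[k] k)
    (x : V ⊗[k] C) : contr V f (i.lTensor V x) = contr V (f ∘ₗ i) x := by
  induction x using TensorProduct.induction_on with
  | zero => simp
  | tmul u c => simp
  | add x y hx hy => simp only [map_add, hx, hy]

/-- Membership in `W ⊗ C ⊆ V ⊗ C` is tested by contracting against all functionals. -/
lemma mem_range_rTensor_iff_contr (W : Submodule k V) (x : V ⊗[k] C) :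
    x ∈ LinearMap.range (W.subtype.rTensor C) ↔ ∀ f : C →ₗ[k] k, contr V f x ∈ W := by
  constructor
  · rintro ⟨y, rfl⟩ f
    rw [contr_rTensor]
    exact (contr W f y).2
  · intro h
    exact (mem_range_rTensor_iff (Module.Basis.ofVectorSpace k C) W x).2 fun i => h _

/-- Over a field, a functional on a subspace (given through an injective map) extends. -/
lemma exists_comp_eq_of_injective {D : Type*} [AddCommGroup D] [Module k D] (i : C →ₗ[k] D)
    (hi : Function.Injective i) (f : C →ₗ[k] k) : ∃ g : D →ₗ[k] k, g ∘ₗ i = f := by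
  obtain ⟨r, hr⟩ := LinearMap.exists_leftInverse_of_injective i (LinearMap.ker_eq_bot.2 hi)
  exact ⟨f ∘ₗ r, by rw [LinearMap.comp_assoc, hr, LinearMap.comp_id]⟩

/-- `x ∈ V ⊗ C` lies in `W ⊗ C` as soon as its image in `V ⊗ D` lies in `W ⊗ D`, for `C → D`
injective. -/
lemma mem_range_rTensor_of_lTensor_mem {D : Type*} [AddCommGroup D] [Module k D] (i : C →ₗ[k] D)
    (hi : Function.Injective i) (W : Submodule k V) (x : V ⊗[k] C)
    (hx : i.lTensor V x ∈ LinearMap.range (W.subtype.rTensor D)) :
    x ∈ LinearMap.range (W.subtype.rTensor C) := by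
  rw [mem_range_rTensor_iff_contr]
  intro f
  obtain ⟨g, rfl⟩ := exists_comp_eq_of_injective i hi f
  rw [← contr_lTensor]
  exact (mem_range_rTensor_iff_contr W _).1 hx g

end Contr

section Comap

variable {k : Type u} {C : Type v} [Field k] [AddCommGroup C] [Module k C] [Coalgebra k C]
variable {V : Type w} [AddCommGroup V] [Module k V] [Comod k C V]
variable {U : Type w'} [AddCommGroup U] [Module k U] [Comod k C U]

/-- The preimage of a subcomodule under a comodule map is a subcomodule (over a field). -/
lemma isSubcomod_comap {f : V →ₗ[k] U} (hf : Hoch.IsComodHom C f) {N : Submodule k U}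
    (hN : IsSubcomod (k := k) (A := C) N) : IsSubcomod (k := k) (A := C) (N.comap f) := by
  intro v hv
  rw [mem_range_rTensor_iff_contr]
  intro g
  rw [Submodule.mem_comap, ← contr_rTensor, ← isComodHom_apply hf]
  exact (mem_range_rTensor_iff_contr N _).1 (hN _ hv) g

/-- A quotient (surjective image) of a semisimple comodule is semisimple. -/
theorem isSemisimpleComod_of_surjective {f : V →ₗ[k] U} (hf : Hoch.IsComodHom C f)
    (hsurj : Function.Surjective f) (hV : IsSemisimpleComod k C V) : IsSemisimpleComod k C U := by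
  intro N hN
  obtain ⟨M, hM, hNM⟩ := hV _ (isSubcomod_comap hf hN)
  refine ⟨M.map f, isSubcomod_map hf hM, ?_⟩
  constructor
  · rw [Submodule.disjoint_def]
    rintro _ hu ⟨m, hm, rfl⟩
    have : m ∈ N.comap f ⊓ M := ⟨hu, hm⟩
    rw [hNM.inf_eq_bot, Submodule.mem_bot] at this
    rw [this, map_zero]
  · rw [codisjoint_iff, eq_top_iff]
    intro u _
    obtain ⟨v, rfl⟩ := hsurj u
    have hv : v ∈ N.comap f ⊔ M := by rw [hNM.sup_eq_top]; trivial
    obtain ⟨a, ha, b, hb, rfl⟩ := Submodule.mem_sup.1 hv
    rw [map_add]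
    exact Submodule.add_mem_sup ha (Submodule.mem_map_of_mem hb)

/-- A subobject (injective preimage) of a semisimple comodule is semisimple. -/
theorem isSemisimpleComod_of_injective {f : U →ₗ[k] V} (hf : Hoch.IsComodHom C f)
    (hinj : Function.Injective f) (hV : IsSemisimpleComod k C V) : IsSemisimpleComod k C U := by
  intro N hN
  obtain ⟨M, hM, hNM⟩ := hV _ (isSubcomod_map hf hN)
  refine ⟨M.comap f, isSubcomod_comap hf hM, ?_⟩
  constructor
  · rw [Submodule.disjoint_def]
    intro u hu hu'
    have : f u ∈ N.map f ⊓ M := ⟨Submodule.mem_map_of_mem hu, hu'⟩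
    rw [hNM.inf_eq_bot, Submodule.mem_bot] at this
    exact hinj (by rw [this, map_zero])
  · rw [codisjoint_iff, eq_top_iff]
    intro u _
    have hv : f u ∈ N.map f ⊔ M := by rw [hNM.sup_eq_top]; trivial
    obtain ⟨_, ⟨n, hn, rfl⟩, b, hb, hab⟩ := Submodule.mem_sup.1 hv
    have : u = n + (u - n) := by abel
    rw [this]
    refine Submodule.add_mem_sup hn ?_
    rw [Submodule.mem_comap, map_sub, ← hab]
    simpa using hb

end Comap

end Groth.Agent.Lib.Helper7.Comod
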