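import Groth.Agent.Lib.Helper7.HopfIntegral

set_option autoImplicit false

universe u v w

open TensorProduct

namespace Groth.Agent.Lib.Helper7.ComodSplit

open HopfRep Groth.Agent.Lib.Helper7.Comod

variable {k : Type u} [CommRing k] {A : Type v} [CommRing A] [HopfAlgebra k A]
variable {V : Type w} [AddCommGroup V] [Module k V] [Comod k A V]

lemma contrR_tw_mem (α : A →ₗ[k] k) (g : A →ₗ[k] A) (W : Submodule k V)
    (hW : IsSubcomod (k := k) (A := A) W) (x : V ⊗[k] A)
    (hx : x ∈ LinearMap.range (W.subtype.rTensor A)) :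
    contrR V α (tw V g x) ∈ W := by
  obtain ⟨y, rfl⟩ := hx
  induction y using TensorProduct.induction_on with
  | zero => simp
  | tmul w a =>
    rw [LinearMap.rTensor_tmul, tw_tmul]
    obtain ⟨z, hz⟩ := hW w w.2
    change contrR V α (rmul V a (LinearMap.lTensor V g (Comod.coact (k := k) (A := A) (w : V)))) ∈ W
    rw [← hz]
    clear hz
    induction z using TensorProduct.induction_on with
    | zero => simp
    | tmul w' b =>
      rw [LinearMap.rTensor_tmul, LinearMap.lTensor_tmul, rmul_tmul, contrR_tmul]
      exact W.smul_mem _ w'.2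
    | add y z hy hz => simp only [map_add]; exact W.add_mem hy hz
  | add y z hy hz => simp only [map_add]; exact W.add_mem hy hz

/-- a total integral `A → k` splits every `k`-split subcomodule equivariantly. -/
theorem exists_isCompl_of_isTrivIntegral [Module.Flat k A] {α : A →ₗ[k] k}
    (hα : IsTrivIntegral k A α)
    (W : Submodule k V) (hW : IsSubcomod (k := k) (A := A) W)
    (hsplit : ∃ W' : Submodule k V, IsCompl W W') :
    ∃ W'' : Submodule k V, IsSubcomod (k := k) (A := A) W'' ∧ IsCompl W W'' := by
  obtain ⟨W', hc⟩ := hsplit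
  let p₀ : V →ₗ[k] W := Submodule.projectionOnto W W' hc
  let p : V →ₗ[k] V := W.subtype ∘ₗ p₀
  let r' : V ⊗[k] A →ₗ[k] V := contrR V α ∘ₗ tw V (HopfAlgebra.antipode k (A := A))
  let r'' : Hoch.Ind k A V →ₗ[k] V := r'
  have hr' : Hoch.IsComodHom A r'' := by
    rw [isComodHom_iff]
    intro x
    change Comod.coact (k := k) (A := A) (r' x) = r'.rTensor A
      ((TensorProduct.assoc k V A A).symm ((Coalgebra.comul (R := k) (A := A)).lTensor V x))
    obtain ⟨y, rfl⟩ : ∃ y, tw V LinearMap.id y = x :=
      ⟨tw V (HopfAlgebra.antipode k (A := A)) x, tw_id_tw_antipode x⟩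
    rw [ind_coact_tw, ← LinearMap.comp_apply (r'.rTensor A), ← LinearMap.rTensor_comp]
    have h1 : r' ∘ₗ tw V LinearMap.id = contrR V α := by
      apply LinearMap.ext
      intro z
      simp only [r', LinearMap.comp_apply, tw_antipode_tw_id]
    have h2 : r' (tw V LinearMap.id y) = contrR V α y := LinearMap.congr_fun h1 y
    rw [h1, h2, coact_contrR hα]
  have hr1 : ∀ v : V, r' (Comod.coact (k := k) (A := A) v) = v := by
    intro v
    simp only [r', LinearMap.comp_apply, tw_antipode_coact, contrR_tmul]
    rw [((isTrivIntegral_iff α).1 hα).2, one_smul]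
  let q : V →ₗ[k] V := r'' ∘ₗ ((Hoch.Ind.equiv k A V).toLinearMap ∘ₗ
    p.rTensor A ∘ₗ Comod.coact (k := k) (A := A))
  have hq : Hoch.IsComodHom A q := isComodHom_comp hr' (isComodHom_ind_of_linear p)
  have hqV : ∀ v : V, q v ∈ W := by
    intro v
    change r' (p.rTensor A (Comod.coact (k := k) (A := A) v)) ∈ W
    apply contrR_tw_mem α _ W hW
    refine ⟨p₀.rTensor A (Comod.coact (k := k) (A := A) v), ?_⟩
    rw [← LinearMap.comp_apply, ← LinearMap.rTensor_comp]
  have hqW : ∀ w : W, q (w : V) = w := by
    intro w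
    change r' (p.rTensor A (Comod.coact (k := k) (A := A) (w : V))) = w
    obtain ⟨z, hz⟩ := hW w w.2
    have : p.rTensor A (Comod.coact (k := k) (A := A) (w : V)) =
        Comod.coact (k := k) (A := A) (w : V) := by
      rw [← hz, ← LinearMap.comp_apply, ← LinearMap.rTensor_comp]
      congr 2
      apply LinearMap.ext
      intro w'
      change ((p₀ (w' : V) : W) : V) = w'
      exact congrArg Subtype.val (Submodule.projectionOnto_apply_left hc w')
    rw [this, hr1]
  let q' : V →ₗ[k] W := q.codRestrict W hqV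
  have hq'W : ∀ w : W, q' w = w := fun w => Subtype.ext (hqW w)
  refine ⟨LinearMap.ker q', ?_, LinearMap.isCompl_of_proj hq'W⟩
  have : LinearMap.ker q' = LinearMap.ker q := by
    ext v
    simp only [LinearMap.mem_ker, q']
    constructor
    · intro h
      exact congrArg Subtype.val h
    · intro h
      exact Subtype.ext h
  rw [this]
  exact isSubcomod_ker hq

end Groth.Agent.Lib.Helper7.ComodSplit
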