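import Groth.Agent.Lib.Helper7.ComodSubquot

/-!
# The stabilizer of a tensor product of subspaces (helper7)
-/

universe u v w w' x

open TensorProduct

namespace Groth.Agent.Lib.Helper7.StabTensor

open HopfRep ComodTens Groth.Agent.Lib.Helper7.Comod Groth.Agent.Lib.Helper7.Subquot

section Lin

variable {k : Type u} [Field k] {V : Type w} [AddCommGroup V] [Module k V]
  {N : Type x} [AddCommGroup N] [Module k N]

/-- Membership in `W ⊗ N ⊆ V ⊗ N` is tested by left contraction with functionals vanishing on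
`W`. -/
lemma mem_range_rTensor_iff_contrL (W : Submodule k V) (y : V ⊗[k] N) :
    y ∈ LinearMap.range (W.subtype.rTensor N) ↔
      ∀ φ : V →ₗ[k] k, W ≤ LinearMap.ker φ → contrL N φ y = 0 := by
  constructor
  · rintro ⟨z, rfl⟩ φ hφ
    rw [contrL_rTensor]
    have : φ ∘ₗ W.subtype = 0 := by
      apply LinearMap.ext
      intro w
      exact hφ w.2
    rw [this]
    induction z using TensorProduct.induction_on with
    | zero => simp
    | tmul w n => simp
    | add a b ha hb => simp only [map_add, ha, hb, add_zero]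
  · intro h
    obtain ⟨p, hp⟩ := W.subtype.exists_leftInverse_of_injective (Submodule.ker_subtype W)
    have hsub : ∀ (φ ψ : V →ₗ[k] k) (y : V ⊗[k] N),
        contrL N (φ - ψ) y = contrL N φ y - contrL N ψ y := by
      intro φ ψ y
      induction y using TensorProduct.induction_on with
      | zero => simp
      | tmul v n => simp [sub_smul]
      | add a b ha hb => simp only [map_add, ha, hb]; abel
    have hz : y - (W.subtype ∘ₗ p).rTensor N y = 0 := by
      apply eq_zero_of_forall_contrL_eq_zero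
      intro φ
      rw [map_sub, contrL_rTensor, sub_eq_zero]
      have h1 := h (φ - φ ∘ₗ (W.subtype ∘ₗ p)) (by
        intro w hw
        rw [LinearMap.mem_ker, LinearMap.sub_apply, LinearMap.comp_apply, LinearMap.comp_apply]
        have : p w = ⟨w, hw⟩ := LinearMap.congr_fun hp ⟨w, hw⟩
        rw [this, Submodule.subtype_apply, sub_self])
      rw [hsub, sub_eq_zero] at h1
      exact h1
    rw [sub_eq_zero] at hz
    rw [hz, LinearMap.rTensor_comp, LinearMap.comp_apply]
    exact ⟨_, rfl⟩

end Lin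

section Key

variable {k : Type u} [Field k] {A : Type v} [CommRing A] [HopfAlgebra k A]
  {R : Type x} [CommRing R] [Algebra k R] (g : A →ₐ[k] R)
variable {V : Type w} [AddCommGroup V] [Module k V] {V' : Type w'} [AddCommGroup V'] [Module k V']

/-- `(φ ⊗ id)((id ⊗ g) ρ v) = g (c_φ v)`. -/
lemma contrL_lTensor_coact (c : Comod k A V) (φ : V →ₗ[k] k) (v : V) :
    contrL R φ (LinearMap.lTensor V g.toLinearMap (c.coact v)) = g (contrL A φ (c.coact v)) :=
  contrL_lTensor φ g.toLinearMap (c.coact v)

lemma contrL_lTensor_tensor (c : Comod k A V) (c' : Comod k A V') (φ : V →ₗ[k] k)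
    (ψ : V' →ₗ[k] k) (v : V) (v' : V') :
    contrL R (LinearMap.mul' k k ∘ₗ TensorProduct.map φ ψ)
      (LinearMap.lTensor (V ⊗[k] V') g.toLinearMap ((Comod.tensor c c').coact (v ⊗ₜ[k] v'))) =
      contrL R φ (LinearMap.lTensor V g.toLinearMap (c.coact v)) *
        contrL R ψ (LinearMap.lTensor V' g.toLinearMap (c'.coact v')) := by
  rw [contrL_lTensor_coact, contrL_lTensor_coact, contrL_lTensor_coact, contrL_tensor, map_mul]

/-- If `r * g (c_ψ u) = 0` for all functionals `ψ` and `u ≠ 0` then `r = 0`. -/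
lemma eq_zero_of_forall_mul_eq_zero (c : Comod k A V) {u : V} (hu : u ≠ 0) (r : R)
    (h : ∀ ψ : V →ₗ[k] k, r * g (contrL A ψ (c.coact u)) = 0) : r = 0 := by
  -- a functional with `ψ₀ u = 1`
  obtain ⟨ψ₀, hψ₀⟩ : ∃ ψ₀ : V →ₗ[k] k, ψ₀ u = 1 := by
    obtain ⟨f, hf⟩ := Submodule.exists_le_ker_of_notMem (p := (⊥ : Submodule k V)) (v := u)
      (by simpa using hu)
    refine ⟨(f u)⁻¹ • f, ?_⟩
    rw [LinearMap.smul_apply, smul_eq_mul, inv_mul_cancel₀ hf.1]
  set a : A := contrL A ψ₀ (c.coact u) with ha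
  have hεa : Coalgebra.counit (R := k) a = 1 := by
    rw [ha, ← hψ₀]
    exact @counit_coeffMap k _ A _ _ _ V _ _ c ψ₀ u
  -- the space of right coefficients of `u`
  set D : Submodule k A := Submodule.span k
    (Set.range fun ψ : V →ₗ[k] k => contrL A ψ (c.coact u)) with hD
  have hDmem : ∀ ψ : V →ₗ[k] k, contrL A ψ (c.coact u) ∈ D :=
    fun ψ => Submodule.subset_span ⟨ψ, rfl⟩
  have hDr : ∀ d ∈ D, r * g d = 0 := by
    intro d hd
    refine Submodule.span_induction (p := fun d _ => r * g d = 0) ?_ ?_ ?_ ?_ hd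
    · rintro _ ⟨ψ, rfl⟩
      exact h ψ
    · simp
    · intro x y _ _ hx hy
      rw [map_add, mul_add, hx, hy, add_zero]
    · intro t x _ hx
      rw [map_smul, mul_smul_comm, hx, smul_zero]
  have hΔ : Coalgebra.comul (R := k) a ∈ LinearMap.range (D.subtype.lTensor A) := by
    have h1 : Coalgebra.comul (R := k) a =
        (contrL A ψ₀ ∘ₗ c.coact).rTensor A (c.coact u) :=
      @comul_coeffMap k _ A _ _ _ V _ _ c ψ₀ u
    have h2 : c.coact u ∈ LinearMap.range (D.subtype.lTensor V) :=
      (mem_range_lTensor_subtype_iff D _).2 hDmem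
    obtain ⟨z, hz⟩ := h2
    rw [h1, ← hz]
    refine ⟨(contrL A ψ₀ ∘ₗ c.coact).rTensor D z, ?_⟩
    rw [← LinearMap.comp_apply, ← LinearMap.comp_apply, LinearMap.lTensor_comp_rTensor,
      LinearMap.rTensor_comp_lTensor]
  -- the linear map `x ⊗ d ↦ g (S x) * (r * g d)`
  let Λ : A ⊗[k] A →ₗ[k] R := LinearMap.mul' k R ∘ₗ
    TensorProduct.map (g.toLinearMap ∘ₗ (HopfAlgebra.antipode k))
      (LinearMap.mulLeft k r ∘ₗ g.toLinearMap)
  have hΛ1 : ∀ z : A ⊗[k] A, Λ z =
      r * g (LinearMap.mul' k A ((HopfAlgebra.antipode k).rTensor A z)) := by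
    intro z
    induction z using TensorProduct.induction_on with
    | zero => simp
    | tmul x d =>
      simp only [Λ, LinearMap.comp_apply, TensorProduct.map_tmul, LinearMap.mul'_apply,
        AlgHom.toLinearMap_apply, LinearMap.mulLeft_apply, LinearMap.rTensor_tmul, map_mul]
      ring
    | add y z hy hz => simp only [map_add, hy, hz, mul_add]
  have hΛ0 : ∀ z ∈ LinearMap.range (D.subtype.lTensor A), Λ z = 0 := by
    rintro _ ⟨z, rfl⟩
    induction z using TensorProduct.induction_on with
    | zero => simp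
    | tmul x d =>
      simp only [Λ, LinearMap.comp_apply, LinearMap.lTensor_tmul, TensorProduct.map_tmul,
        LinearMap.mul'_apply, AlgHom.toLinearMap_apply, LinearMap.mulLeft_apply,
        Submodule.subtype_apply]
      rw [hDr _ d.2, mul_zero]
    | add y z hy hz => simp only [map_add, hy, hz, add_zero]
  have h3 := hΛ0 _ hΔ
  rw [hΛ1, HopfAlgebra.mul_antipode_rTensor_comul_apply, hεa, map_one, map_one, mul_one] at h3
  exact h3

end Key

section Mu

variable {k : Type u} [Field k] {R : Type x} [CommRing R] [Algebra k R]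
variable {V : Type w} [AddCommGroup V] [Module k V] {V' : Type w'} [AddCommGroup V'] [Module k V']
variable {U : Type w} [AddCommGroup U] [Module k U] {U' : Type w'} [AddCommGroup U'] [Module k U']

variable (R V V') in
/-- `(V ⊗ R) ⊗ (V' ⊗ R) → (V ⊗ V') ⊗ R`. -/
noncomputable def mu : (V ⊗[k] R) ⊗[k] (V' ⊗[k] R) →ₗ[k] (V ⊗[k] V') ⊗[k] R :=
  TensorProduct.map LinearMap.id (LinearMap.mul' k R) ∘ₗ
    (AlgebraTensorModule.tensorTensorTensorComm k k k k V R V' R).toLinearMap

@[simp] lemma mu_tmul (v : V) (r : R) (v' : V') (r' : R) :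
    mu R V V' ((v ⊗ₜ[k] r) ⊗ₜ[k] (v' ⊗ₜ[k] r')) = (v ⊗ₜ[k] v') ⊗ₜ[k] (r * r') := by
  simp [mu]

lemma mu_natural (f : U →ₗ[k] V) (f' : U' →ₗ[k] V') (y : U ⊗[k] R) (y' : U' ⊗[k] R) :
    mu R V V' ((f.rTensor R y) ⊗ₜ[k] (f'.rTensor R y')) =
      (TensorProduct.map f f').rTensor R (mu R U U' (y ⊗ₜ[k] y')) := by
  induction y using TensorProduct.induction_on with
  | zero => simp
  | add a b ha hb => simp only [map_add, TensorProduct.add_tmul, ha, hb]
  | tmul u r =>
    induction y' using TensorProduct.induction_on with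
    | zero => simp
    | add a b ha hb => simp only [map_add, TensorProduct.tmul_add, ha, hb]
    | tmul u' r' => simp

end Mu

section Main

variable {k : Type u} [Field k] {A : Type v} [CommRing A] [HopfAlgebra k A]
  {R : Type x} [CommRing R] [Algebra k R] (g : A →ₐ[k] R)
variable {V : Type w} [AddCommGroup V] [Module k V] {V' : Type w'} [AddCommGroup V'] [Module k V']

lemma lTensor_tensor_coact (c : Comod k A V) (c' : Comod k A V') (v : V) (v' : V') :
    LinearMap.lTensor (V ⊗[k] V') g.toLinearMap ((Comod.tensor c c').coact (v ⊗ₜ[k] v')) =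
      mu R V V' (LinearMap.lTensor V g.toLinearMap (c.coact v) ⊗ₜ[k]
        LinearMap.lTensor V' g.toLinearMap (c'.coact v')) := by
  rw [tensor_coact_tmul]
  generalize c.coact v = y
  generalize c'.coact v' = y'
  induction y using TensorProduct.induction_on with
  | zero => simp
  | add a b ha hb => simp only [map_add, TensorProduct.add_tmul, ha, hb]
  | tmul u r =>
    induction y' using TensorProduct.induction_on with
    | zero => simp
    | add a b ha hb => simp only [map_add, TensorProduct.tmul_add, ha, hb]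
    | tmul u' r' => simp

theorem stabilizes_tensor_iff (c : Comod k A V) (c' : Comod k A V') (W : Submodule k V)
    (W' : Submodule k V') (hW : W ≠ ⊥) (hW' : W' ≠ ⊥) :
    (∀ x ∈ LinearMap.range (TensorProduct.mapIncl W W'),
        LinearMap.lTensor (V ⊗[k] V') g.toLinearMap ((Comod.tensor c c').coact x) ∈
          LinearMap.range ((LinearMap.range (TensorProduct.mapIncl W W')).subtype.rTensor R)) ↔
      (∀ x ∈ W, LinearMap.lTensor V g.toLinearMap (c.coact x) ∈
          LinearMap.range (W.subtype.rTensor R)) ∧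
      (∀ x ∈ W', LinearMap.lTensor V' g.toLinearMap (c'.coact x) ∈
          LinearMap.range (W'.subtype.rTensor R)) := by
  constructor
  · intro h
    obtain ⟨w₀, hw₀W, hw₀⟩ := (Submodule.ne_bot_iff W).1 hW
    obtain ⟨w₀', hw₀W', hw₀'⟩ := (Submodule.ne_bot_iff W').1 hW'
    have hvan : ∀ (φ : V →ₗ[k] k) (ψ : V' →ₗ[k] k), (W ≤ LinearMap.ker φ ∨ W' ≤ LinearMap.ker ψ) →
        LinearMap.range (TensorProduct.mapIncl W W') ≤
          LinearMap.ker (LinearMap.mul' k k ∘ₗ TensorProduct.map φ ψ) := by
      rintro φ ψ hφψ _ ⟨z, rfl⟩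
      rw [LinearMap.mem_ker]
      induction z using TensorProduct.induction_on with
      | zero => simp
      | add a b ha hb => rw [map_add, map_add, ha, hb, add_zero]
      | tmul w w' =>
        simp only [TensorProduct.mapIncl, TensorProduct.map_tmul, LinearMap.comp_apply,
          Submodule.subtype_apply, LinearMap.mul'_apply]
        rcases hφψ with h1 | h1
        · rw [show φ (w : V) = 0 from h1 w.2, zero_mul]
        · rw [show ψ (w' : V') = 0 from h1 w'.2, mul_zero]
    have hprod : ∀ (φ : V →ₗ[k] k) (ψ : V' →ₗ[k] k), (W ≤ LinearMap.ker φ ∨ W' ≤ LinearMap.ker ψ) →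
        ∀ w ∈ W, ∀ w' ∈ W',
        contrL R φ (LinearMap.lTensor V g.toLinearMap (c.coact w)) *
          contrL R ψ (LinearMap.lTensor V' g.toLinearMap (c'.coact w')) = 0 := by
      intro φ ψ hφψ w hw w' hw'
      rw [← contrL_lTensor_tensor]
      have hx : (w ⊗ₜ[k] w' : V ⊗[k] V') ∈ LinearMap.range (TensorProduct.mapIncl W W') :=
        ⟨(⟨w, hw⟩ : W) ⊗ₜ[k] (⟨w', hw'⟩ : W'), rfl⟩
      exact (mem_range_rTensor_iff_contrL _ _).1 (h _ hx) _ (hvan φ ψ hφψ)
    constructor
    · intro w hw
      rw [mem_range_rTensor_iff_contrL]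
      intro φ hφ
      apply eq_zero_of_forall_mul_eq_zero g c' hw₀'
      intro ψ
      rw [← contrL_lTensor_coact]
      exact hprod φ ψ (Or.inl hφ) w hw w₀' hw₀W'
    · intro w' hw'
      rw [mem_range_rTensor_iff_contrL]
      intro ψ hψ
      apply eq_zero_of_forall_mul_eq_zero g c hw₀
      intro φ
      rw [← contrL_lTensor_coact, mul_comm]
      exact hprod φ ψ (Or.inr hψ) w₀ hw₀W w' hw'
  · rintro ⟨h1, h2⟩ _ ⟨z, rfl⟩
    induction z using TensorProduct.induction_on with
    | zero => simp
    | add a b ha hb =>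
      rw [map_add, map_add, map_add]
      exact Submodule.add_mem _ ha hb
    | tmul w w' =>
      obtain ⟨y, hy⟩ := h1 w w.2
      obtain ⟨y', hy'⟩ := h2 w' w'.2
      change LinearMap.lTensor (V ⊗[k] V') g.toLinearMap
        ((Comod.tensor c c').coact ((w : V) ⊗ₜ[k] (w' : V'))) ∈ _
      rw [lTensor_tensor_coact, ← hy, ← hy', mu_natural]
      have hfac : TensorProduct.map W.subtype W'.subtype =
          (LinearMap.range (TensorProduct.mapIncl W W')).subtype ∘ₗ
            (TensorProduct.mapIncl W W').rangeRestrict := by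
        apply LinearMap.ext
        intro t
        rfl
      rw [hfac, LinearMap.rTensor_comp, LinearMap.comp_apply]
      exact ⟨_, rfl⟩

end Main

end Groth.Agent.Lib.Helper7.StabTensor
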