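import Groth.Agent.Lib.Helper7.HopfGLn
import Groth.Agent.Lib.Helper7.Comod
import Groth.Prelude.Def_ComodDual
import Groth.Prelude.Def_GLin5

/-!
# Every representation is a subquotient of tensor constructions on a faithful one (helper7)
-/

universe u v w w'

open TensorProduct

namespace Groth.Agent.Lib.Helper7.Subquot

open HopfRep ComodTens Groth.Agent.Lib.Helper7.Comod CoordGrp Groth.Agent.Lib.Helper7.HopfGLn

section Basic

variable {k : Type u} [Field k] {A : Type v} [CommRing A] [Bialgebra k A]
variable {V : Type w} [AddCommGroup V] [Module k V] {W : Type w'} [AddCommGroup W] [Module k W]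

/-- coefficient space with an explicit structure. -/
noncomputable def cf (c : Comod k A V) : Submodule k A := @coeffSpace k _ A _ _ _ V _ _ c

/-- morphism of comodules with explicit structures. -/
def IsHom (c : Comod k A V) (d : Comod k A W) (f : V →ₗ[k] W) : Prop :=
  d.coact ∘ₗ f = f.rTensor A ∘ₗ c.coact

lemma isHom_iff (c : Comod k A V) (d : Comod k A W) (f : V →ₗ[k] W) :
    IsHom c d f ↔ @Hoch.IsComodHom k _ A _ _ _ V _ _ c W _ _ d f := Iff.rfl

lemma contrL_coact_mem (c : Comod k A V) (φ : V →ₗ[k] k) (v : V) :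
    contrL A φ (c.coact v) ∈ cf c :=
  @coeffMap_mem k _ A _ _ _ V _ _ c φ v

lemma cf_le_of_injective {c : Comod k A V} {d : Comod k A W} {f : V →ₗ[k] W} (hf : IsHom c d f)
    (hi : Function.Injective f) : cf c ≤ cf d :=
  @coeffSpace_le_of_injective k _ A _ _ _ V _ _ c W _ _ d f hf hi

lemma cf_ofEquiv (e : V ≃ₗ[k] W) (c : Comod k A V) : cf (Comod.ofEquiv e c) = cf c := by
  symm
  refine @coeffSpace_eq_of_equiv k _ A _ _ _ V _ _ c W _ _ (Comod.ofEquiv e c) e ?_
  apply LinearMap.ext
  intro v
  exact ofEquiv_coact_apply e c v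

lemma apply_mem_cf {c : Comod k A V} {f : V →ₗ[k] A} (hf : IsHom c (Comod.regular k A) f) (v : V) :
    f v ∈ cf c :=
  @apply_mem_coeffSpace_of_isComodHom k _ A _ _ _ V _ _ c f hf v

lemma isHom_contrL_coact (c : Comod k A V) (φ : V →ₗ[k] k) :
    IsHom c (Comod.regular k A) (contrL A φ ∘ₗ c.coact) :=
  @isComodHom_coeffMap k _ A _ _ _ V _ _ c φ

lemma trivial_coact_apply (w : W) : (Comod.trivial k A W).coact w = w ⊗ₜ[k] (1 : A) := rfl

lemma one_mem_cf_trivial : (1 : A) ∈ cf (Comod.trivial k A k) := by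
  have h := contrL_coact_mem (Comod.trivial k A k) (LinearMap.id : k →ₗ[k] k) (1 : k)
  rw [trivial_coact_apply, contrL_tmul, LinearMap.id_apply, one_smul] at h
  exact h

lemma contrL_tensor (c : Comod k A V) (d : Comod k A W) (φ : V →ₗ[k] k) (ψ : W →ₗ[k] k)
    (v : V) (w : W) :
    contrL A (LinearMap.mul' k k ∘ₗ TensorProduct.map φ ψ) ((Comod.tensor c d).coact (v ⊗ₜ[k] w)) =
      contrL A φ (c.coact v) * contrL A ψ (d.coact w) := by
  rw [tensor_coact_tmul]
  generalize c.coact v = y
  generalize d.coact w = z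
  induction y using TensorProduct.induction_on with
  | zero => simp
  | add y y' hy hy' => simp only [TensorProduct.add_tmul, map_add, hy, hy', add_mul]
  | tmul v0 a =>
    induction z using TensorProduct.induction_on with
    | zero => simp
    | add z z' hz hz' => simp only [TensorProduct.tmul_add, map_add, hz, hz', mul_add]
    | tmul w0 b =>
      simp only [AlgebraTensorModule.tensorTensorTensorComm_tmul, TensorProduct.map_tmul,
        LinearMap.id_apply, LinearMap.mul'_apply, contrL_tmul, LinearMap.comp_apply,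
        smul_mul_smul_comm]

lemma mul_mem_cf_tensor (c : Comod k A V) (d : Comod k A W) {a a' : A} (ha : a ∈ cf c)
    (ha' : a' ∈ cf d) : a * a' ∈ cf (Comod.tensor c d) := by
  unfold cf coeffSpace at ha ha'
  refine Submodule.iSup_induction _ (motive := fun a => a * a' ∈ cf (Comod.tensor c d)) ha ?_ ?_ ?_
  · rintro φ _ ⟨v, rfl⟩
    refine Submodule.iSup_induction _
      (motive := fun a' => @coeffMap k _ A _ _ _ V _ _ c φ v * a' ∈ cf (Comod.tensor c d))
      ha' ?_ ?_ ?_
    · rintro ψ _ ⟨w, rfl⟩
      have := contrL_tensor c d φ ψ v w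
      change _ = @coeffMap k _ A _ _ _ V _ _ c φ v * @coeffMap k _ A _ _ _ W _ _ d ψ w at this
      rw [← this]
      exact contrL_coact_mem _ _ _
    · rw [mul_zero]; exact Submodule.zero_mem _
    · intro x y hx hy
      rw [mul_add]; exact Submodule.add_mem _ hx hy
  · rw [zero_mul]; exact Submodule.zero_mem _
  · intro x y hx hy
    rw [add_mul]; exact Submodule.add_mem _ hx hy

lemma isHom_inl (c : Comod k A V) (d : Comod k A W) :
    IsHom c (Comod.prod c d) (LinearMap.inl k V W) := by
  apply LinearMap.ext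
  intro v
  change (Comod.prod c d).coact (v, 0) = _
  rw [prod_coact, map_zero, map_zero, add_zero]
  rfl

lemma isHom_inr (c : Comod k A V) (d : Comod k A W) :
    IsHom d (Comod.prod c d) (LinearMap.inr k V W) := by
  apply LinearMap.ext
  intro w
  change (Comod.prod c d).coact (0, w) = _
  rw [prod_coact, map_zero, map_zero, zero_add]
  rfl

lemma cf_le_prod_left (c : Comod k A V) (d : Comod k A W) : cf c ≤ cf (Comod.prod c d) :=
  cf_le_of_injective (isHom_inl c d) LinearMap.inl_injective

lemma cf_le_prod_right (c : Comod k A V) (d : Comod k A W) : cf d ≤ cf (Comod.prod c d) :=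
  cf_le_of_injective (isHom_inr c d) LinearMap.inr_injective

/-- `1 ∈ cf (tpow c 0)`. -/
lemma one_mem_cf_tpow_zero (c : Comod k A V) : (1 : A) ∈ cf (Comod.tpow c 0) := by
  rw [tpow_zero, cf_ofEquiv]
  exact one_mem_cf_trivial

/-- `cf (tpow c m) * cf c ⊆ cf (tpow c (m+1))`. -/
lemma mul_mem_cf_tpow_succ (c : Comod k A V) (m : ℕ) {a a' : A} (ha : a ∈ cf (Comod.tpow c m))
    (ha' : a' ∈ cf c) : a * a' ∈ cf (Comod.tpow c (m + 1)) := by
  rw [tpow_succ, cf_ofEquiv]
  apply mul_mem_cf_tensor _ _ ha
  change a' ∈ cf (Comod.ofEquiv _ c)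
  rw [cf_ofEquiv]
  exact ha'

/-- the span of all coefficient spaces of tensor powers contains the subalgebra generated by
the coefficient space. -/
lemma adjoin_le_iSup_cf_tpow (c : Comod k A V) :
    Subalgebra.toSubmodule (Algebra.adjoin k (cf c : Set A)) ≤ ⨆ m, cf (Comod.tpow c m) := by
  rw [Algebra.adjoin_eq_span]
  apply Submodule.span_le.2
  intro x hx
  refine Submonoid.closure_induction_right (motive := fun x _ => x ∈ ⨆ m, cf (Comod.tpow c m))
    ?_ ?_ hx
  · exact (le_iSup (fun m => cf (Comod.tpow c m)) 0) (one_mem_cf_tpow_zero c)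
  · intro x _ y hy hx
    refine Submodule.iSup_induction _ (motive := fun x => x * y ∈ ⨆ m, cf (Comod.tpow c m)) hx
      ?_ ?_ ?_
    · intro m a ha
      exact (le_iSup (fun m => cf (Comod.tpow c m)) (m + 1)) (mul_mem_cf_tpow_succ c m ha hy)
    · rw [zero_mul]; exact Submodule.zero_mem _
    · intro a b ha hb
      rw [add_mul]; exact Submodule.add_mem _ ha hb

end Basic

section GLSec

variable {k : Type u} [Field k] {A : Type v} [CommRing A] [HopfAlgebra k A] (n : ℕ)
  (π : GLn n k →ₐc[k] A)

/-- the standard representation pushed along `π`. -/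
@[reducible] noncomputable def cV : Comod k A (Fin n → k) :=
  GLin.comodAlong π (GLin.comodAlong (Mat.toGLn n k) (stdVec n k))

lemma cV_coact_single (j : Fin n) :
    (cV n π).coact (Pi.single j 1) = ∑ l : Fin n, (Pi.single l (1 : k)) ⊗ₜ[k] π (GLn.X l j) := by
  change TensorProduct.map LinearMap.id (π : GLn n k →ₗ[k] A)
    (TensorProduct.map LinearMap.id (Mat.toGLn n k : Mat n k →ₗ[k] GLn n k)
      ((stdVec n k).coact (Pi.single j 1))) = _
  rw [stdVec_coact_single, map_sum, map_sum]
  apply Finset.sum_congr rfl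
  intro l _
  rw [TensorProduct.map_tmul, TensorProduct.map_tmul]
  simp only [LinearMap.id_apply]
  congr 1
  change π (Mat.toGLn n k (Mat.X l j)) = _
  rw [Mat.toGLn_X]

lemma contrL_proj_cV (i j : Fin n) :
    contrL A (LinearMap.proj i : (Fin n → k) →ₗ[k] k) ((cV n π).coact (Pi.single j 1)) =
      π (GLn.X i j) := by
  rw [cV_coact_single, map_sum]
  simp only [contrL_tmul, LinearMap.proj_apply]
  rw [Finset.sum_eq_single i]
  · simp
  · intro l _ hl
    rw [Pi.single_eq_of_ne (Ne.symm hl), zero_smul]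
  · intro h; exact absurd (Finset.mem_univ i) h

lemma pi_X_mem_cf (i j : Fin n) : π (GLn.X i j) ∈ cf (cV n π) := by
  rw [← contrL_proj_cV]
  exact contrL_coact_mem _ _ _

lemma dualTensorHom_eq_contrL {V : Type w} [AddCommGroup V] [Module k V]
    (y : Module.Dual k V ⊗[k] A) (v : V) :
    dualTensorHom k V A y v = contrL A (Module.Dual.eval k V v) y := by
  induction y using TensorProduct.induction_on with
  | zero => simp
  | tmul f a => simp [dualTensorHom_apply]
  | add y z hy hz => simp only [map_add, LinearMap.add_apply, hy, hz]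

lemma antipode_pi_X_mem_cf (d : Comod k A (Module.Dual k (Fin n → k)))
    (hd : Comod.IsDual (cV n π) d) (i j : Fin n) :
    HopfAlgebra.antipode k (π (GLn.X i j)) ∈ cf d := by
  have h1 := LinearMap.congr_fun (hd (LinearMap.proj i)) (Pi.single j 1)
  rw [dualTensorHom_eq_contrL,
    dualCoactFun_apply_of_sum (cV n π) (LinearMap.proj i) Finset.univ (Pi.single j 1)
      (fun l => Pi.single l (1 : k)) (fun l => π (GLn.X l j)) (cV_coact_single n π j)] at h1
  have h2 : ∑ l : Fin n, (LinearMap.proj i : (Fin n → k) →ₗ[k] k) (Pi.single l (1 : k)) •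
      HopfAlgebraStruct.antipode (R := k) (π (GLn.X l j)) =
      HopfAlgebra.antipode k (π (GLn.X i j)) := by
    rw [Finset.sum_eq_single i]
    · simp
    · intro l _ hl
      rw [LinearMap.proj_apply, Pi.single_eq_of_ne (Ne.symm hl), zero_smul]
    · intro h; exact absurd (Finset.mem_univ i) h
  rw [h2] at h1
  rw [← h1]
  exact contrL_coact_mem _ _ _

lemma antipode_mul_eq_one :
    (Matrix.of fun i j => HopfAlgebra.antipode k (π (GLn.X i j))) *
      (Matrix.of fun i j => π (GLn.X i j)) = (1 : Matrix (Fin n) (Fin n) A) := by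
  ext i j
  rw [Matrix.mul_apply, Matrix.one_apply]
  have h := HopfAlgebra.mul_antipode_rTensor_comul_apply (R := k) (π (GLn.X i j))
  rw [← CoalgHomClass.map_comp_comul_apply, GLn.comul_X, map_sum, map_sum, map_sum,
    CoalgHomClass.counit_comp_apply, GLn.counit_X] at h
  simp only [TensorProduct.map_tmul, LinearMap.rTensor_tmul, LinearMap.mul'_apply] at h
  simp only [Matrix.of_apply]
  refine (Eq.trans ?_ h).trans ?_
  · rfl
  · split_ifs <;> simp

lemma pi_Dinv_eq_det :
    π GLn.Dinv = (Matrix.of fun i j => HopfAlgebra.antipode k (π (GLn.X i j))).det := by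
  have h1 := congrArg Matrix.det (antipode_mul_eq_one n π)
  rw [Matrix.det_mul, Matrix.det_one] at h1
  have hM : (Matrix.of fun i j => π (GLn.X i j)).det = π GLn.det := by
    rw [GLn.det_eq]
    have := AlgHom.map_det (π : GLn n k →ₐ[k] A) (GLn.genMat n k)
    rw [show (π : GLn n k →ₐ[k] A) (GLn.genMat n k).det = π (GLn.genMat n k).det from rfl] at this
    rw [this]
    rfl
  rw [hM] at h1
  have h2 : π GLn.Dinv * π GLn.det = 1 := by rw [← map_mul, GLn.Dinv_mul_det, map_one]
  calc π GLn.Dinv = π GLn.Dinv * ((Matrix.of fun i j => HopfAlgebra.antipode k (π (GLn.X i j))).det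
        * π GLn.det) := by rw [h1, mul_one]
    _ = (π GLn.Dinv * π GLn.det) *
        (Matrix.of fun i j => HopfAlgebra.antipode k (π (GLn.X i j))).det := by ring
    _ = _ := by rw [h2, one_mul]

/-- a subalgebra of `A` containing the images of the matrix entries and their antipodes contains
the range of `π`. -/
lemma range_le_of_mem (S : Subalgebra k A) (hX : ∀ i j, π (GLn.X i j) ∈ S)
    (hS : ∀ i j, HopfAlgebra.antipode k (π (GLn.X i j)) ∈ S) (y : GLn n k) : π y ∈ S := by
  have hD : π GLn.Dinv ∈ S := by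
    rw [pi_Dinv_eq_det, Matrix.det_apply']
    refine Subalgebra.sum_mem _ (fun σ _ => ?_)
    refine Subalgebra.mul_mem _ (Subalgebra.intCast_mem _ _) (Subalgebra.prod_mem _ (fun i _ => ?_))
    exact hS _ _
  obtain ⟨x, rfl⟩ := Ideal.Quotient.mkₐ_surjective k (GLb.relIdeal n k) y
  have htop : (⊤ : Subalgebra k (MvPolynomial (GLPoly.Idx n) k)) ≤
      (S.comap ((π : GLn n k →ₐ[k] A).comp (GLn.mk n k))) := by
    rw [← MvPolynomial.adjoin_range_X]
    apply Algebra.adjoin_le
    rintro _ ⟨s, rfl⟩
    rcases s with ⟨i, j⟩ | ⟨⟩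
    · exact hX i j
    · exact hD
  exact htop (Algebra.mem_top (R := k) (A := MvPolynomial (GLPoly.Idx n) k) (x := x))

theorem adjoin_cf_prod_eq_top (hπ : Function.Surjective π)
    (d : Comod k A (Module.Dual k (Fin n → k))) (hd : Comod.IsDual (cV n π) d) :
    Algebra.adjoin k (cf (Comod.prod (cV n π) d) : Set A) = ⊤ := by
  rw [eq_top_iff]
  intro a _
  obtain ⟨y, rfl⟩ := hπ a
  apply range_le_of_mem n π
  · intro i j
    exact Algebra.subset_adjoin (cf_le_prod_left _ _ (pi_X_mem_cf n π i j))
  · intro i j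
    exact Algebra.subset_adjoin (cf_le_prod_right _ _ (antipode_pi_X_mem_cf n π d hd i j))

theorem iSup_cf_tpow_eq_top (hπ : Function.Surjective π)
    (d : Comod k A (Module.Dual k (Fin n → k))) (hd : Comod.IsDual (cV n π) d) :
    ⨆ m, cf (Comod.tpow (Comod.prod (cV n π) d) m) = ⊤ := by
  rw [eq_top_iff]
  refine le_trans ?_ (adjoin_le_iSup_cf_tpow (Comod.prod (cV n π) d))
  rw [adjoin_cf_prod_eq_top n π hπ d hd]
  exact le_of_eq Algebra.top_toSubmodule.symm

end GLSec

section Assembly

variable {k : Type u} [Field k] {A : Type u} [CommRing A] [Bialgebra k A]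

section Pi

variable {V : Type u} [AddCommGroup V] [Module k V] {Y : Type u} [AddCommGroup Y] [Module k Y]
variable {ι : Type} [Fintype ι] [DecidableEq ι] {X : ι → Type u} [∀ i, AddCommGroup (X i)]
  [∀ i, Module k (X i)]

lemma isHom_comp {U : Type u} [AddCommGroup U] [Module k U] {c : Comod k A V} {d : Comod k A Y}
    {e : Comod k A U} {f : V →ₗ[k] Y} {g : Y →ₗ[k] U} (hf : IsHom c d f) (hg : IsHom d e g) :
    IsHom c e (g ∘ₗ f) := by
  unfold IsHom at *
  rw [← LinearMap.comp_assoc, hg, LinearMap.comp_assoc, hf, ← LinearMap.comp_assoc,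
    LinearMap.rTensor_comp]

lemma isHom_single (c : ∀ i, Comod k A (X i)) (i : ι) :
    IsHom (c i) (Comod.pi c) (LinearMap.single k X i) := by
  apply LinearMap.ext
  intro x
  exact pi_coact_single c i x

/-- a family of morphisms out of the factors gives a morphism out of the direct sum. -/
lemma isHom_sum_proj (c : ∀ i, Comod k A (X i)) (d : Comod k A Y) (g : ∀ i, X i →ₗ[k] Y)
    (hg : ∀ i, IsHom (c i) d (g i)) :
    IsHom (Comod.pi c) d (∑ i, g i ∘ₗ LinearMap.proj i) := by
  have hcomp : ∀ i, (∑ j, g j ∘ₗ LinearMap.proj j) ∘ₗ LinearMap.single k X i = g i := by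
    intro i
    apply LinearMap.ext
    intro x
    simp only [LinearMap.comp_apply, LinearMap.sum_apply, LinearMap.proj_apply,
      LinearMap.coe_single]
    rw [Finset.sum_eq_single i]
    · simp
    · intro j _ hj; rw [Pi.single_eq_of_ne hj, map_zero]
    · intro h; exact absurd (Finset.mem_univ i) h
  apply LinearMap.pi_ext
  intro i x
  have h1 : (∑ j, g j ∘ₗ LinearMap.proj j) (Pi.single i x) = g i x :=
    LinearMap.congr_fun (hcomp i) x
  rw [LinearMap.comp_apply, h1, LinearMap.comp_apply, pi_coact_single,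
    ← LinearMap.comp_apply (LinearMap.rTensor A _), ← LinearMap.rTensor_comp, hcomp i]
  exact LinearMap.congr_fun (hg i) x

lemma range_le_range_sum_proj (g : ∀ i, X i →ₗ[k] Y) (i : ι) :
    LinearMap.range (g i) ≤ LinearMap.range (∑ j, g j ∘ₗ LinearMap.proj j) := by
  rintro _ ⟨x, rfl⟩
  refine ⟨Pi.single i x, ?_⟩
  simp only [LinearMap.sum_apply, LinearMap.comp_apply, LinearMap.proj_apply]
  rw [Finset.sum_eq_single i]
  · simp
  · intro j _ hj; rw [Pi.single_eq_of_ne hj, map_zero]
  · intro h; exact absurd (Finset.mem_univ i) h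

/-- a family of morphisms into the factors gives a morphism into the direct sum. -/
lemma isHom_pi (c : Comod k A V) (d : ∀ i, Comod k A (X i)) (f : ∀ i, V →ₗ[k] X i)
    (hf : ∀ i, IsHom c (d i) (f i)) : IsHom c (Comod.pi d) (LinearMap.pi f) := by
  apply LinearMap.ext
  intro v
  rw [LinearMap.comp_apply, pi_coact, LinearMap.comp_apply]
  have h1 : ∀ i, (d i).coact (LinearMap.pi f v i) = (f i).rTensor A (c.coact v) := fun i =>
    LinearMap.congr_fun (hf i) v
  simp_rw [h1]
  have h2 : LinearMap.pi f = ∑ i, LinearMap.single k X i ∘ₗ f i := by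
    apply LinearMap.ext
    intro v
    ext j
    simp only [LinearMap.pi_apply, LinearMap.sum_apply, LinearMap.comp_apply,
      LinearMap.coe_single, Finset.sum_apply]
    rw [Finset.sum_eq_single j]
    · simp
    · intro i _ hi; rw [Pi.single_eq_of_ne (Ne.symm hi)]
    · intro h; exact absurd (Finset.mem_univ j) h
  rw [h2]
  have h3 : (∑ i, LinearMap.single k X i ∘ₗ f i).rTensor A =
      ∑ i, (LinearMap.single k X i ∘ₗ f i).rTensor A :=
    map_sum (LinearMap.rTensorHom A (N := V) (P := ∀ i, X i) (R := k)) _ _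
  rw [h3, LinearMap.sum_apply]
  apply Finset.sum_congr rfl
  intro i _
  rw [LinearMap.rTensor_comp, LinearMap.comp_apply]

end Pi

section Main

variable {E : Type u} [AddCommGroup E] [Module k E] (cE : Comod k A E)
variable {W : Type u} [AddCommGroup W] [Module k W] [Module.Finite k W] (σ : Comod k A W)

/-- If the coefficient spaces of the tensor powers of `E` span `A`, every finite-dimensional
comodule is a subquotient of a finite direct sum of tensor powers of `E`. -/
theorem exists_subquotient (h : ⨆ m, cf (Comod.tpow cE m) = ⊤) :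
    ∃ (b : ℕ) (m : Fin b → ℕ) (E' : Submodule k ((i : Fin b) → TensorPower k (m i) E))
      (τ : E' →ₗ[k] E' ⊗[k] A) (q : E' →ₗ[k] W),
      Function.Surjective q ∧
      (E'.subtype.rTensor A) ∘ₗ τ =
        (Comod.pi fun i : Fin b => Comod.tpow cE (m i)).coact ∘ₗ E'.subtype ∧
      (q.rTensor A) ∘ₗ τ = σ.coact ∘ₗ q := by
  classical
  set r := Module.finrank k W with hr
  let bW := Module.finBasis k W
  let cY : Comod k A (Fin r → A) := Comod.pi (fun _ : Fin r => Comod.regular k A)
  -- the embedding `ι`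
  let fι : Fin r → W →ₗ[k] A := fun s => contrL A (bW.coord s) ∘ₗ σ.coact
  let ι : W →ₗ[k] (Fin r → A) := LinearMap.pi fι
  have hι : IsHom σ cY ι := isHom_pi σ _ fι (fun s => isHom_contrL_coact σ _)
  have hιinj : Function.Injective ι := by
    rw [← LinearMap.ker_eq_bot, LinearMap.ker_eq_bot']
    intro w hw
    apply bW.ext_elem
    intro s
    have h1 : Coalgebra.counit (R := k) (ι w s) = bW.repr w s :=
      @counit_coeffMap k _ A _ _ _ W _ _ σ (bW.coord s) w
    rw [hw] at h1
    simpa using h1.symm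
  -- generation
  let Idx := Σ m : ℕ, {g : TensorPower k m E →ₗ[k] (Fin r → A) // IsHom (Comod.tpow cE m) cY g}
  let S : Idx → Submodule k (Fin r → A) := fun p => LinearMap.range p.2.1
  have hGen : ⨆ p, S p = ⊤ := by
    rw [eq_top_iff]
    intro y _
    have hy : y = ∑ s, LinearMap.single k (fun _ : Fin r => A) s (y s) := by
      ext j
      simp [Finset.sum_apply, Pi.single_apply]
    rw [hy]
    refine Submodule.sum_mem _ (fun s _ => ?_)
    have hsub : (⊤ : Submodule k A) ≤
        (⨆ p, S p).comap (LinearMap.single k (fun _ : Fin r => A) s) := by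
      rw [← h]
      apply iSup_le
      intro m
      unfold cf coeffSpace
      apply iSup_le
      rintro φ _ ⟨t, rfl⟩
      rw [Submodule.mem_comap]
      let g : TensorPower k m E →ₗ[k] (Fin r → A) :=
        LinearMap.single k (fun _ : Fin r => A) s ∘ₗ (contrL A φ ∘ₗ (Comod.tpow cE m).coact)
      have hg : IsHom (Comod.tpow cE m) cY g :=
        isHom_comp (isHom_contrL_coact _ φ) (isHom_single _ s)
      exact (le_iSup S ⟨m, g, hg⟩) ⟨t, rfl⟩
    exact hsub Submodule.mem_top
  -- compactness
  have hfg : (LinearMap.range ι).FG := by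
    rw [LinearMap.range_eq_map]
    exact Submodule.FG.map _ (Module.finite_def.1 inferInstance)
  have hcpt := (Submodule.fg_iff_compact _).1 hfg
  obtain ⟨t, ht⟩ := (CompleteLattice.isCompactElement_iff_exists_le_iSup_of_le_iSup _).1 hcpt Idx S
    (by rw [hGen]; exact le_top)
  let e : t ≃ Fin t.card := t.equivFin
  let m : Fin t.card → ℕ := fun i => (e.symm i).1.1
  let g : ∀ i : Fin t.card, TensorPower k (m i) E →ₗ[k] (Fin r → A) := fun i => (e.symm i).1.2.1
  have hg : ∀ i, IsHom (Comod.tpow cE (m i)) cY (g i) := fun i => (e.symm i).1.2.2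
  let cT : Comod k A ((i : Fin t.card) → TensorPower k (m i) E) :=
    Comod.pi (fun i : Fin t.card => Comod.tpow cE (m i))
  let G : ((i : Fin t.card) → TensorPower k (m i) E) →ₗ[k] (Fin r → A) :=
    ∑ i, g i ∘ₗ LinearMap.proj i
  have hG : IsHom cT cY G := isHom_sum_proj _ cY g hg
  have hrange : LinearMap.range ι ≤ LinearMap.range G := by
    refine ht.trans (Finset.sup_le ?_)
    intro p hp
    have h1 : S p = LinearMap.range (g (e ⟨p, hp⟩)) := by
      change S p = S (e.symm (e ⟨p, hp⟩)).1
      rw [e.symm_apply_apply]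
    rw [h1]
    exact range_le_range_sum_proj g _
  -- the subcomodule
  let E' : Submodule k ((i : Fin t.card) → TensorPower k (m i) E) := (LinearMap.range ι).comap G
  have hRι : @IsSubcomod k A _ _ _ _ _ _ _ cY (LinearMap.range ι) := by
    letI := σ
    letI := cY
    exact isSubcomod_range (k := k) (A := A) hι
  have hE' : @IsSubcomod k A _ _ _ _ _ _ _ cT E' := by
    letI := cT
    letI := cY
    exact isSubcomod_comap (k := k) (C := A) hG hRι
  let cE' : Comod k A E' := ComodSub.Comod.restr cT E' hE'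
  have hτ : ∀ x : E', E'.subtype.rTensor A (cE'.coact x) = cT.coact (x : _) :=
    fun x => ComodSub.restr_coact_coe cT E' hE' x
  let ιe : W ≃ₗ[k] LinearMap.range ι := LinearEquiv.ofInjective ι hιinj
  let q : E' →ₗ[k] W := (ιe.symm : LinearMap.range ι →ₗ[k] W) ∘ₗ
    (G ∘ₗ E'.subtype).codRestrict (LinearMap.range ι) (fun x => x.2)
  have hιq : ι ∘ₗ q = G ∘ₗ E'.subtype := by
    apply LinearMap.ext
    intro x
    change ι (ιe.symm _) = _
    have := LinearEquiv.apply_symm_apply ιe
      ((G ∘ₗ E'.subtype).codRestrict (LinearMap.range ι) (fun x => x.2) x)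
    exact congrArg Subtype.val this
  refine ⟨t.card, m, E', cE'.coact, q, ?_, ?_, ?_⟩
  · intro w
    obtain ⟨f, hf⟩ := hrange ⟨w, rfl⟩
    have hfE : f ∈ E' := by
      change G f ∈ LinearMap.range ι
      rw [hf]; exact ⟨w, rfl⟩
    refine ⟨⟨f, hfE⟩, ?_⟩
    apply hιinj
    have := LinearMap.congr_fun hιq ⟨f, hfE⟩
    rw [LinearMap.comp_apply] at this
    rw [this]
    exact hf
  · apply LinearMap.ext
    intro x
    exact hτ x
  · apply LinearMap.ext
    intro x
    have hinj : Function.Injective (ι.rTensor A) :=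
      Module.Flat.rTensor_preserves_injective_linearMap ι hιinj
    apply hinj
    rw [LinearMap.comp_apply, LinearMap.comp_apply, ← LinearMap.comp_apply (ι.rTensor A),
      ← LinearMap.rTensor_comp, hιq, LinearMap.rTensor_comp, LinearMap.comp_apply, hτ x]
    have h1 : cY.coact (G (x : _)) = G.rTensor A (cT.coact (x : _)) :=
      LinearMap.congr_fun hG (x : _)
    have h2 : cY.coact (ι (q x)) = ι.rTensor A (σ.coact (q x)) := LinearMap.congr_fun hι (q x)
    rw [← h1, ← h2]
    congr 1
    exact (LinearMap.congr_fun hιq x).symm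

end Main

end Assembly

end Groth.Agent.Lib.Helper7.Subquot
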