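import Groth.Agent.Lib.Helper7.ComodSS
import Groth.Agent.Lib.Helper7.ComodPoints
import Groth.Prelude.Def_ComodSub

/-!
# Unipotent groups: the fixed-point filtration (helper7)
-/

universe u v w

open TensorProduct

namespace Groth.Agent.Lib.Helper7.Comod

open HopfRep

section Filtration

variable {k : Type u} [Field k] {A : Type v} [CommRing A] [Bialgebra k A]
variable {V : Type w} [AddCommGroup V] [Module k V] [Comod k A V]

variable (k A) in
/-- `v ↦ ρ v - v ⊗ 1`. -/
noncomputable def dCoact (V : Type w) [AddCommGroup V] [Module k V] [Comod k A V] :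
    V →ₗ[k] V ⊗[k] A :=
  Comod.coact (k := k) (A := A) - (TensorProduct.mk k V A).flip 1

lemma dCoact_apply (v : V) :
    dCoact k A V v = Comod.coact (k := k) (A := A) v - v ⊗ₜ[k] (1 : A) := rfl

variable (k A) in
/-- The next step of the fixed-point filtration. -/
noncomputable def nextFix (W : Submodule k V) : Submodule k V :=
  (LinearMap.range (W.subtype.rTensor A)).comap (dCoact k A V)

lemma mem_nextFix (W : Submodule k V) (v : V) :
    v ∈ nextFix k A W ↔ Comod.coact (k := k) (A := A) v - v ⊗ₜ[k] (1 : A) ∈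
      LinearMap.range (W.subtype.rTensor A) := Iff.rfl

lemma le_nextFix {W : Submodule k V} (hW : IsSubcomod (k := k) (A := A) W) :
    W ≤ nextFix k A W := by
  intro v hv
  rw [mem_nextFix]
  exact Submodule.sub_mem _ (hW v hv) (tmul_mem_range_rTensor hv 1)

lemma isSubcomod_nextFix {W : Submodule k V} (hW : IsSubcomod (k := k) (A := A) W) :
    IsSubcomod (k := k) (A := A) (nextFix k A W) := by
  intro v hv
  rw [mem_range_rTensor_iff_contr]
  intro g
  have h1 : contr V g (Comod.coact (k := k) (A := A) v) =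
      contr V g (Comod.coact (k := k) (A := A) v - v ⊗ₜ[k] (1 : A)) + g 1 • v := by
    rw [map_sub, contr_tmul, sub_add_cancel]
  rw [h1]
  refine Submodule.add_mem _ (le_nextFix hW ?_) (Submodule.smul_mem _ _ hv)
  obtain ⟨y, hy⟩ := (mem_nextFix W v).1 hv
  rw [← hy, contr_rTensor]
  exact (contr W g y).2

variable (k A V) in
/-- The fixed-point filtration: `F 0 = 0`, `F (i+1) = {v | ρ v - v ⊗ 1 ∈ F i ⊗ A}`. -/
noncomputable def fixFilt : ℕ → Submodule k V
  | 0 => ⊥
  | n + 1 => nextFix k A (fixFilt n)

lemma fixFilt_zero : fixFilt k A V 0 = ⊥ := rfl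

lemma fixFilt_succ (n : ℕ) : fixFilt k A V (n + 1) = nextFix k A (fixFilt k A V n) := rfl

lemma isSubcomod_fixFilt (n : ℕ) : IsSubcomod (k := k) (A := A) (fixFilt k A V n) := by
  induction n with
  | zero => exact isSubcomod_bot
  | succ n ih => exact isSubcomod_nextFix ih

lemma fixFilt_mono : Monotone (fixFilt k A V) :=
  monotone_nat_of_le_succ fun n => le_nextFix (isSubcomod_fixFilt n)

/-- If the quotient by a proper subcomodule `W` has a nonzero fixed vector, `nextFix W` is strictly
bigger. -/
lemma lt_nextFix_of_fixedPts_ne_bot {W : Submodule k V} (hW : IsSubcomod (k := k) (A := A) W)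
    (h : @fixedPts k A _ _ _ (V ⧸ W) _ _ (ComodSub.Comod.quot inferInstance W hW) ≠ ⊥) :
    W < nextFix k A W := by
  refine lt_of_le_of_ne (le_nextFix hW) ?_
  intro heq
  apply h
  rw [eq_bot_iff]
  intro q hq
  obtain ⟨v, rfl⟩ := W.mkQ_surjective q
  have hq' : (ComodSub.Comod.quot inferInstance W hW).coact (W.mkQ v) =
      (W.mkQ v) ⊗ₜ[k] (1 : A) := hq
  rw [Submodule.mkQ_apply, ComodSub.quot_coact_mk] at hq'
  have h0 : W.mkQ.rTensor A (Comod.coact (k := k) (A := A) v - v ⊗ₜ[k] (1 : A)) = 0 := by
    rw [map_sub, hq', LinearMap.rTensor_tmul, Submodule.mkQ_apply, sub_self]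
  have hex := rTensor_exact A (LinearMap.exact_subtype_mkQ W) W.mkQ_surjective
  have hv : v ∈ nextFix k A W := (hex _).1 h0
  rw [← heq] at hv
  rw [Submodule.mem_bot, Submodule.mkQ_apply, Submodule.Quotient.mk_eq_zero]
  exact hv

end Filtration

section Unipotent

variable {k : Type u} [Field k] {A : Type v} [CommRing A] [Bialgebra k A]
variable {V : Type v} [AddCommGroup V] [Module k V] [Comod k A V]

lemma fixFilt_eq_top_or_le_finrank (hU : IsUnipotent k A) [Module.Finite k V] (n : ℕ) :
    fixFilt k A V n = ⊤ ∨ n ≤ Module.finrank k (fixFilt k A V n) := by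
  induction n with
  | zero => exact Or.inr (Nat.zero_le _)
  | succ n ih =>
    by_cases htop : fixFilt k A V n = ⊤
    · left
      rw [eq_top_iff, ← htop]
      exact fixFilt_mono (Nat.le_succ n)
    · right
      have hn := ih.resolve_left htop
      have hsub := isSubcomod_fixFilt (k := k) (A := A) (V := V) n
      have hnt : Nontrivial (V ⧸ fixFilt k A V n) :=
        Submodule.Quotient.nontrivial_iff.2 htop
      have hfix := @hU (V ⧸ fixFilt k A V n) _ _
        (ComodSub.Comod.quot inferInstance (fixFilt k A V n) hsub) inferInstance hnt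
      have hlt := lt_nextFix_of_fixedPts_ne_bot hsub hfix
      have := Submodule.finrank_lt_finrank_of_lt hlt
      rw [fixFilt_succ]
      omega

/-- For a unipotent group the fixed-point filtration of a finite-dimensional comodule is
exhaustive. -/
theorem fixFilt_finrank_eq_top (hU : IsUnipotent k A) [Module.Finite k V] :
    fixFilt k A V (Module.finrank k V) = ⊤ := by
  rcases fixFilt_eq_top_or_le_finrank (V := V) hU (Module.finrank k V) with h | h
  · exact h
  · exact Submodule.eq_top_of_finrank_eq (le_antisymm (Submodule.finrank_le _) h)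

end Unipotent

section Converse

variable {k : Type u} [Field k] {A : Type v} [CommRing A] [Bialgebra k A]
variable {V : Type w} [AddCommGroup V] [Module k V] [Comod k A V]

/-- A comodule with a finite flag with trivial gradeds has a nonzero fixed vector. -/
theorem fixedPts_ne_bot_of_flag [Nontrivial V] (m : ℕ) (F : ℕ → Submodule k V)
    (h0 : F 0 = ⊥) (hm : F m = ⊤)
    (hF : ∀ i, ∀ v ∈ F (i + 1), Comod.coact (k := k) (A := A) v - v ⊗ₜ[k] (1 : A) ∈
      LinearMap.range ((F i).subtype.rTensor A)) :
    fixedPts k A V ≠ ⊥ := by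
  classical
  have hex : ∃ n, F n ≠ ⊥ := ⟨m, by rw [hm]; exact top_ne_bot⟩
  have hj0 : Nat.find hex ≠ 0 := by
    intro h
    have := Nat.find_spec hex
    rw [h, h0] at this
    exact this rfl
  obtain ⟨i, hi⟩ := Nat.exists_eq_succ_of_ne_zero hj0
  have hFi : F i = ⊥ := by
    by_contra hne
    have := Nat.find_min' hex hne
    omega
  have hFi1 : F (i + 1) ≠ ⊥ := by
    have := Nat.find_spec hex
    rwa [hi] at this
  obtain ⟨v, hv, hv0⟩ := Submodule.exists_mem_ne_zero_of_ne_bot hFi1
  intro hbot
  apply hv0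
  have hfix : v ∈ fixedPts k A V := by
    have := hF i v hv
    rw [hFi] at this
    obtain ⟨y, hy⟩ := this
    have hy0 : y = 0 := Subsingleton.elim _ _
    rw [hy0, map_zero] at hy
    exact (sub_eq_zero.1 hy.symm)
  rw [hbot, Submodule.mem_bot] at hfix
  exact hfix

end Converse

section Points

variable {k : Type u} [Field k] {A : Type v} [CommRing A] [Bialgebra k A]
variable {V : Type w} [AddCommGroup V] [Module k V] [Comod k A V]

lemma act_sub_one_mem_fixFilt (g : A →ₐ[k] k) (n : ℕ) {v : V} (hv : v ∈ fixFilt k A V (n + 1)) :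
    (Comod.act k A V g - 1) v ∈ fixFilt k A V n := by
  have h1 : (Comod.act k A V g - 1) v =
      contr V g.toLinearMap (Comod.coact (k := k) (A := A) v - v ⊗ₜ[k] (1 : A)) := by
    rw [LinearMap.sub_apply, act_eq_contr, map_sub, contr_tmul]
    simp
  rw [h1]
  obtain ⟨y, hy⟩ := (mem_nextFix _ v).1 hv
  rw [← hy, contr_rTensor]
  exact (contr _ g.toLinearMap y).2

lemma act_sub_one_pow_eq_zero_of_mem_fixFilt (g : A →ₐ[k] k) (n : ℕ) :
    ∀ v ∈ fixFilt k A V n, ((Comod.act k A V g - 1) ^ n) v = 0 := by
  induction n with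
  | zero =>
    intro v hv
    rw [fixFilt_zero, Submodule.mem_bot] at hv
    rw [hv, map_zero]
  | succ n ih =>
    intro v hv
    rw [pow_succ, Module.End.mul_apply]
    exact ih _ (act_sub_one_mem_fixFilt g n hv)

end Points

end Groth.Agent.Lib.Helper7.Comod
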