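import Groth.Agent.Lib.Helper7.ComodUnip
import Groth.Agent.Lib.Helper7.Comod
import Groth.Prelude.Def_Hoch

/-!
# The fixed-point filtration: functoriality, exhaustion of the regular comodule (helper7)
-/

universe u v w w'

open TensorProduct

namespace Groth.Agent.Lib.Helper7.Comod

open HopfRep

section Funct

variable {k : Type u} [Field k] {A : Type v} [CommRing A] [Bialgebra k A]
variable {V : Type w} [AddCommGroup V] [Module k V] [Comod k A V]
variable {W : Type w'} [AddCommGroup W] [Module k W] [Comod k A W]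

lemma map_fixFilt_le {f : V →ₗ[k] W} (hf : Hoch.IsComodHom A f) (n : ℕ) :
    (fixFilt k A V n).map f ≤ fixFilt k A W n := by
  induction n with
  | zero => rw [fixFilt_zero, Submodule.map_bot]; exact bot_le
  | succ n ih =>
    rintro _ ⟨v, hv, rfl⟩
    rw [fixFilt_succ] at hv ⊢
    have hv' := (mem_nextFix _ v).1 hv
    rw [mem_nextFix]
    obtain ⟨y, hy⟩ := hv'
    have h1 : Comod.coact (k := k) (A := A) (f v) - f v ⊗ₜ[k] (1 : A) =
        f.rTensor A (Comod.coact (k := k) (A := A) v - v ⊗ₜ[k] (1 : A)) := by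
      rw [map_sub, LinearMap.rTensor_tmul]
      congr 1
      exact LinearMap.congr_fun hf v
    rw [h1, ← hy]
    let g : fixFilt k A V n →ₗ[k] fixFilt k A W n :=
      f.restrict (fun x hx => ih ⟨x, hx, rfl⟩)
    have hg : f ∘ₗ (fixFilt k A V n).subtype = (fixFilt k A W n).subtype ∘ₗ g := rfl
    refine ⟨g.rTensor A y, ?_⟩
    rw [← LinearMap.comp_apply, ← LinearMap.rTensor_comp, ← hg, LinearMap.rTensor_comp]
    rfl

end Funct

section Regular

variable {k : Type u} [Field k] {A : Type v} [CommRing A] [Bialgebra k A]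

/-- For a unipotent group, the fixed-point filtration of the regular comodule is exhaustive
("coconnectedness"). -/
theorem exists_mem_fixFilt_regular (hU : IsUnipotent k A) (a : A) :
    ∃ n, a ∈ fixFilt k A A n := by
  obtain ⟨U, hfin, haU, hsub⟩ := exists_finite_subcomod_mem (k := k) (C := A) (V := A) a
  letI cU : Comod k A U := ComodSub.Comod.restr (Comod.regular k A) U hsub
  have htop := fixFilt_finrank_eq_top (V := U) hU
  refine ⟨Module.finrank k U, ?_⟩
  apply map_fixFilt_le (ComodSub.isComodHom_subtype (Comod.regular k A) U hsub)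
  refine ⟨⟨a, haU⟩, ?_, rfl⟩
  rw [htop]; trivial

/-- membership in the first step: constants. -/
lemma counit_smul_one_of_mem_fixFilt_one {a : A} (ha : a ∈ fixFilt k A A 1) :
    a = Coalgebra.counit (R := k) a • (1 : A) := by
  rw [fixFilt_succ, mem_nextFix, fixFilt_zero] at ha
  obtain ⟨y, hy⟩ := ha
  have hy0 : y = 0 := Subsingleton.elim _ _
  rw [hy0, map_zero] at hy
  have h1 : Coalgebra.comul (R := k) a = a ⊗ₜ[k] (1 : A) := (sub_eq_zero.1 hy.symm)
  have h2 := congrArg (fun z => TensorProduct.lid k A ((Coalgebra.counit (R := k)).rTensor A z)) h1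
  simp only [Coalgebra.rTensor_counit_comul, TensorProduct.lid_tmul, LinearMap.rTensor_tmul] at h2
  rw [one_smul] at h2
  exact h2

end Regular

end Groth.Agent.Lib.Helper7.Comod
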