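import Mathlib

/-!
# Common algebraically closed overfields and pushouts along field extensions (helper7)
-/

set_option autoImplicit false
universe u
open TensorProduct

namespace Groth.Agent.Lib.Helper7.Compositum

/-- two fields over a ring in which the same prime vanishes embed in a common algebraically closed
field, compatibly. -/
theorem exists_common_algClosed {R₀ K₁ K₂ : Type u} [CommRing R₀] [Field K₁] [Field K₂]
    (f₁ : R₀ →+* K₁) (f₂ : R₀ →+* K₂) (h : RingHom.ker f₁ = RingHom.ker f₂) :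
    ∃ (Ω : Type u) (_ : Field Ω) (_ : IsAlgClosed Ω) (j₁ : K₁ →+* Ω) (j₂ : K₂ →+* Ω),
      j₁.comp f₁ = j₂.comp f₂ := by
  let D := R₀ ⧸ RingHom.ker f₁
  let g₁ : D →+* K₁ := RingHom.kerLift f₁
  have hg₁ : Function.Injective g₁ := RingHom.kerLift_injective f₁
  have H2 : ∀ a : R₀, a ∈ RingHom.ker f₁ → f₂ a = 0 := by
    intro a ha
    rw [h] at ha
    exact ha
  let g₂ : D →+* K₂ := Ideal.Quotient.lift (RingHom.ker f₁) f₂ H2
  have hg₂ : Function.Injective g₂ :=
    RingHom.lift_injective_of_ker_le_ideal (RingHom.ker f₁) H2 (le_of_eq h.symm)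
  letI : Algebra D K₁ := g₁.toAlgebra
  letI : Algebra D K₂ := g₂.toAlgebra
  haveI : Nontrivial (K₁ ⊗[D] K₂) :=
    Algebra.TensorProduct.nontrivial_of_algebraMap_injective_of_isDomain D K₁ K₂ hg₁ hg₂
  obtain ⟨𝔐, hmax⟩ := Ideal.exists_maximal (K₁ ⊗[D] K₂)
  letI : Field ((K₁ ⊗[D] K₂) ⧸ 𝔐) := Ideal.Quotient.field 𝔐
  refine ⟨AlgebraicClosure ((K₁ ⊗[D] K₂) ⧸ 𝔐), inferInstance, inferInstance,
    (algebraMap _ _).comp ((Ideal.Quotient.mk 𝔐).comp
      (Algebra.TensorProduct.includeLeft : K₁ →ₐ[D] K₁ ⊗[D] K₂).toRingHom),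
    (algebraMap _ _).comp ((Ideal.Quotient.mk 𝔐).comp
      (Algebra.TensorProduct.includeRight : K₂ →ₐ[D] K₁ ⊗[D] K₂).toRingHom), ?_⟩
  ext r
  simp only [RingHom.comp_apply]
  congr 2
  have e1 : f₁ r = algebraMap D K₁ (Ideal.Quotient.mk _ r) := rfl
  have e2 : f₂ r = algebraMap D K₂ (Ideal.Quotient.mk _ r) := rfl
  rw [e1, e2]
  change (Algebra.TensorProduct.includeLeft : K₁ →ₐ[D] K₁ ⊗[D] K₂) _ =
    (Algebra.TensorProduct.includeRight : K₂ →ₐ[D] K₁ ⊗[D] K₂) _
  rw [AlgHom.commutes, AlgHom.commutes]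

/-- pushout of a ring over a field along a field extension, with injective first leg. -/
theorem exists_pushout_field {K' L Ω : Type u} [Field K'] [CommRing L] [Field Ω]
    (h' : K' →+* L) (j' : K' →+* Ω) :
    ∃ (P : Type u) (_ : CommRing P) (ι : L →+* P) (ω : Ω →+* P),
      Function.Injective ι ∧ ι.comp h' = ω.comp j' := by
  letI : Algebra K' L := h'.toAlgebra
  letI : Algebra K' Ω := j'.toAlgebra
  refine ⟨L ⊗[K'] Ω, inferInstance,
    (Algebra.TensorProduct.includeLeft : L →ₐ[K'] L ⊗[K'] Ω).toRingHom,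
    (Algebra.TensorProduct.includeRight : Ω →ₐ[K'] L ⊗[K'] Ω).toRingHom, ?_, ?_⟩
  · exact Algebra.TensorProduct.includeLeft_injective (S := K') (RingHom.injective _)
  · ext r
    simp only [RingHom.comp_apply]
    have e1 : h' r = algebraMap K' L r := rfl
    have e2 : j' r = algebraMap K' Ω r := rfl
    rw [e1, e2]
    change (Algebra.TensorProduct.includeLeft : L →ₐ[K'] L ⊗[K'] Ω) _ =
      (Algebra.TensorProduct.includeRight : Ω →ₐ[K'] L ⊗[K'] Ω) _
    rw [AlgHom.commutes, AlgHom.commutes]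

end Groth.Agent.Lib.Helper7.Compositum
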