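import Groth.Prelude.Def_ComodSub
import Mathlib

/-!
# The matrix of a finite projective comodule in a coordinate system (helper7)
-/

set_option autoImplicit false
universe u v w
open TensorProduct

namespace Groth.Agent.Lib.Helper7.CorepProj

open HopfRep

variable {R : Type u} [CommRing R] {A : Type v} [CommRing A] [Bialgebra R A]
variable {E : Type w} [AddCommGroup E] [Module R E] [Comod R A E]

/-- coefficient functions `φ ↦ (x ↦ (φ ⊗ id)(ρ x))`. -/
noncomputable def co (φ : Module.Dual R E) : E →ₗ[R] A :=
  (TensorProduct.lid R A).toLinearMap ∘ₗ φ.rTensor A ∘ₗ Comod.coact (k := R) (A := A)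

lemma co_apply (φ : Module.Dual R E) (x : E) :
    co (A := A) φ x = TensorProduct.lid R A (φ.rTensor A (Comod.coact (k := R) (A := A) x)) := rfl

variable {n : ℕ} (e : Fin n → E) (e' : Fin n → Module.Dual R E)
variable (hcoord : ∀ x : E, ∑ l, e' l x • e l = x)

include hcoord in
lemma eq_sum (T : Type v) [AddCommGroup T] [Module R T] (y : E ⊗[R] T) :
    y = ∑ l, e l ⊗ₜ[R] TensorProduct.lid R T ((e' l).rTensor T y) := by
  induction y using TensorProduct.induction_on with
  | zero => simp
  | tmul x t =>
    simp only [LinearMap.rTensor_tmul, TensorProduct.lid_tmul]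
    conv_lhs => rw [← hcoord x, TensorProduct.sum_tmul]
    refine Finset.sum_congr rfl (fun l _ => ?_)
    rw [TensorProduct.smul_tmul]
  | add y z hy hz =>
    simp only [map_add, TensorProduct.tmul_add, Finset.sum_add_distrib]
    rw [← hy, ← hz]

include hcoord in
lemma coact_eq (x : E) :
    Comod.coact (k := R) (A := A) x = ∑ l, e l ⊗ₜ[R] co (A := A) (e' l) x :=
  eq_sum e e' hcoord A _

lemma counit_co (φ : Module.Dual R E) (x : E) :
    Coalgebra.counit (R := R) (co (A := A) φ x) = φ x := by
  have h := LinearMap.congr_fun (Comod.counit_comp (k := R) (A := A) (V := E)) x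
  simp only [LinearMap.comp_apply, LinearMap.flip_apply, TensorProduct.mk_apply] at h
  have key : ∀ y : E ⊗[R] A, Coalgebra.counit (R := R) (TensorProduct.lid R A (φ.rTensor A y)) =
      TensorProduct.lid R R (φ.rTensor R (LinearMap.lTensor E (Coalgebra.counit (R := R)) y)) := by
    intro y
    induction y using TensorProduct.induction_on with
    | zero => simp
    | tmul v b => simp
    | add y z hy hz => simp only [map_add, hy, hz]
  rw [co_apply, key, h]
  simp

lemma comul_lid_rTensor (φ : Module.Dual R E) (y : E ⊗[R] A) :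
    Coalgebra.comul (R := R) (TensorProduct.lid R A (φ.rTensor A y)) =
      TensorProduct.lid R (A ⊗[R] A) (φ.rTensor (A ⊗[R] A)
        (LinearMap.lTensor E (Coalgebra.comul (R := R)) y)) := by
  induction y using TensorProduct.induction_on with
  | zero => simp
  | tmul v b => simp
  | add y z hy hz => simp only [map_add, hy, hz]

lemma lid_rTensor_assoc (φ : Module.Dual R E) (y : E ⊗[R] A) (c : A) :
    TensorProduct.lid R (A ⊗[R] A) (φ.rTensor (A ⊗[R] A)
      (TensorProduct.assoc R E A A (y ⊗ₜ[R] c))) =
      TensorProduct.lid R A (φ.rTensor A y) ⊗ₜ[R] c := by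
  induction y using TensorProduct.induction_on with
  | zero => simp
  | tmul v b => simp [TensorProduct.smul_tmul']
  | add y z hy hz => simp only [TensorProduct.add_tmul, map_add, hy, hz]

include hcoord in
lemma comul_co (φ : Module.Dual R E) (x : E) :
    Coalgebra.comul (R := R) (co (A := A) φ x) =
      ∑ l, co (A := A) φ (e l) ⊗ₜ[R] co (A := A) (e' l) x := by
  have h := LinearMap.congr_fun (Comod.coassoc (k := R) (A := A) (V := E)) x
  simp only [LinearMap.comp_apply, LinearEquiv.coe_coe] at h
  rw [co_apply, comul_lid_rTensor, ← h]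
  conv_lhs => rw [coact_eq e e' hcoord x]
  simp only [map_sum, LinearMap.rTensor_tmul]
  refine Finset.sum_congr rfl (fun l _ => ?_)
  rw [lid_rTensor_assoc]
  rfl

/-- the matrix of the comodule in the coordinate system. -/
noncomputable def MM (k j : Fin n) : A := co (A := A) (e' k) (e j)

include hcoord in
lemma comul_MM (k j : Fin n) :
    Coalgebra.comul (R := R) (MM (A := A) e e' k j) =
      ∑ l, MM (A := A) e e' k l ⊗ₜ[R] MM (A := A) e e' l j :=
  comul_co e e' hcoord (e' k) (e j)

lemma counit_MM (k j : Fin n) :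
    Coalgebra.counit (R := R) (MM (A := A) e e' k j) = e' k (e j) :=
  counit_co (e' k) (e j)

include hcoord in
lemma co_eq_sum (φ : Module.Dual R E) (x : E) :
    co (A := A) φ x = ∑ l, φ (e l) • co (A := A) (e' l) x := by
  rw [co_apply]
  conv_lhs => rw [coact_eq e e' hcoord x]
  simp only [map_sum, LinearMap.rTensor_tmul, TensorProduct.lid_tmul]

include hcoord in
lemma co_eq_sum' (φ : Module.Dual R E) (x : E) :
    co (A := A) φ x = ∑ l, e' l x • co (A := A) φ (e l) := by
  conv_lhs => rw [← hcoord x]
  simp only [map_sum, map_smul]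

include hcoord in
lemma sum_smul_MM (k j : Fin n) :
    ∑ i, e' k (e i) • MM (A := A) e e' i j = MM (A := A) e e' k j :=
  (co_eq_sum e e' hcoord (e' k) (e j)).symm

include hcoord in
lemma sum_smul_MM' (k j : Fin n) :
    ∑ l, e' l (e j) • MM (A := A) e e' k l = MM (A := A) e e' k j :=
  (co_eq_sum' e e' hcoord (e' k) (e j)).symm

include hcoord in
lemma co_mem_span (φ : Module.Dual R E) (x : E) :
    co (A := A) φ x ∈ Submodule.span R (Set.range (fun q : Fin n × Fin n => MM (A := A) e e' q.1 q.2)) := by
  rw [co_eq_sum e e' hcoord φ x]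
  refine Submodule.sum_mem _ (fun l _ => Submodule.smul_mem _ _ ?_)
  rw [co_eq_sum' e e' hcoord (e' l) x]
  refine Submodule.sum_mem _ (fun j _ => Submodule.smul_mem _ _ ?_)
  exact Submodule.subset_span ⟨(l, j), rfl⟩

end Groth.Agent.Lib.Helper7.CorepProj
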