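import Groth.Agent.Lib.Helper7.LK2
import Groth.Agent.Lib.Helper7.GITBasic

/-!
# One-dimensional groups: basic facts (helper7)

Points of finitely generated algebras over an algebraically closed field, facts on
one-dimensional domains, translations by points, small `ConnSet` lemmas.
-/

set_option autoImplicit false

universe u v w

open TensorProduct WithConv

open scoped commutatorElement

namespace Groth.Agent.Lib.Helper7.D1

open HopfRep Groth.Agent.Lib.Helper7.Comod Groth.Agent.Lib.Helper7.LK

section Points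

variable {k : Type u} [Field k] [IsAlgClosed k] {A : Type v} [CommRing A] [Algebra k A]
  [Algebra.FiniteType k A]

lemma exists_point_of_ne_top (J : Ideal A) (hJ : J ≠ ⊤) : ∃ g : A →ₐ[k] k, ∀ a ∈ J, g a = 0 := by
  obtain ⟨z, hz⟩ := exists_algHom_of_ne_top (k := k) J hJ
  exact ⟨z, fun a ha => hz ha⟩

lemma isUnit_of_forall_point_ne_zero (a : A) (h : ∀ g : A →ₐ[k] k, g a ≠ 0) : IsUnit a := by
  by_contra hu
  have hne : Ideal.span {a} ≠ ⊤ := by
    rwa [Ne, Ideal.span_singleton_eq_top]
  obtain ⟨g, hg⟩ := exists_point_of_ne_top (k := k) _ hne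
  exact h g (hg a (Ideal.subset_span rfl))

lemma eq_zero_of_forall_point [IsReduced A] (a : A) (h : ∀ g : A →ₐ[k] k, g a = 0) : a = 0 :=
  (isNilpotent_of_forall_algHom_eq_zero (k := k) a h).eq_zero

omit [IsAlgClosed k] [Algebra.FiniteType k A] in
/-- a point is determined by its kernel. -/
lemma point_eq_of_ker_le (g h : A →ₐ[k] k) (hk : RingHom.ker g ≤ RingHom.ker h) : g = h := by
  apply AlgHom.ext
  intro a
  have h1 : a - algebraMap k A (g a) ∈ RingHom.ker g := by
    rw [RingHom.mem_ker, map_sub, AlgHom.commutes]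
    simp
  have h2 := hk h1
  rw [RingHom.mem_ker, map_sub, AlgHom.commutes, sub_eq_zero] at h2
  simpa using h2.symm

end Points

section DimOne

variable {k : Type u} [Field k] [IsAlgClosed k] {A : Type v} [CommRing A] [Algebra k A]
  [Algebra.FiniteType k A] [IsDomain A] [Ring.KrullDimLE 1 A]

theorem finite_quotient {a : A} (ha : a ≠ 0) : Module.Finite k (A ⧸ Ideal.span {a}) := by
  haveI : Algebra.FiniteType k (A ⧸ Ideal.span {a}) :=
    Algebra.FiniteType.of_surjective (Ideal.Quotient.mkₐ k _) (Ideal.Quotient.mkₐ_surjective k _)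
  rw [Module.finite_iff_krullDimLE_zero]
  apply Ring.KrullDimLE.mk₀
  intro P hP
  have hcomap : (P.comap (Ideal.Quotient.mk (Ideal.span {a}))).IsPrime := Ideal.comap_isPrime _ _
  have hne : P.comap (Ideal.Quotient.mk (Ideal.span {a})) ≠ ⊥ := by
    intro h0
    have : a ∈ P.comap (Ideal.Quotient.mk (Ideal.span {a})) := by
      rw [Ideal.mem_comap]
      have : Ideal.Quotient.mk (Ideal.span {a}) a = 0 :=
        Ideal.Quotient.eq_zero_iff_mem.2 (Ideal.subset_span rfl)
      rw [this]
      exact Ideal.zero_mem _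
    rw [h0, Ideal.mem_bot] at this
    exact ha this
  have hmax := hcomap.isMaximal_of_ne_bot hne
  have : P = (P.comap (Ideal.Quotient.mk (Ideal.span {a}))).map
      (Ideal.Quotient.mk (Ideal.span {a})) :=
    (Ideal.map_comap_of_surjective _ Ideal.Quotient.mk_surjective P).symm
  rw [this]
  exact (Ideal.map_eq_top_or_isMaximal_of_surjective _ Ideal.Quotient.mk_surjective hmax).resolve_left
    (by rw [← this]; exact hP.ne_top)

theorem finite_zeros {a : A} (ha : a ≠ 0) : {g : A →ₐ[k] k | g a = 0}.Finite := by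
  haveI := finite_quotient (k := k) ha
  haveI : Finite ((A ⧸ Ideal.span {a}) →ₐ[k] k) := Finite.algHom k _ k
  let φ : {g : A →ₐ[k] k | g a = 0} → ((A ⧸ Ideal.span {a}) →ₐ[k] k) := fun g =>
    Ideal.Quotient.liftₐ (Ideal.span {a}) g.1 (by
      intro b hb
      obtain ⟨c, rfl⟩ := Ideal.mem_span_singleton'.1 hb
      rw [map_mul, g.2, mul_zero])
  have hφ : Function.Injective φ := by
    intro g h hgh
    apply Subtype.ext
    apply AlgHom.ext
    intro b
    have := AlgHom.congr_fun hgh (Ideal.Quotient.mk _ b)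
    simpa [φ] using this
  exact Set.finite_coe_iff.1 (Finite.of_injective φ hφ)

/-- an element vanishing at infinitely many points is zero. -/
theorem eq_zero_of_infinite_zeros (a : A) (S : Set (A →ₐ[k] k)) (hS : S.Infinite)
    (h : ∀ g ∈ S, g a = 0) : a = 0 := by
  by_contra ha
  exact hS ((finite_zeros (k := k) ha).subset h)

end DimOne

section Transl

variable {k : Type u} [Field k] {A : Type v} [CommRing A] [HopfAlgebra k A]

/-- the constant map with value the point `γ`, as an `A`-valued point. -/
noncomputable def cst (γ : WithConv (A →ₐ[k] k)) : WithConv (A →ₐ[k] A) :=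
  toConv ((Algebra.ofId k A).comp γ.ofConv)

/-- the identity as an `A`-valued point. -/
noncomputable def idp : WithConv (A →ₐ[k] A) := toConv (AlgHom.id k A)

lemma postHom_idp (g : WithConv (A →ₐ[k] k)) : postHom g.ofConv (idp (k := k) (A := A)) = g := by
  apply WithConv.ofConv_injective
  apply AlgHom.ext
  intro a
  simp [idp]

lemma postHom_cst (g γ : WithConv (A →ₐ[k] k)) : postHom g.ofConv (cst γ) = γ := by
  apply WithConv.ofConv_injective
  apply AlgHom.ext
  intro a
  simp [cst, Algebra.ofId_apply]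

/-- right translation by a point: `(R_γ f)(g) = f(gγ)`. -/
noncomputable def Rt (γ : WithConv (A →ₐ[k] k)) : A →ₐ[k] A :=
  (idp (k := k) (A := A) * cst γ).ofConv

lemma apply_Rt (g γ : WithConv (A →ₐ[k] k)) (a : A) :
    g.ofConv (Rt γ a) = (g * γ).ofConv a := by
  have : postHom g.ofConv (idp (k := k) (A := A) * cst γ) = g * γ := by
    rw [map_mul, postHom_idp, postHom_cst]
  rw [← this]
  rfl

/-- the `n`-th power map. -/
noncomputable def powMap (n : ℕ) : A →ₐ[k] A := ((idp (k := k) (A := A)) ^ n).ofConv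

lemma apply_powMap (g : WithConv (A →ₐ[k] k)) (n : ℕ) (a : A) :
    g.ofConv (powMap (k := k) n a) = (g ^ n).ofConv a := by
  have : postHom g.ofConv ((idp (k := k) (A := A)) ^ n) = g ^ n := by
    rw [map_pow, postHom_idp]
  rw [← this]
  rfl

/-- the image of a connected-dense set under a morphism `G → G`. -/
theorem connSet_image (φ : WithConv (A →ₐ[k] A)) {X : Set (WithConv (A →ₐ[k] k))}
    (hX : ConnSet X) : ConnSet ((fun x : WithConv (A →ₐ[k] k) => postHom x.ofConv φ) '' X) := by
  intro a ha
  have h1 := hX (φ.ofConv a) (fun x hx => ha _ ⟨x, hx, rfl⟩)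
  rcases h1 with h | h
  · left
    rintro _ ⟨x, hx, rfl⟩
    exact h x hx
  · right
    rintro _ ⟨x, hx, rfl⟩
    exact h x hx

end Transl

section FiniteConn

variable {k : Type u} [Field k] {A : Type v} [CommRing A] [HopfAlgebra k A]

/-- a finite connected-dense set of points has at most one element. -/
theorem eq_of_connSet_of_finite {X : Set (WithConv (A →ₐ[k] k))} (hX : ConnSet X) (hfin : X.Finite)
    {x y : WithConv (A →ₐ[k] k)} (hx : x ∈ X) (hy : y ∈ X) : x = y := by
  classical
  by_contra hne
  -- separate `x` from the other points of `X`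
  have hmax : ∀ z : WithConv (A →ₐ[k] k), (RingHom.ker z.ofConv).IsMaximal := fun z =>
    RingHom.ker_isMaximal_of_surjective _ (fun c => ⟨algebraMap k A c, by simp⟩)
  -- for every `z ∈ X`, `z ≠ x`, an element vanishing at `z` with value `1` at `x`
  have hsep : ∀ z : WithConv (A →ₐ[k] k), z ≠ x → ∃ a : A, z.ofConv a = 0 ∧ x.ofConv a = 1 := by
    intro z hz
    have hnle : ¬ RingHom.ker z.ofConv ≤ RingHom.ker x.ofConv := by
      intro hle
      apply hz
      apply WithConv.ofConv_injective
      exact point_eq_of_ker_le _ _ hle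
    obtain ⟨a, haz, hax⟩ := Set.not_subset.1 hnle
    have hax' : x.ofConv a ≠ 0 := hax
    refine ⟨(x.ofConv a)⁻¹ • a, ?_, ?_⟩
    · rw [map_smul, (RingHom.mem_ker).1 haz, smul_zero]
    · rw [map_smul, smul_eq_mul, inv_mul_cancel₀ hax']
  choose! s hs0 hs1 using hsep
  let S : Finset (WithConv (A →ₐ[k] k)) := hfin.toFinset.erase x
  let e : A := ∏ z ∈ S, s z
  have hex : x.ofConv e = 1 := by
    simp only [e, map_prod]
    apply Finset.prod_eq_one
    intro z hz
    exact hs1 z (Finset.ne_of_mem_erase hz)
  have hez : ∀ z ∈ X, z ≠ x → z.ofConv e = 0 := by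
    intro z hzX hz
    simp only [e, map_prod]
    apply Finset.prod_eq_zero (i := z)
    · exact Finset.mem_erase.2 ⟨hz, hfin.mem_toFinset.2 hzX⟩
    · exact hs0 z hz
  have h01 : ∀ z ∈ X, z.ofConv e = 0 ∨ z.ofConv e = 1 := by
    intro z hz
    by_cases hzx : z = x
    · right
      rw [hzx, hex]
    · left
      exact hez z hz hzx
  rcases hX e h01 with h | h
  · have := h x hx
    rw [hex] at this
    exact one_ne_zero this
  · have := h y hy
    rw [hez y hy (Ne.symm hne)] at this
    exact zero_ne_one this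

end FiniteConn

end Groth.Agent.Lib.Helper7.D1
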