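import Groth.Agent.Lib.Helper7.HopfFinite

/-!
# Cartier's theorem: finitely generated commutative Hopf algebras in characteristic zero are reduced
(helper7)
-/

universe u v

open TensorProduct

namespace Groth.Agent.Lib.Helper7.HopfCartier

open HopfRep Groth.Agent.Lib.Helper7.Comod Groth.Agent.Lib.Helper7.HopfCot
  Groth.Agent.Lib.Helper7.HopfFin

section Step1

variable {k : Type u} [Field k] [CharZero k] {A : Type v} [CommRing A] [Bialgebra k A]
  [Algebra.FiniteType k A]

/-- In characteristic zero, nilpotent elements of a finitely generated commutative bialgebra lie in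
every power of the augmentation ideal. -/
theorem mem_pow_of_isNilpotent {y : A} (hy : IsNilpotent y) (n : ℕ) : y ∈ augI k A ^ n := by
  classical
  haveI : Module.Finite k (augI k A).Cotangent := finite_cotangent (k := k) (A := A)
  let b := Module.finBasis k (augI k A).Cotangent
  have hsurj : ∀ i, ∃ xi : augI k A, (augI k A).toCotangent xi = b i :=
    fun i => Ideal.toCotangent_surjective _ (b i)
  choose xi hxi using hsurj
  let x : Fin (Module.finrank k (augI k A).Cotangent) → A := fun i => (xi i : A)
  have hxI : ∀ i, x i ∈ augI k A := fun i => (xi i).2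
  have hxb : ∀ i, (augI k A).toCotangent ⟨x i, hxI i⟩ = b i := fun i => hxi i
  obtain ⟨e0, he0⟩ := hy
  set e := e0 + 1 with hedef
  have he : y ^ e = 0 := by rw [hedef, pow_succ, he0, zero_mul]
  induction n with
  | zero => rw [pow_zero, Ideal.one_eq_top]; exact Submodule.mem_top
  | succ n ih =>
    obtain ⟨h, hh, a', ha', hsum⟩ := Submodule.mem_sup.1 (pow_le_Hn_sup b x hxI hxb n ih)
    obtain ⟨P, hP, rfl⟩ := hh
    change a' ∈ augI k A ^ (n + 1) at ha'
    simp only [AlgHom.toLinearMap_apply] at hsum
    have hPh : P.IsHomogeneous n := hP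
    have haI : MvPolynomial.aeval x P ∈ augI k A ^ n := aeval_mem_pow_of_isHomogeneous hxI hPh
    -- `(aeval x P)^e ∈ I^(n e + 1)`
    have hmem : MvPolynomial.aeval x (P ^ e) ∈ augI k A ^ (n * e + 1) := by
      rw [map_pow]
      have hgs := (Commute.all (MvPolynomial.aeval x P) y).geom_sum₂_mul e
      rw [he, sub_zero] at hgs
      rw [← hgs]
      have hd : MvPolynomial.aeval x P - y = -a' := by rw [← hsum]; ring
      rw [hd]
      have hexp : n * e + 1 = n * e0 + (n + 1) := by rw [hedef]; ring
      rw [hexp, pow_add]
      refine Ideal.mul_mem_mul (Ideal.sum_mem _ (fun i hi => ?_)) (Ideal.neg_mem_iff _ |>.2 ha')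
      have hi' : i < e := Finset.mem_range.1 hi
      have hexp2 : n * e0 = n * i + n * (e - 1 - i) := by
        rw [← Nat.mul_add]
        congr 1
        omega
      rw [hexp2, pow_add, pow_mul, pow_mul]
      exact Ideal.mul_mem_mul (Ideal.pow_mem_pow haI _) (Ideal.pow_mem_pow ih _)
    have hP0 : P ^ e = 0 :=
      eq_zero_of_aeval_mem b x hxI hxb (n * e)
        (Nat.cast_ne_zero.2 (Nat.factorial_ne_zero _)) (P ^ e) (hPh.pow e) hmem
    have hP0' : P = 0 := pow_eq_zero_iff (by omega) |>.1 hP0
    rw [hP0', map_zero, zero_add] at hsum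
    rw [← hsum]
    exact ha'

/-- In characteristic zero, a nilpotent element `y` of a finitely generated commutative bialgebra
satisfies `r * y = y` for some `r` in the augmentation ideal. -/
theorem exists_mul_eq_self_of_isNilpotent {y : A} (hy : IsNilpotent y) :
    ∃ r ∈ augI k A, r * y = y := by
  haveI : IsNoetherianRing A := Algebra.FiniteType.isNoetherianRing k A
  have hmem : y ∈ (⨅ i : ℕ, augI k A ^ i • ⊤ : Submodule A A) := by
    rw [Submodule.mem_iInf]
    intro i
    have : (augI k A ^ i • ⊤ : Submodule A A) = augI k A ^ i := by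
      rw [smul_eq_mul, Ideal.mul_top]
    rw [this]
    exact mem_pow_of_isNilpotent (k := k) hy i
  obtain ⟨r, hr⟩ := ((augI k A).mem_iInf_smul_pow_eq_bot_iff y).1 hmem
  exact ⟨r, r.2, hr⟩

end Step1

section Step3

/-- Cartier's theorem over an algebraically closed field of characteristic zero. -/
theorem isReduced_of_isAlgClosed (k : Type u) [Field k] [CharZero k] [IsAlgClosed k]
    (A : Type v) [CommRing A] [HopfAlgebra k A] [Algebra.FiniteType k A] : IsReduced A := by
  constructor
  intro y hy
  -- the annihilator of `y` is contained in no `ker g`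
  by_contra hy0
  have hann : (Ideal.span {y}).annihilator ≠ ⊤ := by
    intro h
    apply hy0
    have h1 : (1 : A) ∈ (Ideal.span {y}).annihilator := by rw [h]; exact Submodule.mem_top
    have := Submodule.mem_annihilator.1 h1 y (Ideal.subset_span (Set.mem_singleton _))
    simpa using this
  obtain ⟨g, hg⟩ := exists_algHom_of_ne_top (k := k) _ hann
  set G : WithConv (A →ₐ[k] k) := WithConv.toConv g with hG
  -- translate
  have hTy : IsNilpotent (Comod.act k A A g y) := by
    obtain ⟨n, hn⟩ := hy
    refine ⟨n, ?_⟩
    have hpow : ∀ m : ℕ, Comod.act k A A g (y ^ m) = (Comod.act k A A g y) ^ m := by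
      intro m
      induction m with
      | zero =>
        rw [pow_zero, pow_zero]
        have := act_regular_mul g 1 1
        rw [mul_one] at this
        -- `T 1 = 1`
        rw [act_eq_contr]
        change contr A g.toLinearMap (Coalgebra.comul (R := k) (1 : A)) = 1
        rw [Bialgebra.comul_one, Algebra.TensorProduct.one_def, contr_tmul]
        simp
      | succ m ih => rw [pow_succ, act_regular_mul, ih, pow_succ]
    rw [← hpow, hn, map_zero]
  obtain ⟨r, hr, hry⟩ := exists_mul_eq_self_of_isNilpotent (k := k) hTy
  -- apply the inverse translation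
  have h2 := congrArg (Comod.act k A A G⁻¹.ofConv) hry
  rw [act_regular_mul] at h2
  have h3 : Comod.act k A A G⁻¹.ofConv (Comod.act k A A g y) = y := act_inv_act G y
  rw [h3] at h2
  set s := Comod.act k A A G⁻¹.ofConv r with hs
  have hsker : g s = 0 := by
    rw [← counit_act_regular g s]
    have e : Comod.act k A A g (Comod.act k A A G⁻¹.ofConv r) = r := by
      have := act_inv_act (G⁻¹) r
      rw [inv_inv] at this
      exact this
    rw [hs, e]
    exact (mem_augI r).1 hr
  have hmem : (1 - s) ∈ (Ideal.span {y}).annihilator := by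
    rw [Submodule.mem_annihilator]
    intro z hz
    obtain ⟨c, rfl⟩ := Ideal.mem_span_singleton'.1 hz
    rw [smul_eq_mul]
    calc (1 - s) * (c * y) = c * (y - s * y) := by ring
      _ = 0 := by rw [h2, sub_self, mul_zero]
  have := hg hmem
  rw [RingHom.mem_ker, map_sub, map_one, hsker, sub_zero] at this
  exact one_ne_zero this

end Step3

end Groth.Agent.Lib.Helper7.HopfCartier

namespace Groth.Agent.Lib.Helper7.HopfCartier

/-- **Cartier's theorem**: a finitely generated commutative Hopf algebra over a field of
characteristic zero is reduced. -/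
theorem isReduced (k : Type u) [Field k] [CharZero k]
    (A : Type v) [CommRing A] [HopfAlgebra k A] [Algebra.FiniteType k A] : IsReduced A := by
  haveI : CharZero (AlgebraicClosure k) := charZero_of_injective_algebraMap
    (FaithfulSMul.algebraMap_injective k (AlgebraicClosure k))
  haveI : IsReduced (AlgebraicClosure k ⊗[k] A) :=
    isReduced_of_isAlgClosed (AlgebraicClosure k) (AlgebraicClosure k ⊗[k] A)
  have hinj : Function.Injective
      (Algebra.TensorProduct.includeRight : A →ₐ[k] AlgebraicClosure k ⊗[k] A) :=
    Algebra.TensorProduct.includeRight_injective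
      (FaithfulSMul.algebraMap_injective k (AlgebraicClosure k))
  exact isReduced_of_injective
    (Algebra.TensorProduct.includeRight : A →ₐ[k] AlgebraicClosure k ⊗[k] A) hinj

end Groth.Agent.Lib.Helper7.HopfCartier
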