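import Groth.Agent.Lib.Helper7.HopfFrobKer
import Mathlib.RingTheory.HopfAlgebra.TensorProduct
import Mathlib.RingTheory.LocalRing.Module

/-!
# Group schemes of height one over a local ring are truncated polynomial algebras (helper7)
-/

universe u v

open TensorProduct

namespace Groth.Agent.Lib.Helper7.HeightOne

open Groth.Agent.Lib.Helper7.HopfCot Groth.Agent.Lib.Helper7.FrobKer

section Poly

variable {K : Type u} [CommRing K] {B : Type v} [CommRing B] [Algebra K B]
  {σ : Type} (m : ℕ)

/-- the index set of reduced monomials. -/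
abbrev Idx (σ : Type) (m : ℕ) : Type := {n : σ →₀ ℕ // ∀ i, n i ≤ m}

/-- the reduced monomials in a family `x`. -/
noncomputable def mono (K : Type u) [CommRing K] {B : Type v} [CommRing B] [Algebra K B]
    {σ : Type} (m : ℕ) (x : σ → B) : Idx σ m → B :=
  fun α => MvPolynomial.aeval x (MvPolynomial.monomial α.1 (1 : K))

lemma mono_eq (x : σ → B) (α : Idx σ m) :
    mono K m x α = α.1.prod fun i e => x i ^ e := by
  unfold mono
  rw [MvPolynomial.aeval_monomial, map_one, one_mul]

lemma aeval_monomial_eq (x : σ → B) (α : Idx σ m) (c : K) :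
    MvPolynomial.aeval x (MvPolynomial.monomial α.1 c) = c • mono K m x α := by
  unfold mono
  rw [MvPolynomial.aeval_monomial, MvPolynomial.aeval_monomial, map_one, one_mul,
    Algebra.smul_def]

lemma aeval_eq_sum [DecidablePred fun n : σ →₀ ℕ => ∀ i, n i ≤ m] (x : σ → B)
    (P : MvPolynomial σ K) (hP : P ∈ MvPolynomial.restrictDegree σ K m) :
    MvPolynomial.aeval x P =
      ∑ i ∈ P.support.subtype (fun n : σ →₀ ℕ => ∀ i, n i ≤ m),
        MvPolynomial.coeff i.1 P • mono K m x i := by
  classical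
  rw [MvPolynomial.mem_restrictDegree] at hP
  conv_lhs => rw [P.as_sum, map_sum]
  rw [← Finset.sum_subtype_of_mem (fun n => MvPolynomial.aeval x
    (MvPolynomial.monomial n (MvPolynomial.coeff n P))) (p := fun n : σ →₀ ℕ => ∀ i, n i ≤ m) hP]
  refine Finset.sum_congr rfl (fun i _ => ?_)
  exact aeval_monomial_eq m x i _

lemma linearIndependent_mono (x : σ → B)
    (h : ∀ P ∈ MvPolynomial.restrictDegree σ K m, MvPolynomial.aeval x P = 0 → P = 0) :
    LinearIndependent K (mono K m x) := by
  classical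
  rw [linearIndependent_iff']
  intro s g hsum i hi
  set P : MvPolynomial σ K := ∑ j ∈ s, MvPolynomial.monomial j.1 (g j) with hPdef
  have hPr : P ∈ MvPolynomial.restrictDegree σ K m := by
    refine Submodule.sum_mem _ (fun j _ => ?_)
    unfold MvPolynomial.restrictDegree
    rw [MvPolynomial.monomial_mem_restrictSupport]
    exact Or.inl j.2
  have hP0 : MvPolynomial.aeval x P = 0 := by
    rw [hPdef, map_sum, ← hsum]
    exact Finset.sum_congr rfl (fun j _ => aeval_monomial_eq m x j _)
  have hP := h P hPr hP0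
  have hc : MvPolynomial.coeff i.1 P = g i := by
    rw [hPdef, MvPolynomial.coeff_sum]
    rw [Finset.sum_eq_single_of_mem i hi]
    · rw [MvPolynomial.coeff_monomial, if_pos rfl]
    · intro j _ hji
      rw [MvPolynomial.coeff_monomial, if_neg]
      intro h'
      exact hji (Subtype.ext h')
  rw [← hc, hP, MvPolynomial.coeff_zero]

lemma eq_zero_of_linearIndependent_mono (x : σ → B) (h : LinearIndependent K (mono K m x))
    (P : MvPolynomial σ K) (hP : P ∈ MvPolynomial.restrictDegree σ K m)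
    (h0 : MvPolynomial.aeval x P = 0) : P = 0 := by
  classical
  rw [aeval_eq_sum m x P hP] at h0
  rw [linearIndependent_iff'] at h
  have h1 := h _ (fun i => MvPolynomial.coeff i.1 P) h0
  ext n
  rw [MvPolynomial.coeff_zero]
  by_contra hn
  have hn' : n ∈ P.support := MvPolynomial.mem_support_iff.2 hn
  have hle := (MvPolynomial.mem_restrictDegree σ P m).1 hP n hn'
  exact hn (h1 ⟨n, hle⟩ (by rw [Finset.mem_subtype]; exact hn'))

/-- reduction of a polynomial modulo the `p`-th powers of the variables. -/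
lemma exists_reduced' (p : ℕ) (hp : 1 ≤ p) (Q : MvPolynomial σ K) :
    ∃ Q' ∈ MvPolynomial.restrictDegree σ K (p - 1),
      Q - Q' ∈ Ideal.span (Set.range fun i : σ => (MvPolynomial.X i : MvPolynomial σ K) ^ p) := by
  classical
  induction Q using MvPolynomial.induction_on' with
  | monomial α c =>
    by_cases h : ∀ i, α i ≤ p - 1
    · refine ⟨MvPolynomial.monomial α c, ?_, by rw [sub_self]; exact Ideal.zero_mem _⟩
      unfold MvPolynomial.restrictDegree
      rw [MvPolynomial.monomial_mem_restrictSupport]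
      exact Or.inl h
    · push Not at h
      obtain ⟨i, hi⟩ := h
      refine ⟨0, Submodule.zero_mem _, ?_⟩
      rw [sub_zero]
      have hle : Finsupp.single i p ≤ α := by
        rw [Finsupp.single_le_iff]
        omega
      have : MvPolynomial.monomial α c =
          MvPolynomial.monomial (α - Finsupp.single i p) c * (MvPolynomial.X i) ^ p := by
        rw [MvPolynomial.X_pow_eq_monomial, MvPolynomial.monomial_mul, mul_one,
          tsub_add_cancel_of_le hle]
      rw [this]
      exact Ideal.mul_mem_left _ _ (Ideal.subset_span ⟨i, rfl⟩)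
  | add Q₁ Q₂ h₁ h₂ =>
    obtain ⟨Q₁', h1r, h1⟩ := h₁
    obtain ⟨Q₂', h2r, h2⟩ := h₂
    refine ⟨Q₁' + Q₂', Submodule.add_mem _ h1r h2r, ?_⟩
    have : Q₁ + Q₂ - (Q₁' + Q₂') = (Q₁ - Q₁') + (Q₂ - Q₂') := by ring
    rw [this]
    exact Ideal.add_mem _ h1 h2

lemma aeval_eq_zero_of_mem_span (p : ℕ) (x : σ → B) (hx : ∀ i, x i ^ p = 0)
    (Q : MvPolynomial σ K)
    (hQ : Q ∈ Ideal.span (Set.range fun i : σ => (MvPolynomial.X i : MvPolynomial σ K) ^ p)) :
    MvPolynomial.aeval x Q = 0 := by
  have : Ideal.span (Set.range fun i : σ => (MvPolynomial.X i : MvPolynomial σ K) ^ p) ≤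
      RingHom.ker (MvPolynomial.aeval x : MvPolynomial σ K →ₐ[K] B) := by
    apply Ideal.span_le.2
    rintro _ ⟨i, rfl⟩
    change MvPolynomial.aeval x ((MvPolynomial.X i : MvPolynomial σ K) ^ p) = 0
    rw [map_pow, MvPolynomial.aeval_X, hx]
  exact this hQ

lemma span_mono_eq_top (p : ℕ) (hp : 1 ≤ p) (x : σ → B) (hx : ∀ i, x i ^ p = 0)
    (hs : Function.Surjective (MvPolynomial.aeval x : MvPolynomial σ K →ₐ[K] B)) :
    Submodule.span K (Set.range (mono K (p - 1) x)) = ⊤ := by
  classical
  rw [eq_top_iff]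
  intro z _
  obtain ⟨Q, rfl⟩ := hs z
  obtain ⟨Q', hQ'r, hQQ'⟩ := exists_reduced' p hp Q
  have h0 := aeval_eq_zero_of_mem_span p x hx _ hQQ'
  rw [map_sub, sub_eq_zero] at h0
  rw [h0, aeval_eq_sum (p - 1) x Q' hQ'r]
  exact Submodule.sum_mem _ (fun i _ => Submodule.smul_mem _ _ (Submodule.subset_span ⟨i, rfl⟩))

end Poly

section Local

variable (p : ℕ) [Fact p.Prime] (R : Type u) [CommRing R] [IsLocalRing R] [CharP R p]
  (A : Type u) [CommRing A] [HopfAlgebra R A]

local notation "κ" => IsLocalRing.ResidueField R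

/-- integrality from the height one condition. -/
lemma isIntegral_of_height_one (h1 : ∀ a : A, Bialgebra.counitAlgHom R A a = 0 → a ^ p = 0) :
    Algebra.IsIntegral R A := by
  refine ⟨fun a => ?_⟩
  have e : a = algebraMap R A (Bialgebra.counitAlgHom R A a) +
      (a - algebraMap R A (Bialgebra.counitAlgHom R A a)) := by ring
  rw [e]
  have hb : (a - algebraMap R A (Bialgebra.counitAlgHom R A a)) ^ p = 0 := by
    apply h1
    rw [map_sub, AlgHom.commutes, Algebra.algebraMap_self_apply, sub_self]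
  refine IsIntegral.add isIntegral_algebraMap ⟨Polynomial.X ^ p, Polynomial.monic_X_pow p, ?_⟩
  rw [Polynomial.eval₂_pow, Polynomial.eval₂_X]
  exact hb

lemma finite_of_height_one [Algebra.FiniteType R A]
    (h1 : ∀ a : A, Bialgebra.counitAlgHom R A a = 0 → a ^ p = 0) : Module.Finite R A := by
  haveI := isIntegral_of_height_one p R A h1
  exact Algebra.IsIntegral.finite

instance charP_residueField : CharP κ p := by
  have hp : (Fact.out : p.Prime) = (Fact.out : p.Prime) := rfl
  rw [CharP.charP_iff_prime_eq_zero (Fact.out : p.Prime)]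
  have : ((p : R) : R) = 0 := CharP.cast_eq_zero R p
  have h2 : (p : κ) = IsLocalRing.residue R (p : R) := by rw [map_natCast]
  rw [h2, this, map_zero]

lemma nontrivial_base : Nontrivial (κ ⊗[R] A) := by
  refine ⟨⟨0, 1, fun h => ?_⟩⟩
  have := congrArg (Coalgebra.counit (R := κ)) h
  rw [map_zero, Bialgebra.counit_one] at this
  exact zero_ne_one this

lemma charP_base : CharP (κ ⊗[R] A) p := by
  haveI := nontrivial_base R A
  exact charP_of_injective_algebraMap (algebraMap κ (κ ⊗[R] A)).injective p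

/-- the height one condition passes to the special fibre. -/
lemma sub_counit_pow_eq_zero (h1 : ∀ a : A, Bialgebra.counitAlgHom R A a = 0 → a ^ p = 0)
    (z : κ ⊗[R] A) :
    (z - algebraMap κ (κ ⊗[R] A) (Coalgebra.counit (R := κ) z)) ^ p = 0 := by
  haveI := charP_base p R A
  have hp0 : p ≠ 0 := (Fact.out : p.Prime).ne_zero
  induction z using TensorProduct.induction_on with
  | zero => simp [hp0]
  | tmul c a =>
    have e : c ⊗ₜ[R] a - algebraMap κ (κ ⊗[R] A) (Coalgebra.counit (R := κ) (c ⊗ₜ[R] a)) =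
        c ⊗ₜ[R] (a - algebraMap R A (Bialgebra.counitAlgHom R A a)) := by
      rw [TensorProduct.counit_tmul, CommSemiring.counit_apply,
        Algebra.TensorProduct.algebraMap_apply, Algebra.algebraMap_self_apply,
        TensorProduct.tmul_sub, Algebra.algebraMap_eq_smul_one (A := A),
        TensorProduct.tmul_smul, TensorProduct.smul_tmul']
      rfl
    rw [e, Algebra.TensorProduct.tmul_pow, h1, TensorProduct.tmul_zero]
    rw [map_sub, AlgHom.commutes, Algebra.algebraMap_self_apply, sub_self]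
  | add z₁ z₂ h₁ h₂ =>
    have e : z₁ + z₂ - algebraMap κ (κ ⊗[R] A) (Coalgebra.counit (R := κ) (z₁ + z₂)) =
        (z₁ - algebraMap κ (κ ⊗[R] A) (Coalgebra.counit (R := κ) z₁)) +
          (z₂ - algebraMap κ (κ ⊗[R] A) (Coalgebra.counit (R := κ) z₂)) := by
      rw [map_add, map_add]; ring
    rw [e, add_pow_char, h₁, h₂, add_zero]

lemma pow_eq_zero_of_mem_augI (h1 : ∀ a : A, Bialgebra.counitAlgHom R A a = 0 → a ^ p = 0)
    (z : κ ⊗[R] A) (hz : z ∈ augI κ (κ ⊗[R] A)) : z ^ p = 0 := by
  have := sub_counit_pow_eq_zero p R A h1 z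
  rwa [(mem_augI z).1 hz, map_zero, sub_zero] at this

lemma isLocalRing_base (h1 : ∀ a : A, Bialgebra.counitAlgHom R A a = 0 → a ^ p = 0) :
    IsLocalRing (κ ⊗[R] A) := by
  haveI := nontrivial_base R A
  have key : ∀ z : κ ⊗[R] A, Coalgebra.counit (R := κ) z ≠ 0 → IsUnit z := by
    intro z hz
    have e : z = algebraMap κ (κ ⊗[R] A) (Coalgebra.counit (R := κ) z) +
        (z - algebraMap κ (κ ⊗[R] A) (Coalgebra.counit (R := κ) z)) := by ring
    rw [e]
    have hu : IsUnit (algebraMap κ (κ ⊗[R] A) (Coalgebra.counit (R := κ) z)) :=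
      (IsUnit.mk0 _ hz).map _
    have hn : IsNilpotent (z - algebraMap κ (κ ⊗[R] A) (Coalgebra.counit (R := κ) z)) :=
      ⟨p, sub_counit_pow_eq_zero p R A h1 z⟩
    exact hn.isUnit_add_left_of_commute hu (Commute.all _ _)
  refine IsLocalRing.of_isUnit_or_isUnit_one_sub_self (fun z => ?_)
  by_cases hz : Coalgebra.counit (R := κ) z = 0
  · right
    apply key
    rw [map_sub, Bialgebra.counit_one, hz, sub_zero]
    exact one_ne_zero
  · left
    exact key z hz

lemma one_tmul_mono (n m : ℕ) (x : Fin n → A) (α : Idx (Fin n) m) :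
    (1 : κ) ⊗ₜ[R] mono R m x α = mono κ m (fun i => (1 : κ) ⊗ₜ[R] x i) α := by
  rw [mono_eq, mono_eq]
  change (Algebra.TensorProduct.includeRight : A →ₐ[R] κ ⊗[R] A) _ = _
  rw [map_finsuppProd]
  refine Finsupp.prod_congr (fun i _ => ?_)
  rw [map_pow]
  rfl

/-- SGA3 VII_A 7.4 (iv) ⟹ (ii) over a local base. -/
theorem exists_algEquiv [Algebra.FinitePresentation R A] [Module.Flat R A]
    (h1 : ∀ a : A, Bialgebra.counitAlgHom R A a = 0 → a ^ p = 0) :
    ∃ n : ℕ, Nonempty (A ≃ₐ[R] (MvPolynomial (Fin n) R ⧸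
      Ideal.span (Set.range fun i : Fin n => (MvPolynomial.X i : MvPolynomial (Fin n) R) ^ p))) := by
  classical
  have hp1 : 1 ≤ p := (Fact.out : p.Prime).one_le
  haveI : Module.Finite R A := finite_of_height_one p R A h1
  haveI : IsLocalRing (κ ⊗[R] A) := isLocalRing_base p R A h1
  haveI : Module.Finite κ (κ ⊗[R] A) := inferInstance
  haveI : Module.Finite κ (augI κ (κ ⊗[R] A)).Cotangent := by
    haveI : IsNoetherian κ (κ ⊗[R] A) := inferInstance
    haveI : Module.Finite κ (augI κ (κ ⊗[R] A)) := Module.Finite.of_injective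
      ((augI κ (κ ⊗[R] A)).restrictScalars κ).subtype Subtype.val_injective
    exact Module.Finite.of_surjective ((augI κ (κ ⊗[R] A)).toCotangent.restrictScalars κ)
      (Ideal.toCotangent_surjective _)
  obtain ⟨d, hd⟩ : ∃ d, Module.finrank κ (augI κ (κ ⊗[R] A)).Cotangent = d := ⟨_, rfl⟩
  let b := Module.finBasisOfFinrankEq κ (augI κ (κ ⊗[R] A)).Cotangent hd
  have hlift : ∀ i : Fin d, ∃ x : A, Bialgebra.counitAlgHom R A x = 0 ∧
      ∃ h : (1 : κ) ⊗ₜ[R] x ∈ augI κ (κ ⊗[R] A),
        (augI κ (κ ⊗[R] A)).toCotangent ⟨_, h⟩ = b i := by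
    intro i
    obtain ⟨⟨z, hz⟩, hzb⟩ := Ideal.toCotangent_surjective _ (b i)
    obtain ⟨y, hy⟩ := TensorProduct.mk_surjective R A κ Ideal.Quotient.mk_surjective z
    change (1 : κ) ⊗ₜ[R] y = z at hy
    have hcy : Coalgebra.counit (R := R) y • (1 : κ) = 0 := by
      have := (mem_augI z).1 hz
      rwa [← hy, TensorProduct.counit_tmul, CommSemiring.counit_apply] at this
    have e : (1 : κ) ⊗ₜ[R] (y - algebraMap R A (Bialgebra.counitAlgHom R A y)) = z := by
      rw [TensorProduct.tmul_sub, hy, Algebra.algebraMap_eq_smul_one (A := A),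
        TensorProduct.tmul_smul, TensorProduct.smul_tmul']
      change z - (Coalgebra.counit (R := R) y • (1 : κ)) ⊗ₜ[R] (1 : A) = z
      rw [hcy, TensorProduct.zero_tmul, sub_zero]
    refine ⟨y - algebraMap R A (Bialgebra.counitAlgHom R A y), ?_, ?_⟩
    · rw [map_sub, AlgHom.commutes, Algebra.algebraMap_self_apply, sub_self]
    · refine ⟨by rw [e]; exact hz, ?_⟩
      rw [← hzb]
      congr 1
      exact Subtype.ext e
  choose x hx0 hxI hxb using hlift
  set xb : Fin d → κ ⊗[R] A := fun i => (1 : κ) ⊗ₜ[R] x i with hxbdef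
  have hx : ∀ i, x i ^ p = 0 := fun i => h1 _ (hx0 i)
  have hindκ : LinearIndependent κ (mono κ (p - 1) xb) := by
    refine linearIndependent_mono (p - 1) xb (fun P hP h0 => ?_)
    refine eq_zero_of_aeval_mem p b xb hxI hxb ⊥ bot_le (fun l a ha => ?_) P hP ?_
    · rw [Ideal.mem_bot] at ha ⊢
      rw [ha, map_zero]
    · rw [h0]; exact Ideal.zero_mem _
  have hspanκ : Submodule.span κ (Set.range (mono κ (p - 1) xb)) = ⊤ :=
    span_mono_eq_top p hp1 xb (fun i => pow_eq_zero_of_mem_augI p R A h1 _ (hxI i))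
      (aeval_surjective b xb hxI hxb)
  have hcomp : TensorProduct.mk R κ A 1 ∘ mono R (p - 1) x = mono κ (p - 1) xb :=
    funext (fun α => one_tmul_mono R A d (p - 1) x α)
  have hindR : LinearIndependent R (mono R (p - 1) x) :=
    Module.IsLocalRing.linearIndependent_of_flat _ (by rw [hcomp]; exact hindκ)
  have hspanR : Submodule.span R (Set.range (mono R (p - 1) x)) = ⊤ :=
    IsLocalRing.span_eq_top_of_tmul_eq_basis (mono R (p - 1) x)
      (Module.Basis.mk hindκ hspanκ.ge) (fun α => by
        rw [Module.Basis.mk_apply]; exact one_tmul_mono R A d (p - 1) x α)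
  let φ : (MvPolynomial (Fin d) R ⧸ Ideal.span (Set.range fun i : Fin d =>
      (MvPolynomial.X i : MvPolynomial (Fin d) R) ^ p)) →ₐ[R] A :=
    Ideal.Quotient.liftₐ _ (MvPolynomial.aeval x)
      (fun Q hQ => aeval_eq_zero_of_mem_span p x hx Q hQ)
  have hφ : ∀ Q, φ (Ideal.Quotient.mk _ Q) = MvPolynomial.aeval x Q := fun Q => rfl
  have hinj : Function.Injective φ := by
    rw [injective_iff_map_eq_zero]
    intro q hq
    obtain ⟨Q, rfl⟩ := Ideal.Quotient.mk_surjective q
    rw [hφ] at hq
    obtain ⟨Q', hQ'r, hQQ'⟩ := exists_reduced' p hp1 Q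
    have h0 := aeval_eq_zero_of_mem_span p x hx _ hQQ'
    rw [map_sub, hq, zero_sub, neg_eq_zero] at h0
    have hQ'0 := eq_zero_of_linearIndependent_mono (p - 1) x hindR Q' hQ'r h0
    rw [hQ'0, sub_zero] at hQQ'
    exact Ideal.Quotient.eq_zero_iff_mem.2 hQQ'
  have hsurj : Function.Surjective φ := by
    rw [← AlgHom.range_eq_top, eq_top_iff]
    intro a _
    have ha : a ∈ Submodule.span R (Set.range (mono R (p - 1) x)) := by
      rw [hspanR]; trivial
    have hle : Submodule.span R (Set.range (mono R (p - 1) x)) ≤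
        Subalgebra.toSubmodule φ.range := by
      apply Submodule.span_le.2
      rintro _ ⟨α, rfl⟩
      exact ⟨Ideal.Quotient.mk _ (MvPolynomial.monomial α.1 (1 : R)), rfl⟩
    exact hle ha
  exact ⟨d, ⟨(AlgEquiv.ofBijective φ ⟨hinj, hsurj⟩).symm⟩⟩

end Local

end Groth.Agent.Lib.Helper7.HeightOne
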