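import Groth.Agent.Lib.Helper7.HopfSubFree
import Groth.Agent.Lib.Helper7.HeightOne

/-!
# The Frobenius image of a Hopf algebra over a perfect field, and the order of an infinitesimal
group scheme (helper7)
-/

universe u v

open TensorProduct

namespace Groth.Agent.Lib.Helper7.HopfSub

open Groth.Agent.Lib.Helper7.Comod HopfRep Groth.Agent.Lib.Helper7.HopfCot
  Groth.Agent.Lib.Helper7.FrobKer Groth.Agent.Lib.Helper7.HeightOne

section General

variable {k : Type u} [Field k] {C : Type v} [CommRing C] [Bialgebra k C]

lemma nontrivial_of_bialgebra (k : Type u) [Field k] (C : Type v) [CommRing C] [Bialgebra k C] :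
    Nontrivial C := by
  refine ⟨⟨0, 1, fun h => ?_⟩⟩
  have := congrArg (Coalgebra.counit (R := k)) h
  rw [map_zero, Bialgebra.counit_one] at this
  exact zero_ne_one this

lemma charP_of_bialgebra (k : Type u) [Field k] (C : Type v) [CommRing C] [Bialgebra k C]
    (p : ℕ) [CharP k p] : CharP C p := by
  haveI := nontrivial_of_bialgebra k C
  exact charP_of_injective_algebraMap (algebraMap k C).injective p

/-- a commutative algebra with an augmentation whose kernel consists of nilpotent elements is
local. -/
lemma isLocalRing_of_augmentation {D : Type v} [CommRing D] [Algebra k D] (ε : D →ₐ[k] k)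
    (h : ∀ x : D, ε x = 0 → IsNilpotent x) : IsLocalRing D := by
  haveI : Nontrivial D := by
    refine ⟨⟨0, 1, fun h0 => ?_⟩⟩
    have := congrArg ε h0
    rw [map_zero, map_one] at this
    exact zero_ne_one this
  have key : ∀ z : D, ε z ≠ 0 → IsUnit z := by
    intro z hz
    have e : z = algebraMap k D (ε z) + (z - algebraMap k D (ε z)) := by ring
    rw [e]
    have hu : IsUnit (algebraMap k D (ε z)) := (IsUnit.mk0 _ hz).map _
    have hn : IsNilpotent (z - algebraMap k D (ε z)) := by
      apply h
      rw [map_sub, AlgHom.commutes, Algebra.algebraMap_self_apply, sub_self]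
    exact hn.isUnit_add_left_of_commute hu (Commute.all _ _)
  refine IsLocalRing.of_isUnit_or_isUnit_one_sub_self (fun z => ?_)
  by_cases hz : ε z = 0
  · right
    apply key
    rw [map_sub, map_one, hz, sub_zero]
    exact one_ne_zero
  · left
    exact key z hz

end General

section SubLocal

variable {k : Type u} [Field k] {A : Type v} [CommRing A] [HopfAlgebra k A]
  (B : Subalgebra k A) [Module.Finite k A] [IsLocalRing A]

omit [IsLocalRing A] in
lemma finite_sub : Module.Finite k ↥B :=
  Module.Finite.of_injective B.val.toLinearMap Subtype.val_injective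

lemma isLocalRing_sub : IsLocalRing ↥B :=
  isLocalRing_of_augmentation (counitB B) (fun x hx => isNilpotent_of_mem_ker_counitB x hx)

end SubLocal

section Frob

variable {k : Type u} [Field k] [PerfectField k] (p : ℕ) [Fact p.Prime] [CharP k p]
  {A : Type v} [CommRing A] [HopfAlgebra k A]

/-- the subalgebra of `p`-th powers. -/
def frobSub (k : Type u) [Field k] [PerfectField k] (p : ℕ) [Fact p.Prime] [CharP k p]
    (A : Type v) [CommRing A] [HopfAlgebra k A] : Subalgebra k A where
  carrier := {a | ∃ b : A, b ^ p = a}
  mul_mem' := by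
    rintro _ _ ⟨b, rfl⟩ ⟨c, rfl⟩
    exact ⟨b * c, mul_pow b c p⟩
  one_mem' := ⟨1, one_pow p⟩
  add_mem' := by
    rintro _ _ ⟨b, rfl⟩ ⟨c, rfl⟩
    haveI := charP_of_bialgebra k A p
    exact ⟨b + c, add_pow_char b c p⟩
  zero_mem' := ⟨0, zero_pow (Fact.out : p.Prime).ne_zero⟩
  algebraMap_mem' := fun c => by
    obtain ⟨d, hd⟩ := surjective_frobenius k p c
    refine ⟨algebraMap k A d, ?_⟩
    rw [← map_pow]
    congr 1

lemma mem_frobSub {a : A} : a ∈ frobSub k p A ↔ ∃ b : A, b ^ p = a := Iff.rfl

lemma pow_mem_range (z : A ⊗[k] A) :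
    z ^ p ∈ LinearMap.range (TensorProduct.map (frobSub k p A).val.toLinearMap
      (frobSub k p A).val.toLinearMap) := by
  haveI : CharP (A ⊗[k] A) p := charP_of_bialgebra k (A ⊗[k] A) p
  have hp0 : p ≠ 0 := (Fact.out : p.Prime).ne_zero
  induction z using TensorProduct.induction_on with
  | zero =>
    rw [zero_pow hp0]
    exact Submodule.zero_mem _
  | tmul x y =>
    rw [Algebra.TensorProduct.tmul_pow]
    exact ⟨(⟨x ^ p, ⟨x, rfl⟩⟩ : frobSub k p A) ⊗ₜ[k] (⟨y ^ p, ⟨y, rfl⟩⟩ : frobSub k p A), rfl⟩
  | add y z hy hz =>
    rw [add_pow_char]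
    exact Submodule.add_mem _ hy hz

theorem isHopfSub_frobSub : IsHopfSub (frobSub k p A) where
  comul_mem := by
    rintro _ ⟨b, rfl⟩
    rw [Bialgebra.comul_pow]
    exact pow_mem_range p _
  antipode_mem := by
    rintro _ ⟨b, rfl⟩
    refine ⟨HopfAlgebra.antipode k b, ?_⟩
    rw [← HopfAlgebra.antipodeAlgHom_apply, ← HopfAlgebra.antipodeAlgHom_apply, map_pow]

lemma augMap_frobSub : augMap (frobSub k p A) = frobI k A p := by
  apply le_antisymm
  · unfold augMap
    rw [Ideal.map_le_iff_le_comap]
    rintro ⟨_, ⟨b, rfl⟩⟩ hx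
    rw [Ideal.mem_comap]
    change b ^ p ∈ frobI k A p
    have hx' : Coalgebra.counit (R := k) (b ^ p) = 0 := hx
    rw [Bialgebra.counit_pow] at hx'
    have hb : Coalgebra.counit (R := k) b = 0 := pow_eq_zero_iff (Fact.out : p.Prime).ne_zero |>.1 hx'
    exact Ideal.subset_span ⟨b, (mem_augI b).2 hb, rfl⟩
  · unfold frobI
    apply Ideal.span_le.2
    rintro _ ⟨a, ha, rfl⟩
    have hmem : (⟨a ^ p, ⟨a, rfl⟩⟩ : frobSub k p A) ∈ RingHom.ker (counitB (frobSub k p A)) := by
      rw [RingHom.mem_ker]
      change Coalgebra.counit (R := k) (a ^ p) = 0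
      rw [Bialgebra.counit_pow, (mem_augI a).1 ha, zero_pow (Fact.out : p.Prime).ne_zero]
    exact Ideal.mem_map_of_mem (algebraMap ↥(frobSub k p A) A) hmem

end Frob

section Card

/-- the reduced exponent vectors are counted by `(m+1)^d`. -/
noncomputable def idxEquiv (d m : ℕ) : HeightOne.Idx (Fin d) m ≃ (Fin d → Fin (m + 1)) where
  toFun n := fun i => ⟨n.1 i, Nat.lt_succ_of_le (n.2 i)⟩
  invFun f := ⟨Finsupp.equivFunOnFinite.symm (fun i => (f i : ℕ)), fun i => by
    simp only [Finsupp.equivFunOnFinite_symm_apply_apply]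
    exact Nat.le_of_lt_succ (f i).2⟩
  left_inv n := by
    apply Subtype.ext
    ext i
    simp
  right_inv f := by
    funext i
    apply Fin.ext
    simp

lemma card_idx (d m : ℕ) : Nat.card (HeightOne.Idx (Fin d) m) = (m + 1) ^ d := by
  rw [Nat.card_congr (idxEquiv d m), Nat.card_fun, Nat.card_fin, Nat.card_fin]

end Card

section FrobKerDim

variable {k : Type u} [Field k] (p : ℕ) [Fact p.Prime] [CharP k p]
  {A : Type v} [CommRing A] [Bialgebra k A] [Module.Finite k A] [IsLocalRing A]

omit [IsLocalRing A] in
lemma finite_cotangent : Module.Finite k (augI k A).Cotangent := by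
  haveI : IsNoetherian k A := inferInstance
  haveI : Module.Finite k (augI k A) := Module.Finite.of_injective
    ((augI k A).restrictScalars k).subtype Subtype.val_injective
  exact Module.Finite.of_surjective ((augI k A).toCotangent.restrictScalars k)
    (Ideal.toCotangent_surjective _)

/-- the Frobenius kernel of an infinitesimal group scheme has order `p ^ dim Lie`. -/
theorem finrank_quotient_frobI :
    Module.finrank k (A ⧸ frobI k A p) = p ^ Module.finrank k (augI k A).Cotangent := by
  classical
  have hp1 : 1 ≤ p := (Fact.out : p.Prime).one_le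
  haveI := finite_cotangent (k := k) (A := A)
  obtain ⟨d, hd⟩ : ∃ d, Module.finrank k (augI k A).Cotangent = d := ⟨_, rfl⟩
  let b := Module.finBasisOfFinrankEq k (augI k A).Cotangent hd
  have hsurj : ∀ i, ∃ xi : augI k A, (augI k A).toCotangent xi = b i :=
    fun i => Ideal.toCotangent_surjective _ (b i)
  choose xi hxi using hsurj
  let x : Fin d → A := fun i => (xi i : A)
  have hxI : ∀ i, x i ∈ augI k A := fun i => (xi i).2
  have hxb : ∀ i, (augI k A).toCotangent ⟨x i, hxI i⟩ = b i := fun i => hxi i
  set xb : Fin d → A ⧸ frobI k A p := fun i => Ideal.Quotient.mk _ (x i) with hxbdef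
  have hcomp : ∀ P : MvPolynomial (Fin d) k,
      MvPolynomial.aeval xb P = Ideal.Quotient.mk (frobI k A p) (MvPolynomial.aeval x P) := by
    intro P
    have := MvPolynomial.comp_aeval_apply (R := k) x (Ideal.Quotient.mkₐ k (frobI k A p)) P
    exact this.symm
  have hind : LinearIndependent k (mono k (p - 1) xb) := by
    refine linearIndependent_mono (p - 1) xb (fun P hP h0 => ?_)
    rw [hcomp, Ideal.Quotient.eq_zero_iff_mem] at h0
    exact eq_zero_of_aeval_mem p b x hxI hxb (frobI k A p) (frobI_le p) (DOf_mem_frobI p) P hP h0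
  have hspan : Submodule.span k (Set.range (mono k (p - 1) xb)) = ⊤ := by
    refine span_mono_eq_top p hp1 xb (fun i => ?_) ?_
    · rw [hxbdef]
      change Ideal.Quotient.mk (frobI k A p) (x i) ^ p = 0
      rw [← map_pow, Ideal.Quotient.eq_zero_iff_mem]
      exact Ideal.subset_span ⟨x i, hxI i, rfl⟩
    · intro z
      obtain ⟨a, rfl⟩ := Ideal.Quotient.mk_surjective z
      obtain ⟨P, rfl⟩ := aeval_surjective b x hxI hxb a
      exact ⟨P, hcomp P⟩
  have hfr := Module.finrank_eq_nat_card_basis (Module.Basis.mk hind hspan.ge)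
  rw [hfr, card_idx, Nat.sub_add_cancel hp1, hd]

end FrobKerDim

section Order

variable {k : Type u} [Field k] [PerfectField k] (p : ℕ) [Fact p.Prime] [CharP k p]

/-- the order of an infinitesimal group scheme over a perfect field of characteristic `p` is a
power of `p`. -/
theorem exists_finrank_eq_pow_aux : ∀ (n : ℕ) (A : Type v) [CommRing A] [HopfAlgebra k A]
    [Module.Finite k A] [IsLocalRing A], Module.finrank k A = n → ∃ r : ℕ, n = p ^ r := by
  intro n
  induction n using Nat.strong_induction_on with
  | _ n ih =>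
    intro A _ _ _ _ hn
    haveI := finite_cotangent (k := k) (A := A)
    by_cases hd : Module.finrank k (augI k A).Cotangent = 0
    · -- the cotangent space vanishes, so `A = k`
      haveI : Subsingleton (augI k A).Cotangent := Module.finrank_zero_iff.1 hd
      have hidem : IsIdempotentElem (augI k A) :=
        (Ideal.cotangent_subsingleton_iff (augI k A)).1 inferInstance
      haveI : IsNoetherianRing A := IsNoetherianRing.of_finite k A
      have hI : augI k A = ⊥ := by
        rcases (Ideal.isIdempotentElem_iff_eq_bot_or_top_of_isLocalRing (augI k A)).1 hidem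
          with h | h
        · exact h
        · exfalso
          have h1 : (1 : A) ∈ augI k A := by rw [h]; trivial
          rw [mem_augI, Bialgebra.counit_one] at h1
          exact one_ne_zero h1
      have hinj : Function.Injective (Bialgebra.counitAlgHom k A) := by
        rw [injective_iff_map_eq_zero]
        intro a ha
        have : a ∈ augI k A := ha
        rwa [hI, Ideal.mem_bot] at this
      have hsurj : Function.Surjective (Bialgebra.counitAlgHom k A) := fun c =>
        ⟨algebraMap k A c, by simp⟩
      have e := LinearEquiv.ofBijective (Bialgebra.counitAlgHom k A).toLinearMap ⟨hinj, hsurj⟩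
      refine ⟨0, ?_⟩
      rw [← hn, e.finrank_eq, Module.finrank_self, pow_zero]
    · have hB := isHopfSub_frobSub (k := k) p (A := A)
      letI := hopfAlgebra hB
      haveI := finite_sub (frobSub k p A)
      haveI := isLocalRing_sub (frobSub k p A)
      have hmul := finrank_eq_mul hB
      rw [augMap_frobSub, finrank_quotient_frobI p, hn] at hmul
      have hpd : 2 ≤ p ^ Module.finrank k (augI k A).Cotangent := by
        calc 2 ≤ p := (Fact.out : p.Prime).two_le
          _ = p ^ 1 := (pow_one p).symm
          _ ≤ p ^ Module.finrank k (augI k A).Cotangent :=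
            Nat.pow_le_pow_right (Fact.out : p.Prime).pos (Nat.one_le_iff_ne_zero.2 hd)
      have hnpos : 0 < n := by
        rw [← hn]
        haveI := nontrivial_of_bialgebra k A
        exact Module.finrank_pos
      have hBpos : 0 < Module.finrank k ↥(frobSub k p A) := by
        rcases Nat.eq_zero_or_pos (Module.finrank k ↥(frobSub k p A)) with h | h
        · rw [h, zero_mul] at hmul
          omega
        · exact h
      have hlt : Module.finrank k ↥(frobSub k p A) < n := by
        rw [hmul]
        nlinarith
      obtain ⟨r, hr⟩ := ih _ hlt ↥(frobSub k p A) rfl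
      exact ⟨r + Module.finrank k (augI k A).Cotangent, by rw [hmul, hr, pow_add]⟩

theorem exists_finrank_eq_pow (A : Type v) [CommRing A] [HopfAlgebra k A]
    [Module.Finite k A] [IsLocalRing A] : ∃ r : ℕ, Module.finrank k A = p ^ r :=
  exists_finrank_eq_pow_aux p _ A rfl

end Order

end Groth.Agent.Lib.Helper7.HopfSub
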