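import Groth.Agent.Lib.Helper7.HopfCotangent
import Groth.Agent.Lib.Helper7.GITBasic
import Groth.Agent.Lib.Helper23.QuasiRegReg
import Mathlib

/-!
# Hopf algebras of finite type in characteristic zero are regular (helper7)

The local ring at the identity is regular of dimension `dim_k I/I²`; by translation every maximal
ideal (over an algebraically closed field) has the same height, so this is the Krull dimension.
-/

universe u v

open TensorProduct

namespace Groth.Agent.Lib.Helper7.HopfReg

open HopfRep Groth.Agent.Lib.Helper7.Comod Groth.Agent.Lib.Helper7.HopfCot IsLocalRing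

section EvalPow

variable {L : Type*} [CommRing L] {σ : Type*}

lemma eval_mem_pow_succ (J : Ideal L) (f : σ → L) (hf : ∀ i, f i ∈ J) (m : ℕ)
    (Q : MvPolynomial σ L) (hQ : Q.IsHomogeneous m) (hc : ∀ d, Q.coeff d ∈ J) :
    MvPolynomial.eval f Q ∈ J ^ (m + 1) := by
  rw [Q.as_sum, map_sum]
  refine Ideal.sum_mem _ (fun β hβ => ?_)
  rw [MvPolynomial.eval_monomial, pow_succ']
  refine Ideal.mul_mem_mul (hc β) ?_
  have hdeg : β.degree = m := by
    rw [Finsupp.degree_eq_weight_one]
    exact hQ (MvPolynomial.mem_support_iff.1 hβ)
  rw [← hdeg, Finsupp.prod, Finsupp.degree_apply, ← Finset.prod_pow_eq_pow_sum]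
  exact Ideal.prod_mem_prod (fun i _ => Ideal.pow_mem_pow (hf i) _)

end EvalPow

section Local

variable {k : Type u} [Field k] {A : Type v} [CommRing A] [Bialgebra k A]

instance isMaximal_augI : (augI k A).IsMaximal :=
  RingHom.ker_isMaximal_of_surjective _ (fun c => ⟨algebraMap k A c, by simp⟩)

variable (k A) in
/-- the residue map of the local ring at the identity. -/
noncomputable def res : Localization.AtPrime (augI k A) →+* k :=
  IsLocalization.lift (M := (augI k A).primeCompl)
    (g := (Bialgebra.counitAlgHom k A).toRingHom) (fun y => by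
      have h : (Bialgebra.counitAlgHom k A) (y : A) ≠ 0 := fun h => y.2 (RingHom.mem_ker.2 h)
      exact h.isUnit)

lemma res_algebraMap (a : A) :
    res k A (algebraMap A (Localization.AtPrime (augI k A)) a) = Coalgebra.counit (R := k) a :=
  IsLocalization.lift_eq _ a

lemma res_algebraMap_base (c : k) :
    res k A (algebraMap k (Localization.AtPrime (augI k A)) c) = c := by
  rw [IsScalarTower.algebraMap_apply k A (Localization.AtPrime (augI k A)), res_algebraMap,
    Bialgebra.counit_algebraMap]

lemma mem_maximalIdeal_iff (z : Localization.AtPrime (augI k A)) :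
    z ∈ maximalIdeal (Localization.AtPrime (augI k A)) ↔ res k A z = 0 := by
  have hs : Function.Surjective (res k A) := fun c => ⟨algebraMap k _ c, res_algebraMap_base c⟩
  have hmax : (RingHom.ker (res k A)).IsMaximal := RingHom.ker_isMaximal_of_surjective _ hs
  rw [← IsLocalRing.eq_maximalIdeal hmax, RingHom.mem_ker]

end Local

section Regular

variable {k : Type u} [Field k] [CharZero k] {A : Type v} [CommRing A] [Bialgebra k A]
  [Algebra.FiniteType k A]

lemma ncard_range_le_fin {α : Type*} {n : ℕ} (f : Fin n → α) : (Set.range f).ncard ≤ n := by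
  classical
  have h1 : Set.range f = ((Finset.univ : Finset (Fin n)).image f : Set α) := by
    ext z; simp
  rw [h1, Set.ncard_coe_finset]
  exact (Finset.card_image_le).trans (by simp)

/-- **The local ring at the identity of an algebraic group in characteristic zero is regular**, of
dimension the dimension of the cotangent space. -/
theorem isRegularLocalRing_atIdentity :
    IsRegularLocalRing (Localization.AtPrime (augI k A)) ∧
      ringKrullDim (Localization.AtPrime (augI k A)) =
        (Module.finrank k (augI k A).Cotangent : ℕ) := by
  classical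
  set L := Localization.AtPrime (augI k A) with hL
  haveI : IsNoetherianRing A := Algebra.FiniteType.isNoetherianRing k A
  haveI : IsNoetherianRing L :=
    IsLocalization.isNoetherianRing (augI k A).primeCompl L inferInstance
  haveI := finite_cotangent (k := k) (A := A)
  set n := Module.finrank k (augI k A).Cotangent with hn
  let b : Module.Basis (Fin n) k (augI k A).Cotangent := Module.finBasis k _
  have hx : ∀ i, ∃ y : augI k A, (augI k A).toCotangent y = b i :=
    fun i => (augI k A).toCotangent_surjective _
  choose y hy using hx
  let x : Fin n → A := fun i => (y i : A)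
  have hxI : ∀ i, x i ∈ augI k A := fun i => (y i).2
  have hxb : ∀ i, (augI k A).toCotangent ⟨x i, hxI i⟩ = b i := fun i => hy i
  let f : Fin n → L := fun i => algebraMap A L (x i)
  have hfm : ∀ i, f i ∈ maximalIdeal L := fun i => by
    rw [mem_maximalIdeal_iff, res_algebraMap]
    exact (mem_augI _).1 (hxI i)
  -- generation of the maximal ideal
  have hgen : Ideal.span (Set.range f) = maximalIdeal L := by
    apply le_antisymm
    · rw [Ideal.span_le]
      rintro _ ⟨i, rfl⟩
      exact hfm i
    · have hfg : (maximalIdeal L).FG := IsNoetherian.noetherian _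
      refine Submodule.le_of_le_smul_of_le_jacobson_bot hfg
        (IsLocalRing.maximalIdeal_le_jacobson ⊥) ?_
      rw [← Localization.AtPrime.map_eq_maximalIdeal (I := augI k A),
        Ideal.map_le_iff_le_comap]
      intro a ha
      rw [Ideal.mem_comap]
      have h1 : (augI k A).toCotangent ⟨a, ha⟩ = (augI k A).toCotangent
          (∑ i, b.repr ((augI k A).toCotangent ⟨a, ha⟩) i • y i) := by
        rw [map_sum]
        conv_lhs => rw [← b.sum_repr ((augI k A).toCotangent ⟨a, ha⟩)]
        refine Finset.sum_congr rfl fun i _ => ?_
        rw [LinearMap.map_smul_of_tower, hy]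
      rw [Ideal.toCotangent_eq] at h1
      set c := fun i => b.repr ((augI k A).toCotangent ⟨a, ha⟩) i with hc
      have h2 : ((∑ i, c i • y i : augI k A) : A) = ∑ i, algebraMap k A (c i) * x i := by
        rw [Submodule.coe_sum]
        refine Finset.sum_congr rfl fun i _ => ?_
        rw [Submodule.coe_smul_of_tower, Algebra.smul_def]
      have h3 : a = (∑ i, algebraMap k A (c i) * x i) + (a - ∑ i, algebraMap k A (c i) * x i) := by
        ring
      rw [h3, map_add]
      refine Submodule.add_mem_sup ?_ ?_
      · rw [map_sum]
        refine Ideal.sum_mem _ fun i _ => ?_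
        rw [map_mul]
        exact Ideal.mul_mem_left _ _ (Ideal.subset_span ⟨i, rfl⟩)
      · rw [← h2]
        have h4 := Ideal.mem_map_of_mem (algebraMap A L) h1
        rw [Ideal.map_pow, pow_two] at h4
        exact h4
  -- quasi-regularity
  have hqr : CAlgX.IsQuasiRegular f := by
    intro m P hP hev d
    rw [hgen] at hev ⊢
    rw [mem_maximalIdeal_iff]
    set Pbar : MvPolynomial (Fin n) k := MvPolynomial.map (res k A) P with hPbar
    have hPbarh : Pbar.IsHomogeneous m := hP.map _
    set P₀ : MvPolynomial (Fin n) L := MvPolynomial.map (algebraMap k L) Pbar with hP₀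
    have hdiff : MvPolynomial.eval f (P - P₀) ∈ maximalIdeal L ^ (m + 1) := by
      apply eval_mem_pow_succ _ f hfm m
      · exact hP.sub (hPbarh.map _)
      · intro d
        rw [MvPolynomial.coeff_sub, MvPolynomial.coeff_map, MvPolynomial.coeff_map,
          mem_maximalIdeal_iff, map_sub, res_algebraMap_base, sub_self]
    have h0 : MvPolynomial.eval f P₀ ∈ maximalIdeal L ^ (m + 1) := by
      have : MvPolynomial.eval f P₀ = MvPolynomial.eval f P - MvPolynomial.eval f (P - P₀) := by
        rw [map_sub]; ring
      rw [this]
      exact Ideal.sub_mem _ hev hdiff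
    have h1 : MvPolynomial.eval f P₀ = algebraMap A L (MvPolynomial.aeval x Pbar) := by
      rw [hP₀, MvPolynomial.eval_map, MvPolynomial.aeval_def, MvPolynomial.eval₂_comp_left,
        ← IsScalarTower.algebraMap_eq]
      rfl
    have hprim : (augI k A ^ (m + 1)).IsPrimary := by
      apply Ideal.isPrimary_of_isMaximal_radical
      rw [Ideal.radical_pow _ (Nat.succ_ne_zero m), Ideal.IsPrime.radical inferInstance]
      infer_instance
    have hdisj : Disjoint ((augI k A).primeCompl : Set A) (augI k A ^ (m + 1) : Ideal A) := by
      rw [Set.disjoint_left]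
      intro z hz hz'
      exact hz (Ideal.pow_le_self (Nat.succ_ne_zero m) hz')
    have h2 : MvPolynomial.aeval x Pbar ∈ augI k A ^ (m + 1) := by
      rw [← IsLocalization.under_map_of_isPrimary_disjoint (augI k A).primeCompl L hprim hdisj]
      rw [Ideal.under_def, Ideal.mem_comap, Ideal.map_pow,
        Localization.AtPrime.map_eq_maximalIdeal, ← h1]
      exact h0
    have hfact : ((m.factorial : ℕ) : k) ≠ 0 := by
      exact_mod_cast Nat.factorial_ne_zero m
    have h3 : Pbar = 0 := eq_zero_of_aeval_mem b x hxI hxb m hfact Pbar hPbarh h2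
    have h4 : MvPolynomial.coeff d Pbar = 0 := by rw [h3]; simp
    rw [hPbar, MvPolynomial.coeff_map] at h4
    exact h4
  have hwr := Groth.Agent.Lib.Helper23.QRR.isWeaklyRegular_of_isQuasiRegular n L f hfm hqr
  have hreg : RingTheory.Sequence.IsRegular L (List.ofFn f) :=
    (IsLocalRing.isRegular_iff_isWeaklyRegular_of_subset_maximalIdeal (by
      intro r hr
      obtain ⟨i, rfl⟩ := (List.mem_ofFn' f r).1 hr
      exact hfm i)).2 hwr
  have hdim := ringKrullDim_add_length_eq_ringKrullDim_of_isRegular (List.ofFn f) hreg
  have hof : Ideal.ofList (List.ofFn f) = maximalIdeal L := by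
    have hset : {r | r ∈ List.ofFn f} = Set.range f := by
      ext z
      exact List.mem_ofFn' f z
    change Ideal.span {r | r ∈ List.ofFn f} = _
    rw [hset, hgen]
  rw [hof, List.length_ofFn] at hdim
  have h0 : ringKrullDim (L ⧸ maximalIdeal L) = 0 := by
    letI := Ideal.Quotient.field (maximalIdeal L)
    exact ringKrullDim_eq_zero_of_field _
  rw [h0, zero_add] at hdim
  refine ⟨?_, hdim.symm⟩
  apply IsRegularLocalRing.of_spanFinrank_maximalIdeal_le
  rw [← hdim, ← hgen]
  have h5 := Submodule.spanFinrank_span_le_ncard_of_finite (R := L) (Set.finite_range f)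
  have h6 := ncard_range_le_fin f
  exact_mod_cast h5.trans h6

end Regular

section Translate

variable {k : Type u} [Field k] {A : Type v} [CommRing A] [HopfAlgebra k A]

/-- the regular comodule is a comodule algebra. -/
lemma isCoactAlg_regular : GLin.IsCoactAlg k A A :=
  ⟨Bialgebra.comul_one, fun f g => Bialgebra.comul_mul f g⟩

attribute [local instance] isCoactAlg_regular

/-- translation by a rational point. -/
noncomputable abbrev transl (g : A →ₐ[k] k) : A →ₐ[k] A := GLin.orbitHom k A g

lemma transl_apply (g : A →ₐ[k] k) (a : A) :
    transl g a = contrL A g.toLinearMap (Coalgebra.comul (R := k) a) :=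
  orbitHom_apply (A := A) g a

lemma counit_transl (g : A →ₐ[k] k) (a : A) :
    Coalgebra.counit (R := k) (transl g a) = g a :=
  counit_orbitHom (A := A) g a

lemma transl_counit (a : A) : transl (Bialgebra.counitAlgHom k A) a = a := by
  rw [transl_apply]
  have h := Coalgebra.rTensor_counit_comul (R := k) a
  have h2 : contrL A (Bialgebra.counitAlgHom k A).toLinearMap (Coalgebra.comul (R := k) a) =
      TensorProduct.lid k A ((Coalgebra.counit (R := k) (A := A)).rTensor A
        (Coalgebra.comul (R := k) a)) := rfl
  rw [h2, h]
  simp

lemma transl_transl (g h : A →ₐ[k] k) (a : A) :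
    transl h (transl g a) = transl (GLin.actPt k h g) a := by
  rw [transl_apply h, transl_apply (GLin.actPt k h g)]
  have hc : Coalgebra.comul (R := k) (transl g a) =
      (transl g).toLinearMap.rTensor A (Coalgebra.comul (R := k) a) :=
    isComodHom_apply (isComodHom_orbitHom (A := A) g) a
  rw [hc, contrL_rTensor]
  rfl

lemma actPt_inv_self (g : A →ₐ[k] k) :
    GLin.actPt k (g.comp (HopfAlgebra.antipodeAlgHom k A)) g = Bialgebra.counitAlgHom k A := by
  have h1 : GLin.actPt k g (Bialgebra.counitAlgHom k A) = g := by
    apply AlgHom.ext
    intro a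
    rw [actPt_apply]
    exact congrArg g (transl_counit a)
  have h2 := actPt_inv_actPt (A := A) g (Bialgebra.counitAlgHom k A)
  rw [h1] at h2
  exact h2

lemma transl_inv_transl (g : A →ₐ[k] k) (a : A) :
    transl (g.comp (HopfAlgebra.antipodeAlgHom k A)) (transl g a) = a := by
  rw [transl_transl, actPt_inv_self, transl_counit]

lemma transl_bijective (g : A →ₐ[k] k) : Function.Bijective (transl g) := by
  set g' := g.comp (HopfAlgebra.antipodeAlgHom k A) with hg'
  have h1 : Function.LeftInverse (transl g') (transl g) := transl_inv_transl g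
  have h2 : Function.LeftInverse (transl (g'.comp (HopfAlgebra.antipodeAlgHom k A))) (transl g') :=
    transl_inv_transl g'
  have hbij' : Function.Bijective (transl g') := ⟨h2.injective, h1.surjective⟩
  exact ⟨h1.injective, fun a => ⟨transl g' a, hbij'.1 (h1 _)⟩⟩

/-- translation as a ring automorphism. -/
noncomputable def translEquiv (g : A →ₐ[k] k) : A ≃+* A :=
  RingEquiv.ofBijective (transl g).toRingHom (transl_bijective g)

lemma comap_translEquiv (g : A →ₐ[k] k) :
    (augI k A).comap (translEquiv g : A →+* A) = RingHom.ker g := by
  ext a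
  rw [Ideal.mem_comap, mem_augI, RingHom.mem_ker]
  change Coalgebra.counit (R := k) (transl g a) = 0 ↔ _
  rw [counit_transl]

/-- the kernel of any rational point has the same height as the augmentation ideal. -/
theorem height_ker_eq (g : A →ₐ[k] k) : (RingHom.ker g).height = (augI k A).height := by
  rw [← comap_translEquiv g]
  have h := (translEquiv g).symm.height_map (augI k A)
  rw [← h]
  congr 1
  exact (Ideal.map_comap_of_equiv (translEquiv g).symm).symm ▸ rfl

end Translate

section Dim

variable {k : Type u} [Field k] [IsAlgClosed k] [CharZero k] {A : Type v} [CommRing A]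
  [HopfAlgebra k A] [Algebra.FiniteType k A]

theorem height_augI_eq :
    ((augI k A).height : WithBot ℕ∞) = (Module.finrank k (augI k A).Cotangent : ℕ) := by
  rw [← (isRegularLocalRing_atIdentity (k := k) (A := A)).2]
  exact (IsLocalization.AtPrime.ringKrullDim_eq_height (augI k A)
    (Localization.AtPrime (augI k A))).symm

/-- every maximal ideal of the coordinate ring of an algebraic group in characteristic zero has
height the dimension of the cotangent space at the identity. -/
theorem height_eq_of_isMaximal (M : Ideal A) (hM : M.IsMaximal) :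
    M.height = (augI k A).height := by
  obtain ⟨g, hg⟩ := exists_algHom_of_ne_top (k := k) M hM.ne_top
  have hker : (RingHom.ker g) ≠ ⊤ := RingHom.ker_ne_top _
  have : M = RingHom.ker g := hM.eq_of_le hker hg
  rw [this]
  exact height_ker_eq g

/-- **Dimension of an algebraic group in characteristic zero**: the Krull dimension of the
coordinate ring is the dimension of the cotangent space at the identity. -/
theorem ringKrullDim_eq_finrank_cotangent :
    ringKrullDim A = (Module.finrank k (augI k A).Cotangent : ℕ) := by
  haveI : Nontrivial A := by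
    refine ⟨⟨0, 1, fun h => ?_⟩⟩
    have h1 := congrArg (Coalgebra.counit (R := k)) h
    rw [map_zero, Bialgebra.counit_one] at h1
    exact zero_ne_one h1
  rw [← height_augI_eq, ← Ideal.sup_isMaximal_height_eq_ringKrullDim, WithBot.coe_inj]
  apply le_antisymm
  · exact iSup₂_le fun M hM => (height_eq_of_isMaximal M hM).le
  · exact le_iSup₂_of_le (augI k A) isMaximal_augI le_rfl

end Dim

end Groth.Agent.Lib.Helper7.HopfReg
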