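import Groth.Agent.Lib.Helper7.HopfKaehler
import Groth.Agent.Lib.Helper7.HopfRegular
import Groth.Agent.Lib.Helper7.HopfFrobSub
import Groth.Agent.Lib.Helper9.SmoothDim
import Groth.Agent.Lib.Helper9.SmoothPt
import Groth.Agent.Lib.Helper22.FibreDim
import Mathlib

/-!
# Dimension of an affine algebraic group and smoothness (helper7)

For a finitely generated commutative Hopf algebra `A` over a field `k` with augmentation ideal `I`:
`dim A ≤ dim_k I/I²`, with equality iff `A` is smooth over `k`.
-/

universe u

open TensorProduct KaehlerDifferential IsLocalRing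

namespace Groth.Agent.Lib.Helper7.HopfDim

open Groth.Agent.Lib.Helper7.HopfCot Groth.Agent.Lib.Helper7.Comod
  Groth.Agent.Lib.Helper7.HopfReg

section Omega

variable (k : Type u) [Field k] (A : Type u) [CommRing A] [HopfAlgebra k A]

/-- the module of differentials of a Hopf algebra is free of rank `dim I/I²`. -/
theorem finrank_kaehler :
    Module.finrank A Ω[A⁄k] = Module.finrank k (augI k A).Cotangent := by
  haveI := Groth.Agent.Lib.Helper7.HopfSub.nontrivial_of_bialgebra k A
  obtain ⟨e⟩ := HopfKaehler.nonempty_linearEquiv k A
  rw [e.finrank_eq, Module.finrank_baseChange]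

theorem finrank_fibre (κ : Type u) [Field κ] [Algebra A κ] :
    Module.finrank κ (κ ⊗[A] Ω[A⁄k]) = Module.finrank k (augI k A).Cotangent := by
  haveI := Groth.Agent.Lib.Helper7.HopfSub.nontrivial_of_bialgebra k A
  haveI := HopfKaehler.free k A
  rw [Module.finrank_baseChange, finrank_kaehler]

end Omega

section Identity

variable (k : Type u) [Field k] (A : Type u) [CommRing A] [HopfAlgebra k A]

/-- the residue field at the identity is the base field. -/
theorem bijective_algebraMap_residueField_augI :
    Function.Bijective (algebraMap k (augI k A).ResidueField) := by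
  have h2 := (augI k A).bijective_algebraMap_quotient_residueField
  have h1 : Function.Bijective (algebraMap k (A ⧸ augI k A)) := by
    haveI : Nontrivial (A ⧸ augI k A) := Ideal.Quotient.nontrivial_iff.2 (isMaximal_augI).ne_top
    refine ⟨(algebraMap k (A ⧸ augI k A)).injective, fun y => ?_⟩
    obtain ⟨a, rfl⟩ := Ideal.Quotient.mk_surjective y
    refine ⟨Coalgebra.counit (R := k) a, ?_⟩
    rw [IsScalarTower.algebraMap_apply k A (A ⧸ augI k A), Ideal.Quotient.algebraMap_eq,
      Ideal.Quotient.eq, mem_augI, map_sub, Bialgebra.counit_algebraMap, sub_self]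
  have : algebraMap k (augI k A).ResidueField =
      (algebraMap (A ⧸ augI k A) (augI k A).ResidueField).comp (algebraMap k (A ⧸ augI k A)) :=
    IsScalarTower.algebraMap_eq k (A ⧸ augI k A) (augI k A).ResidueField
  rw [this]
  exact h2.comp h1

variable [Algebra.FiniteType k A]

/-- **the local dimension at the identity is at most the dimension of the cotangent space.** -/
theorem height_augI_le :
    ((augI k A).height : WithBot ℕ∞) ≤ (Module.finrank k (augI k A).Cotangent : ℕ) := by
  haveI : IsNoetherianRing A := Algebra.FiniteType.isNoetherianRing k A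
  set L := Localization.AtPrime (augI k A) with hL
  haveI : IsNoetherianRing L :=
    IsLocalization.isNoetherianRing (augI k A).primeCompl L inferInstance
  have h1 := Groth.Agent.Lib.Helper9.SmoothPt.finrank_fibre_eq_finrank_cotangentSpace k A
    (augI k A) (bijective_algebraMap_residueField_augI k A)
  rw [finrank_fibre k A (augI k A).ResidueField] at h1
  rw [← IsLocalization.AtPrime.ringKrullDim_eq_height (augI k A) L, h1,
    ← spanFinrank_maximalIdeal_eq_finrank_cotangentSpace]
  exact ringKrullDim_le_spanFinrank_maximalIdeal L

end Identity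

section AlgClosed

variable (k : Type u) [Field k] [IsAlgClosed k] (A : Type u) [CommRing A] [HopfAlgebra k A]
  [Algebra.FiniteType k A]

/-- every maximal ideal has the height of the augmentation ideal. -/
theorem height_eq_of_isMaximal (M : Ideal A) (hM : M.IsMaximal) :
    M.height = (augI k A).height := by
  obtain ⟨g, hg⟩ := exists_algHom_of_ne_top (k := k) M hM.ne_top
  have hker : (RingHom.ker g) ≠ ⊤ := RingHom.ker_ne_top _
  have : M = RingHom.ker g := hM.eq_of_le hker hg
  rw [this]
  exact height_ker_eq g

theorem ringKrullDim_eq_height_augI : ringKrullDim A = ((augI k A).height : WithBot ℕ∞) := by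
  haveI := Groth.Agent.Lib.Helper7.HopfSub.nontrivial_of_bialgebra k A
  rw [← Ideal.sup_isMaximal_height_eq_ringKrullDim, WithBot.coe_inj]
  apply le_antisymm
  · exact iSup₂_le fun M hM => (height_eq_of_isMaximal k A M hM).le
  · exact le_iSup₂_of_le (augI k A) isMaximal_augI le_rfl

/-- `dim A ≤ dim I/I²` over an algebraically closed field. -/
theorem ringKrullDim_le_of_isAlgClosed :
    ringKrullDim A ≤ (Module.finrank k (augI k A).Cotangent : ℕ) := by
  rw [ringKrullDim_eq_height_augI k A]
  exact height_augI_le k A

/-- smoothness at a closed point in terms of the dimension. -/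
theorem isSmoothAt_iff (M : Ideal A) [hM : M.IsMaximal] :
    Algebra.IsSmoothAt k M ↔
      ((Module.finrank k (augI k A).Cotangent : ℕ) : WithBot ℕ∞) ≤ ringKrullDim A := by
  rw [Groth.Agent.Lib.Helper9.SmoothDim.isSmoothAt_iff_finrank_le k A M,
    finrank_fibre k A M.ResidueField,
    IsLocalization.AtPrime.ringKrullDim_eq_height M (Localization.AtPrime M),
    height_eq_of_isMaximal k A M hM, ringKrullDim_eq_height_augI k A]

/-- smoothness can be tested at closed points. -/
theorem smooth_of_forall_isMaximal
    (h : ∀ (M : Ideal A) [M.IsMaximal], Algebra.IsSmoothAt k M) : Algebra.Smooth k A := by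
  haveI : IsNoetherianRing A := Algebra.FiniteType.isNoetherianRing k A
  haveI : Algebra.FinitePresentation k A :=
    (Algebra.FinitePresentation.of_finiteType (R := k) (A := A)).1 inferInstance
  refine ⟨?_, inferInstance⟩
  rw [← Algebra.smoothLocus_eq_univ_iff]
  by_contra hne
  have hopen : IsOpen (Algebra.smoothLocus k A) := Algebra.isOpen_smoothLocus
  have hcl : IsClosed (Algebra.smoothLocus k A)ᶜ := hopen.isClosed_compl
  obtain ⟨J, hJ⟩ := (PrimeSpectrum.isClosed_iff_zeroLocus_ideal _).1 hcl
  have hJne : J ≠ ⊤ := by
    intro htop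
    apply hne
    rw [htop, PrimeSpectrum.zeroLocus_empty_iff_eq_top.2 rfl, Set.compl_empty_iff] at hJ
    exact hJ
  obtain ⟨M, hM, hJM⟩ := Ideal.exists_le_maximal J hJne
  have hmem : (⟨M, hM.isPrime⟩ : PrimeSpectrum A) ∈ (Algebra.smoothLocus k A)ᶜ := by
    rw [hJ, PrimeSpectrum.mem_zeroLocus]
    exact hJM
  exact hmem (h M)

/-- **over an algebraically closed field, `dim A = dim I/I²` iff `A` is smooth.** -/
theorem ringKrullDim_eq_iff_of_isAlgClosed :
    ringKrullDim A = (Module.finrank k (augI k A).Cotangent : ℕ) ↔ Algebra.Smooth k A := by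
  constructor
  · intro h
    apply smooth_of_forall_isMaximal
    intro M hM
    rw [isSmoothAt_iff k A M, h]
  · intro h
    apply le_antisymm (ringKrullDim_le_of_isAlgClosed k A)
    haveI : (augI k A).IsMaximal := isMaximal_augI
    rw [← isSmoothAt_iff k A (augI k A)]
    infer_instance

end AlgClosed

section General
variable (k : Type u) [Field k] (A : Type u) [CommRing A] [HopfAlgebra k A]

attribute [local instance] Algebra.TensorProduct.rightAlgebra

theorem cotangent_finrank_baseChange (K : Type u) [Field K] [Algebra k K] :
    Module.finrank K (augI K (K ⊗[k] A)).Cotangent = Module.finrank k (augI k A).Cotangent := by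
  haveI := Groth.Agent.Lib.Helper7.HopfSub.nontrivial_of_bialgebra k A
  haveI := Groth.Agent.Lib.Helper7.HopfSub.nontrivial_of_bialgebra K (K ⊗[k] A)
  haveI := HopfKaehler.free k A
  rw [← finrank_kaehler K (K ⊗[k] A), ← finrank_kaehler k A]
  have e := KaehlerDifferential.tensorKaehlerEquiv k K A (K ⊗[k] A)
  rw [← e.finrank_eq, Module.finrank_baseChange]

variable [Algebra.FiniteType k A]

theorem smooth_baseChange_iff :
    Algebra.Smooth (AlgebraicClosure k) (AlgebraicClosure k ⊗[k] A) ↔
      Algebra.FormallySmooth k A := by
  constructor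
  · intro h
    have := Algebra.Smooth.of_smooth_tensorProduct_of_faithfullyFlat (R := k) (S := A)
      (AlgebraicClosure k)
    exact this.formallySmooth
  · intro h
    haveI : IsNoetherianRing A := Algebra.FiniteType.isNoetherianRing k A
    haveI : Algebra.FinitePresentation k A :=
      (Algebra.FinitePresentation.of_finiteType (R := k) (A := A)).1 inferInstance
    haveI : Algebra.Smooth k A := ⟨h, inferInstance⟩
    infer_instance

/-- **`dim A ≤ dim I/I²`, with equality iff `A` is smooth** (same universe). -/
theorem main :
    ringKrullDim A ≤ (Module.finrank k (augI k A).Cotangent : ℕ) ∧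
      (ringKrullDim A = (Module.finrank k (augI k A).Cotangent : ℕ) ↔
        Algebra.FormallySmooth k A) := by
  rw [← Groth.Agent.Lib.Helper22.ringKrullDim_tensor_field k (AlgebraicClosure k) A,
    ← cotangent_finrank_baseChange k A (AlgebraicClosure k), ← smooth_baseChange_iff k A]
  exact ⟨ringKrullDim_le_of_isAlgClosed _ _, ringKrullDim_eq_iff_of_isAlgClosed _ _⟩

end General

end Groth.Agent.Lib.Helper7.HopfDim
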