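import Mathlib

universe u
open AlgebraicGeometry CategoryTheory TensorProduct

namespace Groth.Agent.Lib.Helper7.HopfSmooth

set_option backward.defeqAttrib.useBackward true in
set_option backward.isDefEq.respectTransparency false in
open MonObj MonoidalCategory CartesianMonoidalCategory in
/-- copy of Mathlib's private lemma: a reduced group scheme locally of finite type over an
algebraically closed field is smooth. -/
lemma smooth_of_grpObj_of_isAlgClosed {K : Type u} [Field K] {G : Scheme.{u}}
    (f : G ⟶ Spec (.of K)) [LocallyOfFiniteType f] [GrpObj (Over.mk f)]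
    [IsReduced G] [IsAlgClosed K] : Smooth f := by
  have := LocallyOfFiniteType.jacobsonSpace f
  have : Nonempty G := ⟨η[Over.mk f].1 (IsLocalRing.closedPoint _)⟩
  rw [← Scheme.Hom.smoothLocus_eq_top_iff, ← TopologicalSpace.Opens.coe_eq_univ,
    ← not_ne_iff, ← Set.nonempty_compl]
  intro H
  obtain ⟨x, hx, hxc⟩ :=
    nonempty_inter_closedPoints H f.smoothLocus.2.isClosed_compl.isLocallyClosed
  obtain ⟨y, hy : y ∈ f.smoothLocus, hyc⟩ := nonempty_inter_closedPoints
    f.dense_smoothLocus_of_perfectField.nonempty f.smoothLocus.2.isLocallyClosed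
  let x' : 𝟙_ _ ⟶ Over.mk f := Over.homMk _ ((pointEquivClosedPoint f).symm ⟨x, hxc⟩).2
  let y' : 𝟙_ _ ⟶ Over.mk f := Over.homMk _ ((pointEquivClosedPoint f).symm ⟨y, hyc⟩).2
  let α := (GrpObj.mulRight (A := Over.mk f) x').symm ≪≫
    (GrpObj.mulRight (A := Over.mk f) y')
  have hα : x' ≫ α.hom = y' := by
    dsimp only [Iso.trans_hom, Iso.symm_hom, α]
    rw [← Category.assoc, ← Iso.eq_comp_inv]
    simp [comp_lift_assoc]
  have hα' : α.hom.left x = y := by
    simpa [x', y', pointEquivClosedPoint] using congr(($hα).left (IsLocalRing.closedPoint K))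
  rw! [← hα', ← α.hom.left.mem_preimage, Scheme.Hom.preimage_smoothLocus_eq,
    show α.hom.left ≫ f = f from α.hom.w] at hy
  exact hx hy

/-- a group scheme locally of finite type over a field whose base change to the algebraic
closure is reduced is smooth. -/
lemma smooth_of_grpObj_of_isReduced_pullback {K : Type u} [Field K] {G : Scheme.{u}}
    (f : G ⟶ Spec (.of K)) [LocallyOfFiniteType f] [GrpObj (Over.mk f)]
    (h : IsReduced (Limits.pullback f
      (Spec.map (CommRingCat.ofHom <| algebraMap K (AlgebraicClosure K))))) : Smooth f := by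
  let Ω : Type u := AlgebraicClosure K
  let g : Spec (.of Ω) ⟶ Spec (.of K) := Spec.map (CommRingCat.ofHom <| algebraMap K Ω)
  apply MorphismProperty.of_pullback_snd_of_descendsAlong
    (Q := @Surjective ⊓ @Flat ⊓ @QuasiCompact) (g := g)
  · exact ⟨⟨inferInstance, inferInstance⟩, inferInstance⟩
  · let : GrpObj (Over.mk (Limits.pullback.snd f g)) := Over.grpObjMkPullbackSnd
    haveI : IsReduced (Limits.pullback f g) := h
    exact smooth_of_grpObj_of_isAlgClosed _

theorem smooth_aux (k : Type u) [Field k] (B : CommRingCat.{u})
    [HopfAlgebra (CommRingCat.of k) B]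
    [Algebra.FiniteType (CommRingCat.of k) B]
    (h : _root_.IsReduced (B ⊗[k] AlgebraicClosure k)) :
    (algebraMap (CommRingCat.of k) B).Smooth := by
  have h1 : LocallyOfFiniteType (Spec B ↘ Spec (CommRingCat.of k)) := inferInstance
  have hred : IsReduced (Limits.pullback (Spec B ↘ Spec (CommRingCat.of k))
      (Spec.map (CommRingCat.ofHom <| algebraMap k (AlgebraicClosure k)))) := by
    rw [specOverSpec_over]
    have e := pullbackSpecIso k B (AlgebraicClosure k)
    have : IsReduced (Spec (CommRingCat.of (B ⊗[k] AlgebraicClosure k))) := by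
      rw [affine_isReduced_iff]
      exact h
    exact isReduced_of_isOpenImmersion e.hom
  have hs : Smooth (Spec B ↘ Spec (CommRingCat.of k)) :=
    @smooth_of_grpObj_of_isReduced_pullback k _ (Spec B) (Spec B ↘ Spec (CommRingCat.of k)) h1 
      (instGrpObjSpecAsOverSpec (R := CommRingCat.of k) (A := B)) hred
  rw [specOverSpec_over] at hs
  exact (HasRingHomProperty.Spec_iff (P := @Smooth)).1 hs

/-- **A finitely generated commutative Hopf algebra over a field whose base change to the
algebraic closure is reduced is smooth.** -/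
theorem smooth_of_isReduced_baseChange (k A : Type u) [Field k] [CommRing A] [HopfAlgebra k A]
    [Algebra.FiniteType k A] (h : _root_.IsReduced (AlgebraicClosure k ⊗[k] A)) :
    Algebra.Smooth k A := by
  have h' : _root_.IsReduced (A ⊗[k] AlgebraicClosure k) :=
    isReduced_of_injective (Algebra.TensorProduct.comm k A (AlgebraicClosure k)).toRingHom
      (Algebra.TensorProduct.comm k A (AlgebraicClosure k)).injective
  have := @smooth_aux k _ (CommRingCat.of A) (inferInstanceAs (HopfAlgebra k A)) 
    (inferInstanceAs (Algebra.FiniteType k A)) h'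
  exact RingHom.smooth_algebraMap.1 this

/-- **A reduced finitely generated commutative Hopf algebra over an algebraically closed field is
smooth.** -/
theorem smooth_of_isReduced (k A : Type u) [Field k] [IsAlgClosed k] [CommRing A] [HopfAlgebra k A]
    [Algebra.FiniteType k A] [_root_.IsReduced A] : Algebra.Smooth k A := by
  apply smooth_of_isReduced_baseChange
  have hbij : Function.Bijective (algebraMap k (AlgebraicClosure k)) :=
    IsAlgClosed.algebraMap_bijective_of_isIntegral
  let e0 : k ≃ₐ[k] AlgebraicClosure k := AlgEquiv.ofBijective (Algebra.ofId k _) hbij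
  let e : AlgebraicClosure k ⊗[k] A ≃ₐ[k] A :=
    (Algebra.TensorProduct.congr e0.symm AlgEquiv.refl).trans (Algebra.TensorProduct.lid k A)
  exact isReduced_of_injective e.toRingHom e.injective

end Groth.Agent.Lib.Helper7.HopfSmooth
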