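import Mathlib
import Groth.Agent.Lib.Helper25.ReflexiveFree
import Groth.Agent.Lib.Helper9.LocRefl2

/-!
# Duals of finite modules over a regular ring of dimension at most two are projective (helper7)
-/

set_option autoImplicit false
universe u

namespace Groth.Agent.Lib.Helper7.RegDual

open Groth.Agent.Lib.Helper9.LocRefl

theorem projective_dual (R : Type u) [CommRing R] [IsRegularRing R] (hdim : ringKrullDim R ≤ 2)
    (V : Type u) [AddCommGroup V] [Module R V] [Module.Finite R V] :
    Module.Projective R (Module.Dual R V) := by
  haveI : Module.FinitePresentation R V := Module.finitePresentation_of_finite R V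
  haveI : Module.Finite R (Module.Dual R V) := inferInstance
  haveI : Module.FinitePresentation R (Module.Dual R V) := Module.finitePresentation_of_finite R _
  refine Module.projective_of_localization_maximal'
    (Rₚ := fun P _ => Localization.AtPrime P)
    (Mₚ := fun P _ => Module.Dual (Localization.AtPrime P) (LocalizedModule P.primeCompl V))
    (f := fun P _ => D1 P.primeCompl (Localization.AtPrime P)
      (LocalizedModule.mkLinearMap P.primeCompl V)) ?_
  intro P hP
  haveI : IsDomain (Localization.AtPrime P) :=
    Groth.Agent.Lib.Helper21.isDomain_of_isRegularLocalRing _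
  have hd : ringKrullDim (Localization.AtPrime P) ≤ 2 := by
    rw [IsLocalization.AtPrime.ringKrullDim_eq_height P]
    exact (Ideal.height_le_ringKrullDim_of_isPrime).trans hdim
  haveI : Module.IsReflexive (Localization.AtPrime P)
      (Module.Dual (Localization.AtPrime P) (LocalizedModule P.primeCompl V)) :=
    isReflexive_dual _
  haveI := Groth.Agent.Lib.Helper25.ReflexiveFree.free_of_isReflexive (Localization.AtPrime P) hd
    (Module.Dual (Localization.AtPrime P) (LocalizedModule P.primeCompl V))
  infer_instance

end Groth.Agent.Lib.Helper7.RegDual
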