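import Mathlib
import Groth.Agent.Lib.Helper7.RegDual

/-!
# Double-annihilator closure of a submodule (helper7)

`cl W = {x | every linear form vanishing on W vanishes at x}`.  For a finitely generated `W` inside
a projective module over a Noetherian ring, `cl W` is finitely generated; a closed finitely
generated submodule of a projective module is the dual of a finite module, hence projective over
a regular ring of dimension at most two.
-/

set_option autoImplicit false
universe u v w
open TensorProduct

namespace Groth.Agent.Lib.Helper7.DAnn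

variable {R : Type u} [CommRing R] {M : Type v} [AddCommGroup M] [Module R M]

/-- double-annihilator closure. -/
def cl (W : Submodule R M) : Submodule R M where
  carrier := {x | ∀ φ : Module.Dual R M, (∀ w ∈ W, φ w = 0) → φ x = 0}
  add_mem' := by
    intro a b ha hb φ hφ
    rw [map_add, ha φ hφ, hb φ hφ, add_zero]
  zero_mem' := by
    intro φ _
    exact map_zero φ
  smul_mem' := by
    intro c x hx φ hφ
    rw [map_smul, hx φ hφ, smul_zero]

lemma mem_cl {W : Submodule R M} {x : M} :
    x ∈ cl W ↔ ∀ φ : Module.Dual R M, (∀ w ∈ W, φ w = 0) → φ x = 0 := Iff.rfl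

lemma le_cl (W : Submodule R M) : W ≤ cl W := fun w hw φ hφ => hφ w hw

lemma cl_mono {W W' : Submodule R M} (h : W ≤ W') : cl W ≤ cl W' :=
  fun _ hx φ hφ => hx φ (fun w hw => hφ w (h hw))

lemma cl_cl (W : Submodule R M) : cl (cl W) = cl W := by
  apply le_antisymm
  · intro x hx φ hφ
    exact hx φ (fun w hw => hw φ hφ)
  · exact le_cl _

/-- a linear map into a projective module vanishing on `W` vanishes on `cl W`. -/
lemma apply_eq_zero_of_mem_cl {Z : Type w} [AddCommGroup Z] [Module R Z] [Module.Projective R Z]
    (g : M →ₗ[R] Z) {W : Submodule R M} (hg : ∀ w ∈ W, g w = 0) {x : M} (hx : x ∈ cl W) :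
    g x = 0 := by
  rw [← Module.forall_dual_apply_eq_zero_iff R]
  intro ζ
  exact hx (ζ ∘ₗ g) (fun w hw => by rw [LinearMap.comp_apply, hg w hw, map_zero])

/-- the kernel of a map into a projective module is closed. -/
lemma cl_ker {Z : Type w} [AddCommGroup Z] [Module R Z] [Module.Projective R Z]
    (g : M →ₗ[R] Z) : cl (LinearMap.ker g) = LinearMap.ker g := by
  apply le_antisymm
  · intro x hx
    rw [LinearMap.mem_ker]
    exact apply_eq_zero_of_mem_cl g (fun w hw => LinearMap.mem_ker.1 hw) hx
  · exact le_cl _

/-- an endomorphism preserving `W` preserves `cl W`. -/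
lemma map_mem_cl (g : M →ₗ[R] M) {W : Submodule R M} (hg : ∀ w ∈ W, g w ∈ W) {x : M}
    (hx : x ∈ cl W) : g x ∈ cl W := by
  intro φ hφ
  exact hx (φ ∘ₗ g) (fun w hw => hφ _ (hg w hw))

section fg

variable [Module.Projective R M]

/-- coordinates outside a finite set vanish on `cl W` for finitely generated `W`. -/
lemma exists_finset_supported (s : M →ₗ[R] M →₀ R) {W : Submodule R M} (hW : W.FG) :
    ∃ S : Finset M, ∀ x ∈ cl W, s x ∈ Finsupp.supported R R (S : Set M) := by
  classical
  obtain ⟨G, hG⟩ := hW
  refine ⟨G.biUnion (fun g => (s g).support), ?_⟩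
  intro x hx
  rw [Finsupp.mem_supported']
  intro i hi
  have h1 : ∀ w ∈ W, ((Finsupp.lapply i : (M →₀ R) →ₗ[R] R) ∘ₗ s) w = 0 := by
    intro w hw
    rw [← hG] at hw
    induction hw using Submodule.span_induction with
    | mem g hg =>
      rw [LinearMap.comp_apply, Finsupp.lapply_apply]
      by_contra hne
      apply hi
      rw [Finset.coe_biUnion, Set.mem_iUnion₂]
      exact ⟨g, hg, Finsupp.mem_support_iff.2 hne⟩
    | zero => simp
    | add a b _ _ ha hb => rw [map_add, ha, hb, add_zero]
    | smul c a _ ha => rw [map_smul, ha, smul_zero]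
  exact hx _ h1

lemma cl_fg [IsNoetherianRing R] {W : Submodule R M} (hW : W.FG) : (cl W).FG := by
  classical
  obtain ⟨s, hs⟩ := Module.projective_def'.mp ‹Module.Projective R M›
  have hsinj : Function.Injective s := Function.LeftInverse.injective
    (g := Finsupp.linearCombination R id) (fun x => LinearMap.congr_fun hs x)
  obtain ⟨S, hS⟩ := exists_finset_supported s hW
  set T : Submodule R (M →₀ R) := Finsupp.supported R R (S : Set M) with hT
  haveI : Module.Finite R T :=
    Module.Finite.equiv (Finsupp.supportedEquivFinsupp (M := R) (R := R) (S : Set M)).symm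
  haveI : IsNoetherian R T := isNoetherian_of_isNoetherianRing_of_finite R T
  apply Submodule.fg_of_fg_map_injective s hsinj
  have hle : (cl W).map s ≤ T := by
    rintro _ ⟨x, hx, rfl⟩
    exact hS x hx
  have h1 : (((cl W).map s).comap T.subtype).FG := IsNoetherian.noetherian _
  have h2 : (cl W).map s = (((cl W).map s).comap T.subtype).map T.subtype := by
    rw [Submodule.map_comap_eq, Submodule.range_subtype]
    exact (inf_eq_right.2 hle).symm
  rw [h2]
  exact h1.map _

end fg

section proj

variable {R : Type u} [CommRing R] {M : Type u} [AddCommGroup M] [Module R M]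
  [Module.Projective R M]

/-- a closed finitely generated submodule of a projective module over a regular ring of dimension
at most two is projective. -/
theorem projective_of_closed [IsRegularRing R] (hdim : ringKrullDim R ≤ 2) (P : Submodule R M)
    (hfg : P.FG) (hcl : cl P = P) : Module.Projective R P := by
  classical
  obtain ⟨s, hs⟩ := Module.projective_def'.mp ‹Module.Projective R M›
  have hP' : (cl P).FG := by rw [hcl]; exact hfg
  obtain ⟨S, hS⟩ := exists_finset_supported s hfg
  rw [hcl] at hS
  -- the finite free module of coordinates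
  let a : M →ₗ[R] (S → R) := LinearMap.pi (fun i => (Finsupp.lapply (i : M) : (M →₀ R) →ₗ[R] R) ∘ₗ s)
  let b : (S → R) →ₗ[R] M := ∑ i : S, (LinearMap.proj i : (S → R) →ₗ[R] R).smulRight (i : M)
  have ha : ∀ (x : M) (i : S), a x i = s x i := fun x i => rfl
  have hb : ∀ y : S → R, b y = ∑ i : S, y i • (i : M) := by
    intro y
    simp [b, LinearMap.sum_apply]
  have hba : ∀ x ∈ P, b (a x) = x := by
    intro x hx
    rw [hb]
    have h1 : x = Finsupp.linearCombination R id (s x) := (LinearMap.congr_fun hs x).symm
    conv_rhs => rw [h1]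
    rw [Finsupp.linearCombination_apply, Finsupp.sum_of_support_subset (s x) (s := S)
      (by
        have := hS x hx
        rw [Finsupp.mem_supported] at this
        exact_mod_cast this) _ (by intro i _; simp)]
    rw [← Finset.sum_coe_sort S]
    rfl
  -- the annihilator of `a P` in the dual of the coordinate module
  let P₀ : Submodule R (Module.Dual R (S → R)) :=
    { carrier := {ψ | ∀ x ∈ P, ψ (a x) = 0}
      add_mem' := by
        intro ψ ψ' h h' x hx
        rw [LinearMap.add_apply, h x hx, h' x hx, add_zero]
      zero_mem' := by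
        intro x _
        rfl
      smul_mem' := by
        intro c ψ h x hx
        rw [LinearMap.smul_apply, h x hx, smul_zero] }
  let N := Module.Dual R (S → R) ⧸ P₀
  haveI : Module.Finite R N := inferInstance
  haveI : Module.Projective R (Module.Dual R N) :=
    Groth.Agent.Lib.Helper7.RegDual.projective_dual R hdim N
  -- the comparison map
  let Ψ : P →ₗ[R] Module.Dual R N :=
    { toFun := fun x => P₀.liftQ ((LinearMap.applyₗ (a (x : M)) : Module.Dual R (S → R) →ₗ[R] R))
        (fun ψ hψ => by
          rw [LinearMap.mem_ker]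
          exact hψ x x.2)
      map_add' := by
        intro x y
        apply LinearMap.ext
        intro n
        obtain ⟨ψ, rfl⟩ := P₀.mkQ_surjective n
        simp
      map_smul' := by
        intro c x
        apply LinearMap.ext
        intro n
        obtain ⟨ψ, rfl⟩ := P₀.mkQ_surjective n
        simp }
  have hΨ : ∀ (x : P) (ψ : Module.Dual R (S → R)), Ψ x (P₀.mkQ ψ) = ψ (a (x : M)) := by
    intro x ψ
    rfl
  have hinj : Function.Injective Ψ := by
    rw [injective_iff_map_eq_zero]
    intro x hx
    have h0 : a (x : M) = 0 := by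
      funext i
      have := hΨ x (LinearMap.proj i)
      rw [hx] at this
      exact this.symm
    have := hba x x.2
    rw [h0, map_zero] at this
    exact Subtype.ext this.symm
  have hsurj : Function.Surjective Ψ := by
    intro ξ
    let y : S → R := fun i => ξ (P₀.mkQ (LinearMap.proj i))
    have hy : ∀ ψ : Module.Dual R (S → R), ξ (P₀.mkQ ψ) = ψ y := by
      intro ψ
      have h1 : ψ = ∑ i : S, ψ (fun j => if i = j then (1 : R) else 0) •
          (LinearMap.proj i : (S → R) →ₗ[R] R) := by
        apply LinearMap.ext
        intro z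
        rw [LinearMap.pi_apply_eq_sum_univ ψ z, LinearMap.sum_apply]
        refine Finset.sum_congr rfl (fun i _ => ?_)
        rw [LinearMap.smul_apply, LinearMap.proj_apply, smul_eq_mul, smul_eq_mul, mul_comm]
      conv_lhs => rw [h1]
      rw [LinearMap.pi_apply_eq_sum_univ ψ y]
      simp only [map_sum, map_smul, smul_eq_mul]
      refine Finset.sum_congr rfl (fun i _ => ?_)
      rw [mul_comm]
    -- `y = a (b y)`
    have hyy : a (b y) = y := by
      funext i
      let ψi : Module.Dual R (S → R) :=
        (LinearMap.proj i : (S → R) →ₗ[R] R) - (LinearMap.proj i : (S → R) →ₗ[R] R) ∘ₗ a ∘ₗ b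
      have hψi : ψi ∈ P₀ := by
        intro x hx
        simp only [ψi, LinearMap.sub_apply, LinearMap.comp_apply, LinearMap.proj_apply]
        rw [hba x hx, sub_self]
      have h2 := hy ψi
      rw [Submodule.mkQ_apply, (Submodule.Quotient.mk_eq_zero P₀).2 hψi, map_zero] at h2
      simp only [ψi, LinearMap.sub_apply, LinearMap.comp_apply, LinearMap.proj_apply] at h2
      exact (sub_eq_zero.1 h2.symm).symm
    have hmem : b y ∈ P := by
      rw [← hcl]
      intro φ hφ
      have hφb : φ ∘ₗ b ∈ P₀ := by
        intro x hx
        rw [LinearMap.comp_apply, hba x hx]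
        exact hφ x hx
      have h2 := hy (φ ∘ₗ b)
      rw [Submodule.mkQ_apply, (Submodule.Quotient.mk_eq_zero P₀).2 hφb, map_zero] at h2
      exact h2.symm
    refine ⟨⟨b y, hmem⟩, ?_⟩
    apply LinearMap.ext
    intro n
    obtain ⟨ψ, rfl⟩ := P₀.mkQ_surjective n
    rw [hΨ, hy]
    change ψ (a (b y)) = ψ y
    rw [hyy]
  exact Module.Projective.of_equiv (LinearEquiv.ofBijective Ψ ⟨hinj, hsurj⟩).symm

end proj

end Groth.Agent.Lib.Helper7.DAnn
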