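import Groth.Agent.Lib.Helper7.DC6
import Groth.Agent.Lib.Helper7.DC3

/-!
# Diagonal matrices of group-likes over a group algebra (helper7)
-/

set_option autoImplicit false
universe u
open TensorProduct CoordGrp

namespace Groth.Agent.Lib.Helper7.DC

section Basic

variable {F : Type u} [Field F] {M : Type} [CommGroup M] {m : ℕ}

/-- scalar matrices over the group algebra. -/
noncomputable def sc (S : Matrix (Fin m) (Fin m) F) : Matrix (Fin m) (Fin m) (MonoidAlgebra F M) :=
  S.map (algebraMap F (MonoidAlgebra F M))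

lemma sc_apply (S : Matrix (Fin m) (Fin m) F) (i j : Fin m) :
    sc (M := M) S i j = algebraMap F (MonoidAlgebra F M) (S i j) := rfl

lemma sc_mul (S T : Matrix (Fin m) (Fin m) F) : sc (M := M) (S * T) = sc S * sc T :=
  Matrix.map_mul (f := algebraMap F (MonoidAlgebra F M))

lemma sc_one : sc (M := M) (1 : Matrix (Fin m) (Fin m) F) = 1 := by
  unfold sc
  rw [Matrix.map_one _ (map_zero _) (map_one _)]

lemma isUnit_det_sc {S : Matrix (Fin m) (Fin m) F} (hS : IsUnit S.det) :
    IsUnit (sc (M := M) S).det := by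
  have h : (sc (M := M) S).det = algebraMap F (MonoidAlgebra F M) S.det :=
    (RingHom.map_det (algebraMap F (MonoidAlgebra F M)) S).symm
  rw [h]
  exact hS.map _

lemma sc_map {N : Type} [CommGroup N] (y : MonoidAlgebra F M →ₐ[F] MonoidAlgebra F N)
    (S : Matrix (Fin m) (Fin m) F) : (sc (M := M) S).map y = sc (M := N) S := by
  ext i j
  rw [Matrix.map_apply, sc_apply, sc_apply, AlgHom.commutes]

/-- the diagonal matrix of group-likes attached to a labelling. -/
noncomputable def Cd (c : Fin m → M) : Matrix (Fin m) (Fin m) (MonoidAlgebra F M) :=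
  Matrix.diagonal (fun l => MonoidAlgebra.single (c l) (1 : F))

lemma isUnit_single (a : M) : IsUnit (MonoidAlgebra.single a (1 : F)) :=
  (Group.isUnit a).map (MonoidAlgebra.of F M)

lemma isUnit_det_Cd (c : Fin m → M) : IsUnit (Cd (F := F) c).det := by
  unfold Cd
  rw [Matrix.det_diagonal]
  exact IsUnit.prod_univ_iff.2 fun l => isUnit_single (c l)

/-- the diagonal point of `GL_m` with values in the group algebra. -/
noncomputable def r₀ (c : Fin m → M) : GLn m F →ₐ[F] MonoidAlgebra F M :=
  ofMat (Cd c) (isUnit_det_Cd c)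

@[simp] lemma mat_r₀ (c : Fin m → M) : mat (r₀ (F := F) c) = Cd c := mat_ofMat _ _

lemma r₀_X (c : Fin m → M) (i j : Fin m) : r₀ (F := F) c (GLn.X i j) = Cd c i j :=
  congrFun (congrFun (mat_r₀ c) i) j

/-- the diagonal point is a bialgebra map. -/
noncomputable def r₀B (c : Fin m → M) : GLn m F →ₐc[F] MonoidAlgebra F M :=
  BialgHom.ofAlgHom (r₀ c)
    (by
      apply Groth.Agent.Lib.Helper7.HopfGLn.algHom_ext_X
      intro i j
      rw [AlgHom.comp_apply, r₀_X]
      change Coalgebra.counit (R := F) (Cd (F := F) c i j) = Coalgebra.counit (R := F) (GLn.X i j : GLn m F)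
      rw [GLn.counit_X (k := F), Cd, Matrix.diagonal_apply]
      by_cases h : i = j
      · rw [if_pos h, if_pos h, MonoidAlgebra.counit_single]
        rfl
      · rw [if_neg h, if_neg h, map_zero])
    (by
      apply Groth.Agent.Lib.Helper7.HopfGLn.algHom_ext_X
      intro i j
      rw [AlgHom.comp_apply, AlgHom.comp_apply, r₀_X]
      change Algebra.TensorProduct.map (r₀ c) (r₀ c)
        (Coalgebra.comul (R := F) (GLn.X i j : GLn m F)) = Coalgebra.comul (R := F) (Cd (F := F) c i j)
      rw [GLn.comul_X, map_sum]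
      simp only [Algebra.TensorProduct.map_tmul, r₀_X]
      rw [Cd]
      by_cases h : i = j
      · subst h
        rw [Finset.sum_eq_single i]
        · rw [Matrix.diagonal_apply_eq, MonoidAlgebra.comul_single]
          simp
        · intro l _ hl
          rw [Matrix.diagonal_apply_ne _ (Ne.symm hl), TensorProduct.zero_tmul]
        · intro hi
          exact absurd (Finset.mem_univ i) hi
      · rw [Matrix.diagonal_apply_ne _ h, map_zero]
        apply Finset.sum_eq_zero
        intro l _
        by_cases hl : i = l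
        · subst hl
          rw [Matrix.diagonal_apply_ne _ h, TensorProduct.tmul_zero]
        · rw [Matrix.diagonal_apply_ne _ hl, TensorProduct.zero_tmul])

@[simp] lemma coe_r₀B (c : Fin m → M) : ((r₀B (F := F) c : GLn m F →ₐc[F] MonoidAlgebra F M) :
    GLn m F →ₐ[F] MonoidAlgebra F M) = r₀ c := rfl

end Basic

section Fin

variable {F : Type u} [Field F] {M : Type} [CommGroup M] [Fintype M] [DecidableEq M] {m : ℕ}

lemma Pc_injective {C C' : Matrix (Fin m) (Fin m) (MonoidAlgebra F M)}
    (h : ∀ a, Pc C a = Pc C' a) : C = C' := by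
  ext i j a
  exact congrFun (congrFun (h a) i) j

lemma coeff_algebraMap_mul (r : F) (x : MonoidAlgebra F M) (a : M) :
    (algebraMap F (MonoidAlgebra F M) r * x).coeff a = r * x.coeff a := by
  rw [← Algebra.smul_def, MonoidAlgebra.coeff_smul]
  rfl

lemma coeff_mul_algebraMap (r : F) (x : MonoidAlgebra F M) (a : M) :
    (x * algebraMap F (MonoidAlgebra F M) r).coeff a = x.coeff a * r := by
  rw [mul_comm, coeff_algebraMap_mul, mul_comm]

lemma Pc_sc_mul (S : Matrix (Fin m) (Fin m) F) (C : Matrix (Fin m) (Fin m) (MonoidAlgebra F M))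
    (a : M) : Pc (sc S * C) a = S * Pc C a := by
  ext i j
  change ((sc S * C : Matrix (Fin m) (Fin m) (MonoidAlgebra F M)) i j).coeff a = _
  rw [Matrix.mul_apply, Matrix.mul_apply, MonoidAlgebra.coeff_sum, Finsupp.finsetSum_apply]
  apply Finset.sum_congr rfl
  intro l _
  rw [sc_apply, coeff_algebraMap_mul]
  rfl

lemma Pc_mul_sc (S : Matrix (Fin m) (Fin m) F) (C : Matrix (Fin m) (Fin m) (MonoidAlgebra F M))
    (a : M) : Pc (C * sc S) a = Pc C a * S := by
  ext i j
  change ((C * sc S : Matrix (Fin m) (Fin m) (MonoidAlgebra F M)) i j).coeff a = _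
  rw [Matrix.mul_apply, Matrix.mul_apply, MonoidAlgebra.coeff_sum, Finsupp.finsetSum_apply]
  apply Finset.sum_congr rfl
  intro l _
  rw [sc_apply, coeff_mul_algebraMap]
  rfl

lemma Pc_Cd (c : Fin m → M) (a : M) : Pc (Cd (F := F) c) a = Ed c a := by
  ext i j
  change (Cd (F := F) c i j).coeff a = _
  rw [Cd, Ed, Matrix.diagonal_apply, Matrix.diagonal_apply]
  by_cases h : i = j
  · rw [if_pos h, if_pos h, MonoidAlgebra.coeff_single, Finsupp.single_apply]
  · rw [if_neg h, if_neg h]
    rfl

theorem exists_diag' {ι : Type} [Fintype ι] [DecidableEq ι] {P : ι → Matrix (Fin m) (Fin m) F}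
    (hP : IsCOI P) :
    ∃ (T : Matrix (Fin m) (Fin m) F) (c : Fin m → ι), IsUnit T.det ∧
      ∀ a, T * P a = Ed c a * T := by
  obtain ⟨S, c, hS, h⟩ := exists_diag hP
  refine ⟨S⁻¹, c, ?_, ?_⟩
  · exact (Matrix.isUnit_nonsing_inv_det_iff).2 hS
  · intro a
    calc S⁻¹ * P a = S⁻¹ * (P a * S) * S⁻¹ := by
          rw [Matrix.mul_assoc, Matrix.mul_assoc, Matrix.mul_nonsing_inv _ hS, Matrix.mul_one]
      _ = Ed c a * S⁻¹ := by
          rw [h a, ← Matrix.mul_assoc, Matrix.nonsing_inv_mul _ hS, Matrix.one_mul]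

/-- a comultiplicative matrix over the group algebra of a finite commutative group is
diagonalisable by a scalar matrix. -/
theorem exists_sc_diag (C : Matrix (Fin m) (Fin m) (MonoidAlgebra F M))
    (hΔ : C.map (Coalgebra.comul (R := F) (A := MonoidAlgebra F M)) =
      C.map (fun x => x ⊗ₜ[F] (1 : MonoidAlgebra F M)) *
        C.map (fun x => (1 : MonoidAlgebra F M) ⊗ₜ[F] x))
    (hε : C.map (Coalgebra.counit (R := F) (A := MonoidAlgebra F M)) = 1) :
    ∃ (T : Matrix (Fin m) (Fin m) F) (c : Fin m → M), IsUnit T.det ∧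
      sc T * C = Cd c * sc T := by
  obtain ⟨T, c, hT, h⟩ := exists_diag' (isCOI_Pc C hΔ hε)
  refine ⟨T, c, hT, Pc_injective fun a => ?_⟩
  rw [Pc_sc_mul, Pc_mul_sc, Pc_Cd, h a]

end Fin

section Gen

variable {F : Type u} [Field F] {M : Type} [CommGroup M] {m : ℕ}

lemma map_mul_algHom {A B : Type*} [Semiring A] [Semiring B] [Algebra F A] [Algebra F B]
    (y : A →ₐ[F] B) (L N : Matrix (Fin m) (Fin m) A) :
    (L * N).map y = L.map y * N.map y := by
  ext i j
  simp [Matrix.mul_apply, map_sum]

lemma Cd_map_mapDomain {N : Type} [CommGroup N] (f : M →* N) (c : Fin m → M) :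
    (Cd (F := F) c).map (MonoidAlgebra.mapDomainAlgHom F F f) = Cd (fun l => f (c l)) := by
  unfold Cd
  rw [Matrix.diagonal_map (map_zero _)]
  congr 1
  funext l
  simp

lemma sc_inv_mul {T : Matrix (Fin m) (Fin m) F} (hT : IsUnit T.det) :
    sc (M := M) T⁻¹ * sc T = 1 := by
  rw [← sc_mul, Matrix.nonsing_inv_mul _ hT, sc_one]

lemma sc_mul_inv {T : Matrix (Fin m) (Fin m) F} (hT : IsUnit T.det) :
    sc (M := M) T * sc T⁻¹ = 1 := by
  rw [← sc_mul, Matrix.mul_nonsing_inv _ hT, sc_one]

/-- if the diagonalised matrix separates points, the labels generate the group. -/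
theorem closure_range_eq_top (C : Matrix (Fin m) (Fin m) (MonoidAlgebra F M))
    (T : Matrix (Fin m) (Fin m) F) (c : Fin m → M) (hT : IsUnit T.det)
    (h : sc T * C = Cd c * sc T)
    (hinj : ∀ (N : Type) [CommGroup N] (y₁ y₂ : MonoidAlgebra F M →ₐ[F] MonoidAlgebra F N),
      C.map y₁ = C.map y₂ → y₁ = y₂) :
    Subgroup.closure (Set.range c) = ⊤ := by
  set H := Subgroup.closure (Set.range c) with hH
  have key : ∀ (N : Type) [CommGroup N] (f : M →* N),
      sc T * C.map (MonoidAlgebra.mapDomainAlgHom F F f) = Cd (fun l => f (c l)) * sc T := by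
    intro N _ f
    have h1 := congrArg (fun X => X.map (MonoidAlgebra.mapDomainAlgHom F F f)) h
    simp only [map_mul_algHom, sc_map, Cd_map_mapDomain] at h1
    exact h1
  have h1 := key (M ⧸ H) (QuotientGroup.mk' H)
  have h2 := key (M ⧸ H) 1
  have h3 : (fun l => (QuotientGroup.mk' H) (c l)) = fun l => (1 : M →* M ⧸ H) (c l) := by
    funext l
    rw [MonoidHom.one_apply, QuotientGroup.mk'_apply, QuotientGroup.eq_one_iff]
    exact Subgroup.subset_closure ⟨l, rfl⟩
  rw [h3, ← h2] at h1
  have h4 := congrArg (fun X => sc (M := M ⧸ H) T⁻¹ * X) h1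
  simp only [← Matrix.mul_assoc, sc_inv_mul hT, Matrix.one_mul] at h4
  have h5 := hinj _ _ _ h4
  rw [eq_top_iff]
  intro a _
  have h6 := congrArg (fun y => y (MonoidAlgebra.single a (1 : F))) h5
  simp only [MonoidAlgebra.mapDomainAlgHom_apply, MonoidAlgebra.mapDomain_single,
    MonoidHom.one_apply] at h6
  have h7 := MonoidAlgebra.single_left_injective (one_ne_zero (α := F)) h6
  rw [QuotientGroup.mk'_apply, QuotientGroup.eq_one_iff] at h7
  exact h7

/-- the diagonal point is surjective on coordinate rings when the labels generate. -/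
theorem r₀_surjective [Finite M] (c : Fin m → M) (hc : Subgroup.closure (Set.range c) = ⊤) :
    Function.Surjective (r₀ (F := F) c) := by
  have hmem : ∀ a : M, MonoidAlgebra.single a (1 : F) ∈ (r₀ (F := F) c).range := by
    intro a
    have ha : a ∈ Subgroup.closure (Set.range c) := by rw [hc]; trivial
    induction ha using Subgroup.closure_induction with
    | mem x hx =>
      obtain ⟨l, rfl⟩ := hx
      refine ⟨GLn.X l l, ?_⟩
      change r₀ (F := F) c (GLn.X l l) = _
      rw [r₀_X, Cd, Matrix.diagonal_apply_eq]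
    | one => exact (r₀ (F := F) c).range.one_mem
    | mul x y _ _ hx hy =>
      have : MonoidAlgebra.single (x * y) (1 : F) =
          MonoidAlgebra.single x 1 * MonoidAlgebra.single y 1 := by
        rw [MonoidAlgebra.single_mul_single, mul_one]
      rw [this]
      exact (r₀ (F := F) c).range.mul_mem hx hy
    | inv x _ hx =>
      have h1 : x⁻¹ = x ^ (orderOf x - 1) := by
        apply inv_eq_of_mul_eq_one_right
        rw [← pow_succ', Nat.sub_add_cancel (orderOf_pos x), pow_orderOf_eq_one]
      have h2 : MonoidAlgebra.single x⁻¹ (1 : F) = MonoidAlgebra.single x 1 ^ (orderOf x - 1) := by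
        rw [MonoidAlgebra.single_pow, one_pow, ← h1]
      rw [h2]
      exact (r₀ (F := F) c).range.pow_mem hx _
  intro x
  change x ∈ (r₀ (F := F) c).range
  induction x using MonoidAlgebra.induction_on with
  | of a => exact hmem a
  | add x y hx hy => exact (r₀ (F := F) c).range.add_mem hx hy
  | smul r x hx => exact (r₀ (F := F) c).range.smul_mem hx r

end Gen

end Groth.Agent.Lib.Helper7.DC
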