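import Groth.Agent.Lib.Helper7.DC2
import Groth.Agent.Lib.Helper7.DC7

/-!
# The base change of `Spec k[M]` is `Spec K[M]` (helper7)
-/

set_option autoImplicit false
universe u
open CategoryTheory MonoidalCategory CartesianMonoidalCategory MonObj GrpObj AlgebraicGeometry
  CategoryTheory.Limits
open TensorProduct WithConv

namespace Groth.Agent.Lib.Helper7.DC

open Groth.Agent.Lib.Helper7.GH Groth.Agent.Lib.Helper7.GModComod

section General

variable {k K : Type u} [CommRing k] [CommRing K] [Algebra k K]
variable (R : Type u) [CommRing R] [Algebra K R] [Algebra k R] [IsScalarTower k K R]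
variable {B : Type u} [CommRing B] [HopfAlgebra k B]

/-- the map `B ⊗ K → R` of a `k`-algebra map `B → R`. -/
noncomputable def tpMap (r : B →ₐ[k] R) : B ⊗[k] K →ₐ[k] R :=
  Algebra.TensorProduct.lift r ((Algebra.ofId K R).restrictScalars k) (fun _ _ => Commute.all _ _)

variable (k K B) in
/-- the underlying scheme of the base change of `Spec B` is `Spec (B ⊗ K)`. -/
noncomputable def bcIso :
    (Red.bc (fk k K) (CoactBr.sp k B)).left ≅ Spec (CommRingCat.of (B ⊗[k] K)) :=
  pullbackSpecIso k B K

lemma bcIso_inv_fst : (bcIso k K B).inv ≫ pullback.fst (CoactBr.sp k B).hom (fk k K) =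
    Spec.map (CommRingCat.ofHom Algebra.TensorProduct.includeLeftRingHom) :=
  pullbackSpecIso_inv_fst k B K

lemma bcIso_inv_snd : (bcIso k K B).inv ≫ pullback.snd (CoactBr.sp k B).hom (fk k K) =
    Spec.map (CommRingCat.ofHom (Algebra.TensorProduct.includeRight (R := k) (A := B) (B := K)).toRingHom) :=
  pullbackSpecIso_inv_snd k B K

lemma ofTr_left (r : B →ₐ[k] R) :
    (ofTr (K := K) R r).left =
      (Spec.map (CommRingCat.ofHom (tpMap (K := K) R r).toRingHom) :
        (CoactBr.sp K R).left ⟶ Spec (CommRingCat.of (B ⊗[k] K))) ≫ (bcIso k K B).inv := by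
  apply pullback.hom_ext
  · refine Eq.trans ?_ (Category.assoc _ _ _).symm
    refine Eq.trans ?_ (congrArg (fun t => Spec.map (CommRingCat.ofHom
      (tpMap (K := K) R r).toRingHom) ≫ t) (bcIso_inv_fst (k := k) (K := K) (B := B))).symm
    refine Eq.trans ?_ (Spec.map_comp _ _)
    rw [← CommRingCat.ofHom_comp]
    have h1 := hs_left (fk k K) _ _ (ofTr (K := K) R r)
    have h2 : hs (fk k K) _ _ (ofTr (K := K) R r) = (kap R).hom ≫ pg r := by
      unfold ofTr
      rw [Equiv.apply_symm_apply]
    rw [h2] at h1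
    refine h1.symm.trans ?_
    rw [Over.comp_left, kap_hom_left, pg_left]
    erw [Category.id_comp]
    congr 2
    ext b
    simp [tpMap]
  · refine Eq.trans ?_ (Category.assoc _ _ _).symm
    refine Eq.trans ?_ (congrArg (fun t => Spec.map (CommRingCat.ofHom
      (tpMap (K := K) R r).toRingHom) ≫ t) (bcIso_inv_snd (k := k) (K := K) (B := B))).symm
    refine Eq.trans ?_ (Spec.map_comp _ _)
    rw [← CommRingCat.ofHom_comp]
    have h1 := Over.w (ofTr (K := K) R r)
    refine h1.trans ?_
    change Spec.map (CommRingCat.ofHom (algebraMap K R)) = _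
    congr 2
    ext b
    simp [tpMap]

theorem isIso_ofTr (r : B →ₐ[k] R) (h : Function.Bijective (tpMap (K := K) R r)) :
    IsIso (ofTr (K := K) R r) := by
  have h1 : IsIso (ofTr (K := K) R r).left := by
    rw [ofTr_left]
    have h2 : IsIso (CommRingCat.ofHom (tpMap (K := K) R r).toRingHom) := by
      rw [ConcreteCategory.isIso_iff_bijective]
      exact h
    have h3 : IsIso (Spec.map (CommRingCat.ofHom (tpMap (K := K) R r).toRingHom)) := inferInstance
    exact IsIso.comp_isIso' h3 inferInstance
  haveI : IsIso ((Over.forget _).map (ofTr (K := K) R r)) := h1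
  exact isIso_of_reflects_iso _ (Over.forget _)

end General

section Grp

variable {k K : Type u} [Field k] [Field K] [Algebra k K] (M : Type) [CommGroup M]

/-- the inclusion `k[M] → K[M]`. -/
noncomputable def incl : MonoidAlgebra k M →ₐ[k] MonoidAlgebra K M :=
  MonoidAlgebra.mapAlgHom M (Algebra.ofId k K)

@[simp] lemma incl_single (a : M) (r : k) :
    incl (K := K) M (MonoidAlgebra.single a r) = MonoidAlgebra.single a (algebraMap k K r) := by
  unfold incl
  rw [MonoidAlgebra.mapAlgHom_single]
  rfl

lemma tpMap_incl_bijective :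
    Function.Bijective (tpMap (k := k) (K := K) (B := MonoidAlgebra k M) (MonoidAlgebra K M)
      (incl (k := k) (K := K) M)) := by
  have h : tpMap (k := k) (K := K) (B := MonoidAlgebra k M) (MonoidAlgebra K M)
      (incl (k := k) (K := K) M) =
      (((MonoidAlgebra.scalarTensorEquiv (M := M) k K).restrictScalars k).toAlgHom).comp
        (Algebra.TensorProduct.comm k (MonoidAlgebra k M) K).toAlgHom := by
    apply Algebra.TensorProduct.ext'
    intro p a
    simp only [tpMap, Algebra.TensorProduct.lift_tmul, AlgHom.comp_apply,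
      AlgHom.coe_restrictScalars', Algebra.ofId_apply]
    change _ = (MonoidAlgebra.scalarTensorEquiv (M := M) k K)
      ((Algebra.TensorProduct.comm k (MonoidAlgebra k M) K) (p ⊗ₜ[k] a))
    rw [Algebra.TensorProduct.comm_tmul, MonoidAlgebra.scalarTensorEquiv_tmul, Algebra.smul_def,
      mul_comm]
    rfl
  rw [h]
  exact ((Algebra.TensorProduct.comm k (MonoidAlgebra k M) K).trans
    ((MonoidAlgebra.scalarTensorEquiv (M := M) k K).restrictScalars k)).bijective

/-- the comparison `Spec K[M] ⟶ (Spec k[M])_K`. -/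
noncomputable def φ₁ : CoactBr.sp K (MonoidAlgebra K M) ⟶
    Red.bc (fk k K) (CoactBr.sp k (MonoidAlgebra k M)) :=
  ofTr (k := k) (K := K) (B := MonoidAlgebra k M) (MonoidAlgebra K M) (incl (k := k) (K := K) M)

instance isIso_φ₁ : IsIso (φ₁ (k := k) (K := K) M) :=
  isIso_ofTr _ _ (tpMap_incl_bijective M)

@[simp] lemma tr_φ₁ : tr (k := k) (K := K) (B := MonoidAlgebra k M) (MonoidAlgebra K M)
    (φ₁ (k := k) (K := K) M) = incl M :=
  tr_ofTr _ _

lemma Cd_map_incl {m : ℕ} (c : Fin m → M) :
    (Cd (F := k) c).map (incl (K := K) M) = Cd (F := K) c := by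
  unfold Cd
  rw [Matrix.diagonal_map (map_zero _)]
  congr 1
  funext l
  simp

lemma sc_map_incl {m : ℕ} (S : Matrix (Fin m) (Fin m) k) :
    (sc (M := M) S).map (incl (K := K) M) = sc (M := M) (S.map (algebraMap k K)) := by
  ext i j
  rw [Matrix.map_apply, sc_apply, sc_apply, Matrix.map_apply, AlgHom.commutes]
  exact (IsScalarTower.algebraMap_apply k K (MonoidAlgebra K M) _).symm ▸ rfl

end Grp

end Groth.Agent.Lib.Helper7.DC
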