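import Groth.Agent.Lib.Helper7.DC5
import Groth.Agent.Lib.Helper7.DC9
import Groth.Prelude.Def_AGF

/-!
# Closed subgroups of `GL_m` isomorphic to a finite diagonalisable group are conjugate to diagonal
ones defined over the base field (helper7)
-/

set_option autoImplicit false
universe u
open CategoryTheory MonoidalCategory CartesianMonoidalCategory MonObj GrpObj AlgebraicGeometry
  CategoryTheory.Limits
open TensorProduct WithConv CoordGrp

namespace Groth.Agent.Lib.Helper7.DC

open Groth.Agent.Lib.Helper7.GH Groth.Agent.Lib.Helper7.GModComod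

variable {k K : Type u} [Field k] [Field K] [Algebra k K] {m : ℕ}
  (M : Type) [CommGroup M] [Fintype M] [DecidableEq M]

lemma mat_ofId_comp (a : GLn m k →ₐ[k] K) :
    mat (((Algebra.ofId K (MonoidAlgebra K M)).restrictScalars k).comp a) = sc (M := M) (mat a) := rfl

theorem core281 (i'' : CoactBr.sp K (MonoidAlgebra K M) ⟶
      Red.bc (fk k K) (CoactBr.sp k (GLn m k))) [IsMonHom i''] [Mono i''] :
    ∃ (c : Fin m → M) (g : 𝟙_ (Over (Spec (CommRingCat.of K))) ⟶
        Red.bc (fk k K) (CoactBr.sp k (GLn m k))),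
      Subgroup.closure (Set.range c) = ⊤ ∧
      AGF.conjBy g i'' = φ₁ (k := k) (K := K) M ≫
        (Over.pullback (fk k K)).map (pg (r₀ (F := k) c)) := by
  obtain ⟨T, c, hT, h⟩ := exists_sc_diag (mat (tr (K := K) (MonoidAlgebra K M) i''))
    (mat_comul_of_isMonHom i'') (mat_counit_of_isMonHom i'')
  have hgen : Subgroup.closure (Set.range c) = ⊤ := by
    apply closure_range_eq_top _ T c hT h
    intro N _ y₁ y₂ hy
    have e : ∀ y : MonoidAlgebra K M →ₐ[K] MonoidAlgebra K N,
        (mat (tr (K := K) (MonoidAlgebra K M) i'')).map y =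
          mat (tr (K := K) (MonoidAlgebra K N) (CoactBr.pt y ≫ i'')) := by
      intro y
      rw [tr_pt_comp]
      rfl
    rw [e, e] at hy
    have h1 := tr_injective _ (mat_injective hy)
    rw [cancel_mono] at h1
    exact CoactBr.pt_injective h1
  refine ⟨c, ofTrU (K := K) (ofMat (k := k) T hT), hgen, ?_⟩
  change (toUnit _ ≫ _) * i'' * (toUnit _ ≫ _)⁻¹ = _
  rw [mul_inv_eq_iff_eq_mul]
  apply tr_injective (MonoidAlgebra K M)
  rw [tr_mul, tr_mul, tr_toUnit_comp, trU_ofTrU, tr_comp_map_pg, tr_φ₁]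
  apply mat_injective
  rw [mat_convMul, mat_convMul, mat_ofId_comp, mat_ofMat, mat_comp, mat_r₀, Cd_map_incl]
  exact h

end Groth.Agent.Lib.Helper7.DC
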