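import Groth.Agent.Lib.Helper7.DC9

/-!
# Rationality of conjugacy of diagonalisable matrices over a group algebra (helper7)
-/

set_option autoImplicit false
universe u
open TensorProduct CoordGrp

namespace Groth.Agent.Lib.Helper7.DC

section Conj

variable {R : Type*} [CommRing R] {m : ℕ}

/-- moving an invertible matrix across an intertwining relation. -/
lemma inv_intertwine {a a' X D : Matrix (Fin m) (Fin m) R} (h1 : a * a' = 1) (h2 : a' * a = 1)
    (h : a * X = D * a) : a' * D = X * a' := by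
  calc a' * D = a' * (D * a) * a' := by
        rw [Matrix.mul_assoc, Matrix.mul_assoc, h1, Matrix.mul_one]
    _ = a' * (a * X) * a' := by rw [h]
    _ = X * a' := by rw [← Matrix.mul_assoc a' a, h2, Matrix.one_mul]

lemma conj_chain {a' b Γ X Y DP DQ : Matrix (Fin m) (Fin m) R}
    (e1 : a' * DP = X * a') (hΓ : Γ * X = Y * Γ) (hb : b * Y = DQ * b) :
    (b * Γ * a') * DP = DQ * (b * Γ * a') := by
  calc (b * Γ * a') * DP = b * Γ * (a' * DP) := by simp only [Matrix.mul_assoc]
    _ = b * (Γ * X) * a' := by rw [e1]; simp only [Matrix.mul_assoc]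
    _ = (b * Y) * Γ * a' := by rw [hΓ]; simp only [Matrix.mul_assoc]
    _ = DQ * (b * Γ * a') := by rw [hb]; simp only [Matrix.mul_assoc]

/-- an invertible matrix has a nowhere vanishing generalised diagonal. -/
lemma exists_perm_of_det_ne_zero {G : Matrix (Fin m) (Fin m) R} (h : G.det ≠ 0) :
    ∃ π : Equiv.Perm (Fin m), ∀ i, G (π i) i ≠ 0 := by
  by_contra hcon
  push Not at hcon
  apply h
  rw [Matrix.det_apply]
  apply Finset.sum_eq_zero
  intro π _
  obtain ⟨i, hi⟩ := hcon π
  rw [Finset.prod_eq_zero (f := fun i => G (π i) i) (Finset.mem_univ i) hi, smul_zero]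

end Conj

section Main

variable {k K : Type u} [Field k] [Field K] [Algebra k K] {m : ℕ}
  {M : Type} [CommGroup M] [Fintype M] [DecidableEq M]

/-- the permutation matrix. -/
def Pm (F : Type*) [Zero F] [One F] (π : Equiv.Perm (Fin m)) : Matrix (Fin m) (Fin m) F :=
  fun l l' => if l = π l' then 1 else 0

lemma Pm_eq (F : Type*) [CommRing F] (π : Equiv.Perm (Fin m)) :
    Pm F π = (Equiv.toPEquiv π.symm).toMatrix := by
  ext l l'
  rw [Pm, PEquiv.toMatrix_apply]
  simp only [Equiv.toPEquiv_apply, Option.mem_def, Option.some.injEq]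
  by_cases h : l = π l'
  · rw [if_pos h, if_pos (by rw [h, Equiv.symm_apply_apply])]
  · rw [if_neg h, if_neg (fun h' => h (by rw [← h', Equiv.apply_symm_apply]))]

lemma isUnit_det_Pm (F : Type*) [CommRing F] (π : Equiv.Perm (Fin m)) : IsUnit (Pm F π).det := by
  rw [Pm_eq, Matrix.det_permutation]
  rcases Int.units_eq_one_or (Equiv.Perm.sign π.symm) with h | h
  · rw [h]
    simp
  · rw [h]
    simp

omit [Fintype M] [DecidableEq M] in
/-- group-like images: extension from generators. -/
lemma exists_single_of_closure [Finite M] (ϑ : MonoidAlgebra K M →ₐ[K] MonoidAlgebra K M)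
    (s : Set M) (hs : Subgroup.closure s = ⊤)
    (h : ∀ b ∈ s, ∃ a, ϑ (MonoidAlgebra.single b 1) = MonoidAlgebra.single a (1 : K)) :
    ∀ b, ∃ a, ϑ (MonoidAlgebra.single b 1) = MonoidAlgebra.single a (1 : K) := by
  intro b
  have hb : b ∈ Subgroup.closure s := by rw [hs]; trivial
  induction hb using Subgroup.closure_induction with
  | mem x hx => exact h x hx
  | one => exact ⟨1, map_one ϑ⟩
  | mul x y _ _ hx hy =>
    obtain ⟨a, ha⟩ := hx
    obtain ⟨a', ha'⟩ := hy
    refine ⟨a * a', ?_⟩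
    have : MonoidAlgebra.single (x * y) (1 : K) =
        MonoidAlgebra.single x 1 * MonoidAlgebra.single y 1 := by
      rw [MonoidAlgebra.single_mul_single, mul_one]
    rw [this, map_mul, ha, ha', MonoidAlgebra.single_mul_single, mul_one]
  | inv x _ hx =>
    obtain ⟨a, ha⟩ := hx
    have h1 : x⁻¹ = x ^ (orderOf x - 1) := by
      apply inv_eq_of_mul_eq_one_right
      rw [← pow_succ', Nat.sub_add_cancel (orderOf_pos x), pow_orderOf_eq_one]
    refine ⟨a ^ (orderOf x - 1), ?_⟩
    have h2 : MonoidAlgebra.single x⁻¹ (1 : K) = MonoidAlgebra.single x 1 ^ (orderOf x - 1) := by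
      rw [MonoidAlgebra.single_pow, one_pow, ← h1]
    rw [h2, map_pow, ha, MonoidAlgebra.single_pow, one_pow]

omit [Fintype M] [DecidableEq M] in
/-- an injective algebra endomorphism of the group algebra which maps group elements to group
elements comes from an automorphism of the group. -/
lemma exists_mulEquiv [Finite M] (ϑ : MonoidAlgebra K M →ₐ[K] MonoidAlgebra K M)
    (hinj : Function.Injective ϑ)
    (h : ∀ b, ∃ a, ϑ (MonoidAlgebra.single b 1) = MonoidAlgebra.single a (1 : K)) :
    ∃ u : M ≃* M, ∀ b, ϑ (MonoidAlgebra.single b 1) = MonoidAlgebra.single (u b) (1 : K) := by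
  choose u₀ hu₀ using h
  have hsi := MonoidAlgebra.single_left_injective (M := M) (one_ne_zero (α := K))
  have hmul : ∀ b b', u₀ (b * b') = u₀ b * u₀ b' := by
    intro b b'
    apply hsi
    change MonoidAlgebra.single (u₀ (b * b')) (1 : K) = MonoidAlgebra.single (u₀ b * u₀ b') 1
    have : MonoidAlgebra.single (b * b') (1 : K) =
        MonoidAlgebra.single b 1 * MonoidAlgebra.single b' 1 := by
      rw [MonoidAlgebra.single_mul_single, mul_one]
    rw [← hu₀, this, map_mul, hu₀, hu₀, MonoidAlgebra.single_mul_single, mul_one]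
  have hinj' : Function.Injective u₀ := by
    intro b b' hbb
    apply hsi
    apply hinj
    change ϑ (MonoidAlgebra.single b 1) = ϑ (MonoidAlgebra.single b' 1)
    rw [hu₀, hu₀, hbb]
  have hbij : Function.Bijective u₀ := Finite.injective_iff_bijective.1 hinj'
  exact ⟨MulEquiv.ofBijective (MonoidHom.mk' u₀ hmul) hbij, hu₀⟩

theorem rational_conj
    (Cσ Cτ : Matrix (Fin m) (Fin m) (MonoidAlgebra k M))
    (TP TQ : Matrix (Fin m) (Fin m) k) (cP cQ : Fin m → M)
    (hTP : IsUnit TP.det) (hTQ : IsUnit TQ.det)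
    (hP : sc TP * Cσ = Cd cP * sc TP) (hQ : sc TQ * Cτ = Cd cQ * sc TQ)
    (hgen : Subgroup.closure (Set.range cQ) = ⊤)
    (G : Matrix (Fin m) (Fin m) K) (hG : IsUnit G.det)
    (ϑ : MonoidAlgebra K M →ₐ[K] MonoidAlgebra K M) (hϑ : Function.Injective ϑ)
    (h : sc G * Cσ.map (incl (K := K) M) = (Cτ.map (incl (K := K) M)).map ϑ * sc G) :
    ∃ (u : M ≃* M) (g₀ : Matrix (Fin m) (Fin m) k), IsUnit g₀.det ∧
      sc g₀ * Cσ = Cτ.map (MonoidAlgebra.mapDomainAlgHom k k (u : M →* M)) * sc g₀ := by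
  set TPK := TP.map (algebraMap k K) with hTPKdef
  set TQK := TQ.map (algebraMap k K) with hTQKdef
  have hTPK : IsUnit TPK.det := by
    have : TPK.det = algebraMap k K TP.det := (RingHom.map_det (algebraMap k K) TP).symm
    rw [this]
    exact hTP.map _
  have hTQK : IsUnit TQK.det := by
    have : TQK.det = algebraMap k K TQ.det := (RingHom.map_det (algebraMap k K) TQ).symm
    rw [this]
    exact hTQ.map _
  have hPK : sc TPK * Cσ.map (incl (K := K) M) = Cd cP * sc TPK := by
    have h1 := congrArg (fun X => X.map (incl (K := K) M)) hP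
    simp only [map_mul_algHom, sc_map_incl, Cd_map_incl] at h1
    exact h1
  have hQK : sc TQK * (Cτ.map (incl (K := K) M)).map ϑ = (Cd cQ).map ϑ * sc TQK := by
    have h1 := congrArg (fun X => (X.map (incl (K := K) M)).map ϑ) hQ
    simp only [map_mul_algHom, sc_map_incl, sc_map] at h1
    rw [Cd_map_incl] at h1
    exact h1
  have e1 : sc (M := M) TPK⁻¹ * Cd cP = Cσ.map (incl (K := K) M) * sc TPK⁻¹ :=
    inv_intertwine (sc_mul_inv hTPK) (sc_inv_mul hTPK) hPK
  set G' := TQK * G * TPK⁻¹ with hG'def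
  have hscG' : sc (M := M) G' = sc TQK * sc G * sc TPK⁻¹ := by
    rw [hG'def, sc_mul, sc_mul]
  have key : sc (M := M) G' * Cd cP = (Cd cQ).map ϑ * sc G' := by
    rw [hscG']
    exact conj_chain e1 h hQK
  have hG'det : G'.det ≠ 0 := by
    rw [hG'def, Matrix.det_mul, Matrix.det_mul]
    exact ((hTQK.mul hG).mul ((Matrix.isUnit_nonsing_inv_det_iff).2 hTPK)).ne_zero
  have entry : ∀ i j, G' i j ≠ 0 →
      ϑ (MonoidAlgebra.single (cQ i) 1) = MonoidAlgebra.single (cP j) (1 : K) := by
    intro i j hij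
    have hCd : (Cd (F := K) cQ).map ϑ =
        Matrix.diagonal (fun l => ϑ (MonoidAlgebra.single (cQ l) (1 : K))) := by
      unfold Cd
      rw [Matrix.diagonal_map (map_zero ϑ)]
    have h1 := congrFun (congrFun key i) j
    rw [hCd] at h1
    unfold Cd at h1
    rw [Matrix.mul_diagonal, Matrix.diagonal_mul, sc_apply] at h1
    have hu : IsUnit (algebraMap K (MonoidAlgebra K M) (G' i j)) := (IsUnit.mk0 _ hij).map _
    rw [mul_comm] at h1
    exact (hu.mul_right_cancel h1).symm
  obtain ⟨π, hπ⟩ := exists_perm_of_det_ne_zero hG'det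
  have hall := exists_single_of_closure ϑ (Set.range cQ) hgen (by
    rintro b ⟨l, rfl⟩
    refine ⟨cP (π.symm l), ?_⟩
    have := entry (π (π.symm l)) (π.symm l) (hπ _)
    rwa [Equiv.apply_symm_apply] at this)
  obtain ⟨u, hu⟩ := exists_mulEquiv ϑ hϑ hall
  have hsi := MonoidAlgebra.single_left_injective (M := M) (one_ne_zero (α := K))
  have hucQ : ∀ i, u (cQ (π i)) = cP i := by
    intro i
    apply hsi
    change MonoidAlgebra.single (u (cQ (π i))) (1 : K) = MonoidAlgebra.single (cP i) 1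
    rw [← hu, entry (π i) i (hπ i)]
  have keyPm : sc (M := M) (Pm k π) * Cd cP = Cd (fun l => u (cQ l)) * sc (Pm k π) := by
    refine Matrix.ext fun l l' => ?_
    unfold Cd
    rw [Matrix.mul_diagonal, Matrix.diagonal_mul, sc_apply, Pm]
    by_cases hl : l = π l'
    · rw [if_pos hl, hl]
      change _ = MonoidAlgebra.single (u (cQ (π l'))) 1 * _
      rw [hucQ, mul_comm]
    · rw [if_neg hl, map_zero, zero_mul, mul_zero]
  have hQk : sc TQ * Cτ.map (MonoidAlgebra.mapDomainAlgHom k k (u : M →* M)) =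
      Cd (fun l => u (cQ l)) * sc TQ := by
    have h1 := congrArg (fun X => X.map (MonoidAlgebra.mapDomainAlgHom k k (u : M →* M))) hQ
    simp only [map_mul_algHom, sc_map, Cd_map_mapDomain] at h1
    exact h1
  have e2 : sc (M := M) TQ⁻¹ * Cd (fun l => u (cQ l)) =
      Cτ.map (MonoidAlgebra.mapDomainAlgHom k k (u : M →* M)) * sc TQ⁻¹ :=
    inv_intertwine (sc_mul_inv hTQ) (sc_inv_mul hTQ) hQk
  refine ⟨u, TQ⁻¹ * Pm k π * TP, ?_, ?_⟩
  · rw [Matrix.det_mul, Matrix.det_mul]
    exact (((Matrix.isUnit_nonsing_inv_det_iff).2 hTQ).mul (isUnit_det_Pm k π)).mul hTP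
  · rw [sc_mul, sc_mul]
    exact conj_chain hP keyPm e2

end Main

end Groth.Agent.Lib.Helper7.DC
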