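import Groth.Agent.Lib.Helper7.DC10
import Groth.Agent.Lib.Helper7.DC11

/-!
# Rationality of conjugacy for diagonalisable subgroups of `GL_m`: scheme level (helper7)
-/

set_option autoImplicit false
universe u
open CategoryTheory MonoidalCategory CartesianMonoidalCategory MonObj GrpObj AlgebraicGeometry
  CategoryTheory.Limits
open TensorProduct WithConv CoordGrp

namespace Groth.Agent.Lib.Helper7.DC

open Groth.Agent.Lib.Helper7.GH Groth.Agent.Lib.Helper7.GModComod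

section General

variable {S : Scheme.{u}} {G H H' : Over S} [GrpObj G]

lemma comp_conjBy (x : H' ⟶ H) (g : 𝟙_ (Over S) ⟶ G) (i : H ⟶ G) :
    x ≫ AGF.conjBy g i = AGF.conjBy g (x ≫ i) := by
  change x ≫ ((toUnit _ ≫ g) * i * (toUnit _ ≫ g)⁻¹) =
    (toUnit _ ≫ g) * (x ≫ i) * (toUnit _ ≫ g)⁻¹
  rw [MonObj.comp_mul, MonObj.comp_mul, GrpObj.comp_inv]
  have h3 : x ≫ toUnit _ ≫ g = toUnit H' ≫ g := by
    rw [← Category.assoc]
    congr 1
    exact toUnit_unique _ _
  rw [h3]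

end General

section Bialg

variable {k : Type u} [CommRing k] {A : Type u} [CommRing A] [HopfAlgebra k A] {m : ℕ}

lemma mat_comul_of_bialgHom (a : GLn m k →ₐc[k] A) :
    (mat (a : GLn m k →ₐ[k] A)).map (Coalgebra.comul (R := k) (A := A)) =
      (mat (a : GLn m k →ₐ[k] A)).map (fun x => x ⊗ₜ[k] (1 : A)) *
        (mat (a : GLn m k →ₐ[k] A)).map (fun x => (1 : A) ⊗ₜ[k] x) := by
  ext i j
  rw [Matrix.map_apply, Matrix.mul_apply, mat_apply]
  have h1 : TensorProduct.map (a : GLn m k →ₗ[k] A) (a : GLn m k →ₗ[k] A)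
      (Coalgebra.comul (R := k) (GLn.X i j : GLn m k)) =
        Coalgebra.comul (R := k) (a (GLn.X i j)) :=
    LinearMap.congr_fun (CoalgHomClass.map_comp_comul a) (GLn.X i j)
  change Coalgebra.comul (R := k) (a (GLn.X i j)) = _
  rw [← h1, GLn.comul_X, map_sum]
  apply Finset.sum_congr rfl
  intro l _
  rw [TensorProduct.map_tmul, Matrix.map_apply, Matrix.map_apply,
    Algebra.TensorProduct.tmul_mul_tmul, _root_.mul_one, _root_.one_mul]
  rfl

lemma mat_counit_of_bialgHom (a : GLn m k →ₐc[k] A) :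
    (mat (a : GLn m k →ₐ[k] A)).map (Coalgebra.counit (R := k) (A := A)) = 1 := by
  ext i j
  rw [Matrix.map_apply, mat_apply]
  change Coalgebra.counit (R := k) (a (GLn.X i j)) = _
  rw [CoalgHomClass.counit_comp_apply, GLn.counit_X, Matrix.one_apply]

end Bialg

section Pts

variable {k : Type u} [CommRing k] {A : Type u} [CommRing A] [HopfAlgebra k A]
  {R : Type u} [CommRing R] [Algebra k R]

lemma pf_injective : Function.Injective
    (pf : (CoactBr.sp k R ⟶ CoactBr.sp k A) → (A →ₐ[k] R)) := by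
  intro x y h
  rw [← pg_pf x, ← pg_pf y, h]

lemma pg_id : (pg (AlgHom.id k A) : CoactBr.sp k A ⟶ CoactBr.sp k A) = 𝟙 _ := by
  rw [pg_eq_pt, CoactBr.pt_id]

lemma toUnit_comp_ptOf (gam : A →ₐ[k] k) :
    toUnit (CoactBr.sp k R) ≫ ptOf gam = pg ((Algebra.ofId k R).comp gam) := by
  apply Over.OverMorphism.ext
  rw [Over.comp_left, ptOf_left, Over.toUnit_left, pg_left]
  change Spec.map _ ≫ Spec.map _ = _
  rw [← Spec.map_comp]
  rfl

end Pts

section Core

variable {k K : Type u} [Field k] [Field K] [Algebra k K] {m : ℕ}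
  (M : Type) [CommGroup M] [Fintype M] [DecidableEq M]

variable (k) in
/-- the automorphism of `Spec k[M]` of an automorphism of `M`. -/
noncomputable def isoOfMulEquiv (u : M ≃* M) :
    CoactBr.sp k (MonoidAlgebra k M) ≅ CoactBr.sp k (MonoidAlgebra k M) where
  hom := pg (MonoidAlgebra.mapDomainAlgHom k k (u : M →* M))
  inv := pg (MonoidAlgebra.mapDomainAlgHom k k (u.symm : M →* M))
  hom_inv_id := by
    rw [pg_comp_pg]
    have : (MonoidAlgebra.mapDomainAlgHom k k (u : M →* M)).comp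
        (MonoidAlgebra.mapDomainAlgHom k k (u.symm : M →* M)) = AlgHom.id k _ := by
      apply MonoidAlgebra.algHom_ext
      · intro x
        simp
      · exact Subsingleton.elim _ _
    rw [this, pg_id]
  inv_hom_id := by
    rw [pg_comp_pg]
    have : (MonoidAlgebra.mapDomainAlgHom k k (u.symm : M →* M)).comp
        (MonoidAlgebra.mapDomainAlgHom k k (u : M →* M)) = AlgHom.id k _ := by
      apply MonoidAlgebra.algHom_ext
      · intro x
        simp
      · exact Subsingleton.elim _ _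
    rw [this, pg_id]

theorem core280 (Aσ Aτ : GLn m k →ₐc[k] MonoidAlgebra k M)
    [Mono (pg (Aτ : GLn m k →ₐ[k] MonoidAlgebra k M))]
    (g : 𝟙_ (Over (Spec (CommRingCat.of K))) ⟶ Red.bc (fk k K) (CoactBr.sp k (GLn m k)))
    (θ : CoactBr.sp K (MonoidAlgebra K M) ≅ CoactBr.sp K (MonoidAlgebra K M))
    (h : AGF.conjBy g (φ₁ (k := k) (K := K) M ≫
        (Over.pullback (fk k K)).map (pg (Aσ : GLn m k →ₐ[k] MonoidAlgebra k M))) =
      θ.hom ≫ φ₁ (k := k) (K := K) M ≫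
        (Over.pullback (fk k K)).map (pg (Aτ : GLn m k →ₐ[k] MonoidAlgebra k M))) :
    ∃ (ψ : CoactBr.sp k (MonoidAlgebra k M) ≅ CoactBr.sp k (MonoidAlgebra k M))
      (g₀ : 𝟙_ (Over (Spec (CommRingCat.of k))) ⟶ CoactBr.sp k (GLn m k)),
      AGF.conjBy g₀ (pg (Aσ : GLn m k →ₐ[k] MonoidAlgebra k M)) =
        ψ.hom ≫ pg (Aτ : GLn m k →ₐ[k] MonoidAlgebra k M) := by
  obtain ⟨TP, cP, hTP, hP⟩ := exists_sc_diag (mat (Aσ : GLn m k →ₐ[k] MonoidAlgebra k M))
    (mat_comul_of_bialgHom Aσ) (mat_counit_of_bialgHom Aσ)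
  obtain ⟨TQ, cQ, hTQ, hQ⟩ := exists_sc_diag (mat (Aτ : GLn m k →ₐ[k] MonoidAlgebra k M))
    (mat_comul_of_bialgHom Aτ) (mat_counit_of_bialgHom Aτ)
  have hgen : Subgroup.closure (Set.range cQ) = ⊤ := by
    apply closure_range_eq_top _ TQ cQ hTQ hQ
    intro N _ y₁ y₂ hy
    have h1 : y₁.comp (Aτ : GLn m k →ₐ[k] MonoidAlgebra k M) =
        y₂.comp (Aτ : GLn m k →ₐ[k] MonoidAlgebra k M) := mat_injective hy
    have h2 : pg y₁ ≫ pg (Aτ : GLn m k →ₐ[k] MonoidAlgebra k M) =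
        pg y₂ ≫ pg (Aτ : GLn m k →ₐ[k] MonoidAlgebra k M) := by
      rw [pg_comp_pg, pg_comp_pg, h1]
    rw [cancel_mono] at h2
    have h3 := congrArg pf h2
    rwa [pf_pg, pf_pg] at h3
  -- the automorphism over `K`
  have hθ : θ.hom = CoactBr.pt (pf θ.hom) := by rw [← pg_eq_pt, pg_pf]
  have hinj : Function.Injective (pf θ.hom) := by
    have h1 : (pf θ.inv).comp (pf θ.hom) = AlgHom.id K _ := by
      have h2 : pg (pf θ.inv) ≫ pg (pf θ.hom) = 𝟙 _ := by rw [pg_pf, pg_pf, Iso.inv_hom_id]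
      rw [pg_comp_pg, ← pg_id] at h2
      have h3 := congrArg pf h2
      rwa [pf_pg, pf_pg] at h3
    intro x y hxy
    have := congrArg (pf θ.inv) hxy
    have e : ∀ z, pf θ.inv (pf θ.hom z) = z := fun z => congrArg (fun f => f z) h1
    rwa [e, e] at this
  -- translate the hypothesis
  change (toUnit _ ≫ g) * _ * (toUnit _ ≫ g)⁻¹ = _ at h
  rw [mul_inv_eq_iff_eq_mul] at h
  have h1 := congrArg (tr (K := K) (MonoidAlgebra K M)) h
  rw [tr_mul, tr_mul, tr_toUnit_comp, tr_comp_map_pg, tr_φ₁, hθ, tr_pt_comp, tr_comp_map_pg,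
    tr_φ₁] at h1
  have h2 := congrArg mat h1
  rw [mat_convMul, mat_convMul, mat_ofId_comp] at h2
  obtain ⟨u, g₀, hg₀, hfin⟩ := rational_conj _ _ TP TQ cP cQ hTP hTQ hP hQ hgen
    (mat (trU g)) (isUnit_det_mat _) (pf θ.hom) hinj h2
  refine ⟨isoOfMulEquiv k M u, ptOf (ofMat (k := k) g₀ hg₀), ?_⟩
  change (toUnit _ ≫ _) * _ * (toUnit _ ≫ _)⁻¹ = pg _ ≫ pg _
  rw [mul_inv_eq_iff_eq_mul, toUnit_comp_ptOf, pg_comp_pg]
  apply pf_injective
  rw [pf_mul, pf_mul, pf_pg, pf_pg, pf_pg]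
  apply mat_injective
  rw [mat_convMul, mat_convMul]
  have e1 : mat ((Algebra.ofId k (MonoidAlgebra k M)).comp (ofMat (k := k) g₀ hg₀)) =
      sc (M := M) g₀ := by
    rw [mat_comp, mat_ofMat]
    rfl
  rw [e1]
  exact hfin

end Core

end Groth.Agent.Lib.Helper7.DC
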