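import Mathlib

/-!
# Complete systems of orthogonal idempotent matrices are diagonalisable (helper7)
-/

set_option autoImplicit false
universe u v

namespace Groth.Agent.Lib.Helper7.DC

open Matrix

variable {F : Type u} [Field F] {m : ℕ} {ι : Type v} [Fintype ι] [DecidableEq ι]

/-- the standard diagonal idempotent attached to a labelling. -/
def Ed (c : Fin m → ι) (a : ι) : Matrix (Fin m) (Fin m) F :=
  Matrix.diagonal (fun l => if c l = a then (1 : F) else 0)

/-- a complete system of orthogonal idempotents. -/
structure IsCOI (P : ι → Matrix (Fin m) (Fin m) F) : Prop where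
  sum_eq : ∑ a, P a = 1
  orth : ∀ a b, P a * P b = if a = b then P a else 0

theorem exists_diag {P : ι → Matrix (Fin m) (Fin m) F} (hP : IsCOI P) :
    ∃ (S : Matrix (Fin m) (Fin m) F) (c : Fin m → ι), IsUnit S.det ∧
      ∀ a, P a * S = S * Ed c a := by
  classical
  let V := Fin m → F
  let t : Set V := {v | ∃ a, (P a).mulVec v = v}
  have ht : ⊤ ≤ Submodule.span F t := by
    intro v _
    have hv : v = ∑ a, (P a).mulVec v := by
      rw [← Matrix.sum_mulVec, hP.sum_eq, Matrix.one_mulVec]
    rw [hv]
    apply Submodule.sum_mem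
    intro a _
    apply Submodule.subset_span
    refine ⟨a, ?_⟩
    rw [Matrix.mulVec_mulVec, hP.orth a a, if_pos rfl]
  let b := Module.Basis.ofSpan (K := F) ht
  haveI : Fintype ↥((linearIndepOn_empty F id).extend (Set.empty_subset t)) :=
    FiniteDimensional.fintypeBasisIndex b
  have hcard : Fintype.card ↥((linearIndepOn_empty F id).extend (Set.empty_subset t)) = m := by
    rw [← Module.finrank_eq_card_basis b, Module.finrank_fin_fun]
  let e := Fintype.equivFinOfCardEq hcard
  let b' : Module.Basis (Fin m) F V := b.reindex e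
  have hb' : ∀ l, b' l ∈ t := by
    intro l
    apply Module.Basis.ofSpan_subset ht
    refine ⟨e.symm l, ?_⟩
    simp [b', b]
  choose c hc using hb'
  let S : Matrix (Fin m) (Fin m) F := (Pi.basisFun F (Fin m)).toMatrix b'
  have hS : ∀ i l, S i l = b' l i := by
    intro i l
    simp [S, Module.Basis.toMatrix_apply]
  refine ⟨S, c, ?_, ?_⟩
  · have h1 : S * b'.toMatrix (Pi.basisFun F (Fin m)) = 1 :=
      Module.Basis.toMatrix_mul_toMatrix_flip _ _
    exact Matrix.isUnit_det_of_right_inverse h1
  · intro a
    ext i l
    unfold Ed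
    rw [Matrix.mul_diagonal, Matrix.mul_apply]
    have h2 : ∑ j, P a i j * S j l = ((P a).mulVec (b' l)) i := by
      rw [Matrix.mulVec, dotProduct]
      apply Finset.sum_congr rfl
      intro j _
      rw [hS]
    rw [h2, hS]
    by_cases hca : c l = a
    · rw [if_pos hca, mul_one, ← hca, hc l]
    · rw [if_neg hca, mul_zero]
      have h3 : (P a).mulVec (b' l) = 0 := by
        rw [← hc l, Matrix.mulVec_mulVec, hP.orth, if_neg (fun h => hca h.symm), Matrix.zero_mulVec]
      rw [h3]
      rfl

end Groth.Agent.Lib.Helper7.DC
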