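import Groth.Agent.Lib.Helper7.DC2
import Groth.Agent.Lib.Helper7.DC3
import Groth.Agent.Lib.Helper7.HopfAntipode

/-!
# Homomorphisms into the base change of `GL_m` are comultiplicative matrices (helper7)
-/

set_option autoImplicit false
universe u
open CategoryTheory MonoidalCategory CartesianMonoidalCategory MonObj GrpObj AlgebraicGeometry
  CategoryTheory.Limits
open TensorProduct WithConv CoordGrp

namespace Groth.Agent.Lib.Helper7.DC

open Groth.Agent.Lib.Helper7.GH Groth.Agent.Lib.Helper7.GModComod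

variable {k K : Type u} [CommRing k] [CommRing K] [Algebra k K]
variable {A : Type u} [CommRing A] [HopfAlgebra K A] [Algebra k A] [IsScalarTower k K A]

example : Algebra k (A ⊗[K] A) := inferInstance
example : IsScalarTower k K (A ⊗[K] A) := inferInstance

lemma pg_eq_pt {R : Type u} [CommRing R] [Algebra K R] (φ : A →ₐ[K] R) :
    (pg φ : CoactBr.sp K R ⟶ CoactBr.sp K A) = CoactBr.pt φ := by
  apply Over.OverMorphism.ext
  rw [pg_left, CoactBr.pt_left]
  rfl


lemma pt_mul_pt {R : Type u} [CommRing R] [Algebra K R] (φ ψ : A →ₐ[K] R) :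
    (CoactBr.pt φ : CoactBr.sp K R ⟶ CoactBr.sp K A) * CoactBr.pt ψ =
      CoactBr.pt (toConv φ * toConv ψ).ofConv := by
  rw [← pg_eq_pt, ← pg_eq_pt, ← pg_eq_pt]
  unfold pg
  rw [toConv_ofConv, map_mul]

lemma pt_counit : (CoactBr.pt (Bialgebra.counitAlgHom K A) : CoactBr.sp K K ⟶ CoactBr.sp K A) = 1 := by
  rw [← pg_eq_pt]
  unfold pg
  have h : toConv (Bialgebra.counitAlgHom K A) = (1 : WithConv (A →ₐ[K] K)) := by
    apply WithConv.ofConv_injective
    apply AlgHom.ext
    intro x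
    change Coalgebra.counit (R := K) x = algebraMap K K (Coalgebra.counit (R := K) x)
    rfl
  rw [h, map_one]

variable {B : Type u} [CommRing B] [HopfAlgebra k B]

lemma tr_one {R : Type u} [CommRing R] [Algebra K R] [Algebra k R] [IsScalarTower k K R] :
    tr (K := K) R (1 : CoactBr.sp K R ⟶ Red.bc (fk k K) (CoactBr.sp k B)) =
      (1 : WithConv (B →ₐ[k] R)).ofConv := by
  unfold tr
  rw [hs_one, MonObj.comp_one, pf_one]

variable {m : ℕ}

theorem mat_comul_of_isMonHom (a : CoactBr.sp K A ⟶ Red.bc (fk k K) (CoactBr.sp k (GLn m k)))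
    [IsMonHom a] :
    (mat (tr (K := K) A a)).map (Coalgebra.comul (R := K) (A := A)) =
      (mat (tr (K := K) A a)).map (fun x => x ⊗ₜ[K] (1 : A)) *
        (mat (tr (K := K) A a)).map (fun x => (1 : A) ⊗ₜ[K] x) := by
  have h1 := MonObj.mul_comp
    (CoactBr.pt (Algebra.TensorProduct.includeLeft : A →ₐ[K] A ⊗[K] A) :
      CoactBr.sp K (A ⊗[K] A) ⟶ CoactBr.sp K A)
    (CoactBr.pt (Algebra.TensorProduct.includeRight : A →ₐ[K] A ⊗[K] A)) a
  rw [pt_mul_pt, ← Groth.Agent.Lib.Helper7.HopfConv.comul_eq_includeLeft_mul_includeRight,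
    ofConv_toConv] at h1
  have h2 := congrArg (tr (K := K) (A ⊗[K] A)) h1
  rw [tr_mul, tr_pt_comp, tr_pt_comp, tr_pt_comp] at h2
  have h3 := congrArg mat h2
  rw [mat_convMul, mat_comp, mat_comp, mat_comp] at h3
  exact h3

theorem mat_counit_of_isMonHom (a : CoactBr.sp K A ⟶ Red.bc (fk k K) (CoactBr.sp k (GLn m k)))
    [IsMonHom a] :
    (mat (tr (K := K) A a)).map (Coalgebra.counit (R := K) (A := A)) = 1 := by
  have h1 := MonObj.one_comp (M := CoactBr.sp K A) (X := CoactBr.sp K K) a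
  rw [← pt_counit] at h1
  have h2 := congrArg (tr (K := K) K) h1
  rw [tr_pt_comp, tr_one] at h2
  have h3 := congrArg mat h2
  rw [mat_comp, mat_convOne] at h3
  exact h3

end Groth.Agent.Lib.Helper7.DC
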