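import Groth.Agent.Lib.Helper7.DC4
import Groth.Agent.Lib.Helper7.MultDesc

/-!
# Comultiplicative matrices over a group algebra are systems of orthogonal idempotents (helper7)
-/

set_option autoImplicit false
universe u
open TensorProduct

namespace Groth.Agent.Lib.Helper7.DC

open Groth.Agent.Lib.Helper7.MultDesc (cf cf_apply cf_single mul_cf_comul cf_mul_cf_comul_of_ne)

variable {F : Type u} [Field F] {M : Type} [CommGroup M] [Fintype M] [DecidableEq M] {m : ℕ}

/-- the coefficient matrices. -/
noncomputable def Pc (C : Matrix (Fin m) (Fin m) (MonoidAlgebra F M)) (a : M) :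
    Matrix (Fin m) (Fin m) F := fun i j => (C i j).coeff a

lemma counit_eq_sum_coeff (x : MonoidAlgebra F M) :
    Coalgebra.counit (R := F) x = ∑ a, x.coeff a := by
  have h : (Coalgebra.counit (R := F) (A := MonoidAlgebra F M)) = ∑ a : M, cf (R := F) a := by
    apply MonoidAlgebra.lhom_ext'
    intro n
    apply LinearMap.ext_ring
    simp only [LinearMap.comp_apply, MonoidAlgebra.lsingle_apply, MonoidAlgebra.counit_single,
      LinearMap.sum_apply, cf_single]
    simp
  rw [h, LinearMap.sum_apply]
  rfl

lemma eq_sum_single (x : MonoidAlgebra F M) : x = ∑ a, MonoidAlgebra.single a (x.coeff a) := by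
  apply MonoidAlgebra.coeff_injective
  ext b
  rw [MonoidAlgebra.coeff_sum]
  simp [MonoidAlgebra.coeff_single]

theorem isCOI_Pc (C : Matrix (Fin m) (Fin m) (MonoidAlgebra F M))
    (hΔ : C.map (Coalgebra.comul (R := F) (A := MonoidAlgebra F M)) =
      C.map (fun x => x ⊗ₜ[F] (1 : MonoidAlgebra F M)) *
        C.map (fun x => (1 : MonoidAlgebra F M) ⊗ₜ[F] x))
    (hε : C.map (Coalgebra.counit (R := F) (A := MonoidAlgebra F M)) = 1) :
    IsCOI (Pc C) := by
  constructor
  · ext i j
    rw [Matrix.sum_apply]
    have h := congrFun (congrFun hε i) j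
    rw [Matrix.map_apply, counit_eq_sum_coeff] at h
    exact h
  · intro a b
    ext i j
    have h := congrFun (congrFun hΔ i) j
    rw [Matrix.map_apply, Matrix.mul_apply] at h
    have h2 := congrArg (LinearMap.mul' F F ∘ₗ TensorProduct.map (cf (R := F) a) (cf b)) h
    rw [map_sum] at h2
    simp only [Matrix.map_apply, Algebra.TensorProduct.tmul_mul_tmul, mul_one, one_mul,
      LinearMap.comp_apply, TensorProduct.map_tmul, LinearMap.mul'_apply, cf_apply] at h2
    rw [Matrix.mul_apply]
    change ∑ l, (C i l).coeff a * (C l j).coeff b = _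
    rw [← h2]
    by_cases hab : a = b
    · subst hab
      rw [if_pos rfl]
      have := LinearMap.congr_fun (mul_cf_comul (R := F) (M := M) a) (C i j)
      change _ = (C i j).coeff a
      simpa [cf_apply] using this
    · rw [if_neg hab]
      have := LinearMap.congr_fun (cf_mul_cf_comul_of_ne (R := F) (M := M) hab) (C i j)
      change _ = (0 : F)
      simpa [cf_apply] using this

end Groth.Agent.Lib.Helper7.DC
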