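import Groth.Agent.Lib.Helper7.GmIsog1
import Groth.Agent.Lib.Helper7.FQ5

/-!
# The diagonalisable group `D_k(M)` over a field is `Spec k[M]` as a group (helper7)
-/

set_option autoImplicit false
universe u
open CategoryTheory MonoidalCategory CartesianMonoidalCategory MonObj GrpObj AlgebraicGeometry
  CategoryTheory.Limits
open TensorProduct WithConv

namespace Groth.Agent.Lib.Helper7.DC

open Groth.Agent.Lib.Helper7.GH Groth.Agent.Lib.Helper7.GModComod Groth.Agent.Lib.Helper7.GaLaw
  Groth.Agent.Lib.Helper21.GaPts Groth.Agent.Lib.Helper7.GaIsog Groth.Agent.Lib.Helper7.FQ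

variable {k : Type u} [Field k] (M₀ : Type) [AddCommGroup M₀]

instance isAffine_DS : IsAffine (Red.DS (Spec (CommRingCat.of k)) M₀).left := by
  haveI : IsAffine (Red.diag (ULift.{u} ℤ) M₀).left := inferInstanceAs (IsAffine (Spec _))
  change IsAffine (pullback _ _)
  infer_instance

variable {M₀}

/-- the character of an `R`-point. -/
noncomputable def dsVal (R : Type u) [CommRing R] [Algebra k R]
    (a : XR k R ⟶ Red.DS (Spec (CommRingCat.of k)) M₀) : Multiplicative M₀ →* R :=
  ((Scheme.ΓSpecIso (CommRingCat.of R)).hom.hom : Γ(Spec (CommRingCat.of R), ⊤) →* R).comp (dsChar a)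

lemma dsVal_apply (R : Type u) [CommRing R] [Algebra k R]
    (a : XR k R ⟶ Red.DS (Spec (CommRingCat.of k)) M₀) (m : Multiplicative M₀) :
    dsVal R a m = (Scheme.ΓSpecIso (CommRingCat.of R)).hom (dsFn (Multiplicative.toAdd m) a) := rfl

/-- the `R`-point with a given character. -/
noncomputable def dsOf (R : Type u) [CommRing R] [Algebra k R] (χ : Multiplicative M₀ →* R) :
    XR k R ⟶ Red.DS (Spec (CommRingCat.of k)) M₀ :=
  dsPt (X := XR k R) (MonoidHom.comp (N := R) (P := Γ((XR k R).left, ⊤))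
    ((Scheme.ΓSpecIso (CommRingCat.of R)).inv.hom : R →* Γ(Spec (CommRingCat.of R), ⊤)) χ)

@[simp] lemma dsVal_dsOf (R : Type u) [CommRing R] [Algebra k R] (χ : Multiplicative M₀ →* R) :
    dsVal R (dsOf (k := k) R χ) = χ := by
  refine MonoidHom.ext fun m => ?_
  rw [dsVal_apply, dsOf, dsFn_dsPt]
  exact congrArg (fun f : CommRingCat.of R ⟶ CommRingCat.of R => f (χ m))
    (Scheme.ΓSpecIso (CommRingCat.of R)).inv_hom_id

lemma dsVal_injective (R : Type u) [CommRing R] [Algebra k R] :
    Function.Injective (dsVal (k := k) (M₀ := M₀) R) := by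
  intro a b h
  apply dsFn_injective
  intro m
  have e1 : ∀ t : Γ(Spec (CommRingCat.of R), ⊤),
      (Scheme.ΓSpecIso (CommRingCat.of R)).inv ((Scheme.ΓSpecIso (CommRingCat.of R)).hom t) = t :=
    fun t => congrArg (fun f : Γ(Spec (CommRingCat.of R), ⊤) ⟶ Γ(Spec (CommRingCat.of R), ⊤) => f t)
      (Scheme.ΓSpecIso (CommRingCat.of R)).hom_inv_id
  have h1 : (Scheme.ΓSpecIso (CommRingCat.of R)).hom (dsFn m a) =
      (Scheme.ΓSpecIso (CommRingCat.of R)).hom (dsFn m b) :=
    DFunLike.congr_fun h (Multiplicative.ofAdd m)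
  have h2 := congrArg (Scheme.ΓSpecIso (CommRingCat.of R)).inv h1
  exact (e1 _).symm.trans (h2.trans (e1 _))

lemma dsVal_map {R R' : Type u} [CommRing R] [CommRing R'] [Algebra k R] [Algebra k R']
    (φ : R →ₐ[k] R') (a : XR k R ⟶ Red.DS (Spec (CommRingCat.of k)) M₀) :
    dsVal R' (XRmap φ ≫ a) = (φ : R →* R').comp (dsVal R a) := by
  refine MonoidHom.ext fun m => ?_
  rw [dsVal_apply, dsFn_comp, MonoidHom.comp_apply, dsVal_apply]
  have h := Scheme.ΓSpecIso_naturality (CommRingCat.ofHom (φ : R →+* R'))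
  exact congrArg (fun f : Γ(Spec (CommRingCat.of R), ⊤) ⟶ CommRingCat.of R' =>
    f (dsFn (Multiplicative.toAdd m) a)) h

lemma dsVal_mul (R : Type u) [CommRing R] [Algebra k R]
    (a b : XR k R ⟶ Red.DS (Spec (CommRingCat.of k)) M₀) :
    dsVal R (a * b) = dsVal R a * dsVal R b := by
  refine MonoidHom.ext fun m => ?_
  rw [MonoidHom.mul_apply, dsVal_apply, dsVal_apply, dsVal_apply, dsFn_mul]
  exact map_mul (Scheme.ΓSpecIso (CommRingCat.of R)).hom.hom _ _

variable (M : Model (Red.DS (Spec (CommRingCat.of k)) M₀))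

/-- the character of an `R`-point of the model. -/
noncomputable def thd (R : Type u) [CommRing R] [Algebra k R] (g : M.A →ₐ[k] R) :
    Multiplicative M₀ →* R :=
  dsVal (k := k) R (pgX g ≫ M.e.inv)

lemma thd_comp {R R' : Type u} [CommRing R] [CommRing R'] [Algebra k R] [Algebra k R']
    (ψ : R →ₐ[k] R') (g : M.A →ₐ[k] R) :
    thd M R' (ψ.comp g) = (ψ : R →* R').comp (thd M R g) := by
  unfold thd
  rw [← dsVal_map ψ, pgX_comp, Category.assoc]

lemma thd_mul (R : Type u) [CommRing R] [Algebra k R] (g g' : M.A →ₐ[k] R) :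
    thd M R (toConv g * toConv g').ofConv = thd M R g * thd M R g' := by
  unfold thd
  have h1 : pgX (toConv g * toConv g').ofConv ≫ M.e.inv = (pgX g ≫ M.e.inv) * (pgX g' ≫ M.e.inv) := by
    rw [pgX_mul]
    exact MonObj.mul_comp (pgX g) (pgX g') M.e.inv
  rw [h1, dsVal_mul]

lemma thd_injective (R : Type u) [CommRing R] [Algebra k R] : Function.Injective (thd M R) := by
  intro g g' h
  unfold thd at h
  have h1 := dsVal_injective R h
  rw [cancel_mono] at h1
  exact pgX_injective h1

lemma thd_surjective (R : Type u) [CommRing R] [Algebra k R] : Function.Surjective (thd M R) := by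
  intro χ
  obtain ⟨g, hg⟩ := pgX_surjective (A := M.A) (dsOf (k := k) R χ ≫ M.e.hom)
  refine ⟨g, ?_⟩
  unfold thd
  rw [hg, Category.assoc, Iso.hom_inv_id, Category.comp_id, dsVal_dsOf]

/-- the universal character. -/
noncomputable def ud : Multiplicative M₀ →* M.A := thd M M.A (AlgHom.id k M.A)

lemma thd_eq (R : Type u) [CommRing R] [Algebra k R] (g : M.A →ₐ[k] R) :
    thd M R g = (g : M.A →* R).comp (ud M) := by
  have := thd_comp M g (AlgHom.id k M.A)
  rwa [AlgHom.comp_id] at this

lemma isGroupLikeElem_ud (a : Multiplicative M₀) : IsGroupLikeElem k (ud M a) := by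
  refine ⟨?_, ?_⟩
  · have h1 := thd_mul M k (1 : WithConv (M.A →ₐ[k] k)).ofConv (1 : WithConv (M.A →ₐ[k] k)).ofConv
    rw [toConv_ofConv, _root_.mul_one] at h1
    have h2 := DFunLike.congr_fun h1 a
    rw [MonoidHom.mul_apply, thd_eq, MonoidHom.comp_apply] at h2
    have hu : IsUnit (((1 : WithConv (M.A →ₐ[k] k)).ofConv : M.A →* k) (ud M a)) :=
      IsUnit.map _ (IsUnit.map (ud M) (Group.isUnit a))
    have h3 := hu.mul_left_cancel (b := 1)
      (c := ((1 : WithConv (M.A →ₐ[k] k)).ofConv : M.A →* k) (ud M a))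
      (by rw [_root_.mul_one]; exact h2)
    exact h3.symm
  · have h1 := thd_mul M (M.A ⊗[k] M.A) Algebra.TensorProduct.includeLeft
      Algebra.TensorProduct.includeRight
    rw [← Groth.Agent.Lib.Helper7.HopfConv.comul_eq_includeLeft_mul_includeRight, ofConv_toConv,
      thd_eq, thd_eq, thd_eq] at h1
    have h3 := DFunLike.congr_fun h1 a
    rw [MonoidHom.mul_apply, MonoidHom.comp_apply, MonoidHom.comp_apply, MonoidHom.comp_apply] at h3
    change Coalgebra.comul (R := k) (ud M a) =
      ((ud M a) ⊗ₜ[k] (1 : M.A)) * ((1 : M.A) ⊗ₜ[k] (ud M a)) at h3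
    rw [h3, Algebra.TensorProduct.tmul_mul_tmul, _root_.mul_one, _root_.one_mul]

/-- the universal character, valued in group-like elements. -/
noncomputable def udGL : Multiplicative M₀ →* GroupLike k M.A where
  toFun a := ⟨ud M a, isGroupLikeElem_ud M a⟩
  map_one' := by
    apply GroupLike.val_injective
    exact map_one (ud M)
  map_mul' a b := by
    apply GroupLike.val_injective
    exact map_mul (ud M) a b

/-- the bialgebra map `k[M] → A`. -/
noncomputable def ψd : MonoidAlgebra k (Multiplicative M₀) →ₐc[k] M.A :=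
  (MonoidAlgebra.liftGroupLikeBialgHom (R := k) (A := M.A)).comp
    (MonoidAlgebra.mapDomainBialgHom k (udGL M))

lemma ψd_single (a : Multiplicative M₀) : ψd M (MonoidAlgebra.single a 1) = ud M a := by
  unfold ψd
  simp [MonoidAlgebra.liftGroupLikeBialgHom, udGL]

lemma ψd_bijective : Function.Bijective (ψd M) := by
  obtain ⟨g₁, hg₁⟩ := thd_surjective M (MonoidAlgebra k (Multiplicative M₀))
    (MonoidAlgebra.of k (Multiplicative M₀))
  rw [thd_eq] at hg₁
  have hg₁' : ∀ a, g₁ (ud M a) = MonoidAlgebra.single a 1 := fun a => DFunLike.congr_fun hg₁ a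
  have h1 : g₁.comp (ψd M : MonoidAlgebra k (Multiplicative M₀) →ₐ[k] M.A) =
      AlgHom.id k (MonoidAlgebra k (Multiplicative M₀)) := by
    apply MonoidAlgebra.algHom_ext
    · intro x
      change g₁ (ψd M (MonoidAlgebra.single x 1)) = MonoidAlgebra.single x 1
      rw [ψd_single, hg₁']
    · exact Subsingleton.elim _ _
  have h2 : (ψd M : MonoidAlgebra k (Multiplicative M₀) →ₐ[k] M.A).comp g₁ = AlgHom.id k M.A := by
    apply thd_injective M M.A
    rw [thd_eq, thd_eq]
    refine MonoidHom.ext fun a => ?_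
    change ψd M (g₁ (ud M a)) = ud M a
    rw [hg₁', ψd_single]
  constructor
  · intro p p' h
    have := congrArg g₁ h
    have e1 : ∀ p, g₁ (ψd M p) = p := fun p =>
      congrArg (fun f : MonoidAlgebra k (Multiplicative M₀) →ₐ[k] MonoidAlgebra k (Multiplicative M₀) =>
        f p) h1
    rwa [e1, e1] at this
  · intro a
    exact ⟨g₁ a, congrArg (fun f : M.A →ₐ[k] M.A => f a) h2⟩

variable (k M₀) in
/-- `D_k(M)` is the spectrum of the group algebra, as a group. -/
theorem exists_ds_iso :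
    ∃ e : Red.DS (Spec (CommRingCat.of k)) M₀ ≅
      CoactBr.sp k (MonoidAlgebra k (Multiplicative M₀)), IsMonHom e.hom := by
  obtain ⟨M⟩ := nonempty_model (Red.DS (Spec (CommRingCat.of k)) M₀)
  let χ₀ : MonoidAlgebra k (Multiplicative M₀) ≃ₐc[k] M.A :=
    BialgEquiv.ofBijective (ψd M) (ψd_bijective M)
  let M₁ := modelOfBialgEquiv M χ₀.symm
  exact ⟨M₁.e, M₁.mon⟩

end Groth.Agent.Lib.Helper7.DC
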