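import Mathlib
import Groth.Prelude.Def_SGA3b
import Groth.Agent.Lib.Helper7.MultDesc
import Groth.Agent.Lib.Helper7.HopfBCRing

set_option autoImplicit false
universe u
open TensorProduct SGA3b
open Groth.Agent.Lib.Helper7.MultDesc (eq_zero_of_cover)
open Groth.Agent.Lib.Helper7.BCR

namespace Groth.Agent.Lib.Helper7.ZGlue

section Idem

variable {S : Type u} [CommRing S] {ι : Type*} (ε : ι → S)
  (hidem : ∀ i, IsIdempotentElem (ε i)) (horth : ∀ i j, i ≠ j → ε i * ε j = 0)
  [Fintype ι] (hsum : ∑ i, ε i = 1)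

include hidem in
lemma algebraMap_self (j : ι) : algebraMap S (Localization.Away (ε j)) (ε j) = 1 := by
  have hu : IsUnit (algebraMap S (Localization.Away (ε j)) (ε j)) :=
    IsLocalization.Away.algebraMap_isUnit (ε j)
  have h2 : algebraMap S (Localization.Away (ε j)) (ε j) *
      algebraMap S (Localization.Away (ε j)) (ε j) =
      algebraMap S (Localization.Away (ε j)) (ε j) := by
    rw [← map_mul, (hidem j).eq]
  exact (hu.mul_left_cancel (by rw [h2, mul_one]))

include horth in
lemma algebraMap_of_ne {i j : ι} (hij : i ≠ j) :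
    algebraMap S (Localization.Away (ε j)) (ε i) = 0 := by
  have hu : IsUnit (algebraMap S (Localization.Away (ε j)) (ε j)) :=
    IsLocalization.Away.algebraMap_isUnit (ε j)
  have h2 : algebraMap S (Localization.Away (ε j)) (ε i) *
      algebraMap S (Localization.Away (ε j)) (ε j) = 0 := by
    rw [← map_mul, horth i j hij, map_zero]
  exact (hu.mul_left_eq_zero).1 h2

include hsum in
lemma span_range : Ideal.span (Set.range ε) = ⊤ := by
  rw [Ideal.eq_top_iff_one, ← hsum]
  exact Ideal.sum_mem _ (fun i _ => Ideal.subset_span ⟨i, rfl⟩)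

include hsum in
/-- vanishing on all pieces. -/
lemma eq_zero_of_pieces {X : Type*} [AddCommGroup X] [Module S X] (y : X)
    (h : ∀ j, (1 : Localization.Away (ε j)) ⊗ₜ[S] y = 0) : y = 0 := by
  apply eq_zero_of_cover (Set.range ε) (span_range ε hsum) y
  rintro _ ⟨j, rfl⟩
  exact h j

include hsum in
lemma eq_zero_of_algebraMap (r : S) (h : ∀ j, algebraMap S (Localization.Away (ε j)) r = 0) :
    r = 0 := by
  apply eq_zero_of_pieces ε hsum r
  intro j
  have : (1 : Localization.Away (ε j)) ⊗ₜ[S] r = (algebraMap S (Localization.Away (ε j)) r) ⊗ₜ[S] (1 : S) := by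
    rw [Algebra.algebraMap_eq_smul_one, TensorProduct.smul_tmul, smul_eq_mul, mul_one]
  rw [this, h j, TensorProduct.zero_tmul]

include hidem in
lemma algebraMap_surjective (j : ι) :
    Function.Surjective (algebraMap S (Localization.Away (ε j))) := by
  intro y
  obtain ⟨n, a, h⟩ := IsLocalization.Away.surj (ε j) y
  have h1 := algebraMap_self ε hidem j
  rw [h1, one_pow, mul_one] at h
  exact ⟨a, h.symm⟩

include hidem in
lemma tmul_surjective {X : Type*} [AddCommGroup X] [Module S X] (j : ι)
    (z : Localization.Away (ε j) ⊗[S] X) : ∃ x : X, (1 : Localization.Away (ε j)) ⊗ₜ[S] x = z := by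
  induction z using TensorProduct.induction_on with
  | zero => exact ⟨0, TensorProduct.tmul_zero _ _⟩
  | tmul s x =>
    obtain ⟨a, rfl⟩ := algebraMap_surjective ε hidem j s
    refine ⟨a • x, ?_⟩
    rw [TensorProduct.tmul_smul, TensorProduct.smul_tmul', Algebra.algebraMap_eq_smul_one]
  | add y z hy hz =>
    obtain ⟨y', rfl⟩ := hy
    obtain ⟨z', rfl⟩ := hz
    exact ⟨y' + z', TensorProduct.tmul_add _ _ _⟩

end Idem

end Groth.Agent.Lib.Helper7.ZGlue
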