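import Mathlib
import Groth.Prelude.Def_SGA3b
import Groth.Agent.Lib.Helper7.ZG1

set_option autoImplicit false
universe u
open TensorProduct SGA3b
open Groth.Agent.Lib.Helper7.BCR

namespace Groth.Agent.Lib.Helper7.ZGlue

section BC

variable {k : Type u} {K : Type u} {A : Type u} [CommRing k] [CommRing K] [Algebra k K] [CommRing A]
  [Bialgebra k A]

/-- `bcPair 1 d = 0` means `1 ⊗ d = 0`. -/
lemma one_tmul_eq_zero_of_bcPair (d : A ⊗[k] A) (h : bcPair (k := k) (K := K) (1 : K) d = 0) :
    (1 : K) ⊗ₜ[k] d = 0 := by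
  unfold bcPair at h
  have h1 : (((1 : K) ⊗ₜ[K] (1 : K)) ⊗ₜ[k] d : (K ⊗[K] K) ⊗[k] (A ⊗[k] A)) = 0 := by
    apply (AlgebraTensorModule.tensorTensorTensorComm k K k K K K A A).injective
    rw [h, map_zero]
  have h2 := congrArg (LinearMap.rTensor (A ⊗[k] A)
    ((TensorProduct.lid K K).toLinearMap.restrictScalars k)) h1
  simpa using h2

end BC

section MapR

variable {S : Type u} [CommRing S] {Q : Type u} [CommGroup Q] {ι : Type*} [Fintype ι] (ε : ι → S)
  (hidem : ∀ i, IsIdempotentElem (ε i)) (horth : ∀ i j, i ≠ j → ε i * ε j = 0)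
  (hsum : ∑ i, ε i = 1)

include hsum in
lemma eq_zero_of_mapRingHom (x : MonoidAlgebra S Q)
    (h : ∀ j, MonoidAlgebra.mapRingHom Q (algebraMap S (Localization.Away (ε j))) x = 0) : x = 0 := by
  ext q
  apply eq_zero_of_algebraMap ε hsum
  intro j
  have := congrArg (fun y => y.coeff q) (h j)
  simpa using this

include hidem in
lemma mapRingHom_surjective (j : ι) (y : MonoidAlgebra (Localization.Away (ε j)) Q) :
    ∃ x : MonoidAlgebra S Q,
      MonoidAlgebra.mapRingHom Q (algebraMap S (Localization.Away (ε j))) x = y := by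
  induction y using MonoidAlgebra.induction_linear with
  | zero => exact ⟨0, map_zero _⟩
  | add y z hy hz =>
    obtain ⟨y', rfl⟩ := hy
    obtain ⟨z', rfl⟩ := hz
    exact ⟨y' + z', map_add _ _ _⟩
  | single q r =>
    obtain ⟨a, rfl⟩ := algebraMap_surjective ε hidem j r
    exact ⟨MonoidAlgebra.single q a, MonoidAlgebra.mapRingHom_single _ _ _⟩

include hidem horth in
lemma exists_glue (y : ∀ j, MonoidAlgebra (Localization.Away (ε j)) Q) :
    ∃ x : MonoidAlgebra S Q, ∀ j,
      MonoidAlgebra.mapRingHom Q (algebraMap S (Localization.Away (ε j))) x = y j := by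
  classical
  choose x hx using fun j => mapRingHom_surjective (Q := Q) ε hidem j (y j)
  refine ⟨∑ i, MonoidAlgebra.single (1 : Q) (ε i) * x i, fun j => ?_⟩
  rw [map_sum, Finset.sum_eq_single j]
  · rw [map_mul, MonoidAlgebra.mapRingHom_single, algebraMap_self ε hidem j, hx]
    exact one_mul _
  · intro i _ hij
    rw [map_mul, MonoidAlgebra.mapRingHom_single, algebraMap_of_ne ε horth hij]
    simp
  · intro h
    exact absurd (Finset.mem_univ j) h

end MapR

section Glue

variable {S : Type u} [CommRing S] {H : Type u} [CommRing H] [HopfAlgebra S H]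
  {Q : Type u} [CommGroup Q] {ι : Type*} [Fintype ι] (ε : ι → S)
  (hidem : ∀ i, IsIdempotentElem (ε i)) (horth : ∀ i j, i ≠ j → ε i * ε j = 0)
  (hsum : ∑ i, ε i = 1)
  (e : ∀ i, Localization.Away (ε i) ⊗[S] H ≃ₐc[Localization.Away (ε i)]
    MonoidAlgebra (Localization.Away (ε i)) Q)

/-- chosen lifts of the local group-likes. -/
noncomputable def gl (q : Q) : H :=
  ∑ i, ε i • (tmul_surjective ε hidem i ((e i).symm (MonoidAlgebra.single q 1))).choose

include horth in
lemma one_tmul_gl (q : Q) (j : ι) :
    (1 : Localization.Away (ε j)) ⊗ₜ[S] gl ε hidem e q = (e j).symm (MonoidAlgebra.single q 1) := by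
  classical
  unfold gl
  rw [TensorProduct.tmul_sum, Finset.sum_eq_single j]
  · rw [TensorProduct.tmul_smul, TensorProduct.smul_tmul', Algebra.smul_def, mul_one,
      algebraMap_self ε hidem j]
    exact (tmul_surjective ε hidem j ((e j).symm (MonoidAlgebra.single q 1))).choose_spec
  · intro i _ hij
    rw [TensorProduct.tmul_smul, TensorProduct.smul_tmul', Algebra.smul_def, mul_one,
      algebraMap_of_ne ε horth hij, TensorProduct.zero_tmul]
  · intro h
    exact absurd (Finset.mem_univ j) h

include horth hsum in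
lemma gl_isGroupLike (q : Q) : IsGroupLikeElem S (gl ε hidem e q) := by
  have hloc : ∀ j, IsGroupLikeElem (Localization.Away (ε j))
      ((1 : Localization.Away (ε j)) ⊗ₜ[S] gl ε hidem e q) := by
    intro j
    rw [one_tmul_gl ε hidem horth e q j]
    exact (MonoidAlgebra.isGroupLikeElem_single_one (R := Localization.Away (ε j))
      (A := Localization.Away (ε j)) q).map (e j).symm
  refine ⟨?_, ?_⟩
  · rw [← sub_eq_zero]
    apply eq_zero_of_algebraMap ε hsum
    intro j
    have h1 := (hloc j).counit_eq_one
    rw [TensorProduct.counit_tmul, CommSemiring.counit_apply] at h1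
    rw [map_sub, map_one, sub_eq_zero, Algebra.algebraMap_eq_smul_one]
    exact h1
  · rw [← sub_eq_zero]
    apply eq_zero_of_pieces ε hsum
    intro j
    apply one_tmul_eq_zero_of_bcPair
    rw [bcPair_sub, ← comul_tmul_eq, bcPair_tmul, (hloc j).comul_eq_tmul_self, sub_self]

include horth hsum in
lemma gl_mul (q q' : Q) : gl ε hidem e (q * q') = gl ε hidem e q * gl ε hidem e q' := by
  rw [← sub_eq_zero]
  apply eq_zero_of_pieces ε hsum
  intro j
  rw [TensorProduct.tmul_sub, sub_eq_zero, one_tmul_gl ε hidem horth e _ j]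
  have : (1 : Localization.Away (ε j)) ⊗ₜ[S] (gl ε hidem e q * gl ε hidem e q') =
      ((1 : Localization.Away (ε j)) ⊗ₜ[S] gl ε hidem e q) *
        ((1 : Localization.Away (ε j)) ⊗ₜ[S] gl ε hidem e q') := by
    rw [Algebra.TensorProduct.tmul_mul_tmul, one_mul]
  rw [this, one_tmul_gl ε hidem horth e _ j, one_tmul_gl ε hidem horth e _ j, ← map_mul,
    MonoidAlgebra.single_mul_single, one_mul]

include horth hsum in
lemma gl_one : gl ε hidem e 1 = 1 := by
  rw [← sub_eq_zero]
  apply eq_zero_of_pieces ε hsum
  intro j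
  rw [TensorProduct.tmul_sub, sub_eq_zero, one_tmul_gl ε hidem horth e _ j]
  have h1 : (MonoidAlgebra.single (1 : Q) (1 : Localization.Away (ε j)) :
      MonoidAlgebra (Localization.Away (ε j)) Q) = 1 := rfl
  rw [h1, map_one]
  rfl

include hidem horth hsum e in
/-- gluing diagonalisations over a finite clopen partition. -/
theorem exists_bialgEquiv_of_pieces : Nonempty (H ≃ₐc[S] MonoidAlgebra S Q) := by
  classical
  let γ : Q →* GroupLike S H :=
    { toFun := fun q => ⟨gl ε hidem e q, gl_isGroupLike ε hidem horth hsum e q⟩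
      map_one' := by
        apply GroupLike.val_injective
        exact gl_one ε hidem horth hsum e
      map_mul' := by
        intro q q'
        apply GroupLike.val_injective
        exact gl_mul ε hidem horth hsum e q q' }
  set Ψ : MonoidAlgebra S Q →ₐc[S] H :=
    (MonoidAlgebra.liftGroupLikeBialgHom (R := S) (A := H)).comp
      (MonoidAlgebra.mapDomainBialgHom S γ) with hΨ
  have hΨs : ∀ (q : Q) (r : S), Ψ (MonoidAlgebra.single q r) = r • gl ε hidem e q := by
    intro q r
    simp [hΨ, γ]
  have hkey : ∀ (x : MonoidAlgebra S Q) (j : ι),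
      (1 : Localization.Away (ε j)) ⊗ₜ[S] Ψ x =
        (e j).symm (MonoidAlgebra.mapRingHom Q (algebraMap S (Localization.Away (ε j))) x) := by
    intro x j
    induction x using MonoidAlgebra.induction_linear with
    | zero => simp
    | add x y hx hy => rw [map_add, TensorProduct.tmul_add, hx, hy, map_add, map_add]
    | single q r =>
      rw [hΨs, TensorProduct.tmul_smul, TensorProduct.smul_tmul', Algebra.smul_def, mul_one,
        MonoidAlgebra.mapRingHom_single]
      have h1 : (algebraMap S (Localization.Away (ε j)) r) ⊗ₜ[S] gl ε hidem e q =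
          (algebraMap S (Localization.Away (ε j)) r) •
            ((1 : Localization.Away (ε j)) ⊗ₜ[S] gl ε hidem e q) := by
        rw [TensorProduct.smul_tmul', smul_eq_mul, mul_one]
      rw [h1, one_tmul_gl ε hidem horth e q j, ← map_smul]
      congr 1
      rw [MonoidAlgebra.smul_single, smul_eq_mul, mul_one]
  have hbij : Function.Bijective Ψ := by
    constructor
    · rw [injective_iff_map_eq_zero]
      intro x hx
      apply eq_zero_of_mapRingHom ε hsum
      intro j
      have h1 := hkey x j
      rw [hx, TensorProduct.tmul_zero] at h1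
      have h2 := congrArg (e j) h1
      rw [map_zero, BialgEquiv.apply_symm_apply] at h2
      exact h2.symm
    · intro h
      obtain ⟨x, hx⟩ := exists_glue (Q := Q) ε hidem horth
        (fun j => e j ((1 : Localization.Away (ε j)) ⊗ₜ[S] h))
      refine ⟨x, ?_⟩
      rw [← sub_eq_zero]
      apply eq_zero_of_pieces ε hsum
      intro j
      rw [TensorProduct.tmul_sub, sub_eq_zero, hkey x j, hx j, BialgEquiv.symm_apply_apply]
  exact ⟨(BialgEquiv.ofBijective Ψ hbij).symm⟩

end Glue

end Groth.Agent.Lib.Helper7.ZGlue
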