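import Mathlib
import Groth.Prelude.Def_SGA3b
import Groth.Agent.Lib.Helper7.ZG2
import Groth.Agent.Lib.Helper7.CO6

set_option autoImplicit false
universe u
open TensorProduct SGA3b
open Groth.Agent.Lib.Helper7.CancelBC

namespace Groth.Agent.Lib.Helper7.DL

section A

variable {R : Type u} [CommRing R] {E : Type u} [CommRing E] [HopfAlgebra R E]
  {R' : Type u} [CommRing R'] [Algebra R R']

/-- a localisation at an idempotent maps to any algebra in which the idempotent becomes a unit. -/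
lemma exists_awayAlgHom (x : R') {T : Type u} [CommRing T] [Algebra R T] (a : R' →ₐ[R] T)
    (hx : IsUnit (a x)) : Nonempty (Localization.Away x →ₐ[R] T) := by
  refine ⟨{ toRingHom := IsLocalization.Away.lift x (g := (a : R' →+* T)) hx, commutes' := ?_ }⟩
  intro r
  change IsLocalization.Away.lift x (g := (a : R' →+* T)) hx (algebraMap R (Localization.Away x) r) = _
  rw [IsScalarTower.algebraMap_apply R R' (Localization.Away x)]
  erw [IsLocalization.Away.lift_eq]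
  exact a.commutes r

theorem mulEquiv_of_tmul_ne_zero {x y : R'} {Q₁ Q₂ : Type u} [CommGroup Q₁] [CommGroup Q₂]
    (e₁ : Localization.Away x ⊗[R] E ≃ₐc[Localization.Away x] MonoidAlgebra (Localization.Away x) Q₁)
    (e₂ : Localization.Away y ⊗[R] E ≃ₐc[Localization.Away y] MonoidAlgebra (Localization.Away y) Q₂)
    (hx : IsIdempotentElem x) (hy : IsIdempotentElem y)
    (h : x ⊗ₜ[R] y ≠ (0 : R' ⊗[R] R')) : Nonempty (Q₁ ≃* Q₂) := by
  have hid : IsIdempotentElem (x ⊗ₜ[R] y : R' ⊗[R] R') := by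
    unfold IsIdempotentElem
    rw [Algebra.TensorProduct.tmul_mul_tmul, hx.eq, hy.eq]
  obtain ⟨P, hP, -, hnot⟩ := Ideal.exists_le_prime_notMem_of_isIdempotentElem (⊥ : Ideal (R' ⊗[R] R'))
    (x ⊗ₜ[R] y) hid (by simpa using h)
  let K := FractionRing ((R' ⊗[R] R') ⧸ P)
  let g : R' ⊗[R] R' →ₐ[R] K := (IsScalarTower.toAlgHom R ((R' ⊗[R] R') ⧸ P) K).comp
    (Ideal.Quotient.mkₐ R P)
  have hg : g (x ⊗ₜ[R] y) ≠ 0 := by
    intro h0
    apply hnot
    have h1 : algebraMap ((R' ⊗[R] R') ⧸ P) K (Ideal.Quotient.mk P (x ⊗ₜ[R] y)) = 0 := h0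
    rw [map_eq_zero_iff _ (IsFractionRing.injective _ K)] at h1
    exact Ideal.Quotient.eq_zero_iff_mem.1 h1
  have hxy : x ⊗ₜ[R] y = (x ⊗ₜ[R] (1 : R')) * ((1 : R') ⊗ₜ[R] y) := by
    rw [Algebra.TensorProduct.tmul_mul_tmul, mul_one, one_mul]
  rw [hxy, map_mul] at hg
  have hgx : IsUnit ((g.comp Algebra.TensorProduct.includeLeft) x) :=
    (left_ne_zero_of_mul hg).isUnit
  have hgy : IsUnit ((g.comp Algebra.TensorProduct.includeRight) y) :=
    (right_ne_zero_of_mul hg).isUnit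
  obtain ⟨a⟩ := exists_awayAlgHom x (g.comp Algebra.TensorProduct.includeLeft) hgx
  obtain ⟨b⟩ := exists_awayAlgHom y (g.comp Algebra.TensorProduct.includeRight) hgy
  obtain ⟨f₁⟩ := Groth.Agent.Lib.Helper7.Clopen.typed_of_algHom a e₁
  obtain ⟨f₂⟩ := Groth.Agent.Lib.Helper7.Clopen.typed_of_algHom b e₂
  exact Groth.Agent.Lib.Helper7.Clopen.mulEquiv_of_bialgEquiv (f₁.symm.trans f₂)

end A

section B

variable {R : Type u} [CommRing R] {E : Type u} [CommRing E] [HopfAlgebra R E]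
  {R' : Type u} [CommRing R'] [Algebra R R']
  {ι : Type*} [Fintype ι] (ε : ι → R')
  (hidem : ∀ i, IsIdempotentElem (ε i)) (horth : ∀ i j, i ≠ j → ε i * ε j = 0)
  (hsum : ∑ i, ε i = 1)
  (Q : ι → Type u) [∀ i, CommGroup (Q i)]
  (e : ∀ i, Localization.Away (ε i) ⊗[R] E ≃ₐc[Localization.Away (ε i)]
    MonoidAlgebra (Localization.Away (ε i)) (Q i))

/-- the class sum. -/
noncomputable def cs (i : ι) : R' :=
  open Classical in ∑ j ∈ Finset.univ.filter (fun j => Nonempty (Q i ≃* Q j)), ε j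

/-- the complementary sum. -/
noncomputable def ncs (i : ι) : R' :=
  open Classical in ∑ j ∈ Finset.univ.filter (fun j => ¬ Nonempty (Q i ≃* Q j)), ε j

include hsum in
lemma cs_add_ncs (i : ι) : cs ε Q i + ncs ε Q i = 1 := by
  classical
  unfold cs ncs
  rw [Finset.sum_filter_add_sum_filter_not, hsum]

include hidem e in
lemma cs_tmul_ncs (i : ι) : cs ε Q i ⊗ₜ[R] ncs ε Q i = (0 : R' ⊗[R] R') := by
  classical
  unfold cs ncs
  rw [TensorProduct.sum_tmul]
  apply Finset.sum_eq_zero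
  intro j hj
  rw [TensorProduct.tmul_sum]
  apply Finset.sum_eq_zero
  intro k hk
  rw [Finset.mem_filter] at hj hk
  by_contra hne
  obtain ⟨σ⟩ := mulEquiv_of_tmul_ne_zero (e j) (e k) (hidem j) (hidem k) hne
  obtain ⟨τ⟩ := hj.2
  exact hk.2 ⟨τ.trans σ⟩

include hidem e in
lemma ncs_tmul_cs (i : ι) : ncs ε Q i ⊗ₜ[R] cs ε Q i = (0 : R' ⊗[R] R') := by
  classical
  unfold cs ncs
  rw [TensorProduct.sum_tmul]
  apply Finset.sum_eq_zero
  intro j hj
  rw [TensorProduct.tmul_sum]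
  apply Finset.sum_eq_zero
  intro k hk
  rw [Finset.mem_filter] at hj hk
  by_contra hne
  obtain ⟨σ⟩ := mulEquiv_of_tmul_ne_zero (e j) (e k) (hidem j) (hidem k) hne
  obtain ⟨τ⟩ := hk.2
  exact hj.2 ⟨τ.trans σ.symm⟩

include hidem hsum e in
lemma cs_tmul_one (i : ι) : cs ε Q i ⊗ₜ[R] (1 : R') = (1 : R') ⊗ₜ[R] cs ε Q i := by
  have h1 : cs ε Q i ⊗ₜ[R] (1 : R') = cs ε Q i ⊗ₜ[R] cs ε Q i := by
    conv_lhs => rw [← cs_add_ncs ε hsum Q i]
    rw [TensorProduct.tmul_add, cs_tmul_ncs ε hidem Q e i, add_zero]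
  have h2 : (1 : R') ⊗ₜ[R] cs ε Q i = cs ε Q i ⊗ₜ[R] cs ε Q i := by
    conv_lhs => rw [← cs_add_ncs ε hsum Q i]
    rw [TensorProduct.add_tmul, ncs_tmul_cs ε hidem Q e i, add_zero]
  rw [h1, h2]

include horth in
lemma cs_mul_ncs (i : ι) : cs ε Q i * ncs ε Q i = 0 := by
  classical
  unfold cs ncs
  rw [Finset.sum_mul_sum]
  apply Finset.sum_eq_zero
  intro j hj
  apply Finset.sum_eq_zero
  intro k hk
  rw [Finset.mem_filter] at hj hk
  apply horth
  rintro rfl
  exact hk.2 hj.2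

include horth hsum in
lemma cs_isIdempotentElem (i : ι) : IsIdempotentElem (cs ε Q i) := by
  unfold IsIdempotentElem
  have h := cs_add_ncs ε hsum Q i
  calc cs ε Q i * cs ε Q i = cs ε Q i * cs ε Q i + cs ε Q i * ncs ε Q i := by
        rw [cs_mul_ncs ε horth Q i, add_zero]
    _ = cs ε Q i * (cs ε Q i + ncs ε Q i) := by ring
    _ = cs ε Q i := by rw [h, mul_one]

include hidem horth in
lemma mul_cs (i j : ι) (hij : Nonempty (Q i ≃* Q j)) : ε j * cs ε Q i = ε j := by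
  classical
  unfold cs
  rw [Finset.mul_sum, Finset.sum_eq_single j]
  · exact (hidem j).eq
  · intro k _ hkj
    exact horth j k (Ne.symm hkj)
  · intro h
    exact absurd (Finset.mem_filter.2 ⟨Finset.mem_univ j, hij⟩) h

include hidem hsum e in
lemma exists_descent [Module.FaithfullyFlat R R'] (i : ι) :
    ∃ d : R, algebraMap R R' d = cs ε Q i := by
  have h := Algebra.IsEffective.of_faithfullyFlat R R'
  have h1 : Algebra.TensorProduct.includeLeftSubRight R R' (cs ε Q i) = 0 := by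
    rw [Algebra.TensorProduct.includeLeftSubRight_apply, cs_tmul_one ε hidem hsum Q e i, sub_self]
  obtain ⟨d, hd⟩ := (h (cs ε Q i)).1 h1
  exact ⟨d, hd⟩

end B

section C

variable {R : Type u} [CommRing R] {E : Type u} [CommRing E] [HopfAlgebra R E]
  {R' : Type u} [CommRing R'] [Algebra R R'] [Module.FaithfullyFlat R R']
  {ι : Type*} [Fintype ι] (ε : ι → R')
  (hidem : ∀ i, IsIdempotentElem (ε i)) (horth : ∀ i j, i ≠ j → ε i * ε j = 0)
  (hsum : ∑ i, ε i = 1)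
  (Q : ι → Type u) [∀ i, CommGroup (Q i)]
  (e : ∀ i, Localization.Away (ε i) ⊗[R] E ≃ₐc[Localization.Away (ε i)]
    MonoidAlgebra (Localization.Away (ε i)) (Q i))

include hidem horth hsum e in
theorem const_of_pieces (Rf : Type u) [CommRing Rf] [Algebra R Rf] (i : ι) (d : R)
    (hd : algebraMap R R' d = cs ε Q i) (hu : IsUnit (algebraMap R Rf d)) :
    Nonempty ((Rf ⊗[R] R') ⊗[Rf] (Rf ⊗[R] E) ≃ₐc[Rf ⊗[R] R'] MonoidAlgebra (Rf ⊗[R] R') (Q i)) := by
  classical
  let c1 := cancelBC R Rf (Rf ⊗[R] R') E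
  suffices h : Nonempty ((Rf ⊗[R] R') ⊗[R] E ≃ₐc[Rf ⊗[R] R'] MonoidAlgebra (Rf ⊗[R] R') (Q i)) by
    obtain ⟨t⟩ := h
    exact ⟨c1.trans t⟩
  let ι' := {j : ι // Nonempty (Q i ≃* Q j)}
  let ε'' : ι' → Rf ⊗[R] R' := fun j => (1 : Rf) ⊗ₜ[R] ε j.1
  have hidem'' : ∀ j, IsIdempotentElem (ε'' j) := by
    intro j
    unfold IsIdempotentElem
    change ((1 : Rf) ⊗ₜ[R] ε j.1) * ((1 : Rf) ⊗ₜ[R] ε j.1) = (1 : Rf) ⊗ₜ[R] ε j.1
    rw [Algebra.TensorProduct.tmul_mul_tmul, one_mul, (hidem j.1).eq]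
  have horth'' : ∀ j k, j ≠ k → ε'' j * ε'' k = 0 := by
    intro j k hjk
    change ((1 : Rf) ⊗ₜ[R] ε j.1) * ((1 : Rf) ⊗ₜ[R] ε k.1) = 0
    rw [Algebra.TensorProduct.tmul_mul_tmul, one_mul,
      horth j.1 k.1 (fun h => hjk (Subtype.ext h)), TensorProduct.tmul_zero]
  have hsum'' : ∑ j, ε'' j = 1 := by
    have h1 : ∑ j, ε'' j = (1 : Rf) ⊗ₜ[R] cs ε Q i := by
      unfold cs
      rw [TensorProduct.tmul_sum]
      exact (Finset.sum_subtype (Finset.univ.filter (fun j => Nonempty (Q i ≃* Q j)))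
        (by intro x; simp) (fun j => (1 : Rf) ⊗ₜ[R] ε j)).symm
    have h2 : (1 : Rf) ⊗ₜ[R] cs ε Q i = (algebraMap R Rf d) ⊗ₜ[R] (1 : R') := by
      rw [← hd, Algebra.algebraMap_eq_smul_one, Algebra.algebraMap_eq_smul_one,
        TensorProduct.smul_tmul]
    have h3 : IsUnit ((algebraMap R Rf d) ⊗ₜ[R] (1 : R') : Rf ⊗[R] R') :=
      hu.map (Algebra.TensorProduct.includeLeft : Rf →ₐ[R] Rf ⊗[R] R')
    have h4 : IsIdempotentElem ((1 : Rf) ⊗ₜ[R] cs ε Q i : Rf ⊗[R] R') := by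
      unfold IsIdempotentElem
      rw [Algebra.TensorProduct.tmul_mul_tmul, one_mul, (cs_isIdempotentElem ε horth hsum Q i).eq]
    rw [h1]
    rw [← h2] at h3
    have h5 : ((1 : Rf) ⊗ₜ[R] cs ε Q i : Rf ⊗[R] R') * ((1 : Rf) ⊗ₜ[R] cs ε Q i) =
        ((1 : Rf) ⊗ₜ[R] cs ε Q i) * 1 := by rw [h4.eq, mul_one]
    exact h3.mul_left_cancel h5
  have he : ∀ j : ι', Nonempty (Localization.Away (ε'' j) ⊗[Rf ⊗[R] R'] ((Rf ⊗[R] R') ⊗[R] E) ≃ₐc[
      Localization.Away (ε'' j)] MonoidAlgebra (Localization.Away (ε'' j)) (Q i)) := by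
    intro j
    let c2 := cancelBC R (Rf ⊗[R] R') (Localization.Away (ε'' j)) E
    obtain ⟨f⟩ := exists_awayAlgHom (R := R) (ε j.1)
      ((IsScalarTower.toAlgHom R (Rf ⊗[R] R') (Localization.Away (ε'' j))).comp
        (Algebra.TensorProduct.includeRight : R' →ₐ[R] Rf ⊗[R] R'))
      (IsLocalization.Away.algebraMap_isUnit (ε'' j))
    obtain ⟨t⟩ := Groth.Agent.Lib.Helper7.Clopen.typed_of_algHom f (e j.1)
    obtain ⟨σ⟩ := j.2
    exact ⟨c2.trans (t.trans
      (Groth.Agent.Lib.Helper7.Clopen.domCongrBialg (Localization.Away (ε'' j)) σ.symm))⟩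
  exact Groth.Agent.Lib.Helper7.ZGlue.exists_bialgEquiv_of_pieces ε'' hidem'' horth'' hsum''
    (fun j => (he j).some)

include hidem horth hsum e in
/-- fpqc-locally, on a finite clopen partition, diagonalisable ⇒ of multiplicative type. -/
theorem isMultType_of_pieces : IsMultType R E := by
  classical
  choose d hd using fun i => exists_descent ε hidem hsum Q e i
  refine ⟨Set.range d, ?_, ?_⟩
  · have hmap : Ideal.map (algebraMap R R') (Ideal.span (Set.range d)) = ⊤ := by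
      rw [Ideal.eq_top_iff_one, ← hsum]
      apply Ideal.sum_mem
      intro j _
      rw [← mul_cs ε hidem horth Q j j ⟨MulEquiv.refl _⟩, ← hd j]
      apply Ideal.mul_mem_left
      exact Ideal.mem_map_of_mem _ (Ideal.subset_span ⟨j, rfl⟩)
    have := Ideal.comap_map_eq_self_of_faithfullyFlat (B := R') (Ideal.span (Set.range d))
    rw [hmap, Ideal.comap_top] at this
    exact this.symm
  · rintro _ ⟨i, rfl⟩
    exact ⟨Localization.Away (d i) ⊗[R] R', inferInstance, inferInstance, inferInstance,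
      Q i, inferInstance, const_of_pieces ε hidem horth hsum Q e (Localization.Away (d i)) i (d i)
        (hd i) (IsLocalization.Away.algebraMap_isUnit (d i))⟩

end C

end Groth.Agent.Lib.Helper7.DL
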