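import Groth.Prelude.Def_Versch
import Groth.Prelude.Def_SGA3b
import Mathlib

/-!
# Verschiebung of a finite locally free commutative group scheme: `F ∘ V = [p]` (helper7)
-/

universe u v

open TensorProduct WithConv

namespace Groth.Agent.Lib.Helper7.Versch

section Frob

lemma sum_pow_prime {S : Type*} [CommRing S] (p : ℕ) [hp : Fact p.Prime] (h0 : (p : S) = 0)
    {ι : Type*} (s : Finset ι) (y : ι → S) : (∑ i ∈ s, y i) ^ p = ∑ i ∈ s, y i ^ p := by
  classical
  induction s using Finset.induction_on with
  | empty => simp [hp.out.ne_zero]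
  | insert a s ha ih =>
    rw [Finset.sum_insert ha, Finset.sum_insert ha]
    obtain ⟨r, hr⟩ := exists_add_pow_prime_eq hp.out (y a) (∑ i ∈ s, y i)
    rw [hr, ih, h0]
    ring

end Frob

section Main

variable (p : ℕ) [Fact p.Prime] {R : Type u} [CommRing R] [CharP R p]
  {A : Type v} [CommRing A] [HopfAlgebra R A] [Coalgebra.IsCocomm R A]

/-- `D(A) → Hom(A, A)`, `x ↦ (a ↦ x a • 1)`. -/
noncomputable def jmap (x : CartDual.D R A) : WithConv (A →ₗ[R] A) :=
  toConv ((Algebra.ofId R A).toLinearMap ∘ₗ x.ofConv)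

omit [Coalgebra.IsCocomm R A] in
lemma jmap_apply (x : CartDual.D R A) (a : A) : jmap x a = algebraMap R A (x a) := rfl

omit [Coalgebra.IsCocomm R A] in
lemma jmap_mul (x y : CartDual.D R A) : jmap (x * y) = jmap x * jmap y := by
  unfold jmap
  rw [LinearMap.algHom_comp_convMul_distrib]

omit [Coalgebra.IsCocomm R A] in
lemma jmap_one : jmap (1 : CartDual.D R A) = 1 := by
  apply WithConv.ext
  apply LinearMap.ext
  intro a
  rfl

omit [Coalgebra.IsCocomm R A] in
lemma jmap_pow (x : CartDual.D R A) (n : ℕ) : jmap (x ^ n) = jmap x ^ n := by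
  induction n with
  | zero => rw [pow_zero, pow_zero, jmap_one]
  | succ n ih => rw [pow_succ, pow_succ, jmap_mul, ih]

omit [CharP R p] [Coalgebra.IsCocomm R A] in
lemma relFrob_tmul [CharP R p] [CharP A p] (b : A) (s : FrobAlg.Twist p R) :
    FrobAlg.relFrob p R A (b ⊗ₜ[R] s) = b ^ p * algebraMap R A ((FrobAlg.toTwist p R).symm s) := by
  simp [FrobAlg.relFrob, FrobAlg.frobHom, FrobAlg.inclHom, Algebra.TensorProduct.lift_tmul]
  rfl

end Main

section DualBasis

/-- dual basis of a finite projective module. -/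
lemma exists_dual_basis {R : Type*} [CommRing R] {A : Type*} [AddCommGroup A] [Module R A]
    [Module.Finite R A] [Module.Projective R A] :
    ∃ (n : ℕ) (e : Fin n → A) (x : Fin n → (A →ₗ[R] R)),
    ∀ a : A, a = ∑ i, x i a • e i := by
  obtain ⟨n, f, g, -, -, hfg⟩ := Module.Finite.exists_comp_eq_id_of_projective R A
  refine ⟨n, fun i => f (Pi.single i 1), fun i => LinearMap.proj i ∘ₗ g, fun a => ?_⟩
  have h1 : a = f (g a) := by
    rw [← LinearMap.comp_apply, hfg, LinearMap.id_apply]
  conv_lhs => rw [h1]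
  have h2 : g a = ∑ i, (g a i) • (Pi.single i (1 : R) : Fin n → R) := by
    ext j
    simp [Finset.sum_apply, Pi.single_apply]
  conv_lhs => rw [h2]
  rw [map_sum]
  refine Finset.sum_congr rfl fun i _ => ?_
  rw [map_smul]
  rfl

lemma ofConv_sum {X : Type*} [AddCommMonoid X] {ι : Type*} (s : Finset ι) (y : ι → WithConv X) :
    (∑ i ∈ s, y i).ofConv = ∑ i ∈ s, (y i).ofConv :=
  map_sum (WithConv.addEquiv X) y s

end DualBasis

section FV

variable (p : ℕ) [Fact p.Prime] {R : Type u} [CommRing R] [CharP R p]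
  {A : Type u} [CommRing A] [HopfAlgebra R A] [Coalgebra.IsCocomm R A]
  [Module.Finite R A] [Module.Projective R A] [CharP A p]

omit [Coalgebra.IsCocomm R A] [Module.Finite R A] [Module.Projective R A] in
/-- the relative Frobenius in terms of a dual basis. -/
lemma relFrob_eq_sum {n : ℕ} (e : Fin n → A) (x : Fin n → (A →ₗ[R] R))
    (hex : ∀ a : A, a = ∑ i, x i a • e i) (z : FrobAlg.BaseChange p R A) :
    FrobAlg.relFrob p R A z = ∑ i, e i ^ p *
      algebraMap R A ((FrobAlg.toTwist p R).symm (Versch.evTw p R A (toConv (x i)) z)) := by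
  induction z using TensorProduct.induction_on with
  | zero => simp
  | add z w hz hw =>
    rw [map_add, hz, hw, ← Finset.sum_add_distrib]
    refine Finset.sum_congr rfl fun i _ => ?_
    rw [map_add, map_add, map_add, mul_add]
  | tmul b s =>
    rw [relFrob_tmul]
    have hA0 : ((p : ℕ) : A) = 0 := CharP.cast_eq_zero A p
    conv_lhs => rw [hex b, sum_pow_prime p hA0, Finset.sum_mul]
    refine Finset.sum_congr rfl fun i _ => ?_
    rw [Versch.evTw_tmul', map_mul, RingEquiv.symm_apply_apply, map_mul, map_pow, smul_pow,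
      Algebra.smul_def, map_pow]
    ring

/-- `F ∘ V = [p]`. -/
theorem relFrob_verschiebung (v : A →+* FrobAlg.BaseChange p R A)
    (hv : Versch.IsVerschiebung p R A v) (a : A) :
    FrobAlg.relFrob p R A (v a) = SGA3b.powConv R A p a := by
  obtain ⟨n, e, x, hex⟩ := exists_dual_basis (R := R) (A := A)
  have hv' := (Versch.isVerschiebung_iff p R A v).1 hv
  rw [relFrob_eq_sum p e x hex]
  simp_rw [hv', RingEquiv.symm_apply_apply]
  -- the right-hand side
  have hid : (toConv (LinearMap.id : A →ₗ[R] A) : WithConv (A →ₗ[R] A)) =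
      ∑ i, e i • jmap (toConv (x i) : CartDual.D R A) := by
    apply WithConv.ext
    apply LinearMap.ext
    intro b
    rw [WithConv.ofConv_toConv, LinearMap.id_apply]
    conv_lhs => rw [hex b]
    rw [ofConv_sum, LinearMap.sum_apply]
    refine Finset.sum_congr rfl fun i _ => ?_
    rw [WithConv.ofConv_smul, LinearMap.smul_apply]
    change _ = e i • algebraMap R A (x i b)
    rw [Algebra.smul_def, smul_eq_mul, mul_comm]
  have hS0 : ((p : ℕ) : WithConv (A →ₗ[R] A)) = 0 := by
    have h1 : ((p : ℕ) : WithConv (A →ₗ[R] A)) =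
        algebraMap R (WithConv (A →ₗ[R] A)) ((p : ℕ) : R) := by
      rw [map_natCast]
    rw [h1, CharP.cast_eq_zero R p, map_zero]
  have hpow : SGA3b.powConv R A p a =
      ((toConv (LinearMap.id : A →ₗ[R] A) : WithConv (A →ₗ[R] A)) ^ p) a := by
    have h1 := AlgHom.toLinearMap_convPow (toConv (AlgHom.id R A) : WithConv (A →ₐ[R] A)) p
    have h2 : (toConv (LinearMap.id : A →ₗ[R] A) : WithConv (A →ₗ[R] A)) =
        toConv (toConv (AlgHom.id R A) : WithConv (A →ₐ[R] A)).ofConv.toLinearMap := rfl
    rw [h2, ← h1]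
    rfl
  rw [hpow, hid, sum_pow_prime p hS0]
  change _ = (∑ i, (e i • jmap (toConv (x i) : CartDual.D R A)) ^ p).ofConv a
  rw [ofConv_sum, LinearMap.sum_apply]
  refine Finset.sum_congr rfl fun i _ => ?_
  rw [smul_pow, ← jmap_pow, WithConv.ofConv_smul, LinearMap.smul_apply]
  change _ = e i ^ p • algebraMap R A ((toConv (x i) ^ p : CartDual.D R A) a)
  rw [smul_eq_mul]

end FV

section PowConv

variable {R : Type u} [CommRing R] {A : Type u} [CommRing A] [HopfAlgebra R A]

lemma algHom_comp_convPow {B C : Type*} [CommRing B] [Algebra R B] [CommRing C] [Bialgebra R C]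
    (h : A →ₐ[R] B) (f : WithConv (C →ₐ[R] A)) (n : ℕ) :
    (toConv (h.comp (f ^ n).ofConv) : WithConv (C →ₐ[R] B)) = (toConv (h.comp f.ofConv)) ^ n := by
  induction n with
  | zero =>
    rw [pow_zero, pow_zero]
    apply WithConv.ext
    apply AlgHom.ext
    intro c
    change h (algebraMap R A (Coalgebra.counit c)) = algebraMap R B (Coalgebra.counit c)
    rw [AlgHom.commutes]
  | succ n ih =>
    rw [pow_succ, pow_succ, AlgHom.comp_convMul_distrib, ← ih]

lemma powConv_eq (n : ℕ) :
    (toConv (SGA3b.powConv R A n) : WithConv (A →ₐ[R] A)) = (toConv (AlgHom.id R A)) ^ n := rfl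

lemma powConv_comp (m n : ℕ) :
    (SGA3b.powConv R A m).comp (SGA3b.powConv R A n) = SGA3b.powConv R A (m * n) := by
  have h1 := algHom_comp_convPow (SGA3b.powConv R A m) (toConv (AlgHom.id R A)) n
  rw [WithConv.ofConv_toConv, AlgHom.comp_id] at h1
  have h2 : (toConv ((SGA3b.powConv R A m).comp (SGA3b.powConv R A n)) : WithConv (A →ₐ[R] A)) =
      toConv (SGA3b.powConv R A (m * n)) := by
    rw [powConv_eq (m * n), pow_mul, ← powConv_eq m, ← h1]
    rfl
  exact WithConv.toConv_injective h2

lemma powConv_one : SGA3b.powConv R A 1 = AlgHom.id R A := by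
  have : (toConv (SGA3b.powConv R A 1) : WithConv (A →ₐ[R] A)) = toConv (AlgHom.id R A) := by
    rw [powConv_eq, pow_one]
  exact WithConv.toConv_injective this

end PowConv

section Infinitesimal

variable (p : ℕ) [Fact p.Prime] {k : Type u} [Field k] [CharP k p]
  {A : Type u} [CommRing A] [HopfAlgebra k A] [Coalgebra.IsCocomm k A] [Module.Finite k A]

omit [Module.Finite k A] in
lemma evTw_one (z : A) (s : FrobAlg.Twist p k) :
    Versch.evTw p k A (1 : CartDual.D k A) (z ⊗ₜ[k] s) =
      FrobAlg.toTwist p k (Coalgebra.counit (R := k) z ^ p) * s := by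
  rw [Versch.evTw_tmul']
  rfl

/-- If the Verschiebung is bijective, every `p^m`-th power of an element of the augmentation ideal
is in the image of the augmentation ideal under `[p^m]`. -/
theorem exists_powConv_eq_pow [CharP A p] (v : A →+* FrobAlg.BaseChange p k A)
    (hv : Versch.IsVerschiebung p k A v) (hbij : Function.Bijective v) (m : ℕ) (a : A)
    (ha : Coalgebra.counit (R := k) a = 0) :
    ∃ c : A, Coalgebra.counit (R := k) c = 0 ∧ a ^ (p ^ m) = SGA3b.powConv k A (p ^ m) c := by
  induction m generalizing a with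
  | zero => exact ⟨a, ha, by rw [pow_zero, pow_one, powConv_one]; rfl⟩
  | succ m ih =>
    obtain ⟨c, hc, hac⟩ := ih a ha
    obtain ⟨b, hb⟩ := hbij.2 (c ⊗ₜ[k] (1 : FrobAlg.Twist p k))
    have hv' := (Versch.isVerschiebung_iff p k A v).1 hv
    have hb0 : Coalgebra.counit (R := k) b = 0 := by
      have h1 := hv' b (1 : CartDual.D k A)
      rw [hb, evTw_one, hc, zero_pow (Fact.out : p.Prime).ne_zero, map_zero, zero_mul,
        one_pow] at h1
      have h2 : ((1 : CartDual.D k A) b) = Coalgebra.counit (R := k) b := rfl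
      rw [h2] at h1
      exact ((FrobAlg.toTwist p k).map_eq_zero_iff).1 h1.symm
    have hcp : c ^ p = SGA3b.powConv k A p b := by
      rw [← relFrob_verschiebung p v hv b, hb, relFrob_tmul, map_one, map_one, mul_one]
    refine ⟨b, hb0, ?_⟩
    rw [pow_succ, pow_mul, hac, ← map_pow, hcp, ← AlgHom.comp_apply, powConv_comp]

end Infinitesimal

section BaseChangePow

variable {R S A : Type u} [CommRing R] [CommRing S] [Algebra R S] [CommRing A] [HopfAlgebra R A]

lemma bc_convMul (f g : WithConv (A →ₐ[R] A)) :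
    (toConv (Algebra.TensorProduct.map (AlgHom.id S S) (f * g).ofConv) :
      WithConv (S ⊗[R] A →ₐ[S] S ⊗[R] A)) =
    toConv (Algebra.TensorProduct.map (AlgHom.id S S) f.ofConv) *
      toConv (Algebra.TensorProduct.map (AlgHom.id S S) g.ofConv) := by
  apply WithConv.ext
  apply AlgHom.ext
  intro z
  have key : ∀ w : A ⊗[R] A,
      (Algebra.TensorProduct.lift (Algebra.TensorProduct.map (AlgHom.id S S) f.ofConv)
        (Algebra.TensorProduct.map (AlgHom.id S S) g.ofConv) (fun _ _ => Commute.all _ _))
        (AlgebraTensorModule.tensorTensorTensorComm R S R S S S A A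
          (((1 : S) ⊗ₜ[S] (1 : S)) ⊗ₜ[R] w)) =
      (1 : S) ⊗ₜ[R] (Algebra.TensorProduct.lift f.ofConv g.ofConv (fun _ _ => Commute.all _ _) w) := by
    intro w
    induction w using TensorProduct.induction_on with
    | zero => simp
    | add x y hx hy =>
      rw [TensorProduct.tmul_add, map_add, map_add, hx, hy, map_add, TensorProduct.tmul_add]
    | tmul x y =>
      rw [AlgebraTensorModule.tensorTensorTensorComm_tmul, Algebra.TensorProduct.lift_tmul,
        Algebra.TensorProduct.map_tmul, Algebra.TensorProduct.map_tmul,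
        Algebra.TensorProduct.tmul_mul_tmul, Algebra.TensorProduct.lift_tmul]
      simp
  induction z using TensorProduct.induction_on with
  | zero => simp
  | add x y hx hy => rw [map_add, map_add, hx, hy]
  | tmul s a =>
    have hs : s ⊗ₜ[R] a = s • ((1 : S) ⊗ₜ[R] a) := by
      rw [TensorProduct.smul_tmul', smul_eq_mul, mul_one]
    rw [hs, map_smul, map_smul]
    congr 1
    rw [WithConv.ofConv_toConv, Algebra.TensorProduct.map_tmul, AlgHom.convMul_apply,
      AlgHom.convMul_apply, TensorProduct.comul_tmul, CommSemiring.comul_apply]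
    simp only [AlgHom.id_apply]
    rw [key]

lemma bc_convOne :
    (toConv (Algebra.TensorProduct.map (AlgHom.id S S) (1 : WithConv (A →ₐ[R] A)).ofConv) :
      WithConv (S ⊗[R] A →ₐ[S] S ⊗[R] A)) = 1 := by
  apply WithConv.ext
  apply AlgHom.ext
  intro z
  induction z using TensorProduct.induction_on with
  | zero => simp
  | add x y hx hy => rw [map_add, map_add, hx, hy]
  | tmul s a =>
    rw [WithConv.ofConv_toConv, Algebra.TensorProduct.map_tmul, AlgHom.convOne_apply,
      AlgHom.convOne_apply, AlgHom.id_apply, TensorProduct.counit_tmul,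
      CommSemiring.counit_apply, Algebra.TensorProduct.algebraMap_apply,
      Algebra.algebraMap_self_apply, Algebra.algebraMap_eq_smul_one, TensorProduct.tmul_smul,
      TensorProduct.smul_tmul']

lemma bc_convPow (f : WithConv (A →ₐ[R] A)) (n : ℕ) :
    (toConv (Algebra.TensorProduct.map (AlgHom.id S S) (f ^ n).ofConv) :
      WithConv (S ⊗[R] A →ₐ[S] S ⊗[R] A)) =
    toConv (Algebra.TensorProduct.map (AlgHom.id S S) f.ofConv) ^ n := by
  induction n with
  | zero => rw [pow_zero, pow_zero, bc_convOne]
  | succ n ih => rw [pow_succ, pow_succ, bc_convMul, ih]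

/-- `[n]` commutes with base change. -/
lemma powConv_baseChange (n : ℕ) :
    SGA3b.powConv S (S ⊗[R] A) n =
      Algebra.TensorProduct.map (AlgHom.id S S) (SGA3b.powConv R A n) := by
  have h1 := bc_convPow (S := S) (toConv (AlgHom.id R A)) n
  rw [WithConv.ofConv_toConv, Algebra.TensorProduct.map_id] at h1
  have h2 : (toConv (SGA3b.powConv S (S ⊗[R] A) n) : WithConv (S ⊗[R] A →ₐ[S] S ⊗[R] A)) =
      toConv (Algebra.TensorProduct.map (AlgHom.id S S) (SGA3b.powConv R A n)) := by
    rw [powConv_eq, ← h1]
    rfl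
  exact WithConv.toConv_injective h2

end BaseChangePow

section VF

variable (p : ℕ) [Fact p.Prime] {R : Type u} [CommRing R] [CharP R p]
  {A : Type u} [CommRing A] [HopfAlgebra R A] [Coalgebra.IsCocomm R A]
  [Module.Finite R A] [Module.Projective R A] [CharP A p]

omit [Fact p.Prime] [CharP R p] [Coalgebra.IsCocomm R A] [Module.Finite R A]
  [Module.Projective R A] [CharP A p] in
lemma convPow_apply_one (x : CartDual.D R A) (n : ℕ) : (x ^ n) (1 : A) = (x 1) ^ n := by
  induction n with
  | zero =>
    rw [pow_zero, pow_zero]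
    change algebraMap R R (Coalgebra.counit (R := R) (1 : A)) = 1
    rw [Bialgebra.counit_one, map_one]
  | succ n ih =>
    rw [pow_succ, pow_succ, LinearMap.convMul_apply, Bialgebra.comul_one,
      Algebra.TensorProduct.one_def, TensorProduct.map_tmul, LinearMap.mul'_apply]
    change (x ^ n) (1 : A) * x 1 = _
    rw [ih]

omit [CharP A p] in
/-- `V` is linear for the right-hand structure. -/
lemma verschiebung_algebraMap (v : A →+* FrobAlg.BaseChange p R A)
    (hv : Versch.IsVerschiebung p R A v) (r : R) :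
    v (algebraMap R A r) = (1 : A) ⊗ₜ[R] FrobAlg.toTwist p R r := by
  have hv' := (Versch.isVerschiebung_iff p R A v).1 hv
  apply Versch.evTw_injective p R A
  intro x
  rw [hv', Versch.evTw_tmul', Algebra.algebraMap_eq_smul_one]
  have h1 : (x ^ p) (r • (1 : A)) = r * (x ^ p) (1 : A) := by
    change (x ^ p).ofConv (r • (1 : A)) = _
    rw [map_smul, smul_eq_mul]
  rw [h1, convPow_apply_one, map_mul, mul_comm]

omit [Coalgebra.IsCocomm R A] [Module.Finite R A] [Module.Projective R A] in
/-- the absolute Frobenius of `A ⊗ Tw` through the relative Frobenius. -/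
lemma comm_pow_eq (z : FrobAlg.BaseChange p R A) :
    Algebra.TensorProduct.comm R A (FrobAlg.Twist p R) (z ^ p) =
      (1 : FrobAlg.Twist p R) ⊗ₜ[R] FrobAlg.relFrob p R A z := by
  have h0 : ((p : ℕ) : FrobAlg.BaseChange p R A) = 0 := by
    have h1 : ((p : ℕ) : FrobAlg.BaseChange p R A) =
        algebraMap R (FrobAlg.BaseChange p R A) ((p : ℕ) : R) := by
      rw [map_natCast]
    rw [h1, CharP.cast_eq_zero R p, map_zero]
  induction z using TensorProduct.induction_on with
  | zero => simp [zero_pow (Fact.out : p.Prime).ne_zero]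
  | add x y hx hy =>
    have := sum_pow_prime p h0 (Finset.univ : Finset (Fin 2)) ![x, y]
    simp only [Fin.sum_univ_two, Matrix.cons_val_zero, Matrix.cons_val_one] at this
    rw [this, map_add, map_add, hx, hy, TensorProduct.tmul_add]
  | tmul b t =>
    rw [Algebra.TensorProduct.tmul_pow, Algebra.TensorProduct.comm_tmul, relFrob_tmul]
    have h2 : b ^ p * algebraMap R A ((FrobAlg.toTwist p R).symm t) =
        ((FrobAlg.toTwist p R).symm t) • b ^ p := by
      rw [Algebra.smul_def, mul_comm]
    rw [h2, TensorProduct.tmul_smul, TensorProduct.smul_tmul', Algebra.smul_def, mul_one,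
      FrobAlg.algebraMap_twist, map_pow, RingEquiv.apply_symm_apply]

/-- `V ∘ F = [p]` on the Frobenius twist. -/
theorem verschiebung_relFrob (v : A →+* FrobAlg.BaseChange p R A)
    (hv : Versch.IsVerschiebung p R A v) (z : FrobAlg.Twist p R ⊗[R] A) :
    Algebra.TensorProduct.comm R A (FrobAlg.Twist p R)
      (v (FrobAlg.relFrob p R A ((Algebra.TensorProduct.comm R A (FrobAlg.Twist p R)).symm z))) =
      SGA3b.powConv (FrobAlg.Twist p R) (FrobAlg.Twist p R ⊗[R] A) p z := by
  induction z using TensorProduct.induction_on with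
  | zero => simp
  | add x y hx hy => simp only [map_add, hx, hy]
  | tmul s a =>
    rw [Algebra.TensorProduct.comm_symm_tmul, relFrob_tmul, map_mul, map_pow,
      verschiebung_algebraMap p v hv, RingEquiv.apply_symm_apply, map_mul, comm_pow_eq,
      relFrob_verschiebung p v hv, Algebra.TensorProduct.comm_tmul,
      Algebra.TensorProduct.tmul_mul_tmul, one_mul, mul_one, powConv_baseChange,
      Algebra.TensorProduct.map_tmul, AlgHom.id_apply]

end VF

section GroupLike

variable {R : Type*} [CommRing R] {A : Type*} [CommRing A] [Bialgebra R A]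

lemma convPow_apply_groupLike (x : CartDual.D R A) {g : A} (hg : IsGroupLikeElem R g) (n : ℕ) :
    (x ^ n) g = (x g) ^ n := by
  induction n with
  | zero =>
    rw [pow_zero, pow_zero]
    change algebraMap R R (Coalgebra.counit (R := R) g) = 1
    rw [hg.counit_eq_one, map_one]
  | succ n ih =>
    rw [pow_succ, pow_succ, LinearMap.convMul_apply, hg.comul_eq_tmul_self,
      TensorProduct.map_tmul, LinearMap.mul'_apply]
    change (x ^ n) g * x g = _
    rw [ih]

end GroupLike

end Groth.Agent.Lib.Helper7.Versch
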