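import Mathlib
import Groth.Prelude.Def_SGA3b
import Groth.Agent.Lib.Helper7.TorsDense

set_option autoImplicit false
universe u v w
open TensorProduct SGA3b MonoidAlgebra

namespace Groth.Agent.Lib.Helper7.Dens

section Defs

variable (R : Type u) [CommRing R] (M : Type v) [CommGroup M]

/-- the quotient map `R[M] → R[M/M^n]`. -/
noncomputable def qn (n : ℕ) :
    MonoidAlgebra R M →+* MonoidAlgebra R (M ⧸ (powMonoidHom n : M →* M).range) :=
  mapDomainRingHom R (QuotientGroup.mk' (powMonoidHom n : M →* M).range)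

variable {R M}

lemma qn_single (n : ℕ) (m : M) (r : R) :
    qn R M n (single m r) = single (QuotientGroup.mk' (powMonoidHom n : M →* M).range m) r := by
  simp [qn]

/-- universal property of the kernel of `qn`. -/
lemma mapDomain_eq_zero_of_qn {G : Type w} [CommGroup G] (f : M →* G) (n : ℕ)
    (hf : ∀ m : M, f (m ^ n) = 1) (z : MonoidAlgebra R M) (hz : qn R M n z = 0) :
    mapDomainRingHom R f z = 0 := by
  have hle : (powMonoidHom n : M →* M).range ≤ f.ker := by
    rintro _ ⟨m, rfl⟩
    exact hf m
  have hfac : f = (QuotientGroup.lift _ f hle).comp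
      (QuotientGroup.mk' (powMonoidHom n : M →* M).range) := by
    ext m
    rfl
  rw [hfac, mapDomainRingHom_comp, RingHom.comp_apply]
  change mapDomainRingHom R _ (qn R M n z) = 0
  rw [hz, map_zero]

/-- the property to be proved. -/
def CoreAt (R : Type u) [CommRing R] (M : Type v) [CommGroup M] (b : MonoidAlgebra R M) : Prop :=
  ∀ y : MonoidAlgebra R M, (∀ n : ℕ, 0 < n → ∃ t : ℕ, qn R M n (b ^ t * y) = 0) →
    ∃ t : ℕ, b ^ t * y = 0

end Defs

section Density

variable {R : Type u} [CommRing R] {M : Type v} [CommGroup M]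

/-- variant of `TorsDense.eq_zero_of_forall_mem_torsionIdeal` in terms of `qn`. -/
theorem eq_zero_of_forall_qn [Group.FG M] (P : ℕ) (hP : P = 0 ∨ P.Prime)
    (hM : P.Prime → ∀ m : M, m ^ P = 1 → m = 1) (x : MonoidAlgebra R M)
    (hx : ∀ n : ℕ, 0 < n → ¬ P ∣ n → qn R M n x = 0) : x = 0 := by
  classical
  obtain ⟨n, hn, hPn, hinj⟩ := TorsDense.exists_injOn_pow P hP hM x.coeff.support
  let π : M →* M ⧸ (powMonoidHom n : M →* M).range := QuotientGroup.mk' _
  have h0 : mapDomainRingHom R π x = 0 := hx n hn hPn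
  have hS : Set.InjOn π (x.coeff.support : Set M) := by
    intro a ha b hb hab
    apply hinj a ha b hb
    have : a / b ∈ (powMonoidHom n : M →* M).range := by
      rw [← QuotientGroup.eq_one_iff, QuotientGroup.mk_div]
      change π a / π b = 1
      rw [hab, div_self']
    obtain ⟨y, hy⟩ := this
    exact ⟨y, hy⟩
  have h1 : Finsupp.mapDomain π x.coeff = Finsupp.mapDomain π (0 : M →₀ R) := by
    rw [Finsupp.mapDomain_zero]
    have := congrArg MonoidAlgebra.coeff h0
    exact this
  have h2 := Finsupp.mapDomain_injOn (x.coeff.support : Set M) hS (M := R)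
    (by simp : x.coeff ∈ {w : M →₀ R | (w.support : Set M) ⊆ (x.coeff.support : Set M)})
    (by simp : (0 : M →₀ R) ∈ {w : M →₀ R | (w.support : Set M) ⊆ (x.coeff.support : Set M)}) h1
  exact MonoidAlgebra.coeff_injective h2

end Density

end Groth.Agent.Lib.Helper7.Dens
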