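import Mathlib
import Groth.Prelude.Def_SGA3b
import Groth.Agent.Lib.Helper7.DN1

set_option autoImplicit false
universe u v w
open TensorProduct SGA3b MonoidAlgebra

namespace Groth.Agent.Lib.Helper7.Dens

section Field

variable {K : Type u} [Field K] {L : Type v} [CommGroup L] [Group.FG L]

lemma quot_pow_finite (n : ℕ) (hn : 0 < n) : Finite (L ⧸ (powMonoidHom n : L →* L).range) := by
  apply CommGroup.finite_of_fg_isMulTorsion
  intro g
  obtain ⟨l, rfl⟩ := QuotientGroup.mk_surjective g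
  rw [isOfFinOrder_iff_pow_eq_one]
  refine ⟨n, hn, ?_⟩
  rw [← QuotientGroup.mk_pow, QuotientGroup.eq_one_iff]
  exact ⟨l, rfl⟩

lemma quot_pow_card_ne_zero (n : ℕ) (hn : 0 < n) (hPn : ¬ ringChar K ∣ n) :
    (Nat.card (L ⧸ (powMonoidHom n : L →* L).range) : K) ≠ 0 := by
  have hfin := quot_pow_finite (L := L) n hn
  intro h0
  rw [CharP.cast_eq_zero_iff K (ringChar K)] at h0
  rcases CharP.char_is_prime_or_zero K (ringChar K) with hp | hp
  · haveI : Fact (ringChar K).Prime := ⟨hp⟩
    obtain ⟨x, hx⟩ := exists_prime_orderOf_dvd_card' (G := L ⧸ (powMonoidHom n : L →* L).range)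
      (ringChar K) h0
    apply hPn
    rw [← hx]
    apply orderOf_dvd_of_pow_eq_one
    obtain ⟨l, rfl⟩ := QuotientGroup.mk_surjective x
    rw [← QuotientGroup.mk_pow, QuotientGroup.eq_one_iff]
    exact ⟨l, rfl⟩
  · rw [hp, zero_dvd_iff] at h0
    exact Nat.card_pos.ne' h0

/-- the torsion-free case over a field: `t = 1` works. -/
theorem coreAt_field (hL : ∀ (m : L) (n : ℕ), 0 < n → m ^ n = 1 → m = 1) (b : MonoidAlgebra K L) :
    CoreAt K L b := by
  intro y hy
  refine ⟨1, ?_⟩
  rw [pow_one]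
  have hP := CharP.char_is_prime_or_zero K (ringChar K)
  apply eq_zero_of_forall_qn (ringChar K) hP.symm
    (fun hp m hm => hL m (ringChar K) hp.pos hm)
  intro n hn hPn
  have hfin := quot_pow_finite (L := L) n hn
  have : NeZero (Nat.card (L ⧸ (powMonoidHom n : L →* L).range) : K) :=
    ⟨quot_pow_card_ne_zero n hn hPn⟩
  have hred : IsReduced (MonoidAlgebra K (L ⧸ (powMonoidHom n : L →* L).range)) := inferInstance
  obtain ⟨t, ht⟩ := hy n hn
  have hnil : IsNilpotent (qn K L n (b * y)) := by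
    refine ⟨t + 1, ?_⟩
    rw [map_mul, mul_pow, pow_succ (qn K L n y), ← mul_assoc, ← map_pow, ← map_pow,
      ← map_mul (qn K L n), ← map_mul (qn K L n)]
    have : b ^ (t + 1) * y ^ t * y = (b * y ^ t) * (b ^ t * y) := by ring
    rw [this, map_mul, ht, mul_zero]
  exact hnil.eq_zero

end Field

end Groth.Agent.Lib.Helper7.Dens
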