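import Mathlib
import Groth.Prelude.Def_SGA3b
import Groth.Agent.Lib.Helper7.DN2

set_option autoImplicit false
universe u v w
open TensorProduct SGA3b MonoidAlgebra

namespace Groth.Agent.Lib.Helper7.Dens

section Inj

variable {R S : Type u} [CommRing R] [CommRing S] {M : Type v} [CommGroup M]

lemma mapRingHom_injective (ι : R →+* S) (hι : Function.Injective ι) :
    Function.Injective (MonoidAlgebra.mapRingHom M ι) := by
  intro x y hxy
  ext m
  have := congrArg (fun z => z.coeff m) hxy
  simp only [MonoidAlgebra.coeff_mapRingHom] at this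
  exact hι this

lemma qn_mapRingHom (ι : R →+* S) (n : ℕ) (z : MonoidAlgebra R M) :
    qn S M n (MonoidAlgebra.mapRingHom M ι z) = MonoidAlgebra.mapRingHom _ ι (qn R M n z) := by
  have := MonoidAlgebra.mapRingHom_comp_mapDomainRingHom ι
    (QuotientGroup.mk' (powMonoidHom n : M →* M).range)
  exact (RingHom.congr_fun this z).symm

theorem coreAt_of_injective (ι : R →+* S) (hι : Function.Injective ι) (b : MonoidAlgebra R M)
    (h : CoreAt S M (MonoidAlgebra.mapRingHom M ι b)) : CoreAt R M b := by
  intro y hy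
  obtain ⟨t, ht⟩ := h (MonoidAlgebra.mapRingHom M ι y) (by
    intro n hn
    obtain ⟨t, ht⟩ := hy n hn
    refine ⟨t, ?_⟩
    rw [← map_pow, ← map_mul, qn_mapRingHom, ht, map_zero])
  refine ⟨t, ?_⟩
  apply mapRingHom_injective ι hι
  rw [map_mul, map_pow, ht, map_zero]

end Inj

end Groth.Agent.Lib.Helper7.Dens
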