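import Mathlib
import Groth.Prelude.Def_SGA3b
import Groth.Agent.Lib.Helper7.DN3

set_option autoImplicit false
universe u v w
open TensorProduct SGA3b MonoidAlgebra

namespace Groth.Agent.Lib.Helper7.Dens

section Noeth

variable {R : Type u} [CommRing R] {G : Type v} [CommGroup G]

/-- reduction of the coefficients modulo an ideal. -/
noncomputable abbrev red (J : Ideal R) (G : Type v) [CommGroup G] :
    MonoidAlgebra R G →+* MonoidAlgebra (R ⧸ J) G :=
  MonoidAlgebra.mapRingHom G (Ideal.Quotient.mk J)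

lemma red_eq_zero_iff (J : Ideal R) (z : MonoidAlgebra R G) :
    red J G z = 0 ↔ ∀ m, z.coeff m ∈ J := by
  constructor
  · intro h m
    have := congrArg (fun w => w.coeff m) h
    simpa [MonoidAlgebra.coeff_mapRingHom, Ideal.Quotient.eq_zero_iff_mem] using this
  · intro h
    ext m
    simp [MonoidAlgebra.coeff_mapRingHom, Ideal.Quotient.eq_zero_iff_mem, h m]

lemma red_surjective (J : Ideal R) : Function.Surjective (red J G) := by
  intro z
  induction z using MonoidAlgebra.induction_linear with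
  | zero => exact ⟨0, map_zero _⟩
  | add f g hf hg =>
    obtain ⟨f', rfl⟩ := hf
    obtain ⟨g', rfl⟩ := hg
    exact ⟨f' + g', map_add _ _ _⟩
  | single m r =>
    obtain ⟨r', rfl⟩ := Ideal.Quotient.mk_surjective r
    exact ⟨single m r', by simp [red]⟩

lemma red_smul_eq_zero (J : Ideal R) (x : R) (u : MonoidAlgebra R G) (hu : red J G u = 0) :
    red J G (x • u) = 0 := by
  rw [red_eq_zero_iff] at hu ⊢
  intro m
  rw [coeff_smul_apply]
  exact J.mul_mem_left _ (hu m)

lemma qn_smul (n : ℕ) (x : R) (u : MonoidAlgebra R G) :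
    qn R G n (x • u) = x • qn R G n u := by
  rw [Algebra.smul_def, Algebra.smul_def, map_mul]
  congr 1
  simp [qn, MonoidAlgebra.coe_algebraMap]

lemma coreAt_quot_iff (b : MonoidAlgebra R G) (J : Ideal R) :
    CoreAt (R ⧸ J) G (red J G b) ↔
      ∀ y : MonoidAlgebra R G, (∀ n : ℕ, 0 < n → ∃ t : ℕ, red J _ (qn R G n (b ^ t * y)) = 0) →
        ∃ t : ℕ, red J G (b ^ t * y) = 0 := by
  constructor
  · intro h y hy
    obtain ⟨t, ht⟩ := h (red J G y) (by
      intro n hn
      obtain ⟨t, ht⟩ := hy n hn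
      refine ⟨t, ?_⟩
      rw [← map_pow, ← map_mul, qn_mapRingHom]
      exact ht)
    refine ⟨t, ?_⟩
    rw [map_mul, map_pow]
    exact ht
  · intro h y hy
    obtain ⟨y, rfl⟩ := red_surjective J y
    obtain ⟨t, ht⟩ := h y (by
      intro n hn
      obtain ⟨t, ht⟩ := hy n hn
      refine ⟨t, ?_⟩
      rw [← map_pow, ← map_mul, qn_mapRingHom] at ht
      exact ht)
    refine ⟨t, ?_⟩
    rw [map_mul, map_pow] at ht
    exact ht

lemma decomp (J : Ideal R) (x : R) (w : MonoidAlgebra R G)
    (hw : red (J ⊔ Ideal.span {x}) G w = 0) :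
    ∃ z : MonoidAlgebra R G, red J G (w - x • z) = 0 := by
  classical
  rw [red_eq_zero_iff] at hw
  have h : ∀ m, ∃ r : R, w.coeff m - x * r ∈ J ∧ (w.coeff m = 0 → r = 0) := by
    intro m
    by_cases h0 : w.coeff m = 0
    · exact ⟨0, by simp [h0], fun _ => rfl⟩
    · obtain ⟨j, hj, k, hk, e⟩ := Submodule.mem_sup.mp (hw m)
      obtain ⟨r, rfl⟩ := Ideal.mem_span_singleton'.mp hk
      refine ⟨r, ?_, fun h => absurd h h0⟩
      rw [← e]
      have : j + r * x - x * r = j := by ring
      rw [this]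
      exact hj
  choose r hr hr0 using h
  refine ⟨MonoidAlgebra.ofCoeff (Finsupp.onFinset w.coeff.support r (fun m hm => by
      rw [Finsupp.mem_support_iff]
      intro h0
      exact hm (hr0 m h0))), ?_⟩
  rw [red_eq_zero_iff]
  intro m
  rw [coeff_sub, Finsupp.sub_apply, coeff_smul_apply]
  simpa using hr m

lemma red_colon_iff (J : Ideal R) (x : R) {G' : Type w} [CommGroup G'] (u : MonoidAlgebra R G') :
    red (J.colon {x}) G' u = 0 ↔ red J G' (x • u) = 0 := by
  rw [red_eq_zero_iff, red_eq_zero_iff]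
  refine forall_congr' fun m => ?_
  rw [Submodule.mem_colon_singleton, coeff_smul_apply, smul_eq_mul, smul_eq_mul, mul_comm]

theorem step (b : MonoidAlgebra R G) (J : Ideal R) (x : R)
    (h1 : CoreAt (R ⧸ (J ⊔ Ideal.span {x})) G (red (J ⊔ Ideal.span {x}) G b))
    (h2 : CoreAt (R ⧸ (J.colon {x})) G (red (J.colon {x}) G b)) :
    CoreAt (R ⧸ J) G (red J G b) := by
  rw [coreAt_quot_iff] at h1 h2 ⊢
  intro y hy
  obtain ⟨t, ht⟩ := h1 y (fun n hn => by
    obtain ⟨t, ht⟩ := hy n hn
    refine ⟨t, ?_⟩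
    rw [red_eq_zero_iff] at ht ⊢
    exact fun m => Ideal.mem_sup_left (ht m))
  obtain ⟨z, hz⟩ := decomp J x _ ht
  obtain ⟨s, hs⟩ := h2 z (fun n hn => by
    obtain ⟨tn, htn⟩ := hy n hn
    refine ⟨tn, ?_⟩
    rw [red_colon_iff, ← qn_smul]
    have e : x • (b ^ tn * z) = b ^ t * (b ^ tn * y) - b ^ tn * (b ^ t * y - x • z) := by
      rw [mul_sub, mul_smul_comm]
      ring
    rw [e, map_sub, map_sub, map_mul (qn R G n), map_mul (red J _), htn, mul_zero, zero_sub,
      neg_eq_zero, ← qn_mapRingHom]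
    change qn (R ⧸ J) G n (red J G _) = 0
    rw [map_mul (red J G), hz, mul_zero, map_zero])
  refine ⟨s + t, ?_⟩
  have e : b ^ (s + t) * y = b ^ s * (b ^ t * y - x • z) + x • (b ^ s * z) := by
    rw [mul_sub, mul_smul_comm, pow_add]
    ring
  rw [e, map_add, map_mul, hz, mul_zero, zero_add, ← red_colon_iff]
  exact hs

theorem coreAt_quot_of_noeth [IsNoetherianRing R] [Group.FG G]
    (hG : ∀ (m : G) (n : ℕ), 0 < n → m ^ n = 1 → m = 1) (b : MonoidAlgebra R G) (J : Ideal R) :
    CoreAt (R ⧸ J) G (red J G b) := by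
  induction J using WellFoundedGT.induction with
  | ind J ih =>
    by_cases hp : J.IsPrime
    · apply coreAt_of_injective (algebraMap (R ⧸ J) (FractionRing (R ⧸ J)))
        (IsFractionRing.injective _ _)
      exact coreAt_field hG _
    · rw [Ideal.not_isPrime_iff] at hp
      rcases hp with rfl | ⟨x, hx, x', hx', hxx'⟩
      · intro y hy
        exact ⟨0, Subsingleton.elim _ _⟩
      · apply step b J x
        · apply ih
          refine lt_of_le_of_ne le_sup_left (fun e => hx ?_)
          rw [e]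
          exact Ideal.mem_sup_right (Ideal.mem_span_singleton_self x)
        · apply ih
          refine lt_of_le_of_ne Ideal.le_colon (fun e => hx' ?_)
          rw [e, Submodule.mem_colon_singleton, smul_eq_mul, mul_comm]
          exact hxx'

theorem coreAt_of_noeth [IsNoetherianRing R] [Group.FG G]
    (hG : ∀ (m : G) (n : ℕ), 0 < n → m ^ n = 1 → m = 1) (b : MonoidAlgebra R G) :
    CoreAt R G b := by
  apply coreAt_of_injective (Ideal.Quotient.mk (⊥ : Ideal R))
    ((RingHom.injective_iff_ker_eq_bot _).mpr Ideal.mk_ker)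
  exact coreAt_quot_of_noeth hG b ⊥

end Noeth

end Groth.Agent.Lib.Helper7.Dens
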