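import Mathlib
import Groth.Prelude.Def_SGA3b
import Groth.Agent.Lib.Helper7.DN4

set_option autoImplicit false
universe u v w
open TensorProduct SGA3b MonoidAlgebra

namespace Groth.Agent.Lib.Helper7.Dens

section Split

variable {R : Type u} [CommRing R]

theorem coreAt_of_mulEquiv {M : Type v} {M' : Type w} [CommGroup M] [CommGroup M'] (e : M ≃* M')
    (b : MonoidAlgebra R M) (h : CoreAt R M' (mapDomainRingEquiv R e b)) : CoreAt R M b := by
  intro y hy
  obtain ⟨t, ht⟩ := h (mapDomainRingEquiv R e y) (by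
    intro n hn
    obtain ⟨t, ht⟩ := hy n hn
    refine ⟨t, ?_⟩
    rw [← map_pow, ← map_mul]
    have := mapDomain_eq_zero_of_qn (R := R)
      ((QuotientGroup.mk' (powMonoidHom n : M' →* M').range).comp e.toMonoidHom) n (by
        intro m
        simp only [MonoidHom.coe_comp, Function.comp_apply, map_pow]
        rw [← map_pow, QuotientGroup.mk'_apply, QuotientGroup.eq_one_iff]
        exact ⟨e m, rfl⟩) _ ht
    rw [mapDomainRingHom_comp, RingHom.comp_apply] at this
    exact this)
  refine ⟨t, ?_⟩
  rw [← map_pow, ← map_mul] at ht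
  exact (mapDomainRingEquiv R e).injective (by rw [ht, map_zero])

lemma qn_curry {L : Type v} [CommGroup L] {F : Type w} [CommGroup F] (n : ℕ)
    (z : MonoidAlgebra R (L × F)) :
    qn (MonoidAlgebra R F) L n (curryRingEquiv z) =
      curryRingEquiv (mapDomainRingHom R
        (MonoidHom.prodMap (QuotientGroup.mk' (powMonoidHom n : L →* L).range) (MonoidHom.id F))
        z) := by
  induction z using MonoidAlgebra.induction_linear with
  | zero => simp
  | add f g hf hg => rw [map_add, map_add, hf, hg, map_add, map_add]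
  | single m r =>
    obtain ⟨l, φ⟩ := m
    simp [qn]

theorem coreAt_prod {L : Type v} [CommGroup L] {F : Type w} [CommGroup F] [Finite F]
    (h : ∀ b' : MonoidAlgebra (MonoidAlgebra R F) L, CoreAt (MonoidAlgebra R F) L b')
    (b : MonoidAlgebra R (L × F)) : CoreAt R (L × F) b := by
  intro y hy
  obtain ⟨t, ht⟩ := h (curryRingEquiv b) (curryRingEquiv y) (by
    intro n hn
    obtain ⟨t, ht⟩ := hy (n * Nat.card F) (Nat.mul_pos hn Nat.card_pos)
    refine ⟨t, ?_⟩
    rw [← map_pow, ← map_mul, qn_curry]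
    rw [mapDomain_eq_zero_of_qn (R := R) _ (n * Nat.card F) _ _ ht, map_zero]
    rintro ⟨l, φ⟩
    rw [Prod.pow_mk, MonoidHom.prodMap_def, MonoidHom.prod_apply, Prod.mk_eq_one]
    simp only [MonoidHom.coe_comp, MonoidHom.coe_fst, MonoidHom.coe_snd, Function.comp_apply]
    constructor
    · rw [QuotientGroup.mk'_apply, QuotientGroup.eq_one_iff, mul_comm, pow_mul]
      exact ⟨l ^ Nat.card F, rfl⟩
    · rw [MonoidHom.id_apply, mul_comm, pow_mul, pow_card_eq_one', one_pow])
  refine ⟨t, ?_⟩
  rw [← map_pow, ← map_mul] at ht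
  exact (curryRingEquiv (R := R) (M := L) (N := F)).injective (by rw [ht, map_zero])

theorem coreAt_of_noeth_fg [IsNoetherianRing R] {M : Type v} [CommGroup M] [Group.FG M]
    (b : MonoidAlgebra R M) : CoreAt R M b := by
  obtain ⟨ι, j, _, _, p, hp, e, ⟨eq⟩⟩ := CommGroup.equiv_free_prod_prod_multiplicative_zmod M
  apply coreAt_of_mulEquiv eq
  haveI : ∀ i, NeZero (p i ^ e i) := fun i => ⟨pow_ne_zero _ (hp i).ne_zero⟩
  apply coreAt_prod
  intro b'
  haveI : IsNoetherianRing (MonoidAlgebra R ((i : ι) → Multiplicative (ZMod (p i ^ e i)))) :=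
    IsNoetherianRing.of_finite R _
  apply coreAt_of_noeth
  intro m n hn hm
  funext i
  have := congrFun hm i
  simp only [Pi.pow_apply, Pi.one_apply] at this
  have h2 : n • Multiplicative.toAdd (m i) = 0 := by
    rw [← toAdd_pow, this, toAdd_one]
  rw [smul_eq_zero] at h2
  rcases h2 with h2 | h2
  · omega
  · exact Multiplicative.toAdd.injective h2

end Split

end Groth.Agent.Lib.Helper7.Dens
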