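import Mathlib
import Groth.Prelude.Def_SGA3b
import Groth.Agent.Lib.Helper7.DN5

set_option autoImplicit false
universe u v w
open TensorProduct SGA3b MonoidAlgebra

namespace Groth.Agent.Lib.Helper7.Dens

section General

variable {T : Type u} [CommRing T] {M : Type v} [CommGroup M]

/-- lifting an element of `T[M]` to a subalgebra containing its coefficients. -/
lemma exists_lift (R₀ : Subalgebra ℤ T) (b : MonoidAlgebra T M) (hb : ∀ m, b.coeff m ∈ R₀) :
    ∃ b₀ : MonoidAlgebra R₀ M, MonoidAlgebra.mapRingHom M R₀.val.toRingHom b₀ = b := by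
  classical
  let f : T → R₀ := fun t => if h : t ∈ R₀ then ⟨t, h⟩ else 0
  have f0 : f 0 = 0 := by
    simp only [f, dif_pos R₀.zero_mem]
    rfl
  refine ⟨MonoidAlgebra.ofCoeff (b.coeff.mapRange f f0), ?_⟩
  ext m
  rw [MonoidAlgebra.coeff_mapRingHom, coeff_ofCoeff, Finsupp.mapRange_apply]
  simp only [f, dif_pos (hb m)]
  rfl

theorem coreAt_fg [Group.FG M] (b : MonoidAlgebra T M) : CoreAt T M b := by
  classical
  intro y hy
  let S : Finset T := b.coeff.support.image b.coeff ∪ y.coeff.support.image y.coeff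
  let R₀ : Subalgebra ℤ T := Algebra.adjoin ℤ (S : Set T)
  haveI : Algebra.FiniteType ℤ R₀ := (Subalgebra.fg_iff_finiteType _).mp (Subalgebra.fg_adjoin_finset S)
  haveI : IsNoetherianRing R₀ := Algebra.FiniteType.isNoetherianRing ℤ R₀
  have hmem : ∀ (z : MonoidAlgebra T M), z.coeff.support.image z.coeff ⊆ S → ∀ m, z.coeff m ∈ R₀ := by
    intro z hz m
    by_cases h0 : z.coeff m = 0
    · rw [h0]
      exact R₀.zero_mem
    · apply Algebra.subset_adjoin
      apply hz
      rw [Finset.mem_image]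
      exact ⟨m, Finsupp.mem_support_iff.mpr h0, rfl⟩
  obtain ⟨b₀, hb₀⟩ := exists_lift R₀ b (hmem b Finset.subset_union_left)
  obtain ⟨y₀, hy₀⟩ := exists_lift R₀ y (hmem y Finset.subset_union_right)
  have hinj : Function.Injective (R₀.val.toRingHom : R₀ →+* T) := Subtype.val_injective
  obtain ⟨t, ht⟩ := coreAt_of_noeth_fg b₀ y₀ (by
    intro n hn
    obtain ⟨t, ht⟩ := hy n hn
    refine ⟨t, ?_⟩
    apply mapRingHom_injective _ hinj
    rw [← qn_mapRingHom, map_mul, map_pow, hb₀, hy₀, ht, map_zero])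
  refine ⟨t, ?_⟩
  rw [← hb₀, ← hy₀, ← map_pow, ← map_mul, ht, map_zero]

end General

end Groth.Agent.Lib.Helper7.Dens
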