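import Mathlib
import Groth.Prelude.Def_SGA3b
import Groth.Agent.Lib.Helper7.Versch1
import Groth.Agent.Lib.Helper7.TorsDense
import Groth.Agent.Lib.Helper7.MultDesc

/-!
# A group of multiplicative type of finite type is finite iff it is killed by an integer (helper7)

* `Killed R A n`: `[n]` is trivial; `torsionIdeal_eq_bot_iff`, `Killed.of_dvd`, `.baseChange`,
  `.of_bialgEquiv`, `.descend`, `.of_cover`.
* `killed_monoidAlgebra_iff`, `finite_monoidAlgebra_iff`.
* `exists_killed_of_finite`, `finite_of_killed` (one fpqc chart), `main` (= S2984).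
-/

namespace Groth.Agent.Lib.Helper7.TorsFinite
open TensorProduct WithConv MonoidAlgebra Groth.Agent.Lib.Helper7.Versch
  Groth.Agent.Lib.Helper7.TorsDense
universe u

section Killed
variable (R : Type u) [CommRing R] (A : Type u) [CommRing A] [HopfAlgebra R A]

/-- the `n`-th power map is trivial. -/
def Killed (n : ℕ) : Prop :=
  ∀ a : A, SGA3b.powConv R A n a = algebraMap R A (Coalgebra.counit (R := R) a)

variable {R A}

lemma torsionIdeal_eq_bot_iff (n : ℕ) : SGA3b.torsionIdeal R A n = ⊥ ↔ Killed R A n := by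
  constructor
  · intro h a
    have h1 : a - algebraMap R A (Coalgebra.counit (R := R) a) ∈
        RingHom.ker (Bialgebra.counitAlgHom R A) := by
      rw [RingHom.mem_ker, map_sub, AlgHom.commutes]
      change Coalgebra.counit (R := R) a - _ = 0
      rw [Algebra.algebraMap_self_apply, sub_self]
    have h2 : SGA3b.powConv R A n (a - algebraMap R A (Coalgebra.counit (R := R) a)) ∈
        SGA3b.torsionIdeal R A n := Ideal.mem_map_of_mem _ h1
    rw [h, Ideal.mem_bot, map_sub, AlgHom.commutes, sub_eq_zero] at h2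
    exact h2
  · intro h
    rw [eq_bot_iff, SGA3b.torsionIdeal, Ideal.map_le_iff_le_comap]
    intro b hb
    rw [RingHom.mem_ker] at hb
    rw [Ideal.mem_comap, Ideal.mem_bot]
    change SGA3b.powConv R A n b = 0
    rw [h b]
    change algebraMap R A (Bialgebra.counitAlgHom R A b) = 0
    rw [hb, map_zero]

lemma Killed.mul_left {n : ℕ} (h : Killed R A n) (m : ℕ) : Killed R A (m * n) := by
  intro a
  rw [← powConv_comp, AlgHom.comp_apply, h a, AlgHom.commutes]

lemma Killed.of_dvd {m n : ℕ} (h : Killed R A m) (hmn : m ∣ n) : Killed R A n := by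
  obtain ⟨c, rfl⟩ := hmn
  rw [mul_comm]
  exact h.mul_left c

lemma Killed.baseChange {n : ℕ} (h : Killed R A n) (S : Type u) [CommRing S] [Algebra R S] :
    Killed S (S ⊗[R] A) n := by
  intro z
  rw [powConv_baseChange]
  induction z using TensorProduct.induction_on with
  | zero => simp
  | add x y hx hy => rw [map_add, map_add, map_add, hx, hy]
  | tmul s a =>
    rw [Algebra.TensorProduct.map_tmul, AlgHom.id_apply, h a, TensorProduct.counit_tmul,
      CommSemiring.counit_apply, Algebra.TensorProduct.algebraMap_apply,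
      Algebra.algebraMap_self_apply, Algebra.algebraMap_eq_smul_one, TensorProduct.tmul_smul,
      TensorProduct.smul_tmul']

lemma Killed.of_bialgEquiv {B : Type u} [CommRing B] [HopfAlgebra R B] {n : ℕ}
    (h : Killed R A n) (e : A ≃ₐc[R] B) : Killed R B n := by
  intro b
  obtain ⟨a, rfl⟩ := e.surjective b
  have h1 : e (SGA3b.powConv R A n a) = SGA3b.powConv R B n (e a) :=
    congrArg (fun f : A →ₐ[R] B => f a) (bialgHom_comp_powConv e.toBialgHom n)
  have h2 : Coalgebra.counit (R := R) (e a) = Coalgebra.counit (R := R) a :=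
    CoalgHomClass.counit_comp_apply e a
  change SGA3b.powConv R B n (e a) = algebraMap R B (Coalgebra.counit (R := R) (e a))
  rw [← h1, h a, h2]
  exact AlgHom.commutes (e : A →ₐ[R] B) _

lemma Killed.descend {n : ℕ} (S : Type u) [CommRing S] [Algebra R S]
    (hinj : Function.Injective (fun a : A => (1 : S) ⊗ₜ[R] a))
    (h : Killed S (S ⊗[R] A) n) : Killed R A n := by
  intro a
  apply hinj
  change (1 : S) ⊗ₜ[R] (SGA3b.powConv R A n a) = (1 : S) ⊗ₜ[R] _
  have h1 := h ((1 : S) ⊗ₜ[R] a)
  rw [powConv_baseChange, Algebra.TensorProduct.map_tmul, AlgHom.id_apply,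
    TensorProduct.counit_tmul, CommSemiring.counit_apply, Algebra.TensorProduct.algebraMap_apply,
    Algebra.algebraMap_self_apply] at h1
  rw [h1, Algebra.algebraMap_eq_smul_one, TensorProduct.tmul_smul, TensorProduct.smul_tmul']

lemma Killed.of_cover {n : ℕ} (s : Set R) (hs : Ideal.span s = ⊤)
    (h : ∀ f ∈ s, Killed (Localization.Away f) (Localization.Away f ⊗[R] A) n) :
    Killed R A n := by
  intro a
  rw [← sub_eq_zero]
  apply Groth.Agent.Lib.Helper7.MultDesc.eq_zero_of_cover s hs
  intro f hf
  have h1 := h f hf ((1 : Localization.Away f) ⊗ₜ[R] a)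
  rw [powConv_baseChange, Algebra.TensorProduct.map_tmul, AlgHom.id_apply,
    TensorProduct.counit_tmul, CommSemiring.counit_apply, Algebra.TensorProduct.algebraMap_apply,
    Algebra.algebraMap_self_apply] at h1
  rw [TensorProduct.tmul_sub, h1, Algebra.algebraMap_eq_smul_one, TensorProduct.tmul_smul,
    TensorProduct.smul_tmul', sub_self]

end Killed


section MA
variable {R : Type u} [CommRing R] [Nontrivial R] {M : Type u} [CommGroup M]

lemma killed_monoidAlgebra_iff (n : ℕ) :
    Killed R (MonoidAlgebra R M) n ↔ ∀ m : M, m ^ n = 1 := by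
  constructor
  · intro h m
    have h1 := h (single m 1)
    rw [powConv_single, MonoidAlgebra.counit_single] at h1
    have h2 : (single (m ^ n) (1 : R) : MonoidAlgebra R M) = single 1 1 := h1
    by_contra hne
    have h3 := congrArg (fun x : MonoidAlgebra R M => x.coeff (m ^ n)) h2
    simp only [MonoidAlgebra.coeff_single, Finsupp.single_eq_same] at h3
    rw [Finsupp.single_eq_of_ne (by exact hne)] at h3
    exact one_ne_zero h3
  · intro h y
    induction y using MonoidAlgebra.induction_linear with
    | zero => simp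
    | add a b ha hb => rw [map_add, map_add, map_add, ha, hb]
    | single m r =>
      rw [powConv_single, h m, MonoidAlgebra.counit_single]
      rfl

lemma finite_monoidAlgebra_iff :
    Module.Finite R (MonoidAlgebra R M) ↔ Finite M := by
  constructor
  · intro h
    exact Module.Finite.finite_basis (MonoidAlgebra.basis M R)
  · intro h
    exact Module.Finite.of_basis (MonoidAlgebra.basis M R)

end MA


section Loc
variable {R₁ : Type u} [CommRing R₁] {X : Type u} [CommRing X] [HopfAlgebra R₁ X]
  {R' : Type u} [CommRing R'] [Algebra R₁ R'] [Module.FaithfullyFlat R₁ R']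
  {M : Type u} [CommGroup M]

lemma subsingleton_of_not_nontrivial (R₁ : Type u) [CommRing R₁] (X : Type u) [CommRing X]
    [Algebra R₁ X] (R' : Type u) [CommRing R'] [Algebra R₁ R'] [Module.FaithfullyFlat R₁ R']
    (h : ¬ Nontrivial R') : Subsingleton X := by
  have h1 : Subsingleton R' := not_nontrivial_iff_subsingleton.1 h
  have hinj : Function.Injective (algebraMap R₁ R') := FaithfulSMul.algebraMap_injective _ _
  have h2 : Subsingleton R₁ := hinj.subsingleton
  exact Module.subsingleton R₁ X

lemma exists_killed_of_finite (e : R' ⊗[R₁] X ≃ₐc[R'] MonoidAlgebra R' M) [Module.Finite R₁ X] :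
    ∃ n : ℕ, 0 < n ∧ Killed R₁ X n := by
  by_cases hR' : Nontrivial R'
  · have h1 : Module.Finite R' (MonoidAlgebra R' M) :=
      Module.Finite.equiv (e : R' ⊗[R₁] X ≃ₐc[R'] MonoidAlgebra R' M).toLinearEquiv
    have h2 : Finite M := finite_monoidAlgebra_iff.1 h1
    refine ⟨Nat.card M, Nat.card_pos, ?_⟩
    have h3 : Killed R' (MonoidAlgebra R' M) (Nat.card M) :=
      (killed_monoidAlgebra_iff _).2 (fun m => pow_card_eq_one')
    have h4 : Killed R' (R' ⊗[R₁] X) (Nat.card M) := h3.of_bialgEquiv e.symm
    exact Killed.descend R' (Module.FaithfullyFlat.tensorProduct_mk_injective (A := R₁) (B := R') X) h4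
  · have := subsingleton_of_not_nontrivial R₁ X R' hR'
    exact ⟨1, one_pos, fun a => Subsingleton.elim _ _⟩

lemma finite_of_killed (e : R' ⊗[R₁] X ≃ₐc[R'] MonoidAlgebra R' M) [Algebra.FiniteType R₁ X]
    {n : ℕ} (hn : 0 < n) (h : Killed R₁ X n) : Module.Finite R₁ X := by
  by_cases hR' : Nontrivial R'
  · have h1 : Killed R' (MonoidAlgebra R' M) n := (h.baseChange R').of_bialgEquiv e
    have h2 : ∀ m : M, m ^ n = 1 := (killed_monoidAlgebra_iff n).1 h1
    have h3 : Algebra.FiniteType R' (MonoidAlgebra R' M) :=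
      Algebra.FiniteType.equiv inferInstance e.toAlgEquiv
    have h4 : Group.FG M := MonoidAlgebra.finiteType_iff_group_fg.1 h3
    have h5 : Finite M := CommGroup.finite_of_fg_isMulTorsion M
      (fun m => isOfFinOrder_iff_pow_eq_one.2 ⟨n, hn, h2 m⟩)
    have h6 : Module.Finite R' (MonoidAlgebra R' M) := finite_monoidAlgebra_iff.2 h5
    have h7 : Module.Finite R' (R' ⊗[R₁] X) :=
      Module.Finite.equiv (e : R' ⊗[R₁] X ≃ₐc[R'] MonoidAlgebra R' M).symm.toLinearEquiv
    exact Module.Finite.of_finite_tensorProduct_of_faithfullyFlat R'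
  · have := subsingleton_of_not_nontrivial R₁ X R' hR'
    exact Module.Finite.of_finite

end Loc


theorem main (R : Type u) [CommRing R] (A : Type u) [CommRing A] [HopfAlgebra R A]
    (hft : Algebra.FiniteType R A) (h : SGA3b.IsMultType R A) :
    Module.Finite R A ↔ ∃ n : ℕ, 0 < n ∧ SGA3b.torsionIdeal R A n = ⊥ := by
  classical
  obtain ⟨s, hs, hs'⟩ := h
  constructor
  · intro hfin
    have hloc : ∀ f : R, ∃ n : ℕ, 0 < n ∧ (f ∈ s →
        Killed (Localization.Away f) (Localization.Away f ⊗[R] A) n) := by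
      intro f
      by_cases hf : f ∈ s
      · obtain ⟨R', _, _, hff, M, _, ⟨e⟩⟩ := hs' f hf
        obtain ⟨n, hn, hk⟩ := exists_killed_of_finite e
        exact ⟨n, hn, fun _ => hk⟩
      · exact ⟨1, one_pos, fun h => absurd h hf⟩
    choose nf hnf hk using hloc
    obtain ⟨t, hts, ht⟩ := (Ideal.span_eq_top_iff_finite s).1 hs
    refine ⟨∏ f ∈ t, nf f, Finset.prod_pos fun f _ => hnf f, ?_⟩
    rw [torsionIdeal_eq_bot_iff]
    apply Killed.of_cover (t : Set R) ht
    intro f hf
    exact (hk f (hts hf)).of_dvd (Finset.dvd_prod_of_mem nf hf)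
  · rintro ⟨n, hn, hJ⟩
    rw [torsionIdeal_eq_bot_iff] at hJ
    have hloc : ∀ g : s, Module.Finite (Localization.Away g.1) (Localization.Away g.1 ⊗[R] A) := by
      intro g
      obtain ⟨R', _, _, hff, M, _, ⟨e⟩⟩ := hs' g.1 g.2
      exact finite_of_killed e hn (hJ.baseChange _)
    exact Module.Finite.of_localizationSpan' s hs
      (Mₚ := fun g => Localization.Away g.1 ⊗[R] A) (Rₚ := fun g => Localization.Away g.1)
      (fun g => TensorProduct.mk R (Localization.Away g.1) A 1) hloc


end Groth.Agent.Lib.Helper7.TorsFinite
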