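import Mathlib
import Groth.Agent.Lib.Helper7.TorsDense
import Groth.Agent.Lib.Helper7.TorsFinite
import Groth.Agent.Lib.Helper7.MultQuot
import Groth.Agent.Lib.Helper7.CancelBC

/-!
# Quotients of diagonalisable Hopf algebras by subgroups of the character group (helper7)

* `exists_bialgEquiv_quotient`: a surjective bialgebra map `R[M] → Y` whose kernel is generated by
  the `h - 1`, `h ∈ H`, identifies `Y` with `R[M/H]`.
* `nonempty_bialgEquiv_quotient_torsion`: the `n`-torsion subgroup of a group split by `R'`.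
-/

set_option autoImplicit false

namespace Groth.Agent.Lib.Helper7.QuotDiag

open TensorProduct MonoidAlgebra Groth.Agent.Lib.Helper7.CancelBC

universe u

section General

variable {R : Type u} [CommRing R] {M : Type u} [CommGroup M]

/-- the ideal of the subgroup scheme `D(M/H) ⊆ D(M)`. -/
noncomputable def subgroupIdeal (R : Type u) [CommRing R] {M : Type u} [CommGroup M] (H : Subgroup M) :
    Ideal (MonoidAlgebra R M) :=
  Ideal.span {x | ∃ h ∈ H, x = single h (1 : R) - 1}

lemma subgroupIdeal_le_ker (H : Subgroup M) :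
    subgroupIdeal R H ≤ RingHom.ker
      (mapDomainBialgHom R (QuotientGroup.mk' H) : MonoidAlgebra R M →ₐ[R] MonoidAlgebra R (M ⧸ H)) := by
  rw [subgroupIdeal, Ideal.span_le]
  rintro _ ⟨h, hh, rfl⟩
  rw [SetLike.mem_coe, RingHom.mem_ker, map_sub, map_one]
  change mapDomainBialgHom R (QuotientGroup.mk' H) (single h 1) - 1 = 0
  rw [mapDomainBialgHom_single, QuotientGroup.mk'_apply, (QuotientGroup.eq_one_iff h).2 hh]
  exact sub_self _

theorem exists_bialgEquiv_quotient {Y : Type u} [CommRing Y] [Bialgebra R Y]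
    (ψ : MonoidAlgebra R M →ₐc[R] Y) (hψ : Function.Surjective ψ) (H : Subgroup M)
    (ha : ∀ h ∈ H, ψ (single h 1) = 1)
    (hb : RingHom.ker (ψ : MonoidAlgebra R M →ₐ[R] Y) ≤ subgroupIdeal R H) :
    Nonempty (MonoidAlgebra R (M ⧸ H) ≃ₐc[R] Y) := by
  classical
  have hgl : ∀ m : M, IsGroupLikeElem R (ψ (single m 1)) := fun m =>
    (MonoidAlgebra.isGroupLikeElem_single_one (R := R) (A := R) m).map ψ
  let γ₀ : M →* GroupLike R Y :=
    { toFun := fun m => ⟨ψ (single m 1), hgl m⟩
      map_one' := by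
        apply GroupLike.val_injective
        change ψ (1 : MonoidAlgebra R M) = 1
        exact map_one ψ
      map_mul' := by
        intro m m'
        apply GroupLike.val_injective
        change ψ (single (m * m') 1) = ψ (single m 1) * ψ (single m' 1)
        rw [← map_mul, MonoidAlgebra.single_mul_single, mul_one] }
  have hγ₀ : H ≤ γ₀.ker := by
    intro h hh
    rw [MonoidHom.mem_ker]
    apply GroupLike.val_injective
    exact ha h hh
  let γ : M ⧸ H →* GroupLike R Y := QuotientGroup.lift H γ₀ hγ₀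
  set g : MonoidAlgebra R (M ⧸ H) →ₐc[R] Y :=
    (MonoidAlgebra.liftGroupLikeBialgHom (R := R) (A := Y)).comp
      (MonoidAlgebra.mapDomainBialgHom R γ) with hg
  have hgs : ∀ (q : M ⧸ H) (r : R), g (single q r) = r • (γ q : Y) := by
    intro q r
    simp [hg]
  set π : MonoidAlgebra R M →ₐc[R] MonoidAlgebra R (M ⧸ H) :=
    mapDomainBialgHom R (QuotientGroup.mk' H) with hπ
  have hgπ : ∀ x : MonoidAlgebra R M, g (π x) = ψ x := by
    intro x
    induction x using MonoidAlgebra.induction_linear with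
    | zero => simp
    | add a b ha hb => rw [map_add, map_add, ha, hb, map_add]
    | single m r =>
      rw [hπ, mapDomainBialgHom_single, hgs]
      change r • ψ (single m 1) = _
      rw [← map_smul, MonoidAlgebra.smul_single, smul_eq_mul, mul_one]
  have hπs : Function.Surjective π := by
    intro y
    induction y using MonoidAlgebra.induction_linear with
    | zero => exact ⟨0, map_zero _⟩
    | add a b ha hb =>
      obtain ⟨a', rfl⟩ := ha
      obtain ⟨b', rfl⟩ := hb
      exact ⟨a' + b', map_add _ _ _⟩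
    | single q r =>
      obtain ⟨m, rfl⟩ := QuotientGroup.mk_surjective q
      exact ⟨single m r, mapDomainBialgHom_single _ _ _⟩
  refine ⟨BialgEquiv.ofBijective g ⟨?_, ?_⟩⟩
  · rw [injective_iff_map_eq_zero]
    intro y hy
    obtain ⟨x, rfl⟩ := hπs y
    rw [hgπ] at hy
    have hx : x ∈ RingHom.ker (ψ : MonoidAlgebra R M →ₐ[R] Y) := hy
    exact subgroupIdeal_le_ker H (hb hx)
  · intro y
    obtain ⟨x, rfl⟩ := hψ y
    exact ⟨π x, hgπ x⟩

end General

section Torsion

variable {R : Type u} [CommRing R] {M : Type u} [CommGroup M]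

lemma powConv_sub_counit_mem (n : ℕ) (y : MonoidAlgebra R M) :
    SGA3b.powConv R (MonoidAlgebra R M) n y -
        algebraMap R (MonoidAlgebra R M) (Coalgebra.counit (R := R) y) ∈
      subgroupIdeal R (powMonoidHom n : M →* M).range := by
  induction y using MonoidAlgebra.induction_linear with
  | zero => simp
  | add a b ha hb =>
    rw [map_add, map_add, map_add, add_sub_add_comm]
    exact add_mem ha hb
  | single m r =>
    rw [TorsDense.powConv_single, MonoidAlgebra.counit_single, CommSemiring.counit_apply]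
    have h1 : (single (m ^ n) r : MonoidAlgebra R M) - algebraMap R (MonoidAlgebra R M) r =
        r • (single (m ^ n) (1 : R) - 1) := by
      rw [smul_sub, MonoidAlgebra.smul_single, smul_eq_mul, mul_one, Algebra.algebraMap_eq_smul_one]
    rw [h1]
    apply Submodule.smul_of_tower_mem
    exact Ideal.subset_span ⟨m ^ n, ⟨m, rfl⟩, rfl⟩

lemma torsionIdeal_le_subgroupIdeal (n : ℕ) :
    SGA3b.torsionIdeal R (MonoidAlgebra R M) n ≤ subgroupIdeal R (powMonoidHom n : M →* M).range := by
  rw [SGA3b.torsionIdeal, Ideal.map_le_iff_le_comap]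
  intro y hy
  rw [RingHom.mem_ker] at hy
  rw [Ideal.mem_comap]
  have := powConv_sub_counit_mem (R := R) n y
  have h0 : Coalgebra.counit (R := R) y = 0 := hy
  rwa [h0, map_zero, sub_zero] at this

end Torsion

section Killed

variable {R : Type u} [CommRing R] {A : Type u} [CommRing A] [HopfAlgebra R A]

open Groth.Agent.Lib.Helper7.TorsFinite Groth.Agent.Lib.Helper7.TorsDense

lemma killed_quotient (n : ℕ) (J : Ideal A) [J.IsHopfIdeal R] (hJ : SGA3b.torsionIdeal R A n ≤ J) :
    Killed R (A ⧸ J) n := by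
  intro b
  obtain ⟨a, rfl⟩ := Ideal.Quotient.mk_surjective b
  set mkq : A →ₐc[R] A ⧸ J := Bialgebra.Quotient.mkBialgHom J with hmkq
  have h1 : SGA3b.powConv R (A ⧸ J) n (mkq a) = mkq (SGA3b.powConv R A n a) := by
    have := congrArg (fun f : A →ₐ[R] A ⧸ J => f a) (bialgHom_comp_powConv mkq n)
    exact this.symm
  have h2 : Coalgebra.counit (R := R) (mkq a) = Coalgebra.counit (R := R) a :=
    CoalgHomClass.counit_comp_apply mkq a
  change SGA3b.powConv R (A ⧸ J) n (mkq a) =
    algebraMap R (A ⧸ J) (Coalgebra.counit (R := R) (mkq a))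
  rw [h1, h2]
  have h3 : a - algebraMap R A (Coalgebra.counit (R := R) a) ∈
      RingHom.ker (Bialgebra.counitAlgHom R A) := by
    rw [RingHom.mem_ker, map_sub, AlgHom.commutes]
    change Coalgebra.counit (R := R) a - _ = 0
    rw [Algebra.algebraMap_self_apply, sub_self]
  have h4 : SGA3b.powConv R A n (a - algebraMap R A (Coalgebra.counit (R := R) a)) ∈ J :=
    hJ (Ideal.mem_map_of_mem _ h3)
  rw [map_sub, AlgHom.commutes] at h4
  have h5 := (Ideal.Quotient.eq (I := J)).2 h4
  rw [← (mkq : A →ₐ[R] A ⧸ J).commutes]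
  exact h5

end Killed

section Main

variable {R : Type u} [CommRing R] {A : Type u} [CommRing A] [HopfAlgebra R A]
  {R' : Type u} [CommRing R'] [Algebra R R'] {M : Type u} [CommGroup M]

open Groth.Agent.Lib.Helper7.TorsFinite Groth.Agent.Lib.Helper7.TorsDense

theorem nonempty_bialgEquiv_quotient_torsion (e : R' ⊗[R] A ≃ₐc[R'] MonoidAlgebra R' M) (n : ℕ)
    (J : Ideal A) [J.IsHopfIdeal R] (hJ : J = SGA3b.torsionIdeal R A n) :
    Nonempty (MonoidAlgebra R' (M ⧸ (powMonoidHom n : M →* M).range) ≃ₐc[R']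
      R' ⊗[R] (A ⧸ J)) := by
  set mkq : A →ₐc[R] A ⧸ J := Bialgebra.Quotient.mkBialgHom J with hmkq
  set q : R' ⊗[R] A →ₐc[R'] R' ⊗[R] (A ⧸ J) :=
    Bialgebra.TensorProduct.map (BialgHom.id R' R') mkq with hq
  have hqs : Function.Surjective q :=
    Groth.Agent.Lib.Helper7.MultQuot.map_id_surjective _ Ideal.Quotient.mk_surjective
  set ψ : MonoidAlgebra R' M →ₐc[R'] R' ⊗[R] (A ⧸ J) := q.comp (e.symm : _ →ₐc[R'] _) with hψ
  have hψa : ∀ x, ψ x = q (e.symm x) := fun _ => rfl
  have hkill : Killed R' (R' ⊗[R] (A ⧸ J)) n :=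
    (killed_quotient n J (le_of_eq hJ.symm)).baseChange R'
  apply exists_bialgEquiv_quotient ψ
  · intro y
    obtain ⟨x, rfl⟩ := hqs y
    exact ⟨e x, by rw [hψa, BialgEquiv.symm_apply_apply]⟩
  · rintro _ ⟨m, rfl⟩
    change ψ (single (m ^ n) 1) = 1
    rw [← powConv_single_one]
    have h1 : ψ (SGA3b.powConv R' (MonoidAlgebra R' M) n (single m 1)) =
        SGA3b.powConv R' (R' ⊗[R] (A ⧸ J)) n (ψ (single m 1)) :=
      congrArg (fun f : MonoidAlgebra R' M →ₐ[R'] R' ⊗[R] (A ⧸ J) => f (single m 1))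
        (bialgHom_comp_powConv ψ n)
    rw [h1, hkill, CoalgHomClass.counit_comp_apply ψ, MonoidAlgebra.counit_single,
      CommSemiring.counit_apply, map_one]
  · intro x hx
    have hx0 : q (e.symm x) = 0 := hx
    have h1 : e.symm x ∈ (RingHom.ker (mkq : A →ₐ[R] A ⧸ J)).map
        (Algebra.TensorProduct.includeRight : A →ₐ[R] R' ⊗[R] A) := by
      rw [← Algebra.TensorProduct.lTensor_ker (A := R') (g := (mkq : A →ₐ[R] A ⧸ J))
        Ideal.Quotient.mk_surjective]
      exact hx0
    have h2 : (RingHom.ker (mkq : A →ₐ[R] A ⧸ J)).map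
        (Algebra.TensorProduct.includeRight : A →ₐ[R] R' ⊗[R] A) ≤
        SGA3b.torsionIdeal R' (R' ⊗[R] A) n := by
      rw [Ideal.map_le_iff_le_comap]
      intro a ha
      have haJ : a ∈ J := by
        have : Ideal.Quotient.mk J a = 0 := ha
        exact Ideal.Quotient.eq_zero_iff_mem.1 this
      rw [hJ] at haJ
      exact one_tmul_mem_torsionIdeal R' n haJ
    have h3 := bialgHom_mem_torsionIdeal (e : R' ⊗[R] A →ₐc[R'] MonoidAlgebra R' M) n (h2 h1)
    have h4 : e (e.symm x) = x := BialgEquiv.apply_symm_apply e x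
    change (e : R' ⊗[R] A →ₐc[R'] MonoidAlgebra R' M) (e.symm x) ∈ _ at h3
    have h5 : (e : R' ⊗[R] A →ₐc[R'] MonoidAlgebra R' M) (e.symm x) = x := h4
    rw [h5] at h3
    exact torsionIdeal_le_subgroupIdeal n h3

end Main

end Groth.Agent.Lib.Helper7.QuotDiag
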