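import Mathlib
import Groth.Prelude.Def_SGA3b
import Groth.Agent.Lib.Helper7.DN6
import Groth.Agent.Lib.Helper7.HH6
import Groth.Agent.Lib.Helper7.QuotDiag

set_option autoImplicit false
universe u v w
open TensorProduct SGA3b MonoidAlgebra

namespace Groth.Agent.Lib.Helper7.Dens

section Transfer

variable {R : Type u} [CommRing R] {A : Type u} [CommRing A] [HopfAlgebra R A]

open Groth.Agent.Lib.Helper7.HH Groth.Agent.Lib.Helper7.NilLift in
theorem exists_pow_mul_eq_zero (hft : Algebra.FiniteType R A) (h : IsMultType R A) (a y : A)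
    (hy : ∀ n : ℕ, 0 < n → ∃ t : ℕ, a ^ t * y ∈ torsionIdeal R A n) : ∃ t : ℕ, a ^ t * y = 0 := by
  classical
  obtain ⟨ι, _, c, hc⟩ := exists_dfamily h
  have key : ∀ i, ∃ t : ℕ, (1 : (c i).T) ⊗ₜ[R] (a ^ t * y) = 0 := by
    intro i
    rcases subsingleton_or_nontrivial (c i).T with hs | hnt
    · exact ⟨0, Subsingleton.elim _ _⟩
    · haveI : Algebra.FiniteType (c i).T ((c i).T ⊗[R] A) := inferInstance
      haveI : Algebra.FiniteType (c i).T (MonoidAlgebra (c i).T (c i).M) :=
        Algebra.FiniteType.equiv ‹_› ((c i).e : (c i).T ⊗[R] A ≃ₐ[(c i).T] MonoidAlgebra (c i).T (c i).M)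
      haveI : Group.FG (c i).M := MonoidAlgebra.finiteType_iff_group_fg.mp ‹_›
      set e : (c i).T ⊗[R] A →ₐc[(c i).T] MonoidAlgebra (c i).T (c i).M := ((c i).e : (c i).T ⊗[R] A →ₐc[(c i).T] MonoidAlgebra (c i).T (c i).M)
        with he
      have hmul : ∀ t : ℕ, e ((1 : (c i).T) ⊗ₜ[R] (a ^ t * y)) =
          e ((1 : (c i).T) ⊗ₜ[R] a) ^ t * e ((1 : (c i).T) ⊗ₜ[R] y) := by
        intro t
        rw [← map_pow, ← map_mul, Algebra.TensorProduct.tmul_pow, one_pow,
          Algebra.TensorProduct.tmul_mul_tmul, one_mul]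
      obtain ⟨t, ht⟩ := coreAt_fg (e ((1 : (c i).T) ⊗ₜ[R] a)) (e ((1 : (c i).T) ⊗ₜ[R] y)) (by
        intro n hn
        obtain ⟨t, ht⟩ := hy n hn
        refine ⟨t, ?_⟩
        rw [← hmul]
        have h1 := TorsDense.one_tmul_mem_torsionIdeal (c i).T n ht
        have h2 := TorsDense.bialgHom_mem_torsionIdeal e n h1
        have h3 := QuotDiag.subgroupIdeal_le_ker _ (QuotDiag.torsionIdeal_le_subgroupIdeal n h2)
        rw [RingHom.mem_ker] at h3
        exact h3)
      refine ⟨t, ?_⟩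
      rw [← hmul] at ht
      have : Function.Injective e := (c i).e.injective
      exact this (by rw [ht, map_zero])
  choose t ht using key
  refine ⟨∑ i, t i, ?_⟩
  apply eq_zero_of_forall_tmul hc
  intro i
  have hle : t i ≤ ∑ j, t j := Finset.single_le_sum (f := t) (fun _ _ => Nat.zero_le _) (Finset.mem_univ i)
  obtain ⟨k, hk⟩ := Nat.exists_eq_add_of_le hle
  rw [hk, add_comm, pow_add, mul_assoc, ← one_mul (1 : (c i).T), ← Algebra.TensorProduct.tmul_mul_tmul,
    ht i, mul_zero]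

end Transfer

end Groth.Agent.Lib.Helper7.Dens
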