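import Groth.Prelude.Def_Lie2
import Groth.Agent.Lib.Helper7.UnipFilt

/-!
# Convolution `p^n`-th powers of `ε`-derivations (helper7)
-/

universe u

open TensorProduct LinearMap WithConv

namespace Groth.Agent.Lib.Helper7.DerPow

variable {k : Type u} [Field k] {A : Type u} [CommRing A] [HopfAlgebra k A]

lemma convPow_eq (D : A →ₗ[k] k) (n : ℕ) :
    LieHopf.convPow D n = ((toConv D) ^ n).ofConv := by
  induction n with
  | zero =>
    rw [pow_zero]
    change (Bialgebra.counitAlgHom k A).toLinearMap = Algebra.linearMap k k ∘ₗ Coalgebra.counit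
    ext a
    simp
  | succ n ih =>
    change LieHopf.conv (LieHopf.convPow D n) D = _
    rw [ih, pow_succ]
    rfl

lemma mul'_map_eq_zero {X Y : Submodule k A} (f g : A →ₗ[k] k)
    (h : (∀ x ∈ X, f x = 0) ∨ (∀ y ∈ Y, g y = 0))
    (z : A ⊗[k] A) (hz : z ∈ LinearMap.range (TensorProduct.mapIncl X Y)) :
    LinearMap.mul' k k (TensorProduct.map f g z) = 0 := by
  obtain ⟨w, rfl⟩ := hz
  induction w using TensorProduct.induction_on with
  | zero => simp
  | tmul x y =>
    simp only [TensorProduct.mapIncl, TensorProduct.map_tmul, Submodule.subtype_apply,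
      LinearMap.mul'_apply]
    rcases h with h | h
    · rw [h x x.2, zero_mul]
    · rw [h y y.2, mul_zero]
  | add a b ha hb => simp only [map_add, ha, hb, add_zero]

/-- convolution powers of a functional killing `1` vanish on low filtration steps. -/
theorem convPow_vanish (C : ℕ → Submodule k A) (h0 : C 0 = Submodule.span k {(1 : A)})
    (hΔ : ∀ r, Submodule.map (CoalgebraStruct.comul (R := k) (A := A)) (C r) ≤
      ⨆ i ∈ Finset.range (r + 1), LinearMap.range (TensorProduct.mapIncl (C i) (C (r - i))))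
    (f : A →ₗ[k] k) (hf : f 1 = 0) :
    ∀ m r, r < m → ∀ a ∈ C r, LieHopf.convPow f m a = 0 := by
  intro m
  induction m with
  | zero => intro r hr; exact absurd hr (Nat.not_lt_zero r)
  | succ m ih =>
    intro r hr a ha
    have h1 : Coalgebra.comul (R := k) a ∈ ⨆ i ∈ Finset.range (r + 1),
        LinearMap.range (TensorProduct.mapIncl (C i) (C (r - i))) := hΔ r ⟨a, ha, rfl⟩
    have hle : (⨆ i ∈ Finset.range (r + 1),
        LinearMap.range (TensorProduct.mapIncl (C i) (C (r - i)))) ≤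
        LinearMap.ker (LinearMap.mul' k k ∘ₗ TensorProduct.map (LieHopf.convPow f m) f) := by
      apply iSup₂_le
      intro i hi z hz
      rw [Finset.mem_range] at hi
      rw [LinearMap.mem_ker]
      change LinearMap.mul' k k (TensorProduct.map (LieHopf.convPow f m) f z) = 0
      apply mul'_map_eq_zero _ _ _ z hz
      by_cases him : i < m
      · left
        intro x hx
        exact ih i him x hx
      · right
        have hi2 : r - i = 0 := by omega
        rw [hi2, h0]
        intro y hy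
        obtain ⟨c, rfl⟩ := Submodule.mem_span_singleton.1 hy
        rw [map_smul, hf, smul_zero]
    have h2 := hle h1
    rw [LinearMap.mem_ker] at h2
    exact h2

/-- `ε`-derivations as linear functionals. -/
def IsDer (f : A →ₗ[k] k) : Prop :=
  ∀ a b, f (a * b) = Coalgebra.counit (R := k) a * f b + f a * Coalgebra.counit (R := k) b

/-- composition with the multiplication of `A`. -/
noncomputable def Phi (g : WithConv (A →ₗ[k] k)) : WithConv (A ⊗[k] A →ₗ[k] k ⊗[k] k) :=
  toConv ((Algebra.TensorProduct.includeLeft : k →ₐ[k] k ⊗[k] k).toLinearMap ∘ₗ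
    (g.ofConv ∘ₗ (Bialgebra.mulCoalgHom k A).toLinearMap))

lemma Phi_mul (g h : WithConv (A →ₗ[k] k)) : Phi (g * h) = Phi g * Phi h := by
  unfold Phi
  rw [convMul_comp_coalgHom_distrib g h (Bialgebra.mulCoalgHom k A),
    algHom_comp_convMul_distrib]

lemma tmul_eq (x y : k) : x ⊗ₜ[k] y = (x * y) ⊗ₜ[k] (1 : k) := by
  calc x ⊗ₜ[k] y = x ⊗ₜ[k] (y • (1 : k)) := by rw [smul_eq_mul, mul_one]
    _ = y • (x ⊗ₜ[k] (1 : k)) := TensorProduct.tmul_smul _ _ _
    _ = (y • x) ⊗ₜ[k] (1 : k) := TensorProduct.smul_tmul' _ _ _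
    _ = (x * y) ⊗ₜ[k] (1 : k) := by rw [smul_eq_mul, mul_comm]

lemma Phi_one : Phi (1 : WithConv (A →ₗ[k] k)) = 1 := by
  unfold Phi
  apply WithConv.ofConv_injective
  ext a b
  simp [Algebra.TensorProduct.algebraMap_apply]
  rw [mul_comm]

noncomputable def PhiHom : WithConv (A →ₗ[k] k) →* WithConv (A ⊗[k] A →ₗ[k] k ⊗[k] k) where
  toFun := Phi
  map_one' := Phi_one
  map_mul' := Phi_mul

noncomputable def XX (g : WithConv (A →ₗ[k] k)) : WithConv (A ⊗[k] A →ₗ[k] k ⊗[k] k) :=
  toConv (TensorProduct.map g.ofConv (1 : WithConv (A →ₗ[k] k)).ofConv)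

noncomputable def YY (g : WithConv (A →ₗ[k] k)) : WithConv (A ⊗[k] A →ₗ[k] k ⊗[k] k) :=
  toConv (TensorProduct.map (1 : WithConv (A →ₗ[k] k)).ofConv g.ofConv)

lemma XX_mul (g h : WithConv (A →ₗ[k] k)) : XX (g * h) = XX g * XX h := by
  unfold XX
  rw [TensorProduct.map_convMul_map, one_mul]

lemma YY_mul (g h : WithConv (A →ₗ[k] k)) : YY (g * h) = YY g * YY h := by
  unfold YY
  rw [TensorProduct.map_convMul_map, one_mul]

lemma XX_one : XX (1 : WithConv (A →ₗ[k] k)) = 1 := by
  unfold XX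
  apply WithConv.ofConv_injective
  ext a b
  simp [Algebra.TensorProduct.algebraMap_apply]
  rw [tmul_eq, mul_comm]

lemma YY_one : YY (1 : WithConv (A →ₗ[k] k)) = 1 := XX_one

noncomputable def XHom : WithConv (A →ₗ[k] k) →* WithConv (A ⊗[k] A →ₗ[k] k ⊗[k] k) where
  toFun := XX
  map_one' := XX_one
  map_mul' := XX_mul

noncomputable def YHom : WithConv (A →ₗ[k] k) →* WithConv (A ⊗[k] A →ₗ[k] k ⊗[k] k) where
  toFun := YY
  map_one' := YY_one
  map_mul' := YY_mul

lemma XX_YY_commute (g h : WithConv (A →ₗ[k] k)) : Commute (XX g) (YY h) := by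
  unfold Commute SemiconjBy XX YY
  rw [TensorProduct.map_convMul_map, TensorProduct.map_convMul_map, one_mul, mul_one, one_mul,
    mul_one]

lemma Phi_eq_of_isDer (f : A →ₗ[k] k) (hf : IsDer f) :
    Phi (toConv f) = XX (toConv f) + YY (toConv f) := by
  unfold Phi XX YY
  apply WithConv.ofConv_injective
  ext a b
  simp only [WithConv.ofConv_toConv, LinearMap.coe_comp, Function.comp_apply,
    AlgebraTensorModule.curry_apply, LinearMap.restrictScalars_self, TensorProduct.curry_apply,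
    WithConv.ofConv_add, LinearMap.add_apply, TensorProduct.map_tmul]
  change (f (a * b)) ⊗ₜ[k] (1 : k) = f a ⊗ₜ[k] (algebraMap k k (Coalgebra.counit (R := k) b)) +
    (algebraMap k k (Coalgebra.counit (R := k) a)) ⊗ₜ[k] f b
  rw [hf a b]
  simp only [Algebra.algebraMap_self, RingHom.id_apply]
  rw [tmul_eq (f a), tmul_eq _ (f b), ← TensorProduct.add_tmul, add_comm]

theorem isDer_convPow (f : A →ₗ[k] k) (hf : IsDer f) (p : ℕ) [Fact p.Prime] [CharP k p] (n : ℕ) :
    IsDer (LieHopf.convPow f (p ^ n)) := by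
  set F := toConv f with hF
  have h1 : Phi (F ^ (p ^ n)) = XX (F ^ (p ^ n)) + YY (F ^ (p ^ n)) := by
    have e1 : Phi (F ^ (p ^ n)) = (Phi F) ^ (p ^ n) := map_pow (PhiHom (k := k) (A := A)) F _
    have e2 : XX (F ^ (p ^ n)) = (XX F) ^ (p ^ n) := map_pow (XHom (k := k) (A := A)) F _
    have e3 : YY (F ^ (p ^ n)) = (YY F) ^ (p ^ n) := map_pow (YHom (k := k) (A := A)) F _
    rw [e1, e2, e3, Phi_eq_of_isDer f hf]
    obtain ⟨r, hr⟩ := Commute.exists_add_pow_prime_pow_eq
      (R := WithConv (A ⊗[k] A →ₗ[k] k ⊗[k] k)) (Fact.out : p.Prime) (x := XX F) (y := YY F)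
      (by exact XX_YY_commute F F) n
    rw [hr]
    have hp0 : ((p : ℕ) : WithConv (A ⊗[k] A →ₗ[k] k ⊗[k] k)) = 0 := by
      rw [← map_natCast (algebraMap k (WithConv (A ⊗[k] A →ₗ[k] k ⊗[k] k))), CharP.cast_eq_zero,
        map_zero]
    rw [hp0, zero_mul, zero_mul, zero_mul, add_zero]
  intro a b
  rw [convPow_eq]
  have h2 := congrArg (fun t : WithConv (A ⊗[k] A →ₗ[k] k ⊗[k] k) =>
    Algebra.TensorProduct.lmul' k (S := k) (t.ofConv (a ⊗ₜ[k] b))) h1
  simp only [Phi, XX, YY, WithConv.ofConv_toConv, LinearMap.coe_comp, Function.comp_apply,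
    WithConv.ofConv_add, LinearMap.add_apply, TensorProduct.map_tmul, map_add] at h2
  change Algebra.TensorProduct.lmul' k (S := k) (((F ^ p ^ n).ofConv (a * b)) ⊗ₜ[k] (1 : k)) =
    Algebra.TensorProduct.lmul' k (S := k) ((F ^ p ^ n).ofConv a ⊗ₜ[k]
      (algebraMap k k (Coalgebra.counit (R := k) b))) +
    Algebra.TensorProduct.lmul' k (S := k) ((algebraMap k k (Coalgebra.counit (R := k) a)) ⊗ₜ[k]
      (F ^ p ^ n).ofConv b) at h2
  simp only [Algebra.TensorProduct.lmul'_apply_tmul, mul_one, Algebra.algebraMap_self,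
    RingHom.id_apply] at h2
  rw [h2, add_comm]

end Groth.Agent.Lib.Helper7.DerPow
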