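import Mathlib

/-!
# Primitive elements of the dual algebra of a bialgebra (helper7)

The dual `D = WithConv (A →ₗ[k] k)` of a commutative bialgebra, the three algebra maps
`i1, i2, M : D → D₂ = WithConv (A ⊗ A →ₗ[k] k)` (`g ⊗ ε`, `ε ⊗ g`, transpose of multiplication),
primitive elements (`ε`-derivations), their `p`-th powers and the binomial formula.
-/

universe u v

open TensorProduct WithConv

namespace Groth.Agent.Lib.Helper7.DualPrim

section Basic

variable {k : Type u} [Field k] {A : Type v} [CommRing A] [Bialgebra k A]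

/-- the external product of two functionals. -/
noncomputable def box (g g' : A →ₗ[k] k) : (A ⊗[k] A) →ₗ[k] k :=
  LinearMap.mul' k k ∘ₗ TensorProduct.map g g'

@[simp] lemma box_tmul (g g' : A →ₗ[k] k) (a b : A) : box g g' (a ⊗ₜ[k] b) = g a * g' b := by
  simp [box]

lemma box_mul_box (g h g' h' : WithConv (A →ₗ[k] k)) :
    (toConv (box g.ofConv g'.ofConv) : WithConv ((A ⊗[k] A) →ₗ[k] k)) *
      toConv (box h.ofConv h'.ofConv) = toConv (box (g * h).ofConv (g' * h').ofConv) := by
  apply WithConv.ext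
  apply TensorProduct.ext'
  intro a b
  have h1 := ((Coalgebra.Repr.arbitrary k a).tmul (Coalgebra.Repr.arbitrary k b)).convMul_apply
    (toConv (box g.ofConv g'.ofConv) : WithConv ((A ⊗[k] A) →ₗ[k] k))
    (toConv (box h.ofConv h'.ofConv))
  have h2 := (Coalgebra.Repr.arbitrary k a).convMul_apply g h
  have h3 := (Coalgebra.Repr.arbitrary k b).convMul_apply g' h'
  change ((toConv (box g.ofConv g'.ofConv) : WithConv ((A ⊗[k] A) →ₗ[k] k)) *
      toConv (box h.ofConv h'.ofConv)) (a ⊗ₜ[k] b) = box (g * h).ofConv (g' * h').ofConv (a ⊗ₜ[k] b)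
  rw [h1, box_tmul]
  change _ = (g * h) a * (g' * h') b
  rw [h2, h3, Finset.sum_mul_sum, Coalgebra.Repr.tmul_index, Finset.sum_product]
  refine Finset.sum_congr rfl fun i _ => Finset.sum_congr rfl fun j _ => ?_
  simp only [Coalgebra.Repr.tmul_left, Coalgebra.Repr.tmul_right]
  change box g.ofConv g'.ofConv _ * box h.ofConv h'.ofConv _ = _
  rw [box_tmul, box_tmul]
  change g _ * g' _ * (h _ * h' _) = _
  ring

variable (k A) in
/-- the dual algebra. -/
abbrev D := WithConv (A →ₗ[k] k)

variable (k A) in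
/-- the dual algebra of `A ⊗ A`. -/
abbrev D₂ := WithConv ((A ⊗[k] A) →ₗ[k] k)

lemma one_D₂ : (1 : D₂ k A) = toConv (box (1 : D k A).ofConv (1 : D k A).ofConv) := by
  apply WithConv.ext
  apply TensorProduct.ext'
  intro a b
  change (1 : D₂ k A) (a ⊗ₜ[k] b) = box (1 : D k A).ofConv (1 : D k A).ofConv (a ⊗ₜ[k] b)
  rw [box_tmul]
  simp [mul_comm]

/-- first inclusion `g ↦ g ⊗ ε`, as a linear map. -/
noncomputable def i1L : D k A →ₗ[k] D₂ k A where
  toFun g := toConv (box g.ofConv (1 : D k A).ofConv)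
  map_add' g h := by
    apply WithConv.ext
    apply TensorProduct.ext'
    intro a b
    simp [box, add_mul]
  map_smul' c g := by
    apply WithConv.ext
    apply TensorProduct.ext'
    intro a b
    simp [box, mul_assoc]

lemma i1L_def (g : D k A) : i1L g = toConv (box g.ofConv (1 : D k A).ofConv) := rfl

/-- second inclusion `g ↦ ε ⊗ g`, as a linear map. -/
noncomputable def i2L : D k A →ₗ[k] D₂ k A where
  toFun g := toConv (box (1 : D k A).ofConv g.ofConv)
  map_add' g h := by
    apply WithConv.ext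
    apply TensorProduct.ext'
    intro a b
    simp [box, mul_add]
  map_smul' c g := by
    apply WithConv.ext
    apply TensorProduct.ext'
    intro a b
    simp [box, mul_left_comm]

lemma i2L_def (g : D k A) : i2L g = toConv (box (1 : D k A).ofConv g.ofConv) := rfl

variable (k A) in
/-- first inclusion `g ↦ g ⊗ ε`. -/
noncomputable def i1 : D k A →ₐ[k] D₂ k A :=
  AlgHom.ofLinearMap i1L one_D₂.symm
    (fun g h => by rw [i1L_def, i1L_def, i1L_def, box_mul_box, mul_one])

variable (k A) in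
/-- second inclusion `g ↦ ε ⊗ g`. -/
noncomputable def i2 : D k A →ₐ[k] D₂ k A :=
  AlgHom.ofLinearMap i2L one_D₂.symm
    (fun g h => by rw [i2L_def, i2L_def, i2L_def, box_mul_box, mul_one])

lemma i1_def (g : D k A) : i1 k A g = toConv (box g.ofConv (1 : D k A).ofConv) := rfl

lemma i2_def (g : D k A) : i2 k A g = toConv (box (1 : D k A).ofConv g.ofConv) := rfl

lemma i1_apply (g : D k A) (a b : A) : i1 k A g (a ⊗ₜ[k] b) = g a * Coalgebra.counit (R := k) b := by
  change box g.ofConv (1 : D k A).ofConv (a ⊗ₜ[k] b) = _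
  rw [box_tmul]
  simp

lemma i2_apply (g : D k A) (a b : A) : i2 k A g (a ⊗ₜ[k] b) = Coalgebra.counit (R := k) a * g b := by
  change box (1 : D k A).ofConv g.ofConv (a ⊗ₜ[k] b) = _
  rw [box_tmul]
  simp

lemma i1_mul_i2 (g h : D k A) : i1 k A g * i2 k A h = toConv (box g.ofConv h.ofConv) := by
  rw [i1_def, i2_def, box_mul_box, mul_one, one_mul]

lemma i2_mul_i1 (g h : D k A) : i2 k A h * i1 k A g = toConv (box g.ofConv h.ofConv) := by
  rw [i1_def, i2_def, box_mul_box, mul_one, one_mul]

lemma commute_i1_i2 (g h : D k A) : Commute (i1 k A g) (i2 k A h) := by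
  change i1 k A g * i2 k A h = i2 k A h * i1 k A g
  rw [i1_mul_i2, i2_mul_i1]

lemma i1_mul_i2_apply (g h : D k A) (a b : A) : (i1 k A g * i2 k A h) (a ⊗ₜ[k] b) = g a * h b := by
  rw [i1_mul_i2]
  exact box_tmul _ _ a b

/-- transpose of the multiplication, as a linear map. -/
noncomputable def ML : D k A →ₗ[k] D₂ k A where
  toFun g := toConv (g.ofConv ∘ₗ LinearMap.mul' k A)
  map_add' g h := by
    apply WithConv.ext
    apply TensorProduct.ext'
    intro a b
    simp
  map_smul' c g := by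
    apply WithConv.ext
    apply TensorProduct.ext'
    intro a b
    simp

lemma ML_def (g : D k A) : ML g = toConv (g.ofConv ∘ₗ LinearMap.mul' k A) := rfl

variable (k A) in
/-- transpose of the multiplication. -/
noncomputable def M : D k A →ₐ[k] D₂ k A :=
  AlgHom.ofLinearMap ML
    (by
      apply WithConv.ext
      apply TensorProduct.ext'
      intro a b
      change (1 : D k A) (a * b) = (1 : D₂ k A) (a ⊗ₜ[k] b)
      simp [mul_comm])
    (fun g h => by
      have := LinearMap.convMul_comp_coalgHom_distrib g h (Bialgebra.mulCoalgHom k A)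
      apply WithConv.ext
      exact this)

lemma M_apply (g : D k A) (a b : A) : M k A g (a ⊗ₜ[k] b) = g (a * b) := rfl





instance : Nontrivial (D₂ k A) := by
  refine ⟨⟨1, 0, fun h => ?_⟩⟩
  have h1 := congrArg (fun f : D₂ k A => f ((1 : A) ⊗ₜ[k] (1 : A))) h
  simp at h1

instance : Nontrivial (D k A) := by
  refine ⟨⟨1, 0, fun h => ?_⟩⟩
  have h1 := congrArg (fun f : D k A => f (1 : A)) h
  simp at h1

lemma charP_D₂ (p : ℕ) [CharP k p] : CharP (D₂ k A) p :=
  charP_of_injective_algebraMap (algebraMap k (D₂ k A)).injective p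

lemma charP_D (p : ℕ) [CharP k p] : CharP (D k A) p :=
  charP_of_injective_algebraMap (algebraMap k (D k A)).injective p

/-- primitive elements of the dual algebra: `ε`-derivations. -/
def IsPrim (u : D k A) : Prop := M k A u = i1 k A u + i2 k A u

lemma isPrim_iff (u : D k A) : IsPrim u ↔ ∀ a b : A,
    u (a * b) = u a * Coalgebra.counit (R := k) b + Coalgebra.counit (R := k) a * u b := by
  constructor
  · intro h a b
    have h1 := congrArg (fun f : D₂ k A => f (a ⊗ₜ[k] b)) h
    change M k A u (a ⊗ₜ[k] b) = (i1 k A u + i2 k A u) (a ⊗ₜ[k] b) at h1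
    rw [M_apply] at h1
    rw [h1]
    change i1 k A u (a ⊗ₜ[k] b) + i2 k A u (a ⊗ₜ[k] b) = _
    rw [i1_apply, i2_apply]
  · intro h
    apply WithConv.ext
    apply TensorProduct.ext'
    intro a b
    change M k A u (a ⊗ₜ[k] b) = i1 k A u (a ⊗ₜ[k] b) + i2 k A u (a ⊗ₜ[k] b)
    rw [M_apply, i1_apply, i2_apply, h]

lemma isPrim_zero : IsPrim (0 : D k A) := by
  unfold IsPrim
  simp

lemma IsPrim.add {u v : D k A} (hu : IsPrim u) (hv : IsPrim v) : IsPrim (u + v) := by
  unfold IsPrim at *
  rw [map_add, map_add, map_add, hu, hv]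
  abel

lemma IsPrim.smul {u : D k A} (hu : IsPrim u) (c : k) : IsPrim (c • u) := by
  unfold IsPrim at *
  rw [map_smul, map_smul, map_smul, hu, smul_add]

lemma IsPrim.apply_one {u : D k A} (hu : IsPrim u) : u (1 : A) = 0 := by
  have h := (isPrim_iff u).1 hu 1 1
  rw [mul_one, Bialgebra.counit_one, mul_one, one_mul] at h
  have : u (1 : A) + u (1 : A) = u (1 : A) + 0 := by rw [add_zero]; exact h.symm
  exact add_left_cancel this

lemma IsPrim.pow_char {u : D k A} (hu : IsPrim u) (p : ℕ) [Fact p.Prime] [CharP k p] :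
    IsPrim (u ^ p) := by
  have := charP_D₂ (k := k) (A := A) p
  unfold IsPrim at *
  rw [map_pow, hu, add_pow_char_of_commute _ (commute_i1_i2 u u), map_pow, map_pow]

lemma IsPrim.M_pow {u : D k A} (hu : IsPrim u) (n : ℕ) :
    M k A (u ^ n) = ∑ m ∈ Finset.HasAntidiagonal.antidiagonal n,
      n.choose m.1 • (i1 k A (u ^ m.1) * i2 k A (u ^ m.2)) := by
  rw [map_pow, hu, (commute_i1_i2 u u).add_pow']
  simp only [map_pow]

lemma IsPrim.pow_apply_mul {u : D k A} (hu : IsPrim u) (n : ℕ) (a b : A) :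
    (u ^ n) (a * b) = ∑ m ∈ Finset.HasAntidiagonal.antidiagonal n,
      (n.choose m.1 : k) * ((u ^ m.1) a * (u ^ m.2) b) := by
  rw [← M_apply, hu.M_pow]
  have hsum : ∀ (s : Finset (ℕ × ℕ)) (F : ℕ × ℕ → D₂ k A) (z : A ⊗[k] A),
      (∑ m ∈ s, F m) z = ∑ m ∈ s, F m z := by
    intro s F z
    exact map_sum ((LinearMap.applyₗ z : ((A ⊗[k] A) →ₗ[k] k) →ₗ[k] k).comp
      (WithConv.linearEquiv k _).toLinearMap) F s
  rw [hsum]
  refine Finset.sum_congr rfl fun m _ => ?_
  have hns : ∀ (c : ℕ) (F : D₂ k A) (z : A ⊗[k] A), (c • F) z = (c : k) * F z := by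
    intro c F z
    rw [← Nat.cast_smul_eq_nsmul k c F]
    rfl
  rw [hns, i1_mul_i2_apply]

end Basic

end Groth.Agent.Lib.Helper7.DualPrim
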