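import Groth.Agent.Lib.Helper7.HopfEtale
import Mathlib

/-!
# Simple finite commutative group schemes: `α_p` and `μ_p` (helper7)
-/

universe u v

open TensorProduct WithConv

namespace Groth.Agent.Lib.Helper7.HopfSimple

section Generic

variable {k : Type u} [Field k] {A : Type v} [CommRing A] [HopfAlgebra k A]

/-- the ideal generated by a skew-primitive element is a Hopf ideal. -/
theorem isHopfIdeal_span_singleton (t u v : A)
    (hΔ : Coalgebra.comul (R := k) t = t ⊗ₜ[k] u + v ⊗ₜ[k] t)
    (hε : Coalgebra.counit (R := k) t = 0)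
    (hS : HopfAlgebra.antipode k t ∈ Ideal.span ({t} : Set A)) :
    (Ideal.span ({t} : Set A)).IsHopfIdeal k := by
  set J : Ideal A := Ideal.span ({t} : Set A) with hJ
  let ρ : A →ₐ[k] (A ⧸ J) ⊗[k] (A ⧸ J) :=
    (Algebra.TensorProduct.map (Ideal.Quotient.mkₐ k J) (Ideal.Quotient.mkₐ k J)).comp
      (Bialgebra.comulAlgHom k A)
  have ht : Ideal.Quotient.mkₐ k J t = 0 := by
    rw [Ideal.Quotient.mkₐ_eq_mk, Ideal.Quotient.eq_zero_iff_mem]
    exact Ideal.subset_span rfl
  have hρt : ρ t = 0 := by
    change Algebra.TensorProduct.map (Ideal.Quotient.mkₐ k J) (Ideal.Quotient.mkₐ k J)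
      (Coalgebra.comul (R := k) t) = 0
    rw [hΔ, map_add, Algebra.TensorProduct.map_tmul, Algebra.TensorProduct.map_tmul, ht,
      TensorProduct.zero_tmul, TensorProduct.tmul_zero, add_zero]
  refine { counit_eq_zero := ?_, map_mkQ_comul_eq_zero := ?_, antipode_mem := ?_ }
  · intro x hx
    obtain ⟨a, rfl⟩ := Ideal.mem_span_singleton'.mp hx
    rw [Bialgebra.counit_mul, hε, mul_zero]
  · intro x hx
    obtain ⟨a, rfl⟩ := Ideal.mem_span_singleton'.mp hx
    have : ρ (a * t) = 0 := by rw [map_mul, hρt, mul_zero]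
    exact this
  · intro x hx
    obtain ⟨a, rfl⟩ := Ideal.mem_span_singleton'.mp hx
    rw [HopfAlgebra.antipode_mul_distrib]
    exact Ideal.mul_mem_left _ _ hS

/-- the antipode of a primitive element. -/
lemma antipode_primitive {x : A}
    (hx : Coalgebra.comul (R := k) x = x ⊗ₜ[k] (1 : A) + (1 : A) ⊗ₜ[k] x) :
    HopfAlgebra.antipode k x = -x := by
  have hε : Coalgebra.counit (R := k) x = 0 := by
    have h1 := Coalgebra.rTensor_counit_comul (R := k) x
    rw [hx, map_add, LinearMap.rTensor_tmul, LinearMap.rTensor_tmul, Bialgebra.counit_one] at h1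
    have h2 := congrArg (TensorProduct.lid k A) h1
    simp only [map_add, TensorProduct.lid_tmul, one_smul] at h2
    have h3 : Coalgebra.counit (R := k) x • (1 : A) = 0 := by
      have := add_eq_right.mp h2
      exact this
    have h4 := congrArg (Coalgebra.counit (R := k)) h3
    rw [map_smul, Bialgebra.counit_one, map_zero, smul_eq_mul, mul_one] at h4
    exact h4
  have h := HopfAlgebra.mul_antipode_rTensor_comul_apply (R := k) x
  rw [hx, map_add, LinearMap.rTensor_tmul, LinearMap.rTensor_tmul, map_add, LinearMap.mul'_apply,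
    LinearMap.mul'_apply, HopfAlgebra.antipode_one, mul_one, one_mul, hε, map_zero] at h
  exact eq_neg_of_add_eq_zero_left h

lemma counit_primitive {x : A}
    (hx : Coalgebra.comul (R := k) x = x ⊗ₜ[k] (1 : A) + (1 : A) ⊗ₜ[k] x) :
    Coalgebra.counit (R := k) x = 0 := by
  have h1 := Coalgebra.rTensor_counit_comul (R := k) x
  rw [hx, map_add, LinearMap.rTensor_tmul, LinearMap.rTensor_tmul, Bialgebra.counit_one] at h1
  have h2 := congrArg (TensorProduct.lid k A) h1
  simp only [map_add, TensorProduct.lid_tmul, one_smul] at h2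
  have h3 : Coalgebra.counit (R := k) x • (1 : A) = 0 := add_eq_right.mp h2
  have h4 := congrArg (Coalgebra.counit (R := k)) h3
  rw [map_smul, Bialgebra.counit_one, map_zero, smul_eq_mul, mul_one] at h4
  exact h4

/-- the ideal generated by a primitive element is a Hopf ideal. -/
theorem isHopfIdeal_span_primitive {x : A}
    (hx : Coalgebra.comul (R := k) x = x ⊗ₜ[k] (1 : A) + (1 : A) ⊗ₜ[k] x) :
    (Ideal.span ({x} : Set A)).IsHopfIdeal k := by
  apply isHopfIdeal_span_singleton x 1 1 hx (counit_primitive hx)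
  rw [antipode_primitive hx]
  exact neg_mem (Ideal.subset_span rfl)

/-- the ideal generated by `g - 1`, `g` group-like, is a Hopf ideal. -/
theorem isHopfIdeal_span_groupLike {g : A} (hg : IsGroupLikeElem k g) :
    (Ideal.span ({g - 1} : Set A)).IsHopfIdeal k := by
  apply isHopfIdeal_span_singleton (g - 1) g 1
  · rw [map_sub, hg.comul_eq_tmul_self, Bialgebra.comul_one, TensorProduct.sub_tmul,
      TensorProduct.tmul_sub]
    abel
  · rw [map_sub, hg.counit_eq_one, Bialgebra.counit_one, sub_self]
  · rw [map_sub, HopfAlgebra.antipode_one]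
    have h1 : HopfAlgebra.antipode k g * g = 1 := hg.antipode_mul_cancel
    have h2 : HopfAlgebra.antipode k g - 1 = -(HopfAlgebra.antipode k g) * (g - 1) := by
      rw [neg_mul, mul_sub, h1, mul_one]; ring
    rw [h2]
    exact Ideal.mul_mem_left _ _ (Ideal.subset_span rfl)

/-- if the augmentation ideal is generated by `x` with `x^n = 0`, the powers of `x` span. -/
theorem span_pow_eq_top (x : A)
    (hI : RingHom.ker (Bialgebra.counitAlgHom k A) = Ideal.span ({x} : Set A)) (n : ℕ)
    (hx : x ^ n = 0) :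
    Submodule.span k (Set.range (fun i : Fin n => x ^ (i : ℕ))) = ⊤ := by
  have key : ∀ m : ℕ, ∀ a : A, ∃ (c : ℕ → k) (a' : A),
      a = ∑ i ∈ Finset.range m, c i • x ^ i + x ^ m * a' := by
    intro m
    induction m with
    | zero => intro a; exact ⟨fun _ => 0, a, by simp⟩
    | succ m ih =>
      intro a
      obtain ⟨c, a', h⟩ := ih a
      have hmem : a' - algebraMap k A (Coalgebra.counit (R := k) a') ∈
          RingHom.ker (Bialgebra.counitAlgHom k A) := by
        rw [RingHom.mem_ker, map_sub, Bialgebra.counitAlgHom_apply, Bialgebra.counitAlgHom_apply,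
          Bialgebra.counit_algebraMap, sub_self]
      rw [hI] at hmem
      obtain ⟨a'', ha''⟩ := Ideal.mem_span_singleton'.mp hmem
      refine ⟨fun i => if i = m then Coalgebra.counit (R := k) a' else c i, a'', ?_⟩
      rw [Finset.sum_range_succ]
      have h1 : ∑ i ∈ Finset.range m, (if i = m then Coalgebra.counit (R := k) a' else c i) • x ^ i =
          ∑ i ∈ Finset.range m, c i • x ^ i := by
        refine Finset.sum_congr rfl fun i hi => ?_
        rw [if_neg (Finset.mem_range.mp hi).ne]
      beta_reduce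
      rw [h1, if_pos rfl, h]
      have h2 : a' = algebraMap k A (Coalgebra.counit (R := k) a') + a'' * x := by
        rw [ha'']; ring
      conv_lhs => rw [h2]
      rw [Algebra.smul_def, pow_succ]
      ring
  rw [eq_top_iff]
  intro a _
  obtain ⟨c, a', h⟩ := key n a
  rw [hx, zero_mul, add_zero] at h
  rw [h]
  refine Submodule.sum_mem _ fun i hi => ?_
  exact Submodule.smul_mem _ _ (Submodule.subset_span ⟨⟨i, Finset.mem_range.mp hi⟩, rfl⟩)

omit [HopfAlgebra k A] in
/-- powers of a nilpotent element below the nilpotency order are linearly independent. -/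
theorem linearIndependent_pow [Algebra k A] (x : A) (m : ℕ) (hm : x ^ m ≠ 0)
    (hm1 : x ^ (m + 1) = 0) :
    LinearIndependent k (fun i : Fin (m + 1) => x ^ (i : ℕ)) := by
  rw [Fintype.linearIndependent_iff]
  intro c hc
  by_contra hne
  push Not at hne
  -- minimal index with nonzero coefficient
  classical
  let S : Finset (Fin (m + 1)) := Finset.univ.filter fun i => c i ≠ 0
  have hS : S.Nonempty := by
    obtain ⟨i, hi⟩ := hne
    exact ⟨i, by simp [S, hi]⟩
  let j := S.min' hS
  have hj : c j ≠ 0 := by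
    have := Finset.min'_mem S hS
    simpa [S] using this
  have hlt : ∀ i, i < j → c i = 0 := by
    intro i hi
    by_contra h
    have : i ∈ S := by simp [S, h]
    exact absurd (Finset.min'_le S i this) (not_le.mpr hi)
  have h1 := congrArg (fun y => x ^ (m - (j : ℕ)) * y) hc
  simp only [mul_zero, Finset.mul_sum] at h1
  rw [Finset.sum_eq_single j] at h1
  · rw [mul_smul_comm, ← pow_add, Nat.sub_add_cancel (Nat.lt_succ_iff.mp j.2)] at h1
    rcases smul_eq_zero.mp h1 with h | h
    · exact hj h
    · exact hm h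
  · intro i _ hij
    rcases lt_or_gt_of_ne hij with h | h
    · rw [hlt i h, zero_smul, mul_zero]
    · rw [mul_smul_comm, ← pow_add]
      have h2 : m - (j : ℕ) + (i : ℕ) = m + ((i : ℕ) - (j : ℕ)) := by
        have : (j : ℕ) < (i : ℕ) := h
        have : (j : ℕ) ≤ m := Nat.lt_succ_iff.mp j.2
        omega
      have h3 : m + ((i : ℕ) - (j : ℕ)) = (m + 1) + ((i : ℕ) - (j : ℕ) - 1) := by
        have : (j : ℕ) < (i : ℕ) := h
        omega
      rw [h2, h3, pow_add, hm1, zero_mul, smul_zero]
  · intro h; exact absurd (Finset.mem_univ j) h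

end Generic

section Duality

variable {k : Type u} [Field k] {A : Type v} [CommRing A] [HopfAlgebra k A]
  [FiniteDimensional k A]

/-- every functional on the dual is an evaluation. -/
lemma exists_eval (φ : Module.Dual k (WithConv (A →ₗ[k] k))) :
    ∃ a : A, ∀ y : WithConv (A →ₗ[k] k), φ y = y a := by
  let φ' : Module.Dual k (Module.Dual k A) :=
    φ ∘ₗ (WithConv.linearEquiv k (A →ₗ[k] k)).symm.toLinearMap
  obtain ⟨a, ha⟩ := (Module.evalEquiv k A).surjective φ'
  refine ⟨a, fun y => ?_⟩
  have h1 := congrArg (fun f : Module.Dual k (Module.Dual k A) => f y.ofConv) ha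
  simp only [Module.evalEquiv_apply, Module.Dual.eval_apply] at h1
  exact h1.symm

/-- pure functionals separate the points of the tensor square. -/
lemma eq_zero_of_forall_tensor (w : A ⊗[k] A)
    (h : ∀ y z : A →ₗ[k] k, LinearMap.mul' k k (TensorProduct.map y z w) = 0) : w = 0 := by
  rw [← Module.forall_dual_apply_eq_zero_iff k w]
  intro φ
  obtain ⟨t, rfl⟩ := (TensorProduct.dualDistribEquiv k A A).surjective φ
  induction t using TensorProduct.induction_on with
  | zero => simp
  | tmul y z =>
    have h1 : (TensorProduct.dualDistribEquiv k A A) (y ⊗ₜ[k] z) =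
        LinearMap.mul' k k ∘ₗ TensorProduct.map y z := by
      apply TensorProduct.ext'
      intro a b
      simp [TensorProduct.dualDistribEquiv]
    rw [h1]
    exact h y z
  | add s t hs ht =>
    rw [map_add, LinearMap.add_apply, hs, ht, add_zero]

end Duality

section Ev

variable {k : Type u} [Field k] {A : Type v} [CommRing A] [HopfAlgebra k A]

/-- evaluation at one on the dual, as an algebra map. -/
noncomputable def ev1 (k : Type u) [Field k] (A : Type v) [CommRing A] [HopfAlgebra k A] :
    WithConv (A →ₗ[k] k) →ₐ[k] k where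
  toFun y := y 1
  map_one' := by
    rw [LinearMap.convOne_apply, Bialgebra.counit_one, map_one]
  map_mul' y z := by
    rw [LinearMap.convMul_apply, Bialgebra.comul_one]
    rfl
  map_zero' := rfl
  map_add' y z := rfl
  commutes' c := by
    rw [LinearMap.convAlgebraMap_apply, Bialgebra.counit_one, map_one]
    simp

lemma ev1_apply (y : WithConv (A →ₗ[k] k)) : ev1 k A y = y 1 := rfl

lemma sub_mem_ker_ev1 (y : WithConv (A →ₗ[k] k)) :
    y - (y 1) • (1 : WithConv (A →ₗ[k] k)) ∈ RingHom.ker (ev1 k A) := by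
  rw [RingHom.mem_ker, map_sub, map_smul, map_one (ev1 k A), ev1_apply, smul_eq_mul, mul_one,
    sub_self]

end Ev

section Prim

variable {k : Type u} [Field k] {A : Type v} [CommRing A] [HopfAlgebra k A]
  [Coalgebra.IsCocomm k A] [FiniteDimensional k A]

/-- if the dual is local and of dimension `> 1`, there is a nonzero primitive element. -/
theorem exists_primitive (hdual : IsLocalRing (WithConv (A →ₗ[k] k)))
    (hA : 1 < Module.finrank k A) :
    ∃ x : A, x ≠ 0 ∧ Coalgebra.comul (R := k) x = x ⊗ₜ[k] (1 : A) + (1 : A) ⊗ₜ[k] x := by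
  classical
  set m : Ideal (WithConv (A →ₗ[k] k)) := RingHom.ker (ev1 k A) with hm
  have hfinD : Module.Finite k (WithConv (A →ₗ[k] k)) := Module.Finite.equiv (WithConv.linearEquiv k (A →ₗ[k] k)).symm
  have hrankD : Module.finrank k (WithConv (A →ₗ[k] k)) = Module.finrank k A := by
    rw [(WithConv.linearEquiv k (A →ₗ[k] k)).finrank_eq, Subspace.dual_finrank_eq]
  have hsurj : Function.Surjective (ev1 k A) := fun c =>
    ⟨c • 1, by rw [map_smul, map_one, smul_eq_mul, mul_one]⟩
  have hmax : m.IsMaximal := RingHom.ker_isMaximal_of_surjective _ hsurj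
  have hmeq : m = IsLocalRing.maximalIdeal (WithConv (A →ₗ[k] k)) := IsLocalRing.eq_maximalIdeal hmax
  have hart : IsArtinianRing (WithConv (A →ₗ[k] k)) := IsArtinianRing.of_finite k (WithConv (A →ₗ[k] k))
  have hjac : m ≤ Ideal.jacobson (⊥ : Ideal (WithConv (A →ₗ[k] k))) := by
    rw [hmeq, IsLocalRing.jacobson_eq_maximalIdeal ⊥ bot_ne_top]
  have hnoeth : IsNoetherianRing (WithConv (A →ₗ[k] k)) := IsNoetherianRing.of_finite k _
  have hmne : m ≠ ⊥ := by
    intro h0
    have h1 : ∀ w : (WithConv (A →ₗ[k] k)), ∃ c : k, c • (1 : (WithConv (A →ₗ[k] k))) = w := by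
      intro w
      refine ⟨w 1, ?_⟩
      have := sub_mem_ker_ev1 w
      rw [← hm, h0, Ideal.mem_bot, sub_eq_zero] at this
      exact this.symm
    have := finrank_le_one (1 : (WithConv (A →ₗ[k] k))) h1
    omega
  set W : Submodule k (WithConv (A →ₗ[k] k)) := Submodule.span k {(1 : (WithConv (A →ₗ[k] k)))} ⊔ (m * m).restrictScalars k with hW
  have hWne : W ≠ ⊤ := by
    intro hWtop
    have hle : m ≤ m * m := by
      intro y hy
      have hyW : y ∈ W := hWtop ▸ Submodule.mem_top
      obtain ⟨a, ha, b, hb, hab⟩ := Submodule.mem_sup.mp hyW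
      obtain ⟨c, rfl⟩ := Submodule.mem_span_singleton.mp ha
      have hb' : b ∈ m * m := hb
      have hbm : b ∈ m := Ideal.mul_le_left hb'
      have h1 : ev1 k A y = 0 := hy
      rw [← hab, map_add, map_smul, map_one, smul_eq_mul, mul_one,
        (RingHom.mem_ker.mp hbm), add_zero] at h1
      rw [← hab, h1, zero_smul, zero_add]
      exact hb'
    have heq : m * m = m := le_antisymm Ideal.mul_le_left hle
    have hfg : (m : Submodule (WithConv (A →ₗ[k] k)) (WithConv (A →ₗ[k] k))).FG :=
      IsNoetherian.noetherian m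
    have hle' : (m : Submodule (WithConv (A →ₗ[k] k)) (WithConv (A →ₗ[k] k))) ≤ m • m := by
      rw [smul_eq_mul]; exact hle
    exact hmne (Submodule.eq_bot_of_le_smul_of_le_jacobson_bot m m hfg hle' hjac)
  obtain ⟨f, hf0, hfW⟩ := W.exists_le_ker_of_lt_top (lt_top_iff_ne_top.mpr hWne)
  obtain ⟨x, hx⟩ := exists_eval f
  have hx0 : x ≠ 0 := by
    rintro rfl
    apply hf0
    ext y
    rw [hx y]
    simp
  have h1x : (1 : (WithConv (A →ₗ[k] k))) x = 0 := by
    rw [← hx]
    exact hfW (Submodule.mem_sup_left (Submodule.mem_span_singleton_self _))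
  have hmmx : ∀ y z : (WithConv (A →ₗ[k] k)), y ∈ m → z ∈ m → (y * z) x = 0 := by
    intro y z hy hz
    rw [← hx]
    exact hfW (Submodule.mem_sup_right (Ideal.mul_mem_mul hy hz))
  refine ⟨x, hx0, ?_⟩
  rw [← sub_eq_zero]
  apply eq_zero_of_forall_tensor
  intro y z
  set Y : (WithConv (A →ₗ[k] k)) := toConv y with hY
  set Z : (WithConv (A →ₗ[k] k)) := toConv z with hZ
  have hYZ : (Y * Z) x = Y 1 * Z x + Z 1 * Y x := by
    have e1 : Y * Z = (Y 1 * Z 1) • (1 : (WithConv (A →ₗ[k] k))) + (Y 1) • (Z - (Z 1) • (1 : (WithConv (A →ₗ[k] k)))) +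
        (Z 1) • (Y - (Y 1) • (1 : (WithConv (A →ₗ[k] k)))) + (Y - (Y 1) • (1 : (WithConv (A →ₗ[k] k)))) * (Z - (Z 1) • (1 : (WithConv (A →ₗ[k] k)))) := by
      simp only [Algebra.smul_def, mul_one, map_mul]
      ring
    have hlin : ∀ (c : k) (u : (WithConv (A →ₗ[k] k))), (c • u) x = c * u x := fun c u => rfl
    have hadd : ∀ (u v : (WithConv (A →ₗ[k] k))), (u + v) x = u x + v x := fun u v => rfl
    have hsub : ∀ (u v : (WithConv (A →ₗ[k] k))), (u - v) x = u x - v x := fun u v => rfl
    rw [e1, hadd, hadd, hadd, hlin, hlin, hlin, hsub, hsub, hlin, hlin, h1x,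
      hmmx _ _ (sub_mem_ker_ev1 Y) (sub_mem_ker_ev1 Z)]
    ring
  rw [map_sub, map_sub, map_add, TensorProduct.map_tmul, TensorProduct.map_tmul, map_add,
    LinearMap.mul'_apply, LinearMap.mul'_apply]
  have h3 : LinearMap.mul' k k (TensorProduct.map y z (Coalgebra.comul (R := k) x)) = (Y * Z) x :=
    (LinearMap.convMul_apply Y Z x).symm
  rw [h3, hYZ]
  change Y 1 * Z x + Z 1 * Y x - (Y x * Z 1 + Y 1 * Z x) = 0
  ring

end Prim

section AlphaP

variable {k : Type u} [Field k] (p : ℕ) [Fact p.Prime] [CharP k p]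
  {A : Type v} [CommRing A] [HopfAlgebra k A]

/-- the `p`-th power of a primitive element is primitive. -/
lemma primitive_pow_p {x : A}
    (hx : Coalgebra.comul (R := k) x = x ⊗ₜ[k] (1 : A) + (1 : A) ⊗ₜ[k] x) :
    Coalgebra.comul (R := k) (x ^ p) = (x ^ p) ⊗ₜ[k] (1 : A) + (1 : A) ⊗ₜ[k] (x ^ p) := by
  have h0 : ((p : ℕ) : A ⊗[k] A) = 0 := by
    have h : ((p : ℕ) : A ⊗[k] A) = algebraMap k (A ⊗[k] A) ((p : ℕ) : k) :=
      (map_natCast (algebraMap k (A ⊗[k] A)) p).symm
    rw [h, CharP.cast_eq_zero, map_zero]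
  have h1 : Coalgebra.comul (R := k) (x ^ p) = (Coalgebra.comul (R := k) x) ^ p :=
    map_pow (Bialgebra.comulAlgHom k A) x p
  rw [h1, hx]
  obtain ⟨r, hr⟩ := exists_add_pow_prime_eq (Fact.out : p.Prime) (x ⊗ₜ[k] (1 : A)) ((1 : A) ⊗ₜ[k] x)
  rw [hr, h0, Algebra.TensorProduct.tmul_pow, Algebra.TensorProduct.tmul_pow, one_pow]
  ring

/-- the binomial expansion of the comultiplication of a power of a primitive element,
contracted against a linear form. -/
lemma contract_pow_primitive {x : A}
    (hx : Coalgebra.comul (R := k) x = x ⊗ₜ[k] (1 : A) + (1 : A) ⊗ₜ[k] x) (l : A →ₗ[k] k) (n : ℕ) :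
    (TensorProduct.rid k A) (LinearMap.lTensor A l (Coalgebra.comul (R := k) (x ^ n))) =
      ∑ i ∈ Finset.range (n + 1), ((n.choose i : k) * l (x ^ (n - i))) • x ^ i := by
  have h1 : Coalgebra.comul (R := k) (x ^ n) = (Coalgebra.comul (R := k) x) ^ n :=
    map_pow (Bialgebra.comulAlgHom k A) x n
  rw [h1, hx, add_pow]
  rw [map_sum, map_sum]
  refine Finset.sum_congr rfl fun i _ => ?_
  rw [Algebra.TensorProduct.tmul_pow, Algebra.TensorProduct.tmul_pow, one_pow, one_pow,
    Algebra.TensorProduct.tmul_mul_tmul, mul_one, one_mul]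
  rw [← nsmul_eq_mul', map_nsmul, map_nsmul, LinearMap.lTensor_tmul, TensorProduct.rid_tmul,
    mul_smul, Nat.cast_smul_eq_nsmul]


variable [Coalgebra.IsCocomm k A] [FiniteDimensional k A] [IsLocalRing A]

omit [Fact p.Prime] [CharP k p] [Coalgebra.IsCocomm k A] in
/-- elements of the augmentation ideal of a local finite Hopf algebra are nilpotent. -/
lemma isNilpotent_of_counit_eq_zero {a : A} (ha : Coalgebra.counit (R := k) a = 0) :
    IsNilpotent a := by
  have hsurj : Function.Surjective (Bialgebra.counitAlgHom k A) := fun c =>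
    ⟨algebraMap k A c, by simp⟩
  have hmax : (RingHom.ker (Bialgebra.counitAlgHom k A)).IsMaximal :=
    RingHom.ker_isMaximal_of_surjective _ hsurj
  have hmeq := IsLocalRing.eq_maximalIdeal hmax
  have hart : IsArtinianRing A := IsArtinianRing.of_finite k A
  have hmem : a ∈ Ideal.jacobson (⊥ : Ideal A) := by
    rw [IsLocalRing.jacobson_eq_maximalIdeal ⊥ bot_ne_top, ← hmeq]
    exact ha
  have hnil : IsNilpotent (Ideal.jacobson (⊥ : Ideal A)) := IsArtinianRing.isNilpotent_jacobson_bot
  obtain ⟨n, hn⟩ := hnil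
  refine ⟨n, ?_⟩
  have := Ideal.pow_mem_pow hmem n
  rw [hn] at this
  exact this

/-- a simple bi-infinitesimal finite commutative group scheme is `α_p`. -/
theorem alphaP_of_simple (hdual : IsLocalRing (WithConv (A →ₗ[k] k)))
    (hA : 1 < Module.finrank k A)
    (hsimple : ∀ I : Ideal A, I.IsHopfIdeal k → I = ⊥ ∨ I = RingHom.ker (Bialgebra.counitAlgHom k A)) :
    ∃ x : A, Coalgebra.comul (R := k) x = x ⊗ₜ[k] (1 : A) + (1 : A) ⊗ₜ[k] x ∧ x ^ p = 0 ∧
      LinearIndependent k (fun i : Fin p => x ^ (i : ℕ)) ∧ Module.finrank k A = p := by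
  classical
  obtain ⟨x, hx0, hx⟩ := exists_primitive hdual hA
  have hεx := counit_primitive hx
  have hxnil : IsNilpotent x := isNilpotent_of_counit_eq_zero hεx
  have hp1 : 1 ≤ p - 1 := by have := (Fact.out : p.Prime).two_le; omega
  -- x^p = 0
  have hxp : x ^ p = 0 := by
    have hH := isHopfIdeal_span_primitive (primitive_pow_p p hx)
    rcases hsimple _ hH with h | h
    · rw [Ideal.span_singleton_eq_bot] at h
      exact h
    · exfalso
      have hxI : x ∈ Ideal.span ({x ^ p} : Set A) := by
        rw [h]; exact hεx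
      obtain ⟨a, ha⟩ := Ideal.mem_span_singleton'.mp hxI
      have h2 : x * (1 - a * x ^ (p - 1)) = 0 := by
        have : x ^ p = x ^ (p - 1) * x := by
          rw [← pow_succ, Nat.sub_add_cancel (Fact.out : p.Prime).one_le]
        rw [this] at ha
        rw [mul_sub, mul_one, sub_eq_zero]
        have h9 : x * (a * x ^ (p - 1)) = a * (x ^ (p - 1) * x) := by ring
        rw [h9, ha]
      have h3 : IsNilpotent (a * x ^ (p - 1)) :=
        (Commute.all a _).isNilpotent_mul_left (hxnil.pow_of_pos (n := p - 1) (by omega))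
      have h4 : IsUnit (1 - a * x ^ (p - 1)) := h3.isUnit_one_sub
      exact hx0 ((h4.mul_left_eq_zero).mp h2)
  -- (x) = I
  have hI : RingHom.ker (Bialgebra.counitAlgHom k A) = Ideal.span ({x} : Set A) := by
    rcases hsimple _ (isHopfIdeal_span_primitive hx) with h | h
    · rw [Ideal.span_singleton_eq_bot] at h
      exact absurd h hx0
    · exact h.symm
  have hspan := span_pow_eq_top x hI p hxp
  -- minimal nilpotency order
  have hex : ∃ n, x ^ (n + 1) = 0 := ⟨p - 1, by
    rw [Nat.sub_add_cancel (Fact.out : p.Prime).one_le]; exact hxp⟩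
  set m := Nat.find hex with hm
  have hm1 : x ^ (m + 1) = 0 := Nat.find_spec hex
  have hm0 : x ^ m ≠ 0 := by
    rcases Nat.eq_zero_or_pos m with h | h
    · rw [h, pow_zero]; exact one_ne_zero
    · have := Nat.find_min hex (m := m - 1) (by omega)
      rwa [Nat.sub_add_cancel h] at this
  have hmle : m ≤ p - 1 := Nat.find_le (by
    rw [Nat.sub_add_cancel (Fact.out : p.Prime).one_le]; exact hxp)
  have hmpos : 1 ≤ m := by
    by_contra h
    have : m = 0 := by omega
    rw [this, zero_add, pow_one] at hm1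
    exact hx0 hm1
  have hli := linearIndependent_pow (k := k) x m hm0 hm1
  -- m + 1 = p
  have hmp : m + 1 = p := by
    by_contra hne
    have hlt : m + 1 < p := by omega
    -- a linear form with l (x^1) = 1, l (x^j) = 0 otherwise
    let S : Submodule k A := Submodule.span k (Set.range (fun i : Fin (m + 1) => x ^ (i : ℕ)))
    let l₀ : S →ₗ[k] k := (Finsupp.lapply (⟨1, by omega⟩ : Fin (m + 1))) ∘ₗ hli.repr
    obtain ⟨l, hl⟩ := LinearMap.exists_extend l₀
    have hl' : ∀ j : Fin (m + 1), l (x ^ (j : ℕ)) = if j = ⟨1, by omega⟩ then 1 else 0 := by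
      intro j
      have hmem : x ^ (j : ℕ) ∈ S := Submodule.subset_span ⟨j, rfl⟩
      have h1 : l (x ^ (j : ℕ)) = l₀ ⟨x ^ (j : ℕ), hmem⟩ := by
        rw [← hl]; rfl
      rw [h1]
      change (hli.repr ⟨x ^ (j : ℕ), hmem⟩) ⟨1, by omega⟩ = _
      have h2 : hli.repr ⟨x ^ (j : ℕ), hmem⟩ = Finsupp.single j 1 :=
        hli.repr_eq_single j ⟨x ^ (j : ℕ), hmem⟩ rfl
      rw [h2, Finsupp.single_apply]
    have hl1 : l (x ^ 1) = 1 := by
      have := hl' ⟨1, by omega⟩
      simpa using this
    have hl0 : ∀ j : ℕ, j ≠ 1 → l (x ^ j) = 0 := by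
      intro j hj
      by_cases hjm : j < m + 1
      · have := hl' ⟨j, hjm⟩
        rw [if_neg (by intro h; exact hj (by simpa using congrArg Fin.val h))] at this
        exact this
      · have : x ^ j = 0 := by
          have : j = (m + 1) + (j - (m + 1)) := by omega
          rw [this, pow_add, hm1, zero_mul]
        rw [this, map_zero]
    have hc := contract_pow_primitive (k := k) hx l (m + 1)
    rw [hm1, map_zero, map_zero, map_zero] at hc
    rw [Finset.sum_eq_single m] at hc
    · have h5 : m + 1 - m = 1 := by omega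
      rw [h5, hl1, mul_one, Nat.choose_succ_self_right] at hc
      rcases smul_eq_zero.mp hc.symm with h | h
      · have h6 : ((m + 1 : ℕ) : k) = 0 := h
        rw [CharP.cast_eq_zero_iff k p] at h6
        exact absurd (Nat.le_of_dvd (by omega) h6) (by omega)
      · exact hm0 h
    · intro i hi him
      have : m + 1 - i ≠ 1 := by
        have := Finset.mem_range.mp hi
        omega
      rw [hl0 _ this, mul_zero, zero_smul]
    · intro h
      exact absurd (Finset.mem_range.mpr (by omega)) h
  subst hmp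
  refine ⟨x, hx, hxp, hli, ?_⟩
  let b : Module.Basis (Fin (m + 1)) k A := Module.Basis.mk hli hspan.ge
  rw [Module.finrank_eq_card_basis b, Fintype.card_fin]

end AlphaP

end Groth.Agent.Lib.Helper7.HopfSimple
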