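import Mathlib
import Groth.Agent.Lib.Helper7.DualPrim
import Groth.Agent.Lib.Helper7.HopfSimple
import Groth.Prelude.Def_AlphaP

universe u v

open TensorProduct WithConv Polynomial

namespace Groth.Agent.Lib.Helper7.DualPrim

section Generic

variable {k : Type u} [Field k]

/-- powers of a nilpotent element of a (possibly noncommutative) algebra below the nilpotency
order are linearly independent. -/
theorem linearIndependent_pow' {R : Type v} [Ring R] [Algebra k R] (x : R) (m : ℕ) (hm : x ^ m ≠ 0)
    (hm1 : x ^ (m + 1) = 0) :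
    LinearIndependent k (fun i : Fin (m + 1) => x ^ (i : ℕ)) := by
  rw [Fintype.linearIndependent_iff]
  intro c hc
  by_contra hne
  push Not at hne
  classical
  let S : Finset (Fin (m + 1)) := Finset.univ.filter fun i => c i ≠ 0
  have hS : S.Nonempty := by
    obtain ⟨i, hi⟩ := hne
    exact ⟨i, by simp [S, hi]⟩
  let j := S.min' hS
  have hj : c j ≠ 0 := by
    have := Finset.min'_mem S hS
    simpa [S] using this
  have hlt : ∀ i, i < j → c i = 0 := by
    intro i hi
    by_contra h
    have : i ∈ S := by simp [S, h]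
    exact absurd (Finset.min'_le S i this) (not_le.mpr hi)
  have h1 := congrArg (fun y => x ^ (m - (j : ℕ)) * y) hc
  simp only [mul_zero, Finset.mul_sum] at h1
  rw [Finset.sum_eq_single j] at h1
  · rw [mul_smul_comm, ← pow_add, Nat.sub_add_cancel (Nat.lt_succ_iff.mp j.2)] at h1
    rcases smul_eq_zero.mp h1 with h | h
    · exact hj h
    · exact hm h
  · intro i _ hij
    rcases lt_or_gt_of_ne hij with h | h
    · rw [hlt i h, zero_smul, mul_zero]
    · rw [mul_smul_comm, ← pow_add]
      have h2 : m - (j : ℕ) + (i : ℕ) = m + ((i : ℕ) - (j : ℕ)) := by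
        have : (j : ℕ) < (i : ℕ) := h
        have : (j : ℕ) ≤ m := Nat.lt_succ_iff.mp j.2
        omega
      have h3 : m + ((i : ℕ) - (j : ℕ)) = (m + 1) + ((i : ℕ) - (j : ℕ) - 1) := by
        have : (j : ℕ) < (i : ℕ) := h
        omega
      rw [h2, h3, pow_add, hm1, zero_mul, smul_zero]
  · intro h; exact absurd (Finset.mem_univ j) h

/-- a linear form with prescribed values on a linearly independent family. -/
lemma exists_dual_eq {ι : Type*} {V : Type*} [AddCommGroup V] [Module k V] (v : ι → V)
    (hli : LinearIndependent k v) (c : ι → k) : ∃ ψ : V →ₗ[k] k, ∀ i, ψ (v i) = c i := by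
  classical
  let l₀ : Submodule.span k (Set.range v) →ₗ[k] k := (Finsupp.linearCombination k c) ∘ₗ hli.repr
  obtain ⟨l, hl⟩ := LinearMap.exists_extend l₀
  refine ⟨l, fun i => ?_⟩
  have hmem : v i ∈ Submodule.span k (Set.range v) := Submodule.subset_span ⟨i, rfl⟩
  have h1 : l (v i) = l₀ ⟨v i, hmem⟩ := by
    rw [← hl]; rfl
  rw [h1]
  change Finsupp.linearCombination k c (hli.repr ⟨v i, hmem⟩) = _
  have h2 : hli.repr ⟨v i, hmem⟩ = Finsupp.single i 1 := hli.repr_eq_single i ⟨v i, hmem⟩ rfl
  rw [h2, Finsupp.linearCombination_single, one_smul]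

/-- triangular reindexing of a double sum. -/
lemma sum_antidiagonal_eq {M : Type*} [AddCommMonoid M] (N : ℕ) (G : ℕ → ℕ → M)
    (hG : ∀ i j, i < N → j < N → N ≤ i + j → G i j = 0) :
    ∑ n ∈ Finset.range N, ∑ m ∈ Finset.HasAntidiagonal.antidiagonal n, G m.1 m.2 =
      ∑ i ∈ Finset.range N, ∑ j ∈ Finset.range N, G i j := by
  classical
  rw [← Finset.sum_product', Finset.sum_sigma']
  rw [← Finset.sum_filter_of_ne (s := Finset.range N ×ˢ Finset.range N)
    (p := fun x => x.1 + x.2 < N)]
  · refine Finset.sum_bij' (fun x _ => x.2) (fun x _ => ⟨x.1 + x.2, x⟩) ?_ ?_ ?_ ?_ ?_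
    · rintro ⟨n, i, j⟩ h
      simp only [Finset.mem_sigma, Finset.mem_range, Finset.HasAntidiagonal.mem_antidiagonal] at h
      simp only [Finset.mem_filter, Finset.mem_product, Finset.mem_range]
      omega
    · rintro ⟨i, j⟩ h
      simp only [Finset.mem_filter, Finset.mem_product, Finset.mem_range] at h
      rw [Finset.mem_sigma, Finset.mem_range, Finset.HasAntidiagonal.mem_antidiagonal]
      exact ⟨h.2, rfl⟩
    · rintro ⟨n, i, j⟩ h
      simp only [Finset.mem_sigma, Finset.mem_range, Finset.HasAntidiagonal.mem_antidiagonal] at h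
      simp only [Sigma.mk.injEq, heq_eq_eq, and_true]
      exact h.2
    · rintro ⟨i, j⟩ _
      rfl
    · rintro ⟨n, i, j⟩ _
      rfl
  · rintro ⟨i, j⟩ h hne
    simp only [Finset.mem_product, Finset.mem_range] at h
    by_contra hlt
    exact hne (hG i j h.1 h.2 (not_lt.1 hlt))

end Generic

end Groth.Agent.Lib.Helper7.DualPrim
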