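import Mathlib
import Groth.Agent.Lib.Helper7.DualAlphaAux

/-!
# A primitive element with `u ^ p = 0` of the dual gives a quotient `α_p` (helper7)
-/

universe u v

open TensorProduct WithConv Polynomial

namespace Groth.Agent.Lib.Helper7.DualPrim

section Alpha

variable {k : Type u} [Field k] (p : ℕ) [Fact p.Prime] [CharP k p]
  {A : Type v} [CommRing A] [HopfAlgebra k A]

omit [Fact p.Prime] [CharP k p] in
lemma mul_apply_one (g h : D k A) : (g * h) (1 : A) = g 1 * h 1 := by
  rw [LinearMap.convMul_apply, Bialgebra.comul_one, Algebra.TensorProduct.one_def,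
    TensorProduct.map_tmul, LinearMap.mul'_apply]

omit [Fact p.Prime] [CharP k p] in
lemma pow_apply_one {u : D k A} (hu : IsPrim u) (n : ℕ) :
    (u ^ n) (1 : A) = if n = 0 then 1 else 0 := by
  induction n with
  | zero => simp
  | succ n ih =>
    rw [pow_succ, mul_apply_one, hu.apply_one, mul_zero, if_neg (Nat.succ_ne_zero n)]

variable [Module.Finite k A]

/-- the powers `u^0, …, u^(p-1)` of a nonzero primitive element with `u ^ p = 0` are linearly
independent. -/
theorem linearIndependent_pow_of_isPrim {u : D k A} (hu : IsPrim u) (h0 : u ≠ 0) (hup : u ^ p = 0) :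
    LinearIndependent k (fun i : Fin p => u ^ (i : ℕ)) := by
  classical
  have hp : p.Prime := Fact.out
  have hex : ∃ m, u ^ (m + 1) = 0 := ⟨p - 1, by rw [Nat.sub_add_cancel hp.one_le]; exact hup⟩
  have hm1 : u ^ (Nat.find hex + 1) = 0 := Nat.find_spec hex
  have hmle : Nat.find hex ≤ p - 1 := Nat.find_le (by
    rw [Nat.sub_add_cancel hp.one_le]; exact hup)
  have hm0 : u ^ (Nat.find hex) ≠ 0 := by
    rcases Nat.eq_zero_or_pos (Nat.find hex) with h | h
    · rw [h, pow_zero]; exact one_ne_zero
    · have := Nat.find_min hex (m := Nat.find hex - 1) (by omega)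
      rwa [Nat.sub_add_cancel h] at this
  have hmpos : 1 ≤ Nat.find hex := by
    by_contra h
    have h' : Nat.find hex = 0 := by omega
    rw [h', zero_add, pow_one] at hm1
    exact h0 hm1
  generalize Nat.find hex = m at hm1 hmle hm0 hmpos
  have hli := linearIndependent_pow' (k := k) u m hm0 hm1
  have hmp : m + 1 = p := by
    by_contra hne
    have hlt : m + 1 < p := by omega
    obtain ⟨ψ, hψ⟩ := exists_dual_eq (k := k) _ hli
      (fun i : Fin (m + 1) => if (i : ℕ) = 1 then (1 : k) else 0)
    obtain ⟨b, hb⟩ := HopfSimple.exists_eval (k := k) (A := A) ψ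
    have hb' : ∀ j : ℕ, j ≠ 1 → (u ^ j) b = 0 := by
      intro j hj
      by_cases hjm : j < m + 1
      · have := hψ ⟨j, hjm⟩
        rw [hb] at this
        simpa [hj] using this
      · have h2 : u ^ j = 0 := by
          have : j = (m + 1) + (j - (m + 1)) := by omega
          rw [this, pow_add, hm1, zero_mul]
        rw [h2]; rfl
    have hb1 : (u ^ 1) b = 1 := by
      have := hψ ⟨1, by omega⟩
      rw [hb] at this
      simpa using this
    apply hm0
    apply WithConv.ext
    apply LinearMap.ext
    intro a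
    have h1 := hu.pow_apply_mul (m + 1) a b
    rw [hm1] at h1
    rw [Finset.sum_eq_single (m, 1)] at h1
    · simp only [hb1, mul_one, Nat.choose_succ_self_right] at h1
      have hne : ((m + 1 : ℕ) : k) ≠ 0 := by
        rw [Ne, CharP.cast_eq_zero_iff k p]
        intro hdvd
        exact absurd (Nat.le_of_dvd (by omega) hdvd) (by omega)
      have h2 : (u ^ m) a = 0 := by
        have h3 : ((m + 1 : ℕ) : k) * (u ^ m) a = 0 := h1.symm
        exact (mul_eq_zero.1 h3).resolve_left hne
      exact h2
    · rintro ⟨i, j⟩ _ hij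
      have hj : j ≠ 1 := by
        rintro rfl
        apply hij
        have : i + 1 = m + 1 := by
          rename_i h
          exact Finset.HasAntidiagonal.mem_antidiagonal.1 h
        have : i = m := by omega
        rw [this]
      simp only [hb' j hj, mul_zero]
    · intro h
      exact absurd (Finset.HasAntidiagonal.mem_antidiagonal.2 (show (m, 1).1 + (m, 1).2 = m + 1 from rfl)) h
  subst hmp
  exact hli

omit [Fact p.Prime] [CharP k p] [Module.Finite k A] in
/-- polynomial-valued truncated exponential of `u`. -/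
noncomputable def alphaPoly (u : D k A) : A →ₗ[k] k[X] :=
  ∑ i ∈ Finset.range p, (Polynomial.monomial i : k →ₗ[k] k[X]).comp
    (((i.factorial : k)⁻¹) • (u ^ i).ofConv)

omit [Fact p.Prime] [CharP k p] [Module.Finite k A] in
lemma alphaPoly_apply (u : D k A) (a : A) :
    alphaPoly p u a = ∑ i ∈ Finset.range p,
      Polynomial.monomial i (((i.factorial : k)⁻¹) * (u ^ i) a) := by
  unfold alphaPoly
  rw [LinearMap.sum_apply]
  rfl

omit [Fact p.Prime] [CharP k p] [Module.Finite k A] in
lemma coeff_alphaPoly (u : D k A) (a : A) (n : ℕ) :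
    (alphaPoly p u a).coeff n = if n < p then ((n.factorial : k))⁻¹ * (u ^ n) a else 0 := by
  rw [alphaPoly_apply, Polynomial.finsetSum_coeff]
  simp only [Polynomial.coeff_monomial]
  rw [Finset.sum_ite_eq' (Finset.range p) n]
  simp only [Finset.mem_range]

omit [Module.Finite k A] in
lemma alphaPoly_one {u : D k A} (hu : IsPrim u) : alphaPoly p u (1 : A) = 1 := by
  have hp : p.Prime := Fact.out
  ext n
  rw [coeff_alphaPoly, pow_apply_one hu, Polynomial.coeff_one]
  by_cases hn : n = 0
  · subst hn
    simp [hp.pos]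
  · rw [if_neg hn, mul_zero, ite_self]

omit [Module.Finite k A] in
lemma alphaPoly_mul {u : D k A} (hu : IsPrim u) (a b : A) :
    (X : k[X]) ^ p ∣ alphaPoly p u (a * b) - alphaPoly p u a * alphaPoly p u b := by
  have hp : p.Prime := Fact.out
  rw [Polynomial.X_pow_dvd_iff]
  intro d hd
  rw [Polynomial.coeff_sub, Polynomial.coeff_mul, coeff_alphaPoly, if_pos hd, hu.pow_apply_mul,
    Finset.mul_sum, ← Finset.sum_sub_distrib]
  apply Finset.sum_eq_zero
  rintro ⟨i, j⟩ hij
  have hij' : i + j = d := Finset.HasAntidiagonal.mem_antidiagonal.1 hij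
  rw [coeff_alphaPoly, coeff_alphaPoly, if_pos (by omega), if_pos (by omega)]
  subst hij'
  have hfac : ∀ n < p, ((n.factorial : ℕ) : k) ≠ 0 := by
    intro n hn
    rw [Ne, CharP.cast_eq_zero_iff k p, hp.dvd_factorial]
    omega
  have h1 : (((i + j).factorial : ℕ) : k) =
      (((i + j).choose i : ℕ) : k) * ((i.factorial : ℕ) : k) * ((j.factorial : ℕ) : k) := by
    have := Nat.add_choose_mul_factorial_mul_factorial i j
    rw [← Nat.choose_symm_add] at this
    rw [← this]
    push_cast
    ring
  have hi := hfac i (by omega)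
  have hj := hfac j (by omega)
  have hd' := hfac (i + j) hd
  simp only
  rw [sub_eq_zero]
  field_simp
  rw [h1]
  ring

omit [Fact p.Prime] [CharP k p] [Module.Finite k A] in
/-- a linear map given by functionals `c i` and vectors `X i` has `f ⊗ f` given by the external
products. -/
lemma map_map_eq {B : Type*} [AddCommGroup B] [Module k B] {ι : Type*} (s : Finset ι)
    (f : A →ₗ[k] B) (c : ι → D k A) (X : ι → B)
    (hf : ∀ a, f a = ∑ i ∈ s, (c i) a • X i) (z : A ⊗[k] A) :
    TensorProduct.map f f z =
      ∑ i ∈ s, ∑ j ∈ s, box (c i).ofConv (c j).ofConv z • (X i ⊗ₜ[k] X j) := by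
  induction z using TensorProduct.induction_on with
  | zero => simp
  | add y z hy hz =>
    rw [map_add, hy, hz, ← Finset.sum_add_distrib]
    refine Finset.sum_congr rfl fun i _ => ?_
    rw [← Finset.sum_add_distrib]
    refine Finset.sum_congr rfl fun j _ => ?_
    rw [map_add, add_smul]
  | tmul a b =>
    rw [TensorProduct.map_tmul, hf a, hf b, TensorProduct.sum_tmul]
    refine Finset.sum_congr rfl fun i _ => ?_
    rw [TensorProduct.tmul_sum]
    refine Finset.sum_congr rfl fun j _ => ?_
    rw [box_tmul, TensorProduct.smul_tmul_smul]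

omit [Fact p.Prime] [CharP k p] [Module.Finite k A] in
lemma map_map_comul {B : Type*} [AddCommGroup B] [Module k B] {ι : Type*} (s : Finset ι)
    (f : A →ₗ[k] B) (c : ι → D k A) (X : ι → B)
    (hf : ∀ a, f a = ∑ i ∈ s, (c i) a • X i) (a : A) :
    TensorProduct.map f f (Coalgebra.comul (R := k) a) =
      ∑ i ∈ s, ∑ j ∈ s, (c i * c j) a • (X i ⊗ₜ[k] X j) :=
  map_map_eq s f c X hf _

/-- the algebra map `A → k[x]/(x^p)` attached to a primitive element. -/
noncomputable def alphaAlgHom {u : D k A} (hu : IsPrim u) : A →ₐ[k] AlphaP.A p k :=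
  AlgHom.ofLinearMap ((AlphaP.mk p k).toLinearMap ∘ₗ alphaPoly p u)
    (by
      change AlphaP.mk p k (alphaPoly p u 1) = 1
      rw [alphaPoly_one p hu, map_one])
    (fun a b => by
      change AlphaP.mk p k (alphaPoly p u (a * b)) =
        AlphaP.mk p k (alphaPoly p u a) * AlphaP.mk p k (alphaPoly p u b)
      rw [← map_mul]
      exact (AdjoinRoot.mk_eq_mk).2 (alphaPoly_mul p hu a b))

omit [Module.Finite k A] in
lemma alphaAlgHom_def {u : D k A} (hu : IsPrim u) (a : A) :
    alphaAlgHom p hu a = AlphaP.mk p k (alphaPoly p u a) := rfl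

/-- the coefficient functionals. -/
noncomputable def cA (u : D k A) (i : ℕ) : D k A := ((i.factorial : k)⁻¹) • u ^ i

omit [Fact p.Prime] [CharP k p] [Module.Finite k A] in
lemma cA_apply (u : D k A) (i : ℕ) (a : A) : (cA u i) a = ((i.factorial : k)⁻¹) * (u ^ i) a := rfl

omit [Module.Finite k A] in
lemma alphaAlgHom_apply {u : D k A} (hu : IsPrim u) (a : A) :
    alphaAlgHom p hu a = ∑ i ∈ Finset.range p, (cA u i) a • AlphaP.x p k ^ i := by
  rw [alphaAlgHom_def, alphaPoly_apply, map_sum]
  refine Finset.sum_congr rfl fun i _ => ?_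
  rw [← Polynomial.smul_X_eq_monomial, map_smul, map_pow, AlphaP.mk_X, cA_apply]

omit [Module.Finite k A] in
lemma counit_alphaAlgHom {u : D k A} (hu : IsPrim u) :
    (Bialgebra.counitAlgHom k (AlphaP.A p k)).comp (alphaAlgHom p hu) =
      Bialgebra.counitAlgHom k A := by
  have hp : p.Prime := Fact.out
  apply AlgHom.ext
  intro a
  rw [AlgHom.comp_apply, alphaAlgHom_apply, map_sum, Finset.sum_eq_single 0]
  · rw [pow_zero, map_smul, map_one, smul_eq_mul, mul_one, cA_apply, pow_zero]
    simp
  · intro i _ hi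
    rw [map_smul, map_pow, Bialgebra.counitAlgHom_apply, AlphaP.counit_x, zero_pow hi, smul_zero]
  · intro h
    exact absurd (Finset.mem_range.2 hp.pos) h

omit [Fact p.Prime] [CharP k p] [Module.Finite k A] in
lemma cA_mul_cA (u : D k A) (i j : ℕ) :
    cA u i * cA u j = ((i.factorial : k)⁻¹ * (j.factorial : k)⁻¹) • u ^ (i + j) := by
  unfold cA
  rw [smul_mul_smul_comm, pow_add]

omit [Module.Finite k A] in
lemma comul_alphaAlgHom {u : D k A} (hu : IsPrim u) (hup : u ^ p = 0) :
    (Algebra.TensorProduct.map (alphaAlgHom p hu) (alphaAlgHom p hu)).comp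
        (Bialgebra.comulAlgHom k A) =
      (Bialgebra.comulAlgHom k (AlphaP.A p k)).comp (alphaAlgHom p hu) := by
  have hp : p.Prime := Fact.out
  have hfac : ∀ n < p, ((n.factorial : ℕ) : k) ≠ 0 := by
    intro n hn
    rw [Ne, CharP.cast_eq_zero_iff k p, hp.dvd_factorial]
    omega
  apply AlgHom.ext
  intro a
  rw [AlgHom.comp_apply, AlgHom.comp_apply, Bialgebra.comulAlgHom_apply,
    Bialgebra.comulAlgHom_apply]
  have h1 : ∀ z : A ⊗[k] A, Algebra.TensorProduct.map (alphaAlgHom p hu) (alphaAlgHom p hu) z =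
      TensorProduct.map (alphaAlgHom p hu).toLinearMap (alphaAlgHom p hu).toLinearMap z := by
    intro z
    induction z using TensorProduct.induction_on with
    | zero => simp
    | tmul a b => rfl
    | add y z hy hz => rw [map_add, map_add, hy, hz]
  rw [h1, map_map_comul (Finset.range p) (alphaAlgHom p hu).toLinearMap (cA u)
    (fun i => AlphaP.x p k ^ i) (fun a => alphaAlgHom_apply p hu a)]
  rw [← sum_antidiagonal_eq p (fun i j => (cA u i * cA u j) a •
    ((AlphaP.x p k ^ i) ⊗ₜ[k] (AlphaP.x p k ^ j)))]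
  · rw [alphaAlgHom_apply, map_sum]
    refine Finset.sum_congr rfl fun n hn => ?_
    have hn' : n < p := Finset.mem_range.1 hn
    rw [map_smul, ← Bialgebra.comulAlgHom_apply, map_pow, Bialgebra.comulAlgHom_apply,
      AlphaP.comul_x, (Commute.all _ _).add_pow', Finset.smul_sum]
    refine Finset.sum_congr rfl fun m hm => ?_
    obtain ⟨i, j⟩ := m
    have hij : i + j = n := Finset.HasAntidiagonal.mem_antidiagonal.1 hm
    subst hij
    simp only
    rw [Algebra.TensorProduct.tmul_pow, Algebra.TensorProduct.tmul_pow, one_pow, one_pow,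
      Algebra.TensorProduct.tmul_mul_tmul, mul_one, one_mul, cA_mul_cA, cA_apply,
      ← Nat.cast_smul_eq_nsmul k, smul_smul]
    congr 1
    change ((i.factorial : k)⁻¹ * (j.factorial : k)⁻¹) * (u ^ (i + j)) a = _
    have h2 : (((i + j).factorial : ℕ) : k) =
        (((i + j).choose i : ℕ) : k) * ((i.factorial : ℕ) : k) * ((j.factorial : ℕ) : k) := by
      have := Nat.add_choose_mul_factorial_mul_factorial i j
      rw [← Nat.choose_symm_add] at this
      rw [← this]
      push_cast
      ring
    have hi := hfac i (by omega)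
    have hj := hfac j (by omega)
    have hd' := hfac (i + j) hn'
    field_simp
    rw [h2]
    ring
  · intro i j _ _ hij
    rw [cA_mul_cA]
    have : u ^ (i + j) = 0 := by
      rw [← Nat.sub_add_cancel hij, pow_add, hup, mul_zero]
    rw [this, smul_zero]
    change (0 : k) • _ = 0
    rw [zero_smul]

/-- a nonzero primitive element with `u ^ p = 0` gives a surjection onto the Hopf algebra of
`α_p`. -/
theorem alpha_case {u : D k A} (hu : IsPrim u) (h0 : u ≠ 0) (hup : u ^ p = 0) :
    ∃ f : A →ₐc[k] AlphaP.A p k, Function.Surjective f := by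
  have hp : p.Prime := Fact.out
  refine ⟨BialgHom.ofAlgHom (alphaAlgHom p hu) (counit_alphaAlgHom p hu)
    (comul_alphaAlgHom p hu hup), ?_⟩
  have hli := linearIndependent_pow_of_isPrim p hu h0 hup
  obtain ⟨ψ, hψ⟩ := exists_dual_eq (k := k) _ hli
    (fun i : Fin p => if (i : ℕ) = 1 then (1 : k) else 0)
  obtain ⟨a, ha⟩ := HopfSimple.exists_eval (k := k) (A := A) ψ
  have hua : ∀ i < p, (u ^ i) a = if i = 1 then 1 else 0 := by
    intro i hi
    have := hψ ⟨i, hi⟩
    rw [ha] at this
    exact this
  have hfa : alphaAlgHom p hu a = AlphaP.x p k := by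
    rw [alphaAlgHom_apply, Finset.sum_eq_single 1]
    · rw [cA_apply, hua 1 hp.one_lt, if_pos rfl]
      simp
    · intro i hi hi1
      rw [cA_apply, hua i (Finset.mem_range.1 hi), if_neg hi1, mul_zero, zero_smul]
    · intro h
      exact absurd (Finset.mem_range.2 hp.one_lt) h
  intro b
  obtain ⟨P, rfl⟩ := AlphaP.mk_surjective p k b
  refine ⟨aeval a P, ?_⟩
  change alphaAlgHom p hu (aeval a P) = _
  rw [← Polynomial.aeval_algHom_apply, hfa, AlphaP.aeval_x]

end Alpha

end Groth.Agent.Lib.Helper7.DualPrim
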