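import Mathlib

/-!
# `T ⊗ Hom(V, R) ≃ Hom(V, T)` for `V` finitely presented and `T` a flat algebra (helper7)
-/

set_option autoImplicit false
universe u v w
open TensorProduct

namespace Groth.Agent.Lib.Helper7.HomTensor

variable {R : Type u} [CommRing R] (V : Type v) [AddCommGroup V] [Module R V]
  (T : Type w) [CommRing T] [Algebra R T]

/-- `t ⊗ φ ↦ (v ↦ φ v • t)`. -/
noncomputable def Psi : T ⊗[R] Module.Dual R V →ₗ[R] (V →ₗ[R] T) :=
  TensorProduct.lift (LinearMap.mk₂ R (fun (t : T) (φ : Module.Dual R V) => φ.smulRight t)
    (fun t t' φ => by ext v; simp [smul_add])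
    (fun r t φ => by
      ext v
      simp only [LinearMap.smulRight_apply, LinearMap.smul_apply]
      rw [smul_comm])
    (fun t φ φ' => by ext v; simp [add_smul])
    (fun r t φ => by ext v; simp [mul_smul]))

variable {V T}

@[simp] lemma Psi_tmul (t : T) (φ : Module.Dual R V) (v : V) : Psi V T (t ⊗ₜ[R] φ) v = φ v • t := by
  simp [Psi]

variable (V T)

lemma rid_equiv_apply [Module.Flat R T] [Module.FinitePresentation R V]
    (z : T ⊗[R] Module.Dual R V) (v : V) :
    TensorProduct.AlgebraTensorModule.rid R T T
      ((Module.FinitePresentation.isBaseChange_map R V R T).equiv z ((1 : T) ⊗ₜ[R] v)) =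
      Psi V T z v := by
  induction z using TensorProduct.induction_on with
  | zero => simp
  | tmul t φ =>
    rw [IsBaseChange.equiv_tmul, Psi_tmul]
    simp [LinearMap.baseChangeHom]
  | add y z hy hz => simp only [map_add, LinearMap.add_apply, hy, hz]

theorem Psi_injective [Module.Flat R T] [Module.FinitePresentation R V] :
    Function.Injective (Psi (R := R) V T) := by
  rw [injective_iff_map_eq_zero]
  intro z hz
  apply (Module.FinitePresentation.isBaseChange_map R V R T).equiv.injective
  rw [map_zero]
  apply LinearMap.ext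
  intro y
  induction y using TensorProduct.induction_on with
  | zero => simp
  | tmul t v =>
    have h1 : t ⊗ₜ[R] v = t • ((1 : T) ⊗ₜ[R] v) := by
      rw [TensorProduct.smul_tmul', smul_eq_mul, mul_one]
    rw [h1, map_smul, LinearMap.zero_apply]
    have h2 := rid_equiv_apply V T z v
    rw [hz, LinearMap.zero_apply] at h2
    have h3 := (TensorProduct.AlgebraTensorModule.rid R T T).injective
      (h2.trans (map_zero _).symm)
    rw [h3, smul_zero]
  | add y z' hy hz' => simp only [map_add, hy, hz', LinearMap.zero_apply, add_zero]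

theorem Psi_surjective [Module.Flat R T] [Module.FinitePresentation R V] :
    Function.Surjective (Psi (R := R) V T) := by
  intro g
  let g' : T ⊗[R] V →ₗ[T] T ⊗[R] R := LinearMap.liftBaseChange T
    (((TensorProduct.AlgebraTensorModule.rid R T T).symm.toLinearMap.restrictScalars R) ∘ₗ g)
  refine ⟨(Module.FinitePresentation.isBaseChange_map R V R T).equiv.symm g', ?_⟩
  apply LinearMap.ext
  intro v
  rw [← rid_equiv_apply, LinearEquiv.apply_symm_apply]
  simp [g']

end Groth.Agent.Lib.Helper7.HomTensor
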