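import Groth.Agent.Lib.Helper7.SerreFin
import Groth.Agent.Lib.Helper7.HomTensor

/-!
# Matrix coefficients of the dual of a finitely generated subcomodule of a flat bialgebra (helper7)
-/

set_option autoImplicit false
universe u
open TensorProduct

namespace Groth.Agent.Lib.Helper7.DualCorep

open Groth.Agent.Lib.Helper7.SerreFin Groth.Agent.Lib.Helper7.HomTensor

variable {R : Type u} [CommRing R] {A : Type u} [CommRing A] [Bialgebra R A] [Module.Flat R A]
variable (V : Submodule R A) (hV : ∀ v ∈ V, Coalgebra.comul (R := R) v ∈ TT V)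

lemma rTensor_injective (N : Type u) [AddCommGroup N] [Module R N] [Module.Flat R N] :
    Function.Injective (V.subtype.rTensor N) :=
  Module.Flat.rTensor_preserves_injective_linearMap _ V.injective_subtype

/-- the restricted coaction `V → V ⊗ A`. -/
noncomputable def DeltaV : V →ₗ[R] V ⊗[R] A :=
  LinearMap.codRestrictOfInjective (Coalgebra.comul (R := R) ∘ₗ V.subtype) (V.subtype.rTensor A)
    (rTensor_injective V A) (fun v => hV v v.2)

lemma rTensor_DeltaV (v : V) :
    V.subtype.rTensor A (DeltaV V hV v) = Coalgebra.comul (R := R) (v : A) := by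
  exact LinearMap.codRestrictOfInjective_comp_apply (Coalgebra.comul (R := R) ∘ₗ V.subtype)
    (V.subtype.rTensor A) (rTensor_injective V A) (fun v => hV v v.2) v

/-- coefficient functions `φ ↦ (v ↦ (φ ⊗ id)(Δ v))`. -/
noncomputable def cc : Module.Dual R V →ₗ[R] (V →ₗ[R] A) where
  toFun φ := (TensorProduct.lid R A).toLinearMap ∘ₗ φ.rTensor A ∘ₗ DeltaV V hV
  map_add' φ ψ := by
    ext v
    simp [LinearMap.rTensor_add]
  map_smul' r φ := by
    ext v
    simp [LinearMap.rTensor_smul]

lemma cc_apply (φ : Module.Dual R V) (v : V) :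
    cc V hV φ v = TensorProduct.lid R A (φ.rTensor A (DeltaV V hV v)) := rfl

lemma subtype_rid_lTensor (y : V ⊗[R] A) :
    (V.subtype (TensorProduct.rid R V (LinearMap.lTensor V (Coalgebra.counit (R := R)) y))) =
      TensorProduct.rid R A (LinearMap.lTensor A (Coalgebra.counit (R := R))
        (V.subtype.rTensor A y)) := by
  induction y using TensorProduct.induction_on with
  | zero => simp
  | tmul v b => simp
  | add y z hy hz => simp only [map_add, hy, hz]

lemma counit_lid_rTensor (φ : Module.Dual R V) (y : V ⊗[R] A) :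
    Coalgebra.counit (R := R) (TensorProduct.lid R A (φ.rTensor A y)) =
      φ (TensorProduct.rid R V (LinearMap.lTensor V (Coalgebra.counit (R := R)) y)) := by
  induction y using TensorProduct.induction_on with
  | zero => simp
  | tmul v b => simp [mul_comm]
  | add y z hy hz => simp only [map_add, hy, hz]

lemma counit_cc (φ : Module.Dual R V) (v : V) :
    Coalgebra.counit (R := R) (cc V hV φ v) = φ v := by
  rw [cc_apply, counit_lid_rTensor]
  congr 1
  apply Subtype.ext
  have := subtype_rid_lTensor V (DeltaV V hV v)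
  rw [rTensor_DeltaV, Coalgebra.lTensor_counit_comul, TensorProduct.rid_tmul, one_smul] at this
  exact this

lemma cc_counit (v : V) :
    cc V hV (Coalgebra.counit (R := R) ∘ₗ V.subtype) v = (v : A) := by
  rw [cc_apply, LinearMap.rTensor_comp, LinearMap.comp_apply, rTensor_DeltaV,
    Coalgebra.rTensor_counit_comul, TensorProduct.lid_tmul, one_smul]

lemma comul_lid_rTensor (φ : Module.Dual R V) (y : V ⊗[R] A) :
    Coalgebra.comul (R := R) (TensorProduct.lid R A (φ.rTensor A y)) =
      TensorProduct.lid R (A ⊗[R] A) (φ.rTensor (A ⊗[R] A)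
        (LinearMap.lTensor V (Coalgebra.comul (R := R)) y)) := by
  induction y using TensorProduct.induction_on with
  | zero => simp
  | tmul v b => simp
  | add y z hy hz => simp only [map_add, hy, hz]

lemma DeltaV_coassoc (v : V) :
    LinearMap.lTensor V (Coalgebra.comul (R := R)) (DeltaV V hV v) =
      TensorProduct.assoc R V A A ((DeltaV V hV).rTensor A (DeltaV V hV v)) := by
  apply rTensor_injective V (A ⊗[R] A)
  have e1 : ∀ y : V ⊗[R] A, V.subtype.rTensor (A ⊗[R] A)
      (LinearMap.lTensor V (Coalgebra.comul (R := R)) y) =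
      LinearMap.lTensor A (Coalgebra.comul (R := R)) (V.subtype.rTensor A y) := by
    intro y
    induction y using TensorProduct.induction_on with
    | zero => simp
    | tmul v b => simp
    | add y z hy hz => simp only [map_add, hy, hz]
  have e2 : ∀ w : (V ⊗[R] A) ⊗[R] A, V.subtype.rTensor (A ⊗[R] A)
      (TensorProduct.assoc R V A A w) =
      TensorProduct.assoc R A A A ((V.subtype.rTensor A).rTensor A w) := by
    intro w
    induction w using TensorProduct.induction_on with
    | zero => simp
    | tmul y b =>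
      induction y using TensorProduct.induction_on with
      | zero => simp
      | tmul v' b' => simp
      | add y z hy hz => simp only [TensorProduct.add_tmul, map_add, hy, hz]
    | add y z hy hz => simp only [map_add, hy, hz]
  have e4 : ∀ y : V ⊗[R] A, (V.subtype.rTensor A).rTensor A ((DeltaV V hV).rTensor A y) =
      (Coalgebra.comul (R := R)).rTensor A (V.subtype.rTensor A y) := by
    intro y
    induction y using TensorProduct.induction_on with
    | zero => simp
    | tmul v' b =>
      simp only [LinearMap.rTensor_tmul, rTensor_DeltaV]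
      rfl
    | add y z hy hz => simp only [map_add, hy, hz]
  rw [e1, e2, e4, rTensor_DeltaV, Coalgebra.coassoc_apply]

lemma lid_rTensor_assoc (φ : Module.Dual R V) (g : V →ₗ[R] V ⊗[R] A) (y : V ⊗[R] A) :
    TensorProduct.lid R (A ⊗[R] A) (φ.rTensor (A ⊗[R] A)
      (TensorProduct.assoc R V A A (g.rTensor A y))) =
      ((TensorProduct.lid R A).toLinearMap ∘ₗ φ.rTensor A ∘ₗ g).rTensor A y := by
  induction y using TensorProduct.induction_on with
  | zero => simp
  | tmul v b =>
    rw [LinearMap.rTensor_tmul, LinearMap.rTensor_tmul]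
    simp only [LinearMap.comp_apply, LinearEquiv.coe_coe]
    generalize g v = w
    induction w using TensorProduct.induction_on with
    | zero => simp
    | tmul v' b' => simp [TensorProduct.smul_tmul']
    | add y z hy hz => simp only [TensorProduct.add_tmul, map_add, hy, hz]
  | add y z hy hz => simp only [map_add, hy, hz]

lemma comul_cc (φ : Module.Dual R V) (v : V) :
    Coalgebra.comul (R := R) (cc V hV φ v) = (cc V hV φ).rTensor A (DeltaV V hV v) := by
  rw [cc_apply, comul_lid_rTensor, DeltaV_coassoc, lid_rTensor_assoc]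
  rfl

section Coord

variable {n : ℕ} (e : Fin n → Module.Dual R V) (e' : Fin n → Module.Dual R (Module.Dual R V))

/-- coordinate projections `T ⊗ E → T`. -/
noncomputable def pr (T : Type u) [AddCommGroup T] [Module R T] (i : Fin n) :
    T ⊗[R] Module.Dual R V →ₗ[R] T :=
  (TensorProduct.rid R T).toLinearMap ∘ₗ LinearMap.lTensor T (e' i)

lemma pr_tmul (T : Type u) [AddCommGroup T] [Module R T] (i : Fin n) (t : T)
    (φ : Module.Dual R V) : pr V e' T i (t ⊗ₜ[R] φ) = e' i φ • t := by
  simp [pr]

variable (hcoord : ∀ φ : Module.Dual R V, ∑ l, e' l φ • e l = φ)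

include hcoord in
lemma eq_sum_pr (T : Type u) [AddCommGroup T] [Module R T] (z : T ⊗[R] Module.Dual R V) :
    z = ∑ i, pr V e' T i z ⊗ₜ[R] e i := by
  induction z using TensorProduct.induction_on with
  | zero => simp
  | tmul t φ =>
    simp only [pr_tmul]
    conv_lhs => rw [← hcoord φ, TensorProduct.tmul_sum]
    refine Finset.sum_congr rfl (fun i _ => ?_)
    rw [TensorProduct.smul_tmul]
  | add y z hy hz =>
    simp only [map_add, TensorProduct.add_tmul, Finset.sum_add_distrib]
    rw [← hy, ← hz]

variable [Module.FinitePresentation R V]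

/-- the preimage of the coefficient functions under `Psi`. -/
noncomputable def ZZ : Module.Dual R V →ₗ[R] A ⊗[R] Module.Dual R V :=
  (LinearEquiv.ofBijective (Psi (R := R) V A)
    ⟨Psi_injective V A, Psi_surjective V A⟩).symm.toLinearMap ∘ₗ cc V hV

lemma Psi_ZZ (φ : Module.Dual R V) : Psi V A (ZZ V hV φ) = cc V hV φ := by
  unfold ZZ
  rw [LinearMap.comp_apply]
  exact (LinearEquiv.ofBijective (Psi (R := R) V A)
    ⟨Psi_injective V A, Psi_surjective V A⟩).apply_symm_apply _

/-- the matrix coefficients. -/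
noncomputable def mm (i : Fin n) : Module.Dual R V →ₗ[R] A := pr V e' A i ∘ₗ ZZ V hV

include hcoord in
lemma ZZ_eq (φ : Module.Dual R V) : ZZ V hV φ = ∑ i, mm V hV e' i φ ⊗ₜ[R] e i :=
  eq_sum_pr V e e' hcoord A (ZZ V hV φ)

include hcoord in
lemma cc_eq (φ : Module.Dual R V) (v : V) :
    cc V hV φ v = ∑ i, e i v • mm V hV e' i φ := by
  rw [← Psi_ZZ, ZZ_eq V hV e e' hcoord φ, map_sum, LinearMap.sum_apply]
  refine Finset.sum_congr rfl (fun i _ => ?_)
  rw [Psi_tmul]

include hcoord in
lemma sum_smul_mm (k : Fin n) (φ : Module.Dual R V) :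
    ∑ i, e' k (e i) • mm V hV e' i φ = mm V hV e' k φ := by
  conv_rhs => rw [mm, LinearMap.comp_apply, ZZ_eq V hV e e' hcoord φ, map_sum]
  refine Finset.sum_congr rfl (fun i _ => ?_)
  rw [pr_tmul]

include hcoord in
lemma mm_eq_sum (k : Fin n) (φ : Module.Dual R V) :
    mm V hV e' k φ = ∑ l, e' l φ • mm V hV e' k (e l) := by
  conv_lhs => rw [← hcoord φ, map_sum]
  refine Finset.sum_congr rfl (fun l _ => ?_)
  rw [map_smul]

include hcoord in
lemma counit_mm (k : Fin n) (φ : Module.Dual R V) :
    Coalgebra.counit (R := R) (mm V hV e' k φ) = e' k φ := by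
  have h1 : φ = ∑ i, Coalgebra.counit (R := R) (mm V hV e' i φ) • e i := by
    apply LinearMap.ext
    intro v
    rw [← counit_cc V hV φ v, cc_eq V hV e e' hcoord φ v, map_sum, LinearMap.sum_apply]
    refine Finset.sum_congr rfl (fun i _ => ?_)
    rw [map_smul, LinearMap.smul_apply, smul_eq_mul, smul_eq_mul, mul_comm]
  conv_rhs => rw [h1, map_sum]
  rw [← sum_smul_mm V hV e e' hcoord k φ, map_sum]
  refine Finset.sum_congr rfl (fun i _ => ?_)
  rw [map_smul, map_smul, smul_eq_mul, smul_eq_mul, mul_comm]

include hcoord in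
lemma rTensor_cc (φ : Module.Dual R V) (y : V ⊗[R] A) :
    (cc V hV φ).rTensor A y =
      ∑ l, mm V hV e' l φ ⊗ₜ[R] TensorProduct.lid R A ((e l).rTensor A y) := by
  induction y using TensorProduct.induction_on with
  | zero => simp
  | tmul v b =>
    rw [LinearMap.rTensor_tmul, cc_eq V hV e e' hcoord φ v, TensorProduct.sum_tmul]
    refine Finset.sum_congr rfl (fun l _ => ?_)
    rw [LinearMap.rTensor_tmul, TensorProduct.lid_tmul, TensorProduct.smul_tmul]
  | add y z hy hz =>
    simp only [map_add, TensorProduct.tmul_add, Finset.sum_add_distrib, hy, hz]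

include hcoord in
lemma comul_mm (k : Fin n) (φ : Module.Dual R V) :
    Coalgebra.comul (R := R) (mm V hV e' k φ) =
      ∑ l, mm V hV e' l φ ⊗ₜ[R] mm V hV e' k (e l) := by
  set X : (A ⊗[R] A) ⊗[R] Module.Dual R V :=
    ∑ i, Coalgebra.comul (R := R) (mm V hV e' i φ) ⊗ₜ[R] e i with hX
  set Y : (A ⊗[R] A) ⊗[R] Module.Dual R V :=
    ∑ i, (∑ l, mm V hV e' l φ ⊗ₜ[R] mm V hV e' i (e l)) ⊗ₜ[R] e i with hY
  have hXY : X = Y := by
    apply Psi_injective V (A ⊗[R] A)
    apply LinearMap.ext
    intro v
    have hx : Psi V (A ⊗[R] A) X v = Coalgebra.comul (R := R) (cc V hV φ v) := by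
      rw [hX, map_sum, LinearMap.sum_apply, cc_eq V hV e e' hcoord φ v, map_sum]
      refine Finset.sum_congr rfl (fun i _ => ?_)
      rw [Psi_tmul, map_smul]
    have hy : Psi V (A ⊗[R] A) Y v = Coalgebra.comul (R := R) (cc V hV φ v) := by
      rw [comul_cc, rTensor_cc V hV e e' hcoord φ, hY, map_sum, LinearMap.sum_apply]
      simp only [Psi_tmul, Finset.smul_sum]
      rw [Finset.sum_comm]
      refine Finset.sum_congr rfl (fun l _ => ?_)
      have : TensorProduct.lid R A ((e l).rTensor A (DeltaV V hV v)) = cc V hV (e l) v := rfl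
      rw [this, cc_eq V hV e e' hcoord (e l) v, TensorProduct.tmul_sum]
      refine Finset.sum_congr rfl (fun i _ => ?_)
      rw [TensorProduct.tmul_smul]
    rw [hx, hy]
  have h1 := congrArg (pr V e' (A ⊗[R] A) k) hXY
  rw [hX, hY, map_sum, map_sum] at h1
  simp only [pr_tmul] at h1
  rw [← sum_smul_mm V hV e e' hcoord k φ, map_sum]
  simp only [map_smul]
  rw [h1]
  simp only [Finset.smul_sum]
  rw [Finset.sum_comm]
  refine Finset.sum_congr rfl (fun l _ => ?_)
  rw [← sum_smul_mm V hV e e' hcoord k (e l), TensorProduct.tmul_sum]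
  refine Finset.sum_congr rfl (fun i _ => ?_)
  rw [TensorProduct.tmul_smul]

include hcoord hV in
/-- the main output: an idempotent-twisted multiplicative matrix whose entries span `V`. -/
theorem exists_matrix :
    ∃ (M : Matrix (Fin n) (Fin n) A) (p : Matrix (Fin n) (Fin n) R),
      (∀ k j, Coalgebra.comul (R := R) (M k j) = ∑ l, M l j ⊗ₜ[R] M k l) ∧
      (∀ k j, Coalgebra.counit (R := R) (M k j) = p k j) ∧
      (∀ k j, ∑ i, p k i • M i j = M k j) ∧
      (∀ k j, ∑ l, p l j • M k l = M k j) ∧
      ∀ v ∈ V, v ∈ Submodule.span R (Set.range (fun q : Fin n × Fin n => M q.1 q.2)) := by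
  refine ⟨fun k j => mm V hV e' k (e j), fun k j => e' k (e j), ?_, ?_, ?_, ?_, ?_⟩
  · intro k j
    exact comul_mm V hV e e' hcoord k (e j)
  · intro k j
    exact counit_mm V hV e e' hcoord k (e j)
  · intro k j
    exact sum_smul_mm V hV e e' hcoord k (e j)
  · intro k j
    exact (mm_eq_sum V hV e e' hcoord k (e j)).symm
  · intro v hv
    have h1 := cc_counit V hV ⟨v, hv⟩
    rw [cc_eq V hV e e' hcoord] at h1
    change _ = v at h1
    rw [← h1]
    refine Submodule.sum_mem _ (fun i _ => Submodule.smul_mem _ _ ?_)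
    rw [mm_eq_sum V hV e e' hcoord i]
    refine Submodule.sum_mem _ (fun l _ => Submodule.smul_mem _ _ ?_)
    exact Submodule.subset_span ⟨(i, l), rfl⟩

end Coord

end Groth.Agent.Lib.Helper7.DualCorep
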