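import Groth.Prelude.Def_CartDual
import Mathlib.RingTheory.Derivation.Lie
import Mathlib.LinearAlgebra.Dual.Lemmas
import Mathlib.Algebra.CharP.Algebra
import Mathlib.Algebra.Algebra.Subalgebra.Lattice

/-!
# Right translations on the dual Hopf algebra (helper7)

For a finite-dimensional Hopf algebra `H` over a field, `A = H^*` its dual: the operators
`(R_v f)(w) = f (w v)` on `A`, which are derivations for primitive `v`, are exactly the
left-invariant operators; infinitesimal nilpotence `f^p = 0` when `H` is generated by primitives.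
-/

universe u v

open TensorProduct CartDual

namespace Groth.Agent.Lib.Helper7.DualDer

section Basic

variable {k : Type u} [Field k] {H : Type v} [Ring H] [HopfAlgebra k H] [Module.Finite k H]

/-- right translation by `v` on the dual. -/
noncomputable def Rt (v : H) : D k H →ₗ[k] D k H :=
  (toDual k H).symm.toLinearMap ∘ₗ (LinearMap.mulRight k v).dualMap ∘ₗ (toDual k H).toLinearMap

omit [Module.Finite k H] in
lemma Rt_apply (v : H) (f : D k H) (w : H) : Rt v f w = f (w * v) := rfl

omit [Module.Finite k H] in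
lemma Rt_one : Rt (1 : H) = (LinearMap.id : D k H →ₗ[k] D k H) := by
  ext f w
  show Rt 1 f w = f w
  rw [Rt_apply, mul_one]

omit [Module.Finite k H] in
lemma Rt_mul (v v' : H) : Rt (v * v') = (Rt v ∘ₗ Rt v' : D k H →ₗ[k] D k H) := by
  ext f w
  show Rt (v * v') f w = Rt v (Rt v' f) w
  rw [Rt_apply, Rt_apply, Rt_apply, mul_assoc]

omit [Module.Finite k H] in
lemma Rt_add (v v' : H) : Rt (v + v') = (Rt v + Rt v' : D k H →ₗ[k] D k H) := by
  ext f w
  show Rt (v + v') f w = Rt v f w + Rt v' f w
  rw [Rt_apply, Rt_apply, Rt_apply, mul_add]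
  exact map_add f.ofConv _ _

omit [Module.Finite k H] in
lemma Rt_smul (c : k) (v : H) : Rt (c • v) = (c • Rt v : D k H →ₗ[k] D k H) := by
  ext f w
  show Rt (c • v) f w = c • Rt v f w
  rw [Rt_apply, Rt_apply, mul_smul_comm]
  exact map_smul f.ofConv _ _

/-- right translation as an algebra map. -/
noncomputable def RtAlg : H →ₐ[k] Module.End k (D k H) :=
  AlgHom.ofLinearMap
    { toFun := Rt
      map_add' := Rt_add
      map_smul' := Rt_smul } Rt_one (fun v v' => Rt_mul v v')

omit [Module.Finite k H] in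
lemma RtAlg_apply (v : H) : RtAlg (k := k) v = Rt v := rfl

omit [Module.Finite k H] in
lemma mul_apply_mul_tmul (f g : D k H) (a c : H) (t : H ⊗[k] H) :
    LinearMap.mul' k k (TensorProduct.map f.ofConv g.ofConv (t * (a ⊗ₜ[k] c))) =
      LinearMap.mul' k k (TensorProduct.map (Rt a f).ofConv (Rt c g).ofConv t) := by
  induction t using TensorProduct.induction_on with
  | zero => simp
  | tmul w w' =>
    rw [Algebra.TensorProduct.tmul_mul_tmul, TensorProduct.map_tmul, TensorProduct.map_tmul]
    rfl
  | add t t' h h' => rw [add_mul, map_add, map_add, h, h', map_add, map_add]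

omit [Module.Finite k H] in
/-- Leibniz rule for right translation by a primitive element. -/
theorem Rt_leibniz {x : H} (hx : Coalgebra.comul (R := k) x = x ⊗ₜ[k] 1 + 1 ⊗ₜ[k] x)
    (f g : D k H) : Rt x (f * g) = Rt x f * g + f * Rt x g := by
  apply WithConv.ext
  apply LinearMap.ext
  intro w
  show (f * g) (w * x) = (Rt x f * g) w + (f * Rt x g) w
  rw [LinearMap.convMul_apply, LinearMap.convMul_apply, LinearMap.convMul_apply,
    Bialgebra.comul_mul, hx, mul_add, map_add, map_add, mul_apply_mul_tmul, mul_apply_mul_tmul,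
    Rt_one]
  rfl

lemma ev₂_lTensor_Rt (v : H) (y : D k H ⊗[k] D k H) (a c : H) :
    ev₂ k H ((Rt v).lTensor (D k H) y) (a ⊗ₜ c) = ev₂ k H y (a ⊗ₜ (c * v)) := by
  induction y using TensorProduct.induction_on with
  | zero => simp
  | tmul g h => rw [LinearMap.lTensor_tmul, ev₂_tmul, ev₂_tmul, Rt_apply]
  | add y y' hy hy' => simp only [map_add, LinearMap.add_apply, hy, hy']

/-- right translations are left-invariant. -/
theorem comul_Rt (v : H) :
    CoalgebraStruct.comul (R := k) (A := D k H) ∘ₗ Rt v =
      (Rt v).lTensor (D k H) ∘ₗ CoalgebraStruct.comul (R := k) (A := D k H) := by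
  apply LinearMap.ext
  intro f
  apply (ev₂ k H).injective
  apply TensorProduct.ext'
  intro a c
  rw [LinearMap.comp_apply, LinearMap.comp_apply, ev₂_coalgebra_comul_tmul, ev₂_lTensor_Rt,
    ev₂_coalgebra_comul_tmul, Rt_apply, mul_assoc]

/-- left-invariant operators are right translations. -/
theorem exists_eq_Rt (T : D k H →ₗ[k] D k H)
    (hT : CoalgebraStruct.comul (R := k) (A := D k H) ∘ₗ T =
      T.lTensor (D k H) ∘ₗ CoalgebraStruct.comul (R := k) (A := D k H)) :
    ∃ v : H, T = Rt v := by
  let ψ : Module.Dual k (Module.Dual k H) :=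
    LinearMap.applyₗ (1 : H) ∘ₗ (toDual k H).toLinearMap ∘ₗ T ∘ₗ (toDual k H).symm.toLinearMap
  let v : H := (Module.evalEquiv k H).symm ψ
  have hv : ∀ f : D k H, f v = T f 1 := by
    intro f
    have h := Module.apply_evalEquiv_symm_apply (R := k) (M := H) (toDual k H f) ψ
    exact h
  have hl : ∀ (y : D k H ⊗[k] D k H) (w : H),
      ev₂ k H (T.lTensor (D k H) y) (w ⊗ₜ 1) = ev₂ k H y (w ⊗ₜ v) := by
    intro y w
    induction y using TensorProduct.induction_on with
    | zero => simp
    | tmul g h => rw [LinearMap.lTensor_tmul, ev₂_tmul, ev₂_tmul, hv]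
    | add y y' hy hy' => simp only [map_add, LinearMap.add_apply, hy, hy']
  refine ⟨v, ?_⟩
  apply LinearMap.ext
  intro f
  apply WithConv.ext
  apply LinearMap.ext
  intro w
  show T f w = Rt v f w
  have h1 : T f w = ev₂ k H (CoalgebraStruct.comul (R := k) (T f)) (w ⊗ₜ 1) := by
    rw [ev₂_coalgebra_comul_tmul, mul_one]
  have h2 := LinearMap.congr_fun hT f
  rw [LinearMap.comp_apply, LinearMap.comp_apply] at h2
  rw [h1, h2, hl, ev₂_coalgebra_comul_tmul, Rt_apply]

omit [Module.Finite k H] in
lemma mul_apply_one (f g : D k H) : (f * g) (1 : H) = f 1 * g 1 := by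
  rw [LinearMap.convMul_apply, Bialgebra.comul_one, Algebra.TensorProduct.one_def,
    TensorProduct.map_tmul]
  rfl

/-- if right translation by `v` satisfies the Leibniz rule then `v` is primitive. -/
theorem prim_of_leibniz (v : H)
    (h : ∀ f g : D k H, Rt v (f * g) = Rt v f * g + f * Rt v g) :
    Coalgebra.comul (R := k) v = v ⊗ₜ[k] 1 + 1 ⊗ₜ[k] v := by
  rw [← sub_eq_zero]
  rw [← Module.forall_dual_apply_eq_zero_iff k]
  intro ψ
  obtain ⟨y, rfl⟩ := (ev₂ k H).surjective ψ
  induction y using TensorProduct.induction_on with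
  | zero => simp
  | tmul f g =>
    have h1 := congrArg (fun F : D k H => F 1) (h f g)
    have h2 : (Rt v f * g + f * Rt v g) (1 : H) = (Rt v f * g) 1 + (f * Rt v g) 1 := rfl
    rw [h2, Rt_apply, one_mul, mul_apply_one, mul_apply_one, Rt_apply, Rt_apply, one_mul,
      LinearMap.convMul_apply] at h1
    rw [ev₂_tmul_eq', map_sub, map_add, LinearMap.comp_apply, LinearMap.comp_apply,
      LinearMap.comp_apply, h1, TensorProduct.map_tmul, TensorProduct.map_tmul]
    show f v * g 1 + f 1 * g v - (f v * g 1 + f 1 * g v) = 0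
    exact sub_self _
  | add y y' hy hy' => rw [map_add, LinearMap.add_apply, hy, hy', add_zero]

end Basic

end Groth.Agent.Lib.Helper7.DualDer
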