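import Groth.Agent.Lib.Helper7.DualDer

/-!
# Right translations as derivations of the (commutative) dual Hopf algebra; height one (helper7)
-/

universe u v

open TensorProduct CartDual

namespace Groth.Agent.Lib.Helper7.DualDer

section Comm

variable {k : Type u} [Field k] {H : Type v} [Ring H] [HopfAlgebra k H] [Module.Finite k H]
  [Coalgebra.IsCocomm k H]

/-- right translation by a primitive element, as a derivation of the dual algebra. -/
noncomputable def derOf (x : H) (hx : Coalgebra.comul (R := k) x = x ⊗ₜ[k] 1 + 1 ⊗ₜ[k] x) :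
    Derivation k (D k H) (D k H) :=
  Derivation.mk' (Rt x) (by
    intro f g
    rw [Rt_leibniz hx, smul_eq_mul, smul_eq_mul, mul_comm g, add_comm])

omit [Module.Finite k H] in
lemma derOf_toLinearMap (x : H) (hx : Coalgebra.comul (R := k) x = x ⊗ₜ[k] 1 + 1 ⊗ₜ[k] x) :
    (derOf x hx).toLinearMap = Rt x := rfl

omit [Module.Finite k H] in
lemma derOf_apply (x : H) (hx : Coalgebra.comul (R := k) x = x ⊗ₜ[k] 1 + 1 ⊗ₜ[k] x)
    (f : D k H) : derOf x hx f = Rt x f := rfl

omit [Module.Finite k H] in
/-- If `H` is generated by primitive elements and `k` has characteristic `p`, every element of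
the augmentation ideal of the dual has vanishing `p`-th power. -/
theorem pow_eq_zero_of_apply_one (p : ℕ) [hpf : Fact p.Prime] [CharP k p] (G : Set H)
    (hG : Algebra.adjoin k G = ⊤)
    (hprim : ∀ x ∈ G, Coalgebra.comul (R := k) x = x ⊗ₜ[k] 1 + 1 ⊗ₜ[k] x)
    (f : D k H) (hf : f (1 : H) = 0) : f ^ p = 0 := by
  have hpA : ((p : ℕ) : D k H) = 0 := by
    have : ((p : ℕ) : D k H) = algebraMap k (D k H) (p : k) := by rw [map_natCast]
    rw [this, CharP.cast_eq_zero k p, map_zero]
  have h1 : ∀ x ∈ G, ∀ w : H, (f ^ p) (w * x) = 0 := by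
    intro x hx w
    have h2 := (derOf x (hprim x hx)).leibniz_pow (a := f) p
    have h3 : derOf x (hprim x hx) (f ^ p) = 0 := by
      rw [h2, ← Nat.cast_smul_eq_nsmul (D k H), hpA, zero_smul]
    rw [derOf_apply] at h3
    have h4 := congrArg (fun F : D k H => F w) h3
    exact h4
  have h0 : (f ^ p) (1 : H) = 0 := by
    have h5 : ∀ n : ℕ, (f ^ n) (1 : H) = (f 1) ^ n := by
      intro n
      induction n with
      | zero =>
        rw [pow_zero, pow_zero]
        have h6 : (1 : D k H) (1 : H) = algebraMap k k (Coalgebra.counit (R := k) (1 : H)) := rfl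
        rw [h6, Bialgebra.counit_one (R := k) (A := H)]
        simp
      | succ n ih => rw [pow_succ, mul_apply_one, ih, pow_succ]
    rw [h5, hf, zero_pow hpf.out.ne_zero]
  apply WithConv.ext
  apply LinearMap.ext
  intro w
  show (f ^ p) w = 0
  have hw : w ∈ Subalgebra.toSubmodule (Algebra.adjoin k G) := by
    rw [hG]; exact Algebra.mem_top (R := k)
  rw [Algebra.adjoin_eq_span] at hw
  induction hw using Submodule.span_induction with
  | mem m hm =>
    induction hm using Submonoid.closure_induction_right with
    | one => exact h0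
    | mul_right y _ x hx _ => exact h1 x hx y
  | zero => exact map_zero (f ^ p).ofConv
  | add a c _ _ ha hc =>
    have := map_add (f ^ p).ofConv a c
    show (f ^ p).ofConv (a + c) = 0
    rw [this]
    show (f ^ p) a + (f ^ p) c = 0
    rw [ha, hc, add_zero]
  | smul c a _ ha =>
    have := map_smul (f ^ p).ofConv c a
    show (f ^ p).ofConv (c • a) = 0
    rw [this]
    show c • (f ^ p) a = 0
    rw [ha, smul_zero]

end Comm

end Groth.Agent.Lib.Helper7.DualDer
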