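import Mathlib
import Groth.Agent.Lib.Helper7.DualAlpha

/-!
# A primitive element with `u ^ p = u` of the dual gives a quotient `μ_p` (helper7)
-/

universe u v

open TensorProduct WithConv Polynomial

namespace Groth.Agent.Lib.Helper7.DualPrim

section Poly

variable (k : Type u) [Field k] (p : ℕ) [Fact p.Prime] [CharP k p]

/-- the embedding of the prime field. -/
noncomputable def nu : ZMod p →+* k := ZMod.castHom (dvd_refl p) k

lemma nu_injective : Function.Injective (nu k p) := (nu k p).injective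

lemma nu_pow (n : ZMod p) : nu k p n ^ p = nu k p n := by
  rw [← map_pow, ZMod.pow_card]

/-- the Lagrange idempotent polynomials for the prime field. -/
noncomputable def P (n : ZMod p) : k[X] := 1 - (X - C (nu k p n)) ^ (p - 1)

lemma eval_P (m n : ZMod p) : (P k p n).eval (nu k p m) = if m = n then 1 else 0 := by
  have hp : p.Prime := Fact.out
  unfold P
  rw [eval_sub, eval_one, eval_pow, eval_sub, eval_X, eval_C, ← map_sub, ← map_pow]
  split_ifs with h
  · rw [h, sub_self, zero_pow (by have := hp.two_le; omega), map_zero, sub_zero]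
  · rw [ZMod.pow_card_sub_one_eq_one (sub_ne_zero.2 h), map_one, sub_self]

lemma X_sub_C_mul_P (n : ZMod p) : (X - C (nu k p n)) * P k p n = X - X ^ p := by
  have hp : p.Prime := Fact.out
  unfold P
  rw [mul_sub, mul_one, ← pow_succ', Nat.sub_add_cancel hp.one_le, sub_pow_char, ← C_pow, nu_pow]
  ring

lemma natDegree_P_le (n : ZMod p) : (P k p n).natDegree ≤ p - 1 := by
  unfold P
  refine (natDegree_sub_le _ _).trans ?_
  rw [natDegree_one, max_eq_right (Nat.zero_le _)]
  refine (natDegree_pow_le).trans ?_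
  rw [natDegree_X_sub_C, mul_one]

lemma sum_P : ∑ n : ZMod p, P k p n = 1 := by
  have hp : p.Prime := Fact.out
  rw [← sub_eq_zero]
  apply Polynomial.eq_zero_of_natDegree_lt_card_of_eval_eq_zero _ (nu_injective k p)
  · intro m
    rw [eval_sub, eval_finsetSum, eval_one]
    simp only [eval_P]
    rw [Finset.sum_ite_eq Finset.univ m]
    simp
  · rw [ZMod.card]
    refine lt_of_le_of_lt (natDegree_sub_le _ _) ?_
    rw [natDegree_one, max_eq_left (Nat.zero_le _)]
    refine lt_of_le_of_lt (natDegree_sum_le _ _) ?_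
    have h1 : (Finset.univ.fold max 0 (natDegree ∘ P k p)) ≤ p - 1 := by
      rw [Finset.fold_max_le]
      exact ⟨Nat.zero_le _, fun n _ => natDegree_P_le k p n⟩
    have := hp.two_le
    omega

end Poly

section Calc

variable {k : Type u} [Field k]

/-- functional calculus on an eigenvector. -/
lemma aeval_mul_of_eigen {R : Type*} [Ring R] [Algebra k R] (w z : R) (c : k)
    (h : w * z = c • z) (Q : k[X]) : aeval w Q * z = Q.eval c • z := by
  have hpow : ∀ n : ℕ, w ^ n * z = c ^ n • z := by
    intro n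
    induction n with
    | zero => simp
    | succ n ih =>
      rw [pow_succ, mul_assoc, h, mul_smul_comm, ih, smul_smul, pow_succ, mul_comm]
  induction Q using Polynomial.induction_on' with
  | add P Q hP hQ => rw [map_add, add_mul, hP, hQ, eval_add, add_smul]
  | monomial n a =>
    rw [aeval_monomial, eval_monomial, mul_assoc, hpow, ← Algebra.smul_def, smul_smul]

end Calc

section Mu

variable {k : Type u} [Field k] (p : ℕ) [Fact p.Prime] [CharP k p]
  {A : Type v} [CommRing A] [HopfAlgebra k A]

/-- the idempotents of `k[u]` for `u ^ p = u`. -/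
noncomputable def e (u : D k A) (n : ZMod p) : D k A := aeval u (P k p n)

lemma u_mul_e {u : D k A} (hup : u ^ p = u) (n : ZMod p) : u * e p u n = nu k p n • e p u n := by
  have h := congrArg (aeval u) (X_sub_C_mul_P k p n)
  rw [map_mul, map_sub, map_sub, aeval_X, aeval_C, map_pow, aeval_X, hup, sub_self] at h
  change (u - algebraMap k (D k A) (nu k p n)) * e p u n = 0 at h
  rw [sub_mul, sub_eq_zero, ← Algebra.smul_def] at h
  exact h

lemma e_mul_e {u : D k A} (hup : u ^ p = u) (m n : ZMod p) :
    e p u m * e p u n = if n = m then e p u n else 0 := by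
  have := aeval_mul_of_eigen u (e p u n) (nu k p n) (u_mul_e p hup n) (P k p m)
  rw [eval_P] at this
  change e p u m * e p u n = _ at this
  rw [this]
  split_ifs <;> simp

lemma sum_e (u : D k A) : ∑ n : ZMod p, e p u n = 1 := by
  unfold e
  rw [← map_sum, sum_P, map_one]

omit [Fact p.Prime] [CharP k p] in
lemma sum_apply₂ {ι : Type*} (s : Finset ι) (F : ι → D₂ k A) (z : A ⊗[k] A) :
    (∑ m ∈ s, F m) z = ∑ m ∈ s, F m z :=
  map_sum ((LinearMap.applyₗ z : ((A ⊗[k] A) →ₗ[k] k) →ₗ[k] k).comp
    (WithConv.linearEquiv k _).toLinearMap) F s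

omit [Fact p.Prime] [CharP k p] in
lemma sum_apply₁ {ι : Type*} (s : Finset ι) (F : ι → D k A) (z : A) :
    (∑ m ∈ s, F m) z = ∑ m ∈ s, F m z :=
  map_sum ((LinearMap.applyₗ z : (A →ₗ[k] k) →ₗ[k] k).comp
    (WithConv.linearEquiv k _).toLinearMap) F s

/-- the idempotents `e_i ⊗ e_j`. -/
noncomputable def E (u : D k A) (i j : ZMod p) : D₂ k A :=
  i1 k A (e p u i) * i2 k A (e p u j)

lemma E_apply (u : D k A) (i j : ZMod p) (a b : A) :
    E p u i j (a ⊗ₜ[k] b) = (e p u i) a * (e p u j) b :=
  i1_mul_i2_apply _ _ a b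

lemma Mu_mul_E {u : D k A} (hu : IsPrim u) (hup : u ^ p = u) (i j : ZMod p) :
    M k A u * E p u i j = nu k p (i + j) • E p u i j := by
  have hu' : M k A u = i1 k A u + i2 k A u := hu
  rw [hu', add_mul]
  unfold E
  have h1 : i1 k A u * (i1 k A (e p u i) * i2 k A (e p u j)) =
      nu k p i • (i1 k A (e p u i) * i2 k A (e p u j)) := by
    rw [← mul_assoc, ← map_mul, u_mul_e p hup, map_smul, smul_mul_assoc]
  have h2 : i2 k A u * (i1 k A (e p u i) * i2 k A (e p u j)) =
      nu k p j • (i1 k A (e p u i) * i2 k A (e p u j)) := by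
    rw [← mul_assoc, ← (commute_i1_i2 (e p u i) u).eq, mul_assoc, ← map_mul, u_mul_e p hup,
      map_smul, mul_smul_comm]
  rw [h1, h2, ← add_smul, map_add]

lemma M_e_mul_E {u : D k A} (hu : IsPrim u) (hup : u ^ p = u) (n i j : ZMod p) :
    M k A (e p u n) * E p u i j = if i + j = n then E p u i j else 0 := by
  unfold e
  rw [← Polynomial.aeval_algHom_apply,
    aeval_mul_of_eigen (M k A u) (E p u i j) (nu k p (i + j)) (Mu_mul_E p hu hup i j) (P k p n),
    eval_P]
  split_ifs <;> simp

lemma sum_E (u : D k A) : ∑ i : ZMod p, ∑ j : ZMod p, E p u i j = 1 := by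
  unfold E
  simp_rw [← Finset.mul_sum, ← Finset.sum_mul, ← map_sum, sum_e, map_one, mul_one]

lemma M_e {u : D k A} (hu : IsPrim u) (hup : u ^ p = u) (n : ZMod p) :
    M k A (e p u n) = ∑ i : ZMod p, ∑ j : ZMod p, if i + j = n then E p u i j else 0 := by
  conv_lhs => rw [← mul_one (M k A (e p u n)), ← sum_E p u, Finset.mul_sum]
  refine Finset.sum_congr rfl fun i _ => ?_
  rw [Finset.mul_sum]
  exact Finset.sum_congr rfl fun j _ => M_e_mul_E p hu hup n i j

lemma e_apply_mul {u : D k A} (hu : IsPrim u) (hup : u ^ p = u) (n : ZMod p) (a b : A) :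
    (e p u n) (a * b) =
      ∑ i : ZMod p, ∑ j : ZMod p, if i + j = n then (e p u i) a * (e p u j) b else 0 := by
  rw [← M_apply, M_e p hu hup, sum_apply₂]
  refine Finset.sum_congr rfl fun i _ => ?_
  rw [sum_apply₂]
  refine Finset.sum_congr rfl fun j _ => ?_
  split_ifs
  · exact E_apply p u i j a b
  · rfl

variable (k) in
/-- the group elements of `k[ℤ/p]`. -/
noncomputable def T (n : ZMod p) : MonoidAlgebra k (Multiplicative (ZMod p)) :=
  MonoidAlgebra.single (Multiplicative.ofAdd n) 1

lemma T_mul (i j : ZMod p) : T k p i * T k p j = T k p (i + j) := by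
  unfold T
  rw [MonoidAlgebra.single_mul_single, one_mul, ofAdd_add]

lemma T_zero : T k p 0 = 1 := by
  unfold T
  rw [MonoidAlgebra.one_def, ofAdd_zero]

/-- the linear map `A → k[ℤ/p]`. -/
noncomputable def muLin (u : D k A) : A →ₗ[k] MonoidAlgebra k (Multiplicative (ZMod p)) :=
  ∑ n : ZMod p, (LinearMap.toSpanSingleton k _ (T k p n)).comp (e p u n).ofConv

lemma muLin_apply (u : D k A) (a : A) : muLin p u a = ∑ n : ZMod p, (e p u n) a • T k p n := by
  unfold muLin
  rw [LinearMap.sum_apply]
  rfl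

lemma e_apply_one {u : D k A} (hu : IsPrim u) (hup : u ^ p = u) (n : ZMod p) :
    (e p u n) (1 : A) = if n = 0 then 1 else 0 := by
  have hne : ∀ m : ZMod p, m ≠ 0 → (e p u m) (1 : A) = 0 := by
    intro m hm
    have h1 : (u * e p u m) (1 : A) = (nu k p m • e p u m) (1 : A) := by rw [u_mul_e p hup m]
    rw [mul_apply_one, hu.apply_one, zero_mul] at h1
    have h2 : (nu k p m • e p u m) (1 : A) = nu k p m * (e p u m) (1 : A) := rfl
    rw [h2] at h1
    have h3 : nu k p m ≠ 0 := by
      intro h
      exact hm (nu_injective k p (by rw [h, map_zero]))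
    exact (mul_eq_zero.1 h1.symm).resolve_left h3
  split_ifs with h
  · subst h
    have h1 : (∑ n : ZMod p, e p u n) (1 : A) = (1 : D k A) (1 : A) := by rw [sum_e p u]
    rw [sum_apply₁, Finset.sum_eq_single 0 (fun m _ hm => hne m hm)
      (fun h => absurd (Finset.mem_univ _) h)] at h1
    rw [h1]
    simp
  · exact hne n h

/-- the algebra map `A → k[ℤ/p]` attached to a primitive element with `u ^ p = u`. -/
noncomputable def muAlgHom {u : D k A} (hu : IsPrim u) (hup : u ^ p = u) :
    A →ₐ[k] MonoidAlgebra k (Multiplicative (ZMod p)) :=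
  AlgHom.ofLinearMap (muLin p u)
    (by
      rw [muLin_apply, Finset.sum_eq_single 0, e_apply_one p hu hup, if_pos rfl, one_smul, T_zero]
      · intro n _ hn
        rw [e_apply_one p hu hup, if_neg hn, zero_smul]
      · intro h
        exact absurd (Finset.mem_univ _) h)
    (fun a b => by
      rw [muLin_apply, muLin_apply, muLin_apply, Finset.sum_mul_sum]
      simp_rw [e_apply_mul p hu hup, Finset.sum_smul]
      rw [Finset.sum_comm]
      refine Finset.sum_congr rfl fun i _ => ?_
      rw [Finset.sum_comm]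
      refine Finset.sum_congr rfl fun j _ => ?_
      rw [smul_mul_smul_comm, T_mul]
      simp_rw [ite_smul, zero_smul]
      rw [Finset.sum_ite_eq Finset.univ (i + j)]
      simp)

lemma muAlgHom_apply {u : D k A} (hu : IsPrim u) (hup : u ^ p = u) (a : A) :
    muAlgHom p hu hup a = ∑ n : ZMod p, (e p u n) a • T k p n :=
  muLin_apply p u a

lemma counit_muAlgHom {u : D k A} (hu : IsPrim u) (hup : u ^ p = u) :
    (Bialgebra.counitAlgHom k (MonoidAlgebra k (Multiplicative (ZMod p)))).comp
        (muAlgHom p hu hup) = Bialgebra.counitAlgHom k A := by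
  apply AlgHom.ext
  intro a
  rw [AlgHom.comp_apply, muAlgHom_apply, map_sum]
  have h1 : (∑ n : ZMod p, e p u n) a = (1 : D k A) a := by rw [sum_e p u]
  rw [sum_apply₁] at h1
  have h2 : (1 : D k A) a = Coalgebra.counit (R := k) a := by simp
  rw [Bialgebra.counitAlgHom_apply, ← h2, ← h1]
  refine Finset.sum_congr rfl fun n _ => ?_
  rw [map_smul, Bialgebra.counitAlgHom_apply]
  unfold T
  rw [MonoidAlgebra.counit_single]
  simp

lemma comul_muAlgHom {u : D k A} (hu : IsPrim u) (hup : u ^ p = u) :
    (Algebra.TensorProduct.map (muAlgHom p hu hup) (muAlgHom p hu hup)).comp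
        (Bialgebra.comulAlgHom k A) =
      (Bialgebra.comulAlgHom k (MonoidAlgebra k (Multiplicative (ZMod p)))).comp
        (muAlgHom p hu hup) := by
  apply AlgHom.ext
  intro a
  rw [AlgHom.comp_apply, AlgHom.comp_apply, Bialgebra.comulAlgHom_apply,
    Bialgebra.comulAlgHom_apply]
  have h1 : ∀ z : A ⊗[k] A, Algebra.TensorProduct.map (muAlgHom p hu hup) (muAlgHom p hu hup) z =
      TensorProduct.map (muAlgHom p hu hup).toLinearMap (muAlgHom p hu hup).toLinearMap z := by
    intro z
    induction z using TensorProduct.induction_on with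
    | zero => simp
    | tmul a b => rfl
    | add y z hy hz => rw [map_add, map_add, hy, hz]
  rw [h1, map_map_comul Finset.univ (muAlgHom p hu hup).toLinearMap (e p u)
    (T k p) (fun a => muAlgHom_apply p hu hup a), muAlgHom_apply, map_sum]
  refine Finset.sum_congr rfl fun i _ => ?_
  rw [Finset.sum_eq_single i]
  · rw [e_mul_e p hup, if_pos rfl, map_smul]
    congr 1
    unfold T
    exact ((MonoidAlgebra.isGroupLikeElem_single_one (R := k) (A := k)
      (Multiplicative.ofAdd i)).comul_eq_tmul_self).symm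
  · intro j _ hj
    rw [e_mul_e p hup, if_neg hj]
    change (0 : k) • _ = 0
    rw [zero_smul]
  · intro h
    exact absurd (Finset.mem_univ _) h

lemma e_ne_zero {u : D k A} (hu : IsPrim u) (h0 : u ≠ 0) (hup : u ^ p = u) (n : ZMod p) :
    e p u n ≠ 0 := by
  have hp : p.Prime := Fact.out
  have h0S : e p u (0 : ZMod p) ≠ 0 := by
    intro h
    have h1 := e_apply_one p hu hup (0 : ZMod p)
    rw [h, if_pos rfl] at h1
    exact zero_ne_one h1
  have hadd : ∀ i j : ZMod p, e p u i ≠ 0 → e p u j ≠ 0 → e p u (i + j) ≠ 0 := by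
    intro i j hi hj hij
    obtain ⟨a, ha⟩ : ∃ a : A, (e p u i) a ≠ 0 := by
      by_contra hcon
      push Not at hcon
      exact hi (WithConv.ext (LinearMap.ext hcon))
    obtain ⟨b, hb⟩ : ∃ b : A, (e p u j) b ≠ 0 := by
      by_contra hcon
      push Not at hcon
      exact hj (WithConv.ext (LinearMap.ext hcon))
    have h1 := M_e_mul_E p hu hup (i + j) i j
    rw [if_pos rfl, hij, map_zero, zero_mul] at h1
    have h2 := E_apply p u i j a b
    rw [← h1] at h2
    exact mul_ne_zero ha hb h2.symm
  obtain ⟨n₀, hn₀, hen₀⟩ : ∃ n₀ : ZMod p, n₀ ≠ 0 ∧ e p u n₀ ≠ 0 := by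
    by_contra hcon
    push Not at hcon
    apply h0
    have h1 : u = u * ∑ n : ZMod p, e p u n := by rw [sum_e, mul_one]
    rw [h1, Finset.mul_sum]
    apply Finset.sum_eq_zero
    intro m _
    rw [u_mul_e p hup]
    by_cases hm : m = 0
    · rw [hm, map_zero, zero_smul]
    · rw [hcon m hm, smul_zero]
  have hmult : ∀ m : ℕ, e p u (((m + 1 : ℕ) : ZMod p) * n₀) ≠ 0 := by
    intro m
    induction m with
    | zero => simpa using hen₀
    | succ m ih =>
      have : (((m + 1 + 1 : ℕ) : ZMod p) * n₀) = ((m + 1 : ℕ) : ZMod p) * n₀ + n₀ := by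
        push_cast
        ring
      rw [this]
      exact hadd _ _ ih hen₀
  by_cases hn : n = 0
  · rw [hn]; exact h0S
  · have hx : n * n₀⁻¹ ≠ 0 := mul_ne_zero hn (inv_ne_zero hn₀)
    have hval : 1 ≤ (n * n₀⁻¹).val := by
      rw [Nat.one_le_iff_ne_zero, Ne, ZMod.val_eq_zero]
      exact hx
    have h1 := hmult ((n * n₀⁻¹).val - 1)
    rw [Nat.sub_add_cancel hval, ZMod.natCast_zmod_val, mul_assoc, inv_mul_cancel₀ hn₀,
      mul_one] at h1
    exact h1

variable [Module.Finite k A]

/-- a nonzero primitive element with `u ^ p = u` gives a surjection onto the Hopf algebra of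
`μ_p`. -/
theorem mu_case {u : D k A} (hu : IsPrim u) (h0 : u ≠ 0) (hup : u ^ p = u) :
    ∃ f : A →ₐc[k] MonoidAlgebra k (Multiplicative (ZMod p)), Function.Surjective f := by
  classical
  refine ⟨BialgHom.ofAlgHom (muAlgHom p hu hup) (counit_muAlgHom p hu hup)
    (comul_muAlgHom p hu hup), ?_⟩
  have hli : LinearIndependent k (e p u) := by
    rw [Fintype.linearIndependent_iff]
    intro c hc m
    have h1 := congrArg (fun y => y * e p u m) hc
    simp only [zero_mul, Finset.sum_mul, smul_mul_assoc] at h1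
    rw [Finset.sum_eq_single m] at h1
    · rw [e_mul_e p hup, if_pos rfl] at h1
      exact (smul_eq_zero.1 h1).resolve_right (e_ne_zero p hu h0 hup m)
    · intro n _ hn
      rw [e_mul_e p hup, if_neg (Ne.symm hn), smul_zero]
    · intro h
      exact absurd (Finset.mem_univ _) h
  have hT : ∀ m : ZMod p, ∃ a : A, muAlgHom p hu hup a = T k p m := by
    intro m
    obtain ⟨ψ, hψ⟩ := exists_dual_eq (k := k) _ hli (fun n : ZMod p => if n = m then (1 : k) else 0)
    obtain ⟨a, ha⟩ := HopfSimple.exists_eval (k := k) (A := A) ψ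
    refine ⟨a, ?_⟩
    rw [muAlgHom_apply, Finset.sum_eq_single m]
    · rw [← ha, hψ, if_pos rfl, one_smul]
    · intro n _ hn
      rw [← ha, hψ, if_neg hn, zero_smul]
    · intro h
      exact absurd (Finset.mem_univ _) h
  intro b
  change ∃ a, muAlgHom p hu hup a = b
  induction b using MonoidAlgebra.induction_on with
  | of g =>
    obtain ⟨a, ha⟩ := hT (Multiplicative.toAdd g)
    exact ⟨a, ha⟩
  | add x y hx hy =>
    obtain ⟨a, ha⟩ := hx
    obtain ⟨b, hb⟩ := hy
    exact ⟨a + b, by rw [map_add, ha, hb]⟩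
  | smul r x hx =>
    obtain ⟨a, ha⟩ := hx
    exact ⟨r • a, by rw [map_smul, ha]⟩

end Mu

end Groth.Agent.Lib.Helper7.DualPrim
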