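import Mathlib.RingTheory.Unramified.Basic
import Mathlib.RingTheory.Kaehler.Basic
import Mathlib.RingTheory.Jacobson.Ring
import Mathlib.FieldTheory.IsAlgClosed.Basic
import Mathlib.Algebra.DualNumber
import Mathlib.RingTheory.Nakayama
import Mathlib.LinearAlgebra.Dual.Lemmas
import Mathlib.Algebra.Module.Torsion.Basic
import Mathlib.AlgebraicGeometry.IdealSheaf.Basic
import Mathlib.AlgebraicGeometry.Morphisms.ClosedImmersion

set_option autoImplicit false

namespace Groth.Agent.Lib.Helper7

universe u

open KaehlerDifferential in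
/-- A finitely generated module which is not zero has a maximal ideal `m` with `m • ⊤ ≠ ⊤`. -/
theorem exists_maximal_smul_top_ne_top {A M : Type*} [CommRing A] [AddCommGroup M] [Module A M]
    [Module.Finite A M] [Nontrivial M] :
    ∃ m : Ideal A, m.IsMaximal ∧ m • (⊤ : Submodule A M) ≠ ⊤ := by
  have hann : Module.annihilator A M ≠ ⊤ := by
    intro h
    have : (1 : A) ∈ Module.annihilator A M := by rw [h]; trivial
    rw [Module.mem_annihilator] at this
    obtain ⟨x, y, hxy⟩ := exists_pair_ne M
    exact hxy (by rw [← one_smul A x, ← one_smul A y, this x, this y])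
  obtain ⟨m, hm, hle⟩ := Ideal.exists_le_maximal _ hann
  refine ⟨m, hm, fun h => ?_⟩
  obtain ⟨r, hr1, hr⟩ := Submodule.exists_sub_one_mem_and_smul_eq_zero_of_fg_of_le_smul m
    (⊤ : Submodule A M) Module.Finite.fg_top h.ge
  have hrm : r ∈ m := hle (Module.mem_annihilator.mpr fun x => hr x trivial)
  have : (1 : A) ∈ m := by
    have := m.sub_mem hrm hr1
    simpa using this
  exact hm.ne_top ((Ideal.eq_top_iff_one _).mpr this)

open KaehlerDifferential TrivSqZeroExt in
/-- Over an algebraically closed field `k`, a finite type `k`-algebra `A` all of whose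
dual-number points are determined by their reduction is formally unramified. -/
theorem formallyUnramified_of_dualNumber_points {k A : Type u} [Field k] [IsAlgClosed k]
    [CommRing A] [Algebra k A] [Algebra.FiniteType k A]
    (H : ∀ ψ₁ ψ₂ : A →ₐ[k] DualNumber k,
      (TrivSqZeroExt.fstHom k k k).comp ψ₁ = (TrivSqZeroExt.fstHom k k k).comp ψ₂ → ψ₁ = ψ₂) :
    Algebra.FormallyUnramified k A := by
  by_contra hcon
  have hnt : Nontrivial Ω[A⁄k] := by
    by_contra h
    rw [not_nontrivial_iff_subsingleton] at h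
    exact hcon ⟨h⟩
  obtain ⟨m, hm, hmtop⟩ := exists_maximal_smul_top_ne_top (A := A) (M := Ω[A⁄k])
  let _ := Ideal.Quotient.field m
  have hfin : Module.Finite k (A ⧸ m) := finite_of_finite_type_of_isJacobsonRing k (A ⧸ m)
  have hbij : Function.Bijective (algebraMap k (A ⧸ m)) :=
    IsAlgClosed.algebraMap_bijective_of_isIntegral
  let e : (A ⧸ m) ≃ₐ[k] k := (AlgEquiv.ofBijective (Algebra.ofId k (A ⧸ m)) hbij).symm
  let π : A →ₐ[k] k := (e : (A ⧸ m) →ₐ[k] k).comp (Ideal.Quotient.mkₐ k m)
  have hπ : ∀ a, π a = e (Ideal.Quotient.mk m a) := fun a => rfl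
  -- the quotient vector space
  let V := Ω[A⁄k] ⧸ (m • ⊤ : Submodule A Ω[A⁄k])
  have hVnt : Nontrivial V := Submodule.Quotient.nontrivial_iff.mpr hmtop
  obtain ⟨v, hv⟩ := exists_ne (0 : V)
  obtain ⟨φ, hφ⟩ : ∃ φ : Module.Dual (A ⧸ m) V, φ v ≠ 0 := by
    by_contra h
    push Not at h
    exact hv ((Module.forall_dual_apply_eq_zero_iff (A ⧸ m) v).mp h)
  let q : Ω[A⁄k] → V := Submodule.Quotient.mk
  have hq_add : ∀ x y, q (x + y) = q x + q y := fun x y => rfl
  have hq_smul : ∀ (r : A) (x : Ω[A⁄k]), q (r • x) = Ideal.Quotient.mk m r • q x := fun r x => rfl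
  let δ : A → k := fun a => e (φ (q (D k A a)))
  have hδ_add : ∀ a b, δ (a + b) = δ a + δ b := by
    intro a b
    simp only [δ, map_add, hq_add]
  have hδ_mul : ∀ a b, δ (a * b) = π a * δ b + π b * δ a := by
    intro a b
    simp only [δ, Derivation.leibniz, hq_add, hq_smul, map_add, map_smul, smul_eq_mul, map_mul, hπ]
  have hδ_alg : ∀ c : k, δ (algebraMap k A c) = 0 := by
    intro c
    simp only [δ, Derivation.map_algebraMap]
    have : q 0 = 0 := rfl
    rw [this, map_zero, map_zero]
  -- the two dual-number points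
  let ψ₁ : A →ₐ[k] DualNumber k := (TrivSqZeroExt.inlAlgHom k k k).comp π
  let ψ₂ : A →ₐ[k] DualNumber k :=
    { toFun := fun a => inl (π a) + inr (δ a)
      map_one' := by
        have : δ 1 = 0 := by simpa using hδ_alg 1
        rw [this, map_one, inr_zero, add_zero, inl_one]
      map_mul' := by
        intro a b
        ext
        · simp
        · simp [hδ_mul]; ring
      map_zero' := by
        have : δ 0 = 0 := by simpa using hδ_alg 0
        rw [this, map_zero, inr_zero, add_zero, inl_zero]
      map_add' := by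
        intro a b
        rw [hδ_add, map_add, inl_add, inr_add]
        abel
      commutes' := by
        intro c
        rw [hδ_alg, inr_zero, add_zero, AlgHom.commutes]
        rfl }
  have h12 : ψ₁ = ψ₂ := by
    apply H
    ext a
    simp [ψ₁, ψ₂]
  have hδ0 : ∀ a, δ a = 0 := by
    intro a
    have := congrArg (fun ψ : A →ₐ[k] DualNumber k => (ψ a).snd) h12
    simpa [ψ₁, ψ₂] using this.symm
  have hφD : ∀ a, φ (q (D k A a)) = 0 := fun a => e.injective (by simpa [δ] using hδ0 a)
  have hφq : ∀ x : Ω[A⁄k], φ (q x) = 0 := by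
    intro x
    have hx : x ∈ Submodule.span A (Set.range (D k A)) := by
      rw [KaehlerDifferential.span_range_derivation]; trivial
    induction hx using Submodule.span_induction with
    | mem y hy =>
      obtain ⟨a, rfl⟩ := hy
      exact hφD a
    | zero => exact map_zero φ
    | add y z _ _ hy hz => rw [hq_add, map_add, hy, hz, add_zero]
    | smul r y _ hy => rw [hq_smul, map_smul, hy, smul_zero]
  obtain ⟨x, rfl⟩ := Submodule.Quotient.mk_surjective _ v
  exact hφ (hφq x)

open CategoryTheory AlgebraicGeometry in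
set_option backward.isDefEq.respectTransparency false in
/-- The kernel ideal sheaf of `Spec.map φ` is nilpotent if `ker φ` is. -/
theorem ker_SpecMap_pow_eq_bot {R S : CommRingCat.{u}} (φ : R ⟶ S) (n : ℕ)
    (h : RingHom.ker φ.hom ^ n = ⊥) : (Spec.map φ).ker ^ n = ⊥ := by
  apply Scheme.IdealSheafData.ext_of_isAffine
  rw [Scheme.IdealSheafData.ideal_pow, Pi.pow_apply, Scheme.Hom.ker_apply,
    Scheme.IdealSheafData.ideal_bot, Pi.bot_apply]
  have e : RingHom.ker ((Spec.map φ).app ⊤).hom =
      Ideal.comap (Scheme.ΓSpecIso R).commRingCatIsoToRingEquiv (RingHom.ker φ.hom) := by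
    ext x
    rw [Ideal.mem_comap, RingHom.mem_ker, RingHom.mem_ker]
    have h1 := Scheme.ΓSpecIso_naturality φ
    have h2 : (Scheme.ΓSpecIso S).hom.hom (((Spec.map φ).app ⊤).hom x) =
        φ.hom ((Scheme.ΓSpecIso R).hom.hom x) := by
      exact congrArg (fun f => f.hom x) h1
    change _ ↔ φ.hom ((Scheme.ΓSpecIso R).hom.hom x) = 0
    rw [← h2]
    constructor
    · intro hx; rw [hx, map_zero]
    · intro hx
      have hinj : Function.Injective (Scheme.ΓSpecIso S).hom.hom :=
        (ConcreteCategory.bijective_of_isIso (Scheme.ΓSpecIso S).hom).1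
      exact hinj (by rw [hx, map_zero])
  change RingHom.ker ((Spec.map φ).app ⊤).hom ^ n = ⊥
  rw [e, ← Ideal.map_symm, ← Ideal.map_pow, h, Ideal.map_bot]


end Groth.Agent.Lib.Helper7
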