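import Mathlib
import Groth.Agent.Lib.Helper7.GITBasic

/-!
# Frobenius-stable subspaces of finite commutative algebras (helper7)
-/

universe u v

namespace Groth.Agent.Lib.Helper7.FrobFixed

open Groth.Agent.Lib.Helper7

variable {k : Type u} [Field k] [IsAlgClosed k] (p : ℕ) [Fact p.Prime] [CharP k p]
  {C : Type v} [CommRing C] [Algebra k C] [Module.Finite k C]

omit [Fact p.Prime] [CharP k p] in
lemma exists_char (v : C) (hv : ¬ IsNilpotent v) : ∃ χ : C →ₐ[k] k, χ v ≠ 0 := by
  by_contra hcon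
  push Not at hcon
  apply hv
  have : IsArtinianRing C := IsArtinianRing.of_finite k C
  have hmem : v ∈ Ideal.jacobson (⊥ : Ideal C) := by
    rw [Ideal.jacobson, Ideal.mem_sInf]
    rintro M ⟨-, hM⟩
    obtain ⟨χ, hχ⟩ := Comod.exists_algHom_of_ne_top (k := k) M hM.ne_top
    have : M = RingHom.ker χ := hM.eq_of_le (RingHom.ker_ne_top _) hχ
    rw [this, RingHom.mem_ker]
    exact hcon χ
  obtain ⟨n, hn⟩ := IsArtinianRing.isNilpotent_jacobson_bot (R := C)
  refine ⟨n, ?_⟩
  have := Ideal.pow_mem_pow hmem n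
  rwa [hn] at this

omit [CharP k p] in
/-- a nonzero Frobenius-stable subspace of a finite commutative algebra over an algebraically
closed field contains a nonzero element with `u ^ p = 0` or `u ^ p = u`. -/
theorem exists_frob_fixed (V : Submodule k C) (hV : V ≠ ⊥) (hF : ∀ v ∈ V, v ^ p ∈ V) :
    ∃ u ∈ V, u ≠ 0 ∧ (u ^ p = 0 ∨ u ^ p = u) := by
  classical
  have hp : p.Prime := Fact.out
  have hFn : ∀ n : ℕ, ∀ v ∈ V, v ^ p ^ n ∈ V := by
    intro n
    induction n with
    | zero => intro v hv; simpa using hv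
    | succ n ih =>
      intro v hv
      rw [pow_succ, pow_mul]
      exact hF _ (ih v hv)
  by_cases hnil : ∃ v ∈ V, v ≠ 0 ∧ IsNilpotent v
  · obtain ⟨v, hvV, hv0, N, hN⟩ := hnil
    have hex : ∃ n, v ^ p ^ n = 0 := ⟨N, by
      have hle : N ≤ p ^ N := (Nat.lt_pow_self hp.one_lt).le
      rw [← Nat.sub_add_cancel hle, pow_add, hN, mul_zero]⟩
    have hn : v ^ p ^ (Nat.find hex) = 0 := Nat.find_spec hex
    have hn0 : Nat.find hex ≠ 0 := by
      intro h
      rw [h, pow_zero, pow_one] at hn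
      exact hv0 hn
    refine ⟨v ^ p ^ (Nat.find hex - 1), hFn _ v hvV, Nat.find_min hex (by omega), Or.inl ?_⟩
    rw [← pow_mul, ← pow_succ, Nat.sub_add_cancel (Nat.pos_of_ne_zero hn0)]
    exact hn
  · push Not at hnil
    have : Finite (C →ₐ[k] k) := inferInstance
    haveI := Fintype.ofFinite (C →ₐ[k] k)
    let supp : C → Finset (C →ₐ[k] k) := fun v => Finset.univ.filter (fun χ => χ v ≠ 0)
    have hex : ∃ n, ∃ v ∈ V, v ≠ 0 ∧ (supp v).card = n := by
      obtain ⟨v, hvV, hv0⟩ := (Submodule.ne_bot_iff V).1 hV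
      exact ⟨_, v, hvV, hv0, rfl⟩
    obtain ⟨v, hvV, hv0, hvn⟩ := Nat.find_spec hex
    obtain ⟨χ₀, hχ₀⟩ := exists_char (k := k) v (hnil v hvV hv0)
    set u := (χ₀ v)⁻¹ • v with hu
    have huV : u ∈ V := V.smul_mem _ hvV
    have hu0 : u ≠ 0 := smul_ne_zero (inv_ne_zero hχ₀) hv0
    have hχu : χ₀ u = 1 := by
      rw [hu, map_smul, smul_eq_mul, inv_mul_cancel₀ hχ₀]
    have hsupp : supp u = supp v := by
      ext χ
      simp only [supp, Finset.mem_filter, Finset.mem_univ, true_and, hu, map_smul, smul_eq_mul]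
      constructor
      · intro h h0
        exact h (by rw [h0, mul_zero])
      · intro h
        exact mul_ne_zero (inv_ne_zero hχ₀) h
    refine ⟨u, huV, hu0, Or.inr ?_⟩
    by_contra hne
    have hw0 : u ^ p - u ≠ 0 := fun h => hne (sub_eq_zero.1 h)
    have hwV : u ^ p - u ∈ V := V.sub_mem (hF u huV) huV
    have hsub : supp (u ^ p - u) ⊂ supp u := by
      rw [Finset.ssubset_iff_of_subset]
      · refine ⟨χ₀, ?_, ?_⟩
        · simp only [supp, Finset.mem_filter, Finset.mem_univ, true_and, hχu]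
          exact one_ne_zero
        · simp only [supp, Finset.mem_filter, Finset.mem_univ, true_and, map_sub, map_pow, hχu,
            one_pow, sub_self, ne_eq, not_true_eq_false, not_false_eq_true]
      · intro χ
        simp only [supp, Finset.mem_filter, Finset.mem_univ, true_and, map_sub, map_pow]
        intro h h0
        apply h
        rw [h0, zero_pow hp.ne_zero, sub_zero]
    have hlt := Finset.card_lt_card hsub
    rw [hsupp, hvn] at hlt
    exact Nat.find_min hex hlt ⟨_, hwV, hw0, rfl⟩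

end Groth.Agent.Lib.Helper7.FrobFixed
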