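import Groth.Agent.Lib.Helper7.HopfLR
import Mathlib.RingTheory.HopfAlgebra.TensorProduct

/-!
# Linear reductivity and base field extension (helper7)
-/

universe u v w

open TensorProduct

namespace Groth.Agent.Lib.Helper7.Comod

open HopfRep

section BaseChange

variable {k : Type u} {K : Type v} {A : Type w} [Field k] [Field K] [Algebra k K] [CommRing A]
  [HopfAlgebra k A]

/-- `Δ_K(x ⊗ a)` in terms of a general element `d` standing for `Δ a`. -/
noncomputable def bcPair (x : K) (d : A ⊗[k] A) : (K ⊗[k] A) ⊗[K] (K ⊗[k] A) :=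
  AlgebraTensorModule.tensorTensorTensorComm k K k K K K A A (((1 : K) ⊗ₜ[K] x) ⊗ₜ[k] d)

lemma comul_tmul_eq (x : K) (a : A) :
    Coalgebra.comul (R := K) (x ⊗ₜ[k] a : K ⊗[k] A) = bcPair x (Coalgebra.comul (R := k) a) := by
  rw [TensorProduct.comul_tmul, CommSemiring.comul_apply]
  rfl

@[simp] lemma bcPair_tmul (x : K) (a b : A) :
    bcPair x (a ⊗ₜ[k] b) = ((1 : K) ⊗ₜ[k] a) ⊗ₜ[K] (x ⊗ₜ[k] b) := by
  simp [bcPair]

lemma bcPair_add (x : K) (d e : A ⊗[k] A) : bcPair x (d + e) = bcPair x d + bcPair x e := by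
  simp [bcPair, TensorProduct.tmul_add]

@[simp] lemma bcPair_zero (x : K) : bcPair x (0 : A ⊗[k] A) = 0 := by
  simp [bcPair]

/-- The base change of a functional. -/
noncomputable def bcFun (K : Type v) [Field K] [Algebra k K] (α : A →ₗ[k] k) : K ⊗[k] A →ₗ[K] K :=
  (AlgebraTensorModule.rid k K K).toLinearMap ∘ₗ LinearMap.baseChange K α

@[simp] lemma bcFun_tmul (α : A →ₗ[k] k) (x : K) (a : A) : bcFun K α (x ⊗ₜ[k] a) = α a • x := by
  simp [bcFun]

lemma smul_one_tmul_tmul (c : k) (x : K) (b : A) :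
    (c • (1 : K)) ⊗ₜ[K] (x ⊗ₜ[k] b) = (1 : K) ⊗ₜ[K] (x ⊗ₜ[k] (c • b)) := by
  rw [TensorProduct.tmul_smul]
  rw [show (c • (1:K)) = (algebraMap k K c) • (1 : K) by rw [algebraMap_smul]]
  rw [TensorProduct.smul_tmul]
  congr 1
  rw [TensorProduct.smul_tmul', TensorProduct.smul_tmul', smul_eq_mul, Algebra.smul_def]

lemma one_tmul_tmul_smul_one (c : k) (x : K) :
    (1 : K) ⊗ₜ[K] (x ⊗ₜ[k] (c • (1 : A))) = (c • x) ⊗ₜ[K] ((1 : K) ⊗ₜ[k] (1 : A)) := by
  rw [TensorProduct.tmul_smul]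
  rw [show (c • x) = (algebraMap k K c * x) • (1 : K) by rw [smul_eq_mul, mul_one, Algebra.smul_def]]
  rw [TensorProduct.smul_tmul]
  congr 1
  rw [TensorProduct.smul_tmul', TensorProduct.smul_tmul', smul_eq_mul, Algebra.smul_def, mul_one]

lemma rTensor_bcFun_bcPair (α : A →ₗ[k] k) (x : K) (d : A ⊗[k] A) :
    (bcFun K α).rTensor (K ⊗[k] A) (bcPair x d) =
      (1 : K) ⊗ₜ[K] (x ⊗ₜ[k] (TensorProduct.lid k A (α.rTensor A d))) := by
  induction d using TensorProduct.induction_on with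
  | zero => simp
  | tmul a b =>
    rw [bcPair_tmul, LinearMap.rTensor_tmul, bcFun_tmul, LinearMap.rTensor_tmul,
      TensorProduct.lid_tmul, smul_one_tmul_tmul]
  | add d e hd he =>
    rw [bcPair_add, map_add, hd, he, map_add, map_add, TensorProduct.tmul_add,
      TensorProduct.tmul_add]

/-- A total integral on `A` gives one on `K ⊗ A`. -/
theorem isTrivIntegral_bcFun {α : A →ₗ[k] k} (hα : IsTrivIntegral k A α) :
    IsTrivIntegral K (K ⊗[k] A) (bcFun K α) := by
  rw [isTrivIntegral_iff] at hα ⊢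
  refine ⟨fun z => ?_, ?_⟩
  · induction z using TensorProduct.induction_on with
    | zero => simp
    | tmul x a =>
      rw [comul_tmul_eq, rTensor_bcFun_bcPair, ← hα.1 a, TensorProduct.lid_tmul, bcFun_tmul,
        Algebra.TensorProduct.one_def, one_tmul_tmul_smul_one]
    | add y z hy hz => simp only [map_add, TensorProduct.add_tmul, hy, hz]
  · rw [Algebra.TensorProduct.one_def, bcFun_tmul, hα.2, one_smul]

/-- A total integral on `K ⊗ A` gives one on `A`. -/
theorem exists_isTrivIntegral_of_baseChange {α' : K ⊗[k] A →ₗ[K] K}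
    (hα' : IsTrivIntegral K (K ⊗[k] A) α') : ∃ α : A →ₗ[k] k, IsTrivIntegral k A α := by
  rw [isTrivIntegral_iff] at hα'
  obtain ⟨lam, hlam⟩ := LinearMap.exists_leftInverse_of_injective (Algebra.linearMap k K)
    (LinearMap.ker_eq_bot.2 (algebraMap k K).injective)
  have hlam1 : lam 1 = 1 := by
    have := LinearMap.congr_fun hlam 1
    simpa using this
  let inc : A →ₗ[k] K ⊗[k] A := (TensorProduct.mk k K A) 1
  let α : A →ₗ[k] k := lam ∘ₗ (α'.restrictScalars k) ∘ₗ inc
  let Ψ : (K ⊗[k] A) ⊗[K] (K ⊗[k] A) →ₗ[k] k ⊗[k] A :=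
    lam.rTensor A ∘ₗ ((TensorProduct.lid K (K ⊗[k] A)).toLinearMap.restrictScalars k) ∘ₗ
      ((α'.rTensor (K ⊗[k] A)).restrictScalars k)
  have hΨ : ∀ d : A ⊗[k] A, Ψ (bcPair (1 : K) d) = α.rTensor A d := by
    intro d
    induction d using TensorProduct.induction_on with
    | zero => simp
    | tmul a b =>
      simp only [Ψ, α, inc, bcPair_tmul, LinearMap.comp_apply, LinearMap.coe_restrictScalars,
        LinearMap.rTensor_tmul, LinearEquiv.coe_coe, TensorProduct.lid_tmul,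
        TensorProduct.smul_tmul', smul_eq_mul, mul_one, TensorProduct.mk_apply]
    | add d e hd he => rw [bcPair_add, map_add, hd, he, map_add]
  refine ⟨α, (isTrivIntegral_iff α).2 ⟨fun a => ?_, ?_⟩⟩
  · rw [← hΨ, ← comul_tmul_eq]
    have h := hα'.1 ((1 : K) ⊗ₜ[k] a)
    have h2 : Ψ (Coalgebra.comul (R := K) ((1 : K) ⊗ₜ[k] a : K ⊗[k] A)) =
        lam.rTensor A ((TensorProduct.lid K (K ⊗[k] A))
          (α'.rTensor (K ⊗[k] A) (Coalgebra.comul (R := K) ((1 : K) ⊗ₜ[k] a : K ⊗[k] A)))) := rfl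
    rw [h2, ← h, TensorProduct.lid_tmul, Algebra.TensorProduct.one_def, TensorProduct.smul_tmul',
      smul_eq_mul, mul_one, LinearMap.rTensor_tmul]
    rfl
  · change lam (α' ((1 : K) ⊗ₜ[k] (1 : A))) = 1
    rw [← Algebra.TensorProduct.one_def, hα'.2, hlam1]

/-- S18813: linear reductivity is insensitive to extension of the base field. -/
theorem isLinearlyReductive_baseChange_iff :
    IsLinearlyReductive k A ↔ IsLinearlyReductive K (K ⊗[k] A) := by
  rw [isLinearlyReductive_iff_exists_isTrivIntegral, isLinearlyReductive_iff_exists_isTrivIntegral]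
  constructor
  · rintro ⟨α, hα⟩
    exact ⟨bcFun K α, isTrivIntegral_bcFun hα⟩
  · rintro ⟨α', hα'⟩
    exact exists_isTrivIntegral_of_baseChange hα'

end BaseChange

end Groth.Agent.Lib.Helper7.Comod
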