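import Groth.Agent.Lib.Helper7.HopfCotangent
import Groth.Agent.Lib.Helper7.ComodAct
import Groth.Agent.Lib.Helper7.GITBasic
import Groth.Agent.Lib.Helper7.HopfLR
import Groth.Agent.Lib.Helper7.HopfBaseChange
import Groth.Agent.Lib.Helper7.CoeffSpace

/-!
# Finite commutative Hopf algebras in characteristic zero: Cartier and Maschke (helper7)
-/

universe u v

open TensorProduct

namespace Groth.Agent.Lib.Helper7.HopfFin

open HopfRep Groth.Agent.Lib.Helper7.Comod Groth.Agent.Lib.Helper7.HopfCot

section Idem

variable {k : Type u} [Field k] [CharZero k] {A : Type v} [CommRing A] [Bialgebra k A]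
  [Module.Finite k A]

/-- In characteristic zero the augmentation ideal of a finite-dimensional commutative bialgebra is
idempotent (the group is étale at the identity). -/
theorem isIdempotentElem_augI : IsIdempotentElem (augI k A) := by
  haveI : Algebra.FiniteType k A := inferInstance
  haveI := finite_cotangent (k := k) (A := A)
  rw [← Ideal.cotangent_subsingleton_iff]
  set r := Module.finrank k (augI k A).Cotangent with hr
  by_cases hr0 : r = 0
  · exact Module.finrank_zero_iff.1 hr0
  exfalso
  have hge : ∀ n : ℕ, n ≤ Module.finrank k (A ⧸ augI k A ^ n) := by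
    intro n
    induction n with
    | zero => exact Nat.zero_le _
    | succ n ih =>
      have hfac : ((n.factorial : ℕ) : k) ≠ 0 := Nat.cast_ne_zero.2 (Nat.factorial_ne_zero n)
      rw [finrank_quotient_pow_succ n hfac]
      have hpos : 0 < Nat.choose (Module.finrank k (augI k A).Cotangent + n - 1) n :=
        Nat.choose_pos (by omega)
      omega
  have hle : ∀ n : ℕ, Module.finrank k (A ⧸ augI k A ^ n) ≤ Module.finrank k A := by
    intro n
    exact LinearMap.finrank_le_finrank_of_surjective
      (f := (Ideal.Quotient.mkₐ k (augI k A ^ n)).toLinearMap)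
      (Ideal.Quotient.mkₐ_surjective k _)
  have := (hge (Module.finrank k A + 1)).trans (hle _)
  omega

end Idem

section Translate

variable {k : Type u} [Field k] {A : Type v} [CommRing A] [HopfAlgebra k A]

lemma contr_algHom_mul (g : A →ₐ[k] k) (y z : A ⊗[k] A) :
    contr A g.toLinearMap (y * z) = contr A g.toLinearMap y * contr A g.toLinearMap z := by
  induction y using TensorProduct.induction_on with
  | zero => simp
  | add y y' hy hy' => simp only [add_mul, map_add, hy, hy']
  | tmul a a' =>
    induction z using TensorProduct.induction_on with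
    | zero => simp
    | add z z' hz hz' => simp only [mul_add, map_add, hz, hz']
    | tmul b b' =>
      rw [Algebra.TensorProduct.tmul_mul_tmul, contr_tmul, contr_tmul, contr_tmul]
      simp only [AlgHom.toLinearMap_apply, map_mul, Algebra.smul_def]
      ring

lemma act_regular_mul (g : A →ₐ[k] k) (a b : A) :
    Comod.act k A A g (a * b) = Comod.act k A A g a * Comod.act k A A g b := by
  rw [act_eq_contr, act_eq_contr, act_eq_contr]
  change contr A g.toLinearMap (Coalgebra.comul (R := k) (a * b)) = _
  rw [Bialgebra.comul_mul, contr_algHom_mul]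
  rfl

lemma counit_act_regular (g : A →ₐ[k] k) (a : A) :
    Coalgebra.counit (R := k) (Comod.act k A A g a) = g a := by
  rw [act_eq_contr]
  change Coalgebra.counit (R := k) (contr A g.toLinearMap (Coalgebra.comul (R := k) a)) = g a
  have h : ∀ y : A ⊗[k] A, Coalgebra.counit (R := k) (contr A g.toLinearMap y) =
      g (TensorProduct.lid k A ((Coalgebra.counit (R := k)).rTensor A y)) := by
    intro y
    induction y using TensorProduct.induction_on with
    | zero => simp
    | add y z hy hz => simp only [map_add, hy, hz]
    | tmul b c => simp [mul_comm]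
  rw [h, Coalgebra.rTensor_counit_comul]
  simp

lemma act_inv_act (g : WithConv (A →ₐ[k] k)) (a : A) :
    Comod.act k A A g⁻¹.ofConv (Comod.act k A A g.ofConv a) = a := by
  have := congrArg (fun f : Module.End k A => f a) (map_mul (actHom k A A) g⁻¹ g)
  simp only [inv_mul_cancel, map_one, Module.End.one_apply, Module.End.mul_apply,
    actHom_apply] at this
  exact this.symm

/-- If the augmentation ideal is idempotent then so is the kernel of every rational point. -/
theorem isIdempotentElem_ker_of_augI (h : IsIdempotentElem (augI k A)) (g : A →ₐ[k] k) :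
    IsIdempotentElem (RingHom.ker g) := by
  change RingHom.ker g * RingHom.ker g = RingHom.ker g
  apply le_antisymm Ideal.mul_le_right
  intro a ha
  rw [RingHom.mem_ker] at ha
  set G : WithConv (A →ₐ[k] k) := WithConv.toConv g with hG
  have h1 : Comod.act k A A g a ∈ augI k A := by
    rw [mem_augI, counit_act_regular, ha]
  rw [← h] at h1
  have key : ∀ c ∈ augI k A * augI k A,
      Comod.act k A A G⁻¹.ofConv c ∈ RingHom.ker g * RingHom.ker g := by
    intro c hc
    refine Submodule.mul_induction_on hc ?_ ?_
    · intro x hx y hy
      rw [act_regular_mul]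
      have hmem : ∀ z ∈ augI k A, Comod.act k A A G⁻¹.ofConv z ∈ RingHom.ker g := by
        intro z hz
        rw [RingHom.mem_ker, ← counit_act_regular g]
        have e : Comod.act k A A g (Comod.act k A A G⁻¹.ofConv z) = z := by
          have := act_inv_act (G⁻¹) z
          rw [inv_inv] at this
          exact this
        rw [e]
        exact (mem_augI z).1 hz
      exact Ideal.mul_mem_mul (hmem x hx) (hmem y hy)
    · intro x y hx hy
      rw [map_add]
      exact Ideal.add_mem _ hx hy
  have := key _ h1
  rw [show Comod.act k A A g a = Comod.act k A A G.ofConv a from rfl, act_inv_act] at this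
  exact this

end Translate

section Reduced

variable {k : Type u} [Field k] [IsAlgClosed k] {A : Type v} [CommRing A] [HopfAlgebra k A]
  [Module.Finite k A]

/-- A finite-dimensional commutative Hopf algebra over an algebraically closed field whose
augmentation ideal is idempotent is reduced. -/
theorem isReduced_of_isIdempotentElem_augI (h : IsIdempotentElem (augI k A)) : IsReduced A := by
  classical
  haveI : Algebra.FiniteType k A := inferInstance
  haveI : IsNoetherianRing A := Algebra.FiniteType.isNoetherianRing k A
  haveI : Fintype (A →ₐ[k] k) := Fintype.ofFinite _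
  have hex : ∀ g : A →ₐ[k] k, ∃ e : A, IsIdempotentElem e ∧ RingHom.ker g = Ideal.span {e} := by
    intro g
    obtain ⟨e, he, heq⟩ := ((RingHom.ker g).isIdempotentElem_iff_of_fg
      (IsNoetherian.noetherian _)).1 (isIdempotentElem_ker_of_augI h g)
    exact ⟨e, he, heq⟩
  choose e he hker using hex
  set E : A := ∏ g : A →ₐ[k] k, e g with hE
  have hEidem : IsIdempotentElem E := by
    change E * E = E
    rw [hE, ← Finset.prod_mul_distrib]
    exact Finset.prod_congr rfl (fun g _ => he g)
  have hEnil : IsNilpotent E := by
    apply isNilpotent_of_forall_algHom_eq_zero (k := k)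
    intro g
    rw [hE, map_prod]
    apply Finset.prod_eq_zero (Finset.mem_univ g)
    have : e g ∈ RingHom.ker g := by
      rw [hker g]; exact Ideal.subset_span (Set.mem_singleton _)
    exact this
  have hE0 : E = 0 := by
    obtain ⟨n, hn⟩ := hEnil
    have hpow : ∀ m : ℕ, E ^ (m + 1) = E := by
      intro m
      induction m with
      | zero => rw [zero_add, pow_one]
      | succ m ih => rw [pow_succ, ih]; exact hEidem
    cases n with
    | zero =>
      rw [pow_zero] at hn
      rw [← mul_one E, hn, mul_zero]
    | succ m => rw [← hpow m, hn]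
  constructor
  intro a ha
  have hae : ∀ g : A →ₐ[k] k, a * e g = a := by
    intro g
    have hga : a ∈ RingHom.ker g := by
      rw [RingHom.mem_ker]
      exact (ha.map g).eq_zero
    rw [hker g, Ideal.mem_span_singleton'] at hga
    obtain ⟨c, rfl⟩ := hga
    rw [mul_assoc, (he g).eq]
  have haE : a * E = a := by
    rw [hE]
    have : ∀ s : Finset (A →ₐ[k] k), a * ∏ g ∈ s, e g = a := by
      intro s
      induction s using Finset.induction_on with
      | empty => simp
      | insert g s hg ih => rw [Finset.prod_insert hg, ← mul_assoc, hae g, ih]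
    exact this _
  rw [← haE, hE0, mul_zero]

/-- A finite reduced commutative Hopf algebra over an algebraically closed field has a total
integral as soon as the number of points is invertible. -/
theorem exists_isTrivIntegral_of_isReduced [IsReduced A]
    (hn : ((Nat.card (A →ₐ[k] k) : ℕ) : k) ≠ 0) : ∃ α : A →ₗ[k] k, IsTrivIntegral k A α := by
  classical
  haveI : Algebra.FiniteType k A := inferInstance
  haveI : Fintype (A →ₐ[k] k) := Fintype.ofFinite _
  set n : k := ((Nat.card (A →ₐ[k] k) : ℕ) : k) with hn'
  have hcard : (Fintype.card (A →ₐ[k] k) : k) = n := by rw [hn', Nat.card_eq_fintype_card]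
  let α : A →ₗ[k] k := n⁻¹ • ∑ g : A →ₐ[k] k, g.toLinearMap
  have hα : ∀ a, α a = n⁻¹ * ∑ g : A →ₐ[k] k, g a := by
    intro a
    simp [α, LinearMap.sum_apply]
  have hsep : ∀ a : A, (∀ h : A →ₐ[k] k, h a = 0) → a = 0 := by
    intro a ha
    exact (isNilpotent_of_forall_algHom_eq_zero (k := k) a ha).eq_zero
  refine ⟨α, (isTrivIntegral_iff α).2 ⟨fun a => ?_, ?_⟩⟩
  · apply (TensorProduct.lid k A).injective
    rw [TensorProduct.lid_tmul, ← sub_eq_zero]
    apply hsep
    intro h
    rw [map_sub, sub_eq_zero, map_smul, map_one, smul_eq_mul, mul_one]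
    -- h (lid (α ⊗ id) (Δ a)) = n⁻¹ Σ_g (g * h) a
    have key : ∀ y : A ⊗[k] A, h (TensorProduct.lid k A (α.rTensor A y)) =
        n⁻¹ * ∑ g : A →ₐ[k] k,
          Algebra.TensorProduct.lift g h (fun _ _ => Commute.all _ _) y := by
      intro y
      induction y using TensorProduct.induction_on with
      | zero => simp
      | add y z hy hz =>
        simp only [map_add, hy, hz, Finset.sum_add_distrib, mul_add]
      | tmul b c =>
        rw [LinearMap.rTensor_tmul, TensorProduct.lid_tmul, map_smul, hα, smul_eq_mul]
        simp only [Algebra.TensorProduct.lift_tmul, Finset.sum_mul, mul_assoc]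
    rw [key]
    have h2 : ∀ g : A →ₐ[k] k,
        Algebra.TensorProduct.lift g h (fun _ _ => Commute.all _ _) (Coalgebra.comul (R := k) a) =
          (WithConv.toConv g * WithConv.toConv h : WithConv (A →ₐ[k] k)) a := by
      intro g
      rw [AlgHom.convMul_apply]
    simp only [h2]
    rw [hα]
    congr 1
    let σ : (A →ₐ[k] k) ≃ (A →ₐ[k] k) :=
      (WithConv.equiv (A →ₐ[k] k)).symm.trans
        ((Equiv.mulRight (WithConv.toConv h)).trans (WithConv.equiv (A →ₐ[k] k)))
    exact (Fintype.sum_equiv σ _ _ (fun g => rfl)).symm
  · rw [hα]
    simp only [map_one, Finset.sum_const, Finset.card_univ, nsmul_eq_mul, mul_one]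
    rw [hcard]
    exact inv_mul_cancel₀ hn

end Reduced

section Main

variable {K : Type u} [Field K] [CharZero K] {A : Type v} [CommRing A] [HopfAlgebra K A]
  [Module.Finite K A]

/-- Over an algebraically closed field of characteristic zero, a finite commutative Hopf algebra
is reduced (Cartier) and linearly reductive (Maschke). -/
theorem isLinearlyReductive_of_finite_of_isAlgClosed [IsAlgClosed K] :
    IsLinearlyReductive K A := by
  haveI : IsReduced A := isReduced_of_isIdempotentElem_augI (k := K) (isIdempotentElem_augI (k := K) (A := A))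
  rw [isLinearlyReductive_iff_exists_isTrivIntegral]
  apply exists_isTrivIntegral_of_isReduced
  haveI : Nonempty (A →ₐ[K] K) := ⟨Bialgebra.counitAlgHom K A⟩
  exact Nat.cast_ne_zero.2 (Nat.card_pos).ne'

/-- A finite commutative Hopf algebra over a field of characteristic zero is linearly
reductive. -/
theorem isLinearlyReductive_of_finite : IsLinearlyReductive K A := by
  rw [isLinearlyReductive_baseChange_iff (K := AlgebraicClosure K)]
  haveI : CharZero (AlgebraicClosure K) := charZero_of_injective_algebraMap
    (algebraMap K (AlgebraicClosure K)).injective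
  exact isLinearlyReductive_of_finite_of_isAlgClosed

end Main

end Groth.Agent.Lib.Helper7.HopfFin
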