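import Mathlib
import Groth.Agent.Lib.Helper7.DualPrim
import Groth.Agent.Lib.Helper7.FrobFixed
import Groth.Agent.Lib.Helper7.HopfFinite

/-!
# Existence of primitive elements with `u ^ p = 0` or `u ^ p = u` (helper7)
-/

universe u v

open TensorProduct WithConv Polynomial

namespace Groth.Agent.Lib.Helper7.DualPrim

open Groth.Agent.Lib.Helper7.HopfCot

section PrimSub

variable {k : Type u} [Field k] {A : Type v} [CommRing A] [Bialgebra k A]

variable (k A) in
/-- the subspace of primitive elements. -/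
def primSub : Submodule k (D k A) where
  carrier := {u | IsPrim u}
  add_mem' := fun hu hv => hu.add hv
  zero_mem' := isPrim_zero
  smul_mem' := fun c _ hu => hu.smul c

lemma mem_primSub (u : D k A) : u ∈ primSub k A ↔ IsPrim u := Iff.rfl

lemma isPrim_dOf (l : (augI k A).Cotangent →ₗ[k] k) : IsPrim (toConv (dOf l) : D k A) := by
  rw [isPrim_iff]
  intro a b
  change dOf l (a * b) = dOf l a * _ + _ * dOf l b
  rw [dOf_mul]
  ring

end PrimSub

section Exists

variable (k : Type u) [Field k] [IsAlgClosed k] (p : ℕ) [Fact p.Prime] [CharP k p]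
  (A : Type v) [CommRing A] [HopfAlgebra k A] [Module.Finite k A]

theorem exists_prim (hA : ¬ IsReduced A) :
    ∃ u : D k A, u ≠ 0 ∧ IsPrim u ∧ (u ^ p = 0 ∨ u ^ p = u) := by
  classical
  -- a nonzero primitive element
  have hidem : ¬ IsIdempotentElem (augI k A) := fun h =>
    hA (HopfFin.isReduced_of_isIdempotentElem_augI (k := k) h)
  rw [← Ideal.cotangent_subsingleton_iff, not_subsingleton_iff_nontrivial] at hidem
  obtain ⟨c, hc⟩ := exists_ne (0 : (augI k A).Cotangent)
  obtain ⟨l, hl⟩ : ∃ l : (augI k A).Cotangent →ₗ[k] k, l c ≠ 0 := by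
    by_contra hcon
    push Not at hcon
    exact hc ((Module.forall_dual_apply_eq_zero_iff k c).1 hcon)
  obtain ⟨x₀, rfl⟩ := Ideal.toCotangent_surjective _ c
  set y : D k A := toConv (dOf l) with hy
  have hy0 : y ≠ 0 := by
    intro h
    apply hl
    have h1 : dOf l (x₀ : A) = 0 := congrArg (fun f : D k A => f (x₀ : A)) h
    rwa [dOf_of_mem l x₀.2] at h1
  have hyP : IsPrim y := isPrim_dOf l
  -- the commutative algebra generated by `y`
  haveI : Module.Finite k (D k A) := Module.Finite.equiv (WithConv.linearEquiv k (A →ₗ[k] k)).symm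
  let ev : k[X] →ₐ[k] D k A := aeval y
  let φ : (k[X] ⧸ RingHom.ker ev) →ₐ[k] D k A := Ideal.kerLiftAlg ev
  have hφ : Function.Injective φ := Ideal.kerLiftAlg_injective ev
  haveI : Module.Finite k (k[X] ⧸ RingHom.ker ev) := Module.Finite.of_injective φ.toLinearMap hφ
  have hcharD := charP_D (k := k) (A := A) p
  let V : Submodule k (k[X] ⧸ RingHom.ker ev) := (primSub k A).comap φ.toLinearMap
  have hX : φ (Ideal.Quotient.mk _ X) = y := by
    change ev X = y
    exact aeval_X y
  have hV : V ≠ ⊥ := by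
    rw [Submodule.ne_bot_iff]
    refine ⟨Ideal.Quotient.mk _ X, ?_, ?_⟩
    · change IsPrim (φ (Ideal.Quotient.mk _ X))
      rw [hX]
      exact hyP
    · intro h
      apply hy0
      rw [← hX, h, map_zero]
  have hF : ∀ v ∈ V, v ^ p ∈ V := by
    intro v hv
    change IsPrim (φ (v ^ p))
    rw [map_pow]
    exact IsPrim.pow_char hv p
  obtain ⟨w, hwV, hw0, hw⟩ := FrobFixed.exists_frob_fixed (k := k) p V hV hF
  refine ⟨φ w, fun h => hw0 (hφ (by rw [h, map_zero])), hwV, ?_⟩
  rcases hw with h | h
  · left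
    rw [← map_pow, h, map_zero]
  · right
    rw [← map_pow, h]

end Exists

end Groth.Agent.Lib.Helper7.DualPrim
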