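import Mathlib
import Groth.Agent.Lib.Helper7.GITBasic

universe u v

open TensorProduct

namespace Groth.Agent.Lib.Helper7.PiZero

open Groth.Agent.Lib.Helper7

section Points

variable {k : Type u} [Field k] [IsAlgClosed k] {R : Type v} [CommRing R] [Algebra k R]
  [Algebra.FiniteType k R]

/-- an element of a finite type algebra over an algebraically closed field vanishing at all
rational points is nilpotent. -/
lemma isNilpotent_of_forall_point (r : R) (h : ∀ x : R →ₐ[k] k, x r = 0) : IsNilpotent r := by
  haveI : IsJacobsonRing R := isJacobsonRing_of_finiteType (A := k) (B := R)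
  have hrad : (nilradical R).IsRadical := Ideal.radical_isRadical _
  have hjac := IsJacobsonRing.out (R := R) inferInstance hrad
  rw [← mem_nilradical, ← hjac, Ideal.jacobson, Ideal.mem_sInf]
  rintro M ⟨-, hM⟩
  obtain ⟨χ, hχ⟩ := Comod.exists_algHom_of_ne_top (k := k) M hM.ne_top
  have : M = RingHom.ker χ := hM.eq_of_le (RingHom.ker_ne_top _) hχ
  rw [this, RingHom.mem_ker]
  exact h χ

omit [IsAlgClosed k] [Algebra.FiniteType k R] in
/-- idempotents with nilpotent difference are equal. -/
lemma eq_of_isNilpotent_sub {e f : R} (he : IsIdempotentElem e) (hf : IsIdempotentElem f)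
    (h : IsNilpotent (e - f)) : e = f := by
  have h3 : (e - f) ^ 3 = e - f := by
    have he' : e * e = e := he
    have hf' : f * f = f := hf
    have : (e - f) ^ 3 = e * e * e - 3 * (e * e) * f + 3 * e * (f * f) - f * f * f := by ring
    rw [this, he', he', hf', hf']
    ring
  have hpow : ∀ n : ℕ, (e - f) ^ 3 ^ n = e - f := by
    intro n
    induction n with
    | zero => simp
    | succ n ih => rw [pow_succ, pow_mul, ih, h3]
  obtain ⟨N, hN⟩ := h
  have h1 := hpow N
  have hle : N ≤ 3 ^ N := (Nat.lt_pow_self (by norm_num)).le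
  rw [← Nat.sub_add_cancel hle, pow_add, hN, mul_zero] at h1
  exact sub_eq_zero.1 h1.symm

omit [IsAlgClosed k] [Algebra.FiniteType k R] in
lemma point_idem {e : R} (he : IsIdempotentElem e) (x : R →ₐ[k] k) : x e = 0 ∨ x e = 1 := by
  have h : x e * x e = x e := by rw [← map_mul, he.eq]
  have h2 : x e * (x e - 1) = 0 := by rw [mul_sub, h, mul_one, sub_self]
  rcases mul_eq_zero.1 h2 with h3 | h3
  · exact Or.inl h3
  · exact Or.inr (sub_eq_zero.1 h3)

/-- idempotents are determined by their values at points. -/
lemma idem_eq_of_forall_point {e f : R} (he : IsIdempotentElem e) (hf : IsIdempotentElem f)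
    (h : ∀ x : R →ₐ[k] k, x e = x f) : e = f :=
  eq_of_isNilpotent_sub he hf (isNilpotent_of_forall_point (k := k) _ (fun x => by
    rw [map_sub, h x, sub_self]))

end Points

section Finite

variable {R : Type v} [CommRing R]

lemma idem_eq_zero_of_isNilpotent {e : R} (he : IsIdempotentElem e) (h : IsNilpotent e) : e = 0 := by
  obtain ⟨n, hn⟩ := h
  rcases Nat.eq_zero_or_pos n with h0 | h0
  · rw [h0, pow_zero] at hn
    rw [← mul_one e, hn, mul_zero]
  · rw [he.pow_eq h0.ne'] at hn
    exact hn

/-- a Noetherian ring has finitely many idempotents. -/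
lemma finite_idempotents [IsNoetherianRing R] : {e : R | IsIdempotentElem e}.Finite := by
  classical
  let φ : R → Set (Ideal R) := fun e => {p | p ∈ minimalPrimes R ∧ e ∈ p}
  have hfin : (minimalPrimes R).Finite := minimalPrimes.finite_of_isNoetherianRing R
  apply Set.Finite.of_finite_image (f := φ)
  · apply Set.Finite.subset hfin.finite_subsets
    rintro _ ⟨e, -, rfl⟩
    intro p hp
    exact hp.1
  · intro e he f hf hef
    have key : ∀ e f : R, IsIdempotentElem e → IsIdempotentElem f → φ e = φ f →
        e * (1 - f) = 0 := by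
      intro e f he hf hef
      apply idem_eq_zero_of_isNilpotent (he.mul hf.one_sub)
      rw [← mem_nilradical, nilradical, ← Ideal.sInf_minimalPrimes, Ideal.mem_sInf]
      intro p hp
      have hp' : p.IsPrime := hp.1.1
      by_cases hep : e ∈ p
      · exact p.mul_mem_right _ hep
      · have hfp : f ∉ p := by
          intro hfp
          have : p ∈ φ f := ⟨hp, hfp⟩
          rw [← hef] at this
          exact hep this.2
        have h0 : f * (1 - f) ∈ p := by
          rw [mul_sub, mul_one, hf.eq, sub_self]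
          exact p.zero_mem
        exact p.mul_mem_left _ ((hp'.mem_or_mem h0).resolve_left hfp)
    have h1 := key e f he hf hef
    have h2 := key f e hf he hef.symm
    rw [mul_sub, mul_one, sub_eq_zero] at h1 h2
    calc e = e * f := h1
      _ = f * e := mul_comm _ _
      _ = f := h2.symm

end Finite

section Comp

variable {k : Type u} [Field k] [IsAlgClosed k] {R : Type v} [CommRing R] [Algebra k R]
  [Algebra.FiniteType k R]

variable (k R) in
/-- the finite set of idempotents. -/
noncomputable def idem : Finset R :=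
  haveI : IsNoetherianRing R := Algebra.FiniteType.isNoetherianRing k R
  (finite_idempotents (R := R)).toFinset

omit [IsAlgClosed k] in
lemma mem_idem {e : R} : e ∈ idem k R ↔ IsIdempotentElem e := by
  unfold idem
  simp

open Classical in
/-- the component idempotent of a point: the product of all idempotents taking the value `1`. -/
noncomputable def comp (x : R →ₐ[k] k) : R := ∏ f ∈ (idem k R).filter (fun f => x f = 1), f

omit [IsAlgClosed k] in
lemma isIdempotentElem_prod {ι : Type*} (s : Finset ι) (g : ι → R)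
    (h : ∀ i ∈ s, IsIdempotentElem (g i)) : IsIdempotentElem (∏ i ∈ s, g i) := by
  classical
  induction s using Finset.induction_on with
  | empty => simp [IsIdempotentElem]
  | insert a s ha ih =>
    rw [Finset.prod_insert ha]
    exact (h a (Finset.mem_insert_self a s)).mul (ih fun i hi => h i (Finset.mem_insert_of_mem hi))

omit [IsAlgClosed k] in
lemma comp_idem (x : R →ₐ[k] k) : IsIdempotentElem (comp x) := by
  classical
  unfold comp
  apply isIdempotentElem_prod
  intro f hf
  exact mem_idem.1 (Finset.mem_filter.1 hf).1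

omit [IsAlgClosed k] in
lemma point_comp (x : R →ₐ[k] k) : x (comp x) = 1 := by
  classical
  unfold comp
  rw [map_prod]
  apply Finset.prod_eq_one
  intro f hf
  exact (Finset.mem_filter.1 hf).2

omit [IsAlgClosed k] in
lemma comp_mul_of_point_eq_one (x : R →ₐ[k] k) {f : R} (hf : IsIdempotentElem f) (hx : x f = 1) :
    comp x * f = comp x := by
  classical
  unfold comp
  have hmem : f ∈ (idem k R).filter (fun f => x f = 1) :=
    Finset.mem_filter.2 ⟨mem_idem.2 hf, hx⟩
  rw [← Finset.mul_prod_erase _ _ hmem, mul_comm, ← mul_assoc, hf.eq]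

omit [IsAlgClosed k] in
lemma comp_mul_of_point_eq_zero (x : R →ₐ[k] k) {f : R} (hf : IsIdempotentElem f) (hx : x f = 0) :
    comp x * f = 0 := by
  have h1 := comp_mul_of_point_eq_one x hf.one_sub (by rw [map_sub, map_one, hx, sub_zero])
  rw [mul_sub, mul_one, sub_eq_self] at h1
  exact h1

omit [IsAlgClosed k] in
lemma comp_mul_idem (x : R →ₐ[k] k) {f : R} (hf : IsIdempotentElem f) :
    comp x * f = x f • comp x := by
  rcases point_idem hf x with h | h
  · rw [comp_mul_of_point_eq_zero x hf h, h, zero_smul]
  · rw [comp_mul_of_point_eq_one x hf h, h, one_smul]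

omit [IsAlgClosed k] in
lemma comp_ne_zero (x : R →ₐ[k] k) : comp x ≠ 0 := by
  intro h
  have := point_comp x
  rw [h, map_zero] at this
  exact zero_ne_one this

omit [IsAlgClosed k] in
lemma point_comp_eq_one_iff (x y : R →ₐ[k] k) : y (comp x) = 1 ↔ comp y = comp x := by
  constructor
  · intro h
    have h1 := comp_mul_of_point_eq_one y (comp_idem x) h
    have h2 := comp_mul_idem x (comp_idem y)
    rw [mul_comm, h1] at h2
    rcases point_idem (comp_idem y) x with h3 | h3
    · rw [h3, zero_smul] at h2
      exact absurd h2 (comp_ne_zero y)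
    · rw [h3, one_smul] at h2
      exact h2
  · intro h
    rw [← h]
    exact point_comp y

omit [IsAlgClosed k] in
lemma point_comp_of_ne (x y : R →ₐ[k] k) (h : comp y ≠ comp x) : y (comp x) = 0 := by
  rcases point_idem (comp_idem x) y with h1 | h1
  · exact h1
  · exact absurd ((point_comp_eq_one_iff x y).1 h1) h

omit [IsAlgClosed k] in
lemma comp_mul_comp_of_ne (x y : R →ₐ[k] k) (h : comp y ≠ comp x) : comp y * comp x = 0 :=
  comp_mul_of_point_eq_zero y (comp_idem x) (point_comp_of_ne x y h)

omit [IsAlgClosed k] in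
/-- idempotents are constant on components. -/
lemma point_idem_eq_of_comp_eq {x y : R →ₐ[k] k} (h : comp x = comp y) {f : R}
    (hf : IsIdempotentElem f) : x f = y f := by
  have h1 := congrArg y (comp_mul_idem x hf)
  rw [map_mul, map_smul, h, point_comp, smul_eq_mul, mul_one, one_mul] at h1
  exact h1.symm

/-- separable elements are constant on components. -/
lemma sub_mul_comp_eq_zero {b : R} (hb : IsSeparable k b) (x : R →ₐ[k] k) :
    (b - algebraMap k R (x b)) * comp x = 0 := by
  set c := x b with hc
  set m := minpoly k b with hm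
  have hmb : Polynomial.aeval b m = 0 := minpoly.aeval k b
  have hroot : m.IsRoot c := by
    have h1 := congrArg x hmb
    rw [← Polynomial.aeval_algHom_apply, map_zero, Polynomial.coe_aeval_eq_eval] at h1
    exact h1
  obtain ⟨Q, hQ⟩ := Polynomial.dvd_iff_isRoot.2 hroot
  have hsep : (m).Separable := hb
  rw [hQ] at hsep
  obtain ⟨U, V, hUV⟩ := hsep.isCoprime
  set e := Polynomial.aeval b (V * Q) with he
  have hmul : ∀ W : Polynomial k, Polynomial.aeval b (W * m) = 0 := by
    intro W
    rw [map_mul, hmb, mul_zero]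
  have he1 : (1 : R) - e = Polynomial.aeval b (U * (Polynomial.X - Polynomial.C c)) := by
    have h1 : (1 : R) = Polynomial.aeval b (1 : Polynomial k) := (map_one _).symm
    rw [he, h1, ← map_sub, ← hUV]
    congr 1
    ring
  have hidem : IsIdempotentElem e := by
    have h1 : e * (1 - e) = 0 := by
      rw [he1, he, ← map_mul]
      have : V * Q * (U * (Polynomial.X - Polynomial.C c)) = (U * V) * m := by
        rw [hQ]; ring
      rw [this, hmul]
    change e * e = e
    rw [mul_sub, mul_one, sub_eq_zero] at h1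
    exact h1.symm
  have hxe : x e = 1 := by
    have h1 : x (1 - e) = 0 := by
      rw [he1, ← Polynomial.aeval_algHom_apply, Polynomial.coe_aeval_eq_eval, Polynomial.eval_mul,
        Polynomial.eval_sub, Polynomial.eval_X, Polynomial.eval_C, sub_self, mul_zero]
    rw [map_sub, map_one, sub_eq_zero] at h1
    exact h1.symm
  have hbe : (b - algebraMap k R c) * e = 0 := by
    have h1 : b - algebraMap k R c = Polynomial.aeval b (Polynomial.X - Polynomial.C c) := by
      rw [map_sub, Polynomial.aeval_X, Polynomial.aeval_C]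
    rw [h1, he, ← map_mul]
    have : (Polynomial.X - Polynomial.C c) * (V * Q) = V * m := by
      rw [hQ]; ring
    rw [this, hmul]
  have h2 := comp_mul_of_point_eq_one x hidem hxe
  rw [← h2, mul_comm (comp x) e, ← mul_assoc, hbe, zero_mul]

variable (k R) in
open Classical in
/-- the set of component idempotents. -/
noncomputable def comps : Finset R := (idem k R).filter (fun ε => ∃ x : R →ₐ[k] k, comp x = ε)

omit [IsAlgClosed k] in
lemma mem_comps {ε : R} : ε ∈ comps k R ↔ ∃ x : R →ₐ[k] k, comp x = ε := by
  classical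
  unfold comps
  rw [Finset.mem_filter, mem_idem]
  constructor
  · exact fun h => h.2
  · rintro ⟨x, rfl⟩
    exact ⟨comp_idem x, x, rfl⟩

omit [IsAlgClosed k] in
lemma comp_mem_comps (x : R →ₐ[k] k) : comp x ∈ comps k R := mem_comps.2 ⟨x, rfl⟩

omit [IsAlgClosed k] in
lemma comps_idem {ε : R} (hε : ε ∈ comps k R) : IsIdempotentElem ε := by
  obtain ⟨x, rfl⟩ := mem_comps.1 hε
  exact comp_idem x

omit [IsAlgClosed k] in
lemma comps_orthogonal {ε η : R} (hε : ε ∈ comps k R) (hη : η ∈ comps k R) (h : ε ≠ η) :
    ε * η = 0 := by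
  obtain ⟨x, rfl⟩ := mem_comps.1 hε
  obtain ⟨y, rfl⟩ := mem_comps.1 hη
  exact comp_mul_comp_of_ne y x h

omit [IsAlgClosed k] in
open Classical in
lemma point_comps (x : R →ₐ[k] k) {ε : R} (hε : ε ∈ comps k R) :
    x ε = if ε = comp x then 1 else 0 := by
  obtain ⟨y, rfl⟩ := mem_comps.1 hε
  split_ifs with h
  · rw [h]; exact point_comp x
  · exact point_comp_of_ne y x (fun h' => h h'.symm)

omit [IsAlgClosed k] in
lemma point_sum_comps (x : R →ₐ[k] k) (g : R → k) :
    ∑ ε ∈ comps k R, g ε * x ε = g (comp x) := by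
  rw [Finset.sum_eq_single (comp x)]
  · rw [point_comp, mul_one]
  · intro ε hε hne
    rw [point_comps x hε, if_neg hne, mul_zero]
  · intro h
    exact absurd (comp_mem_comps x) h

omit [IsAlgClosed k] [Algebra.FiniteType k R] in
/-- a `0/1`-combination of pairwise orthogonal idempotents is idempotent. -/
lemma isIdempotentElem_sum {ι : Type*} (s : Finset ι) (t : ι → R) (w : ι → k)
    (ht : ∀ i ∈ s, IsIdempotentElem (t i)) (hort : ∀ i ∈ s, ∀ j ∈ s, i ≠ j → t i * t j = 0)
    (hw : ∀ i ∈ s, w i = 0 ∨ w i = 1) : IsIdempotentElem (∑ i ∈ s, w i • t i) := by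
  classical
  change (∑ i ∈ s, w i • t i) * (∑ i ∈ s, w i • t i) = _
  rw [Finset.sum_mul_sum]
  refine Finset.sum_congr rfl fun i hi => ?_
  rw [Finset.sum_eq_single i]
  · rw [smul_mul_smul_comm, (ht i hi).eq]
    rcases hw i hi with h | h <;> simp [h]
  · intro j hj hji
    rw [smul_mul_smul_comm, hort i hi j hj (Ne.symm hji), smul_zero]
  · intro h
    exact absurd hi h

lemma sum_comps : ∑ ε ∈ comps k R, ε = 1 := by
  have h1 : IsIdempotentElem (∑ ε ∈ comps k R, ε) := by
    have := isIdempotentElem_sum (k := k) (comps k R) (fun ε => ε) (fun _ => (1 : k))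
      (fun ε hε => comps_idem hε) (fun ε hε η hη h => comps_orthogonal hε hη h)
      (fun _ _ => Or.inr rfl)
    simpa using this
  apply idem_eq_of_forall_point (k := k) h1 IsIdempotentElem.one
  intro x
  rw [map_sum, map_one]
  have := point_sum_comps x (fun _ => (1 : k))
  simpa using this

/-- a separable element is a combination of component idempotents. -/
lemma separable_eq_sum {b : R} (hb : IsSeparable k b) :
    ∃ c : R → k, b = ∑ ε ∈ comps k R, c ε • ε := by
  classical
  refine ⟨fun ε => if h : ∃ x : R →ₐ[k] k, comp x = ε then (Classical.choose h) b else 0, ?_⟩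
  conv_lhs => rw [← mul_one b, ← sum_comps (k := k), Finset.mul_sum]
  refine Finset.sum_congr rfl fun ε hε => ?_
  have h := mem_comps.1 hε
  simp only
  rw [dif_pos h]
  have h1 := sub_mul_comp_eq_zero hb (Classical.choose h)
  rw [Classical.choose_spec h, sub_mul, sub_eq_zero, ← Algebra.smul_def] at h1
  exact h1

end Comp

section Tensor

variable {k : Type u} [Field k] [IsAlgClosed k] {R R' : Type v} [CommRing R] [CommRing R']
  [Algebra k R] [Algebra k R'] [Algebra.FiniteType k R] [Algebra.FiniteType k R']

/-- the point of `R ⊗ R'` attached to a pair of points. -/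
noncomputable def pt (x : R →ₐ[k] k) (y : R' →ₐ[k] k) : R ⊗[k] R' →ₐ[k] k :=
  Algebra.TensorProduct.lift x y (fun _ _ => Commute.all _ _)

omit [IsAlgClosed k] [Algebra.FiniteType k R] [Algebra.FiniteType k R'] in
@[simp] lemma pt_tmul (x : R →ₐ[k] k) (y : R' →ₐ[k] k) (a : R) (b : R') :
    pt x y (a ⊗ₜ[k] b) = x a * y b := by
  simp [pt]

/-- restriction to the slice `{x} × Spec R'`. -/
noncomputable def sliceL (x : R →ₐ[k] k) : R ⊗[k] R' →ₐ[k] R' :=
  Algebra.TensorProduct.lift ((Algebra.ofId k R').comp x) (AlgHom.id k R')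
    (fun _ _ => Commute.all _ _)

/-- restriction to the slice `Spec R × {y}`. -/
noncomputable def sliceR (y : R' →ₐ[k] k) : R ⊗[k] R' →ₐ[k] R :=
  Algebra.TensorProduct.lift (AlgHom.id k R) ((Algebra.ofId k R).comp y)
    (fun _ _ => Commute.all _ _)

omit [IsAlgClosed k] [Algebra.FiniteType k R] [Algebra.FiniteType k R'] in
lemma pt_eq_sliceL (x : R →ₐ[k] k) (y : R' →ₐ[k] k) : pt x y = y.comp (sliceL x) := by
  apply Algebra.TensorProduct.ext'
  intro a b
  simp [sliceL, Algebra.ofId_apply]

omit [IsAlgClosed k] [Algebra.FiniteType k R] [Algebra.FiniteType k R'] in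
lemma pt_eq_sliceR (x : R →ₐ[k] k) (y : R' →ₐ[k] k) : pt x y = x.comp (sliceR y) := by
  apply Algebra.TensorProduct.ext'
  intro a b
  simp [sliceR, Algebra.ofId_apply]

omit [IsAlgClosed k] [Algebra.FiniteType k R] [Algebra.FiniteType k R'] in
lemma eq_pt (z : R ⊗[k] R' →ₐ[k] k) :
    z = pt (z.comp Algebra.TensorProduct.includeLeft)
      (z.comp Algebra.TensorProduct.includeRight) := by
  apply Algebra.TensorProduct.ext'
  intro a b
  rw [pt_tmul, AlgHom.comp_apply, AlgHom.comp_apply, ← map_mul]
  simp

omit [IsAlgClosed k] in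
lemma pt_idem_congr {x x' : R →ₐ[k] k} {y y' : R' →ₐ[k] k} (hx : comp x = comp x')
    (hy : comp y = comp y') {E : R ⊗[k] R'} (hE : IsIdempotentElem E) :
    pt x y E = pt x' y' E := by
  have h1 : pt x y E = pt x y' E := by
    rw [pt_eq_sliceL, pt_eq_sliceL, AlgHom.comp_apply, AlgHom.comp_apply]
    exact point_idem_eq_of_comp_eq hy (hE.map (sliceL x))
  have h2 : pt x y' E = pt x' y' E := by
    rw [pt_eq_sliceR, pt_eq_sliceR, AlgHom.comp_apply, AlgHom.comp_apply]
    exact point_idem_eq_of_comp_eq hx (hE.map (sliceR y'))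
  rw [h1, h2]

omit [IsAlgClosed k] in
lemma finiteType_tensor : Algebra.FiniteType k (R ⊗[k] R') :=
  Algebra.FiniteType.trans (R := k) (S := R) (A := R ⊗[k] R') inferInstance inferInstance

variable (k R R') in
/-- products of idempotents. -/
def idemTensors : Set (R ⊗[k] R') :=
  {t | ∃ ε η, IsIdempotentElem ε ∧ IsIdempotentElem η ∧ t = ε ⊗ₜ[k] η}

/-- every idempotent of `R ⊗ R'` is a sum of products of idempotents. -/
theorem idem_mem_span {E : R ⊗[k] R'} (hE : IsIdempotentElem E) :
    E ∈ Submodule.span k (idemTensors k R R') := by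
  classical
  haveI := finiteType_tensor (k := k) (R := R) (R' := R')
  let w : R × R' → k := fun p =>
    if h : (∃ x : R →ₐ[k] k, comp x = p.1) ∧ (∃ y : R' →ₐ[k] k, comp y = p.2) then
      pt (Classical.choose h.1) (Classical.choose h.2) E else 0
  let t : R × R' → R ⊗[k] R' := fun p => p.1 ⊗ₜ[k] p.2
  let s : Finset (R × R') := comps k R ×ˢ comps k R'
  have hw : ∀ p ∈ s, w p = 0 ∨ w p = 1 := by
    intro p _
    simp only [w]
    split_ifs with h
    · exact point_idem hE _
    · exact Or.inl rfl
  have ht : ∀ p ∈ s, IsIdempotentElem (t p) := by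
    intro p hp
    have hp' := Finset.mem_product.1 hp
    change (p.1 ⊗ₜ[k] p.2) * (p.1 ⊗ₜ[k] p.2) = _
    rw [Algebra.TensorProduct.tmul_mul_tmul, (comps_idem hp'.1).eq, (comps_idem hp'.2).eq]
  have hort : ∀ p ∈ s, ∀ q ∈ s, p ≠ q → t p * t q = 0 := by
    intro p hp q hq hpq
    have hp' := Finset.mem_product.1 hp
    have hq' := Finset.mem_product.1 hq
    change (p.1 ⊗ₜ[k] p.2) * (q.1 ⊗ₜ[k] q.2) = _
    rw [Algebra.TensorProduct.tmul_mul_tmul]
    by_cases h1 : p.1 = q.1
    · have h2 : p.2 ≠ q.2 := fun h2 => hpq (Prod.ext h1 h2)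
      rw [comps_orthogonal hp'.2 hq'.2 h2, TensorProduct.tmul_zero]
    · rw [comps_orthogonal hp'.1 hq'.1 h1, TensorProduct.zero_tmul]
  have hE' : IsIdempotentElem (∑ p ∈ s, w p • t p) := isIdempotentElem_sum s t w ht hort hw
  have heq : E = ∑ p ∈ s, w p • t p := by
    apply idem_eq_of_forall_point (k := k) hE hE'
    intro z
    rw [eq_pt z]
    set x := z.comp Algebra.TensorProduct.includeLeft with hx
    set y := z.comp Algebra.TensorProduct.includeRight with hy
    rw [map_sum, Finset.sum_eq_single (comp x, comp y)]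
    · rw [map_smul, pt_tmul, point_comp, point_comp, mul_one, smul_eq_mul, mul_one]
      have h : (∃ x' : R →ₐ[k] k, comp x' = comp x) ∧ (∃ y' : R' →ₐ[k] k, comp y' = comp y) :=
        ⟨⟨x, rfl⟩, ⟨y, rfl⟩⟩
      simp only [w]
      rw [dif_pos h]
      exact pt_idem_congr (Classical.choose_spec h.1).symm (Classical.choose_spec h.2).symm hE
    · intro p hp hne
      have hp' := Finset.mem_product.1 hp
      rw [map_smul, pt_tmul, point_comps x hp'.1, point_comps y hp'.2]
      by_cases h1 : p.1 = comp x
      · have h2 : p.2 ≠ comp y := fun h2 => hne (Prod.ext h1 h2)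
        rw [if_neg h2, mul_zero, smul_zero]
      · rw [if_neg h1, zero_mul, smul_zero]
    · intro h
      exact absurd (Finset.mem_product.2 ⟨comp_mem_comps x, comp_mem_comps y⟩) h
  rw [heq]
  refine Submodule.sum_mem _ fun p hp => Submodule.smul_mem _ _ (Submodule.subset_span ?_)
  have hp' := Finset.mem_product.1 hp
  exact ⟨p.1, p.2, comps_idem hp'.1, comps_idem hp'.2, rfl⟩

/-- every separable element of `R ⊗ R'` is a combination of products of idempotents. -/
theorem separable_mem_span {u : R ⊗[k] R'} (hu : IsSeparable k u) :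
    u ∈ Submodule.span k (idemTensors k R R') := by
  haveI := finiteType_tensor (k := k) (R := R) (R' := R')
  obtain ⟨c, hc⟩ := separable_eq_sum (k := k) hu
  rw [hc]
  exact Submodule.sum_mem _ fun θ hθ =>
    Submodule.smul_mem _ _ (idem_mem_span (comps_idem hθ))

end Tensor

end Groth.Agent.Lib.Helper7.PiZero
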