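import Groth.Agent.Lib.Helper7.MT2
import Groth.Agent.Lib.Helper7.PiZero
import Mathlib.RingTheory.Unramified.Finite

/-!
# Maps from unramified algebras to connected pointed algebras; geometric connectedness (helper7)

* `algHom_eq_of_connected`: two algebra maps from a (formally) unramified algebra of finite type
  to a connected algebra `R` with an augmentation agree as soon as they agree after the
  augmentation (separability idempotent).
* `noIdem_baseChange`: a connected bialgebra of finite type over `k` stays connected after a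
  Galois extension of scalars (the augmentation gives a rational point).
-/

set_option autoImplicit false

namespace Groth.Agent.Lib.Helper7.ER

open TensorProduct Groth.Agent.Lib.Helper7.MT

universe u v w

section Uniq

variable {k : Type u} [CommRing k] {C : Type v} [CommRing C] [Algebra k C]
  [Algebra.FormallyUnramified k C] [Algebra.EssFiniteType k C]
  {R : Type w} [CommRing R] [Algebra k R]

theorem algHom_eq_of_connected (hR : ∀ e : R, IsIdempotentElem e → e = 0 ∨ e = 1)
    (ε : R →ₐ[k] k) (hk : (1 : k) ≠ 0) (f g : C →ₐ[k] R) (h : ε.comp f = ε.comp g) : f = g := by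
  let L : C ⊗[k] C →ₐ[k] R := Algebra.TensorProduct.lift f g (fun _ _ => Commute.all _ _)
  have hL : ∀ a b : C, L (a ⊗ₜ[k] b) = f a * g b := fun a b => by
    simp [L]
  set t := Algebra.FormallyUnramified.elem k C with ht
  set E := L t with hE
  have h1 : ∀ s : C, g s * E = f s * E := by
    intro s
    have := congrArg L (Algebra.FormallyUnramified.one_tmul_mul_elem (R := k) (S := C) s)
    rw [map_mul, map_mul, hL, hL, map_one, map_one, one_mul, mul_one] at this
    exact this
  have h2 : ∀ z : C ⊗[k] C, L z * E = f (Algebra.TensorProduct.lmul' k z) * E := by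
    intro z
    induction z using TensorProduct.induction_on with
    | zero => simp
    | tmul a b =>
      rw [hL, Algebra.TensorProduct.lmul'_apply_tmul, map_mul, mul_assoc, h1 b, ← mul_assoc]
    | add y z hy hz => rw [map_add, add_mul, hy, hz, map_add, map_add, add_mul]
  have hidem : IsIdempotentElem E := by
    change E * E = E
    have := h2 t
    rw [Algebra.FormallyUnramified.lmul_elem, map_one, one_mul] at this
    exact this
  have hεL : ∀ z : C ⊗[k] C, ε (L z) = ε (f (Algebra.TensorProduct.lmul' k z)) := by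
    intro z
    induction z using TensorProduct.induction_on with
    | zero => simp
    | tmul a b =>
      rw [hL, Algebra.TensorProduct.lmul'_apply_tmul, map_mul, map_mul, map_mul]
      have : ε (g b) = ε (f b) := (AlgHom.congr_fun h b).symm
      rw [this]
    | add y z hy hz => simp only [map_add, hy, hz]
  have hεE : ε E = 1 := by
    rw [hE, hεL, Algebra.FormallyUnramified.lmul_elem, map_one, map_one]
  have hE1 : E = 1 := by
    rcases hR E hidem with h0 | h0
    · rw [h0, map_zero] at hεE
      exact absurd hεE.symm hk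
    · exact h0
  apply AlgHom.ext
  intro s
  have := h1 s
  rw [hE1, mul_one, mul_one] at this
  exact this.symm

end Uniq

section Conn

variable {k : Type u} {K : Type v} [Field k] [Field K] [Algebra k K]
  {B : Type w} [CommRing B] [Bialgebra k B]

lemma sig_symm_sig (σ : K ≃ₐ[k] K) (x : K ⊗[k] B) : sig σ.symm B (sig σ B x) = x := by
  induction x using TensorProduct.induction_on with
  | zero => simp
  | tmul c b => rw [sig_tmul, sig_tmul, AlgEquiv.symm_apply_apply]
  | add y z hy hz => rw [map_add, map_add, hy, hz]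

lemma sig_sig_symm (σ : K ≃ₐ[k] K) (x : K ⊗[k] B) : sig σ B (sig σ.symm B x) = x := by
  induction x using TensorProduct.induction_on with
  | zero => simp
  | tmul c b => rw [sig_tmul, sig_tmul, AlgEquiv.apply_symm_apply]
  | add y z hy hz => rw [map_add, map_add, hy, hz]

lemma isIdempotentElem_sig (σ : K ≃ₐ[k] K) {e : K ⊗[k] B} (he : IsIdempotentElem e) :
    IsIdempotentElem (sig σ B e) := by
  change sig σ B e * sig σ B e = sig σ B e
  rw [← sig_mul, he.eq]

theorem noIdem_baseChange [IsGalois k K] [Algebra.FiniteType k B] (hB : ∀ e : B, IsIdempotentElem e → e = 0 ∨ e = 1) :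
    ∀ e : K ⊗[k] B, IsIdempotentElem e → e = 0 ∨ e = 1 := by
  classical
  haveI : IsNoetherianRing (K ⊗[k] B) := Algebra.FiniteType.isNoetherianRing K (K ⊗[k] B)
  have hfin := Groth.Agent.Lib.Helper7.PiZero.finite_idempotents (R := K ⊗[k] B)
  let cu : K ⊗[k] B →ₐ[K] K := Bialgebra.counitAlgHom K (K ⊗[k] B)
  have hcu : ∀ x, cu x = Coalgebra.counit (R := K) x := fun _ => rfl
  let S : Finset (K ⊗[k] B) := hfin.toFinset.filter (fun f => cu f = 1)
  have hS : ∀ f, f ∈ S ↔ IsIdempotentElem f ∧ cu f = 1 := by
    intro f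
    simp [S]
  set e₀ : K ⊗[k] B := ∏ f ∈ S, f with he₀
  have hidem₀ : IsIdempotentElem e₀ :=
    Groth.Agent.Lib.Helper7.PiZero.isIdempotentElem_prod S (fun f => f)
      (fun f hf => ((hS f).1 hf).1)
  have hcu₀ : cu e₀ = 1 := by
    rw [he₀, map_prod]
    exact Finset.prod_eq_one (fun f hf => ((hS f).1 hf).2)
  have hmin : ∀ g, IsIdempotentElem g → cu g = 1 → e₀ * g = e₀ := by
    intro g hg hg1
    have hgS : g ∈ S := (hS g).2 ⟨hg, hg1⟩
    rw [he₀, ← Finset.mul_prod_erase S (fun f => f) hgS, mul_comm, ← mul_assoc, hg.eq]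
  -- Galois invariance
  have hinv : ∀ σ : K ≃ₐ[k] K, sig σ B e₀ = e₀ := by
    intro σ
    set e₁ := sig σ B e₀ with he₁
    have hid₁ : IsIdempotentElem e₁ := isIdempotentElem_sig σ hidem₀
    have hcu₁ : cu e₁ = 1 := by
      rw [hcu, he₁, counit_sig, ← hcu, hcu₀, map_one]
    have hmin₁ : ∀ g, IsIdempotentElem g → cu g = 1 → e₁ * g = e₁ := by
      intro g hg hg1
      have h1 : cu (sig σ.symm B g) = 1 := by
        rw [hcu, counit_sig, ← hcu, hg1, map_one]
      have h2 := hmin _ (isIdempotentElem_sig σ.symm hg) h1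
      have h3 := congrArg (sig σ B) h2
      rw [sig_mul, sig_sig_symm] at h3
      exact h3
    have h4 := hmin e₁ hid₁ hcu₁
    have h5 := hmin₁ e₀ hidem₀ hcu₀
    rw [mul_comm] at h5
    rw [← h5, h4]
  obtain ⟨b, hb⟩ := exists_one_tmul_eq_of_fixed e₀ hinv
  have hinj := one_tmul_injective (k := k) (K := K) B
  have hbid : IsIdempotentElem b := by
    apply hinj
    change (1 : K) ⊗ₜ[k] (b * b) = (1 : K) ⊗ₜ[k] b
    have : ((1 : K) ⊗ₜ[k] (b * b) : K ⊗[k] B) = ((1 : K) ⊗ₜ[k] b) * ((1 : K) ⊗ₜ[k] b) := by
      rw [Algebra.TensorProduct.tmul_mul_tmul, one_mul]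
    rw [this, hb, hidem₀.eq]
  have hb1 : b = 1 := by
    rcases hB b hbid with h0 | h0
    · exfalso
      rw [h0, TensorProduct.tmul_zero] at hb
      rw [← hb, map_zero] at hcu₀
      exact zero_ne_one hcu₀
    · exact h0
  have he₀1 : e₀ = 1 := by
    rw [← hb, hb1, Algebra.TensorProduct.one_def]
  intro g hg
  have hcg : cu g = 0 ∨ cu g = 1 := by
    have h1 : cu g * cu g = cu g := by rw [← map_mul, hg.eq]
    have h2 : cu g * (cu g - 1) = 0 := by rw [mul_sub, h1, mul_one, sub_self]
    rcases mul_eq_zero.1 h2 with h3 | h3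
    · exact Or.inl h3
    · exact Or.inr (sub_eq_zero.1 h3)
  rcases hcg with h0 | h1
  · left
    have h2 := hmin (1 - g) hg.one_sub (by rw [map_sub, map_one, h0, sub_zero])
    rw [he₀1, one_mul] at h2
    exact sub_eq_self.1 h2 |>.symm ▸ rfl
  · right
    have h2 := hmin g hg h1
    rw [he₀1, one_mul] at h2
    exact h2

end Conn

end Groth.Agent.Lib.Helper7.ER
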