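import Groth.Agent.Lib.Helper7.TS9
import Groth.Agent.Lib.Helper7.ER1
import Groth.Agent.Lib.Helper7.HopfRetract
import Groth.Agent.Lib.Helper7.DiagSepClosed
import Groth.Agent.Lib.Helper7.DiagIso
import Mathlib.RingTheory.Etale.Field

/-!
# Liftings of a connected group of multiplicative type in an extension by an étale unipotent
group: uniqueness, and existence over a separably closed field (helper7)
-/

set_option autoImplicit false

namespace Groth.Agent.Lib.Helper7.ER

open TensorProduct HopfRep Groth.Agent.Lib.Helper7.MT Polynomial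

universe u

section EtSep

variable (K : Type u) [Field K] (C : Type u) [CommRing C] [Algebra K C]

/-- every element of an étale algebra over a field is separable. -/
theorem isSeparable_of_formallyEtale [Algebra.FormallyEtale K C] [Algebra.EssFiniteType K C]
    (x : C) : IsSeparable K x := by
  classical
  obtain ⟨I, hI, Ai, _, _, e, hsep⟩ :=
    (Algebra.FormallyEtale.iff_exists_algEquiv_prod K C).1 inferInstance
  haveI : Fintype I := Fintype.ofFinite I
  set y := e x with hy
  let μ : I → K[X] := fun i => minpoly K (y i)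
  have hμsep' : ∀ i, IsSeparable K (y i) := fun i =>
    haveI := hsep i
    Algebra.IsSeparable.isSeparable K (y i)
  have hμsep : ∀ i, (μ i).Separable := fun i => hμsep' i
  have hμint : ∀ i, IsIntegral K (y i) := fun i => (hμsep' i).isIntegral
  have hμirr : ∀ i, Irreducible (μ i) := fun i => minpoly.irreducible (hμint i)
  have hμmon : ∀ i, (μ i).Monic := fun i => minpoly.monic (hμint i)
  let S : Finset K[X] := Finset.univ.image μ
  set P : K[X] := ∏ p ∈ S, p with hP
  have hPsep : P.Separable := by
    apply Polynomial.separable_prod'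
    · intro p hp q hq hpq
      obtain ⟨i, -, rfl⟩ := Finset.mem_image.1 hp
      obtain ⟨j, -, rfl⟩ := Finset.mem_image.1 hq
      rcases (hμirr i).isCoprime_or_dvd (μ j) with h | h
      · exact h
      · exfalso
        apply hpq
        have h2 : Associated (μ i) (μ j) :=
          (hμirr i).associated_of_dvd (hμirr j) h
        exact Polynomial.eq_of_monic_of_associated (hμmon i) (hμmon j) h2
    · intro p hp
      obtain ⟨i, -, rfl⟩ := Finset.mem_image.1 hp
      exact hμsep i
  have hPy : aeval y P = 0 := by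
    funext i
    have h1 := Polynomial.aeval_algHom_apply (Pi.evalAlgHom K Ai i) y P
    have h2 : (Pi.evalAlgHom K Ai i) y = y i := rfl
    rw [h2] at h1
    have h3 : (Pi.evalAlgHom K Ai i) (aeval y P) = (aeval y P) i := rfl
    rw [← h3, ← h1]
    have hdvd : μ i ∣ P := Finset.dvd_prod_of_mem (fun p => p) (Finset.mem_image_of_mem μ (Finset.mem_univ i))
    obtain ⟨Q, hQ⟩ := hdvd
    rw [hQ, map_mul, minpoly.aeval, zero_mul]
    rfl
  have hPx : aeval x P = 0 := by
    apply e.injective
    have h1 := Polynomial.aeval_algHom_apply (e.toAlgHom) x P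
    rw [map_zero]
    exact h1.symm.trans hPy
  exact hPsep.of_dvd (minpoly.dvd K x hPx)

end EtSep

section Uniq

variable {k : Type u} [Field k] {A B : Type u} [CommRing A] [HopfAlgebra k A] [CommRing B]
  [HopfAlgebra k B] (ψ : B →ₐc[k] A) (J : Ideal A) [J.IsHopfIdeal k]

/-- uniqueness of algebra retractions compatible with the counit. -/
theorem retraction_unique
    (hJ : J = Ideal.map (ψ : B →+* A) (RingHom.ker (Bialgebra.counitAlgHom k B)))
    [Algebra.FormallyUnramified k (A ⧸ J)] [Algebra.EssFiniteType k (A ⧸ J)]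
    (hH : ∀ e : B, IsIdempotentElem e → e = 0 ∨ e = 1)
    (r₁ r₂ : A →ₐ[k] B) (h₁ : r₁.comp (ψ : B →ₐ[k] A) = AlgHom.id k B)
    (h₂ : r₂.comp (ψ : B →ₐ[k] A) = AlgHom.id k B)
    (hε₁ : (Bialgebra.counitAlgHom k B).comp r₁ = Bialgebra.counitAlgHom k A)
    (hε₂ : (Bialgebra.counitAlgHom k B).comp r₂ = Bialgebra.counitAlgHom k A) : r₁ = r₂ := by
  set S := HopfAlgebra.antipodeAlgHom k A with hS
  set M : WithConv (A →ₐ[k] B) := WithConv.toConv r₁ * WithConv.toConv (r₂.comp S) with hM
  -- `M ∘ ψ = 1`
  have hMψ : M.ofConv.comp (ψ : B →ₐ[k] A) = (1 : WithConv (B →ₐ[k] B)).ofConv := by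
    have e1 := AlgHom.convMul_comp_bialgHom_distrib (WithConv.toConv r₁)
      (WithConv.toConv (r₂.comp S)) ψ
    have e2 := AlgHom.convMul_comp_bialgHom_distrib (WithConv.toConv r₂)
      (WithConv.toConv (r₂.comp S)) ψ
    rw [HopfConv.self_mul_antipode r₂, HopfConv.convOne_comp_bialgHom] at e2
    rw [hM, e1]
    simp only [WithConv.ofConv_toConv] at e1 e2 ⊢
    rw [h₁, ← h₂]
    exact e2.symm
  have hkill : ∀ a ∈ J, M.ofConv a = 0 := by
    intro a ha
    rw [hJ] at ha
    exact HopfRetract.eq_zero_of_mem_kerIdeal ψ M.ofConv hMψ a ha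
  let mbar : (A ⧸ J) →ₐ[k] B := Ideal.Quotient.liftₐ J M.ofConv hkill
  have hmbar : ∀ a, mbar (Ideal.Quotient.mk J a) = M.ofConv a := fun a => rfl
  -- counit of `M`
  have hεM : (Bialgebra.counitAlgHom k B).comp M.ofConv = (1 : WithConv (A →ₐ[k] k)).ofConv := by
    have e1 := AlgHom.comp_convMul_distrib (Bialgebra.counitAlgHom k B) (WithConv.toConv r₁)
      (WithConv.toConv (r₂.comp S))
    rw [hM, e1]
    simp only [WithConv.ofConv_toConv]
    rw [hε₁, ← AlgHom.comp_assoc, hε₂, HopfConv.self_mul_antipode]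
  let g : (A ⧸ J) →ₐ[k] B := (1 : WithConv ((A ⧸ J) →ₐ[k] B)).ofConv
  have hfg : (Bialgebra.counitAlgHom k B).comp mbar = (Bialgebra.counitAlgHom k B).comp g := by
    apply AlgHom.ext
    intro q
    obtain ⟨a, rfl⟩ := Ideal.Quotient.mk_surjective q
    rw [AlgHom.comp_apply, hmbar, ← AlgHom.comp_apply, hεM]
    simp [g, AlgHom.convOne_def]
  have hk : (1 : k) ≠ 0 := one_ne_zero
  have hmg := algHom_eq_of_connected hH (Bialgebra.counitAlgHom k B) hk mbar g hfg
  have hM1 : M = 1 := by
    apply WithConv.ofConv_injective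
    apply AlgHom.ext
    intro a
    rw [← hmbar, hmg]
    simp [g, AlgHom.convOne_def]
  have h3 := HopfConv.antipode_mul_self r₂
  have h4 : WithConv.toConv r₁ = WithConv.toConv r₂ := by
    calc WithConv.toConv r₁ = WithConv.toConv r₁ * (WithConv.toConv (r₂.comp S) * WithConv.toConv r₂) := by
          rw [h3, mul_one]
      _ = M * WithConv.toConv r₂ := by rw [hM, mul_assoc]
      _ = WithConv.toConv r₂ := by rw [hM1, one_mul]
  exact WithConv.toConv_injective h4

end Uniq

end Groth.Agent.Lib.Helper7.ER
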