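import Mathlib
import Groth.Prelude.Def_CartDual2
import Groth.Agent.Lib.Helper7.HopfBCRing

/-!
# Base change of the Cartier dual (helper7)
-/

set_option autoImplicit false

namespace Groth.Agent.Lib.Helper7.IsoTr

open TensorProduct CartDual Groth.Agent.Lib.Helper7.BCR

universe u

section BC

variable (R : Type u) [CommRing R] (T : Type u) [CommRing T] [Algebra R T]
  (A : Type u) [CommRing A] [Bialgebra R A]

/-- base change of a functional, as an `R`-linear map of duals. -/
noncomputable def betaLin : (A →ₗ[R] R) →ₗ[R] (T ⊗[R] A →ₗ[T] T) :=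
  ((LinearEquiv.congrRight (AlgebraTensorModule.rid R T T) :
      (T ⊗[R] A →ₗ[T] T ⊗[R] R) ≃ₗ[T] (T ⊗[R] A →ₗ[T] T)).toLinearMap.restrictScalars R) ∘ₗ
    LinearMap.baseChangeHom R T A R

lemma betaLin_apply (x : A →ₗ[R] R) : betaLin R T A x = bcFun T x := rfl

lemma isBaseChange_betaLin [Module.Flat R T] [Module.FinitePresentation R A] :
    IsBaseChange T (betaLin R T A) := by
  have h := Module.FinitePresentation.isBaseChange_map R A R T
  refine IsBaseChange.of_equiv (h.equiv.trans (LinearEquiv.congrRight (AlgebraTensorModule.rid R T T)))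
    ?_
  intro x
  rw [LinearEquiv.trans_apply, h.equiv_tmul, one_smul]
  rfl

/-- base change of an element of the dual. -/
noncomputable def beta : D R A →ₗ[R] D T (T ⊗[R] A) :=
  (WithConv.linearEquiv R (T ⊗[R] A →ₗ[T] T)).symm.toLinearMap ∘ₗ
    betaLin R T A ∘ₗ (WithConv.linearEquiv R (A →ₗ[R] R)).toLinearMap

lemma beta_apply (x : D R A) : beta R T A x = WithConv.toConv (bcFun T x.ofConv) := rfl

lemma beta_apply_tmul (x : D R A) (t : T) (a : A) : beta R T A x (t ⊗ₜ[R] a) = x a • t := by
  rw [beta_apply, coe_apply, WithConv.ofConv_toConv, bcFun_tmul]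

lemma mul'_map_bcFun_bcPair (x y : A →ₗ[R] R) (t : T) (d : A ⊗[R] A) :
    LinearMap.mul' T T (TensorProduct.map (bcFun T x) (bcFun T y) (bcPair t d)) =
      (LinearMap.mul' R R (TensorProduct.map x y d)) • t := by
  induction d using TensorProduct.induction_on with
  | zero => simp
  | add d e hd he => rw [bcPair_add, map_add, map_add, hd, he, map_add, map_add, add_smul]
  | tmul a c =>
    rw [bcPair_tmul, TensorProduct.map_tmul, LinearMap.mul'_apply, bcFun_tmul, bcFun_tmul,
      TensorProduct.map_tmul, LinearMap.mul'_apply, smul_mul_smul_comm, one_mul]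

lemma beta_mul (x y : D R A) : beta R T A (x * y) = beta R T A x * beta R T A y := by
  apply WithConv.ext
  apply LinearMap.ext
  intro z
  induction z using TensorProduct.induction_on with
  | zero => simp
  | add z w hz hw => rw [map_add, map_add, hz, hw]
  | tmul t a =>
    have h1 : (beta R T A (x * y)).ofConv (t ⊗ₜ[R] a) = (x * y) a • t := beta_apply_tmul R T A _ t a
    rw [h1]
    change _ = (beta R T A x * beta R T A y) (t ⊗ₜ[R] a)
    rw [LinearMap.convMul_apply, LinearMap.convMul_apply, comul_tmul_eq, beta_apply, beta_apply,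
      WithConv.ofConv_toConv, WithConv.ofConv_toConv, mul'_map_bcFun_bcPair]

lemma beta_one : beta R T A 1 = 1 := by
  apply WithConv.ext
  apply LinearMap.ext
  intro z
  induction z using TensorProduct.induction_on with
  | zero => simp
  | add z w hz hw => rw [map_add, map_add, hz, hw]
  | tmul t a =>
    have h1 : (beta R T A 1).ofConv (t ⊗ₜ[R] a) = (1 : D R A) a • t := beta_apply_tmul R T A _ t a
    rw [h1]
    change _ = (1 : D T (T ⊗[R] A)) (t ⊗ₜ[R] a)
    rw [LinearMap.convOne_apply, LinearMap.convOne_apply, TensorProduct.counit_tmul,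
      CommSemiring.counit_apply, Algebra.algebraMap_self_apply, Algebra.algebraMap_self_apply]

end BC


section Equiv

variable (R : Type u) [CommRing R] (T : Type u) [CommRing T] [Algebra R T]
  (A : Type u) [CommRing A] [Bialgebra R A] [Module.Flat R T] [Module.FinitePresentation R A]

omit [Module.Flat R T] [Module.FinitePresentation R A] in
lemma isScalarTower_dual : IsScalarTower R T (D T (T ⊗[R] A)) := by
  refine ⟨fun c x f => ?_⟩
  apply WithConv.ofConv_injective
  apply LinearMap.ext
  intro a
  change (c • x) • (f.ofConv a) = c • (x • f.ofConv a)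
  rw [smul_assoc]

attribute [local instance] isScalarTower_dual

lemma isBaseChange_beta : IsBaseChange T (beta R T A) := by
  have h := isBaseChange_betaLin R T A
  refine IsBaseChange.of_equiv
    ((LinearEquiv.baseChange R T _ _ (WithConv.linearEquiv R (A →ₗ[R] R))).trans
      (h.equiv.trans (WithConv.linearEquiv T (T ⊗[R] A →ₗ[T] T)).symm)) ?_
  intro x
  rw [LinearEquiv.trans_apply, LinearEquiv.trans_apply, LinearEquiv.baseChange_tmul,
    h.equiv_tmul, one_smul]
  rfl

/-- The base change of the Cartier dual is the Cartier dual of the base change (algebras). -/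
noncomputable def dualBCEquiv : T ⊗[R] D R A ≃ₐ[T] D T (T ⊗[R] A) :=
  AlgEquiv.ofLinearEquiv (isBaseChange_beta R T A).equiv
    (by
      rw [Algebra.TensorProduct.one_def, IsBaseChange.equiv_tmul, one_smul, beta_one])
    (by
      intro x y
      let _ : Semiring (T ⊗[R] D R A) := inferInstance
      induction x using TensorProduct.induction_on with
      | zero => rw [zero_mul, map_zero, zero_mul]
      | add x x' hx hx' => rw [add_mul, map_add, hx, hx', map_add, add_mul]
      | tmul t x =>
        induction y using TensorProduct.induction_on with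
        | zero => rw [mul_zero, map_zero, mul_zero]
        | add y y' hy hy' => rw [mul_add, map_add, hy, hy', map_add, mul_add]
        | tmul t' y =>
          rw [Algebra.TensorProduct.tmul_mul_tmul, IsBaseChange.equiv_tmul, IsBaseChange.equiv_tmul,
            IsBaseChange.equiv_tmul, beta_mul, smul_mul_smul_comm])

lemma dualBCEquiv_tmul (t : T) (x : D R A) :
    dualBCEquiv R T A (t ⊗ₜ[R] x) = t • beta R T A x :=
  IsBaseChange.equiv_tmul (isBaseChange_beta R T A) t x

end Equiv

end Groth.Agent.Lib.Helper7.IsoTr
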