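import Mathlib
import Groth.Prelude.Def_CartDual2
import Groth.Agent.S15893

/-!
# Cartier duals and bases of group-like elements (helper7)
-/

set_option autoImplicit false

namespace Groth.Agent.Lib.Helper7.IsoTr

open TensorProduct CartDual

universe u

section Dual

variable {T : Type u} [CommRing T] {H : Type u} [CommRing H] [Bialgebra T H]
  {P : Type u}

/-- The dual of a bialgebra with a finite basis of group-likes is a product of copies of the base. -/
noncomputable def dualEquivPi (b : Module.Basis P T H) (hb : ∀ p, IsGroupLikeElem T (b p)) :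
    D T H ≃ₐ[T] (P → T) :=
  AlgEquiv.ofLinearEquiv ((WithConv.linearEquiv T (H →ₗ[T] T)).trans (b.constr T).symm)
    (by
      funext p
      change (1 : D T H) (b p) = 1
      rw [LinearMap.convOne_apply, (hb p).counit_eq_one, Algebra.algebraMap_self_apply])
    (by
      intro x y
      funext p
      change (x * y) (b p) = x (b p) * y (b p)
      rw [LinearMap.convMul_apply, (hb p).comul_eq_tmul_self, TensorProduct.map_tmul,
        LinearMap.mul'_apply])

lemma dualEquivPi_apply (b : Module.Basis P T H) (hb : ∀ p, IsGroupLikeElem T (b p)) (x : D T H)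
    (p : P) : dualEquivPi b hb x p = x (b p) := rfl

end Dual

section Split

variable {T : Type u} [CommRing T] {H : Type u} [CommRing H] [Bialgebra T H]
  [Module.Finite T H] [Module.Projective T H]

/-- an algebra homomorphism `B → T` is a group-like element of the dual of `B`. -/
lemma isGroupLikeElem_toConv {B : Type u} [Ring B] [Bialgebra T B] [Module.Finite T B]
    [Module.Projective T B] (χ : B →ₐ[T] T) :
    IsGroupLikeElem T (WithConv.toConv χ.toLinearMap : D T B) := by
  refine ⟨?_, ?_⟩
  · rw [counit_def]
    change (WithConv.toConv χ.toLinearMap : D T B) 1 = 1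
    rw [coe_apply, WithConv.ofConv_toConv, AlgHom.toLinearMap_apply, map_one]
  · rw [comul_def]
    apply (ev₂ T B).injective
    apply TensorProduct.ext'
    intro a c
    rw [ev₂_comul_tmul, ev₂_tmul, coe_apply, WithConv.ofConv_toConv, AlgHom.toLinearMap_apply,
      AlgHom.toLinearMap_apply, AlgHom.toLinearMap_apply, map_mul]


/-- If the dual of `H` is split, `H` has a basis of group-like elements. -/
theorem exists_basis_of_split (n : ℕ) (ε : D T H ≃ₐ[T] (Fin n → T)) :
    ∃ b : Module.Basis (Fin n) T H, ∀ k, IsGroupLikeElem T (b k) := by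
  classical
  set c : Module.Basis (Fin n) T (D T H) := (Pi.basisFun T (Fin n)).map ε.symm.toLinearEquiv with hc
  set c' : Module.Basis (Fin n) T (D T (D T H)) := c.dualBasis.map (toDual T (D T H)).symm with hc'
  let χ : Fin n → (D T H →ₐ[T] T) := fun k =>
    (Pi.evalAlgHom T (fun _ : Fin n => T) k).comp (ε : D T H →ₐ[T] (Fin n → T))
  have h1 : ∀ k, c' k = WithConv.toConv (χ k).toLinearMap := by
    intro k
    rw [hc', Module.Basis.map_apply, Module.Basis.coe_dualBasis]
    apply WithConv.ofConv_injective
    apply LinearMap.ext
    intro x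
    change c.coord k x = χ k x
    rw [Module.Basis.coord_apply, hc, Module.Basis.map_repr, LinearEquiv.trans_apply,
      Pi.basisFun_repr]
    rfl
  set E := Groth.Agent.S15893.evalEquiv T H with hE
  refine ⟨c'.map E.symm.toLinearEquiv, fun k => ?_⟩
  rw [Module.Basis.map_apply, h1]
  exact (isGroupLikeElem_toConv (χ k)).map E.symm

end Split

end Groth.Agent.Lib.Helper7.IsoTr
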