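import Mathlib
import Groth.Agent.Lib.Helper7.IsoTr1
import Groth.Agent.Lib.Helper7.IsoTr2
import Groth.Agent.Lib.Helper7.IsoTr3

/-!
# A finite locally free commutative group scheme with étale Cartier dual over a connected base is
isotrivial (helper7)
-/

set_option autoImplicit false

namespace Groth.Agent.Lib.Helper7.IsoTr

open TensorProduct CartDual Groth.Agent.Lib.Helper7.NilLift

universe u

/-- a finite flat finitely presented module over a connected base has constant rank. -/
lemma exists_rankAtStalk_eq (R : Type u) [CommRing R] [ConnectedSpace (PrimeSpectrum R)]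
    (M : Type u) [AddCommGroup M] [Module R M] [Module.FinitePresentation R M] [Module.Flat R M] :
    ∃ n : ℕ, Module.rankAtStalk (R := R) M = n := by
  obtain ⟨n, hn⟩ := (Module.isLocallyConstant_rankAtStalk (R := R) (M := M)).exists_eq_const
  refine ⟨n, ?_⟩
  rw [hn]
  rfl

/-- a nonzero finite flat finitely presented algebra over a connected base is faithfully flat. -/
lemma faithfullyFlat_of_connected (R : Type u) [CommRing R] [ConnectedSpace (PrimeSpectrum R)]
    (S : Type u) [CommRing S] [Algebra R S] [Module.Finite R S] [Module.FinitePresentation R S]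
    [Module.Flat R S] [Nontrivial S] : Module.FaithfullyFlat R S := by
  apply Module.FaithfullyFlat.of_comap_surjective
  rw [← PrimeSpectrum.rankAtStalk_pos_iff_comap_surjective]
  obtain ⟨n, hn⟩ := exists_rankAtStalk_eq R S
  intro p
  rw [hn]
  rcases Nat.eq_zero_or_pos n with rfl | h
  · exfalso
    rw [Nat.cast_zero, Module.rankAtStalk_eq_zero_iff_subsingleton] at hn
    exact not_subsingleton S hn
  · exact h


section Core

variable (R : Type u) [CommRing R] [ConnectedSpace (PrimeSpectrum R)]
  (A : Type u) [CommRing A] [HopfAlgebra R A] [Coalgebra.IsCocomm R A]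
  [Module.Finite R A] [Module.Projective R A]

theorem isIsotrivial_of_etale_dual [Algebra.Etale R (D R A)] : SGA3b.IsIsotrivial R A := by
  classical
  have : Nontrivial R := by
    obtain ⟨p⟩ := (inferInstance : Nonempty (PrimeSpectrum R))
    exact p.nontrivial
  have : Module.FinitePresentation R A := Module.finitePresentation_of_projective R A
  have : Module.FinitePresentation R (D R A) := Module.finitePresentation_of_projective R _
  obtain ⟨n, hn⟩ := exists_rankAtStalk_eq R (D R A)
  obtain ⟨T, _, _, hff, hfin, het, hsplit⟩ :=
    Algebra.IsFiniteSplit.exists_tensorProduct_of_etale (R := R) (S := D R A) hn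
  obtain ⟨n', ⟨ε₀⟩⟩ := hsplit.nonempty_algEquiv_fun
  have : Nontrivial T := (FaithfulSMul.algebraMap_injective R T).nontrivial
  let ε : D T (T ⊗[R] A) ≃ₐ[T] (Fin n' → T) := (dualBCEquiv R T A).symm.trans ε₀
  obtain ⟨b, hb⟩ := exists_basis_of_split (T := T) (H := T ⊗[R] A) n' ε
  -- the finitely many structure constants
  let L : Finset T :=
    (Finset.univ.image fun k : Fin n' => b.repr 1 k) ∪
    (Finset.univ.image fun ijk : Fin n' × Fin n' × Fin n' =>
      b.repr (b ijk.1 * b ijk.2.1) ijk.2.2) ∪
    (Finset.univ.image fun ik : Fin n' × Fin n' =>
      b.repr (HopfAlgebra.antipode T (b ik.1)) ik.2)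
  have hL : ∀ x ∈ L, IsIdempotentElem x := by
    intro x hx
    simp only [L, Finset.mem_union, Finset.mem_image, Finset.mem_univ, true_and] at hx
    rcases hx with (⟨k, rfl⟩ | ⟨ijk, rfl⟩) | ⟨ik, rfl⟩
    · exact repr_mul_self b hb IsGroupLikeElem.one k
    · exact repr_mul_self b hb ((hb _).mul (hb _)) _
    · exact repr_mul_self b hb (hb _).antipode _
  obtain ⟨e, he, he0, hLe⟩ := exists_idem L hL
  -- the localisation
  have : Nontrivial (Localization.Away e) := by
    rw [← not_subsingleton_iff_nontrivial,
      IsLocalization.subsingleton_iff (M := Submonoid.powers e)]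
    rintro ⟨k, hk⟩
    simp only at hk
    rcases Nat.eq_zero_or_pos k with rfl | hk0
    · rw [pow_zero] at hk; exact one_ne_zero hk
    · rw [he.pow_eq hk0.ne'] at hk; exact he0 hk
  have hρe : algebraMap T (Localization.Away e) e = 1 := by
    have hu : IsUnit (algebraMap T (Localization.Away e) e) :=
      IsLocalization.Away.algebraMap_isUnit e
    have hi : algebraMap T (Localization.Away e) e * algebraMap T (Localization.Away e) e =
        algebraMap T (Localization.Away e) e := by rw [← map_mul, he.eq]
    exact hu.mul_left_cancel (by rw [hi, mul_one])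
  have h01 : ∀ x ∈ L, algebraMap T (Localization.Away e) x = 0 ∨
      algebraMap T (Localization.Away e) x = 1 := by
    intro x hx
    rcases hLe x hx with h | h
    · right
      have := congrArg (algebraMap T (Localization.Away e)) h
      rwa [map_mul, hρe, mul_one] at this
    · left
      have := congrArg (algebraMap T (Localization.Away e)) h
      rwa [map_mul, hρe, mul_one, map_zero] at this
  have hdiag : SGA3b.IsDiag (Localization.Away e) (Localization.Away e ⊗[R] A) := by
    refine isDiag_of_basis (Localization.Away e) b hb ?_ ?_ ?_
    · intro k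
      apply h01
      simp only [L, Finset.mem_union, Finset.mem_image, Finset.mem_univ, true_and]
      exact Or.inl (Or.inl ⟨k, rfl⟩)
    · intro i j k
      apply h01
      simp only [L, Finset.mem_union, Finset.mem_image, Finset.mem_univ, true_and]
      exact Or.inl (Or.inr ⟨(i, j, k), rfl⟩)
    · intro i k
      apply h01
      simp only [L, Finset.mem_union, Finset.mem_image, Finset.mem_univ, true_and]
      exact Or.inr ⟨(i, k), rfl⟩
  have : Module.Finite R (Localization.Away e) :=
    Module.Finite.of_surjective
      ((IsScalarTower.toAlgHom R T (Localization.Away e)).toLinearMap)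
      (IsLocalization.Away.algebraMap_surjective_of_isIdempotentElem e he)
  have : Module.Flat R (Localization.Away e) := Module.Flat.trans R T (Localization.Away e)
  have : Algebra.FinitePresentation R (Localization.Away e) :=
    Algebra.Etale.finitePresentation
  have : Module.FinitePresentation R (Localization.Away e) :=
    Module.FinitePresentation.of_finite_of_finitePresentation R _
  exact ⟨Localization.Away e, inferInstance, inferInstance, inferInstance, inferInstance,
    faithfullyFlat_of_connected R _, hdiag⟩

end Core

end Groth.Agent.Lib.Helper7.IsoTr
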