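import Mathlib
import Groth.Agent.Lib.Helper7.IsoTr4

/-!
# The Cartier dual of an isotrivial finite locally free group is étale (helper7)
-/

set_option autoImplicit false

namespace Groth.Agent.Lib.Helper7.IsoTr

open TensorProduct CartDual Groth.Agent.Lib.Helper7.NilLift

universe u

section Conv

variable (R : Type u) [CommRing R] (A : Type u) [CommRing A] [HopfAlgebra R A]
  [Coalgebra.IsCocomm R A] [Module.Finite R A] [Module.Projective R A]

/-- étaleness of the dual from a chart with a finite basis of group-likes over a flat algebra. -/
lemma etale_dual_baseChange (T : Type u) [CommRing T] [Algebra R T] [Module.Flat R T]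
    [Nontrivial T] {P : Type u} (b : Module.Basis P T (T ⊗[R] A))
    (hb : ∀ p, IsGroupLikeElem T (b p)) : Algebra.Etale T (T ⊗[R] D R A) := by
  have : Module.FinitePresentation R A := Module.finitePresentation_of_projective R A
  have : Finite P := Module.Finite.finite_basis b
  exact Algebra.Etale.of_equiv ((dualBCEquiv R T A).trans (dualEquivPi b hb)).symm

theorem etale_dual_of_isIsotrivial [Nontrivial R] (h : SGA3b.IsIsotrivial R A) :
    Algebra.Etale R (D R A) := by
  obtain ⟨R', _, _, het, hfin, hff, M, _, ⟨e⟩⟩ := h
  have : Nontrivial R' := (FaithfulSMul.algebraMap_injective R R').nontrivial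
  have := etale_dual_baseChange R A R'
    ((MonoidAlgebra.basis M R').map e.symm.toLinearEquiv) (by
      intro m
      rw [Module.Basis.map_apply, MonoidAlgebra.basis_apply]
      exact (MonoidAlgebra.isGroupLikeElem_single_one (R := R') (A := R') m).map e.symm)
  exact Algebra.Etale.of_etale_tensorProduct_of_faithfullyFlat R'

end Conv

end Groth.Agent.Lib.Helper7.IsoTr
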