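import Mathlib
import Groth.Agent.Lib.Helper7.IsoTr5
import Groth.Agent.Lib.Helper15.AzumayaFibre

/-!
# Finite groups of multiplicative type over a connected base are isotrivial (helper7)
-/

set_option autoImplicit false

namespace Groth.Agent.Lib.Helper7.IsoTr

open TensorProduct CartDual Groth.Agent.Lib.Helper7.NilLift Groth.Agent.Lib.Helper7.BCR

universe u

section Proj

variable {R : Type u} [CommRing R] {A : Type u} [CommRing A] [HopfAlgebra R A]

/-- a finite Hopf algebra of multiplicative type is projective. -/
theorem projective_of_isMultType [Module.Finite R A] (h : SGA3b.IsMultType R A) :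
    Module.Projective R A := by
  obtain ⟨s, hs, hs'⟩ := h
  have hloc : ∀ f : s, Module.Projective (Localization.Away f.1) (Localization.Away f.1 ⊗[R] A) := by
    rintro ⟨f, hf⟩
    obtain ⟨R', _, _, hff, P, _, ⟨e⟩⟩ := hs' f hf
    have : Module.Projective R'
        (R' ⊗[Localization.Away f] (Localization.Away f ⊗[R] A)) :=
      Module.Projective.of_equiv e.symm.toLinearEquiv
    exact (Groth.Agent.Lib.Helper15.Azumaya.finite_projective_of_faithfullyFlat R'
      (M := Localization.Away f ⊗[R] A)).2
  have hfp : Module.FinitePresentation R A := by
    refine Module.FinitePresentation.of_localizationSpan' s hs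
      (Rₚ := fun g => Localization.Away g.1) (Mₚ := fun g => Localization.Away g.1 ⊗[R] A)
      (fun g => TensorProduct.mk R (Localization.Away g.1) A 1) (fun g => ?_)
    have := hloc g
    exact Module.finitePresentation_of_projective _ _
  have hflat : Module.Flat R A := by
    refine Module.flat_of_isLocalized_span R A s hs
      (fun g => Localization.Away g.1 ⊗[R] A)
      (fun g => TensorProduct.mk R (Localization.Away g.1) A 1) (fun g => ?_)
    have := hloc g
    exact Module.Flat.trans R (Localization.Away g.1) _
  exact Module.Flat.projective_of_finitePresentation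

end Proj


section Cocomm

variable {R : Type u} [CommRing R] {A : Type u} [CommRing A] [HopfAlgebra R A]
  {ι : Type u} (c : ι → Chart R A) (hT : JointlyFaithful R (fun i => (c i).T))
include hT

/-- a Hopf algebra of multiplicative type is cocommutative. -/
theorem isCocomm_of_family : Coalgebra.IsCocomm R A := by
  refine ⟨?_⟩
  apply LinearMap.ext
  intro a
  rw [LinearMap.comp_apply, ← sub_eq_zero]
  apply eq_zero_of_forall_tmul hT
  intro i
  -- the base change is cocommutative
  have hco : ∀ z : (c i).T ⊗[R] A,
      (TensorProduct.comm (c i).T _ _) (Coalgebra.comul (R := (c i).T) z) =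
        Coalgebra.comul (R := (c i).T) z := by
    intro z
    have h : (TensorProduct.comm (c i).T ((c i).T ⊗[R] A) ((c i).T ⊗[R] A)).toLinearMap ∘ₗ
        (Coalgebra.comul (R := (c i).T) (A := (c i).T ⊗[R] A)) = Coalgebra.comul := by
      apply (c i).b.ext
      intro p
      rw [LinearMap.comp_apply, ((c i).hb p).comul_eq_tmul_self, LinearEquiv.coe_coe,
        TensorProduct.comm_tmul]
    exact LinearMap.congr_fun h z
  have hθ : ∀ d : A ⊗[R] A,
      AlgebraTensorModule.distribBaseChange R (c i).T A A
        ((1 : (c i).T) ⊗ₜ[R] (TensorProduct.comm R A A d)) =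
      TensorProduct.comm (c i).T _ _
        (AlgebraTensorModule.distribBaseChange R (c i).T A A ((1 : (c i).T) ⊗ₜ[R] d)) := by
    intro d
    induction d using TensorProduct.induction_on with
    | zero => simp
    | add d e hd he => rw [map_add, TensorProduct.tmul_add, map_add, hd, he, TensorProduct.tmul_add,
        map_add, map_add]
    | tmul x y =>
      rw [TensorProduct.comm_tmul, AlgebraTensorModule.distribBaseChange_tmul,
        AlgebraTensorModule.distribBaseChange_tmul, TensorProduct.comm_tmul]
  apply (AlgebraTensorModule.distribBaseChange R (c i).T A A).injective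
  rw [map_zero, TensorProduct.tmul_sub, map_sub, LinearEquiv.coe_coe, hθ, sub_eq_zero]
  have h1 := comul_eq_distrib (K := (c i).T) ((1 : (c i).T) ⊗ₜ[R] a)
  rw [LinearMap.lTensor_tmul] at h1
  rw [← h1, hco]

end Cocomm


section Etale

variable {R : Type u} [CommRing R] {A : Type u} [CommRing A] [HopfAlgebra R A]
  [Coalgebra.IsCocomm R A] [Module.Finite R A] [Module.Projective R A]
  {ι : Type u} (c : ι → Chart R A) (hT : JointlyFaithful R (fun i => (c i).T))
include hT

/-- the Cartier dual of a finite group of multiplicative type is étale. -/
theorem etale_dual_of_family : Algebra.Etale R (D R A) := by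
  have hunr : Algebra.FormallyUnramified R (D R A) := by
    constructor
    apply hT (Ω[D R A⁄R])
    intro i
    rcases subsingleton_or_nontrivial (c i).T with h | h
    · exact Module.subsingleton (c i).T _
    · have := etale_dual_baseChange R A (c i).T (c i).b (c i).hb
      let _ : Algebra (D R A) ((c i).T ⊗[R] D R A) := Algebra.TensorProduct.rightAlgebra
      exact (KaehlerDifferential.tensorKaehlerEquivBase R (c i).T (D R A)
        ((c i).T ⊗[R] D R A)).subsingleton
  have : Module.FinitePresentation R (D R A) := Module.finitePresentation_of_projective R _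
  exact Algebra.Etale.of_formallyUnramified_of_flat

end Etale

/-- A finite group of multiplicative type over a connected base is isotrivial. -/
theorem isIsotrivial_of_isMultType_of_finite (R : Type u) [CommRing R]
    [ConnectedSpace (PrimeSpectrum R)] (A : Type u) [CommRing A] [HopfAlgebra R A]
    [Module.Finite R A] (hA : SGA3b.IsMultType R A) : SGA3b.IsIsotrivial R A := by
  have hproj := projective_of_isMultType hA
  obtain ⟨ι, _, c, hT⟩ := exists_family hA
  have hco := isCocomm_of_family c hT
  have het := etale_dual_of_family c hT
  exact isIsotrivial_of_etale_dual R A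

end Groth.Agent.Lib.Helper7.IsoTr
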