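import Groth.Agent.Lib.Helper7.UE2
import Groth.Agent.Lib.Helper7.ChevalleyChar
import Groth.Agent.Lib.Helper7.ComodIsotypic

set_option autoImplicit false

namespace Groth.Agent.Lib.Helper7.TrigUnip

open TensorProduct HopfRep Groth.Agent.Lib.Helper7.Comod Groth.Agent.Lib.Helper7.UnipExt
  Groth.Agent.Lib.Helper7.Chevalley

universe u v v' w w'

section Q

variable {k : Type u} [Field k] {H : Type v} [CommRing H] [Bialgebra k H]
  {V : Type w} [AddCommGroup V] [Module k V] [Comod k H V]
  {Q' : Type w'} [AddCommGroup Q'] [Module k Q'] [Comod k H Q']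

/-- the fixed-point filtration of an extension by fixed vectors. -/
lemma comap_fixFilt_le (q : V →ₗ[k] Q') (hq : Hoch.IsComodHom H q)
    (hker : LinearMap.ker q ≤ fixFilt k H V 1) (j : ℕ) :
    (fixFilt k H Q' j).comap q ≤ fixFilt k H V (j + 1) := by
  induction j with
  | zero =>
    intro v hv
    rw [Submodule.mem_comap, fixFilt_zero, Submodule.mem_bot] at hv
    exact hker hv
  | succ j ih =>
    intro v hv
    rw [Submodule.mem_comap, fixFilt_succ, mem_nextFix] at hv
    rw [fixFilt_succ, mem_nextFix]
    let β := Module.Basis.ofVectorSpace k H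
    rw [mem_range_rTensor_iff β]
    intro i
    apply ih
    rw [Submodule.mem_comap, ← coordR_rTensor]
    have h1 : q.rTensor H (Comod.coact (k := k) (A := H) v - v ⊗ₜ[k] (1 : H)) =
        Comod.coact (k := k) (A := H) (q v) - q v ⊗ₜ[k] (1 : H) := by
      rw [map_sub, LinearMap.rTensor_tmul]
      congr 1
      exact (LinearMap.congr_fun hq v).symm
    rw [h1]
    exact (mem_range_rTensor_iff β _ _).1 hv i

end Q

section Trig

variable {k : Type u} [Field k] {A : Type v} [CommRing A] [HopfAlgebra k A]
  {H : Type v'} [CommRing H] [HopfAlgebra k H]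

/-- for a trigonalizable group, a quotient killing all characters acts unipotently on every
finite-dimensional representation. -/
theorem fixFilt_push_eq_top (hT : IsTrigonalizable k A) (φ : A →ₐc[k] H)
    (hφ : ∀ a : A, IsGroupLikeElem k a → φ a = 1) :
    ∀ (n : ℕ) (V : Type v) [AddCommGroup V] [Module k V] (cV : Comod k A V) [Module.Finite k V],
      Module.finrank k V = n →
      @fixFilt k _ H _ _ V _ _ (push ((φ : A →ₐc[k] H) : A →ₗc[k] H) cV) n = ⊤ := by
  intro n
  induction n with
  | zero =>
    intro V _ _ cV _ hn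
    haveI : Subsingleton V := Module.finrank_zero_iff.1 hn
    exact Subsingleton.elim _ _
  | succ n ih =>
    intro V _ _ cV _ hn
    haveI : Nontrivial V := Module.nontrivial_of_finrank_pos (R := k) (by omega)
    letI := cV
    obtain ⟨T, -, hT'⟩ := exists_isSimpleSub_le (k := k) (C := A) (V := V)
      (W := ⊤) isSubcomod_top top_ne_bot
    have hTs := isSimpleComod_restr hT'
    have hT1 : Module.finrank k ↥T = 1 :=
      @hT ↥T _ _ (ComodSub.Comod.restr cV T hT'.1) inferInstance hTs
    obtain ⟨t, ht0, htT⟩ := finrank_eq_one_iff'.1 hT1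
    -- `T = span {t}`
    have hTspan : T = Submodule.span k {(t : V)} := by
      apply le_antisymm
      · intro x hx
        obtain ⟨c, hc⟩ := htT ⟨x, hx⟩
        rw [Submodule.mem_span_singleton]
        exact ⟨c, congrArg Subtype.val hc⟩
      · rw [Submodule.span_singleton_le_iff_mem]
        exact t.2
    have htV : (t : V) ≠ 0 := fun h => ht0 (Subtype.ext h)
    obtain ⟨χ, hχ⟩ := exists_eq_tmul_of_mem_range (t : V) (cV.coact (t : V))
      (hTspan ▸ hT'.1 (t : V) t.2)
    have hχgl : IsGroupLikeElem k χ :=
      isGroupLikeElem_of_eigen (BialgHom.id k A) cV htV (by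
        rw [hχ, LinearMap.lTensor_tmul]; rfl)
    -- the `H`-structures
    letI cH : Comod k H V := push ((φ : A →ₐc[k] H) : A →ₗc[k] H) cV
    have hTfix : T ≤ fixFilt k H V 1 := by
      rw [hTspan, Submodule.span_singleton_le_iff_mem, fixFilt_succ, mem_nextFix]
      have : Comod.coact (k := k) (A := H) (t : V) = (t : V) ⊗ₜ[k] (1 : H) := by
        change LinearMap.lTensor V (φ : A →ₗ[k] H) (cV.coact (t : V)) = _
        rw [hχ, LinearMap.lTensor_tmul]
        congr 1
        exact hφ χ hχgl
      rw [this, sub_self]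
      exact Submodule.zero_mem _
    let cQ : Comod k A (V ⧸ T) := ComodSub.Comod.quot cV T hT'.1
    letI cQH : Comod k H (V ⧸ T) := push ((φ : A →ₐc[k] H) : A →ₗc[k] H) cQ
    have hfinQ : Module.finrank k (V ⧸ T) = n := by
      have := Submodule.finrank_quotient_add_finrank T
      omega
    have hQ := ih (V ⧸ T) cQ hfinQ
    have hq : Hoch.IsComodHom H T.mkQ := by
      apply LinearMap.ext
      intro v
      change LinearMap.lTensor (V ⧸ T) (φ : A →ₗ[k] H) (cQ.coact (T.mkQ v)) =
        T.mkQ.rTensor H (LinearMap.lTensor V (φ : A →ₗ[k] H) (cV.coact v))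
      rw [Submodule.mkQ_apply, ComodSub.quot_coact_mk]
      generalize cV.coact v = z
      induction z using TensorProduct.induction_on with
      | zero => simp
      | tmul x a => simp
      | add y z hy hz => simp only [map_add, hy, hz]
    have hker : LinearMap.ker T.mkQ ≤ fixFilt k H V 1 := by
      rw [Submodule.ker_mkQ]; exact hTfix
    have := comap_fixFilt_le T.mkQ hq hker n
    rw [hQ, Submodule.comap_top] at this
    exact eq_top_iff.2 this

end Trig

end Groth.Agent.Lib.Helper7.TrigUnip
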