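import Groth.Agent.Lib.Helper7.DiagCocommBC
import Groth.Agent.Lib.Helper7.UnipNoPrim
import Groth.Agent.Lib.Helper7.UE5

set_option autoImplicit false

namespace Groth.Agent.Lib.Helper7.UnipBC

open TensorProduct HopfRep Groth.Agent.Lib.Helper7.Comod Groth.Agent.Lib.Helper7.BCR
  Groth.Agent.Lib.Helper7.UnipExt Groth.Agent.Lib.Helper7.DiagCocomm
  Groth.Agent.Lib.Helper7.UnipNoPrim

universe u v w

section Up

variable {k : Type u} {K : Type v} {A : Type w} [Field k] [Field K] [Algebra k K] [CommRing A]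
  [Bialgebra k A]

/-- unipotent vectors stay unipotent after base change. -/
theorem tmul_mem_fixFilt (n : ℕ) : ∀ (c : K) (a : A), a ∈ fixFilt k A A n →
    (c ⊗ₜ[k] a : K ⊗[k] A) ∈ fixFilt K (K ⊗[k] A) (K ⊗[k] A) n := by
  induction n with
  | zero =>
    intro c a ha
    rw [fixFilt_zero, Submodule.mem_bot] at ha
    rw [ha, TensorProduct.tmul_zero]
    exact Submodule.zero_mem _
  | succ n ih =>
    intro c a ha
    rw [fixFilt_succ, mem_nextFix] at ha ⊢
    obtain ⟨y, hy⟩ := ha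
    change (fixFilt k A A n).subtype.rTensor A y =
      Coalgebra.comul (R := k) a - a ⊗ₜ[k] (1 : A) at hy
    change Coalgebra.comul (R := K) (c ⊗ₜ[k] a : K ⊗[k] A) -
      (c ⊗ₜ[k] a : K ⊗[k] A) ⊗ₜ[K] (1 : K ⊗[k] A) ∈ _
    have h1 : Coalgebra.comul (R := K) (c ⊗ₜ[k] a : K ⊗[k] A) -
        (c ⊗ₜ[k] a : K ⊗[k] A) ⊗ₜ[K] (1 : K ⊗[k] A) =
        bcPair c (Coalgebra.comul (R := k) a - a ⊗ₜ[k] (1 : A)) := by
      rw [bcPair_sub, ← comul_tmul_eq, bcPair_tmul, tmul_one_eq, Algebra.TensorProduct.one_def]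
    rw [h1, ← hy]
    clear hy h1
    induction y using TensorProduct.induction_on with
    | zero => simp
    | tmul p x =>
      rw [LinearMap.rTensor_tmul, bcPair_tmul]
      exact tmul_mem_range_rTensor (ih 1 (p : A) p.2) _
    | add y z hy hz =>
      rw [map_add, bcPair_add]
      exact Submodule.add_mem _ hy hz

theorem isUnipotent_baseChange (hA : IsUnipotent k A) : IsUnipotent K (K ⊗[k] A) := by
  apply isUnipotent_of_regular_exhaustive
  intro x
  induction x using TensorProduct.induction_on with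
  | zero => exact ⟨0, Submodule.zero_mem _⟩
  | tmul c a =>
    obtain ⟨n, hn⟩ := exists_mem_fixFilt_regular hA a
    exact ⟨n, tmul_mem_fixFilt n c a hn⟩
  | add y z hy hz =>
    obtain ⟨n, hn⟩ := hy
    obtain ⟨m, hm⟩ := hz
    exact ⟨max n m, Submodule.add_mem _ (fixFilt_mono (le_max_left n m) hn)
      (fixFilt_mono (le_max_right n m) hm)⟩

end Up

end Groth.Agent.Lib.Helper7.UnipBC
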