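import Groth.Agent.Lib.Helper7.UnipQuot

set_option autoImplicit false

namespace Groth.Agent.Lib.Helper7.UnipQuot

open TensorProduct WithConv HopfRep Groth.Agent.Lib.Helper7.Comod Groth.Agent.Lib.Helper7.UnipExt
  Groth.Agent.Lib.Helper7.HopfSub Groth.Agent.Lib.Helper7.HopfSubGen
  Groth.Agent.Lib.Helper7.UnipPart Groth.Agent.Lib.Helper7.HopfCoinv
  Groth.Agent.Lib.Helper7.HopfIdealMap Groth.Agent.Lib.Helper7.NormalFix
  Groth.Agent.Lib.Helper7.NormalQuot Groth.Agent.Lib.Helper7.HopfFlat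

universe u

section Main

variable {k : Type u} [Field k] {A : Type u} [CommRing A] [HopfAlgebra k A]
  [Coalgebra.IsCocomm k A]

/-- the quotient of a cocommutative Hopf algebra by the ideal of its unipotent part has no
primitive elements. -/
theorem primitive_eq_zero_quot (J : Ideal A) [J.IsHopfIdeal k] (hJ : J = augSpan (unipSub k A))
    (p : A ⧸ J)
    (hp : Coalgebra.comul (R := k) p = p ⊗ₜ[k] (1 : A ⧸ J) + (1 : A ⧸ J) ⊗ₜ[k] p) : p = 0 := by
  classical
  set U := unipSub k A with hUdef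
  have hU : IsHopfSub U := isHopfSub_unipSub
  let π : A →ₐc[k] A ⧸ J := Bialgebra.Quotient.mkBialgHom J
  set P : Subalgebra k (A ⧸ J) := Algebra.adjoin k {p} with hPdef
  have hP : IsHopfSub P := isHopfSub_adjoin_primitive hp
  have hPu : P ≤ unipSub k (A ⧸ J) := adjoin_primitive_le_unipSub hp
  haveI hIP : (augSpan P).IsHopfIdeal k := isHopfIdeal_augSpan hP
  have hpIP : p ∈ augSpan P :=
    Ideal.subset_span ⟨Algebra.subset_adjoin rfl, counit_eq_zero_of_primitive hp⟩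
  set I₂ : Ideal A := Ideal.comap (π : A →+* A ⧸ J) (augSpan P) with hI₂def
  haveI hI₂ : I₂.IsHopfIdeal k := isHopfIdeal_comap π (augSpan P)
  have hJI₂ : J ≤ I₂ := by
    intro a ha
    rw [hI₂def, Ideal.mem_comap]
    have : (π : A →+* A ⧸ J) a = 0 := Ideal.Quotient.eq_zero_iff_mem.2 ha
    rw [this]
    exact Submodule.zero_mem _
  obtain ⟨B₂, hB₂, hI₂B⟩ := exists_hopfSub I₂ (normal_of_isCocomm (k := k) I₂)
  have hUB : U ≤ B₂ := by
    intro x hx
    apply mem_of_comul_sub_mem hB₂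
    have h1 := comul_sub_mem_of_mem U hU hx
    refine range_lTensor_subtype_mono ?_ A h1
    intro a ha
    change a ∈ augSpan B₂
    rw [← hI₂B]
    apply hJI₂
    rw [hJ]
    exact ha
  letI iU := hopfAlgebra hU
  letI iB₂ := hopfAlgebra hB₂
  let ψ' : ↥U →ₐc[k] ↥B₂ := inclBialgHom hU hB₂ hUB
  have hψ'inj : Function.Injective ψ' := by
    intro x y hxy
    apply Subtype.ext
    have := congrArg (fun z : ↥B₂ => (z : A)) hxy
    exact this
  set J' : Ideal ↥B₂ := Ideal.map (ψ' : ↥U →+* ↥B₂) (RingHom.ker (Bialgebra.counitAlgHom k ↥U))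
    with hJ'def
  haveI hJ'H : J'.IsHopfIdeal k := isHopfIdeal_map ψ' _
  let ι₂ : ↥B₂ →ₐc[k] A := valBialgHom hB₂
  have hJJ' : Ideal.map (ι₂ : ↥B₂ →+* A) J' = J := by
    rw [hJ'def, Ideal.map_map, hJ, augSpan_eq_map hU]
    rfl
  let f : ↥B₂ →ₐc[k] A ⧸ J := π.comp ι₂
  have hf : ∀ x ∈ J', f x = 0 := by
    intro x hx
    have h1 : (ι₂ : ↥B₂ →+* A) x ∈ J := by
      rw [← hJJ']; exact Ideal.mem_map_of_mem _ hx
    exact Ideal.Quotient.eq_zero_iff_mem.2 h1
  let ρ : ↥B₂ ⧸ J' →ₐc[k] A ⧸ J := quotLift J' f hf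
  have hρinj : Function.Injective ρ := by
    rw [injective_iff_map_eq_zero]
    intro x hx
    obtain ⟨b, rfl⟩ := Ideal.Quotient.mk_surjective x
    rw [quotLift_mk] at hx
    have hbJ : (ι₂ : ↥B₂ →+* A) b ∈ J := Ideal.Quotient.eq_zero_iff_mem.1 hx
    have h2 : b ∈ Ideal.comap (ι₂ : ↥B₂ →+* A) (Ideal.map (ι₂ : ↥B₂ →+* A) J') := by
      rw [Ideal.mem_comap, hJJ']; exact hbJ
    rw [Groth.Agent.Lib.Helper7.HopfFlat.comap_map_eq ι₂ Subtype.val_injective] at h2
    exact Ideal.Quotient.eq_zero_iff_mem.2 h2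
  have hρmem : ∀ x, ρ x ∈ unipSub k (A ⧸ J) := by
    intro x
    obtain ⟨b, rfl⟩ := Ideal.Quotient.mk_surjective x
    rw [quotLift_mk]
    apply hPu
    apply mem_of_comul_sub_mem hP
    have h1 := comul_sub_mem_of_mem B₂ hB₂ b.2
    obtain ⟨y, hy⟩ := h1
    have h2 : Coalgebra.comul (R := k) (f b) - f b ⊗ₜ[k] (1 : A ⧸ J) =
        TensorProduct.map (π : A →ₗ[k] A ⧸ J) (π : A →ₗ[k] A ⧸ J)
          (Coalgebra.comul (R := k) (b : A) - (b : A) ⊗ₜ[k] (1 : A)) := by
      rw [map_sub, TensorProduct.map_tmul]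
      have e1 : Coalgebra.comul (R := k) (f b) = TensorProduct.map (π : A →ₗ[k] A ⧸ J)
          (π : A →ₗ[k] A ⧸ J) (Coalgebra.comul (R := k) (b : A)) :=
        (CoalgHomClass.map_comp_comul_apply π (b : A)).symm
      have e2 : (π : A →ₗ[k] A ⧸ J) (1 : A) = 1 := map_one π
      rw [e1, e2]
      rfl
    rw [h2, ← hy]
    let πI : ↥((augSpan B₂).restrictScalars k) →ₗ[k] ↥((augSpan P).restrictScalars k) :=
      (π : A →ₗ[k] A ⧸ J).restrict (p := (augSpan B₂).restrictScalars k)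
        (q := (augSpan P).restrictScalars k) (fun a ha => by
          have ha' : a ∈ I₂ := by rw [hI₂B]; exact ha
          exact ha')
    refine ⟨TensorProduct.map (π : A →ₗ[k] A ⧸ J) πI y, ?_⟩
    clear hy
    induction y using TensorProduct.induction_on with
    | zero => simp
    | tmul a c => rfl
    | add y z hy hz => simp only [map_add, hy, hz]
  have hquot : IsUnipotent k (↥B₂ ⧸ J') := isUnipotent_of_forall_mem_unipSub ρ hρinj hρmem
  have hUunip : IsUnipotent k ↥U := isUnipotent_unipSub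
  have hB₂unip : IsUnipotent k ↥B₂ := isUnipotent_of_extension ψ' hψ'inj J' rfl hUunip hquot
  have hB₂U : B₂ ≤ U := fun b hb => map_mem_unipSub ι₂ hB₂unip ⟨b, hb⟩
  have hI₂J : I₂ ≤ J := by
    rw [hI₂B, hJ]; exact augSpan_mono hB₂U
  obtain ⟨a, rfl⟩ := Ideal.Quotient.mk_surjective p
  have haI : a ∈ I₂ := hpIP
  exact Ideal.Quotient.eq_zero_iff_mem.2 (hI₂J haI)

end Main

end Groth.Agent.Lib.Helper7.UnipQuot
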