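import Groth.Agent.Lib.Helper7.MT4
import Groth.Agent.Lib.Helper7.MT2
import Groth.Agent.Lib.Helper7.UnipBC
import Groth.Agent.Lib.Helper7.UnipQuot2
import Groth.Agent.Lib.Helper7.DiagCocomm
import Groth.Agent.Lib.Helper7.DiagCocommBC
import Groth.Agent.Lib.Helper7.TrigUnip

/-!
# Over a perfect field the largest multiplicative subgroup of a commutative affine group is a
retract (helper7)

`A` commutative cocommutative Hopf algebra over a perfect field `k`, `J = B⁺A` the ideal of the
unipotent part `B`. Then `A → A/J` has a bialgebra section (Galois descent of the lifting of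
characters over the algebraic closure).
-/

set_option autoImplicit false

namespace Groth.Agent.Lib.Helper7.MT

open TensorProduct HopfRep Groth.Agent.Lib.Helper7.Comod Groth.Agent.Lib.Helper7.Chevalley
  Groth.Agent.Lib.Helper7.UnipPart Groth.Agent.Lib.Helper7.HopfCoinv
  Groth.Agent.Lib.Helper7.HopfSub Groth.Agent.Lib.Helper7.BCR Groth.Agent.Lib.Helper7.DiagCocomm
  Groth.Agent.Lib.Helper7.UnipQuot Groth.Agent.Lib.Helper7.UnipBC
  Groth.Agent.Lib.Helper7.TrigUnip

universe u

theorem isCocomm_of_surjective' {k : Type u} [Field k] {A B : Type u} [CommRing A] [CommRing B]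
    [Bialgebra k A] [Bialgebra k B] [Coalgebra.IsCocomm k A] (φ : A →ₐc[k] B)
    (hφ : Function.Surjective φ) : Coalgebra.IsCocomm k B := by
  constructor
  apply LinearMap.ext
  intro b
  obtain ⟨a, rfl⟩ := hφ b
  rw [LinearMap.comp_apply, ← CoalgHomClass.map_comp_comul_apply φ a]
  conv_rhs => rw [← Coalgebra.comm_comul k a]
  generalize Coalgebra.comul (R := k) a = z
  induction z using TensorProduct.induction_on with
  | zero => simp
  | tmul x y => simp
  | add y z hy hz => simp only [map_add, hy, hz]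

section Descent

variable {k : Type u} [Field k] [PerfectField k] {A : Type u} [CommRing A] [HopfAlgebra k A]
  [Coalgebra.IsCocomm k A]

lemma glSpan_mul_mem {K : Type u} [Field K] {H : Type u} [CommRing H] [HopfAlgebra K H]
    {x y : H} (hx : x ∈ glSpan K H) (hy : y ∈ glSpan K H) : x * y ∈ glSpan K H := by
  have hS : glSpan K H = Subalgebra.toSubmodule (charSub K H) := charSub_toSubmodule.symm
  rw [hS] at hx hy ⊢
  exact (charSub K H).mul_mem hx hy

theorem exists_bialgHom_section (J : Ideal A) [J.IsHopfIdeal k]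
    (hJ : J = augSpan (unipSub k A)) :
    ∃ s : (A ⧸ J) →ₐc[k] A, ∀ x, Ideal.Quotient.mk J (s x) = x := by
  classical
  let K := AlgebraicClosure k
  haveI : Coalgebra.IsCocomm k (A ⧸ J) :=
    isCocomm_of_surjective' (Bialgebra.Quotient.mkBialgHom (R := k) J) Ideal.Quotient.mk_surjective
  have hprim := primitive_eq_zero_quot (k := k) J hJ
  have hdiag : IsDiagonalizable K (K ⊗[k] (A ⧸ J)) :=
    isDiagonalizable_of_isCocomm (primitive_baseChange_eq_zero hprim)
  let pK : K ⊗[k] A →ₐc[K] K ⊗[k] (A ⧸ J) :=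
    Bialgebra.TensorProduct.map (BialgHom.id K K) (Bialgebra.Quotient.mkBialgHom (R := k) J)
  have hpK : ∀ (c : K) (a : A), pK (c ⊗ₜ[k] a) = c ⊗ₜ[k] Ideal.Quotient.mk J a := fun _ _ => rfl
  have hp : Function.Surjective pK := by
    intro y
    induction y using TensorProduct.induction_on with
    | zero => exact ⟨0, map_zero _⟩
    | tmul c q =>
      obtain ⟨a, rfl⟩ := Ideal.Quotient.mk_surjective q
      exact ⟨c ⊗ₜ[k] a, hpK c a⟩
    | add y z hy hz =>
      obtain ⟨y', rfl⟩ := hy
      obtain ⟨z', rfl⟩ := hz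
      exact ⟨y' + z', map_add _ _ _⟩
  have hJle : J ≤ Ideal.comap (Algebra.TensorProduct.includeRight : A →ₐ[k] K ⊗[k] A)
      (augSpan (unipSub K (K ⊗[k] A))) := by
    rw [hJ]
    apply Ideal.span_le.2
    rintro b ⟨⟨n, hb⟩, hε⟩
    rw [SetLike.mem_coe, Ideal.mem_comap]
    apply Ideal.subset_span
    refine ⟨⟨n, tmul_mem_fixFilt n (1 : K) b hb⟩, ?_⟩
    change Coalgebra.counit (R := K) ((1 : K) ⊗ₜ[k] b : K ⊗[k] A) = 0
    rw [TensorProduct.counit_tmul, hε, zero_smul]
  have hker : RingHom.ker (pK : K ⊗[k] A →+* K ⊗[k] (A ⧸ J)) ≤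
      augSpan (unipSub K (K ⊗[k] A)) := by
    intro x hx
    rw [RingHom.mem_ker] at hx
    have hex : Function.Exact ((J.restrictScalars k).subtype)
        (Ideal.Quotient.mkₐ k J).toLinearMap := by
      intro a
      constructor
      · intro h
        exact ⟨⟨a, Ideal.Quotient.eq_zero_iff_mem.1 h⟩, rfl⟩
      · rintro ⟨j, rfl⟩
        exact Ideal.Quotient.eq_zero_iff_mem.2 j.2
    have hex' := lTensor_exact K hex (Ideal.Quotient.mkₐ_surjective k J)
    have hpl : ∀ x : K ⊗[k] A, pK x = (Ideal.Quotient.mkₐ k J).toLinearMap.lTensor K x := by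
      intro x
      induction x using TensorProduct.induction_on with
      | zero => simp
      | tmul c a => rfl
      | add y z hy hz => rw [map_add, hy, hz, map_add]
    have hx' : (Ideal.Quotient.mkₐ k J).toLinearMap.lTensor K x = 0 := by
      rw [← hpl]; exact hx
    obtain ⟨w, rfl⟩ := (hex' x).1 hx'
    clear hx hx'
    induction w using TensorProduct.induction_on with
    | zero => simp
    | tmul c j =>
      rw [LinearMap.lTensor_tmul]
      have h1 : (c ⊗ₜ[k] ((J.restrictScalars k).subtype j) : K ⊗[k] A) =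
          (c ⊗ₜ[k] (1 : A)) * ((1 : K) ⊗ₜ[k] (j : A)) := by
        rw [Algebra.TensorProduct.tmul_mul_tmul, mul_one, one_mul]
        rfl
      rw [h1]
      apply Ideal.mul_mem_left
      exact hJle j.2
    | add y z hy hz =>
      rw [map_add]
      exact Ideal.add_mem _ hy hz
  obtain ⟨sK, h1, h2, h3, h4⟩ := exists_section pK hp hdiag
  have hsigS : ∀ (σ : K ≃ₐ[k] K) (z : K ⊗[k] A), z ∈ glSpan K (K ⊗[k] A) →
      sig σ A z ∈ glSpan K (K ⊗[k] A) := by
    intro σ z hz
    unfold glSpan at hz ⊢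
    induction hz using Submodule.span_induction with
    | mem x hx => exact Submodule.subset_span (isGroupLikeElem_sig σ hx)
    | zero => rw [map_zero]; exact Submodule.zero_mem _
    | add x y _ _ hx hy => rw [map_add]; exact Submodule.add_mem _ hx hy
    | smul c x _ hx => rw [sig_smul]; exact Submodule.smul_mem _ _ hx
  have hpsig : ∀ (σ : K ≃ₐ[k] K) (x : K ⊗[k] A), pK (sig σ A x) = sig σ (A ⧸ J) (pK x) := by
    intro σ x
    induction x using TensorProduct.induction_on with
    | zero => simp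
    | tmul c a => rw [sig_tmul, hpK, hpK, sig_tmul]
    | add y z hy hz => rw [map_add, map_add, hy, hz, map_add, map_add]
  have hfix : ∀ (σ : K ≃ₐ[k] K) (x : A ⧸ J),
      sig σ A ((sK.restrictScalars k) ((1 : K) ⊗ₜ[k] x)) =
        (sK.restrictScalars k) ((1 : K) ⊗ₜ[k] x) := by
    intro σ x
    rw [LinearMap.restrictScalars_apply]
    set z := sK ((1 : K) ⊗ₜ[k] x) with hz
    have hzS : z ∈ glSpan K (K ⊗[k] A) := h2 _
    have h5 : pK (sig σ A z - z) = 0 := by
      rw [map_sub, hpsig, hz, h1, sig_one_tmul, sub_self]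
    have h6 := eq_zero_of_mem_glSpan pK hker (Submodule.sub_mem _ (hsigS σ z hzS) hzS) h5
    exact sub_eq_zero.1 h6
  obtain ⟨f, hf⟩ := exists_linearMap_of_equivariant (sK.restrictScalars k) hfix
  have hf' : ∀ x : A ⧸ J, sK ((1 : K) ⊗ₜ[k] x) = (1 : K) ⊗ₜ[k] f x := hf
  have hinjA := one_tmul_injective (k := k) (K := K) A
  have hinjQ := one_tmul_injective (k := k) (K := K) (A ⧸ J)
  have hmem : ∀ x, ((1 : K) ⊗ₜ[k] f x : K ⊗[k] A) ∈ glSpan K (K ⊗[k] A) := by
    intro x
    rw [← hf']
    exact h2 _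
  have hmk : ∀ x, Ideal.Quotient.mk J (f x) = x := by
    intro x
    apply hinjQ
    change (1 : K) ⊗ₜ[k] Ideal.Quotient.mk J (f x) = (1 : K) ⊗ₜ[k] x
    rw [← hpK, ← hf', h1]
  have huniq : ∀ a a' : A, ((1 : K) ⊗ₜ[k] a : K ⊗[k] A) ∈ glSpan K (K ⊗[k] A) →
      ((1 : K) ⊗ₜ[k] a' : K ⊗[k] A) ∈ glSpan K (K ⊗[k] A) →
      Ideal.Quotient.mk J a = Ideal.Quotient.mk J a' → a = a' := by
    intro a a' ha ha' h
    apply hinjA
    change (1 : K) ⊗ₜ[k] a = (1 : K) ⊗ₜ[k] a'
    have h5 : pK ((1 : K) ⊗ₜ[k] a - (1 : K) ⊗ₜ[k] a') = 0 := by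
      rw [map_sub, hpK, hpK, h, sub_self]
    exact sub_eq_zero.1 (eq_zero_of_mem_glSpan pK hker (Submodule.sub_mem _ ha ha') h5)
  have hone : f 1 = 1 := by
    apply huniq _ _ (hmem 1)
    · rw [← Algebra.TensorProduct.one_def]
      exact Submodule.subset_span IsGroupLikeElem.one
    · rw [hmk, map_one]
  have hmul : ∀ x y, f (x * y) = f x * f y := by
    intro x y
    apply huniq _ _ (hmem (x * y))
    · have : ((1 : K) ⊗ₜ[k] (f x * f y) : K ⊗[k] A) =
          ((1 : K) ⊗ₜ[k] f x) * ((1 : K) ⊗ₜ[k] f y) := by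
        rw [Algebra.TensorProduct.tmul_mul_tmul, one_mul]
      rw [this]
      exact glSpan_mul_mem (hmem x) (hmem y)
    · rw [hmk, map_mul, hmk, hmk]
  let fA : (A ⧸ J) →ₐ[k] A := AlgHom.ofLinearMap f hone hmul
  have hfA : ∀ x, fA x = f x := fun _ => rfl
  have hinjB : Function.Injective (fun d : A ⊗[k] A => (bcPair (1 : K) d :
      (K ⊗[k] A) ⊗[K] (K ⊗[k] A))) := by
    have : (fun d : A ⊗[k] A => (bcPair (1 : K) d : (K ⊗[k] A) ⊗[K] (K ⊗[k] A))) =
        (theta k K A) ∘ (fun d : A ⊗[k] A => (1 : K) ⊗ₜ[k] d) := rfl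
    rw [this]
    exact (theta k K A).injective.comp (one_tmul_injective (k := k) (K := K) _)
  have hnat : ∀ d : (A ⧸ J) ⊗[k] (A ⧸ J), TensorProduct.map sK sK (bcPair (1 : K) d) =
      bcPair (1 : K) (TensorProduct.map f f d) := by
    intro d
    induction d using TensorProduct.induction_on with
    | zero => simp
    | tmul y y' =>
      rw [bcPair_tmul, TensorProduct.map_tmul, hf', hf', TensorProduct.map_tmul, bcPair_tmul]
    | add y z hy hz => rw [bcPair_add, map_add, hy, hz, map_add, bcPair_add]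
  have hcomul : (Algebra.TensorProduct.map fA fA).comp (Bialgebra.comulAlgHom k (A ⧸ J)) =
      (Bialgebra.comulAlgHom k A).comp fA := by
    apply AlgHom.ext
    intro x
    apply hinjB
    change bcPair (1 : K) (TensorProduct.map f f (Coalgebra.comul (R := k) x)) =
      bcPair (1 : K) (Coalgebra.comul (R := k) (f x))
    rw [← hnat, ← comul_tmul_eq, ← comul_tmul_eq, ← h3, hf']
  have hcounit : (Bialgebra.counitAlgHom k A).comp fA = Bialgebra.counitAlgHom k (A ⧸ J) := by
    apply AlgHom.ext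
    intro x
    change Coalgebra.counit (R := k) (f x) = Coalgebra.counit (R := k) x
    have h5 := h4 ((1 : K) ⊗ₜ[k] x)
    rw [hf', TensorProduct.counit_tmul, TensorProduct.counit_tmul] at h5
    simp only [CommSemiring.counit_apply] at h5
    have h6 : algebraMap k K (Coalgebra.counit (R := k) (f x)) =
        algebraMap k K (Coalgebra.counit (R := k) x) := by
      rw [Algebra.algebraMap_eq_smul_one, Algebra.algebraMap_eq_smul_one]
      exact h5
    exact (algebraMap k K).injective h6
  exact ⟨BialgHom.ofAlgHom fA hcounit hcomul, hmk⟩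

end Descent

end Groth.Agent.Lib.Helper7.MT
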