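import Groth.Agent.Lib.Helper7.UE4
import Groth.Agent.Lib.Helper7.HopfSubGen

set_option autoImplicit false

namespace Groth.Agent.Lib.Helper7.UnipPart

open TensorProduct HopfRep Groth.Agent.Lib.Helper7.Comod Groth.Agent.Lib.Helper7.UnipExt
  Groth.Agent.Lib.Helper7.HopfSub Groth.Agent.Lib.Helper7.HopfSubGen

universe u v w

section Bialg

variable {k : Type u} [Field k] {A : Type v} [CommRing A] [Bialgebra k A]

lemma mul_mem_range_rTensor {W W' : Submodule k A} {x y : A ⊗[k] A}
    (hx : x ∈ LinearMap.range (W.subtype.rTensor A))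
    (hy : y ∈ LinearMap.range (W'.subtype.rTensor A)) :
    x * y ∈ LinearMap.range ((W * W').subtype.rTensor A) := by
  obtain ⟨x', rfl⟩ := hx
  obtain ⟨y', rfl⟩ := hy
  induction x' using TensorProduct.induction_on with
  | zero => rw [map_zero, zero_mul]; exact Submodule.zero_mem _
  | add x₁ x₂ h₁ h₂ => rw [map_add, add_mul]; exact Submodule.add_mem _ h₁ h₂
  | tmul w a =>
    induction y' using TensorProduct.induction_on with
    | zero => rw [map_zero, mul_zero]; exact Submodule.zero_mem _
    | add y₁ y₂ h₁ h₂ => rw [map_add, mul_add]; exact Submodule.add_mem _ h₁ h₂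
    | tmul w' a' =>
      refine ⟨(⟨(w : A) * (w' : A), Submodule.mul_mem_mul w.2 w'.2⟩ : ↥(W * W')) ⊗ₜ[k] (a * a'), ?_⟩
      simp [Algebra.TensorProduct.tmul_mul_tmul]

/-- the fixed-point filtration of the regular comodule is multiplicative. -/
theorem fixFilt_mul_le : ∀ (N m n : ℕ), m + n = N →
    fixFilt k A A m * fixFilt k A A n ≤ fixFilt k A A N := by
  intro N
  induction N with
  | zero =>
    intro m n hmn
    obtain ⟨rfl, rfl⟩ : m = 0 ∧ n = 0 := by omega
    rw [fixFilt_zero, Submodule.mul_bot]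
  | succ N ih =>
    intro m n hmn
    rw [Submodule.mul_le]
    intro a ha b hb
    rcases m with _ | m'
    · rw [fixFilt_zero, Submodule.mem_bot] at ha
      rw [ha, zero_mul]; exact Submodule.zero_mem _
    rcases n with _ | n'
    · rw [fixFilt_zero, Submodule.mem_bot] at hb
      rw [hb, mul_zero]; exact Submodule.zero_mem _
    rw [fixFilt_succ, mem_nextFix]
    have ha' := (mem_nextFix (k := k) (A := A) (fixFilt k A A m') a).1
      (by rw [← fixFilt_succ]; exact ha)
    have hb' := (mem_nextFix (k := k) (A := A) (fixFilt k A A n') b).1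
      (by rw [← fixFilt_succ]; exact hb)
    have hΔb := isSubcomod_fixFilt (k := k) (A := A) (V := A) (n' + 1) b hb
    change Coalgebra.comul (R := k) (a * b) - (a * b) ⊗ₜ[k] (1 : A) ∈ _
    change Coalgebra.comul (R := k) a - a ⊗ₜ[k] (1 : A) ∈ _ at ha'
    change Coalgebra.comul (R := k) b - b ⊗ₜ[k] (1 : A) ∈ _ at hb'
    change Coalgebra.comul (R := k) b ∈ _ at hΔb
    have heq : Coalgebra.comul (R := k) (a * b) - (a * b) ⊗ₜ[k] (1 : A) =
        (Coalgebra.comul (R := k) a - a ⊗ₜ[k] (1 : A)) * Coalgebra.comul (R := k) b +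
          (a ⊗ₜ[k] (1 : A)) * (Coalgebra.comul (R := k) b - b ⊗ₜ[k] (1 : A)) := by
      rw [Bialgebra.comul_mul, sub_mul, mul_sub, Algebra.TensorProduct.tmul_mul_tmul, mul_one]
      abel
    rw [heq]
    refine Submodule.add_mem _ ?_ ?_
    · exact range_rTensor_subtype_mono (ih m' (n' + 1) (by omega)) A
        (mul_mem_range_rTensor ha' hΔb)
    · exact range_rTensor_subtype_mono (ih (m' + 1) n' (by omega)) A
        (mul_mem_range_rTensor (tmul_mem_range_rTensor ha 1) hb')

lemma one_mem_fixFilt_one : (1 : A) ∈ fixFilt k A A 1 := by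
  rw [fixFilt_succ, mem_nextFix]
  change Coalgebra.comul (R := k) (1 : A) - (1 : A) ⊗ₜ[k] (1 : A) ∈ _
  rw [Bialgebra.comul_one, Algebra.TensorProduct.one_def, sub_self]
  exact Submodule.zero_mem _

variable (k A) in
/-- the subalgebra of unipotent vectors of the regular representation. -/
noncomputable def unipSub : Subalgebra k A where
  carrier := {a | ∃ n, a ∈ fixFilt k A A n}
  mul_mem' := by
    rintro a b ⟨m, ha⟩ ⟨n, hb⟩
    exact ⟨m + n, fixFilt_mul_le (m + n) m n rfl (Submodule.mul_mem_mul ha hb)⟩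
  add_mem' := by
    rintro a b ⟨m, ha⟩ ⟨n, hb⟩
    exact ⟨max m n, Submodule.add_mem _ (fixFilt_mono (le_max_left m n) ha)
      (fixFilt_mono (le_max_right m n) hb)⟩
  algebraMap_mem' := by
    intro c
    refine ⟨1, ?_⟩
    rw [Algebra.algebraMap_eq_smul_one]
    exact Submodule.smul_mem _ _ one_mem_fixFilt_one

lemma mem_unipSub {a : A} : a ∈ unipSub k A ↔ ∃ n, a ∈ fixFilt k A A n := Iff.rfl

end Bialg

section Coeff

variable {k : Type u} [Field k] {A : Type v} [CommRing A] [Bialgebra k A]

/-- a finite-dimensional comodule with unipotent matrix coefficients has a nonzero fixed vector. -/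
theorem fixedPts_ne_bot_of_coeff_mem {V : Type w} [AddCommGroup V] [Module k V] [Comod k A V]
    [Module.Finite k V] [Nontrivial V]
    (h : ∀ (φ : V →ₗ[k] k) (v : V), coeffMap (C := A) φ v ∈ unipSub k A) :
    fixedPts k A V ≠ ⊥ := by
  classical
  haveI : Module.Free k V := Module.Free.of_divisionRing k V
  let b := Module.finBasis k V
  let f : Fin (Module.finrank k V) → V →ₗ[k] A := fun i => coeffMap (C := A) (b.coord i)
  let G : ℕ → Submodule k V := fun m => ⨅ i, (fixFilt k A A m).comap (f i)
  have hv : ∀ v : V, v = ∑ i, Coalgebra.counit (R := k) (f i v) • b i := by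
    intro v
    conv_lhs => rw [← b.sum_repr v]
    apply Finset.sum_congr rfl
    intro i _
    rw [counit_coeffMap]
    rfl
  have h0 : G 0 = ⊥ := by
    rw [eq_bot_iff]
    intro v hv0
    rw [Submodule.mem_bot, hv v]
    apply Finset.sum_eq_zero
    intro i _
    have : f i v = 0 := by
      have := (Submodule.mem_iInf _).1 hv0 i
      rwa [Submodule.mem_comap, fixFilt_zero, Submodule.mem_bot] at this
    rw [this, map_zero, zero_smul]
  have hex : ∀ i j, ∃ n, f i (b j) ∈ fixFilt k A A n := fun i j => h _ _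
  choose N hN using hex
  let m : ℕ := Finset.univ.sup (fun i => Finset.univ.sup (fun j => N i j))
  have hm : G m = ⊤ := by
    rw [eq_top_iff, ← b.span_eq, Submodule.span_le]
    rintro _ ⟨j, rfl⟩
    rw [SetLike.mem_coe, Submodule.mem_iInf]
    intro i
    rw [Submodule.mem_comap]
    refine fixFilt_mono ?_ (hN i j)
    exact le_trans (Finset.le_sup (f := fun j => N i j) (Finset.mem_univ j))
      (Finset.le_sup (f := fun i => Finset.univ.sup (fun j => N i j)) (Finset.mem_univ i))
  refine fixedPts_ne_bot_of_flag (k := k) (A := A) m G h0 hm ?_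
  intro l v hvl
  let β := Module.Basis.ofVectorSpace k A
  rw [mem_range_rTensor_iff β]
  intro j
  rw [Submodule.mem_iInf]
  intro i
  rw [Submodule.mem_comap, ← coordR_rTensor]
  have h1 : (f i).rTensor A (Comod.coact (k := k) (A := A) v - v ⊗ₜ[k] (1 : A)) =
      Comod.coact (k := k) (A := A) (f i v) - f i v ⊗ₜ[k] (1 : A) := by
    rw [map_sub, LinearMap.rTensor_tmul]
    congr 1
    exact (comul_coeffMap (C := A) (b.coord i) v).symm
  rw [h1]
  have h2 : f i v ∈ fixFilt k A A (l + 1) := by
    have := (Submodule.mem_iInf _).1 hvl i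
    rwa [Submodule.mem_comap] at this
  rw [fixFilt_succ, mem_nextFix] at h2
  exact (mem_range_rTensor_iff β _ _).1 h2 j

/-- a Hopf algebra mapping injectively into the unipotent vectors is unipotent. -/
theorem isUnipotent_of_forall_mem_unipSub {B : Type v} [CommRing B] [Bialgebra k B]
    (ψ : B →ₐc[k] A) (hψ : Function.Injective ψ) (h : ∀ b : B, ψ b ∈ unipSub k A) :
    IsUnipotent k B := by
  intro V _ _ c hfin hnt
  letI cA : Comod k A V := push (ψ : B →ₗc[k] A) c
  have hA : fixedPts k A V ≠ ⊥ := by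
    apply fixedPts_ne_bot_of_coeff_mem
    intro φ v
    have : coeffMap (C := A) φ v = ψ (contrL B φ (c.coact v)) := by
      change contrL A φ (LinearMap.lTensor V (ψ : B →ₗ[k] A) (c.coact v)) = _
      rw [contrL_lTensor]
      rfl
    rw [this]
    exact h _
  intro hbot
  apply hA
  rw [eq_bot_iff]
  intro v hv
  rw [← hbot]
  change c.coact v = v ⊗ₜ[k] (1 : B)
  have hv' : LinearMap.lTensor V (ψ : B →ₗ[k] A) (c.coact v) = v ⊗ₜ[k] (1 : A) := hv
  have hinj : Function.Injective (LinearMap.lTensor V (ψ : B →ₗ[k] A)) :=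
    Module.Flat.lTensor_preserves_injective_linearMap _ hψ
  apply hinj
  rw [hv', LinearMap.lTensor_tmul]
  congr 1
  exact (map_one ψ).symm

/-- the image of a unipotent Hopf algebra consists of unipotent vectors. -/
theorem map_mem_unipSub {C : Type w} [CommRing C] [Bialgebra k C] (φ : C →ₐc[k] A)
    (hC : IsUnipotent k C) (c : C) : φ c ∈ unipSub k A := by
  obtain ⟨n, hn⟩ := exists_mem_fixFilt_regular hC c
  refine ⟨n, ?_⟩
  have h1 := fixFilt_push_le φ (Comod.regular k C) n hn
  letI cA : Comod k A C := push (φ : C →ₗc[k] A) (Comod.regular k C)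
  have hhom : Hoch.IsComodHom A (φ : C →ₗ[k] A) := by
    change Comod.coact (k := k) (A := A) ∘ₗ (φ : C →ₗ[k] A) =
      (φ : C →ₗ[k] A).rTensor A ∘ₗ ((φ : C →ₗ[k] A).lTensor C ∘ₗ Coalgebra.comul (R := k))
    rw [← LinearMap.comp_assoc, LinearMap.rTensor_comp_lTensor]
    exact (CoalgHomClass.map_comp_comul φ).symm
  exact map_fixFilt_le hhom n ⟨c, h1, rfl⟩

end Coeff

section Cocomm

variable {k : Type u} [Field k] {A : Type v} [CommRing A] [HopfAlgebra k A]
  [Coalgebra.IsCocomm k A]

lemma contrL_eq_contr_comm (ψ : A →ₗ[k] k) (z : A ⊗[k] A) :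
    contrL A ψ z = contr A ψ (TensorProduct.comm k A A z) := by
  induction z using TensorProduct.induction_on with
  | zero => simp
  | tmul a b => simp
  | add y z hy hz => simp only [map_add, hy, hz]

lemma isSubcoalg_fixFilt (n : ℕ) : IsSubcoalg (fixFilt k A A n) := by
  rw [isSubcoalg_iff]
  intro b hb
  have h := isSubcomod_fixFilt (k := k) (A := A) (V := A) n b hb
  change Coalgebra.comul (R := k) b ∈ _ at h
  rw [mem_range_rTensor_iff_contr] at h
  refine ⟨h, fun ψ => ?_⟩
  rw [contrL_eq_contr_comm, Coalgebra.comm_comul]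
  exact h ψ

lemma antipode_mem_fixFilt (n : ℕ) :
    ∀ a ∈ fixFilt k A A n, HopfAlgebra.antipode k a ∈ fixFilt k A A n := by
  induction n with
  | zero =>
    intro a ha
    rw [fixFilt_zero, Submodule.mem_bot] at ha
    rw [ha, map_zero]; exact Submodule.zero_mem _
  | succ n ih =>
    intro a ha
    rw [fixFilt_succ, mem_nextFix] at ha ⊢
    obtain ⟨y, hy⟩ := ha
    change (fixFilt k A A n).subtype.rTensor A y =
      Coalgebra.comul (R := k) a - a ⊗ₜ[k] (1 : A) at hy
    change Coalgebra.comul (R := k) (HopfAlgebra.antipode k a) -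
      HopfAlgebra.antipode k a ⊗ₜ[k] (1 : A) ∈ _
    have h1 : Coalgebra.comul (R := k) (HopfAlgebra.antipode k a) -
        HopfAlgebra.antipode k a ⊗ₜ[k] (1 : A) =
        TensorProduct.map (HopfAlgebra.antipode k) (HopfAlgebra.antipode k)
          (Coalgebra.comul (R := k) a - a ⊗ₜ[k] (1 : A)) := by
      rw [Groth.Agent.Lib.Helper7.HopfConv.comul_antipode, Coalgebra.comm_comul, map_sub,
        TensorProduct.map_tmul, HopfAlgebra.antipode_one]
    rw [h1, ← hy]
    let SF : ↥(fixFilt k A A n) →ₗ[k] ↥(fixFilt k A A n) :=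
      (HopfAlgebra.antipode k (A := A)).restrict (p := fixFilt k A A n) (q := fixFilt k A A n) ih
    refine ⟨TensorProduct.map SF (HopfAlgebra.antipode k) y, ?_⟩
    clear hy
    induction y using TensorProduct.induction_on with
    | zero => simp
    | tmul b c => simp [SF]
    | add y z hy hz => simp only [map_add, hy, hz]

/-- for a cocommutative Hopf algebra, the unipotent vectors form a Hopf subalgebra. -/
theorem isHopfSub_unipSub : IsHopfSub (unipSub k A) := by
  refine ⟨?_, ?_⟩
  · rintro b ⟨n, hb⟩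
    obtain ⟨z, hz⟩ := isSubcoalg_fixFilt (k := k) (A := A) n b hb
    rw [← hz]
    let j : ↥(fixFilt k A A n) →ₗ[k] ↥(unipSub k A) :=
      (LinearMap.id (R := k) (M := A)).restrict (p := fixFilt k A A n)
        (q := Subalgebra.toSubmodule (unipSub k A)) (fun a ha => ⟨n, ha⟩)
    refine ⟨TensorProduct.map j j z, ?_⟩
    clear hz
    induction z using TensorProduct.induction_on with
    | zero => simp
    | tmul b c => simp [j]; rfl
    | add y z hy hz => simp only [map_add, hy, hz]
  · rintro b ⟨n, hb⟩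
    exact ⟨n, antipode_mem_fixFilt n b hb⟩

/-- the unipotent part of a cocommutative Hopf algebra is unipotent. -/
theorem isUnipotent_unipSub :
    letI := hopfAlgebra (isHopfSub_unipSub (k := k) (A := A))
    IsUnipotent k ↥(unipSub k A) := by
  letI := hopfAlgebra (isHopfSub_unipSub (k := k) (A := A))
  exact isUnipotent_of_forall_mem_unipSub (valBialgHom isHopfSub_unipSub)
    Subtype.val_injective (fun b => b.2)

end Cocomm

end Groth.Agent.Lib.Helper7.UnipPart
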