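import Groth.Agent.Lib.Helper7.HopfUnipMult
import Groth.Agent.Lib.Helper7.UnipPart
import Groth.Agent.Lib.Helper7.HopfCoinv
import Groth.Prelude.Def_SGA3b

set_option autoImplicit false

namespace Groth.Agent.Lib.Helper7.MultMin

open TensorProduct HopfRep Groth.Agent.Lib.Helper7.Comod Groth.Agent.Lib.Helper7.BCR
  Groth.Agent.Lib.Helper7.UnipPart Groth.Agent.Lib.Helper7.HopfCoinv
  Groth.Agent.Lib.Helper7.UnipMult

universe u v w

section General

variable {k : Type u} [Field k] {AM : Type v} {AU : Type w} [CommRing AM] [CommRing AU]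
  [Bialgebra k AM] [Bialgebra k AU] {R : Type v} [CommRing R] [Algebra k R]

/-- variant of `UnipMult.map_one_tmul_of_mem_fixFilt` assuming only that the target has no
primitive elements. -/
theorem map_one_tmul_of_mem_fixFilt'
    (hprim : ∀ b : R ⊗[k] AM, Coalgebra.comul (R := R) b =
      b ⊗ₜ[R] (1 : R ⊗[k] AM) + (1 : R ⊗[k] AM) ⊗ₜ[R] b → b = 0)
    (φ : R ⊗[k] AU →ₐc[R] R ⊗[k] AM) (n : ℕ) :
    ∀ a ∈ fixFilt k AU AU n, φ ((1 : R) ⊗ₜ[k] a) =
      Coalgebra.counit (R := k) a • (1 : R ⊗[k] AM) := by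
  induction n with
  | zero =>
    intro a ha
    rw [fixFilt_zero, Submodule.mem_bot] at ha
    rw [ha, TensorProduct.tmul_zero, map_zero, map_zero, zero_smul]
  | succ n ih =>
    intro a ha
    rw [fixFilt_succ] at ha
    obtain ⟨y, hy⟩ := (mem_nextFix _ a).1 ha
    change (fixFilt k AU AU n).subtype.rTensor AU y =
      Coalgebra.comul (R := k) a - a ⊗ₜ[k] (1 : AU) at hy
    have hφk : ∀ (c : k) (z : R ⊗[k] AU), φ (c • z) = c • φ z := by
      intro c z
      rw [← algebraMap_smul R c z, map_smul, algebraMap_smul]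
    set b := φ ((1 : R) ⊗ₜ[k] a) with hb
    set c := Coalgebra.counit (R := k) a with hc
    have key : ∀ y : (fixFilt k AU AU n) ⊗[k] AU,
        TensorProduct.map φ.toLinearMap φ.toLinearMap
          (bcPair (1 : R) ((fixFilt k AU AU n).subtype.rTensor AU y)) =
        (1 : R ⊗[k] AM) ⊗ₜ[R] φ ((1 : R) ⊗ₜ[k] (TensorProduct.lid k AU
          ((Coalgebra.counit (R := k)).rTensor AU ((fixFilt k AU AU n).subtype.rTensor AU y)))) := by
      intro y
      induction y using TensorProduct.induction_on with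
      | zero => simp
      | add y z hy hz =>
        simp only [map_add, bcPair_add, TensorProduct.tmul_add, hy, hz]
      | tmul p x =>
        simp only [LinearMap.rTensor_tmul, Submodule.subtype_apply, bcPair_tmul,
          TensorProduct.map_tmul, TensorProduct.lid_tmul]
        change φ ((1 : R) ⊗ₜ[k] (p : AU)) ⊗ₜ[R] φ ((1 : R) ⊗ₜ[k] x) = _
        rw [ih p p.2, smul_one_tmul]
        congr 1
        rw [TensorProduct.tmul_smul, hφk]
    have h1 : Coalgebra.comul (R := R) b =
        TensorProduct.map φ.toLinearMap φ.toLinearMap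
          (Coalgebra.comul (R := R) ((1 : R) ⊗ₜ[k] a : R ⊗[k] AU)) :=
      (CoalgHomClass.map_comp_comul_apply φ _).symm
    have h2 : Coalgebra.comul (R := k) a =
        a ⊗ₜ[k] (1 : AU) + (fixFilt k AU AU n).subtype.rTensor AU y := by
      rw [hy]; abel
    have h3 : TensorProduct.lid k AU ((Coalgebra.counit (R := k)).rTensor AU
        ((fixFilt k AU AU n).subtype.rTensor AU y)) = a - c • (1 : AU) := by
      rw [hy, map_sub, map_sub, Coalgebra.rTensor_counit_comul, LinearMap.rTensor_tmul,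
        TensorProduct.lid_tmul, TensorProduct.lid_tmul, one_smul]
    have h4 : Coalgebra.comul (R := R) b =
        b ⊗ₜ[R] (1 : R ⊗[k] AM) + (1 : R ⊗[k] AM) ⊗ₜ[R] (b - c • (1 : R ⊗[k] AM)) := by
      rw [h1, comul_tmul_eq, h2, bcPair_add, map_add, key, h3, bcPair_tmul,
        TensorProduct.map_tmul]
      congr 1
      · congr 1
        rw [← Algebra.TensorProduct.one_def]
        exact map_one φ
      · congr 1
        rw [TensorProduct.tmul_sub, map_sub, TensorProduct.tmul_smul, hφk,
          ← Algebra.TensorProduct.one_def, map_one]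
    have h5 : Coalgebra.comul (R := R) (b - c • (1 : R ⊗[k] AM)) =
        (b - c • (1 : R ⊗[k] AM)) ⊗ₜ[R] (1 : R ⊗[k] AM) +
          (1 : R ⊗[k] AM) ⊗ₜ[R] (b - c • (1 : R ⊗[k] AM)) := by
      have e : c • (1 : R ⊗[k] AM) = (algebraMap k R c) • (1 : R ⊗[k] AM) := by
        rw [algebraMap_smul]
      rw [map_sub, h4, e, map_smul, Bialgebra.comul_one, TensorProduct.sub_tmul,
        Algebra.TensorProduct.one_def (A := R ⊗[k] AM) (B := R ⊗[k] AM), TensorProduct.smul_tmul']
      abel
    have h6 := hprim _ h5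
    exact sub_eq_zero.1 h6

end General

section Min

variable {k : Type u} [Field k] {A : Type u} [CommRing A] [HopfAlgebra k A]

lemma one_tmul_injective' (R' : Type v) [CommRing R'] [Algebra k R'] [Nontrivial R']
    (M : Type*) [AddCommGroup M] [Module k M] :
    Function.Injective (fun m : M => (1 : R') ⊗ₜ[k] m) := by
  have h1 : Function.Injective ((Algebra.linearMap k R').rTensor M) :=
    Module.Flat.rTensor_preserves_injective_linearMap _ (algebraMap k R').injective
  intro m m' h
  have : (TensorProduct.lid k M).symm m = (TensorProduct.lid k M).symm m' := by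
    apply h1
    simpa using h
  exact (TensorProduct.lid k M).symm.injective this

/-- the ideal of the unipotent part is contained in every Hopf ideal with quotient of
multiplicative type. -/
theorem augSpan_unipSub_le (I : Ideal A) [I.IsHopfIdeal k]
    (h : SGA3b.IsMultTypeConst k (A ⧸ I)) : augSpan (unipSub k A) ≤ I := by
  obtain ⟨R', _, _, hff, M, _, ⟨e⟩⟩ := h
  have hprim : ∀ b : R' ⊗[k] (A ⧸ I), Coalgebra.comul (R := R') b =
      b ⊗ₜ[R'] (1 : R' ⊗[k] (A ⧸ I)) + (1 : R' ⊗[k] (A ⧸ I)) ⊗ₜ[R'] b → b = 0 := by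
    intro b hb
    have h1 : Coalgebra.comul (R := R') (e b) =
        e b ⊗ₜ[R'] (1 : MonoidAlgebra R' M) + (1 : MonoidAlgebra R' M) ⊗ₜ[R'] e b := by
      rw [← CoalgHomClass.map_comp_comul_apply e b, hb, map_add, TensorProduct.map_tmul,
        TensorProduct.map_tmul]
      have e1 : e (1 : R' ⊗[k] (A ⧸ I)) = 1 := map_one e
      exact congrArg₂ (fun x y => e b ⊗ₜ[R'] x + y ⊗ₜ[R'] e b) e1 e1
    have h2 := eq_zero_of_primitive (isTrivIntegral_monoidAlgebra (k := R') (M := M)) h1
    exact e.injective (h2.trans (map_zero e).symm)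
  let φ : R' ⊗[k] A →ₐc[R'] R' ⊗[k] (A ⧸ I) :=
    Bialgebra.TensorProduct.map (BialgHom.id R' R') (Bialgebra.Quotient.mkBialgHom (R := k) I)
  haveI : Nontrivial (R' ⊗[k] k) := Module.FaithfullyFlat.lTensor_nontrivial k R' k
  haveI : Nontrivial R' := (TensorProduct.rid k R').symm.toEquiv.nontrivial
  have hinj := one_tmul_injective' (k := k) R' (A ⧸ I)
  apply Ideal.span_le.2
  rintro a ⟨⟨n, ha⟩, hε⟩
  have h1 := map_one_tmul_of_mem_fixFilt' hprim φ n a ha
  rw [hε, zero_smul] at h1
  have h2 : φ ((1 : R') ⊗ₜ[k] a) = (1 : R') ⊗ₜ[k] (Ideal.Quotient.mk I a) := rfl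
  rw [h2] at h1
  have h3 : Ideal.Quotient.mk I a = 0 := hinj (by simpa using h1)
  exact Ideal.Quotient.eq_zero_iff_mem.1 h3

end Min

end Groth.Agent.Lib.Helper7.MultMin
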