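import Groth.Agent.Lib.Helper7.ER2
import Groth.Agent.Lib.Helper7.MT5
import Groth.Agent.Lib.Helper7.MultMin
import Groth.Agent.Lib.Helper7.IsoTr6

/-!
# Extensions of a group of multiplicative type by an étale unipotent group, II (helper7)

* `exists_retraction_sepClosed`: splitting over a separably closed field.
* `noPrim_of_isMultTypeConst`, `isCocomm_of_isMultTypeConst`.
-/

set_option autoImplicit false

namespace Groth.Agent.Lib.Helper7.ER

open TensorProduct HopfRep Groth.Agent.Lib.Helper7.MT Groth.Agent.Lib.Helper7.BCR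
  Groth.Agent.Lib.Helper7.NilLift Groth.Agent.Lib.Helper7.Comod

universe u

section SepClosed

theorem exists_retraction_sepClosed (k : Type u) [Field k] [IsSepClosed k]
    (A B : Type u) [CommRing A] [HopfAlgebra k A] [Algebra.FiniteType k A] [CommRing B]
    [HopfAlgebra k B] [Algebra.FiniteType k B] [Coalgebra.IsCocomm k B]
    (hP : ∀ f : B, Coalgebra.comul (R := k) f = f ⊗ₜ[k] (1 : B) + (1 : B) ⊗ₜ[k] f → f = 0)
    (ψ : B →ₐc[k] A) (hψ : Function.Injective ψ)
    (J : Ideal A) [J.IsHopfIdeal k]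
    (hJ : J = Ideal.map (ψ : B →+* A) (RingHom.ker (Bialgebra.counitAlgHom k B)))
    (hU : HopfRep.IsUnipotent k (A ⧸ J)) (hsep : ∀ x : A ⧸ J, IsSeparable k x) :
    ∃ r : A →ₐc[k] B, r.comp ψ = BialgHom.id k B := by
  have hdiag : IsDiagonalizable k B := Groth.Agent.Lib.Helper7.DiagSepClosed.main k B hP
  obtain ⟨M, _, ⟨e⟩⟩ := Groth.Agent.Lib.Helper7.DiagIso.isDiag_of_isDiagonalizable hdiag
  let es : MonoidAlgebra k M →ₐc[k] B := (e.symm : MonoidAlgebra k M →ₐc[k] B)
  let ψ₀ : MonoidAlgebra k M →ₐc[k] A := ψ.comp es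
  have hψ₀ : Function.Injective ψ₀ := hψ.comp e.symm.injective
  have haug : Ideal.map (es : MonoidAlgebra k M →+* B)
      (RingHom.ker (Bialgebra.counitAlgHom k (MonoidAlgebra k M))) =
      RingHom.ker (Bialgebra.counitAlgHom k B) := by
    have h1 : RingHom.ker (Bialgebra.counitAlgHom k (MonoidAlgebra k M)) =
        Ideal.comap (es : MonoidAlgebra k M →+* B) (RingHom.ker (Bialgebra.counitAlgHom k B)) := by
      ext x
      rw [Ideal.mem_comap, RingHom.mem_ker, RingHom.mem_ker]
      change Coalgebra.counit (R := k) x = 0 ↔ Coalgebra.counit (R := k) (es x) = 0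
      rw [CoalgHomClass.counit_comp_apply es x]
    rw [h1]
    exact Ideal.map_comap_of_surjective (es : MonoidAlgebra k M →+* B)
      (fun y => ⟨e y, e.symm_apply_apply y⟩) _
  have hJ₀ : J = Ideal.map (ψ₀ : MonoidAlgebra k M →+* A)
      (RingHom.ker (Bialgebra.counitAlgHom k (MonoidAlgebra k M))) := by
    rw [hJ, ← haug, Ideal.map_map]
    rfl
  obtain ⟨r, hr⟩ := Groth.Agent.Lib.Helper7.TS.exists_retraction_sep ψ₀ J hψ₀ hJ₀ hU hsep
  refine ⟨es.comp r, ?_⟩
  apply DFunLike.ext
  intro b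
  have h1 : ψ b = ψ₀ (e b) := by
    change ψ b = ψ (e.symm (e b))
    rw [e.symm_apply_apply]
  have h2 : r (ψ₀ (e b)) = e b := DFunLike.congr_fun hr (e b)
  change es (r (ψ b)) = b
  rw [h1, h2]
  exact e.symm_apply_apply b

end SepClosed

section MultType

variable {k : Type u} [Field k] {B : Type u} [CommRing B] [HopfAlgebra k B]

theorem noPrim_of_isMultTypeConst (hB : SGA3b.IsMultTypeConst k B) :
    ∀ f : B, Coalgebra.comul (R := k) f = f ⊗ₜ[k] (1 : B) + (1 : B) ⊗ₜ[k] f → f = 0 := by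
  obtain ⟨R', _, _, hff, M, _, ⟨e⟩⟩ := hB
  have hprim : ∀ b : R' ⊗[k] B, Coalgebra.comul (R := R') b =
      b ⊗ₜ[R'] (1 : R' ⊗[k] B) + (1 : R' ⊗[k] B) ⊗ₜ[R'] b → b = 0 := by
    intro b hb
    have h1 : Coalgebra.comul (R := R') (e b) =
        e b ⊗ₜ[R'] (1 : MonoidAlgebra R' M) + (1 : MonoidAlgebra R' M) ⊗ₜ[R'] e b := by
      rw [← CoalgHomClass.map_comp_comul_apply e b, hb, map_add, TensorProduct.map_tmul,
        TensorProduct.map_tmul]
      have e1 : e (1 : R' ⊗[k] B) = 1 := map_one e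
      exact congrArg₂ (fun x y => e b ⊗ₜ[R'] x + y ⊗ₜ[R'] e b) e1 e1
    have h2 := eq_zero_of_primitive (isTrivIntegral_monoidAlgebra (k := R') (M := M)) h1
    exact e.injective (h2.trans (map_zero e).symm)
  haveI : Nontrivial (R' ⊗[k] k) := Module.FaithfullyFlat.lTensor_nontrivial k R' k
  haveI : Nontrivial R' := (TensorProduct.rid k R').symm.toEquiv.nontrivial
  have hinj := Groth.Agent.Lib.Helper7.MultMin.one_tmul_injective' (k := k) R' B
  intro f hf
  apply hinj
  change (1 : R') ⊗ₜ[k] f = (1 : R') ⊗ₜ[k] (0 : B)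
  rw [TensorProduct.tmul_zero]
  apply hprim
  rw [comul_tmul_eq, hf, bcPair_add, bcPair_tmul, bcPair_tmul, Algebra.TensorProduct.one_def]

theorem isCocomm_of_isMultTypeConst (hB : SGA3b.IsMultTypeConst k B) :
    Coalgebra.IsCocomm k B := by
  obtain ⟨R', _, _, hff, M, _, ⟨e⟩⟩ := hB
  let c : Chart k B :=
    { T := R', flat := inferInstance, P := M,
      b := (MonoidAlgebra.basis M R').map e.symm.toLinearEquiv,
      hb := by
        intro p
        rw [Module.Basis.map_apply, MonoidAlgebra.basis_apply]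
        exact (MonoidAlgebra.isGroupLikeElem_single_one (R := R') (A := R') p).map e.symm }
  have hT : JointlyFaithful k (fun _ : PUnit.{u+1} => c.T) := by
    intro N _ _ hN
    have := hN PUnit.unit
    exact Module.FaithfullyFlat.lTensor_reflects_triviality k R' N
  exact Groth.Agent.Lib.Helper7.IsoTr.isCocomm_of_family (fun _ : PUnit.{u+1} => c) hT

end MultType

end Groth.Agent.Lib.Helper7.ER
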