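import Groth.Agent.Lib.Helper7.ER3
import Groth.Agent.Lib.Helper7.UnipBC

/-!
# Extensions of a connected group of multiplicative type by an étale unipotent group, III
(helper7)

Galois descent of the (unique) lifting from the separable closure.
-/

set_option autoImplicit false

namespace Groth.Agent.Lib.Helper7.ER

open TensorProduct HopfRep Groth.Agent.Lib.Helper7.MT Groth.Agent.Lib.Helper7.BCR
  Groth.Agent.Lib.Helper7.Comod Groth.Agent.Lib.Helper7.DiagCocomm
  Groth.Agent.Lib.Helper7.UnipBC Groth.Agent.Lib.Helper7.UnipExt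
  Groth.Agent.Lib.Helper7.HopfIdealMap Groth.Agent.Lib.Helper7.TrigBC

universe u

section Conj

variable {k : Type u} {K : Type u} [Field k] [Field K] [Algebra k K] {A B : Type u}
  [CommRing A] [Bialgebra k A] [CommRing B] [Bialgebra k B]

/-- the Galois conjugate of a `K`-algebra map `K ⊗ A → K ⊗ B`. -/
noncomputable def conjAlgHom (σ : K ≃ₐ[k] K) (ρ : K ⊗[k] A →ₐ[K] K ⊗[k] B) :
    K ⊗[k] A →ₐ[K] K ⊗[k] B where
  toFun x := sig σ B (ρ (sig σ.symm A x))
  map_one' := by rw [sig_one, map_one, sig_one]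
  map_mul' x y := by rw [sig_mul, map_mul, sig_mul]
  map_zero' := by rw [map_zero, map_zero, map_zero]
  map_add' x y := by rw [map_add, map_add, map_add]
  commutes' c := by
    rw [Algebra.TensorProduct.algebraMap_apply, Algebra.TensorProduct.algebraMap_apply,
      Algebra.algebraMap_self_apply, sig_tmul]
    have h1 : (σ.symm c ⊗ₜ[k] (1 : A) : K ⊗[k] A) = algebraMap K (K ⊗[k] A) (σ.symm c) := by
      rw [Algebra.TensorProduct.algebraMap_apply, Algebra.algebraMap_self_apply]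
    rw [h1, AlgHom.commutes, Algebra.TensorProduct.algebraMap_apply,
      Algebra.algebraMap_self_apply, sig_tmul, AlgEquiv.apply_symm_apply]

@[simp] lemma conjAlgHom_apply (σ : K ≃ₐ[k] K) (ρ : K ⊗[k] A →ₐ[K] K ⊗[k] B) (x : K ⊗[k] A) :
    conjAlgHom σ ρ x = sig σ B (ρ (sig σ.symm A x)) := rfl

end Conj

section Main

set_option maxHeartbeats 1600000 in
theorem exists_retraction_of_etale_aux (k : Type u) [Field k] (K : Type u) [Field K] [Algebra k K]
    [IsSepClosed K] [IsGalois k K] (A B : Type u) [CommRing A]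
    [HopfAlgebra k A] [Algebra.FiniteType k A] [CommRing B] [HopfAlgebra k B]
    [Algebra.FiniteType k B] (hB : SGA3b.IsMultTypeConst k B) (ψ : B →ₐc[k] A)
    (hψ : Function.Injective ψ) (J : Ideal A) [J.IsHopfIdeal k]
    (hJ : J = Ideal.map (ψ : B →+* A) (RingHom.ker (Bialgebra.counitAlgHom k B)))
    (hU : HopfRep.IsUnipotent k (A ⧸ J)) [Algebra.Etale k (A ⧸ J)]
    (hH : ∀ e : B, IsIdempotentElem e → e = 0 ∨ e = 1) :
    ∃ r : A →ₐc[k] B, r.comp ψ = BialgHom.id k B := by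
  classical
  haveI hcc : Coalgebra.IsCocomm k B := isCocomm_of_isMultTypeConst hB
  have hP := noPrim_of_isMultTypeConst hB
  -- base changes
  let ψK : K ⊗[k] B →ₐc[K] K ⊗[k] A := Bialgebra.TensorProduct.map (BialgHom.id K K) ψ
  have hψK : ∀ (c : K) (b : B), ψK (c ⊗ₜ[k] b) = c ⊗ₜ[k] ψ b := fun _ _ => rfl
  have hψKl : ∀ x : K ⊗[k] B, ψK x = (ψ : B →ₐ[k] A).toLinearMap.lTensor K x := by
    intro x
    induction x using TensorProduct.induction_on with
    | zero => simp
    | tmul c a => rfl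
    | add y z hy hz => rw [map_add, hy, hz, map_add]
  have hψKinj : Function.Injective ψK := by
    have h1 : Function.Injective ((ψ : B →ₐ[k] A).toLinearMap.lTensor K) :=
      Module.Flat.lTensor_preserves_injective_linearMap _ hψ
    intro x y hxy
    apply h1
    rw [← hψKl, ← hψKl, hxy]
  set JK : Ideal (K ⊗[k] A) := Ideal.map (ψK : K ⊗[k] B →+* K ⊗[k] A)
    (RingHom.ker (Bialgebra.counitAlgHom K (K ⊗[k] B))) with hJK
  haveI : JK.IsHopfIdeal K := isHopfIdeal_map ψK _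
  let pK : K ⊗[k] A →ₐc[K] K ⊗[k] (A ⧸ J) :=
    Bialgebra.TensorProduct.map (BialgHom.id K K) (Bialgebra.Quotient.mkBialgHom (R := k) J)
  have hpK : ∀ (c : K) (a : A), pK (c ⊗ₜ[k] a) = c ⊗ₜ[k] Ideal.Quotient.mk J a := fun _ _ => rfl
  have hp : Function.Surjective pK := by
    intro y
    induction y using TensorProduct.induction_on with
    | zero => exact ⟨0, map_zero _⟩
    | tmul c q =>
      obtain ⟨a, rfl⟩ := Ideal.Quotient.mk_surjective q
      exact ⟨c ⊗ₜ[k] a, hpK c a⟩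
    | add y z hy hz =>
      obtain ⟨y', rfl⟩ := hy
      obtain ⟨z', rfl⟩ := hz
      exact ⟨y' + z', map_add _ _ _⟩
  let q₂ : K ⊗[k] A →ₐc[K] (K ⊗[k] A) ⧸ JK := Bialgebra.Quotient.mkBialgHom (R := K) JK
  have hJle : J ≤ Ideal.comap (Algebra.TensorProduct.includeRight : A →ₐ[k] K ⊗[k] A) JK := by
    rw [hJ]
    apply Ideal.map_le_iff_le_comap.2
    intro b hb
    rw [RingHom.mem_ker] at hb
    rw [Ideal.mem_comap, Ideal.mem_comap]
    have h1 : (Algebra.TensorProduct.includeRight : A →ₐ[k] K ⊗[k] A) ((ψ : B →+* A) b) =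
        (ψK : K ⊗[k] B →+* K ⊗[k] A) ((1 : K) ⊗ₜ[k] b) := rfl
    rw [h1]
    apply Ideal.mem_map_of_mem
    rw [RingHom.mem_ker]
    change Coalgebra.counit (R := K) ((1 : K) ⊗ₜ[k] b : K ⊗[k] B) = 0
    rw [TensorProduct.counit_tmul]
    have : Coalgebra.counit (R := k) b = 0 := hb
    rw [this, zero_smul]
  have hker : ∀ x, pK x = 0 → q₂ x = 0 := by
    intro x hx
    have hex : Function.Exact ((J.restrictScalars k).subtype)
        (Ideal.Quotient.mkₐ k J).toLinearMap := by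
      intro a
      constructor
      · intro h
        exact ⟨⟨a, Ideal.Quotient.eq_zero_iff_mem.1 h⟩, rfl⟩
      · rintro ⟨j, rfl⟩
        exact Ideal.Quotient.eq_zero_iff_mem.2 j.2
    have hex' := lTensor_exact K hex (Ideal.Quotient.mkₐ_surjective k J)
    have hpl : ∀ x : K ⊗[k] A, pK x = (Ideal.Quotient.mkₐ k J).toLinearMap.lTensor K x := by
      intro x
      induction x using TensorProduct.induction_on with
      | zero => simp
      | tmul c a => rfl
      | add y z hy hz => rw [map_add, hy, hz, map_add]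
    have hx' : (Ideal.Quotient.mkₐ k J).toLinearMap.lTensor K x = 0 := by
      rw [← hpl]; exact hx
    obtain ⟨w, rfl⟩ := (hex' x).1 hx'
    clear hx hx'
    change Ideal.Quotient.mk JK _ = 0
    rw [Ideal.Quotient.eq_zero_iff_mem]
    induction w using TensorProduct.induction_on with
    | zero => simp
    | tmul c j =>
      rw [LinearMap.lTensor_tmul]
      have h1 : (c ⊗ₜ[k] ((J.restrictScalars k).subtype j) : K ⊗[k] A) =
          (c ⊗ₜ[k] (1 : A)) * ((1 : K) ⊗ₜ[k] (j : A)) := by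
        rw [Algebra.TensorProduct.tmul_mul_tmul, mul_one, one_mul]
        rfl
      rw [h1]
      apply Ideal.mul_mem_left
      exact hJle j.2
    | add y z hy hz =>
      rw [map_add]
      exact Ideal.add_mem _ hy hz
  obtain ⟨h, hh⟩ := exists_bialgHom_of_ker_le pK hp q₂ hker
  have hhsurj : Function.Surjective h := by
    intro y
    obtain ⟨x, rfl⟩ := Ideal.Quotient.mk_surjective y
    exact ⟨pK x, hh x⟩
  have hUK : IsUnipotent K ((K ⊗[k] A) ⧸ JK) :=
    isUnipotent_of_surjective h hhsurj (isUnipotent_baseChange hU)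
  have hsepK : ∀ x : (K ⊗[k] A) ⧸ JK, IsSeparable K x := by
    intro x
    obtain ⟨y, rfl⟩ := hhsurj x
    have hy : IsSeparable K y := isSeparable_of_formallyEtale K (K ⊗[k] (A ⧸ J)) y
    let ha : K ⊗[k] (A ⧸ J) →ₐ[K] (K ⊗[k] A) ⧸ JK := (h : K ⊗[k] (A ⧸ J) →ₐ[K] (K ⊗[k] A) ⧸ JK)
    exact Groth.Agent.Lib.Helper7.PiZero.isSeparable_map ha hy
  have hPK : ∀ z : K ⊗[k] B, Coalgebra.comul (R := K) z =
      z ⊗ₜ[K] (1 : K ⊗[k] B) + (1 : K ⊗[k] B) ⊗ₜ[K] z → z = 0 :=
    fun z hz => primitive_baseChange_eq_zero hP z hz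
  obtain ⟨ρ, hρ⟩ := exists_retraction_sepClosed K (K ⊗[k] A) (K ⊗[k] B) hPK ψK hψKinj JK hJK
    hUK hsepK
  -- uniqueness over `K`
  haveI : Algebra.FormallyUnramified K ((K ⊗[k] A) ⧸ JK) := by
    let ha : K ⊗[k] (A ⧸ J) →ₐ[K] (K ⊗[k] A) ⧸ JK := (h : K ⊗[k] (A ⧸ J) →ₐ[K] (K ⊗[k] A) ⧸ JK)
    exact Algebra.FormallyUnramified.of_surjective ha hhsurj
  haveI : Algebra.EssFiniteType K ((K ⊗[k] A) ⧸ JK) := inferInstance
  have hHK : ∀ e : K ⊗[k] B, IsIdempotentElem e → e = 0 ∨ e = 1 := noIdem_baseChange hH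
  let ρa : K ⊗[k] A →ₐ[K] K ⊗[k] B := (ρ : K ⊗[k] A →ₐ[K] K ⊗[k] B)
  have hρψ : ∀ y : K ⊗[k] B, ρ (ψK y) = y := fun y => DFunLike.congr_fun hρ y
  have hρa1 : ρa.comp (ψK : K ⊗[k] B →ₐ[K] K ⊗[k] A) = AlgHom.id K (K ⊗[k] B) := by
    apply AlgHom.ext
    intro y
    exact hρψ y
  have hρa2 : (Bialgebra.counitAlgHom K (K ⊗[k] B)).comp ρa =
      Bialgebra.counitAlgHom K (K ⊗[k] A) := by
    apply AlgHom.ext
    intro x
    exact CoalgHomClass.counit_comp_apply ρ x
  have hsigψ : ∀ (τ : K ≃ₐ[k] K) (y : K ⊗[k] B), sig τ A (ψK y) = ψK (sig τ B y) := by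
    intro τ y
    induction y using TensorProduct.induction_on with
    | zero => simp
    | tmul c b => rw [hψK, sig_tmul, sig_tmul, hψK]
    | add y z hy hz => rw [map_add, map_add, hy, hz, map_add, map_add]
  have hfix : ∀ (σ : K ≃ₐ[k] K) (a : A),
      sig σ B ((ρa.toLinearMap.restrictScalars k) ((1 : K) ⊗ₜ[k] a)) =
        (ρa.toLinearMap.restrictScalars k) ((1 : K) ⊗ₜ[k] a) := by
    intro σ a
    have h1 : (conjAlgHom σ ρa).comp (ψK : K ⊗[k] B →ₐ[K] K ⊗[k] A) =
        AlgHom.id K (K ⊗[k] B) := by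
      apply AlgHom.ext
      intro y
      change sig σ B (ρ (sig σ.symm A (ψK y))) = y
      rw [hsigψ, hρψ, sig_sig_symm]
    have h2 : (Bialgebra.counitAlgHom K (K ⊗[k] B)).comp (conjAlgHom σ ρa) =
        Bialgebra.counitAlgHom K (K ⊗[k] A) := by
      apply AlgHom.ext
      intro x
      change Coalgebra.counit (R := K) (sig σ B (ρ (sig σ.symm A x))) =
        Coalgebra.counit (R := K) x
      rw [counit_sig, CoalgHomClass.counit_comp_apply ρ, counit_sig, AlgEquiv.apply_symm_apply]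
    have h3 := retraction_unique ψK JK hJK hHK (conjAlgHom σ ρa) ρa h1 hρa1 h2 hρa2
    have h4 := AlgHom.congr_fun h3 ((1 : K) ⊗ₜ[k] a)
    rw [conjAlgHom_apply, sig_one_tmul] at h4
    exact h4
  obtain ⟨f, hf⟩ := exists_linearMap_of_equivariant (ρa.toLinearMap.restrictScalars k) hfix
  have hf' : ∀ a : A, ρ ((1 : K) ⊗ₜ[k] a) = (1 : K) ⊗ₜ[k] f a := hf
  have hinjB := MT.one_tmul_injective (k := k) (K := K) B
  have hone : f 1 = 1 := by
    apply hinjB
    change (1 : K) ⊗ₜ[k] f 1 = (1 : K) ⊗ₜ[k] (1 : B)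
    rw [← hf', ← Algebra.TensorProduct.one_def, map_one, Algebra.TensorProduct.one_def]
  have hmul : ∀ x y, f (x * y) = f x * f y := by
    intro x y
    apply hinjB
    change (1 : K) ⊗ₜ[k] f (x * y) = (1 : K) ⊗ₜ[k] (f x * f y)
    have e1 : ((1 : K) ⊗ₜ[k] (x * y) : K ⊗[k] A) = ((1 : K) ⊗ₜ[k] x) * ((1 : K) ⊗ₜ[k] y) := by
      rw [Algebra.TensorProduct.tmul_mul_tmul, one_mul]
    have e2 : ((1 : K) ⊗ₜ[k] (f x * f y) : K ⊗[k] B) =
        ((1 : K) ⊗ₜ[k] f x) * ((1 : K) ⊗ₜ[k] f y) := by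
      rw [Algebra.TensorProduct.tmul_mul_tmul, one_mul]
    rw [← hf', e1, map_mul, hf', hf', e2]
  let fA : A →ₐ[k] B := AlgHom.ofLinearMap f hone hmul
  have hfA : ∀ x, fA x = f x := fun _ => rfl
  have hinjBB : Function.Injective (fun d : B ⊗[k] B => (bcPair (1 : K) d :
      (K ⊗[k] B) ⊗[K] (K ⊗[k] B))) := by
    have : (fun d : B ⊗[k] B => (bcPair (1 : K) d : (K ⊗[k] B) ⊗[K] (K ⊗[k] B))) =
        (theta k K B) ∘ (fun d : B ⊗[k] B => (1 : K) ⊗ₜ[k] d) := rfl
    rw [this]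
    exact (theta k K B).injective.comp (MT.one_tmul_injective (k := k) (K := K) _)
  have hnat : ∀ d : A ⊗[k] A, TensorProduct.map ρa.toLinearMap ρa.toLinearMap (bcPair (1 : K) d) =
      bcPair (1 : K) (TensorProduct.map f f d) := by
    intro d
    induction d using TensorProduct.induction_on with
    | zero => simp
    | tmul y y' =>
      rw [bcPair_tmul, TensorProduct.map_tmul, TensorProduct.map_tmul, bcPair_tmul]
      change ρ ((1 : K) ⊗ₜ[k] y) ⊗ₜ[K] ρ ((1 : K) ⊗ₜ[k] y') = _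
      rw [hf', hf']
    | add y z hy hz => rw [bcPair_add, map_add, hy, hz, map_add, bcPair_add]
  have hcomul : (Algebra.TensorProduct.map fA fA).comp (Bialgebra.comulAlgHom k A) =
      (Bialgebra.comulAlgHom k B).comp fA := by
    apply AlgHom.ext
    intro x
    apply hinjBB
    change bcPair (1 : K) (TensorProduct.map f f (Coalgebra.comul (R := k) x)) =
      bcPair (1 : K) (Coalgebra.comul (R := k) (f x))
    rw [← hnat, ← comul_tmul_eq, ← comul_tmul_eq, ← hf']
    exact CoalgHomClass.map_comp_comul_apply ρ _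
  have hcounit : (Bialgebra.counitAlgHom k B).comp fA = Bialgebra.counitAlgHom k A := by
    apply AlgHom.ext
    intro x
    change Coalgebra.counit (R := k) (f x) = Coalgebra.counit (R := k) x
    have h5 := CoalgHomClass.counit_comp_apply ρ ((1 : K) ⊗ₜ[k] x)
    rw [hf', TensorProduct.counit_tmul, TensorProduct.counit_tmul] at h5
    simp only [CommSemiring.counit_apply] at h5
    have h6 : algebraMap k K (Coalgebra.counit (R := k) (f x)) =
        algebraMap k K (Coalgebra.counit (R := k) x) := by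
      rw [Algebra.algebraMap_eq_smul_one, Algebra.algebraMap_eq_smul_one]
      exact h5
    exact (algebraMap k K).injective h6
  refine ⟨BialgHom.ofAlgHom fA hcounit hcomul, ?_⟩
  apply DFunLike.ext
  intro b
  change f (ψ b) = b
  apply hinjB
  change (1 : K) ⊗ₜ[k] f (ψ b) = (1 : K) ⊗ₜ[k] b
  rw [← hf', ← hψK, hρψ]

end Main

end Groth.Agent.Lib.Helper7.ER
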