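import Mathlib

set_option autoImplicit false
universe u v

namespace Groth.Agent.Lib.Helper7.Pts

section Div

variable {D : Type v} [CommGroup D] (hD : ∀ n : ℕ, 0 < n → ∀ d : D, ∃ d' : D, d' ^ n = d)

include hD in
theorem exists_root_free {j : Type} [Fintype j] [DecidableEq j]
    (ψ : (j → Multiplicative ℤ) →* D) (n : ℕ) (hn : 0 < n) :
    ∃ θ : (j → Multiplicative ℤ) →* D, θ ^ n = ψ := by
  classical
  let gen : j → (j → Multiplicative ℤ) := fun i => Pi.mulSingle i (Multiplicative.ofAdd (1 : ℤ))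
  choose d hd using fun i => hD n hn (ψ (gen i))
  let θ : (j → Multiplicative ℤ) →* D :=
    { toFun := fun x => ∏ i, d i ^ (Multiplicative.toAdd (x i))
      map_one' := by simp
      map_mul' := by
        intro x y
        simp [zpow_add, Finset.prod_mul_distrib] }
  refine ⟨θ, ?_⟩
  ext i
  change (θ (gen i)) ^ n = ψ (gen i)
  have : θ (gen i) = d i := by
    change ∏ l, d l ^ (Multiplicative.toAdd (gen i l)) = d i
    rw [Finset.prod_eq_single i]
    · simp [gen]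
    · intro l _ hl
      simp [gen, Pi.mulSingle_eq_of_ne hl]
    · intro h
      exact absurd (Finset.mem_univ i) h
  rw [this, hd]

theorem exists_root_prod {L : Type} {F : Type} [CommGroup L] [CommGroup F] [Finite F]
    (hL : ∀ (ψ : L →* D) (n : ℕ), 0 < n → ∃ θ : L →* D, θ ^ n = ψ)
    (χ : L × F →* D) (m : ℕ) (hm : 0 < m) :
    ∃ f : ℕ, 0 < f ∧ ∃ θ : L × F →* D, χ ^ f = θ ^ (m * f) := by
  have hf : 0 < Nat.card F := Nat.card_pos
  refine ⟨Nat.card F, hf, ?_⟩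
  obtain ⟨θ₀, hθ₀⟩ := hL ((χ.comp (MonoidHom.inl L F)) ^ (Nat.card F)) (m * Nat.card F)
    (Nat.mul_pos hm hf)
  refine ⟨θ₀.comp (MonoidHom.fst L F), ?_⟩
  ext ⟨x, y⟩
  rw [MonoidHom.pow_apply, MonoidHom.pow_apply, MonoidHom.comp_apply, MonoidHom.coe_fst]
  have h1 := DFunLike.congr_fun hθ₀ x
  rw [MonoidHom.pow_apply, MonoidHom.pow_apply, MonoidHom.comp_apply, MonoidHom.inl_apply] at h1
  rw [h1]
  have h2 : ((x, y) : L × F) = (x, 1) * (1, y) := by simp
  rw [h2, map_mul, mul_pow]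
  have h3 : χ ((1, y) : L × F) ^ Nat.card F = 1 := by
    rw [← map_pow, Prod.pow_mk, one_pow, pow_card_eq_one', ← Prod.one_eq_mk, map_one]
  rw [h3, mul_one]

include hD in
theorem exists_root_of_fg {M : Type u} [CommGroup M] [Group.FG M]
    (χ : M →* D) (m : ℕ) (hm : 0 < m) :
    ∃ f : ℕ, 0 < f ∧ ∃ θ : M →* D, χ ^ f = θ ^ (m * f) := by
  classical
  obtain ⟨ι, j, _, _, p, hp, e, ⟨σ⟩⟩ := CommGroup.equiv_free_prod_prod_multiplicative_zmod M
  have : ∀ i, NeZero (p i ^ e i) := fun i => ⟨(pow_pos (hp i).pos _).ne'⟩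
  have : ∀ i, Finite (Multiplicative (ZMod (p i ^ e i))) := fun i =>
    inferInstanceAs (Finite (ZMod (p i ^ e i)))
  obtain ⟨f, hf, θ, hθ⟩ := exists_root_prod
    (fun ψ n hn => exists_root_free hD ψ n hn)
    (χ.comp σ.symm.toMonoidHom) m hm
  refine ⟨f, hf, θ.comp σ.toMonoidHom, ?_⟩
  ext x
  have h := DFunLike.congr_fun hθ (σ x)
  simp only [MonoidHom.pow_apply, MonoidHom.comp_apply] at h ⊢
  have h' : σ.symm.toMonoidHom (σ x) = x := σ.symm_apply_apply x
  rw [h'] at h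
  exact h

end Div

theorem units_divisible (k : Type u) [Field k] [IsAlgClosed k] :
    ∀ n : ℕ, 0 < n → ∀ d : kˣ, ∃ d' : kˣ, d' ^ n = d := by
  intro n hn d
  obtain ⟨z, hz⟩ := IsAlgClosed.exists_pow_nat_eq (d : k) hn
  have hz0 : z ≠ 0 := by
    rintro rfl
    rw [zero_pow hn.ne'] at hz
    exact d.ne_zero hz.symm
  refine ⟨Units.mk0 z hz0, ?_⟩
  apply Units.ext
  rw [Units.val_pow_eq_pow_val, Units.val_mk0, hz]

end Groth.Agent.Lib.Helper7.Pts
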