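import Mathlib
import Groth.Prelude.Def_SGA3b
import Groth.Agent.Lib.Helper7.PT1
import Groth.Agent.Lib.Helper7.PT2
import Groth.Agent.Lib.Helper7.HopfBCRing

set_option autoImplicit false
universe u
open TensorProduct SGA3b WithConv

namespace Groth.Agent.Lib.Helper7.Pts

section Theta1

variable (k : Type u) [Field k] (M : Type u) [CommGroup M]

/-- characters to points of the group algebra. -/
noncomputable def theta1 : (M →* kˣ) →* WithConv (MonoidAlgebra k M →ₐ[k] k) where
  toFun χ := toConv (MonoidAlgebra.lift k k M ((Units.coeHom k).comp χ))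
  map_one' := by
    apply WithConv.ofConv_injective
    refine MonoidAlgebra.algHom_ext ?_ (Subsingleton.elim _ _)
    intro m
    simp [AlgHom.convOne_def]
  map_mul' χ χ' := by
    apply WithConv.ofConv_injective
    refine MonoidAlgebra.algHom_ext ?_ (Subsingleton.elim _ _)
    intro m
    rw [AlgHom.convMul_apply,
      (MonoidAlgebra.isGroupLikeElem_single_one (R := k) (A := k) m).comul_eq_tmul_self]
    simp

theorem theta1_surjective : Function.Surjective (theta1 k M) := by
  intro η
  refine ⟨((MonoidAlgebra.lift k k M).symm η.ofConv).toHomUnits, ?_⟩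
  apply WithConv.ofConv_injective
  refine MonoidAlgebra.algHom_ext ?_ (Subsingleton.elim _ _)
  intro m
  simp [theta1]

end Theta1

section Theta3

variable {A : Type u} [CommRing A] (B : Type u) [CommRing B] [HopfAlgebra A B]
  (k : Type u) [CommRing k] [Algebra A k]

open Groth.Agent.Lib.Helper7.BCR in
theorem lift_bcPair (y y' : k ⊗[A] B →ₐ[k] k) (d : B ⊗[A] B) :
    Algebra.TensorProduct.lift y y' (fun _ _ => .all ..) (bcPair (1 : k) d) =
      Algebra.TensorProduct.lift
        ((y.restrictScalars A).comp (Algebra.TensorProduct.includeRight : B →ₐ[A] k ⊗[A] B))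
        ((y'.restrictScalars A).comp (Algebra.TensorProduct.includeRight : B →ₐ[A] k ⊗[A] B))
        (fun _ _ => .all ..) d := by
  induction d using TensorProduct.induction_on with
  | zero => simp
  | tmul a b => simp
  | add d d' hd hd' => rw [bcPair_add, map_add, map_add, hd, hd']

/-- restriction of points of the base change. -/
noncomputable def theta3 : WithConv (k ⊗[A] B →ₐ[k] k) →* WithConv (B →ₐ[A] k) where
  toFun y := toConv ((y.ofConv.restrictScalars A).comp
    (Algebra.TensorProduct.includeRight : B →ₐ[A] k ⊗[A] B))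
  map_one' := by
    apply WithConv.ofConv_injective
    ext b
    simp [AlgHom.convOne_def, Algebra.smul_def]
  map_mul' y y' := by
    apply WithConv.ofConv_injective
    ext b
    rw [AlgHom.convMul_apply, ofConv_toConv, ofConv_toConv, ofConv_toConv, ← lift_bcPair,
      ← Groth.Agent.Lib.Helper7.BCR.comul_tmul_eq, ← AlgHom.convMul_apply]
    rfl

theorem theta3_surjective : Function.Surjective (theta3 (A := A) B k) := by
  intro x
  refine ⟨toConv (Algebra.TensorProduct.lift (Algebra.ofId k k) x.ofConv (fun _ _ => .all ..)), ?_⟩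
  apply WithConv.ofConv_injective
  ext b
  simp [theta3]

end Theta3

section Root

variable {A : Type u} [CommRing A] {B : Type u} [CommRing B] [HopfAlgebra A B]
  {k : Type u} [Field k] [IsAlgClosed k] [Algebra A k] {M : Type u} [CommGroup M] [Group.FG M]

theorem exists_root_points (ψ : k ⊗[A] B ≃ₐc[k] MonoidAlgebra k M)
    (x : WithConv (B →ₐ[A] k)) (m : ℕ) (hm : 0 < m) :
    ∃ f : ℕ, 0 < f ∧ ∃ t : WithConv (B →ₐ[A] k), x ^ f = t ^ (m * f) := by
  let Θ : (M →* kˣ) →* WithConv (B →ₐ[A] k) :=
    (theta3 B k).comp ((precomp (ψ : k ⊗[A] B →ₐc[k] MonoidAlgebra k M)).comp (theta1 k M))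
  have hΘ : Function.Surjective Θ := by
    intro x
    obtain ⟨y, rfl⟩ := theta3_surjective B k x
    have h2 : ∃ z, precomp (ψ : k ⊗[A] B →ₐc[k] MonoidAlgebra k M) z = y := by
      refine ⟨toConv (y.ofConv.comp ((ψ.symm : MonoidAlgebra k M →ₐc[k] k ⊗[A] B) :
        MonoidAlgebra k M →ₐ[k] k ⊗[A] B)), ?_⟩
      apply WithConv.ofConv_injective
      apply AlgHom.ext
      intro b
      simp [precomp]
    obtain ⟨z, rfl⟩ := h2
    obtain ⟨χ, rfl⟩ := theta1_surjective k M z
    exact ⟨χ, rfl⟩
  obtain ⟨χ, rfl⟩ := hΘ x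
  obtain ⟨f, hf, θ, hθ⟩ := exists_root_of_fg (units_divisible k) χ m hm
  refine ⟨f, hf, Θ θ, ?_⟩
  rw [← map_pow, ← map_pow, hθ]

end Root

end Groth.Agent.Lib.Helper7.Pts
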