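import Mathlib
import Groth.Prelude.Def_SGA3b
import Groth.Agent.Lib.Helper7.PT3
import Groth.Agent.Lib.Helper7.CO6

set_option autoImplicit false
universe u
open TensorProduct SGA3b WithConv
open Groth.Agent.Lib.Helper7.Clopen

namespace Groth.Agent.Lib.Helper7.Pts

section P1

variable {A : Type u} [CommRing A] [IsNoetherianRing A] {I : Ideal A} (hI : I ≤ Ideal.jacobson ⊥)
  {C : Type u} [CommRing C] [Algebra A C]

include hI in
theorem mem_of_idem_of_finite (J : Ideal C) (hfin : Module.Finite A (C ⧸ J)) {e : C}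
    (he : IsIdempotentElem e) (heI : e ∈ Ideal.map (algebraMap A C) I) : e ∈ J := by
  set Q := C ⧸ J
  set ē : Q := Ideal.Quotient.mk J e with hē
  have hidem : ē * ē = ē := by rw [hē, ← map_mul, he.eq]
  set 𝔞 : Ideal Q := Ideal.span {ē} with h𝔞
  have hmem : ē ∈ Ideal.map (algebraMap A Q) I := by
    have : Ideal.map (algebraMap A Q) I = Ideal.map (Ideal.Quotient.mk J)
        (Ideal.map (algebraMap A C) I) := by
      rw [Ideal.map_map]
      rfl
    rw [this]
    exact Ideal.mem_map_of_mem _ heI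
  have hle : 𝔞 ≤ Ideal.map (algebraMap A Q) I • 𝔞 := by
    have h2 : ē * ē ∈ Ideal.map (algebraMap A Q) I * 𝔞 :=
      Ideal.mul_mem_mul hmem (Ideal.mem_span_singleton_self ē)
    rw [hidem] at h2
    rw [h𝔞, Ideal.span_le, Set.singleton_subset_iff, SetLike.mem_coe, smul_eq_mul]
    exact h2
  have : IsNoetherian A Q := isNoetherian_of_isNoetherianRing_of_finite A Q
  have hN : (𝔞.restrictScalars A) = ⊥ := by
    apply Submodule.eq_bot_of_le_smul_of_le_jacobson_bot I _ (IsNoetherian.noetherian _) _ hI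
    rw [← Ideal.smul_restrictScalars]
    exact hle
  have h0 : ē ∈ (𝔞.restrictScalars A) := Ideal.mem_span_singleton_self ē
  rw [hN, Submodule.mem_bot] at h0
  exact Ideal.Quotient.eq_zero_iff_mem.1 h0

end P1

section P2

variable {A : Type u} [CommRing A] {C : Type u} [CommRing C] [HopfAlgebra A C]
  {k : Type u} [CommRing k] [Algebra A k]

theorem apply_eq_zero_of_pow_eq_one (u : WithConv (C →ₐ[A] k)) (n : ℕ) (hu : u ^ n = 1)
    {c : C} (hc : c ∈ torsionIdeal A C n) : u.ofConv c = 0 := by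
  have h1 : torsionIdeal A C n ≤ RingHom.ker (u.ofConv : C →+* k) := by
    rw [torsionIdeal, Ideal.map_le_iff_le_comap]
    intro x hx
    rw [Ideal.mem_comap, RingHom.mem_ker]
    have h2 := pow_eq_comp_powConv u.ofConv n
    rw [toConv_ofConv, hu] at h2
    have h3 : (1 : WithConv (C →ₐ[A] k)).ofConv x = u.ofConv (powConv A C n x) := by
      rw [h2]; rfl
    have hx' : Coalgebra.counit (R := A) x = 0 := hx
    change u.ofConv (powConv A C n x) = 0
    rw [← h3]
    simp [AlgHom.convOne_def, hx']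
  exact h1 hc

variable {B : Type u} [CommRing B] [HopfAlgebra A B]

theorem exists_precomp_eq (φ : C →ₐc[A] B) (hφ : Function.Surjective φ) {e : C}
    (hker : RingHom.ker (φ : C →+* B) = Ideal.span {e}) (x : WithConv (C →ₐ[A] k))
    (hx : x.ofConv e = 0) : ∃ x' : WithConv (B →ₐ[A] k), precomp φ x' = x := by
  have hf : Function.Surjective (φ : C →ₐ[A] B) := hφ
  have hk : ∀ a ∈ RingHom.ker (φ : C →ₐ[A] B), x.ofConv a = 0 := by
    intro a ha
    have ha' : a ∈ RingHom.ker (φ : C →+* B) := ha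
    rw [hker, Ideal.mem_span_singleton] at ha'
    obtain ⟨b, rfl⟩ := ha'
    rw [map_mul, hx, zero_mul]
  let xb : (C ⧸ RingHom.ker (φ : C →ₐ[A] B)) →ₐ[A] k := Ideal.Quotient.liftₐ _ x.ofConv hk
  let E := Ideal.quotientKerAlgEquivOfSurjective hf
  refine ⟨toConv (xb.comp (E.symm : B →ₐ[A] _)), ?_⟩
  apply WithConv.ofConv_injective
  apply AlgHom.ext
  intro c
  rw [precomp_apply, ofConv_toConv, AlgHom.comp_apply]
  have : E.symm (φ c) = Ideal.Quotient.mk _ c := by
    rw [AlgEquiv.symm_apply_eq]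
    rfl
  change xb (E.symm (φ c)) = _
  rw [this]
  rfl

end P2

section P4

variable {A : Type u} [CommRing A] {B : Type u} [CommRing B] [HopfAlgebra A B]
  (k : Type u) [Field k] [IsAlgClosed k] [Algebra A k]

theorem exists_algHom_of_finite (A' : Type u) [CommRing A'] [Algebra A A'] [Module.Finite A A']
    [Module.FaithfullyFlat A A'] : Nonempty (A' →ₐ[A] k) := by
  let T := k ⊗[A] A'
  have : Nontrivial T := inferInstanceAs (Nontrivial (k ⊗[A] A'))
  obtain ⟨𝔪, h𝔪⟩ := Ideal.exists_maximal T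
  let _ : Field (T ⧸ 𝔪) := Ideal.Quotient.field 𝔪
  have : Module.Finite k T := inferInstance
  have : Module.Finite k (T ⧸ 𝔪) := Module.Finite.of_surjective
    (Ideal.Quotient.mkₐ k 𝔪).toLinearMap Ideal.Quotient.mk_surjective
  have : Algebra.IsAlgebraic k (T ⧸ 𝔪) := Algebra.IsAlgebraic.of_finite k _
  let σ : (T ⧸ 𝔪) →ₐ[k] k := IsAlgClosed.lift
  exact ⟨((σ.comp (Ideal.Quotient.mkₐ k 𝔪)).restrictScalars A).comp
    (Algebra.TensorProduct.includeRight : A' →ₐ[A] k ⊗[A] A')⟩

theorem exists_diag_of_isIsotrivial (hB : IsIsotrivial A B) :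
    ∃ (M : Type u) (_ : CommGroup M), Nonempty (k ⊗[A] B ≃ₐc[k] MonoidAlgebra k M) := by
  obtain ⟨A', _, _, -, hfin, hff, M, _, ⟨eM⟩⟩ := hB
  obtain ⟨f⟩ := exists_algHom_of_finite (A := A) k A'
  exact ⟨M, inferInstance, typed_of_algHom f eM⟩

end P4

section Main

variable (A : Type u) [CommRing A] [IsNoetherianRing A] (I : Ideal A) [IsAdicComplete I A]
  (C : Type u) [CommRing C] [HopfAlgebra A C] [Coalgebra.IsCocomm A C] [Module.Flat A C]

theorem main (hft : Algebra.FiniteType A C)
    (h0 : IsIsotrivial (A ⧸ I) ((A ⧸ I) ⊗[A] C))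
    (hfin : ∀ n : ℕ, 0 < n → Module.Finite A (C ⧸ torsionIdeal A C n)) :
    IsIsotrivial A C := by
  obtain ⟨B, _, _, hB, φ, hsurj, e, he, heI, hker⟩ :=
    clopen_main A I C hft (fun q _ _ => inferInstance) h0
  have hI : I ≤ Ideal.jacobson ⊥ := IsAdicComplete.le_jacobson_bot I
  have heK : e ∈ RingHom.ker (φ : C →+* B) := by
    rw [hker]
    exact Ideal.mem_span_singleton_self e
  have hφe : φ e = 0 := heK
  have hε : Coalgebra.counit (R := A) e = 0 := by
    rw [← CoalgHomClass.counit_comp_apply φ e, hφe, map_zero]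
  suffices he0 : e = 0 by
    have hinj : Function.Injective φ := by
      rw [injective_iff_map_eq_zero]
      intro c hc
      have : c ∈ RingHom.ker (φ : C →+* B) := hc
      rw [hker, he0, Ideal.mem_span_singleton] at this
      exact zero_dvd_iff.1 this
    exact isIsotrivial_of_bialgEquiv (BialgEquiv.ofBijective φ ⟨hinj, hsurj⟩).symm hB
  by_contra hne
  obtain ⟨p, hp, hep⟩ : ∃ p : Ideal C, p.IsPrime ∧ e ∉ p := by
    by_contra h
    push Not at h
    apply hne
    apply eq_zero_of_isIdempotentElem_of_isNilpotent he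
    rw [nilpotent_iff_mem_prime]
    exact h
  let K := AlgebraicClosure (FractionRing (C ⧸ p))
  let ι : C →+* K := (algebraMap (FractionRing (C ⧸ p)) K).comp
    ((algebraMap (C ⧸ p) (FractionRing (C ⧸ p))).comp (Ideal.Quotient.mk p))
  let _ : Algebra A K := (ι.comp (algebraMap A C)).toAlgebra
  let g : C →ₐ[A] K := { ι with commutes' := fun a => rfl }
  have hge : g e ≠ 0 := by
    intro h
    have h1 : ι e = 0 := h
    have h2 : (algebraMap (C ⧸ p) (FractionRing (C ⧸ p))) (Ideal.Quotient.mk p e) = 0 :=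
      (algebraMap (FractionRing (C ⧸ p)) K).injective (by rw [map_zero]; exact h1)
    have h3 : Ideal.Quotient.mk p e = 0 :=
      IsFractionRing.injective (C ⧸ p) (FractionRing (C ⧸ p)) (by rw [map_zero]; exact h2)
    exact hep (Ideal.Quotient.eq_zero_iff_mem.1 h3)
  -- some power of g lies in H
  obtain ⟨m, hm, hgm⟩ := exists_pow_apply_eq_zero hft (toConv g) e he hε
  obtain ⟨h', hh'⟩ := exists_precomp_eq φ hsurj hker ((toConv g) ^ m) hgm
  -- structure of H(K)
  obtain ⟨M, _, ⟨ψ⟩⟩ := exists_diag_of_isIsotrivial K hB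
  have hftB : Algebra.FiniteType A B := hft.of_surjective (φ : C →ₐ[A] B) hsurj
  have : Group.FG M := by
    have h1 : Algebra.FiniteType K (K ⊗[A] B) := inferInstance
    have h2 : Algebra.FiniteType K (MonoidAlgebra K M) :=
      h1.equiv (ψ : K ⊗[A] B ≃ₐ[K] MonoidAlgebra K M)
    exact MonoidAlgebra.finiteType_iff_group_fg.1 h2
  obtain ⟨f, hf, t', ht'⟩ := exists_root_points ψ h' m hm
  set t := precomp φ t' with ht
  have hpow : (toConv g) ^ (m * f) = t ^ (m * f) := by
    rw [pow_mul, ← hh', ← map_pow, ht', ht, map_pow]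
  set u := toConv g * t⁻¹ with hu
  have hmf : 0 < m * f := Nat.mul_pos hm hf
  have hu1 : u ^ (m * f) = 1 := by
    rw [hu, mul_pow, inv_pow, hpow, mul_inv_cancel]
  have hue : u.ofConv e = 0 :=
    apply_eq_zero_of_pow_eq_one u (m * f) hu1
      (mem_of_idem_of_finite hI _ (hfin (m * f) hmf) he heI)
  obtain ⟨u', hu'⟩ := exists_precomp_eq φ hsurj hker u hue
  have hg : toConv g = precomp φ (u' * t') := by
    rw [map_mul, hu', ← ht, hu, inv_mul_cancel_right]
  apply hge
  have := congrArg (fun x => x.ofConv e) hg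
  simp only [ofConv_toConv, precomp_apply, hφe, map_zero] at this
  exact this

end Main

end Groth.Agent.Lib.Helper7.Pts
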