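import Mathlib
import Groth.Agent.Lib.Helper7.HensGL3
import Groth.Agent.Lib.Helper7.TorsDense
import Groth.Agent.Lib.Helper7.HopfIdealR

/-!
# Splitting fields for groups of multiplicative type; diagonalisability over fields (helper7)
-/

set_option autoImplicit false

namespace Groth.Agent.Lib.Helper7.TrivFibre

open TensorProduct SGA3b Groth.Agent.Lib.Helper7.CancelBC

universe u

/-- an opaque copy of the residue field at a maximal ideal (hides inherited algebra structures). -/
def QF {X : Type u} [CommRing X] (𝔫 : Ideal X) : Type u := X ⧸ 𝔫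

noncomputable instance {X : Type u} [CommRing X] (𝔫 : Ideal X) [h : 𝔫.IsMaximal] : Field (QF 𝔫) :=
  Ideal.Quotient.field 𝔫

/-- the quotient map to `QF`. -/
noncomputable def QF.mk {X : Type u} [CommRing X] (𝔫 : Ideal X) [𝔫.IsMaximal] : X →+* QF 𝔫 :=
  Ideal.Quotient.mk 𝔫

section Split

variable {R : Type u} [CommRing R] {A : Type u} [CommRing A] [HopfAlgebra R A]

/-- a group of multiplicative type is split by an extension of any given field over the base. -/
theorem exists_field_isDiag (h : IsMultType R A) (Ω : Type u) [Field Ω] [Algebra R Ω] :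
    ∃ (F : Type u) (_ : Field F) (_ : Algebra R F) (_ : Algebra Ω F),
      IsScalarTower R Ω F ∧ IsDiag F (F ⊗[R] A) := by
  obtain ⟨s, hs, hs'⟩ := h
  obtain ⟨f, hfs, hf0⟩ : ∃ f ∈ s, algebraMap R Ω f ≠ 0 := by
    by_contra hcon
    push Not at hcon
    have h1 : Ideal.span s ≤ RingHom.ker (algebraMap R Ω) :=
      Ideal.span_le.2 (fun x hx => RingHom.mem_ker.2 (hcon x hx))
    rw [hs] at h1
    have h2 : (1 : R) ∈ RingHom.ker (algebraMap R Ω) := h1 Submodule.mem_top
    rw [RingHom.mem_ker, map_one] at h2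
    exact one_ne_zero h2
  have hunit : IsUnit (algebraMap R Ω f) := isUnit_iff_ne_zero.2 hf0
  let g : Localization.Away f →+* Ω := IsLocalization.Away.lift f hunit
  let _ : Algebra (Localization.Away f) Ω := g.toAlgebra
  have : IsScalarTower R (Localization.Away f) Ω :=
    IsScalarTower.of_algebraMap_eq (fun r => (IsLocalization.Away.lift_eq f hunit r).symm)
  obtain ⟨R', _, _, hff, M, _, ⟨e⟩⟩ := hs' f hfs
  have hnt : Nontrivial (R' ⊗[Localization.Away f] Ω) :=
    (Module.FaithfullyFlat.tensorProduct_mk_injective (A := Localization.Away f) (B := R')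
      Ω).nontrivial
  obtain ⟨𝔫, h𝔫⟩ := Ideal.exists_maximal (R' ⊗[Localization.Away f] Ω)
  let φ₁ : R' →+* QF 𝔫 :=
    (QF.mk 𝔫).comp (Algebra.TensorProduct.includeLeft : R' →ₐ[Localization.Away f] _).toRingHom
  let φ₂ : Ω →+* QF 𝔫 :=
    (QF.mk 𝔫).comp (Algebra.TensorProduct.includeRight : Ω →ₐ[Localization.Away f] _).toRingHom
  let _ : Algebra R R' := ((algebraMap (Localization.Away f) R').comp
    (algebraMap R (Localization.Away f))).toAlgebra
  have : IsScalarTower R (Localization.Away f) R' := IsScalarTower.of_algebraMap_eq (fun _ => rfl)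
  let _ : Algebra R (QF 𝔫) := (φ₁.comp (algebraMap R R')).toAlgebra
  let _ : Algebra Ω (QF 𝔫) := φ₂.toAlgebra
  have t2 : IsScalarTower R Ω (QF 𝔫) := by
    apply IsScalarTower.of_algebraMap_eq
    intro r
    change QF.mk 𝔫 ((algebraMap (Localization.Away f) R'
        (algebraMap R (Localization.Away f) r)) ⊗ₜ[Localization.Away f] (1 : Ω)) =
      QF.mk 𝔫 ((1 : R') ⊗ₜ[Localization.Away f] (algebraMap R Ω r))
    congr 1
    rw [IsScalarTower.algebraMap_apply R (Localization.Away f) Ω,
      Algebra.algebraMap_eq_smul_one, Algebra.algebraMap_eq_smul_one (A := Ω),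
      TensorProduct.smul_tmul]
  refine ⟨QF 𝔫, inferInstance, inferInstance, inferInstance, t2, ?_⟩
  have hd : IsDiag R' (R' ⊗[R] A) :=
    ⟨M, inferInstance, ⟨(cancelBC R (Localization.Away f) R' A).symm.trans e⟩⟩
  let fa : R' →ₐ[R] QF 𝔫 :=
    { toRingHom := φ₁, commutes' := fun r => rfl }
  exact Groth.Agent.Lib.Helper7.HensGL.isDiag_of_algHom fa hd

end Split

section FieldDiag

variable {F : Type u} [Field F] {Y : Type u} [CommRing Y] [HopfAlgebra F Y]

lemma liftGroupLike_eq_linearCombination (x : MonoidAlgebra F (GroupLike F Y)) :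
    MonoidAlgebra.liftGroupLikeBialgHom (R := F) (A := Y) x =
      Finsupp.linearCombination F (GroupLike.val (R := F) (A := Y)) x.coeff := by
  induction x using MonoidAlgebra.induction_linear with
  | zero => simp
  | add a b ha hb => rw [map_add, ha, hb, MonoidAlgebra.coeff_add, map_add]
  | single g r =>
    rw [MonoidAlgebra.coeff_single, Finsupp.linearCombination_single]
    simp [MonoidAlgebra.liftGroupLikeBialgHom]

/-- over a field, a Hopf algebra spanned by its group-like elements is diagonalisable. -/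
theorem nonempty_bialgEquiv_of_spanned
    (hsurj : Function.Surjective (MonoidAlgebra.liftGroupLikeBialgHom (R := F) (A := Y))) :
    Nonempty (Y ≃ₐc[F] MonoidAlgebra F (GroupLike F Y)) := by
  refine ⟨(BialgEquiv.ofBijective _ ⟨?_, hsurj⟩).symm⟩
  have hli : LinearIndependent F (GroupLike.val (R := F) (A := Y)) := linearIndep_groupLikeVal
  intro x y hxy
  rw [liftGroupLike_eq_linearCombination, liftGroupLike_eq_linearCombination] at hxy
  exact MonoidAlgebra.coeff_injective (hli hxy)

/-- over a field, the target of a surjective bialgebra map from a diagonalisable Hopf algebra is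
diagonalisable. -/
theorem nonempty_bialgEquiv_of_surjective {X : Type u} [CommRing X] [HopfAlgebra F X]
    (hX : IsDiag F X) (ψ : X →ₐc[F] Y) (hψ : Function.Surjective ψ) :
    Nonempty (Y ≃ₐc[F] MonoidAlgebra F (GroupLike F Y)) := by
  obtain ⟨M, _, ⟨e⟩⟩ := hX
  apply nonempty_bialgEquiv_of_spanned
  intro y
  obtain ⟨x, rfl⟩ := hψ y
  obtain ⟨z, rfl⟩ : ∃ z, e.symm z = x := ⟨e x, BialgEquiv.symm_apply_apply e x⟩
  induction z using MonoidAlgebra.induction_linear with
  | zero => exact ⟨0, by simp⟩
  | add a b ha hb =>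
    obtain ⟨a', ha'⟩ := ha
    obtain ⟨b', hb'⟩ := hb
    exact ⟨a' + b', by rw [map_add, ha', hb', map_add, map_add]⟩
  | single m r =>
    have hg : IsGroupLikeElem F (ψ (e.symm (MonoidAlgebra.single m (1 : F)))) :=
      ((MonoidAlgebra.isGroupLikeElem_single_one (R := F) (A := F) m).map e.symm).map ψ
    refine ⟨MonoidAlgebra.single ⟨_, hg⟩ r, ?_⟩
    have h1 : MonoidAlgebra.single m r = r • MonoidAlgebra.single m (1 : F) := by
      rw [MonoidAlgebra.smul_single, smul_eq_mul, mul_one]
    rw [h1, map_smul, map_smul]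
    simp [MonoidAlgebra.liftGroupLikeBialgHom]

end FieldDiag

section Counit

variable {R : Type u} [CommRing R] {B : Type u} [CommRing B] [HopfAlgebra R B]

lemma counit_powConv_eq_zero (n : ℕ) {b : B} (hb : Coalgebra.counit (R := R) b = 0) :
    Coalgebra.counit (R := R) (SGA3b.powConv R B n b) = 0 := by
  have h := congrArg (fun f : B →ₐ[R] R => f b)
    (Groth.Agent.Lib.Helper7.TorsDense.bialgHom_comp_powConv (Bialgebra.counitBialgHom R B) n)
  change Coalgebra.counit (R := R) (SGA3b.powConv R B n b) =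
    SGA3b.powConv R R n (Coalgebra.counit (R := R) b) at h
  rw [h, hb, map_zero]

lemma torsionIdeal_le_ker_counit (n : ℕ) :
    SGA3b.torsionIdeal R B n ≤ RingHom.ker (Bialgebra.counitAlgHom R B) := by
  rw [SGA3b.torsionIdeal, Ideal.map_le_iff_le_comap]
  intro b hb
  rw [RingHom.mem_ker] at hb
  rw [Ideal.mem_comap, RingHom.mem_ker]
  exact counit_powConv_eq_zero n hb

end Counit

end Groth.Agent.Lib.Helper7.TrivFibre
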