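import Mathlib
import Groth.Prelude.Def_SGA3b
import Groth.Agent.Lib.Helper7.PT4
import Groth.Agent.Lib.Helper7.DN7
import Groth.Agent.Lib.Helper7.TrivFibre1

set_option autoImplicit false
universe u
open TensorProduct SGA3b WithConv

namespace Groth.Agent.Lib.Helper7.OpenSub

open Groth.Agent.Lib.Helper7.Pts

section Mach

variable {k : Type u} [CommRing k] {C : Type u} [CommRing C] [HopfAlgebra k C]

/-- postcomposition with an algebra hom, as a monoid hom on points. -/
noncomputable def post {S S' : Type u} [CommRing S] [Algebra k S] [CommRing S'] [Algebra k S']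
    (g : S →ₐ[k] S') : WithConv (C →ₐ[k] S) →* WithConv (C →ₐ[k] S') where
  toFun x := toConv (g.comp x.ofConv)
  map_one' := by
    apply WithConv.ofConv_injective
    ext c
    simp [AlgHom.convOne_def]
  map_mul' x y := by
    apply WithConv.ofConv_injective
    rw [ofConv_toConv, AlgHom.comp_convMul_distrib]

@[simp] lemma post_apply {S S' : Type u} [CommRing S] [Algebra k S] [CommRing S'] [Algebra k S']
    (g : S →ₐ[k] S') (x : WithConv (C →ₐ[k] S)) (c : C) :
    (post g x).ofConv c = g (x.ofConv c) := rfl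

variable {Ω : Type u} [CommRing Ω] [Algebra k Ω]

/-- the universal point. -/
noncomputable def iota : WithConv (C →ₐ[k] Ω ⊗[k] C) :=
  toConv (Algebra.TensorProduct.includeRight : C →ₐ[k] Ω ⊗[k] C)

/-- the constant point attached to a point. -/
noncomputable def cst : WithConv (C →ₐ[k] Ω) →* WithConv (C →ₐ[k] Ω ⊗[k] C) :=
  post (Algebra.TensorProduct.includeLeft : Ω →ₐ[k] Ω ⊗[k] C)

theorem tau_eq (x : WithConv (C →ₐ[k] Ω)) :
    toConv (tau x.ofConv) = cst x * (iota : WithConv (C →ₐ[k] Ω ⊗[k] C)) := by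
  apply WithConv.ofConv_injective
  rw [AlgHom.convMul_def, ofConv_toConv, ofConv_toConv]
  simp only [tau]
  rw [← AlgHom.comp_assoc]
  congr 1
  apply Algebra.TensorProduct.ext
  · ext c
    simp [cst, iota]
  · ext c
    simp [cst, iota]

/-- translation by a point as an endomorphism of the base change. -/
noncomputable def T (x : WithConv (C →ₐ[k] Ω)) : Ω ⊗[k] C →ₐ[Ω] Ω ⊗[k] C :=
  Algebra.TensorProduct.lift (Algebra.ofId Ω (Ω ⊗[k] C)) (tau x.ofConv) (fun _ _ => .all ..)

lemma T_one_tmul (x : WithConv (C →ₐ[k] Ω)) (c : C) :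
    T x ((1 : Ω) ⊗ₜ[k] c) = tau x.ofConv c := by
  simp only [T, Algebra.TensorProduct.lift_tmul, map_one, one_mul]

lemma T_tmul_one (x : WithConv (C →ₐ[k] Ω)) (ω : Ω) :
    T x (ω ⊗ₜ[k] (1 : C)) = ω ⊗ₜ[k] (1 : C) := by
  simp [T, Algebra.ofId_apply, Algebra.TensorProduct.algebraMap_apply]

theorem T_comp_tau (x y : WithConv (C →ₐ[k] Ω)) :
    ((T x).restrictScalars k).comp (tau y.ofConv) = tau (y * x).ofConv := by
  have h1 : toConv (((T x).restrictScalars k).comp (tau y.ofConv)) =
      post ((T x).restrictScalars k) (toConv (tau y.ofConv)) := rfl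
  have h2 : post ((T x).restrictScalars k) (cst y) = (cst y : WithConv (C →ₐ[k] Ω ⊗[k] C)) := by
    apply WithConv.ofConv_injective
    ext c
    simp only [post_apply, cst, AlgHom.restrictScalars_apply,
      Algebra.TensorProduct.includeLeft_apply]
    exact T_tmul_one x _
  have h3 : post ((T x).restrictScalars k) (iota : WithConv (C →ₐ[k] Ω ⊗[k] C)) =
      toConv (tau x.ofConv) := by
    apply WithConv.ofConv_injective
    ext c
    simp only [post_apply, iota, AlgHom.restrictScalars_apply,
      Algebra.TensorProduct.includeRight_apply]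
    exact T_one_tmul x c
  apply WithConv.toConv_injective
  rw [h1, tau_eq, map_mul, h2, h3, tau_eq, tau_eq, map_mul, mul_assoc]

theorem T_comp (x y : WithConv (C →ₐ[k] Ω)) : (T x).comp (T y) = T (y * x) := by
  apply Algebra.TensorProduct.ext
  · ext
  · ext c
    have := congrArg (fun f : C →ₐ[k] Ω ⊗[k] C => f c) (T_comp_tau x y)
    simp only [AlgHom.comp_apply, AlgHom.restrictScalars_apply] at this
    simp only [AlgHom.comp_apply, AlgHom.restrictScalars_apply,
      Algebra.TensorProduct.includeRight_apply, T_one_tmul]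
    exact this

theorem T_one : T (1 : WithConv (C →ₐ[k] Ω)) = AlgHom.id Ω (Ω ⊗[k] C) := by
  apply Algebra.TensorProduct.ext
  · ext
  · ext c
    simp only [AlgHom.comp_apply, AlgHom.restrictScalars_apply,
      Algebra.TensorProduct.includeRight_apply, T_one_tmul, AlgHom.id_apply]
    have h := tau_eq (1 : WithConv (C →ₐ[k] Ω))
    rw [map_one, one_mul] at h
    have := congrArg (fun f : WithConv (C →ₐ[k] Ω ⊗[k] C) => f.ofConv c) h
    exact this

theorem T_injective (x : WithConv (C →ₐ[k] Ω)) : Function.Injective (T x) := by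
  have h : (T x⁻¹).comp (T x) = AlgHom.id Ω _ := by
    rw [T_comp, mul_inv_cancel, T_one]
  intro a b hab
  have := congrArg (T x⁻¹) hab
  rw [← AlgHom.comp_apply, ← AlgHom.comp_apply, h] at this
  exact this

theorem T_tau (x y : WithConv (C →ₐ[k] Ω)) (c : C) :
    T x (tau y.ofConv c) = tau (y * x).ofConv c :=
  congrArg (fun f : C →ₐ[k] Ω ⊗[k] C => f c) (T_comp_tau x y)

end Mach

section Tors

variable {k : Type u} [CommRing k] {C : Type u} [CommRing C] [HopfAlgebra k C]
  [Coalgebra.IsCocomm k C] {Ω : Type u} [CommRing Ω] [Algebra k Ω]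

omit [Coalgebra.IsCocomm k C] in
lemma powConv_mul (n m : ℕ) :
    powConv k C (n * m) = (powConv k C n).comp (powConv k C m) := by
  have h := pow_eq_comp_powConv (powConv k C n) m
  apply WithConv.toConv_injective
  rw [← h]
  simp only [powConv]
  rw [toConv_ofConv, toConv_ofConv, pow_mul]

theorem tau_mem_torsionIdeal (v : WithConv (C →ₐ[k] Ω)) (m : ℕ) (hv : v ^ m = 1) (n : ℕ)
    {c : C} (hc : c ∈ torsionIdeal k C (n * m)) :
    tau v.ofConv c ∈ torsionIdeal Ω (Ω ⊗[k] C) n := by
  have key := TorsDense.torsionIdeal_le_comap_of (R := k)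
    ((tau v.ofConv : C →ₐ[k] Ω ⊗[k] C) : C →+* Ω ⊗[k] C)
    (torsionIdeal Ω (Ω ⊗[k] C) n) (n * m) ?_ hc
  · exact key
  · intro b hb
    have h1 := pow_eq_comp_powConv (tau v.ofConv) (n * m)
    rw [tau_eq, mul_pow, ← map_pow, pow_mul', hv, one_pow, map_one, one_mul] at h1
    have h2 := pow_eq_comp_powConv
      (Algebra.TensorProduct.includeRight : C →ₐ[k] Ω ⊗[k] C) (n * m)
    have h3 : (tau v.ofConv).comp (powConv k C (n * m)) =
        (Algebra.TensorProduct.includeRight : C →ₐ[k] Ω ⊗[k] C).comp (powConv k C (n * m)) := by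
      apply WithConv.toConv_injective
      rw [← h1, ← h2]
      rfl
    have h4 := congrArg (fun f : C →ₐ[k] Ω ⊗[k] C => f b) h3
    simp only [AlgHom.comp_apply, Algebra.TensorProduct.includeRight_apply] at h4
    change tau v.ofConv (powConv k C (n * m) b) ∈ _
    rw [h4, powConv_mul, AlgHom.comp_apply]
    apply TorsDense.one_tmul_mem_torsionIdeal
    apply Ideal.mem_map_of_mem
    rw [RingHom.mem_ker]
    exact TrivFibre.counit_powConv_eq_zero m hb

end Tors

end Groth.Agent.Lib.Helper7.OpenSub
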