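import Mathlib
import Groth.Prelude.Def_SGA3b
import Groth.Agent.Lib.Helper7.OS1

set_option autoImplicit false
universe u
open TensorProduct SGA3b WithConv

namespace Groth.Agent.Lib.Helper7.OpenSub

open Groth.Agent.Lib.Helper7.Pts

section P5

variable {k : Type u} [CommRing k] {C : Type u} [CommRing C] [HopfAlgebra k C]
  {B : Type u} [CommRing B] [HopfAlgebra k B] (Ω : Type u) [CommRing Ω] [Algebra k Ω]

/-- base change of a bialgebra hom. -/
noncomputable abbrev qΩ (q : C →ₐc[k] B) : Ω ⊗[k] C →ₐc[Ω] Ω ⊗[k] B :=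
  Bialgebra.TensorProduct.map (BialgHom.id Ω Ω) q

variable {Ω}

theorem mul_eq_zero_of_qΩ_eq_zero (q : C →ₐc[k] B) (hq : Function.Surjective q) (e : C)
    (he : IsIdempotentElem e) (hker : RingHom.ker (q : C →+* B) = Ideal.span {e})
    (d : Ω ⊗[k] C) (hd : qΩ Ω q d = 0) : d * ((1 : Ω) ⊗ₜ[k] (1 - e)) = 0 := by
  have key : ∀ c c' : C, q c = q c' → (1 - e) * c = (1 - e) * c' := by
    intro c c' h
    have h1 : c - c' ∈ RingHom.ker (q : C →+* B) := by
      rw [RingHom.mem_ker, map_sub]
      exact sub_eq_zero.mpr h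
    rw [hker, Ideal.mem_span_singleton'] at h1
    obtain ⟨r, hr⟩ := h1
    have h2 : (1 - e) * (c - c') = 0 := by
      rw [← hr]
      have : (1 - e) * (r * e) = r * (e - e * e) := by ring
      rw [this, he.eq, sub_self, mul_zero]
    rw [mul_sub, sub_eq_zero] at h2
    exact h2
  let s : B →ₗ[k] C :=
    { toFun := fun b => (1 - e) * Function.surjInv hq b
      map_add' := by
        intro b b'
        rw [← mul_add]
        apply key
        rw [map_add, Function.surjInv_eq hq, Function.surjInv_eq hq, Function.surjInv_eq hq]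
      map_smul' := by
        intro r b
        simp only [RingHom.id_apply]
        rw [← mul_smul_comm]
        apply key
        rw [map_smul, Function.surjInv_eq hq, Function.surjInv_eq hq] }
  have hs : ∀ c, s (q c) = (1 - e) * c := by
    intro c
    change (1 - e) * Function.surjInv hq (q c) = _
    apply key
    rw [Function.surjInv_eq hq]
  have main : ∀ d : Ω ⊗[k] C, LinearMap.lTensor Ω s (qΩ Ω q d) = d * ((1 : Ω) ⊗ₜ[k] (1 - e)) := by
    intro d
    induction d using TensorProduct.induction_on with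
    | zero => simp
    | tmul ω c =>
      rw [Bialgebra.TensorProduct.map_tmul, LinearMap.lTensor_tmul, hs,
        Algebra.TensorProduct.tmul_mul_tmul, mul_one, mul_comm]
      rfl
    | add d d' hd hd' => rw [map_add, map_add, hd, hd', add_mul]
  rw [← main, hd, map_zero]

end P5

section StepC

variable {k : Type u} [Field k] {C : Type u} [CommRing C] [HopfAlgebra k C]
  [Coalgebra.IsCocomm k C] {B : Type u} [CommRing B] [HopfAlgebra k B]
  {Ω : Type u} [Field Ω] [IsAlgClosed Ω] [Algebra k Ω] {M : Type u} [CommGroup M] [Group.FG M]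

theorem exists_decomp (hft : Algebra.FiniteType k C) (q : C →ₐc[k] B) (hq : Function.Surjective q)
    (e : C) (he : IsIdempotentElem e) (hker : RingHom.ker (q : C →+* B) = Ideal.span {e})
    (ψ : Ω ⊗[k] B ≃ₐc[Ω] MonoidAlgebra Ω M) (x : WithConv (C →ₐ[k] Ω)) :
    ∃ (u t : WithConv (C →ₐ[k] Ω)) (m : ℕ), 0 < m ∧ u ^ m = 1 ∧ x = u * t ∧
      (t⁻¹).ofConv e = 0 := by
  have hqe : q e = 0 := by
    have : e ∈ RingHom.ker (q : C →+* B) := by
      rw [hker]
      exact Ideal.mem_span_singleton_self e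
    exact this
  have hε : Coalgebra.counit (R := k) e = 0 := by
    rw [← CoalgHomClass.counit_comp_apply q e, hqe, map_zero]
  obtain ⟨m, hm, hgm⟩ := exists_pow_apply_eq_zero hft x e he hε
  obtain ⟨h', hh'⟩ := exists_precomp_eq q hq hker (x ^ m) hgm
  obtain ⟨f, hf, t', ht'⟩ := exists_root_points ψ h' m hm
  set t := precomp q t' with ht
  have hpow : x ^ (m * f) = t ^ (m * f) := by
    rw [pow_mul, ← hh', ← map_pow, ht', ht, map_pow]
  refine ⟨x * t⁻¹, t, m * f, Nat.mul_pos hm hf, ?_, ?_, ?_⟩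
  · rw [mul_pow, inv_pow, hpow, mul_inv_cancel]
  · rw [inv_mul_cancel_right]
  · have : t⁻¹ = precomp q t'⁻¹ := by rw [ht, map_inv]
    rw [this, precomp_apply, hqe, map_zero]

end StepC

section Null

variable {k : Type u} [Field k] {C : Type u} [CommRing C] [HopfAlgebra k C]
  {Ω : Type u} [Field Ω] [IsAlgClosed Ω] [Algebra k Ω]

theorem exists_point_of_maximal (hft : Algebra.FiniteType k C) (𝔪 : Ideal (Ω ⊗[k] C))
    (h𝔪 : 𝔪.IsMaximal) : ∃ z : C →ₐ[k] Ω, ∀ d ∈ 𝔪, ev z d = 0 := by
  let L := (Ω ⊗[k] C) ⧸ 𝔪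
  let _ : Field L := Ideal.Quotient.field 𝔪
  have hft' : Algebra.FiniteType Ω (Ω ⊗[k] C) := inferInstance
  have hftL : Algebra.FiniteType Ω L :=
    hft'.of_surjective (Ideal.Quotient.mkₐ Ω 𝔪) Ideal.Quotient.mk_surjective
  have : Module.Finite Ω L := finite_of_finite_type_of_isJacobsonRing Ω L
  have : Algebra.IsAlgebraic Ω L := Algebra.IsAlgebraic.of_finite Ω L
  let σ : L →ₐ[Ω] Ω := IsAlgClosed.lift
  let zΩ : Ω ⊗[k] C →ₐ[Ω] Ω := σ.comp (Ideal.Quotient.mkₐ Ω 𝔪)
  let z : C →ₐ[k] Ω := (zΩ.restrictScalars k).comp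
    (Algebra.TensorProduct.includeRight : C →ₐ[k] Ω ⊗[k] C)
  have hev : ev z = zΩ.restrictScalars k := by
    apply Algebra.TensorProduct.ext
    · ext ω
      simp only [ev, AlgHom.comp_apply, Algebra.TensorProduct.includeLeft_apply,
        Algebra.TensorProduct.map_tmul, AlgHom.id_apply, map_one,
        Algebra.TensorProduct.lmul'_apply_tmul, mul_one, AlgHom.restrictScalars_apply]
      have : ω ⊗ₜ[k] (1 : C) = algebraMap Ω (Ω ⊗[k] C) ω := rfl
      rw [this, AlgHom.commutes]
      rfl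
    · ext c
      simp only [ev, AlgHom.comp_apply, AlgHom.restrictScalars_apply,
        Algebra.TensorProduct.includeRight_apply, Algebra.TensorProduct.map_tmul, AlgHom.id_apply,
        Algebra.TensorProduct.lmul'_apply_tmul, one_mul]
      rfl
  refine ⟨z, fun d hd => ?_⟩
  rw [hev, AlgHom.restrictScalars_apply]
  change σ (Ideal.Quotient.mk 𝔪 d) = 0
  rw [Ideal.Quotient.eq_zero_iff_mem.mpr hd, map_zero]

end Null

end Groth.Agent.Lib.Helper7.OpenSub
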