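import Mathlib
import Groth.Prelude.Def_SGA3b
import Groth.Agent.Lib.Helper7.OS2
import Groth.Agent.Lib.Helper7.Deform3

set_option autoImplicit false
universe u
open TensorProduct SGA3b WithConv

namespace Groth.Agent.Lib.Helper7.OpenSub

open Groth.Agent.Lib.Helper7.Pts

section Diag

variable {R : Type u} [CommRing R] {A : Type u} [CommRing A] [HopfAlgebra R A]

theorem isMultType_of_isDiag (h : IsDiag R A) : IsMultType R A := by
  apply Groth.Agent.Lib.Helper7.Deform.isMultType_of_isIsotrivial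
  exact ⟨R, inferInstance, inferInstance, inferInstance, inferInstance, inferInstance,
    Groth.Agent.Lib.Helper7.Deform.isDiag_baseChange R h⟩

end Diag

section StepB

variable {k : Type u} [Field k] {C : Type u} [CommRing C] [HopfAlgebra k C]
  [Coalgebra.IsCocomm k C] {B : Type u} [CommRing B] [HopfAlgebra k B]
  {Ω : Type u} [Field Ω] [Algebra k Ω]

omit [Coalgebra.IsCocomm k C] in
theorem tau_one (c : C) : tau (1 : WithConv (C →ₐ[k] Ω)).ofConv c = (1 : Ω) ⊗ₜ[k] c := by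
  rw [← T_one_tmul, T_one, AlgHom.id_apply]

theorem exists_pow_mul_tau_eq_zero (hft : Algebra.FiniteType k C) (q : C →ₐc[k] B)
    (hq : Function.Surjective q) (e : C) (he : IsIdempotentElem e)
    (hker : RingHom.ker (q : C →+* B) = Ideal.span {e})
    (hBΩ : IsMultType Ω (Ω ⊗[k] B)) (a y : C)
    (hy : ∀ n : ℕ, 0 < n → ∃ t : ℕ, a ^ t * y ∈ torsionIdeal k C n)
    (u : WithConv (C →ₐ[k] Ω)) (m : ℕ) (hm : 0 < m) (hu : u ^ m = 1) :
    ∃ t : ℕ, ((1 : Ω) ⊗ₜ[k] a) ^ t * ((1 : Ω) ⊗ₜ[k] y) * tau u.ofConv (1 - e) = 0 := by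
  set v := u⁻¹ with hv
  have hvm : v ^ m = 1 := by rw [hv, inv_pow, hu, inv_one]
  have hftB : Algebra.FiniteType k B := hft.of_surjective (q : C →ₐ[k] B) hq
  have hftBΩ : Algebra.FiniteType Ω (Ω ⊗[k] B) := inferInstance
  have hmul : ∀ t : ℕ, qΩ Ω q (tau v.ofConv (a ^ t * y)) =
      qΩ Ω q (tau v.ofConv a) ^ t * qΩ Ω q (tau v.ofConv y) := by
    intro t
    rw [map_mul, map_pow, map_mul, map_pow]
  obtain ⟨t, ht⟩ := Dens.exists_pow_mul_eq_zero hftBΩ hBΩ (qΩ Ω q (tau v.ofConv a))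
    (qΩ Ω q (tau v.ofConv y)) (by
      intro n hn
      obtain ⟨t, ht⟩ := hy (n * m) (Nat.mul_pos hn hm)
      refine ⟨t, ?_⟩
      rw [← hmul]
      exact TorsDense.bialgHom_mem_torsionIdeal (qΩ Ω q) n (tau_mem_torsionIdeal v m hvm n ht))
  refine ⟨t, ?_⟩
  rw [← hmul] at ht
  have h1 := mul_eq_zero_of_qΩ_eq_zero q hq e he hker _ ht
  apply T_injective v
  rw [map_zero, map_mul, T_tau, hv, mul_inv_cancel, tau_one, ← hv]
  have h2 : ((1 : Ω) ⊗ₜ[k] a) ^ t * ((1 : Ω) ⊗ₜ[k] y) = (1 : Ω) ⊗ₜ[k] (a ^ t * y) := by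
    rw [Algebra.TensorProduct.tmul_pow, one_pow, Algebra.TensorProduct.tmul_mul_tmul, one_mul]
  rw [h2, T_one_tmul]
  exact h1

end StepB

section Main

variable {k : Type u} [Field k] {C : Type u} [CommRing C] [HopfAlgebra k C]
  [Coalgebra.IsCocomm k C] {B : Type u} [CommRing B] [HopfAlgebra k B]

theorem main_aux {Ω : Type u} [Field Ω] [IsAlgClosed Ω] [Algebra k Ω]
    {M : Type u} [CommGroup M] (ψ : Ω ⊗[k] B ≃ₐc[Ω] MonoidAlgebra Ω M)
    (hft : Algebra.FiniteType k C) (q : C →ₐc[k] B)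
    (hq : Function.Surjective q) (e : C) (he : IsIdempotentElem e)
    (hker : RingHom.ker (q : C →+* B) = Ideal.span {e}) (a y : C)
    (hy : ∀ n : ℕ, 0 < n → ∃ t : ℕ, a ^ t * y ∈ torsionIdeal k C n) : ∃ t : ℕ, a ^ t * y = 0 := by
  classical
  have hftB : Algebra.FiniteType k B := hft.of_surjective (q : C →ₐ[k] B) hq
  haveI : Group.FG M := by
    have h1 : Algebra.FiniteType Ω (Ω ⊗[k] B) := inferInstance
    have h2 : Algebra.FiniteType Ω (MonoidAlgebra Ω M) :=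
      h1.equiv (ψ : Ω ⊗[k] B ≃ₐ[Ω] MonoidAlgebra Ω M)
    exact MonoidAlgebra.finiteType_iff_group_fg.1 h2
  have hBΩ : IsMultType Ω (Ω ⊗[k] B) := isMultType_of_isDiag ⟨M, inferInstance, ⟨ψ⟩⟩
  set a' : Ω ⊗[k] C := (1 : Ω) ⊗ₜ[k] a with ha'
  set y' : Ω ⊗[k] C := (1 : Ω) ⊗ₜ[k] y with hy'
  let N : Ideal (Ω ⊗[k] C) :=
    { carrier := {d | ∃ t : ℕ, a' ^ t * y' * d = 0}
      zero_mem' := ⟨0, mul_zero _⟩
      add_mem' := by
        rintro d₁ d₂ ⟨t₁, h₁⟩ ⟨t₂, h₂⟩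
        refine ⟨t₁ + t₂, ?_⟩
        have : a' ^ (t₁ + t₂) * y' * (d₁ + d₂) =
            a' ^ t₂ * (a' ^ t₁ * y' * d₁) + a' ^ t₁ * (a' ^ t₂ * y' * d₂) := by
          rw [pow_add]
          ring
        rw [this, h₁, h₂, mul_zero, mul_zero, add_zero]
      smul_mem' := by
        rintro c d ⟨t, h⟩
        refine ⟨t, ?_⟩
        rw [smul_eq_mul, mul_left_comm, h, mul_zero] }
  have hN : N = ⊤ := by
    by_contra hne
    obtain ⟨𝔪, h𝔪, hle⟩ := Ideal.exists_le_maximal N hne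
    obtain ⟨z, hz⟩ := exists_point_of_maximal hft 𝔪 h𝔪
    obtain ⟨u, t, m, hm, hum, hx, hte⟩ :=
      exists_decomp hft q hq e he hker ψ (toConv z)⁻¹
    obtain ⟨s, hs⟩ := exists_pow_mul_tau_eq_zero hft q hq e he hker hBΩ a y hy u m hm hum
    have hmem : tau u.ofConv (1 - e) ∈ N := ⟨s, hs⟩
    have h0 := hz _ (hle hmem)
    rw [ev_tau, toConv_ofConv] at h0
    have hut : u * toConv z = t⁻¹ := by
      have : u = (toConv z)⁻¹ * t⁻¹ := by rw [hx, mul_inv_cancel_right]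
      rw [this, mul_comm, ← mul_assoc, mul_inv_cancel, one_mul]
    rw [hut, map_sub, map_one, hte, sub_zero] at h0
    exact one_ne_zero h0
  have h1 : (1 : Ω ⊗[k] C) ∈ N := by rw [hN]; exact Submodule.mem_top
  obtain ⟨t, ht⟩ := h1
  refine ⟨t, ?_⟩
  rw [mul_one, ha', hy', Algebra.TensorProduct.tmul_pow, one_pow,
    Algebra.TensorProduct.tmul_mul_tmul, one_mul] at ht
  have hinj : Function.Injective (Algebra.TensorProduct.includeRight : C →ₐ[k] Ω ⊗[k] C) :=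
    Algebra.TensorProduct.includeRight_injective (algebraMap k Ω).injective
  apply hinj
  rw [map_zero]
  exact ht

theorem main (hft : Algebra.FiniteType k C) (q : C →ₐc[k] B)
    (hq : Function.Surjective q) (e : C) (he : IsIdempotentElem e)
    (hker : RingHom.ker (q : C →+* B) = Ideal.span {e}) (hB : IsMultType k B) (a y : C)
    (hy : ∀ n : ℕ, 0 < n → ∃ t : ℕ, a ^ t * y ∈ torsionIdeal k C n) : ∃ t : ℕ, a ^ t * y = 0 := by
  obtain ⟨F, instF, algF, algF', htow, hd⟩ := TrivFibre.exists_field_isDiag hB k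
  clear htow algF'
  let Ω := AlgebraicClosure F
  let _ : Algebra k Ω := ((algebraMap F Ω).comp (algebraMap k F)).toAlgebra
  let fa : F →ₐ[k] Ω := { toRingHom := algebraMap F Ω, commutes' := fun r => rfl }
  obtain ⟨M, _, ⟨ψ⟩⟩ := HensGL.isDiag_of_algHom fa hd
  exact main_aux (Ω := Ω) ψ hft q hq e he hker a y hy

end Main

section Wrapper

variable {A : Type u} [CommRing A]

/-- from the elementwise statement to the statement about localisations. -/
theorem iInf_map_eq_bot (I : ℕ → Ideal A)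
    (h : ∀ a y : A, (∀ n : ℕ, 0 < n → ∃ t : ℕ, a ^ t * y ∈ I n) → ∃ t : ℕ, a ^ t * y = 0) (a : A) :
    ⨅ n : {n : ℕ // 0 < n}, Ideal.map (algebraMap A (Localization.Away a)) (I n.1) = ⊥ := by
  rw [eq_bot_iff]
  intro ξ hξ
  rw [Ideal.mem_iInf] at hξ
  rw [Ideal.mem_bot]
  obtain ⟨y, s, rfl⟩ := IsLocalization.exists_mk'_eq (Submonoid.powers a) ξ
  have hy : ∀ n : ℕ, 0 < n → ∃ t : ℕ, a ^ t * y ∈ I n := by
    intro n hn
    have h1 := hξ ⟨n, hn⟩
    have h2 : algebraMap A (Localization.Away a) y ∈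
        Ideal.map (algebraMap A (Localization.Away a)) (I n) := by
      have := Ideal.mul_mem_right (algebraMap A (Localization.Away a) s.1) _ h1
      rwa [IsLocalization.mk'_spec] at this
    rw [IsLocalization.mem_map_algebraMap_iff (Submonoid.powers a)] at h2
    obtain ⟨⟨i, s'⟩, h3⟩ := h2
    rw [← map_mul] at h3
    obtain ⟨c', h4⟩ := (IsLocalization.eq_iff_exists (Submonoid.powers a) _).mp h3
    obtain ⟨k1, hk1⟩ := c'.2
    obtain ⟨k2, hk2⟩ := s'.2
    refine ⟨k1 + k2, ?_⟩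
    have : a ^ (k1 + k2) * y = c'.1 * i.1 := by
      rw [← h4, ← hk1, ← hk2]
      ring
    rw [this]
    exact Ideal.mul_mem_left _ _ i.2
  obtain ⟨t, ht⟩ := h a y hy
  rw [IsLocalization.mk'_eq_zero_iff]
  exact ⟨⟨a ^ t, t, rfl⟩, ht⟩

end Wrapper

end Groth.Agent.Lib.Helper7.OpenSub
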