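import Mathlib
import Groth.Prelude.Def_SGA3b
import Groth.Agent.Lib.Helper7.OS3

set_option autoImplicit false
universe u
open TensorProduct WithConv

namespace Groth.Agent.Lib.Helper7.EtRad

open Groth.Agent.Lib.Helper7.Pts Groth.Agent.Lib.Helper7.OpenSub

section Nat

variable {k : Type u} [CommRing k] {A : Type u} [CommRing A] [HopfAlgebra k A]
  {C : Type u} [CommRing C] [HopfAlgebra k C] {Ω : Type u} [CommRing Ω] [Algebra k Ω]

/-- naturality of translations with respect to a bialgebra map. -/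
theorem tau_map (ψ : C →ₐc[k] A) (x : A →ₐ[k] Ω) (c : C) :
    tau x (ψ c) = Algebra.TensorProduct.map (AlgHom.id Ω Ω) (ψ : C →ₐ[k] A)
      (tau (x.comp (ψ : C →ₐ[k] A)) c) := by
  simp only [tau, AlgHom.comp_apply, Bialgebra.comulAlgHom_apply]
  have hcomul : Coalgebra.comul (R := k) (ψ c) =
      TensorProduct.map (ψ : C →ₗ[k] A) (ψ : C →ₗ[k] A) (Coalgebra.comul (R := k) c) :=
    (LinearMap.congr_fun (CoalgHomClass.map_comp_comul ψ) c).symm
  rw [hcomul]
  generalize Coalgebra.comul (R := k) c = y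
  induction y using TensorProduct.induction_on with
  | zero => simp
  | add y z hy hz => simp only [map_add, hy, hz]
  | tmul a b => simp

end Nat

section PartA

variable {k : Type u} [Field k] {A : Type u} [CommRing A] [HopfAlgebra k A]
  {Ω : Type u} [Field Ω] [IsAlgClosed Ω] [Algebra k Ω]

theorem span_tau_eq_top (hft : Algebra.FiniteType k A) (e : A)
    (hε : Coalgebra.counit (R := k) e = 1) :
    Ideal.span (Set.range fun x : WithConv (A →ₐ[k] Ω) => tau x.ofConv e) = ⊤ := by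
  by_contra hne
  obtain ⟨𝔪, h𝔪, hle⟩ := Ideal.exists_le_maximal _ hne
  obtain ⟨z, hz⟩ := exists_point_of_maximal hft 𝔪 h𝔪
  have hmem : tau ((toConv z)⁻¹).ofConv e ∈ 𝔪 :=
    hle (Ideal.subset_span ⟨(toConv z)⁻¹, rfl⟩)
  have h0 := hz _ hmem
  rw [ev_tau, toConv_ofConv, inv_mul_cancel] at h0
  have h1 : (1 : WithConv (A →ₐ[k] Ω)).ofConv e = 1 := by
    change algebraMap k Ω (Coalgebra.counit (R := k) e) = 1
    rw [hε, map_one]
  rw [h1] at h0
  exact one_ne_zero h0

omit [IsAlgClosed Ω] in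
variable (Ω) in
theorem mul_one_tmul_nilpotent (e : A)
    (hnil : ∀ a : A, Coalgebra.counit (R := k) a = 0 → IsNilpotent (a * e)) (d : Ω ⊗[k] A) :
    ∃ l : Ω, IsNilpotent (d * ((1 : Ω) ⊗ₜ[k] e) - l • ((1 : Ω) ⊗ₜ[k] e)) := by
  induction d using TensorProduct.induction_on with
  | zero => exact ⟨0, by simp⟩
  | tmul ω a =>
    refine ⟨ω * algebraMap k Ω (Coalgebra.counit (R := k) a), ?_⟩
    have h1 : IsNilpotent ((a - algebraMap k A (Coalgebra.counit (R := k) a)) * e) := by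
      apply hnil
      rw [map_sub, Bialgebra.counit_algebraMap, sub_self]
    have h2 : ω ⊗ₜ[k] a * ((1 : Ω) ⊗ₜ[k] e) -
        (ω * algebraMap k Ω (Coalgebra.counit (R := k) a)) • ((1 : Ω) ⊗ₜ[k] e) =
        ω ⊗ₜ[k] ((a - algebraMap k A (Coalgebra.counit (R := k) a)) * e) := by
      rw [Algebra.TensorProduct.tmul_mul_tmul, mul_one, TensorProduct.smul_tmul', smul_eq_mul,
        mul_one, sub_mul, TensorProduct.tmul_sub, ← Algebra.smul_def, TensorProduct.tmul_smul,
        mul_comm ω, ← Algebra.smul_def, TensorProduct.smul_tmul']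
    rw [h2]
    obtain ⟨n, hn⟩ := h1
    exact ⟨n, by rw [Algebra.TensorProduct.tmul_pow, hn, TensorProduct.tmul_zero]⟩
  | add d d' hd hd' =>
    obtain ⟨l, hl⟩ := hd
    obtain ⟨l', hl'⟩ := hd'
    refine ⟨l + l', ?_⟩
    have : (d + d') * ((1 : Ω) ⊗ₜ[k] e) - (l + l') • ((1 : Ω) ⊗ₜ[k] e) =
        (d * ((1 : Ω) ⊗ₜ[k] e) - l • ((1 : Ω) ⊗ₜ[k] e)) +
          (d' * ((1 : Ω) ⊗ₜ[k] e) - l' • ((1 : Ω) ⊗ₜ[k] e)) := by
      rw [add_mul, add_smul]
      abel
    rw [this]
    exact (Commute.all _ _).isNilpotent_add hl hl'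

theorem mul_tau_nilpotent (e : A)
    (hnil : ∀ a : A, Coalgebra.counit (R := k) a = 0 → IsNilpotent (a * e))
    (x : WithConv (A →ₐ[k] Ω)) (d : Ω ⊗[k] A) :
    ∃ l : Ω, IsNilpotent (d * tau x.ofConv e - l • tau x.ofConv e) := by
  obtain ⟨l, hl⟩ := mul_one_tmul_nilpotent Ω e hnil (T x⁻¹ d)
  refine ⟨l, ?_⟩
  have h1 := hl.map (T x)
  have hcomp : T x (T x⁻¹ d) = d := by
    rw [← AlgHom.comp_apply, T_comp, inv_mul_cancel, T_one, AlgHom.id_apply]
  rw [map_sub, map_mul, hcomp, map_smul, T_one_tmul] at h1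
  exact h1

theorem exists_span_nilpotent (hft : Algebra.FiniteType k A) (e : A)
    (hε : Coalgebra.counit (R := k) e = 1)
    (hnil : ∀ a : A, Coalgebra.counit (R := k) a = 0 → IsNilpotent (a * e)) (d : Ω ⊗[k] A) :
    ∃ s ∈ Submodule.span Ω (Set.range fun x : WithConv (A →ₐ[k] Ω) => tau x.ofConv e),
      IsNilpotent (d - s) := by
  classical
  have htop := span_tau_eq_top (Ω := Ω) hft e hε
  have h1 : (1 : Ω ⊗[k] A) ∈
      Ideal.span (Set.range fun x : WithConv (A →ₐ[k] Ω) => tau x.ofConv e) := by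
    rw [htop]; exact Submodule.mem_top
  rw [Finsupp.mem_ideal_span_range_iff_exists_finsupp] at h1
  obtain ⟨c, hc⟩ := h1
  have hd : d = ∑ x ∈ c.support, (d * c x) * tau x.ofConv e := by
    rw [Finsupp.sum] at hc
    conv_lhs => rw [← mul_one d, ← hc, Finset.mul_sum]
    apply Finset.sum_congr rfl
    intro x _
    rw [mul_assoc]
  have key : ∀ t : Finset (WithConv (A →ₐ[k] Ω)),
      ∃ s ∈ Submodule.span Ω (Set.range fun x : WithConv (A →ₐ[k] Ω) => tau x.ofConv e),
        IsNilpotent (∑ x ∈ t, (d * c x) * tau x.ofConv e - s) := by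
    intro t
    induction t using Finset.induction_on with
    | empty => exact ⟨0, Submodule.zero_mem _, by simp⟩
    | insert x t hx ih =>
      obtain ⟨s, hs, hnil'⟩ := ih
      obtain ⟨l, hl⟩ := mul_tau_nilpotent e hnil x (d * c x)
      refine ⟨l • tau x.ofConv e + s, Submodule.add_mem _
        (Submodule.smul_mem _ _ (Submodule.subset_span ⟨x, rfl⟩)) hs, ?_⟩
      rw [Finset.sum_insert hx]
      have : d * c x * tau x.ofConv e + ∑ x ∈ t, d * c x * tau x.ofConv e -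
          (l • tau x.ofConv e + s) = (d * c x * tau x.ofConv e - l • tau x.ofConv e) +
            (∑ x ∈ t, d * c x * tau x.ofConv e - s) := by abel
      rw [this]
      exact (Commute.all _ _).isNilpotent_add hl hnil'
  obtain ⟨s, hs, hn⟩ := key c.support
  exact ⟨s, hs, by rw [hd]; exact hn⟩

variable {C : Type u} [CommRing C] [HopfAlgebra k C]

theorem exists_map_nilpotent (hft : Algebra.FiniteType k A) (ψ : C →ₐc[k] A) (e₀ : C)
    (hε : Coalgebra.counit (R := k) e₀ = 1)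
    (hnil : ∀ a : A, Coalgebra.counit (R := k) a = 0 → IsNilpotent (a * ψ e₀)) (d : Ω ⊗[k] A) :
    ∃ c : Ω ⊗[k] C, IsNilpotent
      (d - Algebra.TensorProduct.map (AlgHom.id Ω Ω) (ψ : C →ₐ[k] A) c) := by
  have hε' : Coalgebra.counit (R := k) (ψ e₀) = 1 := by
    rw [CoalgHomClass.counit_comp_apply ψ e₀, hε]
  obtain ⟨s, hs, hn⟩ := exists_span_nilpotent (Ω := Ω) hft (ψ e₀) hε' hnil d
  have hle : Submodule.span Ω (Set.range fun x : WithConv (A →ₐ[k] Ω) => tau x.ofConv (ψ e₀)) ≤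
      LinearMap.range (Algebra.TensorProduct.map (AlgHom.id Ω Ω) (ψ : C →ₐ[k] A)).toLinearMap := by
    rw [Submodule.span_le]
    rintro _ ⟨x, rfl⟩
    exact ⟨_, (tau_map ψ x.ofConv e₀).symm⟩
  obtain ⟨c, hc⟩ := hle hs
  exact ⟨c, by rw [← hc] at hn; exact hn⟩

end PartA

end Groth.Agent.Lib.Helper7.EtRad
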