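import Mathlib
import Groth.Prelude.Def_SGA3b
import Groth.Agent.Lib.Helper7.ET1
import Groth.Agent.Lib.Helper7.HopfCartier

set_option autoImplicit false
universe u
open TensorProduct WithConv

namespace Groth.Agent.Lib.Helper7.EtRad

open Groth.Agent.Lib.Helper7.Pts Groth.Agent.Lib.Helper7.OpenSub

section Desc

variable {k : Type u} [Field k] {A C : Type u} [AddCommGroup A] [Module k A] [AddCommGroup C]
  [Module k C] (Ω : Type u) [Field Ω] [Algebra k Ω]

theorem mem_range_of_one_tmul (f : C →ₗ[k] A) (a : A)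
    (h : (1 : Ω) ⊗ₜ[k] a ∈ LinearMap.range (f.lTensor Ω)) : a ∈ LinearMap.range f := by
  set π := (LinearMap.range f).mkQ with hπ
  have h0 : π ∘ₗ f = 0 := by
    ext c
    simp only [LinearMap.comp_apply, LinearMap.zero_apply, hπ, Submodule.mkQ_apply,
      Submodule.Quotient.mk_eq_zero]
    exact ⟨c, rfl⟩
  obtain ⟨y, hy⟩ := h
  have h1 : (π.lTensor Ω) ((1 : Ω) ⊗ₜ[k] a) = 0 := by
    rw [← hy, ← LinearMap.comp_apply, ← LinearMap.lTensor_comp, h0, LinearMap.lTensor_zero,
      LinearMap.zero_apply]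
  rw [LinearMap.lTensor_tmul, Module.FaithfullyFlat.one_tmul_eq_zero_iff] at h1
  exact (Submodule.Quotient.mk_eq_zero _).mp h1

end Desc

section Frob

variable (k : Type u) [Field k] (p : ℕ) [Fact p.Prime] [CharP k p] [PerfectRing k p]
  {C : Type u} [CommRing C] [Algebra k C] [Module.Finite k C] [IsReduced C]

include k in
theorem exists_pow_eq (c : C) : ∃ c' : C, c' ^ p = c := by
  classical
  rcases subsingleton_or_nontrivial C with hs | hnt
  · exact ⟨0, Subsingleton.elim _ _⟩
  haveI : CharP C p := charP_of_injective_algebraMap (algebraMap k C).injective p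
  let b := Module.finBasis k C
  have hsum : ∀ g : Fin (Module.finrank k C) → k,
      ∑ i, g i • (b i) ^ p = (∑ i, (frobeniusEquiv k p).symm (g i) • b i) ^ p := by
    intro g
    have := map_sum (frobenius C p) (fun i => (frobeniusEquiv k p).symm (g i) • b i) Finset.univ
    simp only [frobenius_def] at this
    rw [this]
    apply Finset.sum_congr rfl
    intro i _
    rw [smul_pow]
    congr 1
    have := frobeniusEquiv_symm_pow_p k p (g i)
    exact this.symm
  have hli : LinearIndependent k (fun i => (b i) ^ p) := by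
    rw [Fintype.linearIndependent_iff]
    intro g hg i
    rw [hsum g] at hg
    have h0 := IsReduced.pow_eq_zero hg
    have h1 := Fintype.linearIndependent_iff.mp b.linearIndependent _ h0 i
    have h2 := frobeniusEquiv_symm_pow_p k p (g i)
    rw [h1, zero_pow (Fact.out : p.Prime).ne_zero] at h2
    exact h2.symm
  have hspan := hli.span_eq_top_of_card_eq_finrank' (by simp)
  have hc : c ∈ Submodule.span k (Set.range fun i => (b i) ^ p) := by
    rw [hspan]; exact Submodule.mem_top
  rw [Submodule.mem_span_range_iff_exists_fun] at hc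
  obtain ⟨g, hg⟩ := hc
  exact ⟨_, by rw [← hg, hsum g]⟩

include k in
theorem exists_pow_pow_eq (M : ℕ) (c : C) : ∃ c' : C, c' ^ p ^ M = c := by
  induction M generalizing c with
  | zero => exact ⟨c, by simp⟩
  | succ M ih =>
    obtain ⟨c₁, h₁⟩ := exists_pow_eq k p c
    obtain ⟨c₂, h₂⟩ := ih c₁
    exact ⟨c₂, by rw [pow_succ, pow_mul, h₂, h₁]⟩

end Frob

section Key

variable {k : Type u} [Field k] [PerfectField k] {A : Type u} [CommRing A] [HopfAlgebra k A]
  {C : Type u} [CommRing C] [HopfAlgebra k C] [Algebra.Etale k C]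

theorem exists_sub_nilpotent (hft : Algebra.FiniteType k A) (ψ : C →ₐc[k] A) (e₀ : C)
    (hε : Coalgebra.counit (R := k) e₀ = 1)
    (hnil : ∀ a : A, Coalgebra.counit (R := k) a = 0 → IsNilpotent (a * ψ e₀)) (a : A) :
    ∃ c : C, IsNilpotent (a - ψ c) := by
  let Ω := AlgebraicClosure k
  obtain ⟨cb, hcb⟩ := exists_map_nilpotent (Ω := Ω) hft ψ e₀ hε hnil ((1 : Ω) ⊗ₜ[k] a)
  have hrange : ∀ (a' : A) (c' : Ω ⊗[k] C), (1 : Ω) ⊗ₜ[k] a' =
      Algebra.TensorProduct.map (AlgHom.id Ω Ω) (ψ : C →ₐ[k] A) c' → ∃ c : C, a' = ψ c := by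
    intro a' c' h
    have : (1 : Ω) ⊗ₜ[k] a' ∈ LinearMap.range ((ψ : C →ₗ[k] A).lTensor Ω) := ⟨c', h.symm⟩
    obtain ⟨c, hc⟩ := mem_range_of_one_tmul Ω (ψ : C →ₗ[k] A) a' this
    exact ⟨c, hc.symm⟩
  obtain ⟨p, hp⟩ := CharP.exists k
  rcases CharP.char_is_prime_or_zero k p with hpp | hp0
  · -- characteristic p
    haveI : Fact p.Prime := ⟨hpp⟩
    haveI : ExpChar k p := ExpChar.prime hpp
    haveI : Nontrivial A := (Bialgebra.counitAlgHom k A).toRingHom.domain_nontrivial
    haveI : Nontrivial (Ω ⊗[k] A) :=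
      (Bialgebra.counitAlgHom Ω (Ω ⊗[k] A)).toRingHom.domain_nontrivial
    haveI : CharP A p := charP_of_injective_algebraMap (algebraMap k A).injective p
    haveI : CharP (Ω ⊗[k] A) p :=
      charP_of_injective_algebraMap (algebraMap k (Ω ⊗[k] A)).injective p
    haveI : Module.Finite k C := Algebra.FormallyUnramified.finite_of_free k C
    haveI : IsReduced C := Algebra.FormallyUnramified.isReduced_of_field k C
    obtain ⟨n, hn⟩ := hcb
    obtain ⟨M, hM⟩ : ∃ M : ℕ, n ≤ p ^ M := ⟨n, (Nat.lt_pow_self hpp.one_lt).le⟩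
    have h1 := pow_eq_zero_of_le hM hn
    rw [sub_pow_char_pow, sub_eq_zero, ← map_pow, Algebra.TensorProduct.tmul_pow, one_pow] at h1
    obtain ⟨c, hc⟩ := hrange _ _ h1
    obtain ⟨c', hc'⟩ := exists_pow_pow_eq k p M c
    refine ⟨c', p ^ M, ?_⟩
    rw [sub_pow_char_pow, hc, ← map_pow, hc', sub_self]
  · -- characteristic zero
    subst hp0
    haveI : CharZero k := CharP.charP_to_charZero k
    haveI : CharZero Ω := charZero_of_injective_algebraMap (algebraMap k Ω).injective
    haveI : Algebra.FiniteType Ω (Ω ⊗[k] A) := inferInstance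
    haveI : IsReduced (Ω ⊗[k] A) := HopfCartier.isReduced Ω (Ω ⊗[k] A)
    have h1 := hcb.eq_zero
    rw [sub_eq_zero] at h1
    obtain ⟨c, hc⟩ := hrange _ _ h1
    exact ⟨c, by rw [hc, sub_self]; exact IsNilpotent.zero⟩

end Key

end Groth.Agent.Lib.Helper7.EtRad
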