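import Mathlib
import Groth.Prelude.Def_SGA3b
import Groth.Agent.Lib.Helper7.ET2

set_option autoImplicit false
universe u
open TensorProduct WithConv

namespace Groth.Agent.Lib.Helper7.EtRad

section Idem

variable {k : Type u} [Field k] {C : Type u} [CommRing C] [Algebra k C] [Module.Finite k C]
  [IsReduced C]

include k in
/-- in a reduced finite-dimensional algebra, every element is a multiple of its square. -/
theorem exists_eq_sq_mul (x : C) : ∃ y : C, x = x * x * y := by
  haveI : IsArtinianRing C := IsArtinianRing.of_finite k C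
  let f : ℕ →o (Ideal C)ᵒᵈ :=
    { toFun := fun n => OrderDual.toDual (Ideal.span {x ^ n})
      monotone' := by
        intro n m hnm
        change Ideal.span {x ^ m} ≤ Ideal.span {x ^ n}
        rw [Ideal.span_singleton_le_span_singleton]
        exact pow_dvd_pow x hnm }
  obtain ⟨n, hn⟩ := IsArtinian.monotone_stabilizes f
  have h1 : Ideal.span {x ^ n} = Ideal.span {x ^ (n + 1)} := by
    have := hn (n + 1) (Nat.le_succ n)
    exact congrArg OrderDual.ofDual this
  have h2 : x ^ n ∈ Ideal.span {x ^ (n + 1)} := by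
    rw [← h1]; exact Ideal.mem_span_singleton_self _
  rw [Ideal.mem_span_singleton'] at h2
  obtain ⟨y, hy⟩ := h2
  refine ⟨y, ?_⟩
  have h3 : (x - x * x * y) ^ (n + 1) = 0 := by
    have : x - x * x * y = x * (1 - x * y) := by ring
    rw [this, mul_pow, pow_succ x n, pow_succ (1 - x * y) n]
    have h4 : x ^ n * (1 - x * y) = 0 := by
      have : x ^ n * (1 - x * y) = x ^ n - y * x ^ (n + 1) := by ring
      rw [this, hy, sub_self]
    calc x ^ n * x * ((1 - x * y) ^ n * (1 - x * y))
        = (x ^ n * (1 - x * y)) * (x * (1 - x * y) ^ n) := by ring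
      _ = 0 := by rw [h4, zero_mul]
  have h5 := eq_zero_of_pow_eq_zero h3
  exact sub_eq_zero.mp h5

include k in
theorem exists_idem_of_ideal (I : Ideal C) : ∃ e : C, IsIdempotentElem e ∧ I = Ideal.span {e} := by
  haveI : IsNoetherianRing C := IsNoetherianRing.of_finite k C
  have hfg : I.FG := IsNoetherian.noetherian I
  rw [← Ideal.isIdempotentElem_iff_of_fg I hfg]
  apply le_antisymm Ideal.mul_le_right
  intro x hx
  obtain ⟨y, hy⟩ := exists_eq_sq_mul (k := k) x
  rw [hy, mul_assoc]
  exact Ideal.mul_mem_mul hx (Ideal.mul_mem_right _ _ hx)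

end Idem

section Red

variable {k : Type u} [Field k] {A : Type u} [CommRing A] [Algebra k A]
  {C : Type u} [CommRing C] [Algebra k C]

/-- algebra maps into a reduced ring are determined on a subalgebra which fills up `A` modulo
nilpotents. -/
theorem algHom_ext_of_nilpotent {S : Type u} [CommRing S] [Algebra k S] [IsReduced S]
    (ψ : C →ₐ[k] A) (key : ∀ a : A, ∃ c : C, IsNilpotent (a - ψ c)) (f g : A →ₐ[k] S)
    (h : f.comp ψ = g.comp ψ) : f = g := by
  apply AlgHom.ext
  intro a
  obtain ⟨c, hc⟩ := key a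
  have hf : f a = f (ψ c) := by
    have := (hc.map f).eq_zero
    rwa [map_sub, sub_eq_zero] at this
  have hg : g a = g (ψ c) := by
    have := (hc.map g).eq_zero
    rwa [map_sub, sub_eq_zero] at this
  rw [hf, hg]
  exact congrArg (fun φ : C →ₐ[k] S => φ c) h

end Red

section Main

variable {k : Type u} [Field k] [PerfectField k] {A : Type u} [CommRing A] [HopfAlgebra k A]
  {C : Type u} [CommRing C] [HopfAlgebra k C] [Algebra.Etale k C]

theorem main (hft : Algebra.FiniteType k A) (ψ : C →ₐc[k] A) (hψ : Function.Injective ψ)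
    (J : Ideal A) (hJ : J = Ideal.map (ψ : C →+* A) (RingHom.ker (Bialgebra.counitAlgHom k C)))
    [IsLocalRing (A ⧸ J)] :
    (∃! r : A →ₐc[k] C, r.comp ψ = BialgHom.id k C) ∧
    ∀ r : A →ₐc[k] C, r.comp ψ = BialgHom.id k C → RingHom.ker (r : A →+* C) = nilradical A := by
  classical
  haveI : Module.Finite k C := Algebra.FormallyUnramified.finite_of_free k C
  haveI : IsReduced C := Algebra.FormallyUnramified.isReduced_of_field k C
  -- the idempotent
  obtain ⟨e', he', hI⟩ := exists_idem_of_ideal (k := k)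
    (RingHom.ker (Bialgebra.counitAlgHom k C))
  have hεe' : Coalgebra.counit (R := k) e' = 0 := by
    have : e' ∈ RingHom.ker (Bialgebra.counitAlgHom k C) := by
      rw [hI]; exact Ideal.mem_span_singleton_self e'
    exact this
  set e₀ : C := 1 - e' with he₀
  have hε₀ : Coalgebra.counit (R := k) e₀ = 1 := by
    rw [he₀, map_sub, hεe', sub_zero, Bialgebra.counit_one]
  have hide : IsIdempotentElem (ψ e₀) := he'.one_sub.map ψ
  have hJ' : J = Ideal.span {1 - ψ e₀} := by
    rw [hJ, hI, Ideal.map_span, Set.image_singleton]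
    congr 2
    change ψ e' = 1 - ψ e₀
    rw [he₀, map_sub, map_one, sub_sub_cancel]
  have hJε : ∀ a ∈ J, Coalgebra.counit (R := k) a = 0 := by
    intro a ha
    rw [hJ', Ideal.mem_span_singleton'] at ha
    obtain ⟨b, rfl⟩ := ha
    rw [Bialgebra.counit_mul, map_sub, Bialgebra.counit_one,
      CoalgHomClass.counit_comp_apply ψ e₀, hε₀, sub_self, mul_zero]
  -- nilpotence
  have hnil : ∀ a : A, Coalgebra.counit (R := k) a = 0 → IsNilpotent (a * ψ e₀) := by
    intro a ha
    haveI : Algebra.FiniteType k (A ⧸ J) :=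
      hft.of_surjective (Ideal.Quotient.mkₐ k J) Ideal.Quotient.mk_surjective
    haveI : IsJacobsonRing (A ⧸ J) := isJacobsonRing_of_finiteType (A := k)
    have hnu : Ideal.Quotient.mk J a ∈ IsLocalRing.maximalIdeal (A ⧸ J) := by
      rw [IsLocalRing.mem_maximalIdeal, mem_nonunits_iff]
      intro hu
      obtain ⟨b', hb'⟩ := hu.exists_right_inv
      obtain ⟨b, rfl⟩ := Ideal.Quotient.mk_surjective b'
      rw [← map_mul, ← map_one (Ideal.Quotient.mk J), Ideal.Quotient.eq] at hb'
      have := hJε _ hb'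
      rw [map_sub, Bialgebra.counit_mul, ha, zero_mul, Bialgebra.counit_one, zero_sub,
        neg_eq_zero] at this
      exact one_ne_zero this
    have hrad : nilradical (A ⧸ J) = IsLocalRing.maximalIdeal (A ⧸ J) := by
      have h1 := (IsJacobsonRing.out (R := A ⧸ J) inferInstance) (Ideal.radical_isRadical (⊥ : Ideal (A ⧸ J)))
      change (⊥ : Ideal (A ⧸ J)).radical = _
      rw [← h1]
      apply IsLocalRing.jacobson_eq_maximalIdeal
      intro h
      have h2 : (1 : A ⧸ J) ∈ (⊥ : Ideal (A ⧸ J)).radical := by rw [h]; exact Submodule.mem_top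
      obtain ⟨n, hn⟩ := h2
      rw [one_pow] at hn
      exact one_ne_zero hn
    rw [← hrad, mem_nilradical] at hnu
    obtain ⟨n, hn⟩ := hnu
    rw [← map_pow, Ideal.Quotient.eq_zero_iff_mem, hJ', Ideal.mem_span_singleton'] at hn
    obtain ⟨b, hb⟩ := hn
    refine ⟨n + 1, ?_⟩
    rw [mul_pow, pow_succ a n, ← hb, hide.pow_succ_eq]
    have : b * (1 - ψ e₀) * a * ψ e₀ = b * a * (ψ e₀ - ψ e₀ * ψ e₀) := by ring
    rw [this, hide.eq, sub_self, mul_zero]
  -- the key claim
  have key : ∀ a : A, ∃ c : C, IsNilpotent (a - ψ c) :=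
    fun a => exists_sub_nilpotent hft ψ e₀ hε₀ hnil a
  have key' : ∀ a : A, ∃ c : C, IsNilpotent (a - (ψ : C →ₐ[k] A) c) := key
  have huniq : ∀ (a : A) (c c' : C), IsNilpotent (a - ψ c) → IsNilpotent (a - ψ c') → c = c' := by
    intro a c c' h h'
    have h1 : IsNilpotent (ψ (c' - c)) := by
      have : ψ (c' - c) = (a - ψ c) - (a - ψ c') := by rw [map_sub]; ring
      rw [this]
      exact (Commute.all _ _).isNilpotent_sub h h'
    obtain ⟨n, hn⟩ := h1
    rw [← map_pow, ← map_zero ψ] at hn
    have := eq_zero_of_pow_eq_zero (hψ hn)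
    exact (sub_eq_zero.mp this).symm
  choose r₀ hr₀ using key
  have hr₀' : ∀ (a : A) (c : C), IsNilpotent (a - ψ c) → r₀ a = c :=
    fun a c h => huniq a _ _ (hr₀ a) h
  have hr₀ψ : ∀ c : C, r₀ (ψ c) = c := fun c => hr₀' _ c (by rw [sub_self]; exact IsNilpotent.zero)
  let r : A →ₐ[k] C :=
    { toFun := r₀
      map_one' := by
        apply hr₀'
        rw [map_one, sub_self]; exact IsNilpotent.zero
      map_mul' := by
        intro a b
        apply hr₀'
        have : a * b - ψ (r₀ a * r₀ b) = (a - ψ (r₀ a)) * b + ψ (r₀ a) * (b - ψ (r₀ b)) := by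
          rw [map_mul]; ring
        rw [this]
        exact (Commute.all _ _).isNilpotent_add ((Commute.all _ _).isNilpotent_mul_right (hr₀ a))
          ((Commute.all _ _).isNilpotent_mul_left (hr₀ b))
      map_zero' := by
        apply hr₀'
        rw [map_zero, sub_self]; exact IsNilpotent.zero
      map_add' := by
        intro a b
        apply hr₀'
        have : a + b - ψ (r₀ a + r₀ b) = (a - ψ (r₀ a)) + (b - ψ (r₀ b)) := by
          rw [map_add]; ring
        rw [this]
        exact (Commute.all _ _).isNilpotent_add (hr₀ a) (hr₀ b)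
      commutes' := by
        intro x
        apply hr₀'
        rw [AlgHomClass.commutes, sub_self]; exact IsNilpotent.zero }
  have hrψ : r.comp (ψ : C →ₐ[k] A) = AlgHom.id k C := AlgHom.ext hr₀ψ
  haveI : Algebra.FormallyUnramified k (C ⊗[k] C) := Algebra.FormallyUnramified.comp k C _
  haveI : IsReduced (C ⊗[k] C) := Algebra.FormallyUnramified.isReduced_of_field k (C ⊗[k] C)
  have hcounit : (Bialgebra.counitAlgHom k C).comp r = Bialgebra.counitAlgHom k A := by
    apply algHom_ext_of_nilpotent (ψ : C →ₐ[k] A) key'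
    rw [AlgHom.comp_assoc, hrψ, AlgHom.comp_id]
    exact (BialgHom.counitAlgHom_comp ψ).symm
  have hcomul : (Algebra.TensorProduct.map r r).comp (Bialgebra.comulAlgHom k A) =
      (Bialgebra.comulAlgHom k C).comp r := by
    apply algHom_ext_of_nilpotent (ψ : C →ₐ[k] A) key'
    rw [AlgHom.comp_assoc, AlgHom.comp_assoc, hrψ, AlgHom.comp_id,
      ← BialgHom.map_comp_comulAlgHom ψ, ← AlgHom.comp_assoc, ← Algebra.TensorProduct.map_comp,
      hrψ, Algebra.TensorProduct.map_id, AlgHom.id_comp]
  let rb : A →ₐc[k] C := BialgHom.ofAlgHom r hcounit hcomul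
  have hrb : rb.comp ψ = BialgHom.id k C := by
    apply BialgHom.ext
    intro c
    exact hr₀ψ c
  have hall : ∀ r' : A →ₐc[k] C, r'.comp ψ = BialgHom.id k C → (r' : A →ₐ[k] C) = r := by
    intro r' hr'
    apply algHom_ext_of_nilpotent (ψ : C →ₐ[k] A) key'
    rw [hrψ]
    apply AlgHom.ext
    intro c
    exact congrArg (fun φ : C →ₐc[k] C => φ c) hr'
  refine ⟨⟨rb, hrb, ?_⟩, ?_⟩
  · intro r' hr'
    apply BialgHom.ext
    intro a
    exact congrArg (fun φ : A →ₐ[k] C => φ a) (hall r' hr')
  · intro r' hr'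
    have hfun : ∀ a, r' a = r₀ a := fun a => congrArg (fun φ : A →ₐ[k] C => φ a) (hall r' hr')
    ext a
    rw [RingHom.mem_ker, mem_nilradical]
    change r' a = 0 ↔ _
    rw [hfun]
    constructor
    · intro h
      have := hr₀ a
      rwa [h, map_zero, sub_zero] at this
    · intro h
      apply hr₀'
      rwa [map_zero, sub_zero]

end Main

end Groth.Agent.Lib.Helper7.EtRad
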