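import Groth.Agent.Lib.Helper7.HopfDim
import Groth.Agent.Lib.Helper7.HopfSmooth
import Groth.Agent.Lib.Helper9.SmoothRed
import Groth.Agent.S11926
import Mathlib

/-!
# Reducedness criteria for affine algebraic groups (helper7)
-/

universe u

open TensorProduct

namespace Groth.Agent.Lib.Helper7.HopfRed

open Groth.Agent.Lib.Helper7.HopfCot Groth.Agent.Lib.Helper7.HopfDim

/-- the Krull dimension does not change modulo a nil ideal. -/
theorem ringKrullDim_quotient_of_le_nilradical {A : Type*} [CommRing A] (N : Ideal A)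
    (hN : N ≤ nilradical A) : ringKrullDim (A ⧸ N) = ringKrullDim A := by
  apply le_antisymm (ringKrullDim_quotient_le N)
  have hker : ∀ P : PrimeSpectrum A, RingHom.ker (Ideal.Quotient.mk N) ≤ P.asIdeal := by
    intro P
    rw [Ideal.mk_ker]
    exact hN.trans (nilradical_le_prime P.asIdeal)
  have hcm : ∀ P : PrimeSpectrum A,
      (P.asIdeal.map (Ideal.Quotient.mk N)).comap (Ideal.Quotient.mk N) = P.asIdeal := by
    intro P
    rw [Ideal.comap_map_of_surjective _ Ideal.Quotient.mk_surjective, ← RingHom.ker_eq_comap_bot]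
    exact sup_eq_left.2 (hker P)
  let f : PrimeSpectrum A → PrimeSpectrum (A ⧸ N) := fun P =>
    ⟨P.asIdeal.map (Ideal.Quotient.mk N),
      Ideal.map_isPrime_of_surjective Ideal.Quotient.mk_surjective (hker P)⟩
  refine Order.krullDim_le_of_strictMono f ?_
  intro P Q hPQ
  have hPQ' : P.asIdeal < Q.asIdeal := (PrimeSpectrum.asIdeal_lt_asIdeal P Q).mpr hPQ
  rw [← PrimeSpectrum.asIdeal_lt_asIdeal]
  refine lt_of_le_of_ne (Ideal.map_mono hPQ'.le) ?_
  intro heq
  have h1 : P.asIdeal = Q.asIdeal := by
    rw [← hcm P, ← hcm Q]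
    exact congrArg (Ideal.comap (Ideal.Quotient.mk N)) heq
  exact hPQ'.ne h1

/-- a smooth algebra of finite type over a field is reduced. -/
theorem isReduced_of_smooth (k A : Type u) [Field k] [CommRing A] [Algebra k A]
    [Algebra.FiniteType k A] [Algebra.Smooth k A] : IsReduced A := by
  apply isReduced_ofLocalizationMaximal
  intro M hM
  haveI := Groth.Agent.Lib.Helper9.SmoothRed.isGeometricallyReduced_of_smooth k A M
  exact Algebra.isReduced_of_isGeometricallyReduced k

section Main

variable (k A : Type u) [Field k] [IsAlgClosed k] [CommRing A] [HopfAlgebra k A]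
  [Algebra.FiniteType k A]

/-- **if every nilpotent element lies in `I²`, then `A` is reduced** (same universe). -/
theorem isReduced_of_nilradical_le (h : nilradical A ≤ augI k A ^ 2) : IsReduced A := by
  haveI hN : (nilradical A).IsHopfIdeal k := Groth.Agent.S11926.result k A
  haveI : IsReduced (A ⧸ nilradical A) :=
    (Ideal.isRadical_iff_quotient_reduced _).1 (Ideal.radical_isRadical ⊥)
  have hsm : Algebra.Smooth k (A ⧸ nilradical A) :=
    Groth.Agent.Lib.Helper7.HopfSmooth.smooth_of_isReduced k (A ⧸ nilradical A)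
  have hdimB := (ringKrullDim_eq_iff_of_isAlgClosed k (A ⧸ nilradical A)).2 hsm
  have hdim := ringKrullDim_quotient_of_le_nilradical (nilradical A) le_rfl
  -- the cotangent spaces agree
  haveI := finite_cotangent (k := k) (A := A ⧸ nilradical A)
  have hle : augI k A ≤ (augI k (A ⧸ nilradical A)).comap (Ideal.Quotient.mkₐ k (nilradical A)) := by
    intro a ha
    rw [Ideal.mem_comap, mem_augI]
    change Coalgebra.counit (R := k) (Ideal.Quotient.mk (nilradical A) a) = 0
    rw [Bialgebra.Quotient.counit_mk]
    exact (mem_augI a).1 ha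
  have hinj : Function.Injective (Ideal.mapCotangent (augI k A) (augI k (A ⧸ nilradical A))
      (Ideal.Quotient.mkₐ k (nilradical A)) hle) := by
    rw [← LinearMap.ker_eq_bot, eq_bot_iff]
    intro x hx
    obtain ⟨x, rfl⟩ := (augI k A).toCotangent_surjective x
    rw [LinearMap.mem_ker, Ideal.mapCotangent_toCotangent, Ideal.toCotangent_eq_zero] at hx
    rw [Submodule.mem_bot, Ideal.toCotangent_eq_zero]
    have h1 : augI k (A ⧸ nilradical A) ≤ (augI k A).map (Ideal.Quotient.mk (nilradical A)) := by
      intro y hy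
      obtain ⟨a, rfl⟩ := Ideal.Quotient.mk_surjective y
      have ha : a ∈ augI k A := by
        rw [mem_augI] at hy ⊢
        rw [← Bialgebra.Quotient.counit_mk (R := k) (nilradical A)]
        exact hy
      exact Ideal.mem_map_of_mem _ ha
    have h2 : Ideal.Quotient.mk (nilradical A) (x : A) ∈
        (augI k A ^ 2).map (Ideal.Quotient.mk (nilradical A)) := by
      rw [Ideal.map_pow]
      exact Ideal.pow_right_mono h1 2 hx
    rw [Ideal.mem_map_iff_of_surjective _ Ideal.Quotient.mk_surjective] at h2
    obtain ⟨y, hy, hxy⟩ := h2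
    have h3 : (x : A) - y ∈ nilradical A := by
      rw [← Ideal.Quotient.eq, hxy]
    have : (x : A) = y + ((x : A) - y) := by ring
    rw [this]
    exact Ideal.add_mem _ hy (h h3)
  have hcot := LinearMap.finrank_le_finrank_of_injective hinj
  have heq : ringKrullDim A = (Module.finrank k (augI k A).Cotangent : ℕ) := by
    apply le_antisymm (ringKrullDim_le_of_isAlgClosed k A)
    rw [← hdim, hdimB]
    exact_mod_cast hcot
  haveI := (ringKrullDim_eq_iff_of_isAlgClosed k A).1 heq
  exact isReduced_of_smooth k A

end Main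

end Groth.Agent.Lib.Helper7.HopfRed
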