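import Groth.Agent.Lib.Helper7.CU6
import Groth.Agent.Lib.Helper7.HopfRed

/-!
# Equivariant Zariski main theorem, I: Cartier's theorem (helper7)

A finitely generated commutative Hopf algebra over an algebraically closed field of characteristic
zero is reduced.
-/

set_option autoImplicit false

universe u

open TensorProduct

namespace Groth.Agent.Lib.Helper7.EZ

open HopfRep Groth.Agent.Lib.Helper7.Comod Coalgebra Groth.Agent.Lib.Helper7.CU
  Groth.Agent.Lib.Helper7.HopfCot

section Cartier

variable {k : Type u} [Field k] {A : Type u} [CommRing A] [Bialgebra k A]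

lemma counit_contr (lam : A →ₗ[k] k) (z : A ⊗[k] A) :
    counit (R := k) (contr A lam z) = lam (contrL A (counit (R := k) (A := A)) z) := by
  induction z using TensorProduct.induction_on with
  | zero => simp
  | tmul x y => simp [mul_comm]
  | add s t hs ht => simp only [map_add, hs, ht]

lemma counit_derivOf (lam : A →ₗ[k] k) (a : A) :
    counit (R := k) (derivOf (k := k) lam a) = lam a := by
  unfold derivOf
  rw [LinearMap.comp_apply, counit_contr]
  congr 1
  unfold contrL
  rw [LinearMap.comp_apply, Coalgebra.rTensor_counit_comul]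
  simp

end Cartier

section Main

/-- **Cartier's theorem** (finitely generated, algebraically closed base field). -/
theorem isReduced_of_charZero (k A : Type u) [Field k] [IsAlgClosed k] [CharZero k] [CommRing A]
    [HopfAlgebra k A] [Algebra.FiniteType k A] : IsReduced A := by
  classical
  apply Groth.Agent.Lib.Helper7.HopfRed.isReduced_of_nilradical_le k A
  intro x hx
  by_contra hx2
  have hxnil : IsNilpotent x := mem_nilradical.1 hx
  have hx0 : counit (R := k) x = 0 := by
    have h := hxnil.map (Bialgebra.counitAlgHom k A)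
    exact h.eq_zero
  -- `x` is not in `k + ker ε * ker ε`
  set W : Submodule k A := 1 ⊔ LinearMap.ker (counit (R := k) (A := A)) *
    LinearMap.ker (counit (R := k) (A := A)) with hW
  have hKI : ∀ z ∈ LinearMap.ker (counit (R := k) (A := A)) *
      LinearMap.ker (counit (R := k) (A := A)), z ∈ augI k A ^ 2 := by
    intro z hz
    refine Submodule.mul_induction_on hz ?_ ?_
    · intro m hm n hn
      rw [pow_two]
      exact Ideal.mul_mem_mul ((mem_augI m).2 (LinearMap.mem_ker.1 hm))
        ((mem_augI n).2 (LinearMap.mem_ker.1 hn))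
    · intro a b ha hb
      exact Ideal.add_mem _ ha hb
  have hxW : x ∉ W := by
    intro h
    obtain ⟨y, hy, z, hz, hyz⟩ := Submodule.mem_sup.1 h
    rw [Submodule.mem_one] at hy
    obtain ⟨c, rfl⟩ := hy
    have hz2 := hKI z hz
    have hz0 : counit (R := k) z = 0 := by
      have : z ∈ augI k A := Ideal.pow_le_self (by norm_num) hz2
      exact (mem_augI z).1 this
    have hc : c = 0 := by
      have h1 := congrArg (counit (R := k) (A := A)) hyz
      rw [map_add, Bialgebra.counit_algebraMap, hz0, add_zero, hx0] at h1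
      simpa using h1
    rw [hc, map_zero, zero_add] at hyz
    rw [← hyz] at hx2
    exact hx2 hz2
  obtain ⟨d, hdx, hdW⟩ := Submodule.exists_le_ker_of_notMem hxW
  have hd1 : d 1 = 0 :=
    LinearMap.mem_ker.1 (hdW ((le_sup_left : (1 : Submodule k A) ≤ W) (Submodule.one_le.1 le_rfl)))
  have hd2 : ∀ a b : A, counit (R := k) a = 0 → counit (R := k) b = 0 → d (a * b) = 0 := by
    intro a b ha hb
    exact LinearMap.mem_ker.1 (hdW ((le_sup_right : _ ≤ W)
      (Submodule.mul_mem_mul (LinearMap.mem_ker.2 ha) (LinearMap.mem_ker.2 hb))))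
  let D : Derivation k A A := derivationOf d (lam_mul d hd1 hd2)
  have hDc : ∀ a, counit (R := k) (D a) = d a := fun a => counit_derivOf d a
  -- minimal exponent
  have hex : ∃ n : ℕ, ∃ s : A, counit (R := k) s ≠ 0 ∧ s * x ^ n = 0 := by
    obtain ⟨N, hN⟩ := hxnil
    exact ⟨N, 1, by rw [Bialgebra.counit_one]; exact one_ne_zero, by rw [hN, mul_zero]⟩
  have hmin : ∀ m, m < Nat.find hex → ¬ ∃ s : A, counit (R := k) s ≠ 0 ∧ s * x ^ m = 0 :=
    fun m hm => Nat.find_min hex hm
  obtain ⟨s, hs, hsx⟩ := Nat.find_spec hex
  set n := Nat.find hex with hn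
  cases hn' : n with
  | zero =>
    rw [hn', pow_zero, mul_one] at hsx
    rw [hsx, map_zero] at hs
    exact hs rfl
  | succ m =>
    rw [hn'] at hsx
    have h1 := congrArg D hsx
    rw [map_zero, Derivation.leibniz, Derivation.leibniz_pow, Nat.add_sub_cancel] at h1
    simp only [smul_eq_mul, nsmul_eq_mul] at h1
    apply hmin m (by rw [hn']; exact Nat.lt_succ_self m)
    refine ⟨s * s * ((m + 1 : ℕ) : A) * D x, ?_, ?_⟩
    · rw [Bialgebra.counit_mul, Bialgebra.counit_mul, Bialgebra.counit_mul, hDc]
      have h5 : counit (R := k) (((m + 1 : ℕ) : A)) = ((m + 1 : ℕ) : k) := by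
        rw [← map_natCast (algebraMap k A), Bialgebra.counit_algebraMap]
      rw [h5]
      refine mul_ne_zero (mul_ne_zero (mul_ne_zero hs hs) ?_) hdx
      exact Nat.cast_ne_zero.2 (Nat.succ_ne_zero m)
    · linear_combination s * h1 - D s * hsx

end Main

end Groth.Agent.Lib.Helper7.EZ
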