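import Groth.Agent.Lib.Helper7.EZ1
import Groth.Agent.Lib.Helper7.D1Basic

/-!
# Equivariant Zariski main theorem, II: the integral closure is stable under the coaction (helper7)
-/

set_option autoImplicit false

universe u

open TensorProduct

namespace Groth.Agent.Lib.Helper7.EZ

open HopfRep Groth.Agent.Lib.Helper7.Comod Coalgebra

section Points

variable {k : Type u} [Field k] [IsAlgClosed k] {A : Type u} [CommRing A] [Algebra k A]
  [Algebra.FiniteType k A] [IsReduced A]

/-- rational points span the dual of any finite-dimensional subspace of a reduced algebra of finite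
type over an algebraically closed field. -/
theorem exists_points_comb {ι : Type*} [Fintype ι] [DecidableEq ι] (a : ι → A)
    (ha : LinearIndependent k a) (i₀ : ι) :
    ∃ (T : Finset (A →ₐ[k] k)) (c : (A →ₐ[k] k) → k),
      ∀ l, ∑ g ∈ T, c g * g (a l) = if l = i₀ then 1 else 0 := by
  classical
  let v : (A →ₐ[k] k) → (ι → k) := fun g l => g (a l)
  set W : Submodule k (ι → k) := Submodule.span k (Set.range v) with hW
  have hWtop : W = ⊤ := by
    by_contra hne
    obtain ⟨f, hf0, hfW⟩ := Submodule.exists_le_ker_of_lt_top W (lt_top_iff_ne_top.2 hne)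
    apply hf0
    have hf : ∀ w : ι → k, f w = ∑ l, w l * f (Pi.single l 1) := by
      intro w
      conv_lhs => rw [← Finset.univ_sum_single w]
      rw [map_sum]
      apply Finset.sum_congr rfl
      intro l _
      have : (Pi.single l (w l) : ι → k) = w l • Pi.single l 1 := by
        rw [← Pi.single_smul', smul_eq_mul, mul_one]
      rw [this, map_smul, smul_eq_mul]
    have hz : ∑ l, f (Pi.single l 1) • a l = 0 := by
      apply Groth.Agent.Lib.Helper7.D1.eq_zero_of_forall_point (k := k)
      intro g
      have h1 : f (v g) = 0 := LinearMap.mem_ker.1 (hfW (Submodule.subset_span ⟨g, rfl⟩))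
      rw [hf] at h1
      rw [map_sum]
      rw [← h1]
      apply Finset.sum_congr rfl
      intro l _
      rw [map_smul, smul_eq_mul, mul_comm]
    have hc : ∀ l, f (Pi.single l 1) = 0 := by
      intro l
      exact (Fintype.linearIndependent_iff.1 ha) (fun l => f (Pi.single l 1)) hz l
    apply LinearMap.ext
    intro w
    rw [hf, LinearMap.zero_apply]
    apply Finset.sum_eq_zero
    intro l _
    rw [hc, mul_zero]
  have hmem : (Pi.single i₀ 1 : ι → k) ∈ W := by rw [hWtop]; trivial
  rw [hW, Finsupp.mem_span_range_iff_exists_finsupp] at hmem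
  obtain ⟨c, hc⟩ := hmem
  refine ⟨c.support, fun g => c g, fun l => ?_⟩
  have h1 := congrFun hc l
  rw [Finsupp.sum, Finset.sum_apply] at h1
  rw [Pi.single_apply] at h1
  rw [← h1]
  rfl

end Points

section Act

variable {k : Type u} [Field k] {A : Type u} [CommRing A] [Bialgebra k A]
  {R : Type u} [CommRing R] [Algebra k R] [Comod k A R] [GLin.IsCoactAlg k A R]

/-- the action of a rational point `g` of the group on functions. -/
noncomputable def actHom (g : A →ₐ[k] k) : R →ₐ[k] R :=
  (Algebra.TensorProduct.rid k k R).toAlgHom.comp
    ((Algebra.TensorProduct.map (AlgHom.id k R) g).comp (GLin.coactAlgHom k A R))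

lemma actHom_apply (g : A →ₐ[k] k) (r : R) :
    actHom (k := k) g r = contr R g.toLinearMap (Comod.coact (k := k) (A := A) r) := by
  unfold actHom
  simp only [AlgHom.comp_apply, GLin.coactAlgHom_apply]
  generalize Comod.coact (k := k) (A := A) r = y
  induction y using TensorProduct.induction_on with
  | zero => simp
  | tmul x a => simp
  | add s t hs ht => simp only [map_add, hs, ht]

end Act

section Integral

variable {k : Type u} [Field k] [IsAlgClosed k] [CharZero k] {A : Type u} [CommRing A]
  [HopfAlgebra k A] [Algebra.FiniteType k A]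
  {S : Type u} [CommRing S] [Algebra k S] [Comod k A S] [GLin.IsCoactAlg k A S]
  {R : Type u} [CommRing R] [Algebra k R] [Comod k A R] [GLin.IsCoactAlg k A R]
  [Algebra S R] [IsScalarTower k S R]

lemma map_eq_rTensor (f : S →ₐ[k] R) (z : S ⊗[k] A) :
    Algebra.TensorProduct.map f (AlgHom.id k A) z = f.toLinearMap.rTensor A z := by
  induction z using TensorProduct.induction_on with
  | zero => simp
  | tmul x a => simp
  | add s t hs ht => simp only [map_add, hs, ht]

lemma actHom_algebraMap
    (hequiv : ∀ s : S, Comod.coact (k := k) (A := A) (algebraMap S R s) =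
      Algebra.TensorProduct.map (IsScalarTower.toAlgHom k S R) (AlgHom.id k A)
        (Comod.coact (k := k) (A := A) s))
    (g : A →ₐ[k] k) (s : S) :
    actHom (k := k) (R := R) g (algebraMap S R s) = algebraMap S R (actHom (k := k) (R := S) g s) := by
  rw [actHom_apply, actHom_apply, hequiv, map_eq_rTensor, contr_rTensor]
  rfl

/-- the integral closure of `S` in `R` is stable under the coaction. -/
theorem isSubcomod_integralClosure
    (hequiv : ∀ s : S, Comod.coact (k := k) (A := A) (algebraMap S R s) =
      Algebra.TensorProduct.map (IsScalarTower.toAlgHom k S R) (AlgHom.id k A)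
        (Comod.coact (k := k) (A := A) s)) :
    IsSubcomod (k := k) (A := A)
      (Subalgebra.toSubmodule ((integralClosure S R).restrictScalars k)) := by
  classical
  haveI : IsReduced A := isReduced_of_charZero k A
  intro b hb
  have hb' : IsIntegral S b := hb
  set W := Subalgebra.toSubmodule ((integralClosure S R).restrictScalars k) with hW
  -- stable under points
  have hpt : ∀ g : A →ₐ[k] k, contr R g.toLinearMap (Comod.coact (k := k) (A := A) b) ∈ W := by
    intro g
    rw [← actHom_apply]
    have h1 : IsIntegral S (actHom (k := k) (R := R) g b) := by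
      refine IsIntegral.map_of_comp_eq (actHom (k := k) (R := S) g).toRingHom
        (actHom (k := k) (R := R) g).toRingHom ?_ hb'
      ext s
      exact (actHom_algebraMap hequiv g s).symm
    exact h1
  -- basis expansion
  let e := Module.Basis.ofVectorSpace k A
  obtain ⟨c, hc⟩ := TensorProduct.eq_repr_basis_right e (Comod.coact (k := k) (A := A) b)
  rw [← hc, Finsupp.sum]
  refine Submodule.sum_mem _ fun i₀ hi₀ => ?_
  refine tmul_mem_range_rTensor ?_ _
  -- `c i₀` is a combination of point translates
  let a : ↥c.support → A := fun i => e i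
  have ha : LinearIndependent k a := e.linearIndependent.comp _ Subtype.val_injective
  obtain ⟨T, lam, hT⟩ := exists_points_comb a ha ⟨i₀, hi₀⟩
  have hcontr : ∀ g : A →ₐ[k] k, contr R g.toLinearMap (Comod.coact (k := k) (A := A) b) =
      ∑ i : ↥c.support, g (a i) • c i := by
    intro g
    rw [← hc, Finsupp.sum, map_sum, ← Finset.sum_coe_sort]
    apply Finset.sum_congr rfl
    intro i _
    rw [contr_tmul]
    rfl
  have hci : c i₀ = ∑ g ∈ T, lam g • contr R g.toLinearMap (Comod.coact (k := k) (A := A) b) := by
    simp only [hcontr, Finset.smul_sum, smul_smul]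
    rw [Finset.sum_comm]
    simp only [← Finset.sum_smul, hT]
    rw [Finset.sum_eq_single ⟨i₀, hi₀⟩]
    · simp
    · intro i _ hi
      rw [if_neg hi, zero_smul]
    · intro h; exact absurd (Finset.mem_univ _) h
  rw [hci]
  exact Submodule.sum_mem _ fun g _ => Submodule.smul_mem _ _ (hpt g)

end Integral

end Groth.Agent.Lib.Helper7.EZ
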