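import Groth.Agent.Lib.Helper7.EZ2
import Groth.Prelude.Def_ComodSub

/-!
# Equivariant Zariski main theorem, III: stable subalgebras of comodule algebras (helper7)
-/

set_option autoImplicit false

universe u

open TensorProduct

namespace Groth.Agent.Lib.Helper7.EZ

open HopfRep Groth.Agent.Lib.Helper7.Comod Coalgebra

section SubComodAlg

variable {k : Type u} [Field k] {A : Type u} [CommRing A] [Bialgebra k A]
  {R : Type u} [CommRing R] [Algebra k R] [cR : Comod k A R] [GLin.IsCoactAlg k A R]

/-- the subalgebra generated by a subcomodule is a subcomodule. -/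
theorem isSubcomod_adjoin (V : Submodule k R) (hV : IsSubcomod (k := k) (A := A) V) :
    IsSubcomod (k := k) (A := A) (Subalgebra.toSubmodule (Algebra.adjoin k (V : Set R))) := by
  set C := Algebra.adjoin k (V : Set R) with hC
  let F : ↥C ⊗[k] A →ₐ[k] R ⊗[k] A := Algebra.TensorProduct.map C.val (AlgHom.id k A)
  have hF : ∀ y, F y = (Subalgebra.toSubmodule C).subtype.rTensor A y := by
    intro y
    induction y using TensorProduct.induction_on with
    | zero => simp
    | tmul a b => rfl
    | add x y hx hy => simp only [map_add, hx, hy]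
  have hle : C ≤ (F.range).comap (GLin.coactAlgHom k A R) := by
    apply Algebra.adjoin_le
    intro s hs
    have h1 := hV s hs
    have h2 : V ≤ Subalgebra.toSubmodule C := fun t ht => Algebra.subset_adjoin ht
    obtain ⟨y, hy⟩ := range_rTensor_mono (k := k) (A := A) h2 h1
    exact ⟨y, (hF y).trans hy⟩
  intro c hc
  obtain ⟨y, hy⟩ := hle hc
  exact ⟨y, (hF y).symm.trans hy⟩

variable (C : Subalgebra k R)
  (hC : IsSubcomod (k := k) (A := A) (Subalgebra.toSubmodule C))

/-- the comodule structure on a stable subalgebra. -/
@[reducible] noncomputable def comodSub : Comod k A ↥C :=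
  ComodSub.Comod.restr cR (Subalgebra.toSubmodule C) hC

/-- `C ⊗ A → R ⊗ A` as an algebra map. -/
noncomputable def FS : ↥C ⊗[k] A →ₐ[k] R ⊗[k] A := Algebra.TensorProduct.map C.val (AlgHom.id k A)

lemma FS_apply (y : ↥C ⊗[k] A) :
    FS (A := A) C y = (Subalgebra.toSubmodule C).subtype.rTensor A y := by
  induction y using TensorProduct.induction_on with
  | zero => simp
  | tmul a b => rfl
  | add x y hx hy => simp only [map_add, hx, hy]

lemma FS_injective : Function.Injective (FS (A := A) C) := by
  intro y y' h
  rw [FS_apply, FS_apply] at h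
  exact ComodSub.rTensor_subtype_injective (Subalgebra.toSubmodule C) h

lemma FS_coact (c : ↥C) :
    FS (A := A) C ((comodSub C hC).coact c) = Comod.coact (k := k) (A := A) (c : R) := by
  rw [FS_apply]
  exact ComodSub.rTensor_subtype_restrCoact cR (Subalgebra.toSubmodule C) hC c

theorem isCoactAlgSub : @GLin.IsCoactAlg k _ A _ _ ↥C _ _ (comodSub C hC) := by
  letI := comodSub C hC
  constructor
  · apply FS_injective C
    rw [FS_coact, map_one]
    exact GLin.IsCoactAlg.coact_one (k := k) (A := A) (R := R)
  · intro f g
    apply FS_injective C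
    rw [FS_coact, map_mul, FS_coact, FS_coact]
    exact GLin.IsCoactAlg.coact_mul (k := k) (A := A) (R := R) _ _

end SubComodAlg

end Groth.Agent.Lib.Helper7.EZ
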