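import Mathlib

/-!
# Equivariant Zariski main theorem, IV: the global affine form of Zariski's main theorem (helper7)
-/

set_option autoImplicit false

universe u

open CategoryTheory AlgebraicGeometry

namespace Groth.Agent.Lib.Helper7.EZ

section OI

variable {C R : Type u} [CommRing C] [CommRing R]

/-- under the hypothesis `R ⊆ C[1/r]`, `R[1/r]` is the localization of `C` at `r`. -/
theorem isLocalization_away_of_forall (f : C →+* R) (hf : Function.Injective f) (r : C)
    (H : ∀ x : R, ∃ n : ℕ, ∃ c : C, f r ^ n * x = f c) :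
    letI : Algebra C (Localization.Away (f r)) :=
      ((algebraMap R (Localization.Away (f r))).comp f).toAlgebra
    IsLocalization.Away r (Localization.Away (f r)) := by
  letI : Algebra C (Localization.Away (f r)) :=
    ((algebraMap R (Localization.Away (f r))).comp f).toAlgebra
  have halg : ∀ c : C, algebraMap C (Localization.Away (f r)) c =
      algebraMap R (Localization.Away (f r)) (f c) := fun c => rfl
  refine ⟨?_, ?_, ?_⟩
  · rintro ⟨y, n, rfl⟩
    rw [halg, map_pow, map_pow]
    exact (IsLocalization.Away.algebraMap_isUnit (f r)).pow n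
  · intro z
    obtain ⟨x, ⟨_, a, rfl⟩, rfl⟩ := IsLocalization.exists_mk'_eq (Submonoid.powers (f r)) z
    obtain ⟨n, c, hc⟩ := H x
    refine ⟨(c, ⟨r ^ (a + n), a + n, rfl⟩), ?_⟩
    have e1 : algebraMap C (Localization.Away (f r)) (r ^ (a + n)) =
        (algebraMap R (Localization.Away (f r)) (f r)) ^ a *
          (algebraMap R (Localization.Away (f r)) (f r)) ^ n := by
      rw [halg, map_pow, map_pow, pow_add]
    have e2 : algebraMap C (Localization.Away (f r)) c =
        (algebraMap R (Localization.Away (f r)) (f r)) ^ n *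
          algebraMap R (Localization.Away (f r)) x := by
      rw [halg, ← hc, map_mul, map_pow]
    have h1 : IsLocalization.mk' (Localization.Away (f r)) x
        (⟨f r ^ a, a, rfl⟩ : Submonoid.powers (f r)) *
        (algebraMap R (Localization.Away (f r)) (f r)) ^ a =
        algebraMap R (Localization.Away (f r)) x := by
      have h0 := IsLocalization.mk'_spec (Localization.Away (f r)) x
        (⟨f r ^ a, a, rfl⟩ : Submonoid.powers (f r))
      have h00 : algebraMap R (Localization.Away (f r))
          ((⟨f r ^ a, a, rfl⟩ : Submonoid.powers (f r)) : R) =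
          (algebraMap R (Localization.Away (f r)) (f r)) ^ a := map_pow _ _ _
      rw [h00] at h0
      exact h0
    change IsLocalization.mk' (Localization.Away (f r)) x
        (⟨f r ^ a, a, rfl⟩ : Submonoid.powers (f r)) *
        algebraMap C (Localization.Away (f r)) (r ^ (a + n)) =
      algebraMap C (Localization.Away (f r)) c
    rw [e1, e2, ← mul_assoc, h1, mul_comm]
  · intro c c' h
    rw [halg, halg] at h
    obtain ⟨⟨_, m, rfl⟩, hm⟩ := (IsLocalization.eq_iff_exists (Submonoid.powers (f r))
      (Localization.Away (f r))).1 h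
    refine ⟨⟨r ^ m, m, rfl⟩, ?_⟩
    apply hf
    simp only [map_mul, map_pow]
    exact hm

/-- the open immersion criterion. -/
theorem isOpenImmersion_of_forall {ι : Type u} (f : C →+* R) (hf : Function.Injective f)
    (r : ι → C) (hspan : Ideal.span (Set.range (fun i => f (r i))) = ⊤)
    (H : ∀ i, ∀ x : R, ∃ n : ℕ, ∃ c : C, f (r i) ^ n * x = f c) :
    IsOpenImmersion (Spec.map (CommRingCat.ofHom f)) := by
  let 𝒰 := (Scheme.affineOpenCoverOfSpanRangeEqTop (R := CommRingCat.of R)
    (fun i => f (r i)) hspan).openCover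
  apply IsOpenImmersion.of_openCover_source _ 𝒰
  · -- injectivity on points
    intro p q hpq
    have hpq' : PrimeSpectrum.comap f p = PrimeSpectrum.comap f q := hpq
    have key : ∀ p q : PrimeSpectrum R, PrimeSpectrum.comap f p = PrimeSpectrum.comap f q →
        p.asIdeal ≤ q.asIdeal := by
      intro p q hpq x hx
      obtain ⟨i, hi⟩ : ∃ i, f (r i) ∉ p.asIdeal := by
        by_contra hcon
        push Not at hcon
        apply p.2.ne_top
        rw [eq_top_iff, ← hspan, Ideal.span_le]
        rintro _ ⟨i, rfl⟩
        exact hcon i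
      have hiq : f (r i) ∉ q.asIdeal := by
        intro h
        apply hi
        have : r i ∈ (PrimeSpectrum.comap f q).asIdeal := h
        rw [← hpq] at this
        exact this
      obtain ⟨n, c, hc⟩ := H i x
      have h1 : f c ∈ p.asIdeal := by rw [← hc]; exact p.asIdeal.mul_mem_left _ hx
      have h2 : c ∈ (PrimeSpectrum.comap f p).asIdeal := h1
      rw [hpq] at h2
      have h3 : f (r i) ^ n * x ∈ q.asIdeal := by rw [hc]; exact h2
      rcases q.2.mem_or_mem h3 with h4 | h4
      · exact absurd (q.2.mem_of_pow_mem n h4) hiq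
      · exact h4
    exact PrimeSpectrum.ext (le_antisymm (key p q hpq') (key q p hpq'.symm))
  · intro i
    letI : Algebra C (Localization.Away (f (r i))) :=
      ((algebraMap R (Localization.Away (f (r i)))).comp f).toAlgebra
    haveI := isLocalization_away_of_forall f hf (r i) (H i)
    have h1 : 𝒰.f i ≫ Spec.map (CommRingCat.ofHom f) =
        Spec.map (CommRingCat.ofHom (algebraMap C (Localization.Away (f (r i))))) := by
      change Spec.map (CommRingCat.ofHom (algebraMap R (Localization.Away (f (r i))))) ≫ _ = _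
      rw [← Spec.map_comp, ← CommRingCat.ofHom_comp]
    rw [h1]
    exact IsOpenImmersion.of_isLocalization (r i)

end OI

section ZMT

variable (S R : Type u) [CommRing S] [CommRing R] [Algebra S R] [Algebra.FiniteType S R]
  [Algebra.QuasiFinite S R]

/-- the global affine form of Zariski's main theorem, as a finite amount of data. -/
theorem exists_finset_zmt :
    ∃ (T : Finset R) (M : Finset R), Ideal.span (T : Set R) = ⊤ ∧
      (∀ m ∈ M, IsIntegral S m) ∧
      ∀ t ∈ T, t ∈ Algebra.adjoin S (M : Set R) ∧
        ∀ x : R, ∃ n : ℕ, t ^ n * x ∈ Algebra.adjoin S (M : Set R) := by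
  classical
  -- local data
  have hloc : ∀ p : PrimeSpectrum R, ∃ (t : R) (G : Finset R), t ∉ p.asIdeal ∧
      (∀ m ∈ G, IsIntegral S m) ∧ t ∈ Algebra.adjoin S (G : Set R) ∧
      ∀ x : R, ∃ n : ℕ, t ^ n * x ∈ Algebra.adjoin S (G : Set R) := by
    intro p
    haveI := p.2
    obtain ⟨S', hfg, r, hrp, hbij⟩ :=
      Algebra.QuasiFiniteAt.exists_fg_and_exists_notMem_and_awayMap_bijective (R := S) p.asIdeal
    obtain ⟨G, hG⟩ := hfg
    have hGS : (G : Set R) ⊆ S' := by
      intro m hm
      have : m ∈ Submodule.span S (G : Set R) := Submodule.subset_span hm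
      rw [hG] at this
      exact this
    have hle : S' ≤ Algebra.adjoin S (G : Set R) := by
      intro y hy
      have h1 : y ∈ Submodule.span S (G : Set R) := by rw [hG]; exact hy
      exact Algebra.span_le_adjoin S _ h1
    refine ⟨r.1, G, hrp, ?_, hle r.2, ?_⟩
    · intro m hm
      exact IsIntegral.of_mem_of_fg S' ⟨G, hG⟩ m (hGS hm)
    · intro x
      obtain ⟨z, hz⟩ := hbij.2 (algebraMap R (Localization.Away (r.1)) x)
      obtain ⟨c, ⟨_, a, rfl⟩, rfl⟩ := IsLocalization.exists_mk'_eq (Submonoid.powers r) z
      have h1 : Localization.awayMap S'.val.toRingHom r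
          (IsLocalization.mk' (Localization.Away r) c (⟨r ^ a, a, rfl⟩ : Submonoid.powers r)) =
          IsLocalization.mk' (Localization.Away (r.1)) (c.1)
            (⟨r.1 ^ a, a, rfl⟩ : Submonoid.powers r.1) := by
        unfold Localization.awayMap IsLocalization.Away.map
        rw [IsLocalization.map_mk']
        rfl
      rw [h1] at hz
      have hz' : IsLocalization.mk' (Localization.Away r.1) c.1
          (⟨r.1 ^ a, a, rfl⟩ : Submonoid.powers r.1) =
          algebraMap R (Localization.Away r.1) x := hz
      have hz2 : algebraMap R (Localization.Away r.1) (x * r.1 ^ a) =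
          algebraMap R (Localization.Away r.1) c.1 := by
        rw [map_mul]
        exact (IsLocalization.eq_mk'_iff_mul_eq (S := Localization.Away r.1)
          (y := (⟨r.1 ^ a, a, rfl⟩ : Submonoid.powers r.1))).1 hz'.symm
      obtain ⟨⟨_, m, rfl⟩, hm⟩ := (IsLocalization.eq_iff_exists (Submonoid.powers r.1)
        (Localization.Away r.1)).1 hz2
      refine ⟨m + a, ?_⟩
      have h2 : r.1 ^ (m + a) * x = r.1 ^ m * c.1 := by
        simp only at hm
        rw [pow_add, mul_assoc, mul_comm (r.1 ^ a) x]
        exact hm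
      rw [h2]
      exact hle ((S'.pow_mem r.2 m |> fun h => S'.mul_mem h c.2))
  choose t G ht hG1 hG2 hG3 using hloc
  have hspan : Ideal.span (Set.range t) = ⊤ := by
    by_contra hne
    obtain ⟨m, hm, hle⟩ := Ideal.exists_le_maximal _ hne
    exact ht ⟨m, hm.isPrime⟩ (hle (Ideal.subset_span ⟨⟨m, hm.isPrime⟩, rfl⟩))
  obtain ⟨T, hT1, hT2⟩ := (Ideal.span_eq_top_iff_finite _).1 hspan
  have hch : ∀ x : R, x ∈ T → ∃ p : PrimeSpectrum R, t p = x := fun x hx => hT1 hx
  choose pp hpp using hch
  refine ⟨T, T.attach.biUnion (fun x => G (pp x.1 x.2)), hT2, ?_, ?_⟩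
  · intro m hm
    rw [Finset.mem_biUnion] at hm
    obtain ⟨x, _, hm⟩ := hm
    exact hG1 _ m hm
  · intro x hx
    have hmono : Algebra.adjoin S (G (pp x hx) : Set R) ≤
        Algebra.adjoin S ((T.attach.biUnion (fun x => G (pp x.1 x.2)) : Finset R) : Set R) := by
      apply Algebra.adjoin_mono
      intro m hm
      rw [Finset.coe_biUnion, Set.mem_iUnion₂]
      exact ⟨⟨x, hx⟩, Finset.mem_attach _ _, hm⟩
    refine ⟨?_, ?_⟩
    · have := hG2 (pp x hx)
      rw [hpp x hx] at this
      exact hmono this
    · intro y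
      obtain ⟨n, hn⟩ := hG3 (pp x hx) y
      rw [hpp x hx] at hn
      exact ⟨n, hmono hn⟩

end ZMT

end Groth.Agent.Lib.Helper7.EZ
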