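import Groth.Agent.Lib.Helper7.EZ3
import Groth.Agent.Lib.Helper7.EZ4

/-!
# Equivariant Zariski main theorem, V: assembly (helper7)
-/

set_option autoImplicit false

universe u

open TensorProduct CategoryTheory AlgebraicGeometry

namespace Groth.Agent.Lib.Helper7.EZ

open HopfRep Groth.Agent.Lib.Helper7.Comod Coalgebra

section Aux

variable {k : Type u} [Field k] {A : Type u} [AddCommGroup A] [Module k A] [Coalgebra k A]

theorem exists_finite_subcomod_finset {V : Type u} [AddCommGroup V] [Module k V] [Comod k A V]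
    (T : Finset V) :
    ∃ W : Submodule k V, Module.Finite k W ∧ (↑T : Set V) ⊆ W ∧
      IsSubcomod (k := k) (A := A) W := by
  classical
  induction T using Finset.induction_on with
  | empty => exact ⟨⊥, inferInstance, by simp, isSubcomod_bot⟩
  | insert t T _ ih =>
    obtain ⟨W, hf, hT, hW⟩ := ih
    obtain ⟨W', hf', ht, hW'⟩ := exists_finite_subcomod_mem (k := k) (C := A) t
    refine ⟨W ⊔ W', inferInstance, ?_, isSubcomod_sup hW hW'⟩
    intro y hy
    rw [Finset.coe_insert, Set.mem_insert_iff] at hy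
    rcases hy with rfl | hy
    · exact (le_sup_right : W' ≤ W ⊔ W') ht
    · exact (le_sup_left : W ≤ W ⊔ W') (hT hy)

end Aux

section Main

variable (k : Type u) [Field k] [IsAlgClosed k] [CharZero k]
  (A : Type u) [CommRing A] [HopfAlgebra k A] [Algebra.FiniteType k A]
  (S : Type u) [CommRing S] [Algebra k S] [Algebra.FiniteType k S] [Comod k A S]
  [GLin.IsCoactAlg k A S]
  (R : Type u) [CommRing R] [Algebra k R] [Algebra.FiniteType k R] [cR : Comod k A R]
  [GLin.IsCoactAlg k A R]
  [Algebra S R] [IsScalarTower k S R] [Algebra.QuasiFinite S R]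

/-- **the equivariant form of Zariski's main theorem**. -/
theorem equivariant_zmt
    (hequiv : ∀ s : S, Comod.coact (k := k) (A := A) (algebraMap S R s) =
      Algebra.TensorProduct.map (IsScalarTower.toAlgHom k S R) (AlgHom.id k A)
        (Comod.coact (k := k) (A := A) s)) :
    ∃ (B : Type u) (_ : CommRing B) (_ : Algebra k B) (_ : Comod k A B)
      (_ : GLin.IsCoactAlg k A B),
      Algebra.FiniteType k B ∧
      ∃ (ψ : S →ₐ[k] B) (i : B →ₐ[k] R),
        (∀ s : S, Comod.coact (k := k) (A := A) (ψ s) =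
          Algebra.TensorProduct.map ψ (AlgHom.id k A) (Comod.coact (k := k) (A := A) s)) ∧
        (∀ s : B, Comod.coact (k := k) (A := A) (i s) =
          Algebra.TensorProduct.map i (AlgHom.id k A) (Comod.coact (k := k) (A := A) s)) ∧
        i.comp ψ = IsScalarTower.toAlgHom k S R ∧ ψ.toRingHom.Finite ∧
        IsOpenImmersion (Spec.map (CommRingCat.ofHom i.toRingHom)) := by
  classical
  haveI : Algebra.FiniteType S R := Algebra.FiniteType.of_restrictScalars_finiteType k S R
  obtain ⟨T, M, hT, hM, hTM⟩ := exists_finset_zmt S R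
  -- the integral closure
  set B₀ : Subalgebra k R := (integralClosure S R).restrictScalars k with hB₀def
  have hB₀ : IsSubcomod (k := k) (A := A) (Subalgebra.toSubmodule B₀) :=
    isSubcomod_integralClosure hequiv
  have hmemB₀ : ∀ x : R, x ∈ B₀ ↔ IsIntegral S x := fun x => Iff.rfl
  letI cB₀ : Comod k A ↥B₀ := comodSub B₀ hB₀
  -- generators
  obtain ⟨GS, hGS⟩ := (Algebra.FiniteType.out : (⊤ : Subalgebra k S).FG)
  set N₀ : Finset R := M ∪ GS.image (algebraMap S R) with hN₀def
  have hN₀ : ∀ x ∈ N₀, x ∈ B₀ := by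
    intro x hx
    rw [hN₀def, Finset.mem_union] at hx
    rcases hx with hx | hx
    · exact hM x hx
    · rw [Finset.mem_image] at hx
      obtain ⟨g, _, rfl⟩ := hx
      exact isIntegral_algebraMap
  let N : Finset ↥B₀ := N₀.attach.image (fun x => ⟨x.1, hN₀ x.1 x.2⟩)
  obtain ⟨V', hV'f, hNV', hV'⟩ := exists_finite_subcomod_finset (k := k) (A := A) N
  set V : Submodule k R := V'.map (Subalgebra.toSubmodule B₀).subtype with hVdef
  have hV : IsSubcomod (k := k) (A := A) V :=
    isSubcomod_map (ComodSub.isComodHom_subtype cR (Subalgebra.toSubmodule B₀) hB₀) hV'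
  have hN₀V : ∀ x ∈ N₀, x ∈ V := by
    intro x hx
    refine ⟨⟨x, hN₀ x hx⟩, hNV' ?_, rfl⟩
    rw [Finset.mem_coe, Finset.mem_image]
    exact ⟨⟨x, hx⟩, Finset.mem_attach _ _, rfl⟩
  have hVB₀ : ∀ x ∈ V, x ∈ B₀ := by
    rintro _ ⟨y, _, rfl⟩
    exact y.2
  haveI : Module.Finite k V := Module.Finite.map V' _
  -- the algebra B
  set Bsub : Subalgebra k R := Algebra.adjoin k (V : Set R) with hBdef
  have hBsub : IsSubcomod (k := k) (A := A) (Subalgebra.toSubmodule Bsub) :=
    isSubcomod_adjoin V hV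
  have hBB₀ : Bsub ≤ B₀ := Algebra.adjoin_le hVB₀
  have hVB : ∀ x ∈ V, x ∈ Bsub := fun x hx => Algebra.subset_adjoin hx
  have hBfg : Bsub.FG := by
    obtain ⟨s, hs⟩ := (Module.Finite.iff_fg.1 inferInstance : V.FG)
    refine ⟨s, ?_⟩
    rw [hBdef, ← hs, Algebra.adjoin_span]
  have hSB : ∀ s : S, algebraMap S R s ∈ Bsub := by
    have h1 : (IsScalarTower.toAlgHom k S R).range ≤ Bsub := by
      rw [← Algebra.map_top, ← hGS, AlgHom.map_adjoin]
      apply Algebra.adjoin_le
      rintro _ ⟨g, hg, rfl⟩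
      apply hVB
      apply hN₀V
      rw [hN₀def, Finset.mem_union]
      exact Or.inr (Finset.mem_image.2 ⟨g, hg, rfl⟩)
    intro s
    exact h1 ⟨s, rfl⟩
  have hadjB : ∀ y ∈ Algebra.adjoin S (M : Set R), y ∈ Bsub := by
    intro y hy
    induction hy using Algebra.adjoin_induction with
    | mem x hx =>
      apply hVB
      apply hN₀V
      rw [hN₀def, Finset.mem_union]
      exact Or.inl hx
    | algebraMap s => exact hSB s
    | add x y _ _ hx hy => exact Bsub.add_mem hx hy
    | mul x y _ _ hx hy => exact Bsub.mul_mem hx hy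
  letI cB : Comod k A ↥Bsub := comodSub Bsub hBsub
  haveI hcB : GLin.IsCoactAlg k A ↥Bsub := isCoactAlgSub Bsub hBsub
  haveI : Algebra.FiniteType k ↥Bsub := (Subalgebra.fg_iff_finiteType Bsub).1 hBfg
  let ψ : S →ₐ[k] ↥Bsub := (IsScalarTower.toAlgHom k S R).codRestrict Bsub hSB
  have hiψ : Bsub.val.comp ψ = IsScalarTower.toAlgHom k S R := by
    apply AlgHom.ext; intro s; rfl
  refine ⟨↥Bsub, inferInstance, inferInstance, cB, hcB, inferInstance, ψ, Bsub.val, ?_, ?_, hiψ,
    ?_, ?_⟩
  · intro s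
    apply FS_injective (A := A) Bsub
    rw [FS_coact]
    change Comod.coact (k := k) (A := A) (algebraMap S R s) = _
    rw [hequiv, ← hiψ]
    unfold FS
    rw [← AlgHom.comp_apply, ← Algebra.TensorProduct.map_comp]
    rfl
  · intro b
    exact (FS_coact (A := A) Bsub hBsub b).symm
  · apply RingHom.IsIntegral.to_finite
    · intro b
      have hb : IsIntegral S (b : R) := hBB₀ b.2
      obtain ⟨p, hp1, hp2⟩ := hb
      refine ⟨p, hp1, ?_⟩
      apply Subtype.ext
      have h1 := Polynomial.hom_eval₂ p ψ.toRingHom Bsub.val.toRingHom b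
      change Bsub.val.toRingHom (Polynomial.eval₂ ψ.toRingHom b p) = _ at h1
      change Bsub.val.toRingHom (Polynomial.eval₂ ψ.toRingHom b p) = 0
      rw [h1]
      exact hp2
    · have h1 : (algebraMap k ↥Bsub).FiniteType :=
        (RingHom.finiteType_algebraMap (A := k) (B := ↥Bsub)).2 inferInstance
      have h2 : ψ.toRingHom.comp (algebraMap k S) = algebraMap k ↥Bsub := by
        apply RingHom.ext
        intro c
        exact ψ.commutes c
      rw [← h2] at h1
      exact RingHom.FiniteType.of_comp_finiteType h1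
  · have hTB : ∀ t : ↥T, (t : R) ∈ Bsub := fun t => hadjB _ (hTM t.1 t.2).1
    refine isOpenImmersion_of_forall (ι := ↥T) Bsub.val.toRingHom Subtype.val_injective
      (fun t => ⟨t.1, hTB t⟩) ?_ ?_
    · have : Set.range (fun t : ↥T => Bsub.val.toRingHom ⟨t.1, hTB t⟩) = (T : Set R) := by
        ext x
        constructor
        · rintro ⟨t, rfl⟩; exact t.2
        · intro hx; exact ⟨⟨x, hx⟩, rfl⟩
      rw [this]
      exact hT
    · intro t x
      obtain ⟨n, hn⟩ := (hTM t.1 t.2).2 x
      exact ⟨n, ⟨_, hadjB _ hn⟩, rfl⟩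

end Main

end Groth.Agent.Lib.Helper7.EZ
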