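import Mathlib

/-!
# Maps from a formally unramified algebra to an augmented noetherian local algebra factor through
the augmentation (helper7)
-/

set_option autoImplicit false

namespace Groth.Agent.Lib.Helper7.EtAug

universe u v w

theorem algHom_eq_of_augmentation {R : Type u} [CommRing R] {E : Type v} [CommRing E] [Algebra R E]
    [Algebra.FormallyUnramified R E] {C : Type w} [CommRing C] [Algebra R C] [IsLocalRing C]
    [IsNoetherianRing C] (ε' : C →ₐ[R] R) (φ : E →ₐ[R] C) (x : E) :
    φ x = algebraMap R C (ε' (φ x)) := by
  have h : φ = (Algebra.ofId R C).comp (ε'.comp φ) := by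
    refine Algebra.FormallyUnramified.ext_of_iInf (I := IsLocalRing.maximalIdeal C)
      (Ideal.iInf_pow_eq_bot_of_isLocalRing _ (IsLocalRing.maximalIdeal.isMaximal C).ne_top) ?_
    intro x
    rw [Ideal.Quotient.eq]
    have hker : RingHom.ker (ε' : C →+* R) ≤ IsLocalRing.maximalIdeal C := by
      apply IsLocalRing.le_maximalIdeal
      rw [Ne, Ideal.eq_top_iff_one, RingHom.mem_ker]
      intro h10
      have h1 : (1 : R) = 0 := by simpa using h10
      have h2 : (1 : C) = 0 := by
        rw [← map_one (algebraMap R C), h1, map_zero]
      exact one_ne_zero h2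
    apply hker
    rw [RingHom.mem_ker, map_sub]
    simp [Algebra.ofId_apply]
  exact AlgHom.congr_fun h x

end Groth.Agent.Lib.Helper7.EtAug
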