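import Groth.Prelude.Def_CartDual
import Mathlib

/-!
# Étale group of `p`-power order in characteristic `p` has infinitesimal Cartier dual (helper7)
-/

universe u v

open WithConv TensorProduct

namespace Groth.Agent.Lib.Helper7.EtDual

section Grp

variable (R : Type*) [CommSemiring R] (A : Type*) [CommSemiring A] [HopfAlgebra R A]
  (C : Type*) [CommSemiring C] [Algebra R C]

/-- the group of `C`-points of a commutative Hopf algebra (no bialgebra structure on `C`). -/
noncomputable abbrev pointsGroup : Group (WithConv (A →ₐ[R] C)) :=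
  { (inferInstance : Monoid (WithConv (A →ₐ[R] C))) with
    inv := fun f => toConv (f.ofConv.comp (HopfAlgebra.antipodeAlgHom R A))
    inv_mul_cancel := by
      intro f
      have H : (Algebra.TensorProduct.lmul' R).comp (Algebra.TensorProduct.map f.ofConv f.ofConv) =
        f.ofConv.comp (Algebra.TensorProduct.lmul' R) := by ext <;> simp
      trans toConv <| ((Algebra.TensorProduct.lmul' R).comp
        (Algebra.TensorProduct.map f.ofConv f.ofConv)).comp
        ((Algebra.TensorProduct.map
        (HopfAlgebra.antipodeAlgHom R A) (.id _ _)).comp (Bialgebra.comulAlgHom R A))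
      · rw [AlgHom.comp_assoc, ← AlgHom.comp_assoc (Algebra.TensorProduct.map f.ofConv f.ofConv),
          ← Algebra.TensorProduct.map_comp]; rfl
      rw [H, AlgHom.comp_assoc, WithConv.ext_iff, ← AlgHom.toLinearMap_injective.eq_iff]
      change f.ofConv.toLinearMap.comp (toConv (HopfAlgebra.antipode R (A := A)) * toConv LinearMap.id).ofConv =
        ofConv (1 : WithConv <| A →ₗ[R] C)
      rw [LinearMap.antipode_mul_id]
      ext
      simp }

end Grp

section Count

variable (k : Type*) [Field k] (A : Type u) [CommRing A] [Algebra k A] [Module.Finite k A]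
  [Algebra.Etale k A] (K : Type v) [Field K] [Algebra k K] [IsAlgClosed K]

lemma finrank_le_card_algHom : Module.finrank k A ≤ Nat.card (A →ₐ[k] K) := by
  classical
  obtain ⟨I, _, Ai, _, _, e, H⟩ := (Algebra.Etale.iff_exists_algEquiv_prod k A).mp inferInstance
  let _ : Fintype I := Fintype.ofFinite I
  have : ∀ i, Module.Finite k (Ai i) := fun i => (H i).1
  have : ∀ i, Algebra.IsSeparable k (Ai i) := fun i => (H i).2
  let Φ : (Σ i, (Ai i →ₐ[k] K)) → (A →ₐ[k] K) :=
    fun s => s.2.comp ((Pi.evalAlgHom k Ai s.1).comp e.toAlgHom)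
  have hΦ : Function.Injective Φ := by
    rintro ⟨i, σ⟩ ⟨j, τ⟩ h
    have hij : i = j := by
      by_contra hne
      have h1 := congrArg (fun f : A →ₐ[k] K => f (e.symm (Pi.single i 1))) h
      have h2 : σ ((e (e.symm (Pi.single i 1))) i) = τ ((e (e.symm (Pi.single i 1))) j) := h1
      rw [AlgEquiv.apply_symm_apply, Pi.single_eq_same, map_one,
        Pi.single_eq_of_ne (Ne.symm hne), map_zero] at h2
      exact one_ne_zero h2
    subst hij
    congr 1
    apply AlgHom.ext
    intro y
    have h1 := congrArg (fun f : A →ₐ[k] K => f (e.symm (Pi.single i y))) h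
    simpa [Φ] using h1
  have h1 : Nat.card (Σ i, (Ai i →ₐ[k] K)) = Module.finrank k A := by
    rw [Nat.card_sigma]
    rw [e.toLinearEquiv.finrank_eq, Module.finrank_pi_fintype]
    refine Finset.sum_congr rfl fun i _ => ?_
    rw [← AlgHom.card k (Ai i) K, Fintype.card_eq_nat_card]
  rw [← h1]
  exact Nat.card_le_card_of_injective Φ hΦ

lemma card_algHom_eq : Nat.card (A →ₐ[k] K) = Module.finrank k A :=
  le_antisymm (card_algHom_le_finrank k A K) (finrank_le_card_algHom k A K)

end Count

section Main

variable (p : ℕ) [Fact p.Prime] (k : Type u) [Field k] [CharP k p] (A : Type u) [CommRing A]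
  [HopfAlgebra k A] [Coalgebra.IsCocomm k A] [Module.Finite k A] [Algebra.Etale k A]
  (K : Type v) [Field K] [Algebra k K] [IsAlgClosed K]

/-- the `K`-points span the `K`-valued dual. -/
lemma span_points_eq_top :
    Submodule.span K (Set.range (fun γ : A →ₐ[k] K => (toConv γ.toLinearMap : WithConv (A →ₗ[k] K))))
      = ⊤ := by
  classical
  let _ : Fintype (A →ₐ[k] K) := Fintype.ofFinite _
  have li : LinearIndependent K (fun γ : A →ₐ[k] K => γ.toLinearMap) :=
    linearIndependent_algHom_toLinearMap k A K
  have li' : LinearIndependent K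
      (fun γ : A →ₐ[k] K => (toConv γ.toLinearMap : WithConv (A →ₗ[k] K))) :=
    li.map' (WithConv.linearEquiv K (A →ₗ[k] K)).symm.toLinearMap
      (LinearEquiv.ker _)
  have : FiniteDimensional K (WithConv (A →ₗ[k] K)) :=
    Module.Finite.equiv (WithConv.linearEquiv K (A →ₗ[k] K)).symm
  apply li'.span_eq_top_of_card_eq_finrank'
  rw [Fintype.card_eq_nat_card, card_algHom_eq k A K,
    (WithConv.linearEquiv K (A →ₗ[k] K)).finrank_eq, Module.finrank_linearMap_self]

include p in
lemma point_pow_eq_one (n : ℕ) (hA : Module.finrank k A = p ^ n) (γ : A →ₐ[k] K) :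
    (toConv γ.toLinearMap : WithConv (A →ₗ[k] K)) ^ (p ^ n) = 1 := by
  have hcard : Nat.card (WithConv (A →ₐ[k] K)) = p ^ n := by
    rw [← hA, ← card_algHom_eq k A K]
    exact Nat.card_congr (WithConv.equiv _)
  have h1 : (toConv γ : WithConv (A →ₐ[k] K)) ^ (p ^ n) = 1 := by
    rw [← hcard]
    letI := pointsGroup k A K
    exact pow_card_eq_one' (G := WithConv (A →ₐ[k] K))
  have h2 := AlgHom.toLinearMap_convPow (toConv γ : WithConv (A →ₐ[k] K)) (p ^ n)
  rw [h1] at h2
  rw [← h2]
  rfl


/-- scalar extension of linear forms. -/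
noncomputable def beta : CartDual.D k A →+* WithConv (A →ₗ[k] K) where
  toFun x := toConv ((Algebra.linearMap k K) ∘ₗ x.ofConv)
  map_one' := by
    apply WithConv.ofConv_injective
    ext a
    simp [LinearMap.convOne_def]
  map_mul' x y := by
    apply WithConv.ofConv_injective
    exact LinearMap.algHom_comp_convMul_distrib (Algebra.ofId k K) x y
  map_zero' := by
    apply WithConv.ofConv_injective
    simp
  map_add' x y := by
    apply WithConv.ofConv_injective
    simp [LinearMap.comp_add]

lemma beta_apply (x : CartDual.D k A) (a : A) : beta k A K x a = algebraMap k K (x a) := rfl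

lemma beta_injective : Function.Injective (beta k A K) := by
  intro x y h
  apply WithConv.ofConv_injective
  ext a
  have h1 := congrArg (fun f : WithConv (A →ₗ[k] K) => f a) h
  simp only [beta_apply] at h1
  exact (algebraMap k K).injective h1


end Main

section Main2

variable (p : ℕ) [Fact p.Prime] (k : Type u) [Field k] [CharP k p] (A : Type u) [CommRing A]
  [HopfAlgebra k A] [Coalgebra.IsCocomm k A] [Module.Finite k A] [Algebra.Etale k A]

/-- an element of the augmentation ideal of the dual is nilpotent. -/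
lemma pow_eq_zero_of_apply_one (K : Type v) [Field K] [Algebra k K] [IsAlgClosed K] (n : ℕ) (hA : Module.finrank k A = p ^ n) (x : CartDual.D k A)
    (hx : x 1 = 0) : x ^ (p ^ n) = 0 := by
  classical
  let _ : Fintype (A →ₐ[k] K) := Fintype.ofFinite _
  apply beta_injective k A K
  rw [map_pow, map_zero]
  have hmem : beta k A K x ∈ Submodule.span K
      (Set.range (fun γ : A →ₐ[k] K => (toConv γ.toLinearMap : WithConv (A →ₗ[k] K)))) := by
    rw [span_points_eq_top k A K]; trivial
  obtain ⟨c, hc⟩ := (Submodule.mem_span_range_iff_exists_fun K).mp hmem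
  have hK : CharP K p := charP_of_injective_algebraMap (algebraMap k K).injective p
  have hE0 : ((p : ℕ) : WithConv (A →ₗ[k] K)) = 0 := by
    have h : ((p : ℕ) : WithConv (A →ₗ[k] K)) = algebraMap K _ ((p : ℕ) : K) :=
      (map_natCast (algebraMap K (WithConv (A →ₗ[k] K))) p).symm
    rw [h, CharP.cast_eq_zero, map_zero]
  have hsumpow : ∀ (m : ℕ) (y : (A →ₐ[k] K) → WithConv (A →ₗ[k] K)),
      (∑ γ, y γ) ^ (p ^ m) = ∑ γ, y γ ^ (p ^ m) := by
    intro m y
    induction m with
    | zero => simp
    | succ m ih =>
      rw [pow_succ, pow_mul, ih]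
      have : ∀ (s : Finset (A →ₐ[k] K)) (z : (A →ₐ[k] K) → WithConv (A →ₗ[k] K)),
          (∑ γ ∈ s, z γ) ^ p = ∑ γ ∈ s, z γ ^ p := by
        intro s z
        induction s using Finset.induction_on with
        | empty => simp [(Fact.out : p.Prime).ne_zero]
        | insert a s ha ih2 =>
          rw [Finset.sum_insert ha, Finset.sum_insert ha]
          obtain ⟨r, hr⟩ := exists_add_pow_prime_eq (Fact.out : p.Prime) (z a) (∑ i ∈ s, z i)
          rw [hr, ih2, hE0]
          ring
      rw [this]
      refine Finset.sum_congr rfl fun γ _ => ?_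
      rw [← pow_mul]
  -- evaluate at one
  have hsum : ∑ γ, c γ = 0 := by
    have h2 := congrArg (fun f : WithConv (A →ₗ[k] K) => f 1) hc
    simp only [beta_apply, hx, map_zero] at h2
    rw [← h2]
    have hofs : ∀ (y : (A →ₐ[k] K) → WithConv (A →ₗ[k] K)),
        (∑ γ, y γ).ofConv = ∑ γ, (y γ).ofConv := fun y =>
      map_sum (WithConv.addEquiv (A →ₗ[k] K)) y Finset.univ
    rw [hofs, LinearMap.sum_apply]
    refine Finset.sum_congr rfl fun γ _ => ?_
    change c γ = c γ • γ 1
    rw [map_one, smul_eq_mul, mul_one]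
  rw [← hc, hsumpow]
  have h3 : ∀ γ : A →ₐ[k] K, (c γ • (toConv γ.toLinearMap : WithConv (A →ₗ[k] K))) ^ (p ^ n) =
      (c γ ^ (p ^ n)) • (1 : WithConv (A →ₗ[k] K)) := by
    intro γ
    rw [smul_pow, point_pow_eq_one p k A K n hA γ]
  simp only [h3]
  rw [← Finset.sum_smul, ← sum_pow_char_pow, hsum, zero_pow (pow_ne_zero _ (Fact.out : p.Prime).ne_zero),
    zero_smul]


/-- the Cartier dual of an étale group of `p`-power order in characteristic `p` is local. -/
theorem isLocalRing_dual (n : ℕ) (hA : Module.finrank k A = p ^ n) :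
    IsLocalRing (CartDual.D k A) := by
  have hnil : ∀ x : CartDual.D k A, x 1 = 0 → IsNilpotent x := fun x hx =>
    ⟨p ^ n, pow_eq_zero_of_apply_one p k A (AlgebraicClosure k) n hA x hx⟩
  have hone : (1 : CartDual.D k A) 1 = 1 := by
    rw [LinearMap.convOne_apply]; simp
  have : Nontrivial (CartDual.D k A) := by
    refine ⟨⟨1, 0, fun h => ?_⟩⟩
    have h1 := congrArg (fun f : CartDual.D k A => f 1) h
    simp only [hone] at h1
    exact one_ne_zero h1
  have key : ∀ x : CartDual.D k A, x ∈ nonunits (CartDual.D k A) → x 1 = 0 := by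
    intro x hx
    by_contra hne
    apply hx
    have h0 : (x - algebraMap k (CartDual.D k A) (x 1)) 1 = 0 := by
      change (x - algebraMap k (CartDual.D k A) (x 1)).ofConv 1 = 0
      rw [WithConv.ofConv_sub, LinearMap.sub_apply]
      change x 1 - algebraMap k (CartDual.D k A) (x 1) 1 = 0
      rw [LinearMap.convAlgebraMap_apply]
      simp
    have h1 : IsNilpotent (x - algebraMap k (CartDual.D k A) (x 1)) := hnil _ h0
    have h2 : IsUnit (algebraMap k (CartDual.D k A) (x 1)) :=
      (IsUnit.mk0 _ hne).map (algebraMap k (CartDual.D k A))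
    have h3 := h1.isUnit_add_left_of_commute h2 (Commute.all _ _)
    simpa using h3
  apply IsLocalRing.of_nonunits_add
  intro a b ha hb
  have hab : (a + b) 1 = 0 := by
    change (a + b).ofConv 1 = 0
    rw [WithConv.ofConv_add, LinearMap.add_apply]
    change a 1 + b 1 = 0
    rw [key a ha, key b hb, add_zero]
  intro hu
  exact hu.not_isNilpotent (hnil _ hab)

end Main2

end Groth.Agent.Lib.Helper7.EtDual
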