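import Groth.Agent.Lib.Helper7.EtDual
import Groth.Agent.Lib.Helper7.HopfEtale
import Mathlib

/-!
# Étale–étale finite commutative group schemes have order prime to `p` (helper7)
-/

universe u v

open WithConv TensorProduct

namespace Groth.Agent.Lib.Helper7.EtDual

section EtEt

variable (k : Type u) [Field k] (p : ℕ) [Fact p.Prime] [CharP k p]
  (A : Type u) [CommRing A] [HopfAlgebra k A] [Coalgebra.IsCocomm k A] [FiniteDimensional k A]

omit [Fact p.Prime] [CharP k p] in
lemma finrank_dual_eq : Module.finrank k (CartDual.D k A) = Module.finrank k A := by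
  rw [(CartDual.toDual k A).finrank_eq, Subspace.dual_finrank_eq]

omit [Coalgebra.IsCocomm k A] [FiniteDimensional k A] in
lemma isScalarTower_conv (K : Type v) [Field K] [Algebra k K] :
    IsScalarTower k K (WithConv (A →ₗ[k] K)) := by
  refine ⟨fun c x f => ?_⟩
  apply WithConv.ofConv_injective
  ext a
  change (c • x) • (f.ofConv a) = c • (x • f.ofConv a)
  rw [smul_assoc]

attribute [local instance] isScalarTower_conv

/-- `K ⊗ D → Hom_k(A, K)` as a `K`-algebra map. -/
noncomputable def theta (K : Type v) [Field K] [Algebra k K] :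
    K ⊗[k] CartDual.D k A →ₐ[K] WithConv (A →ₗ[k] K) :=
  Algebra.TensorProduct.lift (Algebra.ofId K _)
    { beta k A K with
      commutes' := fun c => by
        apply WithConv.ofConv_injective
        ext a
        change algebraMap k K ((algebraMap k (CartDual.D k A) c) a) = _
        rw [LinearMap.convAlgebraMap_apply, LinearMap.convAlgebraMap_apply]
        simp [Algebra.smul_def] }
    (fun _ _ => Commute.all _ _)

omit [Fact p.Prime] [CharP k p] in
lemma theta_bijective (K : Type v) [Field K] [Algebra k K] :
    Function.Bijective (theta k A K) := by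
  classical
  have hfin : FiniteDimensional K (WithConv (A →ₗ[k] K)) :=
    Module.Finite.equiv (WithConv.linearEquiv K (A →ₗ[k] K)).symm
  have hrank : Module.finrank K (K ⊗[k] CartDual.D k A) =
      Module.finrank K (WithConv (A →ₗ[k] K)) := by
    rw [Module.finrank_baseChange, finrank_dual_eq,
      (WithConv.linearEquiv K (A →ₗ[k] K)).finrank_eq, Module.finrank_linearMap_self]
  have hsurj : Function.Surjective (theta k A K) := by
    intro f
    let b := Module.finBasis k A
    refine ⟨∑ i, (f (b i)) ⊗ₜ[k] (toConv (b.coord i) : CartDual.D k A), ?_⟩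
    apply WithConv.ofConv_injective
    apply b.ext
    intro j
    rw [map_sum]
    have hofs : ∀ (y : Fin (Module.finrank k A) → WithConv (A →ₗ[k] K)),
        (∑ i, y i).ofConv = ∑ i, (y i).ofConv := fun y =>
      map_sum (WithConv.addEquiv (A →ₗ[k] K)) y Finset.univ
    rw [hofs, LinearMap.sum_apply]
    rw [Finset.sum_eq_single j]
    · simp only [theta, Algebra.TensorProduct.lift_tmul]
      change (algebraMap K (WithConv (A →ₗ[k] K)) (f (b j)) * beta k A K (toConv (b.coord j))) (b j) = _
      rw [← Algebra.smul_def]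
      change f (b j) • algebraMap k K (b.coord j (b j)) = _
      simp
    · intro i _ hij
      simp only [theta, Algebra.TensorProduct.lift_tmul]
      change (algebraMap K (WithConv (A →ₗ[k] K)) (f (b i)) * beta k A K (toConv (b.coord i))) (b j) = _
      rw [← Algebra.smul_def]
      change f (b i) • algebraMap k K (b.coord i (b j)) = _
      simp [Finsupp.single_apply, hij.symm]
    · intro h; exact absurd (Finset.mem_univ j) h
  exact ⟨(LinearMap.injective_iff_surjective_of_finrank_eq_finrank
    (f := (theta k A K).toLinearMap) hrank).mpr hsurj, hsurj⟩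


omit [Fact p.Prime] [CharP k p] in
/-- if the dual is étale, the `K`-valued convolution algebra is reduced. -/
lemma isReduced_conv (K : Type v) [Field K] [Algebra k K] [Algebra.Etale k (CartDual.D k A)] :
    IsReduced (WithConv (A →ₗ[k] K)) := by
  have h1 : Algebra.FormallyUnramified K (K ⊗[k] CartDual.D k A) := inferInstance
  have h2 : Algebra.EssFiniteType K (K ⊗[k] CartDual.D k A) := inferInstance
  have h3 : IsReduced (K ⊗[k] CartDual.D k A) :=
    Algebra.FormallyUnramified.isReduced_of_field K (K ⊗[k] CartDual.D k A)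
  let e : K ⊗[k] CartDual.D k A ≃+* WithConv (A →ₗ[k] K) :=
    RingEquiv.ofBijective (theta k A K) (theta_bijective k A K)
  exact isReduced_of_injective (e.symm : WithConv (A →ₗ[k] K) →+* K ⊗[k] CartDual.D k A)
    e.symm.injective

/-- SGA3-style: a finite commutative group scheme with `A` and its dual étale has order prime
to `p`. -/
theorem not_dvd_finrank_of_etale [Algebra.Etale k A] [Algebra.Etale k (CartDual.D k A)] :
    ¬ p ∣ Module.finrank k A := by
  intro hdvd
  let K := AlgebraicClosure k
  letI := pointsGroup k A K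
  have hcard : Nat.card (WithConv (A →ₐ[k] K)) = Module.finrank k A := by
    rw [← card_algHom_eq k A K]
    exact Nat.card_congr (WithConv.equiv _)
  have hfin : Finite (WithConv (A →ₐ[k] K)) :=
    Finite.of_equiv _ (WithConv.equiv (A →ₐ[k] K)).symm
  rw [← hcard] at hdvd
  obtain ⟨γ, hγ⟩ := exists_prime_orderOf_dvd_card' p hdvd
  have hγp : γ ^ p = 1 := by rw [← hγ]; exact pow_orderOf_eq_one γ
  have hγ1 : γ ≠ 1 := by
    intro h
    rw [h, orderOf_one] at hγ
    exact (Fact.out : p.Prime).one_lt.ne hγ
  -- in the convolution algebra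
  have hred := isReduced_conv k A K
  have hE0 : ((p : ℕ) : WithConv (A →ₗ[k] K)) = 0 := by
    have hK : CharP K p := charP_of_injective_algebraMap (algebraMap k K).injective p
    have h : ((p : ℕ) : WithConv (A →ₗ[k] K)) = algebraMap K _ ((p : ℕ) : K) :=
      (map_natCast (algebraMap K (WithConv (A →ₗ[k] K))) p).symm
    rw [h, CharP.cast_eq_zero, map_zero]
  have h1 : (toConv γ.ofConv.toLinearMap : WithConv (A →ₗ[k] K)) ^ p = 1 := by
    rw [← AlgHom.toLinearMap_convPow, hγp]
    rfl
  have h2 : ((toConv γ.ofConv.toLinearMap : WithConv (A →ₗ[k] K)) - 1) ^ p = 0 := by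
    obtain ⟨r, hr⟩ := exists_add_pow_prime_eq (Fact.out : p.Prime)
      ((toConv γ.ofConv.toLinearMap : WithConv (A →ₗ[k] K)) - 1) 1
    rw [sub_add_cancel, h1, hE0, one_pow] at hr
    have h5 : (1 : WithConv (A →ₗ[k] K)) =
        ((toConv γ.ofConv.toLinearMap : WithConv (A →ₗ[k] K)) - 1) ^ p + 1 := by
      exact hr.trans (by ring)
    exact (add_eq_right.mp h5.symm)
  have h3 : (toConv γ.ofConv.toLinearMap : WithConv (A →ₗ[k] K)) - 1 = 0 :=
    (IsNilpotent.eq_zero ⟨p, h2⟩)
  apply hγ1
  apply WithConv.ofConv_injective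
  apply AlgHom.toLinearMap_injective
  apply WithConv.toConv_injective
  rw [sub_eq_zero] at h3
  rw [h3]
  rfl

/-- étale–étale iff order prime to `p`. -/
theorem etale_etale_iff :
    (Algebra.Etale k A ∧ Algebra.Etale k (CartDual.D k A)) ↔ ¬ p ∣ Module.finrank k A := by
  constructor
  · rintro ⟨h1, h2⟩
    exact not_dvd_finrank_of_etale k p A
  · intro h
    have hne : ((Module.finrank k A : ℕ) : k) ≠ 0 := by
      rw [Ne, CharP.cast_eq_zero_iff k p]
      exact h
    refine ⟨FinOrder.etale_of_finrank_ne_zero hne, ?_⟩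
    apply FinOrder.etale_of_finrank_ne_zero
    rw [finrank_dual_eq]
    exact hne

end EtEt

end Groth.Agent.Lib.Helper7.EtDual
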