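import Groth.Agent.Lib.Helper7.ComodStabTensor
import Mathlib.LinearAlgebra.ExteriorAlgebra.Basic

/-!
# The exterior algebra of a comodule over a commutative bialgebra is a comodule (helper7)
-/

universe u v w x

open TensorProduct

namespace Groth.Agent.Lib.Helper7.ExtComod

open HopfRep

section Theta

variable {k : Type u} [CommRing k] {V : Type w} [AddCommGroup V] [Module k V]
  (R : Type x) [CommRing R] [Algebra k R]

/-- `V ⊗ R → E ⊗ R`. -/
noncomputable abbrev θ : V ⊗[k] R →ₗ[k] ExteriorAlgebra k V ⊗[k] R :=
  LinearMap.rTensor R (ExteriorAlgebra.ι k)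

lemma θ_tmul (v : V) (r : R) : θ R (v ⊗ₜ[k] r) = ExteriorAlgebra.ι k v ⊗ₜ[k] r := rfl

lemma θ_mul_θ_add (y z : V ⊗[k] R) : θ R y * θ R z + θ R z * θ R y = 0 := by
  induction y using TensorProduct.induction_on with
  | zero => simp
  | add y y' hy hy' =>
    rw [map_add, add_mul, mul_add]
    calc _ = (θ R y * θ R z + θ R z * θ R y) + (θ R y' * θ R z + θ R z * θ R y') := by abel
      _ = 0 := by rw [hy, hy', add_zero]
  | tmul v r =>
    induction z using TensorProduct.induction_on with
    | zero => simp
    | add z z' hz hz' =>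
      rw [map_add, add_mul, mul_add]
      calc _ = (θ R (v ⊗ₜ[k] r) * θ R z + θ R z * θ R (v ⊗ₜ[k] r)) +
          (θ R (v ⊗ₜ[k] r) * θ R z' + θ R z' * θ R (v ⊗ₜ[k] r)) := by abel
        _ = 0 := by rw [hz, hz', add_zero]
    | tmul v' r' =>
      rw [θ_tmul, θ_tmul, Algebra.TensorProduct.tmul_mul_tmul, Algebra.TensorProduct.tmul_mul_tmul,
        mul_comm r' r, ← TensorProduct.add_tmul, ExteriorAlgebra.ι_add_mul_swap,
        TensorProduct.zero_tmul]

lemma θ_sq (y : V ⊗[k] R) : θ R y * θ R y = 0 := by
  induction y using TensorProduct.induction_on with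
  | zero => simp
  | tmul v r =>
    rw [θ_tmul, Algebra.TensorProduct.tmul_mul_tmul, ExteriorAlgebra.ι_sq_zero,
      TensorProduct.zero_tmul]
  | add y z hy hz =>
    rw [map_add, add_mul, mul_add, mul_add, hy, hz, zero_add, add_zero, θ_mul_θ_add]

end Theta

section Coact

variable {k : Type u} [CommRing k] {A : Type v} [CommRing A] [Bialgebra k A]
  {V : Type w} [AddCommGroup V] [Module k V]

/-- the coaction on the exterior algebra, as an algebra homomorphism. -/
noncomputable def extCoact (c : Comod k A V) :
    ExteriorAlgebra k V →ₐ[k] ExteriorAlgebra k V ⊗[k] A :=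
  ExteriorAlgebra.lift k ⟨θ A ∘ₗ c.coact, fun v => θ_sq A _⟩

@[simp] lemma extCoact_ι (c : Comod k A V) (v : V) :
    extCoact c (ExteriorAlgebra.ι k v) = θ A (c.coact v) :=
  ExteriorAlgebra.lift_ι_apply _ _ _ _

lemma map_extCoact_θ (c : Comod k A V) (z : V ⊗[k] A) :
    Algebra.TensorProduct.map (extCoact c) (AlgHom.id k A) (θ A z) =
      LinearMap.rTensor A (θ A) (LinearMap.rTensor A c.coact z) := by
  induction z using TensorProduct.induction_on with
  | zero => simp
  | tmul v a => simp [θ_tmul]
  | add y z hy hz => simp only [map_add, hy, hz]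

/-- the exterior algebra comodule. -/
@[reducible] noncomputable def extComod (c : Comod k A V) :
    Comod k A (ExteriorAlgebra k V) where
  coact := (extCoact c).toLinearMap
  coassoc := by
    have h : (Algebra.TensorProduct.assoc k k k (ExteriorAlgebra k V) A A).toAlgHom.comp
        ((Algebra.TensorProduct.map (extCoact c) (AlgHom.id k A)).comp (extCoact c)) =
        (Algebra.TensorProduct.map (AlgHom.id k (ExteriorAlgebra k V))
          (Bialgebra.comulAlgHom k A)).comp (extCoact c) := by
      apply ExteriorAlgebra.hom_ext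
      apply LinearMap.ext
      intro v
      simp only [LinearMap.comp_apply, AlgHom.toLinearMap_apply, AlgHom.comp_apply, extCoact_ι]
      rw [map_extCoact_θ]
      have hc := LinearMap.congr_fun (c.coassoc) v
      simp only [LinearMap.comp_apply, LinearEquiv.coe_coe] at hc
      change TensorProduct.assoc k (ExteriorAlgebra k V) A A _ = _
      rw [ComodTens.assoc_rTensor_rTensor, hc]
      change _ = LinearMap.lTensor (ExteriorAlgebra k V) (Coalgebra.comul (R := k) (A := A))
        (LinearMap.rTensor A (ExteriorAlgebra.ι k) (c.coact v))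
      rw [ComodTens.lTensor_rTensor_comm]
    apply LinearMap.ext
    intro x
    exact congrArg (fun F : ExteriorAlgebra k V →ₐ[k] _ => F x) h
  counit_comp := by
    have h : (Algebra.TensorProduct.map (AlgHom.id k (ExteriorAlgebra k V))
        (Bialgebra.counitAlgHom k A)).comp (extCoact c) =
        Algebra.TensorProduct.includeLeft := by
      apply ExteriorAlgebra.hom_ext
      apply LinearMap.ext
      intro v
      simp only [LinearMap.comp_apply, AlgHom.toLinearMap_apply, AlgHom.comp_apply, extCoact_ι]
      change LinearMap.lTensor (ExteriorAlgebra k V) (Coalgebra.counit (R := k) (A := A))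
        (LinearMap.rTensor A (ExteriorAlgebra.ι k) (c.coact v)) = _
      rw [ComodTens.lTensor_rTensor_comm]
      have hc := LinearMap.congr_fun (c.counit_comp) v
      simp only [LinearMap.comp_apply] at hc
      rw [hc]
      rfl
    apply LinearMap.ext
    intro x
    exact congrArg (fun F : ExteriorAlgebra k V →ₐ[k] _ => F x) h

end Coact

section Act

variable {k : Type u} [CommRing k] {A : Type v} [CommRing A] [Bialgebra k A]
  {V : Type w} [AddCommGroup V] [Module k V] {R : Type x} [CommRing R] [Algebra k R]

/-- the action of an `R`-point on the exterior algebra, as an algebra homomorphism. -/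
noncomputable def extAct (c : Comod k A V) (g : A →ₐ[k] R) :
    ExteriorAlgebra k V →ₐ[k] ExteriorAlgebra k V ⊗[k] R :=
  (Algebra.TensorProduct.map (AlgHom.id k (ExteriorAlgebra k V)) g).comp (extCoact c)

lemma lTensor_coact_eq (c : Comod k A V) (g : A →ₐ[k] R) (x : ExteriorAlgebra k V) :
    LinearMap.lTensor (ExteriorAlgebra k V) g.toLinearMap ((extComod c).coact x) =
      extAct c g x := rfl

lemma extAct_ι (c : Comod k A V) (g : A →ₐ[k] R) (v : V) :
    extAct c g (ExteriorAlgebra.ι k v) = θ R (LinearMap.lTensor V g.toLinearMap (c.coact v)) := by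
  unfold extAct
  rw [AlgHom.comp_apply, extCoact_ι]
  change LinearMap.lTensor (ExteriorAlgebra k V) g.toLinearMap
    (LinearMap.rTensor A (ExteriorAlgebra.ι k) (c.coact v)) = _
  rw [ComodTens.lTensor_rTensor_comm]

lemma extAct_ιMulti (c : Comod k A V) (g : A →ₐ[k] R) {n : ℕ} (u : Fin n → V) :
    extAct c g (ExteriorAlgebra.ιMulti k n u) =
      (List.ofFn fun i => θ R (LinearMap.lTensor V g.toLinearMap (c.coact (u i)))).prod := by
  rw [ExteriorAlgebra.ιMulti_apply, map_list_prod, List.map_ofFn]
  congr 1
  congr 1
  funext i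
  exact extAct_ι c g (u i)

end Act

end Groth.Agent.Lib.Helper7.ExtComod
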