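import Groth.Agent.Lib.Helper7.ExtComod
import Mathlib.LinearAlgebra.CliffordAlgebra.Contraction
import Mathlib.LinearAlgebra.ExteriorPower.Pairing
import Mathlib.LinearAlgebra.ExteriorAlgebra.Basis
import Mathlib.LinearAlgebra.Determinant

/-!
# The determinant line of a subspace inside the exterior algebra (helper7)
-/

universe u v w x

open TensorProduct

namespace Groth.Agent.Lib.Helper7.ExtLine

open Groth.Agent.Lib.Helper7.ExtComod

section Omega

variable {k : Type u} [Field k] {V : Type w} [AddCommGroup V] [Module k V]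
  (W : Submodule k V) {d : ℕ} (bW : Module.Basis (Fin d) k W)

/-- the generator `b₀ ∧ ⋯ ∧ b_{d-1}` of the determinant line of `W`. -/
noncomputable def ω : ExteriorAlgebra k V :=
  ExteriorAlgebra.ιMulti k d (fun i => ((bW i : W) : V))

lemma ω_ne_zero : ω W bW ≠ 0 := by
  classical
  obtain ⟨p, hp⟩ := W.subtype.exists_leftInverse_of_injective (Submodule.ker_subtype W)
  intro h0
  let f : Fin d → Module.Dual k V := fun j => bW.coord j ∘ₗ p
  have h1 := exteriorPower.pairingDual_ιMulti_ιMulti (R := k) (M := V) f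
    (fun i => ((bW i : W) : V))
  have h2 : exteriorPower.ιMulti k d (fun i => ((bW i : W) : V)) = 0 := by
    apply Subtype.ext
    rw [exteriorPower.ιMulti_apply_coe]
    exact h0
  rw [h2, map_zero] at h1
  have h3 : (Matrix.of fun i j => f j ((bW i : W) : V)) = (1 : Matrix (Fin d) (Fin d) k) := by
    ext i j
    have : p ((bW i : W) : V) = bW i := LinearMap.congr_fun hp (bW i)
    simp only [f, Matrix.of_apply, LinearMap.comp_apply, this, Module.Basis.coord_apply,
      Module.Basis.repr_self, Matrix.one_apply]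
    rw [Finsupp.single_apply]
  rw [h3, Matrix.det_one] at h1
  exact zero_ne_one h1

/-- `w ∧ ω = 0` for `w ∈ W`. -/
lemma ι_mul_ω {w : V} (hw : w ∈ W) : ExteriorAlgebra.ι k w * ω W bW = 0 := by
  have hbase : ∀ j, ExteriorAlgebra.ι k ((bW j : W) : V) * ω W bW = 0 := by
    intro j
    have h1 : ExteriorAlgebra.ι k ((bW j : W) : V) * ω W bW =
        ExteriorAlgebra.ιMulti k (d + 1)
          (Matrix.vecCons ((bW j : W) : V) (fun i => ((bW i : W) : V))) := by
      rw [ExteriorAlgebra.ιMulti_succ_apply]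
      rfl
    rw [h1]
    refine (ExteriorAlgebra.ιMulti k (d + 1)).map_eq_zero_of_eq _ (i := 0) (j := j.succ) ?_
      (Fin.succ_ne_zero j).symm
    simp
  have h2 : w = ∑ j, bW.repr ⟨w, hw⟩ j • ((bW j : W) : V) := by
    have := congrArg (fun x : W => (x : V)) (bW.sum_repr ⟨w, hw⟩)
    simp only [Submodule.coe_sum, Submodule.coe_smul] at this
    exact this.symm
  rw [h2, map_sum, Finset.sum_mul]
  refine Finset.sum_eq_zero (fun j _ => ?_)
  rw [map_smul, smul_mul_assoc, hbase, smul_zero]

lemma contractLeft_ιMulti (φ : Module.Dual k V) : ∀ (n : ℕ) (u : Fin n → V),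
    (∀ i, φ (u i) = 0) →
      CliffordAlgebra.contractLeft (Q := (0 : QuadraticForm k V)) φ
        (ExteriorAlgebra.ιMulti k n u) = 0 := by
  intro n
  induction n with
  | zero =>
    intro u _
    rw [ExteriorAlgebra.ιMulti_zero_apply]
    exact CliffordAlgebra.contractLeft_one _ _
  | succ n ih =>
    intro u hu
    rw [ExteriorAlgebra.ιMulti_succ_apply]
    have := CliffordAlgebra.contractLeft_ι_mul (Q := (0 : QuadraticForm k V)) (d := φ) (u 0)
      (ExteriorAlgebra.ιMulti k n (Matrix.vecTail u))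
    rw [ExteriorAlgebra.ι]
    rw [this, hu 0, zero_smul, ih (Matrix.vecTail u) (fun i => hu i.succ), mul_zero, sub_zero]

/-- contraction of `v ∧ ω` with a functional vanishing on `W`. -/
lemma contractLeft_ι_mul_ω (φ : Module.Dual k V) (hφ : W ≤ LinearMap.ker φ) (v : V) :
    CliffordAlgebra.contractLeft (Q := (0 : QuadraticForm k V)) φ
      (ExteriorAlgebra.ι k v * ω W bW) = φ v • ω W bW := by
  have h1 := CliffordAlgebra.contractLeft_ι_mul (Q := (0 : QuadraticForm k V)) (d := φ) v (ω W bW)
  have h2 : CliffordAlgebra.contractLeft (Q := (0 : QuadraticForm k V)) φ (ω W bW) = 0 :=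
    contractLeft_ιMulti φ d _ (fun i => hφ (bW i).2)
  rw [ExteriorAlgebra.ι]
  rw [h1, h2, mul_zero, sub_zero]

/-- the wedge of `d` vectors of `W` is a multiple of `ω`. -/
lemma ιMulti_eq_det_smul (u : Fin d → W) :
    ExteriorAlgebra.ιMulti k d (fun i => ((u i : W) : V)) = bW.det u • ω W bW := by
  classical
  let f₁ : W [⋀^Fin d]→ₗ[k] ExteriorAlgebra k V :=
    (ExteriorAlgebra.ιMulti k d).compLinearMap W.subtype
  let f₂ : W [⋀^Fin d]→ₗ[k] ExteriorAlgebra k V :=
    (LinearMap.toSpanSingleton k (ExteriorAlgebra k V) (ω W bW)).compAlternatingMap bW.det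
  have h : f₁ = f₂ := by
    refine Module.Basis.ext_alternating bW (fun v hv => ?_)
    let σ : Equiv.Perm (Fin d) := Equiv.ofBijective v (Finite.injective_iff_bijective.1 hv)
    change f₁ (bW ∘ σ) = f₂ (bW ∘ σ)
    rw [AlternatingMap.map_perm, AlternatingMap.map_perm]
    congr 1
    change ExteriorAlgebra.ιMulti k d (fun i => ((bW i : W) : V)) = bW.det bW • ω W bW
    rw [Module.Basis.det_self, one_smul]
    rfl
  exact congrArg (fun F : W [⋀^Fin d]→ₗ[k] ExteriorAlgebra k V => F u) h

end Omega

end Groth.Agent.Lib.Helper7.ExtLine
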