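import Mathlib
import Groth.Prelude.Def_SGA3b
import Groth.Agent.Lib.Helper7.DL1
import Groth.Agent.Lib.Helper7.HH6

set_option autoImplicit false
universe u
open TensorProduct SGA3b
open Groth.Agent.Lib.Helper7.CancelBC Groth.Agent.Lib.Helper7.NilLift

namespace Groth.Agent.Lib.Helper7.Fam

section FF

variable {R : Type u} [CommRing R] {ι : Type u} [Fintype ι] (V : ι → Type u)
  [∀ i, CommRing (V i)] [∀ i, Algebra R (V i)] [∀ i, Module.Flat R (V i)]

theorem faithfullyFlat_pi (hV : JointlyFaithful R V) : Module.FaithfullyFlat R (∀ i, V i) := by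
  classical
  rw [Module.FaithfullyFlat.iff_flat_and_lTensor_reflects_triviality]
  refine ⟨?_, ?_⟩
  · exact Module.Flat.of_linearEquiv (DirectSum.linearEquivFunOnFintype R ι V).symm
  · intro N _ _ hN
    apply hV N
    intro i
    -- `V i ⊗ N` is a retract of `(Π V) ⊗ N`
    have hcomp : (LinearMap.rTensor N (LinearMap.proj (R := R) (φ := V) i)) ∘ₗ
        (LinearMap.rTensor N (LinearMap.single R V i)) = LinearMap.id := by
      rw [← LinearMap.rTensor_comp, LinearMap.proj_comp_single_same, LinearMap.rTensor_id]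
    refine ⟨fun x y => ?_⟩
    have hx := LinearMap.congr_fun hcomp x
    have hy := LinearMap.congr_fun hcomp y
    rw [LinearMap.comp_apply, LinearMap.id_apply] at hx hy
    rw [← hx, ← hy, Subsingleton.elim (LinearMap.rTensor N (LinearMap.single R V i) x)
      (LinearMap.rTensor N (LinearMap.single R V i) y)]

end FF

section Main

variable {R : Type u} [CommRing R] {E : Type u} [CommRing E] [HopfAlgebra R E]
  {ι : Type u} [Fintype ι] (V : ι → Type u)
  [∀ i, CommRing (V i)] [∀ i, Algebra R (V i)] [∀ i, Module.Flat R (V i)]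
  (hV : JointlyFaithful R V)
  (κ : ι → Type u) [∀ i, Fintype (κ i)] (ε : ∀ i, κ i → V i)
  (hidem : ∀ i t, IsIdempotentElem (ε i t)) (horth : ∀ i t t', t ≠ t' → ε i t * ε i t' = 0)
  (hsum : ∀ i, ∑ t, ε i t = 1)
  (Q : ∀ i, κ i → Type u) [∀ i t, CommGroup (Q i t)]
  (e : ∀ i t, Nonempty (Localization.Away (ε i t) ⊗[R] E ≃ₐc[Localization.Away (ε i t)]
    MonoidAlgebra (Localization.Away (ε i t)) (Q i t)))

include hV hidem horth hsum e in
/-- a finite jointly faithful flat family, each member with a finite clopen partition on the pieces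
of which `E` is diagonalisable ⇒ `E` is of multiplicative type. -/
theorem isMultType_of_family_pieces : IsMultType R E := by
  classical
  have := faithfullyFlat_pi V hV
  let ε' : (Σ i, κ i) → (∀ i, V i) := fun p => Pi.single p.1 (ε p.1 p.2)
  have hidem' : ∀ p, IsIdempotentElem (ε' p) := by
    intro p
    unfold IsIdempotentElem
    change Pi.single p.1 (ε p.1 p.2) * Pi.single p.1 (ε p.1 p.2) = Pi.single p.1 (ε p.1 p.2)
    rw [← Pi.single_mul, (hidem p.1 p.2).eq]
  have horth' : ∀ p q, p ≠ q → ε' p * ε' q = 0 := by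
    rintro ⟨i, t⟩ ⟨j, t'⟩ hne
    change Pi.single i (ε i t) * Pi.single j (ε j t') = 0
    by_cases hij : i = j
    · subst hij
      rw [← Pi.single_mul, horth i t t' (fun h => hne (by rw [h])), Pi.single_zero]
    · funext k
      rw [Pi.mul_apply, Pi.zero_apply]
      by_cases hk : k = i
      · subst hk
        rw [Pi.single_eq_of_ne hij, mul_zero]
      · rw [Pi.single_eq_of_ne hk, zero_mul]
  have hsum' : ∑ p, ε' p = 1 := by
    rw [Fintype.sum_sigma]
    have : ∀ i, ∑ t, ε' ⟨i, t⟩ = Pi.single i 1 := by
      intro i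
      change ∑ t, Pi.single i (ε i t) = Pi.single i 1
      rw [← hsum i]
      exact (map_sum (AddMonoidHom.single V i) _ _).symm
    rw [Finset.sum_congr rfl (fun i _ => this i)]
    exact Finset.univ_sum_single (1 : ∀ i, V i)
  have he' : ∀ p : (Σ i, κ i), Nonempty (Localization.Away (ε' p) ⊗[R] E ≃ₐc[
      Localization.Away (ε' p)] MonoidAlgebra (Localization.Away (ε' p)) (Q p.1 p.2)) := by
    rintro ⟨i, t⟩
    have h0 : algebraMap (∀ i, V i) (Localization.Away (ε' ⟨i, t⟩)) (ε' ⟨i, t⟩) = 1 :=
      Groth.Agent.Lib.Helper7.ZGlue.algebraMap_self ε' hidem' ⟨i, t⟩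
    have h1 : algebraMap (∀ i, V i) (Localization.Away (ε' ⟨i, t⟩)) (Pi.single i 1) = 1 := by
      have h2 : ε' ⟨i, t⟩ * Pi.single i 1 = ε' ⟨i, t⟩ := by
        change Pi.single i (ε i t) * Pi.single i 1 = Pi.single i (ε i t)
        rw [← Pi.single_mul, mul_one]
      have h3 := congrArg (algebraMap (∀ i, V i) (Localization.Away (ε' ⟨i, t⟩))) h2
      rw [map_mul, h0, one_mul] at h3
      exact h3
    let a : V i →ₐ[R] Localization.Away (ε' ⟨i, t⟩) :=
      { toFun := fun v => algebraMap (∀ i, V i) (Localization.Away (ε' ⟨i, t⟩)) (Pi.single i v)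
        map_one' := h1
        map_mul' := by
          intro x y
          rw [← map_mul, ← Pi.single_mul]
        map_zero' := by rw [Pi.single_zero, map_zero]
        map_add' := by
          intro x y
          rw [← map_add, ← Pi.single_add]
        commutes' := by
          intro r
          have h4 : (Pi.single i (algebraMap R (V i) r) : ∀ i, V i) =
              Pi.single i 1 * algebraMap R (∀ i, V i) r := by
            funext k
            rw [Pi.mul_apply]
            by_cases hk : k = i
            · subst hk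
              rw [Pi.single_eq_same, Pi.single_eq_same, one_mul]
              rfl
            · rw [Pi.single_eq_of_ne hk, Pi.single_eq_of_ne hk, zero_mul]
          change algebraMap (∀ i, V i) (Localization.Away (ε' ⟨i, t⟩))
            (Pi.single i (algebraMap R (V i) r)) = _
          rw [h4, map_mul, h1, one_mul, ← IsScalarTower.algebraMap_apply] }
    obtain ⟨f⟩ := Groth.Agent.Lib.Helper7.DL.exists_awayAlgHom (R := R) (ε i t) a (by
      change IsUnit (algebraMap (∀ i, V i) (Localization.Away (ε' ⟨i, t⟩)) (Pi.single i (ε i t)))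
      exact IsLocalization.Away.algebraMap_isUnit (ε' ⟨i, t⟩))
    obtain ⟨e0⟩ := e i t
    exact Groth.Agent.Lib.Helper7.Clopen.typed_of_algHom f e0
  exact Groth.Agent.Lib.Helper7.DL.isMultType_of_pieces ε' hidem' horth' hsum'
    (fun p => Q p.1 p.2) (fun p => (he' p).some)

end Main

end Groth.Agent.Lib.Helper7.Fam
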