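import Groth.Agent.Lib.Helper7.GaIsog3

/-!
# Hopf subalgebras of `k[t]` (helper7)
-/

set_option autoImplicit false
universe u v
open TensorProduct Polynomial

namespace Groth.Agent.Lib.Helper7.FQ

open Groth.Agent.Lib.Helper7.D1 Groth.Agent.Lib.Helper7.HopfCoinv Groth.Agent.Lib.Helper7.HopfSub
  Groth.Agent.Lib.Helper7.GaIsog

variable {k : Type u} [Field k] {A₀ : Type u} [CommRing A₀] [HopfAlgebra k A₀]
  {A : Type u} [CommRing A] [HopfAlgebra k A]

theorem nonempty_bialgEquiv_of_range_ne_bot {t : A₀} (ht : IsPrim k t)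
    (hbij : Function.Bijective (aeval t : k[X] →ₐ[k] A₀)) (φ : A →ₐc[k] A₀)
    (hinj : Function.Injective φ) (hne : (φ : A →ₐ[k] A₀).range ≠ ⊥) :
    Nonempty (A ≃ₐc[k] A₀) := by
  have httr : Transcendental k t := transcendental_iff_injective.2 hbij.1
  have httop : Algebra.adjoin k {t} = ⊤ := by
    rw [Algebra.adjoin_singleton_eq_range_aeval, AlgHom.range_eq_top]
    exact hbij.2
  obtain ⟨e₀⟩ := ht.nonempty_bialgEquiv_Ga httr httop
  have hB : IsHopfSub (φ : A →ₐ[k] A₀).range := Groth.Agent.Lib.Helper7.HopfMap.isHopfSub_range φ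
  obtain ⟨q, hq, hqtr, hBq⟩ := exists_prim_of_hopfSub ht hbij _ hB hne
  have hqB : q ∈ (φ : A →ₐ[k] A₀).range := by
    rw [hBq]
    exact Algebra.subset_adjoin rfl
  obtain ⟨x, hx⟩ := hqB
  change φ x = q at hx
  have hφφ : Function.Injective (TensorProduct.map (φ : A →ₗ[k] A₀) (φ : A →ₗ[k] A₀)) :=
    TensorProduct.map_injective_of_flat_flat _ _ hinj hinj
  have hxprim : IsPrim k x := by
    unfold IsPrim
    apply hφφ
    have h1 : TensorProduct.map (φ : A →ₗ[k] A₀) (φ : A →ₗ[k] A₀) (Coalgebra.comul (R := k) x) =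
        Coalgebra.comul (R := k) (φ x) :=
      LinearMap.congr_fun (CoalgHomClass.map_comp_comul φ) x
    rw [h1, hx, hq, map_add, TensorProduct.map_tmul, TensorProduct.map_tmul]
    change _ = φ x ⊗ₜ[k] φ 1 + φ 1 ⊗ₜ[k] φ x
    rw [hx, map_one]
  have haev : ∀ P : k[X], φ (aeval x P) = aeval q P := by
    intro P
    rw [← hx]
    exact (Polynomial.aeval_algHom_apply (φ : A →ₐ[k] A₀) x P).symm
  have hxtr : Transcendental k x := by
    rintro ⟨P, hP0, hP⟩
    apply hqtr
    refine ⟨P, hP0, ?_⟩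
    rw [← haev, hP, map_zero]
  have hxtop : Algebra.adjoin k {x} = ⊤ := by
    rw [eq_top_iff]
    intro a _
    have ha : φ a ∈ (φ : A →ₐ[k] A₀).range := ⟨a, rfl⟩
    rw [hBq, Algebra.adjoin_singleton_eq_range_aeval] at ha
    obtain ⟨P, hP⟩ := ha
    change aeval q P = φ a at hP
    rw [← haev] at hP
    rw [← hinj hP, Algebra.adjoin_singleton_eq_range_aeval]
    exact ⟨P, rfl⟩
  obtain ⟨e⟩ := hxprim.nonempty_bialgEquiv_Ga hxtr hxtop
  exact ⟨e.trans e₀.symm⟩

/-- a Hopf subalgebra `≠ k` of `k[t]` is isomorphic to `k[t]`. -/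
theorem nonempty_bialgEquiv_hopfSub_ga {t : A₀} (ht : IsPrim k t)
    (hbij : Function.Bijective (aeval t : k[X] →ₐ[k] A₀)) (B : Subalgebra k A₀) (hB : IsHopfSub B)
    (hne : B ≠ ⊥) :
    letI := hopfAlgebra hB
    Nonempty (↥B ≃ₐc[k] A₀) := by
  letI := hopfAlgebra hB
  apply nonempty_bialgEquiv_of_range_ne_bot ht hbij (valBialgHom hB) Subtype.val_injective
  have : ((valBialgHom hB : ↥B →ₐc[k] A₀) : ↥B →ₐ[k] A₀).range = B := by
    ext a
    constructor
    · rintro ⟨b, rfl⟩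
      exact b.2
    · intro ha
      exact ⟨⟨a, ha⟩, rfl⟩
  rw [this]
  exact hne

/-- `k[t]` generated by a primitive element is cocommutative. -/
theorem isCocomm_of_prim {t : A₀} (ht : IsPrim k t) (htop : Algebra.adjoin k {t} = ⊤) :
    Coalgebra.IsCocomm k A₀ := by
  refine ⟨?_⟩
  have h : ((Algebra.TensorProduct.comm k A₀ A₀ : A₀ ⊗[k] A₀ →ₐ[k] A₀ ⊗[k] A₀)).comp
      (Bialgebra.comulAlgHom k A₀) = Bialgebra.comulAlgHom k A₀ := by
    apply AlgHom.ext_of_adjoin_eq_top htop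
    intro x hx
    rw [Set.mem_singleton_iff] at hx
    subst hx
    change Algebra.TensorProduct.comm k A₀ A₀ (Coalgebra.comul (R := k) x) = Coalgebra.comul (R := k) x
    rw [ht, map_add, Algebra.TensorProduct.comm_tmul, Algebra.TensorProduct.comm_tmul, add_comm]
  apply LinearMap.ext
  intro a
  exact congrArg (fun f => f a) h

end Groth.Agent.Lib.Helper7.FQ
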