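import Groth.Agent.Lib.Helper7.HopfMap
import Groth.Agent.Lib.Helper7.HopfSub

/-!
# Hopf subalgebras of `k[ℤ]` (helper7)
-/

set_option autoImplicit false
universe u v w
open TensorProduct

namespace Groth.Agent.Lib.Helper7.FQ

open Groth.Agent.Lib.Helper7.HopfSub

section RangeEq

variable {k : Type u} [Field k] {X : Type v} [CommRing X] [HopfAlgebra k X]
  {Y : Type v} [CommRing Y] [HopfAlgebra k Y] {A : Type w} [CommRing A] [HopfAlgebra k A]

/-- two injective bialgebra maps with the same range have isomorphic sources. -/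
theorem nonempty_bialgEquiv_of_range_eq (f : X →ₐc[k] A) (g : Y →ₐc[k] A)
    (hf : Function.Injective f) (hg : Function.Injective g)
    (h : (f : X →ₐ[k] A).range = (g : Y →ₐ[k] A).range) : Nonempty (X ≃ₐc[k] Y) := by
  let e : X ≃ₐ[k] Y := (AlgEquiv.ofInjective (f : X →ₐ[k] A) hf).trans
    ((Subalgebra.equivOfEq _ _ h).trans (AlgEquiv.ofInjective (g : Y →ₐ[k] A) hg).symm)
  have hge : ∀ x, g (e x) = f x := by
    intro x
    have h1 : ((AlgEquiv.ofInjective (g : Y →ₐ[k] A) hg) (e x) : A) = g (e x) := rfl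
    rw [← h1]
    simp only [e, AlgEquiv.trans_apply, AlgEquiv.apply_symm_apply]
    rfl
  have hgg : Function.Injective (TensorProduct.map (g : Y →ₗ[k] A) (g : Y →ₗ[k] A)) :=
    TensorProduct.map_injective_of_flat_flat _ _ hg hg
  refine ⟨BialgEquiv.ofAlgEquiv e ?_ ?_⟩
  · apply AlgHom.ext
    intro x
    change Coalgebra.counit (R := k) (e x) = Coalgebra.counit (R := k) x
    have h1 : Coalgebra.counit (R := k) (g (e x)) = Coalgebra.counit (R := k) (e x) :=
      LinearMap.congr_fun (CoalgHomClass.counit_comp g) (e x)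
    have h2 : Coalgebra.counit (R := k) (f x) = Coalgebra.counit (R := k) x :=
      LinearMap.congr_fun (CoalgHomClass.counit_comp f) x
    rw [← h1, hge, h2]
  · apply AlgHom.ext
    intro x
    change Algebra.TensorProduct.map (e : X →ₐ[k] Y) (e : X →ₐ[k] Y) (Coalgebra.comul (R := k) x) =
      Coalgebra.comul (R := k) (e x)
    apply hgg
    have h1 : TensorProduct.map (g : Y →ₗ[k] A) (g : Y →ₗ[k] A) (Coalgebra.comul (R := k) (e x)) =
        Coalgebra.comul (R := k) (g (e x)) :=
      LinearMap.congr_fun (CoalgHomClass.map_comp_comul g) (e x)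
    have h2 : TensorProduct.map (f : X →ₗ[k] A) (f : X →ₗ[k] A) (Coalgebra.comul (R := k) x) =
        Coalgebra.comul (R := k) (f x) :=
      LinearMap.congr_fun (CoalgHomClass.map_comp_comul f) x
    rw [h1, hge, ← h2]
    have h3 : ∀ z : X ⊗[k] X, TensorProduct.map (g : Y →ₗ[k] A) (g : Y →ₗ[k] A)
        (Algebra.TensorProduct.map (e : X →ₐ[k] Y) (e : X →ₐ[k] Y) z) =
        TensorProduct.map (f : X →ₗ[k] A) (f : X →ₗ[k] A) z := by
      intro z
      induction z with
      | zero => simp
      | tmul a b =>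
        rw [Algebra.TensorProduct.map_tmul, TensorProduct.map_tmul, TensorProduct.map_tmul]
        change g (e a) ⊗ₜ[k] g (e b) = f a ⊗ₜ[k] f b
        rw [hge, hge]
      | add a b ha hb => rw [map_add, map_add, map_add, ha, hb]
    exact h3 _

end RangeEq

end Groth.Agent.Lib.Helper7.FQ
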