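import Groth.Agent.Lib.Helper7.FQ2

/-!
# Hopf subalgebras of `k[M]` are group algebras of subgroups (helper7)
-/

set_option autoImplicit false
universe u v w
open TensorProduct

namespace Groth.Agent.Lib.Helper7.FQ

open Groth.Agent.Lib.Helper7.HopfSub MonoidAlgebra

section Gm

variable {k : Type u} [Field k] {M : Type v} [CommGroup M]

/-- the coefficient functional. -/
noncomputable def cf (g : M) : MonoidAlgebra k M →ₗ[k] k :=
  (Finsupp.lapply g) ∘ₗ (coeffLinearEquiv k).toLinearMap

lemma cf_apply (g : M) (x : MonoidAlgebra k M) : cf g x = x.coeff g := rfl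

/-- `x ⊗ y ↦ y_g • x`. -/
noncomputable def Lam (g : M) : MonoidAlgebra k M ⊗[k] MonoidAlgebra k M →ₗ[k] MonoidAlgebra k M :=
  (TensorProduct.rid k (MonoidAlgebra k M)).toLinearMap ∘ₗ LinearMap.lTensor (MonoidAlgebra k M) (cf g)

lemma Lam_tmul (g : M) (x y : MonoidAlgebra k M) : Lam g (x ⊗ₜ[k] y) = (y.coeff g) • x := by
  simp [Lam, cf_apply]

lemma Lam_comul (g : M) (b : MonoidAlgebra k M) :
    Lam g (Coalgebra.comul (R := k) b) = (b.coeff g) • (single g 1 : MonoidAlgebra k M) := by
  classical
  induction b using MonoidAlgebra.induction_linear with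
  | zero => simp
  | add x y hx hy => rw [map_add, map_add, hx, hy, coeff_add, Finsupp.add_apply, add_smul]
  | single h c =>
    rw [comul_single]
    rw [CommSemiring.comul_apply, TensorProduct.map_tmul, Lam_tmul]
    simp only [lsingle_apply, coeff_single]
    by_cases hgh : h = g
    · subst hgh
      simp [smul_single]
    · rw [Finsupp.single_eq_of_ne (Ne.symm hgh)]
      simp

variable (B : Subalgebra k (MonoidAlgebra k M)) (hB : IsHopfSub B)
include hB

lemma coeff_smul_single_mem {b : MonoidAlgebra k M} (hb : b ∈ B) (g : M) :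
    (b.coeff g) • (single g 1 : MonoidAlgebra k M) ∈ B := by
  rw [← Lam_comul]
  obtain ⟨z, hz⟩ := hB.comul_mem b hb
  rw [← hz]
  clear hz
  induction z with
  | zero => simp
  | tmul x y =>
    rw [TensorProduct.map_tmul, Lam_tmul]
    exact B.smul_mem x.2 _
  | add x y hx hy =>
    rw [map_add, map_add]
    exact B.add_mem hx hy

lemma single_mem_of_coeff_ne_zero {b : MonoidAlgebra k M} (hb : b ∈ B) {g : M} (hg : b.coeff g ≠ 0) :
    (single g 1 : MonoidAlgebra k M) ∈ B := by
  have h := coeff_smul_single_mem B hB hb g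
  have h2 := B.smul_mem h (b.coeff g)⁻¹
  rwa [smul_smul, inv_mul_cancel₀ hg, one_smul] at h2

/-- the subgroup of group-like elements in `B`. -/
def grpOf : Subgroup M where
  carrier := {g | (single g 1 : MonoidAlgebra k M) ∈ B}
  one_mem' := by
    change (single 1 1 : MonoidAlgebra k M) ∈ B
    rw [← one_def]
    exact B.one_mem
  mul_mem' := by
    intro a b ha hb
    change (single (a * b) 1 : MonoidAlgebra k M) ∈ B
    have := B.mul_mem ha hb
    rwa [single_mul_single, one_mul] at this
  inv_mem' := by
    intro a ha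
    change (single a⁻¹ 1 : MonoidAlgebra k M) ∈ B
    have := hB.antipode_mem _ ha
    rwa [antipode_single] at this

lemma mem_grpOf {g : M} : g ∈ grpOf B hB ↔ (single g 1 : MonoidAlgebra k M) ∈ B := Iff.rfl

/-- `B` is the range of `k[H] → k[M]`. -/
theorem eq_range_mapDomain :
    B = ((mapDomainBialgHom k (grpOf B hB).subtype :
      MonoidAlgebra k (grpOf B hB) →ₐc[k] MonoidAlgebra k M) :
      MonoidAlgebra k (grpOf B hB) →ₐ[k] MonoidAlgebra k M).range := by
  classical
  apply le_antisymm
  · intro b hb
    rw [← sum_coeff_single b]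
    apply Subalgebra.sum_mem
    intro g hg
    have hg0 : b.coeff g ≠ 0 := Finsupp.mem_support_iff.1 hg
    have hgB : g ∈ grpOf B hB := single_mem_of_coeff_ne_zero B hB hb hg0
    refine ⟨single ⟨g, hgB⟩ (b.coeff g), ?_⟩
    change mapDomainBialgHom k (grpOf B hB).subtype (single ⟨g, hgB⟩ (b.coeff g)) = _
    rw [mapDomainBialgHom_single]
    rfl
  · rintro _ ⟨x, rfl⟩
    change mapDomainBialgHom k (grpOf B hB).subtype x ∈ B
    induction x using MonoidAlgebra.induction_linear with
    | zero => rw [map_zero]; exact B.zero_mem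
    | add x y hx hy => rw [map_add]; exact B.add_mem hx hy
    | single h c =>
      rw [mapDomainBialgHom_single]
      have : (single ((grpOf B hB).subtype h) c : MonoidAlgebra k M) =
          c • (single (h : M) 1 : MonoidAlgebra k M) := by
        rw [smul_single, smul_eq_mul, mul_one]
        rfl
      rw [this]
      exact B.smul_mem h.2 c

end Gm

end Groth.Agent.Lib.Helper7.FQ
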