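import Groth.Agent.Lib.Helper7.FQ3

/-!
# Hopf subalgebras of `k[ℤ]` (helper7)
-/

set_option autoImplicit false
universe u v w
open TensorProduct

namespace Groth.Agent.Lib.Helper7.FQ

open Groth.Agent.Lib.Helper7.HopfSub MonoidAlgebra

section Gen

variable {k : Type u} [Field k] {M : Type v} [CommGroup M] {N : Type w} [CommGroup N]
variable (B : Subalgebra k (MonoidAlgebra k M)) (hB : IsHopfSub B)
include hB

theorem eq_range_mapDomain' (z : N →* M) (hz : ∀ g, g ∈ grpOf B hB ↔ ∃ n, z n = g) :
    B = ((mapDomainBialgHom k z : MonoidAlgebra k N →ₐc[k] MonoidAlgebra k M) :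
      MonoidAlgebra k N →ₐ[k] MonoidAlgebra k M).range := by
  classical
  apply le_antisymm
  · intro b hb
    rw [← sum_coeff_single b]
    apply Subalgebra.sum_mem
    intro g hg
    have hg0 : b.coeff g ≠ 0 := Finsupp.mem_support_iff.1 hg
    have hgB : g ∈ grpOf B hB := single_mem_of_coeff_ne_zero B hB hb hg0
    obtain ⟨n, hn⟩ := (hz g).1 hgB
    refine ⟨single n (b.coeff g), ?_⟩
    change mapDomainBialgHom k z (single n (b.coeff g)) = _
    rw [mapDomainBialgHom_single, hn]
  · rintro _ ⟨x, rfl⟩
    change mapDomainBialgHom k z x ∈ B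
    induction x using MonoidAlgebra.induction_linear with
    | zero => rw [map_zero]; exact B.zero_mem
    | add x y hx hy => rw [map_add]; exact B.add_mem hx hy
    | single h c =>
      rw [mapDomainBialgHom_single]
      have : (single (z h) c : MonoidAlgebra k M) =
          c • (single (z h) 1 : MonoidAlgebra k M) := by
        rw [smul_single, smul_eq_mul, mul_one]
      rw [this]
      exact B.smul_mem ((hz (z h)).2 ⟨h, rfl⟩) c

end Gen

section Z

variable {k : Type u} [Field k]

/-- a Hopf subalgebra `≠ k` of `k[ℤ]` is isomorphic to `k[ℤ]`. -/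
theorem nonempty_bialgEquiv_hopfSub_gm (B : Subalgebra k (MonoidAlgebra k (Multiplicative ℤ)))
    (hB : IsHopfSub B) (hne : B ≠ ⊥) :
    letI := hopfAlgebra hB
    Nonempty (↥B ≃ₐc[k] MonoidAlgebra k (Multiplicative ℤ)) := by
  letI := hopfAlgebra hB
  obtain ⟨g₀, hg₀⟩ := IsCyclic.exists_generator (α := grpOf B hB)
  let z : Multiplicative ℤ →* Multiplicative ℤ := zpowersHom (Multiplicative ℤ) (g₀ : Multiplicative ℤ)
  have hzapp : ∀ m : Multiplicative ℤ, z m = (g₀ : Multiplicative ℤ) ^ (Multiplicative.toAdd m) := by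
    intro m
    rfl
  have hz : ∀ g, g ∈ grpOf B hB ↔ ∃ n, z n = g := by
    intro g
    constructor
    · intro hg
      obtain ⟨m, hm⟩ := Subgroup.mem_zpowers_iff.1 (hg₀ ⟨g, hg⟩)
      refine ⟨Multiplicative.ofAdd m, ?_⟩
      rw [hzapp]
      have := congrArg Subtype.val hm
      simpa using this
    · rintro ⟨n, rfl⟩
      rw [hzapp]
      exact Subgroup.zpow_mem _ g₀.2 _
  have hrange := eq_range_mapDomain' B hB z hz
  -- `g₀ ≠ 1`
  have hg1 : (g₀ : Multiplicative ℤ) ≠ 1 := by
    intro h1
    apply hne
    rw [eq_bot_iff, hrange]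
    rintro _ ⟨x, rfl⟩
    change mapDomainBialgHom k z x ∈ (⊥ : Subalgebra k _)
    induction x using MonoidAlgebra.induction_linear with
    | zero => rw [map_zero]; exact Subalgebra.zero_mem _
    | add x y hx hy => rw [map_add]; exact Subalgebra.add_mem _ hx hy
    | single h c =>
      rw [mapDomainBialgHom_single, hzapp, h1, one_zpow]
      have : (single (1 : Multiplicative ℤ) c : MonoidAlgebra k (Multiplicative ℤ)) =
          algebraMap k _ c := rfl
      rw [this]
      exact Subalgebra.algebraMap_mem _ _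
  have hzinj : Function.Injective z := by
    intro a b hab
    rw [hzapp, hzapp] at hab
    have h2 := congrArg Multiplicative.toAdd hab
    rw [toAdd_zpow, toAdd_zpow, smul_eq_mul, smul_eq_mul] at h2
    have hn0 : Multiplicative.toAdd (g₀ : Multiplicative ℤ) ≠ 0 := by
      intro h0
      apply hg1
      exact Multiplicative.toAdd.injective h0
    have := mul_right_cancel₀ hn0 h2
    exact Multiplicative.toAdd.injective this
  have hθinj : Function.Injective (mapDomainBialgHom k z :
      MonoidAlgebra k (Multiplicative ℤ) →ₐc[k] MonoidAlgebra k (Multiplicative ℤ)) := by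
    intro x y hxy
    exact MonoidAlgebra.mapDomain_injective hzinj hxy
  have hrB : ((valBialgHom hB : ↥B →ₐc[k] MonoidAlgebra k (Multiplicative ℤ)) :
      ↥B →ₐ[k] MonoidAlgebra k (Multiplicative ℤ)).range = B := by
    ext a
    constructor
    · rintro ⟨b, rfl⟩
      exact b.2
    · intro ha
      exact ⟨⟨a, ha⟩, rfl⟩
  exact nonempty_bialgEquiv_of_range_eq (valBialgHom hB) (mapDomainBialgHom k z)
    Subtype.val_injective hθinj (by rw [hrB]; exact hrange)

end Z

end Groth.Agent.Lib.Helper7.FQ
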