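import Mathlib

/-!
# The factor map between quotients by bi-ideals as a bialgebra map (helper7)
-/

set_option autoImplicit false

namespace Groth.Agent.Lib.Helper7.FactorBialg

universe u v

variable {R : Type u} [CommRing R] {A : Type v} [CommRing A] [Bialgebra R A]
  (I J : Ideal A) [(I.restrictScalars R).IsCoideal] [(J.restrictScalars R).IsCoideal]

/-- `A ⧸ I → A ⧸ J` for `I ≤ J`, as a bialgebra map. -/
noncomputable def factorBialgHom (h : I ≤ J) : A ⧸ I →ₐc[R] A ⧸ J :=
  BialgHom.ofAlgHom (Ideal.Quotient.factorₐ R h)
    (by apply Ideal.Quotient.algHom_ext; rfl)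
    (by apply Ideal.Quotient.algHom_ext
        apply AlgHom.ext; intro a
        change (Algebra.TensorProduct.map (Ideal.Quotient.factorₐ R h) (Ideal.Quotient.factorₐ R h))
          (Algebra.TensorProduct.map (Ideal.Quotient.mkₐ R I) (Ideal.Quotient.mkₐ R I)
            (Coalgebra.comul (R := R) a)) =
          Algebra.TensorProduct.map (Ideal.Quotient.mkₐ R J) (Ideal.Quotient.mkₐ R J)
            (Coalgebra.comul (R := R) a)
        generalize Coalgebra.comul (R := R) a = d
        induction d using TensorProduct.induction_on with
        | zero => simp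
        | tmul x y => rfl
        | add x y hx hy => simp only [map_add, hx, hy])

@[simp] lemma factorBialgHom_mk (h : I ≤ J) (a : A) :
    factorBialgHom (R := R) I J h (Ideal.Quotient.mk I a) = Ideal.Quotient.mk J a := rfl

end Groth.Agent.Lib.Helper7.FactorBialg
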