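import Mathlib
import Groth.Agent.Lib.Helper7.FamDesc5
import Groth.Agent.Lib.Helper7.FamDesc6

/-!
# Lifting groups of multiplicative type split by a finite flat family along a nil ideal (helper7)
-/

set_option autoImplicit false

namespace Groth.Agent.Lib.Helper7.FFDesc

open TensorProduct Groth.Agent.Lib.Helper7.CancelBC Groth.Agent.Lib.Helper7.NilLift SGA3b

universe u

section Delta₂

variable {R : Type u} [CommRing R] {k : Type u} [CommRing k] [Algebra R k]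
  {S₁ S₂ : Type u} [CommRing S₁] [Algebra R S₁] [CommRing S₂] [Algebra R S₂]

variable (R k S₁ S₂) in
/-- `(k ⊗ S₁) ⊗[k] (k ⊗ S₂) → k ⊗ (S₁ ⊗ S₂)`. -/
noncomputable def delta₂ : (k ⊗[R] S₁) ⊗[k] (k ⊗[R] S₂) →ₐ[k] k ⊗[R] (S₁ ⊗[R] S₂) :=
  Algebra.TensorProduct.productMap (bc0k k (in1 (R := R) S₁ S₂)) (bc0k k (in2 (R := R) S₁ S₂))

lemma delta₂_distrib (w : k ⊗[R] (S₁ ⊗[R] S₂)) :
    delta₂ R k S₁ S₂ (AlgebraTensorModule.distribBaseChange R k S₁ S₂ w) = w := by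
  induction w using TensorProduct.induction_on with
  | zero => simp
  | add x y hx hy => rw [map_add, map_add, hx, hy]
  | tmul r t =>
    induction t using TensorProduct.induction_on with
    | zero => simp
    | add x y hx hy => rw [TensorProduct.tmul_add, map_add, map_add, hx, hy]
    | tmul s s' =>
      rw [AlgebraTensorModule.distribBaseChange_tmul, delta₂,
        Algebra.TensorProduct.productMap_apply_tmul]
      change (r ⊗ₜ[R] (s ⊗ₜ[R] (1 : S₂)) : k ⊗[R] (S₁ ⊗[R] S₂)) *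
        ((1 : k) ⊗ₜ[R] ((1 : S₁) ⊗ₜ[R] s')) = _
      rw [Algebra.TensorProduct.tmul_mul_tmul, Algebra.TensorProduct.tmul_mul_tmul, mul_one,
        mul_one, one_mul]

lemma delta₂_bijective : Function.Bijective (delta₂ R k S₁ S₂) := by
  have h : Function.LeftInverse (delta₂ R k S₁ S₂)
      (AlgebraTensorModule.distribBaseChange R k S₁ S₂) := delta₂_distrib
  refine ⟨?_, h.surjective⟩
  intro x y hxy
  obtain ⟨x', rfl⟩ := (AlgebraTensorModule.distribBaseChange R k S₁ S₂).surjective x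
  obtain ⟨y', rfl⟩ := (AlgebraTensorModule.distribBaseChange R k S₁ S₂).surjective y
  rw [delta₂_distrib, delta₂_distrib] at hxy
  rw [hxy]

lemma delta₂_comp_in1 : (delta₂ R k S₁ S₂).comp
    (in1 (R := k) (k ⊗[R] S₁) (k ⊗[R] S₂)) = bc0k k (in1 (R := R) S₁ S₂) := by
  apply AlgHom.ext
  intro a
  change delta₂ R k S₁ S₂ (a ⊗ₜ[k] (1 : k ⊗[R] S₂)) = _
  rw [delta₂, Algebra.TensorProduct.productMap_apply_tmul, map_one, mul_one]

lemma delta₂_comp_in2 : (delta₂ R k S₁ S₂).comp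
    (in2 (R := k) (k ⊗[R] S₁) (k ⊗[R] S₂)) = bc0k k (in2 (R := R) S₁ S₂) := by
  apply AlgHom.ext
  intro a
  change delta₂ R k S₁ S₂ ((1 : k ⊗[R] S₁) ⊗ₜ[k] a) = _
  rw [delta₂, Algebra.TensorProduct.productMap_apply_tmul, map_one, one_mul]

lemma rT_delta₂_injective (A₀ : Type u) [AddCommGroup A₀] [Module k A₀] :
    Function.Injective (rT (delta₂ R k S₁ S₂) A₀) := by
  set δe := AlgEquiv.ofBijective (delta₂ R k S₁ S₂) delta₂_bijective with hδe
  intro x y hxy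
  have := congrArg (rT (δe.symm : k ⊗[R] (S₁ ⊗[R] S₂) →ₐ[k] (k ⊗[R] S₁) ⊗[k] (k ⊗[R] S₂)) A₀) hxy
  rw [← rT_comp, ← rT_comp] at this
  have hid : (δe.symm : k ⊗[R] (S₁ ⊗[R] S₂) →ₐ[k] (k ⊗[R] S₁) ⊗[k] (k ⊗[R] S₂)).comp
      (delta₂ R k S₁ S₂) = AlgHom.id k _ := by
    apply AlgHom.ext
    intro a
    exact δe.symm_apply_apply a
  rwa [hid, rT_id, rT_id] at this

end Delta₂

section JF

variable {R : Type u} [CommRing R] (k : Type u) [CommRing k] [Algebra R k] {ι : Type u}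
  {S : ι → Type u} [∀ i, CommRing (S i)] [∀ i, Algebra R (S i)]

lemma jointlyFaithful_baseChange (hS : JointlyFaithful R S) :
    JointlyFaithful k (fun i => k ⊗[R] S i) := by
  intro N _ _ hN
  letI : Module R N := Module.compHom N (algebraMap R k)
  haveI : IsScalarTower R k N := IsScalarTower.of_algebraMap_smul (fun _ _ => rfl)
  apply hS N
  intro i
  have h1 : Subsingleton (N ⊗[k] (k ⊗[R] S i)) :=
    (TensorProduct.comm k N (k ⊗[R] S i)).injective.subsingleton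
  have h2 : Subsingleton (N ⊗[R] S i) :=
    (AlgebraTensorModule.cancelBaseChange R k k N (S i)).symm.injective.subsingleton
  exact (TensorProduct.comm R (S i) N).injective.subsingleton

end JF

section BcEq

variable {R : Type u} [CommRing R] {k : Type u} [CommRing k] [Algebra R k] {ι : Type u}
  [Fintype ι] {S : ι → Type u} [∀ i, CommRing (S i)] [∀ i, Algebra R (S i)]
  [∀ i, Module.Flat R (S i)]

/-- descent of elements along the family `k → k ⊗ S i`. -/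
lemma fam_mem_range_of_bc_eq (hS : JointlyFaithful R S) {A₀ : Type u} [AddCommGroup A₀]
    [Module k A₀] (z : ∀ i, (k ⊗[R] S i) ⊗[k] A₀)
    (h : ∀ i j, rT (bc0k k (in1 (R := R) (S i) (S j))) A₀ (z i) =
      rT (bc0k k (in2 (R := R) (S i) (S j))) A₀ (z j)) :
    ∃ b : A₀, ∀ i, (1 : k ⊗[R] S i) ⊗ₜ[k] b = z i := by
  apply fam_exists_of_rT_eq (R := k) (S := fun i => k ⊗[R] S i) (jointlyFaithful_baseChange k hS) z
  intro i j
  apply rT_delta₂_injective (R := R) (k := k) (S₁ := S i) (S₂ := S j) A₀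
  rw [← rT_comp, ← rT_comp, delta₂_comp_in1, delta₂_comp_in2]
  exact h i j

end BcEq

section Main

variable {R : Type u} [CommRing R] {k : Type u} [CommRing k] [Algebra R k]
  (hk : Function.Surjective (algebraMap R k))
  (hnil : ∀ x ∈ RingHom.ker (algebraMap R k), IsNilpotent x)
  {ι : Type u} [Fintype ι] [DecidableEq ι]
  {S : ι → Type u} [∀ i, CommRing (S i)] [∀ i, Algebra R (S i)] [∀ i, Module.Flat R (S i)]
  (hS : JointlyFaithful R S)
  {M : ι → Type u} [∀ i, CommGroup (M i)] {A₀ : Type u} [CommRing A₀] [HopfAlgebra k A₀]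
  (e₀ : ∀ i, (k ⊗[R] S i) ⊗[k] A₀ ≃ₐc[k ⊗[R] S i] MonoidAlgebra (k ⊗[R] S i) (M i))

include hk hnil hS e₀ in
/-- **Lifting of groups of multiplicative type split by a finite flat family along a nil ideal.** -/
theorem exists_fam_lift :
    ∃ (A : Type u) (_ : CommRing A) (_ : HopfAlgebra R A),
      (∀ i, Nonempty (S i ⊗[R] A ≃ₐc[S i] MonoidAlgebra (S i) (M i))) ∧
        Nonempty (k ⊗[R] A ≃ₐc[k] A₀) := by
  classical
  have eK : ∀ (K : Type u) [CommRing K] [Algebra R K] (l : ι),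
      K ⊗[R] MonoidAlgebra R (M l) ≃ₐc[K] MonoidAlgebra K (M l) := fun K _ _ l =>
    Classical.choice (nonempty_bialgEquiv_baseChange K (BialgEquiv.refl R (MonoidAlgebra R (M l))))
  set e : ∀ i, (k ⊗[R] S i) ⊗[k] A₀ ≃ₐc[k ⊗[R] S i] (k ⊗[R] S i) ⊗[R] MonoidAlgebra R (M i) :=
    fun i => (e₀ i).trans (eK (k ⊗[R] S i) i).symm with he
  have hd := fun i j => exists_datum₂ (e i) (e j)
  choose Φ₀ E₂ hE₂ hΦ₀ using hd
  set g : ∀ i, A₀ → (k ⊗[R] S i) ⊗[R] MonoidAlgebra R (M i) :=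
    fun i x => e i ((1 : k ⊗[R] S i) ⊗ₜ[k] x) with hg
  have hG : ∀ i, Submodule.span (k ⊗[R] S i) (Set.range (g i)) = ⊤ := by
    intro i
    rw [eq_top_iff]
    intro y _
    have hy : y = e i ((e i).symm y) := ((e i).apply_symm_apply y).symm
    rw [hy]
    generalize (e i).symm y = w
    induction w using TensorProduct.induction_on with
    | zero => rw [map_zero]; exact Submodule.zero_mem _
    | add x y hx hy => rw [map_add]; exact Submodule.add_mem _ hx hy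
    | tmul s x =>
      have : s ⊗ₜ[k] x = s • ((1 : k ⊗[R] S i) ⊗ₜ[k] x) := by
        rw [TensorProduct.smul_tmul', smul_eq_mul, mul_one]
      rw [this, map_smul]
      exact Submodule.smul_mem _ _ (Submodule.subset_span ⟨x, rfl⟩)
  have hstar : ∀ i j x, Φ₀ i j (rT (bc0 k (in1 (R := R) (S i) (S j))) (MonoidAlgebra R (M i))
      (g i x)) = rT (bc0 k (in2 (R := R) (S i) (S j))) (MonoidAlgebra R (M j)) (g j x) := by
    intro i j x
    simp only [hg]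
    rw [hΦ₀, ← hE₂, rT_tmul, rT_tmul, map_one, map_one]
  have hl := fun i j => lift (pi0 k (S i ⊗[R] S j)) (pi0_surjective hk)
    (ker_pi0_le_nil hk hnil _) (eK (S i ⊗[R] S j) j) (eK (S i ⊗[R] S j) i)
    (idem_lift_pi0_nil hk hnil _) (Φ₀ i j)
  choose Φ hΦ using hl
  have h1 : FC1 (flin Φ) := fun i =>
    c1_of_lift hk hnil (eK (S i) i) (Φ i i) (Φ₀ i i) (hΦ i i) (Set.range (g i)) (hG i)
      (by rintro _ ⟨x, rfl⟩; exact hstar i i x)
  have h2 : FC2 (flin Φ) := fun i j l x =>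
    c2_of_lift hk hnil (eK _ i) (eK _ l) (Φ i j) (Φ j l) (Φ i l) (Φ₀ i j) (Φ₀ j l) (Φ₀ i l)
      (hΦ i j) (hΦ j l) (hΦ i l) (g i) (g j) (g l) (hG i) (hstar i j) (hstar j l) (hstar i l) x
  obtain ⟨A, instA, instH, j, hθ, hjc, -⟩ := exists_fam_descent hS Φ h1 h2
  choose θ hθ' using hθ
  refine ⟨A, instA, instH, fun i => ⟨(θ i).trans (eK (S i) i)⟩, ?_⟩
  have hθ₀ := fun i => exists_bcEquiv₂ (pi0 k (S i)) (pi0 k (S i)) (fun _ => rfl) (θ i)
  choose θ₀ hθ₀' using hθ₀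
  set Ψ : ∀ i, (k ⊗[R] S i) ⊗[k] (k ⊗[R] A) ≃ₐc[k ⊗[R] S i] (k ⊗[R] S i) ⊗[k] A₀ :=
    fun i => (cancelBC R k (k ⊗[R] S i) A).trans ((θ₀ i).trans (e i).symm) with hΨ
  have hΨ1 : ∀ i (x : A), Ψ i ((1 : k ⊗[R] S i) ⊗ₜ[k] ((1 : k) ⊗ₜ[R] x)) =
      (e i).symm (rT (pi0 k (S i)) (MonoidAlgebra R (M i)) (j i x)) := by
    intro i x
    change (e i).symm (θ₀ i (cancelBC R k (k ⊗[R] S i) A
      ((1 : k ⊗[R] S i) ⊗ₜ[k] ((1 : k) ⊗ₜ[R] x)))) = _
    rw [cancelBC_tmul, one_smul]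
    have e1 : ((1 : k ⊗[R] S i) ⊗ₜ[R] x : (k ⊗[R] S i) ⊗[R] A) =
        rT (pi0 k (S i)) A ((1 : S i) ⊗ₜ[R] x) := by rw [rT_tmul, map_one]
    rw [e1, hθ₀', hθ', one_smul]
  have hex1 : ∀ x : A, ∃ b : A₀, ∀ i, (1 : k ⊗[R] S i) ⊗ₜ[k] b =
      Ψ i ((1 : k ⊗[R] S i) ⊗ₜ[k] ((1 : k) ⊗ₜ[R] x)) := by
    intro x
    set z : ∀ i, (k ⊗[R] S i) ⊗[k] A₀ :=
      fun i => (e i).symm (rT (pi0 k (S i)) (MonoidAlgebra R (M i)) (j i x)) with hz
    have hez : ∀ i, e i (z i) = rT (pi0 k (S i)) (MonoidAlgebra R (M i)) (j i x) :=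
      fun i => (e i).apply_symm_apply _
    have h12 : ∀ i l, rT (bc0k k (in1 (R := R) (S i) (S l))) A₀ (z i) =
        rT (bc0k k (in2 (R := R) (S i) (S l))) A₀ (z l) := by
      intro i l
      apply EquivLike.injective (E₂ i l)
      rw [hE₂, ← hΦ₀, hez, hez, ← rT_comp, ← rT_comp, ← pi0_comp, ← pi0_comp, rT_comp, rT_comp,
        hΦ, hjc]
    obtain ⟨b, hb⟩ := fam_mem_range_of_bc_eq hS z h12
    refine ⟨b, fun i => ?_⟩
    rw [hΨ1]
    exact hb i
  have hex : ∀ c : k ⊗[R] A, ∃ b : A₀, ∀ i, (1 : k ⊗[R] S i) ⊗ₜ[k] b =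
      Ψ i ((1 : k ⊗[R] S i) ⊗ₜ[k] c) := by
    intro c
    induction c using TensorProduct.induction_on with
    | zero =>
      exact ⟨0, fun i => by rw [TensorProduct.tmul_zero, TensorProduct.tmul_zero, map_zero]⟩
    | add x y hx hy =>
      obtain ⟨b, hb⟩ := hx
      obtain ⟨b', hb'⟩ := hy
      exact ⟨b + b', fun i => by
        rw [TensorProduct.tmul_add, TensorProduct.tmul_add, map_add, hb, hb']⟩
    | tmul r x =>
      obtain ⟨b, hb⟩ := hex1 x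
      refine ⟨r • b, fun i => ?_⟩
      have e1 : (r ⊗ₜ[R] x : k ⊗[R] A) = r • ((1 : k) ⊗ₜ[R] x) := by
        rw [TensorProduct.smul_tmul', smul_eq_mul, mul_one]
      rw [e1, TensorProduct.tmul_smul, TensorProduct.tmul_smul,
        ← algebraMap_smul (k ⊗[R] S i) r ((1 : k ⊗[R] S i) ⊗ₜ[k] ((1 : k) ⊗ₜ[R] x)), map_smul,
        ← hb, algebraMap_smul]
  have hSk := jointlyFaithful_baseChange k hS
  obtain ⟨φ, hφ⟩ := exists_fam_hom_descent (R := k) (S := fun i => k ⊗[R] S i) hSk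
    (fun i => (Ψ i : (k ⊗[R] S i) ⊗[k] (k ⊗[R] A) →ₐc[k ⊗[R] S i] (k ⊗[R] S i) ⊗[k] A₀)) hex
  have hbij := fam_hom_bijective (R := k) (S := fun i => k ⊗[R] S i) hSk
    (fun i => (Ψ i : (k ⊗[R] S i) ⊗[k] (k ⊗[R] A) →ₐc[k ⊗[R] S i] (k ⊗[R] S i) ⊗[k] A₀)) φ hφ
    (fun i => (Ψ i).bijective)
  exact ⟨BialgEquiv.ofBijective φ hbij⟩

end Main

end Groth.Agent.Lib.Helper7.FFDesc
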