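import Mathlib
import Groth.Agent.Lib.Helper7.FamDesc7
import Groth.Agent.Lib.Helper7.FFDesc10
import Groth.Agent.Lib.Helper7.NilLift8

/-!
# Lifting quasi-isotrivial groups of multiplicative type along a nil ideal (helper7)
-/

set_option autoImplicit false

namespace Groth.Agent.Lib.Helper7.FFDesc

open TensorProduct Groth.Agent.Lib.Helper7.CancelBC Groth.Agent.Lib.Helper7.NilLift SGA3b

universe u

section Ker

variable (R : Type u) [CommRing R] (I : Ideal R) (f : R)

lemma awayMap_ker_eq :
    RingHom.ker (Localization.awayMap (Ideal.Quotient.mk I) f) =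
      I.map (algebraMap R (Localization.Away f)) := by
  apply le_antisymm
  · intro x hx
    obtain ⟨r, ⟨_, n, rfl⟩, rfl⟩ := IsLocalization.exists_mk'_eq (Submonoid.powers f) x
    rw [RingHom.mem_ker, Localization.awayMap, IsLocalization.Away.map, IsLocalization.map_mk',
      IsLocalization.mk'_eq_zero_iff] at hx
    obtain ⟨⟨_, k, rfl⟩, hk⟩ := hx
    have h1 : f ^ k * r ∈ I := by
      rw [← Ideal.Quotient.eq_zero_iff_mem, map_mul, map_pow]
      exact hk
    rw [← IsLocalization.mk'_cancel (S := Localization.Away f) r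
      (⟨f ^ n, n, rfl⟩ : Submonoid.powers f) (⟨f ^ k, k, rfl⟩ : Submonoid.powers f),
      IsLocalization.mk'_eq_mul_mk'_one]
    apply Ideal.mul_mem_right
    apply Ideal.mem_map_of_mem
    change r * f ^ k ∈ I
    rwa [mul_comm]
  · rw [Ideal.map_le_iff_le_comap]
    intro r hr
    rw [Ideal.mem_comap, RingHom.mem_ker, Localization.awayMap, IsLocalization.Away.map,
      IsLocalization.map_eq, Ideal.Quotient.eq_zero_iff_mem.2 hr, map_zero]

end Ker

section Chart

variable (R : Type u) [CommRing R] (I : Ideal R) (hI : ∀ x ∈ I, IsNilpotent x)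
  (A₀ : Type u) [CommRing A₀] [HopfAlgebra (R ⧸ I) A₀] (f : R)

include hI in
/-- lifting one étale chart of a quasi-isotrivial group over `R ⧸ I` to `R`. -/
theorem chart_lift
    (h : IsQuasiIsotrivialConst (Localization.Away (Ideal.Quotient.mk I f))
      (Localization.Away (Ideal.Quotient.mk I f) ⊗[R ⧸ I] A₀)) :
    ∃ (S : Type u) (_ : CommRing S) (_ : Algebra (Localization.Away f) S) (_ : Algebra R S)
      (_ : IsScalarTower R (Localization.Away f) S) (M : Type u) (_ : CommGroup M),
      Algebra.Etale (Localization.Away f) S ∧ Module.FaithfullyFlat (Localization.Away f) S ∧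
      Nonempty (((R ⧸ I) ⊗[R] S) ⊗[R ⧸ I] A₀ ≃ₐc[(R ⧸ I) ⊗[R] S]
        MonoidAlgebra ((R ⧸ I) ⊗[R] S) M) := by
  obtain ⟨Q, _, _, het, hff, M, _, ⟨e⟩⟩ := h
  let g : Localization.Away f →+* Localization.Away (Ideal.Quotient.mk I f) :=
    Localization.awayMap (Ideal.Quotient.mk I) f
  let _ : Algebra (Localization.Away f) (Localization.Away (Ideal.Quotient.mk I f)) := g.toAlgebra
  let _ : Algebra (Localization.Away f) Q :=
    ((algebraMap (Localization.Away (Ideal.Quotient.mk I f)) Q).comp g).toAlgebra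
  have : IsScalarTower (Localization.Away f) (Localization.Away (Ideal.Quotient.mk I f)) Q :=
    IsScalarTower.of_algebraMap_eq (fun _ => rfl)
  let _ : Algebra (R ⧸ I) Q :=
    ((algebraMap (Localization.Away (Ideal.Quotient.mk I f)) Q).comp
      (algebraMap (R ⧸ I) (Localization.Away (Ideal.Quotient.mk I f)))).toAlgebra
  have : IsScalarTower (R ⧸ I) (Localization.Away (Ideal.Quotient.mk I f)) Q :=
    IsScalarTower.of_algebraMap_eq (fun _ => rfl)
  let _ : Algebra R Q := ((algebraMap (R ⧸ I) Q).comp (Ideal.Quotient.mk I)).toAlgebra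
  have : IsScalarTower R (R ⧸ I) Q := IsScalarTower.of_algebraMap_eq (fun _ => rfl)
  have tRQ : IsScalarTower R (Localization.Away f) Q := by
    apply IsScalarTower.of_algebraMap_eq
    intro r
    change algebraMap (Localization.Away (Ideal.Quotient.mk I f)) Q
        (algebraMap (R ⧸ I) _ (Ideal.Quotient.mk I r)) =
      algebraMap (Localization.Away (Ideal.Quotient.mk I f)) Q (g (algebraMap R _ r))
    congr 1
    exact (IsLocalization.map_eq _ r).symm
  have hsurj : Function.Surjective
      (algebraMap (Localization.Away f) (Localization.Away (Ideal.Quotient.mk I f))) :=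
    awayMap_surjective R I f
  have hnil : ∀ x ∈ RingHom.ker
      (algebraMap (Localization.Away f) (Localization.Away (Ideal.Quotient.mk I f))),
      IsNilpotent x := awayMap_ker_nil R I hI f
  obtain ⟨S, _, _, hSet, ψ, hψ, hker⟩ := exists_etale_lift' (R₀ := Localization.Away f)
    (R₁ := Localization.Away (Ideal.Quotient.mk I f)) (Q := Q) hsurj
  have hSff : Module.FaithfullyFlat (Localization.Away f) S := faithfullyFlat_of_lift ψ hnil hsurj
  let _ : Algebra R S :=
    ((algebraMap (Localization.Away f) S).comp (algebraMap R (Localization.Away f))).toAlgebra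
  have tRS : IsScalarTower R (Localization.Away f) S :=
    IsScalarTower.of_algebraMap_eq (fun _ => rfl)
  refine ⟨S, inferInstance, inferInstance, inferInstance, tRS, ?_⟩
  -- the reduction of `S` is `Q`
  have hk : Function.Surjective (algebraMap R (R ⧸ I)) := Ideal.Quotient.mk_surjective
  have hkerR : RingHom.ker (algebraMap R (R ⧸ I)) = I := Ideal.mk_ker
  have hker' : RingHom.ker (ψ.restrictScalars R) =
      (RingHom.ker (algebraMap R (R ⧸ I))).map (algebraMap R S) := by
    rw [hkerR, IsScalarTower.algebraMap_eq R (Localization.Away f) S, ← Ideal.map_map,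
      ← awayMap_ker_eq R I f]
    exact hker
  obtain ⟨ea⟩ := nonempty_algEquiv_of_lift hk S Q (ψ.restrictScalars R) hψ hker'
  have hd : IsDiag Q (Q ⊗[R ⧸ I] A₀) :=
    ⟨M, inferInstance,
      ⟨(cancelBC (R ⧸ I) (Localization.Away (Ideal.Quotient.mk I f)) Q A₀).symm.trans e⟩⟩
  obtain ⟨M', _, ⟨e₀⟩⟩ := HensGL.isDiag_of_algHom (A := R ⧸ I) (B := A₀)
    (ea.symm : Q →ₐ[R ⧸ I] (R ⧸ I) ⊗[R] S) hd
  exact ⟨M', inferInstance, hSet, hSff, ⟨e₀⟩⟩

end Chart

end Groth.Agent.Lib.Helper7.FFDesc
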