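import Mathlib
import Groth.Agent.Lib.Helper25.SupportBaseChange

/-! Finitely generated ideals inside an annihilator cutting out the support after a base change to a
Noetherian ring (for S1276). Uses helper25's `mem_support_baseChange_iff`. -/

set_option autoImplicit false

open TensorProduct

namespace Groth.Agent.Lib.Helper7.FibSupp

variable {B F : Type*} [CommRing B] [CommRing F] [Algebra B F]

theorem exists_fg_le_of_finset (I : Ideal B) (s : Finset F)
    (hs : (s : Set F) ⊆ I.map (algebraMap B F)) :
    ∃ J : Ideal B, J.FG ∧ J ≤ I ∧ (s : Set F) ⊆ J.map (algebraMap B F) := by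
  classical
  induction s using Finset.induction_on with
  | empty => exact ⟨⊥, Submodule.fg_bot, bot_le, by simp⟩
  | insert y s hy ih =>
    have hs' : (s : Set F) ⊆ I.map (algebraMap B F) := fun z hz => hs (by simp [hz])
    obtain ⟨J, hJfg, hJle, hJs⟩ := ih hs'
    have hyI : y ∈ Submodule.span F ((algebraMap B F) '' (I : Set B)) := hs (by simp)
    obtain ⟨T, hT, hyT⟩ := Submodule.mem_span_finite_of_mem_span hyI
    obtain ⟨T', hT', rfl⟩ := Finset.subset_set_image_iff.mp hT
    refine ⟨J ⊔ Ideal.span (T' : Set B), Submodule.FG.sup hJfg ⟨T', rfl⟩,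
      sup_le hJle (Ideal.span_le.mpr hT'), ?_⟩
    intro z hz
    rw [Finset.coe_insert, Set.mem_insert_iff] at hz
    rcases hz with rfl | hz
    · have : (T'.image (algebraMap B F) : Set F) ⊆
          ((J ⊔ Ideal.span (T' : Set B)).map (algebraMap B F) : Ideal F) := by
        intro w hw
        rw [Finset.coe_image] at hw
        obtain ⟨t, ht, rfl⟩ := hw
        exact Ideal.mem_map_of_mem _ (Ideal.mem_sup_right (Ideal.subset_span ht))
      exact (Submodule.span_le.mpr this) hyT
    · exact Ideal.map_mono le_sup_left (hJs hz)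

theorem exists_fg_le_map_eq [IsNoetherianRing F] (I : Ideal B) :
    ∃ J : Ideal B, J.FG ∧ J ≤ I ∧ J.map (algebraMap B F) = I.map (algebraMap B F) := by
  obtain ⟨s, hs⟩ := (IsNoetherian.noetherian (I.map (algebraMap B F)) : (I.map (algebraMap B F)).FG)
  have hsub : (s : Set F) ⊆ I.map (algebraMap B F) := by
    rw [← hs]; exact Submodule.subset_span
  obtain ⟨J, hJfg, hJle, hJs⟩ := exists_fg_le_of_finset I s hsub
  refine ⟨J, hJfg, hJle, le_antisymm (Ideal.map_mono hJle) ?_⟩
  rw [← hs]
  exact Submodule.span_le.mpr hJs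

theorem exists_fg_le_annihilator [IsNoetherianRing F]
    (N : Type*) [AddCommGroup N] [Module B N] [Module.Finite B N] :
    ∃ J : Ideal B, J.FG ∧ J ≤ Module.annihilator B N ∧
      ∀ x : PrimeSpectrum F, J.map (algebraMap B F) ≤ x.asIdeal ↔
        x ∈ Module.support F (F ⊗[B] N) := by
  obtain ⟨J, hJfg, hJle, hJeq⟩ := exists_fg_le_map_eq (F := F) (Module.annihilator B N)
  refine ⟨J, hJfg, hJle, fun x => ?_⟩
  rw [hJeq, Groth.Agent.Lib.Helper25.SupportBaseChange.mem_support_baseChange_iff,
    Module.support_eq_zeroLocus, PrimeSpectrum.mem_zeroLocus, Ideal.map_le_iff_le_comap]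
  rfl

end Groth.Agent.Lib.Helper7.FibSupp
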