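import Groth.Agent.Lib.Helper7.HopfConv
import Mathlib.RingTheory.HopfAlgebra.TensorProduct

/-!
# Convolution powers: composition and base change (helper7)
-/

universe u v w

open TensorProduct

namespace Groth.Agent.Lib.Helper7.HopfConv

open WithConv Bialgebra

section Comp

variable {k : Type*} [CommSemiring k] {E T T' : Type*} [CommSemiring T] [Algebra k T]
  [CommSemiring T'] [Algebra k T'] [Semiring E] [Bialgebra k E]

theorem comp_convPow (h : T →ₐ[k] T') (f : WithConv (E →ₐ[k] T)) (n : ℕ) :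
    h.comp (f ^ n).ofConv = ((toConv (h.comp f.ofConv)) ^ n).ofConv := by
  induction n with
  | zero => rw [pow_zero, pow_zero, comp_convOne]
  | succ n ih =>
    rw [pow_succ, pow_succ, AlgHom.comp_convMul_distrib, ih]

end Comp

section BaseChange

variable {R : Type u} [CommRing R] (S : Type w) [CommRing S] [Algebra R S]
  {A : Type v} [CommRing A] [HopfAlgebra R A]

/-- `a ↦ 1 ⊗ a`. -/
noncomputable abbrev jj : A →ₐ[R] S ⊗[R] A := Algebra.TensorProduct.includeRight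

/-- `Δ_S (1 ⊗ a)` in terms of a general element `d` standing for `Δ a`. -/
noncomputable def bcP (d : A ⊗[R] A) : (S ⊗[R] A) ⊗[S] (S ⊗[R] A) :=
  AlgebraTensorModule.tensorTensorTensorComm R S R S S S A A (((1 : S) ⊗ₜ[S] (1 : S)) ⊗ₜ[R] d)

lemma comul_one_tmul (a : A) :
    Coalgebra.comul (R := S) ((1 : S) ⊗ₜ[R] a : S ⊗[R] A) = bcP S (Coalgebra.comul (R := R) a) := by
  rw [TensorProduct.comul_tmul, CommSemiring.comul_apply]
  rfl

@[simp] lemma bcP_tmul (a b : A) :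
    bcP S (a ⊗ₜ[R] b) = ((1 : S) ⊗ₜ[R] a) ⊗ₜ[S] ((1 : S) ⊗ₜ[R] b) := by
  simp [bcP]

lemma bcP_add (d e : A ⊗[R] A) : bcP S (d + e) = bcP S d + bcP S e := by
  simp [bcP, TensorProduct.tmul_add]

@[simp] lemma bcP_zero : bcP S (0 : A ⊗[R] A) = 0 := by
  simp [bcP]

lemma lift_bcP (P Q : S ⊗[R] A →ₐ[S] S ⊗[R] A) (P' Q' : A →ₐ[R] A)
    (hP : ∀ a, P ((1 : S) ⊗ₜ[R] a) = (1 : S) ⊗ₜ[R] P' a)
    (hQ : ∀ a, Q ((1 : S) ⊗ₜ[R] a) = (1 : S) ⊗ₜ[R] Q' a) (d : A ⊗[R] A) :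
    Algebra.TensorProduct.lift P Q (fun _ _ => Commute.all _ _) (bcP S d) =
      (1 : S) ⊗ₜ[R] (Algebra.TensorProduct.lift P' Q' (fun _ _ => Commute.all _ _) d) := by
  induction d using TensorProduct.induction_on with
  | zero => simp
  | tmul a b =>
    rw [bcP_tmul, Algebra.TensorProduct.lift_tmul, Algebra.TensorProduct.lift_tmul, hP, hQ,
      Algebra.TensorProduct.tmul_mul_tmul, one_mul]
  | add d e hd he => rw [bcP_add, map_add, hd, he, map_add, TensorProduct.tmul_add]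

lemma convMul_one_tmul (P Q : WithConv (S ⊗[R] A →ₐ[S] S ⊗[R] A)) (P' Q' : WithConv (A →ₐ[R] A))
    (hP : ∀ a, P.ofConv ((1 : S) ⊗ₜ[R] a) = (1 : S) ⊗ₜ[R] P'.ofConv a)
    (hQ : ∀ a, Q.ofConv ((1 : S) ⊗ₜ[R] a) = (1 : S) ⊗ₜ[R] Q'.ofConv a) (a : A) :
    (P * Q).ofConv ((1 : S) ⊗ₜ[R] a) = (1 : S) ⊗ₜ[R] (P' * Q').ofConv a := by
  have h1 := AlgHom.convMul_apply P Q ((1 : S) ⊗ₜ[R] a)
  have h2 := AlgHom.convMul_apply P' Q' a
  change (P * Q).ofConv ((1 : S) ⊗ₜ[R] a) = _ at h1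
  change (P' * Q').ofConv a = _ at h2
  rw [h1, h2, comul_one_tmul, lift_bcP S P.ofConv Q.ofConv P'.ofConv Q'.ofConv hP hQ]

/-- convolution powers of the identity commute with base change. -/
theorem convPow_id_one_tmul (n : ℕ) (a : A) :
    ((toConv (AlgHom.id S (S ⊗[R] A))) ^ n).ofConv ((1 : S) ⊗ₜ[R] a) =
      (1 : S) ⊗ₜ[R] ((toConv (AlgHom.id R A)) ^ n).ofConv a := by
  induction n generalizing a with
  | zero =>
    rw [pow_zero, pow_zero]
    change algebraMap S (S ⊗[R] A) (Coalgebra.counit (R := S) ((1 : S) ⊗ₜ[R] a)) =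
      (1 : S) ⊗ₜ[R] (algebraMap R A (Coalgebra.counit (R := R) a))
    rw [TensorProduct.counit_tmul, CommSemiring.counit_apply,
      Algebra.TensorProduct.algebraMap_apply, Algebra.algebraMap_self_apply,
      Algebra.algebraMap_eq_smul_one (A := A), TensorProduct.tmul_smul, TensorProduct.smul_tmul']
  | succ n ih =>
    rw [pow_succ, pow_succ]
    exact convMul_one_tmul S _ _ _ _ ih (fun a => rfl) a

end BaseChange

end Groth.Agent.Lib.Helper7.HopfConv
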