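import Groth.Agent.Lib.Helper7.HopfFiniteBC
import Groth.Agent.Lib.Helper7.HopfConvPow
import Groth.Agent.Lib.Helper7.HopfRegular
import Groth.Agent.Lib.Helper7.GITBasic

/-!
# A finite group scheme over a field is killed by its order (helper7)
-/

universe u v w

open TensorProduct

namespace Groth.Agent.Lib.Helper7.FinOrder

open Groth.Agent.Lib.Helper7.HopfCot Groth.Agent.Lib.Helper7.FrobKer
  Groth.Agent.Lib.Helper7.HopfSub Groth.Agent.Lib.Helper7.HopfConv WithConv

section NilpotentIdeal

variable {k : Type u} [Field k] {L : Type v} [CommRing L] [Algebra k L] [Module.Finite k L]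

/-- an ideal in the Jacobson radical of a finite dimensional algebra is nilpotent of exponent the
dimension. -/
theorem pow_finrank_eq_bot (𝔪 : Ideal L) (h𝔪 : 𝔪 ≤ Ideal.jacobson ⊥) :
    𝔪 ^ Module.finrank k L = ⊥ := by
  haveI : IsNoetherianRing L := IsNoetherianRing.of_finite k L
  have key : ∀ i : ℕ, 𝔪 ^ i = ⊥ ∨
      Module.finrank k ↥((𝔪 ^ i).restrictScalars k) + i ≤ Module.finrank k L := by
    intro i
    induction i with
    | zero =>
      right
      rw [pow_zero, Ideal.one_eq_top, Submodule.restrictScalars_top, finrank_top, add_zero]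
    | succ i ih =>
      rcases ih with h | h
      · left
        rw [pow_succ, h, Ideal.bot_mul]
      · by_cases heq : 𝔪 ^ (i + 1) = 𝔪 ^ i
        · left
          have hb : 𝔪 ^ i = ⊥ := by
            apply Submodule.eq_bot_of_le_smul_of_le_jacobson_bot 𝔪 (𝔪 ^ i)
              (IsNoetherian.noetherian _) _ h𝔪
            rw [smul_eq_mul, ← pow_succ', heq]
          rw [heq, hb]
        · right
          have hlt : (𝔪 ^ (i + 1)).restrictScalars k < (𝔪 ^ i).restrictScalars k := by
            refine lt_of_le_of_ne (fun x hx => Ideal.pow_le_pow_right (Nat.le_succ i) hx) ?_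
            intro h'
            apply heq
            exact Submodule.restrictScalars_injective k _ _ h'
          have := Submodule.finrank_lt_finrank_of_lt hlt
          omega
  rcases key (Module.finrank k L) with h | h
  · exact h
  · have h0 : Module.finrank k ↥((𝔪 ^ Module.finrank k L).restrictScalars k) = 0 := by omega
    have := Submodule.finrank_eq_zero.1 h0
    exact (Submodule.restrictScalars_eq_bot_iff k L L).1 this

end NilpotentIdeal

section ConvIdeal

variable {k : Type u} [Field k] {A : Type v} [CommRing A] [Bialgebra k A]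
  {L : Type w} [CommRing L] [Algebra k L]

lemma convMul_mem (I J : Ideal L) (f g : WithConv (A →ₗ[k] L)) (hf : ∀ a, f.ofConv a ∈ I)
    (hg : ∀ a, g.ofConv a ∈ J) (a : A) : (f * g).ofConv a ∈ I * J := by
  change (f * g) a ∈ I * J
  rw [LinearMap.convMul_apply]
  generalize Coalgebra.comul (R := k) a = z
  induction z using TensorProduct.induction_on with
  | zero => simp
  | tmul x y =>
    rw [TensorProduct.map_tmul, LinearMap.mul'_apply]
    exact Ideal.mul_mem_mul (hf x) (hg y)
  | add y z hy hz =>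
    rw [map_add, map_add]
    exact Ideal.add_mem _ hy hz

lemma convPow_mem (I : Ideal L) (f : WithConv (A →ₗ[k] L)) (hf : ∀ a, f.ofConv a ∈ I) :
    ∀ (j : ℕ) (a : A), (f ^ j).ofConv a ∈ I ^ j := by
  intro j
  induction j with
  | zero =>
    intro a
    rw [pow_zero, Ideal.one_eq_top]
    trivial
  | succ j ih =>
    intro a
    rw [pow_succ, pow_succ]
    exact convMul_mem _ _ _ _ ih hf a

end ConvIdeal

section LocalKill

variable {k : Type u} [Field k] {A : Type v} [CommRing A] [Bialgebra k A]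
  {L : Type w} [CommRing L] [Algebra k L] [Module.Finite k L]

/-- a point of `G` with values in an augmented finite local algebra `L` reducing to the unit
is killed by `dim L` when this is a power of the characteristic exponent. -/
theorem convPow_eq_one_of_augmented (π : L →ₐ[k] k) (hπ : ∀ l, π l = 0 → IsNilpotent l)
    (h : A →ₐ[k] L) (hh : ∀ a, π (h a) = Coalgebra.counit (R := k) a)
    (p : ℕ) [ExpChar k p] (r : ℕ) (hq : Module.finrank k L = p ^ r) :
    (toConv h) ^ (Module.finrank k L) = 1 := by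
  haveI : Nontrivial L := ⟨⟨0, 1, fun h0 => by
    have := congrArg π h0
    rw [map_zero, map_one] at this
    exact zero_ne_one this⟩⟩
  set 𝔪 : Ideal L := RingHom.ker π with h𝔪def
  have h𝔪 : 𝔪 ≤ Ideal.jacobson ⊥ := fun l hl =>
    Ideal.radical_le_jacobson (mem_nilradical.2 (hπ l hl))
  have h𝔪q := pow_finrank_eq_bot (k := k) 𝔪 h𝔪
  haveI : Nontrivial (WithConv (A →ₗ[k] L)) := ⟨⟨0, 1, fun h0 => by
    have := congrArg (fun f : WithConv (A →ₗ[k] L) => f.ofConv 1) h0
    simp only [WithConv.ofConv_zero, LinearMap.zero_apply] at this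
    have h1 : (1 : WithConv (A →ₗ[k] L)).ofConv 1 = 1 := by
      change (1 : WithConv (A →ₗ[k] L)) (1 : A) = 1
      rw [LinearMap.convOne_apply, Bialgebra.counit_one, map_one]
    rw [h1] at this
    exact zero_ne_one this⟩⟩
  haveI : ExpChar (WithConv (A →ₗ[k] L)) p :=
    expChar_of_injective_algebraMap (algebraMap k (WithConv (A →ₗ[k] L))).injective p
  set H : WithConv (A →ₗ[k] L) := toConv h.toLinearMap with hHdef
  set ν : WithConv (A →ₗ[k] L) := H - 1 with hνdef
  have hν : ∀ a, ν.ofConv a ∈ 𝔪 := by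
    intro a
    rw [h𝔪def, RingHom.mem_ker]
    have : ν.ofConv a = h a - algebraMap k L (Coalgebra.counit (R := k) a) := rfl
    rw [this, map_sub, hh, AlgHom.commutes, Algebra.algebraMap_self_apply, sub_self]
  have hHq : H ^ (p ^ r) = 1 := by
    have e : H = 1 + ν := by rw [hνdef]; abel
    rw [e, add_pow_expChar_pow_of_commute p r (Commute.one_left ν), one_pow]
    have : ν ^ (p ^ r) = 0 := by
      apply WithConv.ext
      apply LinearMap.ext
      intro a
      have := convPow_mem 𝔪 ν hν (p ^ r) a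
      have h2 : 𝔪 ^ (p ^ r) = ⊥ := by rw [← hq]; exact h𝔪q
      rw [h2, Ideal.mem_bot] at this
      exact this
    rw [this, add_zero]
  apply WithConv.ofConv_injective
  apply AlgHom.toLinearMap_injective
  apply WithConv.toConv_injective
  rw [AlgHom.toLinearMap_convPow, AlgHom.toLinearMap_convOne, hq]
  exact hHq

end LocalKill

section QuotAug

variable {k : Type u} [Field k] {A : Type v} [CommRing A] [Algebra k A]

/-- the augmentation of `A/(ker χ)^N` induced by `χ`. -/
noncomputable def quotAug (χ : A →ₐ[k] k) (N : ℕ) (hN : 1 ≤ N) :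
    (A ⧸ (RingHom.ker χ) ^ N) →ₐ[k] k :=
  Ideal.Quotient.liftₐ _ χ (fun a ha =>
    RingHom.mem_ker.1 (Ideal.pow_le_self (Nat.one_le_iff_ne_zero.1 hN) ha))

lemma quotAug_mk (χ : A →ₐ[k] k) (N : ℕ) (hN : 1 ≤ N) (a : A) :
    quotAug χ N hN (Ideal.Quotient.mk _ a) = χ a := rfl

lemma isNilpotent_of_quotAug_eq_zero (χ : A →ₐ[k] k) (N : ℕ) (hN : 1 ≤ N)
    (l : A ⧸ (RingHom.ker χ) ^ N) (hl : quotAug χ N hN l = 0) : IsNilpotent l := by
  obtain ⟨a, rfl⟩ := Ideal.Quotient.mk_surjective l
  refine ⟨N, ?_⟩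
  have ha : a ∈ RingHom.ker χ := by
    rw [RingHom.mem_ker]
    exact hl
  rw [← map_pow, Ideal.Quotient.eq_zero_iff_mem]
  exact Ideal.pow_mem_pow ha N

/-- the tensor product of two augmented algebras with nil augmentation ideals. -/
lemma sub_aug_mem_nilradical {L₁ : Type v} {L₂ : Type w} [CommRing L₁] [CommRing L₂]
    [Algebra k L₁] [Algebra k L₂] (ε₁ : L₁ →ₐ[k] k) (ε₂ : L₂ →ₐ[k] k)
    (h₁ : ∀ l, ε₁ l = 0 → IsNilpotent l) (h₂ : ∀ l, ε₂ l = 0 → IsNilpotent l)
    (z : L₁ ⊗[k] L₂) :
    z - algebraMap k (L₁ ⊗[k] L₂)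
      ((Algebra.TensorProduct.lmul' k).comp (Algebra.TensorProduct.map ε₁ ε₂) z) ∈
        nilradical (L₁ ⊗[k] L₂) := by
  induction z using TensorProduct.induction_on with
  | zero => simp
  | tmul u v =>
    have e : u ⊗ₜ[k] v - algebraMap k (L₁ ⊗[k] L₂)
        ((Algebra.TensorProduct.lmul' k).comp (Algebra.TensorProduct.map ε₁ ε₂) (u ⊗ₜ[k] v)) =
        (u - algebraMap k L₁ (ε₁ u)) ⊗ₜ[k] v +
          (algebraMap k L₁ (ε₁ u)) ⊗ₜ[k] (v - algebraMap k L₂ (ε₂ v)) := by
      rw [AlgHom.comp_apply, Algebra.TensorProduct.map_tmul, Algebra.TensorProduct.lmul'_apply_tmul,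
        TensorProduct.sub_tmul, TensorProduct.tmul_sub, Algebra.TensorProduct.algebraMap_apply,
        map_mul]
      have key : ((algebraMap k L₁) (ε₁ u) * (algebraMap k L₁) (ε₂ v)) ⊗ₜ[k] (1 : L₂) =
          (algebraMap k L₁) (ε₁ u) ⊗ₜ[k] (algebraMap k L₂) (ε₂ v) := by
        rw [Algebra.algebraMap_eq_smul_one (A := L₁) (ε₂ v),
          Algebra.algebraMap_eq_smul_one (A := L₂) (ε₂ v), mul_smul_comm, mul_one,
          TensorProduct.smul_tmul]
      rw [key]
      abel
    rw [e]
    refine Ideal.add_mem _ ?_ ?_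
    · rw [mem_nilradical]
      obtain ⟨n, hn⟩ := h₁ (u - algebraMap k L₁ (ε₁ u)) (by
        rw [map_sub, AlgHom.commutes, Algebra.algebraMap_self_apply, sub_self])
      exact ⟨n, by rw [Algebra.TensorProduct.tmul_pow, hn, TensorProduct.zero_tmul]⟩
    · rw [mem_nilradical]
      obtain ⟨n, hn⟩ := h₂ (v - algebraMap k L₂ (ε₂ v)) (by
        rw [map_sub, AlgHom.commutes, Algebra.algebraMap_self_apply, sub_self])
      exact ⟨n, by rw [Algebra.TensorProduct.tmul_pow, hn, TensorProduct.tmul_zero]⟩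
  | add z₁ z₂ hz₁ hz₂ =>
    have e : z₁ + z₂ - algebraMap k (L₁ ⊗[k] L₂)
        ((Algebra.TensorProduct.lmul' k).comp (Algebra.TensorProduct.map ε₁ ε₂) (z₁ + z₂)) =
        (z₁ - algebraMap k (L₁ ⊗[k] L₂)
          ((Algebra.TensorProduct.lmul' k).comp (Algebra.TensorProduct.map ε₁ ε₂) z₁)) +
        (z₂ - algebraMap k (L₁ ⊗[k] L₂)
          ((Algebra.TensorProduct.lmul' k).comp (Algebra.TensorProduct.map ε₁ ε₂) z₂)) := by
      rw [map_add, map_add]; ring
    rw [e]
    exact Ideal.add_mem _ hz₁ hz₂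

end QuotAug

section Identity

variable {k : Type u} [Field k] {A : Type v} [CommRing A] [HopfAlgebra k A] [Module.Finite k A]

omit [HopfAlgebra k A] in
lemma exists_pow_stable [Algebra k A] [Module.Finite k A] (I : Ideal A) :
    ∃ N₀ : ℕ, ∀ j, N₀ ≤ j → I ^ j = I ^ N₀ := by
  haveI : IsArtinianRing A := IsArtinianRing.of_finite k A
  obtain ⟨N₀, hN₀⟩ := IsArtinian.monotone_stabilizes (R := A) (M := A)
    ⟨fun j => OrderDual.toDual (I ^ j), fun a b hab => Ideal.pow_le_pow_right hab⟩
  exact ⟨N₀, fun j hj => (congrArg OrderDual.ofDual (hN₀ j hj)).symm⟩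

omit [Module.Finite k A] in
lemma lmul'_map_counit (z : A ⊗[k] A) :
    Algebra.TensorProduct.lmul' k
        (Algebra.TensorProduct.map (Bialgebra.counitAlgHom k A) (Bialgebra.counitAlgHom k A) z) =
      Coalgebra.counit (R := k) (Algebra.TensorProduct.rid k k A
        (Algebra.TensorProduct.map (AlgHom.id k A) (Bialgebra.counitAlgHom k A) z)) := by
  induction z using TensorProduct.induction_on with
  | zero => simp
  | tmul x y => simp [mul_comm]
  | add y z hy hz => simp only [map_add, hy, hz]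

omit [Module.Finite k A] in
lemma lmul'_map_counit_comul (a : A) :
    Algebra.TensorProduct.lmul' k
        (Algebra.TensorProduct.map (Bialgebra.counitAlgHom k A) (Bialgebra.counitAlgHom k A)
          (Coalgebra.comul (R := k) a)) = Coalgebra.counit (R := k) a := by
  rw [lmul'_map_counit]
  have h := Coalgebra.lTensor_counit_comul (R := k) a
  have h2 : Algebra.TensorProduct.map (AlgHom.id k A) (Bialgebra.counitAlgHom k A)
      (Coalgebra.comul (R := k) a) = a ⊗ₜ[k] (1 : k) := h
  rw [h2]
  simp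

/-- the ideal of the identity component is a Hopf ideal. -/
theorem isHopfIdeal_augI_pow (N : ℕ) (hN : 1 ≤ N)
    (hstab : ∀ j, N ≤ j → augI k A ^ j = augI k A ^ N) : (augI k A ^ N).IsHopfIdeal k := by
  set K : Ideal A := augI k A ^ N with hK
  let εb : (A ⧸ K) →ₐ[k] k := quotAug (Bialgebra.counitAlgHom k A) N hN
  have hεb : ∀ l, εb l = 0 → IsNilpotent l :=
    isNilpotent_of_quotAug_eq_zero (Bialgebra.counitAlgHom k A) N hN
  let augD : (A ⧸ K) ⊗[k] (A ⧸ K) →ₐ[k] k :=
    (Algebra.TensorProduct.lmul' k).comp (Algebra.TensorProduct.map εb εb)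
  let ρ : A →ₐ[k] (A ⧸ K) ⊗[k] (A ⧸ K) :=
    (Algebra.TensorProduct.map (Ideal.Quotient.mkₐ k K) (Ideal.Quotient.mkₐ k K)).comp
      (Bialgebra.comulAlgHom k A)
  have hρ : ∀ a, augD (ρ a) = Coalgebra.counit (R := k) a := by
    intro a
    have h1 : (Algebra.TensorProduct.map εb εb).comp
        (Algebra.TensorProduct.map (Ideal.Quotient.mkₐ k K) (Ideal.Quotient.mkₐ k K)) =
        Algebra.TensorProduct.map (Bialgebra.counitAlgHom k A) (Bialgebra.counitAlgHom k A) := by
      rw [← Algebra.TensorProduct.map_comp]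
      rfl
    have h2 : augD (ρ a) = Algebra.TensorProduct.lmul' k
        (((Algebra.TensorProduct.map εb εb).comp
          (Algebra.TensorProduct.map (Ideal.Quotient.mkₐ k K) (Ideal.Quotient.mkₐ k K)))
            (Coalgebra.comul (R := k) a)) := rfl
    rw [h2, h1, lmul'_map_counit_comul]
  set 𝔫 : Ideal ((A ⧸ K) ⊗[k] (A ⧸ K)) := RingHom.ker augD with h𝔫def
  have h𝔫 : 𝔫 ≤ Ideal.jacobson ⊥ := by
    intro z hz
    have := sub_aug_mem_nilradical εb εb hεb hεb z
    have hz0 : augD z = 0 := hz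
    have hz' : (Algebra.TensorProduct.lmul' k).comp (Algebra.TensorProduct.map εb εb) z = 0 := hz0
    rw [hz', map_zero, sub_zero] at this
    exact Ideal.radical_le_jacobson this
  have h𝔫q := pow_finrank_eq_bot (k := k) 𝔫 h𝔫
  have hρK : ∀ x ∈ K, ρ x = 0 := by
    intro x hx
    set j := N + Module.finrank k ((A ⧸ K) ⊗[k] (A ⧸ K)) with hj
    have hxj : x ∈ augI k A ^ j := by rw [hstab j (by omega)]; exact hx
    have h1 : ρ x ∈ (augI k A ^ j).map ρ := Ideal.mem_map_of_mem ρ hxj
    rw [Ideal.map_pow] at h1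
    have h2 : (augI k A).map ρ ≤ 𝔫 := by
      rw [Ideal.map_le_iff_le_comap]
      intro a ha
      rw [Ideal.mem_comap, h𝔫def, RingHom.mem_ker, hρ]
      exact (mem_augI a).1 ha
    have h3 : ((augI k A).map ρ) ^ j ≤ 𝔫 ^ Module.finrank k ((A ⧸ K) ⊗[k] (A ⧸ K)) :=
      (Ideal.pow_right_mono h2 j).trans (Ideal.pow_le_pow_right (by omega))
    have h4 := h3 h1
    rwa [h𝔫q, Ideal.mem_bot] at h4
  have hKI : K ≤ augI k A := Ideal.pow_le_self (Nat.one_le_iff_ne_zero.1 hN)
  refine { counit_eq_zero := ?_, map_mkQ_comul_eq_zero := ?_, antipode_mem := ?_ }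
  · intro x hx
    exact (mem_augI x).1 (hKI hx)
  · intro x hx
    exact hρK x hx
  · intro x hx
    have h1 : (HopfAlgebra.antipodeAlgHom k A) x ∈ K.map (HopfAlgebra.antipodeAlgHom k A) :=
      Ideal.mem_map_of_mem _ hx
    rw [hK, Ideal.map_pow] at h1
    have h2 : (augI k A).map (HopfAlgebra.antipodeAlgHom k A) ≤ augI k A := by
      rw [Ideal.map_le_iff_le_comap]
      intro a ha
      rw [Ideal.mem_comap, mem_augI, HopfAlgebra.antipodeAlgHom_apply, HopfAlgebra.counit_antipode]
      exact (mem_augI a).1 ha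
    exact Ideal.pow_right_mono h2 N h1

end Identity

section Components

variable {k : Type u} [Field k] {A : Type v} [CommRing A] [HopfAlgebra k A] [Module.Finite k A]

/-- the order of the identity component is a power of the characteristic exponent. -/
lemma exists_finrank_quot_augI_pow (N : ℕ) (hN : 1 ≤ N)
    (hstab : ∀ j, N ≤ j → augI k A ^ j = augI k A ^ N) :
    ∃ r : ℕ, Module.finrank k (A ⧸ augI k A ^ N) = ringExpChar k ^ r := by
  haveI := isHopfIdeal_augI_pow N hN hstab
  haveI : IsLocalRing (A ⧸ augI k A ^ N) :=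
    isLocalRing_of_augmentation (quotAug (Bialgebra.counitAlgHom k A) N hN)
      (isNilpotent_of_quotAug_eq_zero _ N hN)
  exact exists_finrank_eq_ringExpChar_pow k (A ⧸ augI k A ^ N)

omit [Module.Finite k A] in
/-- all components have the same order. -/
lemma finrank_quot_ker_pow (χ : A →ₐ[k] k) (N : ℕ) :
    Module.finrank k (A ⧸ RingHom.ker χ ^ N) = Module.finrank k (A ⧸ augI k A ^ N) := by
  let τ : A ≃ₐ[k] A := AlgEquiv.ofBijective (HopfReg.transl χ) (HopfReg.transl_bijective χ)
  have h1 : (augI k A).comap (τ : A →+* A) = RingHom.ker χ := HopfReg.comap_translEquiv χ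
  have h2 : (RingHom.ker χ).map (τ : A →+* A) = augI k A := by
    rw [← h1]
    exact Ideal.map_comap_of_surjective _ τ.surjective _
  have h3 : augI k A ^ N = (RingHom.ker χ ^ N).map (τ : A →+* A) := by
    rw [Ideal.map_pow, h2]
  exact (Ideal.quotientEquivAlg _ _ τ h3).toLinearEquiv.finrank_eq

end Components

section AlgClosed

open Groth.Agent.Lib.Helper7.Comod

variable {k : Type u} [Field k] [IsAlgClosed k] {A : Type v} [CommRing A] [HopfAlgebra k A]
  [Module.Finite k A]

omit [IsAlgClosed k] [HopfAlgebra k A] [Module.Finite k A] in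
lemma ker_injective [Algebra k A] (χ χ' : A →ₐ[k] k) (h : RingHom.ker χ = RingHom.ker χ') :
    χ = χ' := by
  apply AlgHom.ext
  intro a
  have h1 : a - algebraMap k A (χ a) ∈ RingHom.ker χ := by
    rw [RingHom.mem_ker, map_sub, AlgHom.commutes, Algebra.algebraMap_self_apply, sub_self]
  rw [h, RingHom.mem_ker, map_sub, AlgHom.commutes, Algebra.algebraMap_self_apply,
    sub_eq_zero] at h1
  exact h1.symm

/-- a finite group scheme over an algebraically closed field is killed by its order. -/
theorem convPow_id_finrank_of_isAlgClosed :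
    (toConv (AlgHom.id k A)) ^ (Module.finrank k A) = 1 := by
  classical
  haveI : Algebra.FiniteType k A := inferInstance
  haveI : IsArtinianRing A := IsArtinianRing.of_finite k A
  haveI : IsNoetherianRing A := IsNoetherianRing.of_finite k A
  obtain ⟨N₀, hN₀⟩ := exists_pow_stable (k := k) (augI k A)
  obtain ⟨N₁, hN₁⟩ := IsArtinianRing.isNilpotent_nilradical (R := A)
  set N := N₀ + N₁ + 1 with hNdef
  have hN : 1 ≤ N := by omega
  have hstab : ∀ j, N ≤ j → augI k A ^ j = augI k A ^ N := fun j hj => by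
    rw [hN₀ j (by omega), hN₀ N (by omega)]
  have hnil : nilradical A ^ N = ⊥ := by
    have : nilradical A ^ N = nilradical A ^ N₁ * nilradical A ^ (N₀ + 1) := by
      rw [← pow_add]
      congr 1
      omega
    rw [this, hN₁, Ideal.zero_eq_bot, Ideal.bot_mul]
  let f : (A →ₐ[k] k) → Ideal A := fun χ => RingHom.ker χ ^ N
  have hinf : ⨅ χ, f χ = ⊥ := by
    rw [eq_bot_iff, ← hnil, IsArtinianRing.nilradical_pow_eq_iInf]
    refine le_iInf (fun M => ?_)
    obtain ⟨χ, hχ⟩ := exists_algHom_of_ne_top (k := k) M.asIdeal M.isMaximal.ne_top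
    have : M.asIdeal = RingHom.ker χ := M.isMaximal.eq_of_le (RingHom.ker_ne_top _) hχ
    rw [this]
    exact iInf_le f χ
  obtain ⟨r, hr⟩ := exists_finrank_quot_augI_pow (k := k) (A := A) N hN hstab
  have hq : ∀ χ : A →ₐ[k] k, Module.finrank k (A ⧸ f χ) = ringExpChar k ^ r := fun χ => by
    rw [finrank_quot_ker_pow, hr]
  have hmax : ∀ χ : A →ₐ[k] k, (RingHom.ker χ).IsMaximal := fun χ =>
    RingHom.ker_isMaximal_of_surjective _ (fun c => ⟨algebraMap k A c, by simp⟩)
  have hcop : Pairwise (Function.onFun IsCoprime f) := by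
    intro χ χ' hne
    apply IsCoprime.pow
    rw [Ideal.isCoprime_iff_sup_eq]
    exact (hmax χ).coprime_of_ne (hmax χ') (fun heq => hne (ker_injective χ χ' heq))
  haveI : Finite (A →ₐ[k] k) := inferInstance
  have hdim : Module.finrank k A = Nat.card (A →ₐ[k] k) * ringExpChar k ^ r := by
    let Φ : A →ₗ[k] (∀ χ : A →ₐ[k] k, A ⧸ f χ) :=
      LinearMap.pi (fun χ => (Ideal.Quotient.mkₐ k (f χ)).toLinearMap)
    have hΦi : Function.Injective Φ := by
      rw [← LinearMap.ker_eq_bot, LinearMap.ker_eq_bot']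
      intro a ha
      have : a ∈ ⨅ χ, f χ := by
        rw [Ideal.mem_iInf]
        intro χ
        have := congrFun ha χ
        exact Ideal.Quotient.eq_zero_iff_mem.1 this
      rwa [hinf, Ideal.mem_bot] at this
    have hΦs : Function.Surjective Φ := by
      intro y
      obtain ⟨a, ha⟩ := Ideal.pi_quotient_surjective hcop y
      exact ⟨a, funext ha⟩
    haveI := Fintype.ofFinite (A →ₐ[k] k)
    rw [(LinearEquiv.ofBijective Φ ⟨hΦi, hΦs⟩).finrank_eq, Module.finrank_pi_fintype]
    simp only [hq, Finset.sum_const, Finset.card_univ, smul_eq_mul, Nat.card_eq_fintype_card]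
  have hgrp : ∀ χ : A →ₐ[k] k,
      (toConv χ : WithConv (A →ₐ[k] k)) ^ Nat.card (A →ₐ[k] k) = 1 := by
    intro χ
    haveI : Finite (WithConv (A →ₐ[k] k)) := Finite.of_equiv _ (WithConv.equiv _).symm
    have := pow_card_eq_one' (G := WithConv (A →ₐ[k] k)) (x := toConv χ)
    rwa [Nat.card_congr (WithConv.equiv (A →ₐ[k] k))] at this
  haveI : ExpChar k (ringExpChar k) := ringExpChar.expChar k
  have hloc : ∀ χ : A →ₐ[k] k,
      (toConv (Ideal.Quotient.mkₐ k (f χ))) ^ (Module.finrank k A) = 1 := by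
    intro χ
    have hh : ∀ a, quotAug χ N hN
        (((toConv (Ideal.Quotient.mkₐ k (f χ))) ^ Nat.card (A →ₐ[k] k)).ofConv a) =
          Coalgebra.counit (R := k) a := by
      intro a
      have h1 := comp_convPow (quotAug χ N hN) (toConv (Ideal.Quotient.mkₐ k (f χ)))
        (Nat.card (A →ₐ[k] k))
      have h2 : (quotAug χ N hN).comp (toConv (Ideal.Quotient.mkₐ k (f χ))).ofConv = χ :=
        AlgHom.ext (fun a => rfl)
      rw [h2, hgrp] at h1
      have := congrArg (fun F : A →ₐ[k] k => F a) h1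
      exact this
    have := convPow_eq_one_of_augmented (quotAug χ N hN)
      (isNilpotent_of_quotAug_eq_zero χ N hN) _ hh (ringExpChar k) r (hq χ)
    rw [hdim, pow_mul, ← hq χ]
    exact this
  apply WithConv.ext
  apply AlgHom.ext
  intro a
  rw [← sub_eq_zero]
  have hmem : ((toConv (AlgHom.id k A)) ^ (Module.finrank k A)).ofConv a -
      (1 : WithConv (A →ₐ[k] A)).ofConv a ∈ ⨅ χ, f χ := by
    rw [Ideal.mem_iInf]
    intro χ
    rw [← Ideal.Quotient.eq_zero_iff_mem, map_sub, sub_eq_zero]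
    have h1 := comp_convPow (Ideal.Quotient.mkₐ k (f χ)) (toConv (AlgHom.id k A))
      (Module.finrank k A)
    have h2 : (Ideal.Quotient.mkₐ k (f χ)).comp (toConv (AlgHom.id k A)).ofConv =
        Ideal.Quotient.mkₐ k (f χ) := AlgHom.ext (fun a => rfl)
    rw [h2, hloc χ] at h1
    have h3 := congrArg (fun F : A →ₐ[k] A ⧸ f χ => F a) h1
    have h4 := congrArg (fun F : A →ₐ[k] A ⧸ f χ => F a)
      (comp_convOne (E := A) (Ideal.Quotient.mkₐ k (f χ)))
    exact h3.trans h4.symm
  rwa [hinf, Ideal.mem_bot] at hmem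

end AlgClosed

section Field

variable (k : Type u) [Field k] (A : Type v) [CommRing A] [HopfAlgebra k A] [Module.Finite k A]

/-- SGA3 VII_A 8.5: a finite group scheme over a field is killed by its order. -/
theorem convPow_id_finrank : (toConv (AlgHom.id k A)) ^ (Module.finrank k A) = 1 := by
  apply WithConv.ext
  apply AlgHom.ext
  intro a
  have hinj : Function.Injective
      (Algebra.TensorProduct.includeRight : A →ₐ[k] AlgebraicClosure k ⊗[k] A) :=
    Algebra.TensorProduct.includeRight_injective (algebraMap k (AlgebraicClosure k)).injective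
  apply hinj
  have h1 := convPow_id_one_tmul (AlgebraicClosure k) (R := k) (A := A) (Module.finrank k A) a
  have h2 := convPow_id_one_tmul (AlgebraicClosure k) (R := k) (A := A) 0 a
  rw [pow_zero, pow_zero] at h2
  have h3 := convPow_id_finrank_of_isAlgClosed (k := AlgebraicClosure k)
    (A := AlgebraicClosure k ⊗[k] A)
  rw [Module.finrank_baseChange] at h3
  rw [h3] at h1
  exact h1.symm.trans h2

end Field

end Groth.Agent.Lib.Helper7.FinOrder
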