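import Groth.Agent.Lib.Helper7.ComodPoints
import Mathlib.RingTheory.HopfAlgebra.Quotient

/-!
# The fixer of a vector of a comodule is cut out by a Hopf ideal (helper7)

* `Fixes k g v`: the `R`-point `g : A →ₐ[k] R` fixes `v`.
* `fixI v`: the ideal generated by the coefficients of `ρ v - v ⊗ 1`.
* `fixes_iff`: `g` fixes `v` iff `g` kills `fixI v`.
* `isHopfIdeal_fixI`.
-/

set_option autoImplicit false

universe u v w

open TensorProduct

namespace Groth.Agent.Lib.Helper7.FixIdeal

open HopfRep Groth.Agent.Lib.Helper7.Comod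

variable {k : Type u} [Field k] {A : Type v} [CommRing A] [HopfAlgebra k A]
variable {V : Type w} [AddCommGroup V] [Module k V] [Comod k A V]

variable (k) in
/-- the `R`-point `g` fixes `v`. -/
def Fixes {R : Type v} [CommRing R] [Algebra k R] (g : A →ₐ[k] R) (v : V) : Prop :=
  LinearMap.lTensor V g.toLinearMap (Comod.coact (k := k) (A := A) v) = v ⊗ₜ[k] (1 : R)

variable (k A) in
/-- the ideal of the fixer of `v`. -/
noncomputable def fixI (v : V) : Ideal A :=
  Ideal.span (Set.range fun φ : V →ₗ[k] k =>
    contrL A φ (Comod.coact (k := k) (A := A) v) - algebraMap k A (φ v))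

theorem fixes_iff {R : Type v} [CommRing R] [Algebra k R] (g : A →ₐ[k] R) (v : V) :
    Fixes k g v ↔ fixI k A v ≤ RingHom.ker (g : A →+* R) := by
  unfold Fixes fixI
  rw [Ideal.span_le]
  constructor
  · rintro h _ ⟨φ, rfl⟩
    rw [SetLike.mem_coe, RingHom.mem_ker]
    change g _ = 0
    rw [map_sub, AlgHom.commutes]
    have := congrArg (contrL R φ) h
    rw [contrL_lTensor, contrL_tmul] at this
    change g _ = _ at this
    rw [this, Algebra.algebraMap_eq_smul_one, sub_self]
  · intro h
    rw [← sub_eq_zero]
    apply eq_zero_of_forall_contrL_eq_zero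
    intro φ
    rw [map_sub, contrL_lTensor, contrL_tmul]
    have := h ⟨φ, rfl⟩
    rw [SetLike.mem_coe, RingHom.mem_ker] at this
    change g _ = 0 at this
    rw [map_sub, AlgHom.commutes, sub_eq_zero] at this
    change g _ - _ = 0
    rw [this, Algebra.algebraMap_eq_smul_one, sub_self]

lemma fixes_mk (v : V) : Fixes k (Ideal.Quotient.mkₐ k (fixI k A v)) v := by
  rw [fixes_iff]
  intro x hx
  rw [RingHom.mem_ker]
  exact Ideal.Quotient.eq_zero_iff_mem.2 hx

lemma fixes_mk_iff (I : Ideal A) (v : V) : Fixes k (Ideal.Quotient.mkₐ k I) v ↔ fixI k A v ≤ I := by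
  rw [fixes_iff]
  have : RingHom.ker ((Ideal.Quotient.mkₐ k I : A →ₐ[k] A ⧸ I) : A →+* A ⧸ I) = I := by
    ext x
    rw [RingHom.mem_ker]
    exact Ideal.Quotient.eq_zero_iff_mem
  rw [this]

section Closure

variable {R : Type v} [CommRing R] [Algebra k R]

/-- two-step coaction through a pair of points. -/
lemma lTensor_map_assoc (g h : A →ₐ[k] R) (x : V ⊗[k] A) :
    LinearMap.lTensor V (Algebra.TensorProduct.map g h).toLinearMap
      ((TensorProduct.assoc k V A A) (LinearMap.rTensor A (Comod.coact (k := k) (A := A)) x)) =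
    (TensorProduct.assoc k V R R) (LinearMap.rTensor R
      (LinearMap.lTensor V g.toLinearMap ∘ₗ Comod.coact (k := k) (A := A))
        (LinearMap.lTensor V h.toLinearMap x)) := by
  induction x using TensorProduct.induction_on with
  | zero => simp
  | add y z hy hz => simp only [map_add, hy, hz]
  | tmul u a =>
    simp only [LinearMap.rTensor_tmul, LinearMap.lTensor_tmul, LinearMap.comp_apply]
    generalize Comod.coact (k := k) (A := A) u = y
    induction y using TensorProduct.induction_on with
    | zero => simp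
    | add y z hy hz => simp only [map_add, TensorProduct.add_tmul, hy, hz]
    | tmul u' b => simp

/-- the product of two points fixing `v` fixes `v`. -/
lemma fixes_mul (g h : A →ₐ[k] R) (v : V) (hg : Fixes k g v) (hh : Fixes k h v) :
    LinearMap.lTensor V ((Algebra.TensorProduct.map g h).comp
      (Bialgebra.comulAlgHom k A)).toLinearMap (Comod.coact (k := k) (A := A) v) =
      v ⊗ₜ[k] ((1 : R) ⊗ₜ[k] (1 : R)) := by
  have h1 : LinearMap.lTensor V ((Algebra.TensorProduct.map g h).comp
      (Bialgebra.comulAlgHom k A)).toLinearMap (Comod.coact (k := k) (A := A) v) =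
      LinearMap.lTensor V (Algebra.TensorProduct.map g h).toLinearMap
        (LinearMap.lTensor V (Coalgebra.comul (R := k) (A := A))
          (Comod.coact (k := k) (A := A) v)) := by
    have : ((Algebra.TensorProduct.map g h).comp (Bialgebra.comulAlgHom k A)).toLinearMap =
        (Algebra.TensorProduct.map g h).toLinearMap ∘ₗ Coalgebra.comul (R := k) (A := A) := rfl
    rw [this, LinearMap.lTensor_comp_apply]
  have h2 := LinearMap.congr_fun (Comod.coassoc (k := k) (A := A) (V := V)) v
  simp only [LinearMap.comp_apply] at h2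
  rw [h1, ← h2]
  erw [lTensor_map_assoc g h]
  unfold Fixes at hg hh
  rw [hh, LinearMap.rTensor_tmul, LinearMap.comp_apply, hg]
  simp

lemma lTensor_mul'_assoc_tmul_one (y : V ⊗[k] R) :
    LinearMap.lTensor V (LinearMap.mul' k R) ((TensorProduct.assoc k V R R) (y ⊗ₜ[k] (1 : R))) = y := by
  induction y using TensorProduct.induction_on with
  | zero => simp
  | add y z hy hz => simp only [map_add, TensorProduct.add_tmul, hy, hz]
  | tmul u b => simp

lemma fixes_of_conv_eq (gS g : A →ₐ[k] R) (v : V)
    (key : (LinearMap.mul' k R) ∘ₗ (Algebra.TensorProduct.map gS g).toLinearMap ∘ₗ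
      Coalgebra.comul (R := k) (A := A) = Algebra.linearMap k R ∘ₗ Coalgebra.counit (R := k) (A := A))
    (hg : Fixes k g v) : Fixes k gS v := by
  have h1 : LinearMap.lTensor V (LinearMap.mul' k R) (LinearMap.lTensor V
      (Algebra.TensorProduct.map gS g).toLinearMap (LinearMap.lTensor V (Coalgebra.comul (R := k) (A := A))
        (Comod.coact (k := k) (A := A) v))) =
      LinearMap.lTensor V (Algebra.linearMap k R) (LinearMap.lTensor V (Coalgebra.counit (R := k) (A := A))
        (Comod.coact (k := k) (A := A) v)) := by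
    rw [← LinearMap.lTensor_comp_apply, ← LinearMap.lTensor_comp_apply, ← LinearMap.lTensor_comp_apply,
      LinearMap.comp_assoc, key]
  have h2 : LinearMap.lTensor V (Coalgebra.comul (R := k) (A := A)) (Comod.coact (k := k) (A := A) v) =
      (TensorProduct.assoc k V A A) (LinearMap.rTensor A (Comod.coact (k := k) (A := A))
        (Comod.coact (k := k) (A := A) v)) :=
    (LinearMap.congr_fun (Comod.coassoc (k := k) (A := A) (V := V)) v).symm
  have h3 : LinearMap.lTensor V (Coalgebra.counit (R := k) (A := A)) (Comod.coact (k := k) (A := A) v) =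
      v ⊗ₜ[k] (1 : k) :=
    LinearMap.congr_fun (Comod.counit_comp (k := k) (A := A) (V := V)) v
  have e2 := lTensor_map_assoc gS g (Comod.coact (k := k) (A := A) v)
  unfold Fixes at hg ⊢
  rw [h2, e2, hg, LinearMap.rTensor_tmul, LinearMap.comp_apply, lTensor_mul'_assoc_tmul_one, h3,
    LinearMap.lTensor_tmul, Algebra.linearMap_apply, map_one] at h1
  exact h1

/-- the inverse of a point fixing `v` fixes `v`. -/
lemma fixes_inv (g : A →ₐ[k] R) (v : V) (hg : Fixes k g v) :
    Fixes k (g.comp (HopfAlgebra.antipodeAlgHom k A)) v := by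
  refine fixes_of_conv_eq _ g v ?_ hg
  ext a
  have h := congrArg g (HopfAlgebra.mul_antipode_rTensor_comul_apply (R := k) a)
  rw [AlgHom.commutes] at h
  simp only [LinearMap.comp_apply, Algebra.linearMap_apply]
  rw [← h]
  generalize Coalgebra.comul (R := k) a = z
  induction z using TensorProduct.induction_on with
  | zero => simp
  | add y z hy hz => simp only [map_add, hy, hz]
  | tmul b c => simp

end Closure

variable (v : V)

lemma counit_fixI (x : A) (hx : x ∈ fixI k A v) : Coalgebra.counit (R := k) x = 0 := by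
  have h : fixI k A v ≤ RingHom.ker (Bialgebra.counitAlgHom k A : A →+* k) := by
    unfold fixI
    rw [Ideal.span_le]
    rintro _ ⟨φ, rfl⟩
    rw [SetLike.mem_coe, RingHom.mem_ker]
    change Coalgebra.counit (R := k) _ = 0
    rw [map_sub, ← contrL_lTensor]
    have h3 := LinearMap.congr_fun (Comod.counit_comp (k := k) (A := A) (V := V)) v
    simp only [LinearMap.comp_apply, LinearMap.flip_apply, TensorProduct.mk_apply] at h3
    rw [h3, contrL_tmul]
    simp [Algebra.algebraMap_eq_smul_one]
  exact h hx

lemma comul_fixI (x : A) (hx : x ∈ fixI k A v) :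
    (Algebra.TensorProduct.map (Ideal.Quotient.mkₐ k (fixI k A v))
      (Ideal.Quotient.mkₐ k (fixI k A v))) (Coalgebra.comul (R := k) x) = 0 := by
  have h : Fixes k ((Algebra.TensorProduct.map (Ideal.Quotient.mkₐ k (fixI k A v))
      (Ideal.Quotient.mkₐ k (fixI k A v))).comp (Bialgebra.comulAlgHom k A)) v := by
    unfold Fixes
    rw [fixes_mul _ _ v (fixes_mk v) (fixes_mk v)]
    rfl
  rw [fixes_iff] at h
  have := h hx
  rw [RingHom.mem_ker] at this
  exact this

lemma antipode_fixI (x : A) (hx : x ∈ fixI k A v) : HopfAlgebra.antipode k x ∈ fixI k A v := by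
  have h := fixes_inv _ v (fixes_mk (k := k) (A := A) v)
  rw [fixes_iff] at h
  have := h hx
  rw [RingHom.mem_ker] at this
  exact Ideal.Quotient.eq_zero_iff_mem.1 this

theorem isHopfIdeal_fixI : (fixI k A v).IsHopfIdeal k where
  counit_eq_zero := fun x hx => counit_fixI v x hx
  map_mkQ_comul_eq_zero := fun x hx => comul_fixI v x hx
  antipode_mem := fun x hx => antipode_fixI v x hx

end Groth.Agent.Lib.Helper7.FixIdeal
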