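import Mathlib

set_option autoImplicit false

namespace Groth.Agent.Lib.Helper7.FlatNil

universe u

section Matrix
variable {R : Type u} [CommRing R] {S : Type u} [CommRing S]

/-- a square matrix whose entries are all nilpotent is nilpotent -/
lemma isNilpotent_matrix_of_entries {m : ℕ} (x : Matrix (Fin m) (Fin m) R)
    (hx : ∀ a b, IsNilpotent (x a b)) : IsNilpotent x := by
  classical
  set I : Ideal R := Ideal.span (Set.range fun p : Fin m × Fin m => x p.1 p.2) with hI
  have hx' : ∀ a b, x a b ∈ I := fun a b => Ideal.subset_span ⟨(a, b), rfl⟩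
  have hfg : I.FG := ⟨(Finset.univ.image fun p : Fin m × Fin m => x p.1 p.2), by
    rw [hI]; congr 1; ext y; simp⟩
  have hle : I ≤ nilradical R := by
    rw [hI, Ideal.span_le]
    rintro _ ⟨p, rfl⟩
    exact (mem_nilradical).mpr (hx p.1 p.2)
  have hnil : IsNilpotent I := (Ideal.FG.isNilpotent_iff_le_nilradical hfg).mpr hle
  have hpow : ∀ k : ℕ, ∀ a b, (x ^ (k + 1)) a b ∈ I ^ (k + 1) := by
    intro k
    induction k with
    | zero => intro a b; simpa using hx' a b
    | succ k ih =>
      intro a b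
      rw [pow_succ x, Matrix.mul_apply, pow_succ I]
      exact Ideal.sum_mem _ fun c _ => Ideal.mul_mem_mul (ih a c) (hx' c b)
  obtain ⟨N, hN⟩ := hnil
  refine ⟨N + 1, ?_⟩
  ext a b
  have := hpow N a b
  rw [pow_succ I, hN, Ideal.zero_eq_bot, Ideal.bot_mul] at this
  exact this

lemma isNilpotent_of_mem_ker_mapMatrix (t : R →+* S) (hnil : ∀ x, t x = 0 → IsNilpotent x) {m : ℕ}
    (x : Matrix (Fin m) (Fin m) R) (hx : x ∈ RingHom.ker (RingHom.mapMatrix (m := Fin m) t)) :
    IsNilpotent x := by
  apply isNilpotent_matrix_of_entries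
  intro a b
  apply hnil
  rw [RingHom.mem_ker] at hx
  have := congrFun (congrFun hx a) b
  simpa using this

lemma exists_idempotent_lift (t : R →+* S) (ht : Function.Surjective t)
    (hnil : ∀ x, t x = 0 → IsNilpotent x) {m : ℕ}
    (P : Matrix (Fin m) (Fin m) S) (hP : P * P = P) :
    ∃ P' : Matrix (Fin m) (Fin m) R, P' * P' = P' ∧ P'.map t = P := by
  have hrange : P ∈ (RingHom.mapMatrix (m := Fin m) t).range := by
    refine ⟨P.map (Function.surjInv ht), ?_⟩
    ext a b
    simp [Function.surjInv_eq]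
  obtain ⟨P', hP', hPP'⟩ := exists_isIdempotentElem_eq_of_ker_isNilpotent
    (RingHom.mapMatrix (m := Fin m) t)
    (fun x hx => isNilpotent_of_mem_ker_mapMatrix t hnil x hx) P hrange hP
  exact ⟨P', hP', hPP'⟩

end Matrix

end Groth.Agent.Lib.Helper7.FlatNil
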