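import Mathlib
import Groth.Agent.Lib.Helper7.FlatNil1

set_option autoImplicit false

namespace Groth.Agent.Lib.Helper7.FlatNil

universe u

section LemmaP
variable {R : Type u} [CommRing R] {S : Type u} [CommRing S] (t : R →+* S)
variable {M : Type u} [AddCommGroup M] [Module R M] {N : Type u} [AddCommGroup N] [Module S N]

lemma ker_le_jacobson (hnil : ∀ x, t x = 0 → IsNilpotent x) :
    RingHom.ker t ≤ Ideal.jacobson ⊥ := by
  intro x hx
  have : x ∈ nilradical R := mem_nilradical.mpr (hnil x hx)
  exact (Ideal.radical_le_jacobson (I := (⊥ : Ideal R))) this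

theorem projective_of_nil [Module.Finite R M] [Module.Flat R M] [Module.Projective S N]
    (ht : Function.Surjective t) (hnil : ∀ x, t x = 0 → IsNilpotent x)
    (u : M →ₛₗ[t] N) (hu : Function.Surjective u)
    (hker : LinearMap.ker u = RingHom.ker t • (⊤ : Submodule R M)) : Module.Projective R M := by
  classical
  obtain ⟨m, g, hg⟩ := Module.Finite.exists_fin (R := R) (M := M)
  set Fm : (Fin m → R) →ₗ[R] M := Fintype.linearCombination R g with hFmdef
  have hFm : Function.Surjective Fm := by
    rw [← LinearMap.range_eq_top, Fintype.range_linearCombination, hg]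
  set gb : Fin m → N := fun i => u (g i) with hgb
  set fb : (Fin m → S) →ₗ[S] N := Fintype.linearCombination S gb with hfbdef
  have C1 : ∀ c : Fin m → R, u (Fm c) = fb (t ∘ c) := by
    intro c
    simp [hFmdef, hfbdef, hgb, Fintype.linearCombination_apply, map_sum]
  have hfb : Function.Surjective fb := by
    intro y
    obtain ⟨x, rfl⟩ := hu y
    obtain ⟨c, rfl⟩ := hFm x
    exact ⟨t ∘ c, (C1 c).symm⟩
  obtain ⟨sb, hsb⟩ := Module.projective_lifting_property fb LinearMap.id hfb
  have hsb' : ∀ y, fb (sb y) = y := fun y => LinearMap.congr_fun hsb y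
  set Eb : Matrix (Fin m) (Fin m) S := LinearMap.toMatrix' (sb ∘ₗ fb) with hEbdef
  have hEb : Eb * Eb = Eb := by
    have : (sb ∘ₗ fb) ∘ₗ (sb ∘ₗ fb) = sb ∘ₗ fb := by
      apply LinearMap.ext; intro c
      simp only [LinearMap.comp_apply, hsb']
    rw [hEbdef, ← LinearMap.toMatrix'_comp, this]
  obtain ⟨E, hE, hEt⟩ := exists_idempotent_lift t ht hnil Eb hEb
  have C2 : ∀ c : Fin m → R, t ∘ (E.mulVec c) = sb (fb (t ∘ c)) := by
    intro c
    have h1 : Eb.mulVec (t ∘ c) = sb (fb (t ∘ c)) := by
      rw [hEbdef, LinearMap.toMatrix'_mulVec]; rfl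
    rw [← h1, ← hEt]
    ext i
    exact RingHom.map_mulVec t E c i
  -- the projective module P₀
  set P₀ : Submodule R (Fin m → R) := LinearMap.range (Matrix.toLin' E) with hP₀
  have hfix : ∀ y ∈ P₀, E.mulVec y = y := by
    rintro _ ⟨c, rfl⟩
    rw [Matrix.toLin'_apply, Matrix.mulVec_mulVec, hE]
  have hproj : Module.Projective R P₀ := by
    refine Module.Projective.of_split P₀.subtype (Matrix.toLin' E).rangeRestrict ?_
    ext y : 1
    apply Subtype.ext
    simp only [LinearMap.comp_apply, LinearMap.id_apply, Submodule.subtype_apply,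
      LinearMap.codRestrict_apply, Matrix.toLin'_apply]
    exact hfix y y.2
  set h : P₀ →ₗ[R] M := Fm ∘ₗ P₀.subtype with hh
  have hJ := ker_le_jacobson t hnil
  have hsurj : Function.Surjective h := by
    rw [← LinearMap.range_eq_top, eq_top_iff]
    apply Submodule.le_of_le_smul_of_le_jacobson_bot Module.Finite.fg_top hJ
    intro x _
    set c : Fin m → R := fun i => Function.surjInv ht (sb (u x) i) with hc
    have hc' : t ∘ c = sb (u x) := by
      ext i; simp [hc, Function.surjInv_eq]
    set y : M := Fm (E.mulVec c) with hy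
    have hy1 : y ∈ LinearMap.range h :=
      ⟨⟨E.mulVec c, ⟨c, by rw [Matrix.toLin'_apply]⟩⟩, rfl⟩
    have hy2 : x - y ∈ RingHom.ker t • (⊤ : Submodule R M) := by
      rw [← hker, LinearMap.mem_ker, map_sub, hy, C1, C2, hc', hsb', hsb', sub_self]
    have : x = y + (x - y) := by abel
    rw [this]
    exact Submodule.add_mem_sup hy1 hy2
  have hinj : Function.Injective h := by
    rw [← LinearMap.ker_eq_bot, eq_bot_iff]
    rintro ⟨y, hyP⟩ hy
    rw [LinearMap.mem_ker, hh, LinearMap.comp_apply, Submodule.subtype_apply] at hy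
    obtain ⟨k, a, yy, hya, hay⟩ := Module.Flat.exists_factorization_of_apply_eq_zero_of_free hy
    obtain ⟨w, hw⟩ := Module.projective_lifting_property Fm yy hFm
    set θ₀ : (Fin m → R) →ₗ[R] (Fin m → R) := LinearMap.id - w ∘ₗ a with hθ₀
    have h0 : ∀ c, Fm (θ₀ c) = 0 := by
      intro c
      rw [hθ₀, LinearMap.sub_apply, map_sub, LinearMap.id_apply, LinearMap.comp_apply,
        ← LinearMap.comp_apply Fm w, hw, hya, LinearMap.comp_apply, sub_self]
    have h0y : θ₀ y = y := by
      rw [hθ₀, LinearMap.sub_apply, LinearMap.id_apply, LinearMap.comp_apply, hay, map_zero,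
        sub_zero]
    set θ₁ : (Fin m → R) →ₗ[R] (Fin m → R) := Matrix.toLin' E ∘ₗ θ₀ with hθ₁
    have h1y : θ₁ y = y := by
      rw [hθ₁, LinearMap.comp_apply, h0y, Matrix.toLin'_apply]
      exact hfix y hyP
    have h1t : ∀ c, t ∘ (θ₁ c) = 0 := by
      intro c
      rw [hθ₁, LinearMap.comp_apply, Matrix.toLin'_apply, C2, ← C1, h0, map_zero, map_zero]
    have hX : IsNilpotent (LinearMap.toMatrix' θ₁) := by
      apply isNilpotent_of_mem_ker_mapMatrix t hnil
      rw [RingHom.mem_ker]
      ext i j
      simp only [RingHom.mapMatrix_apply, Matrix.map_apply, Matrix.zero_apply,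
        LinearMap.toMatrix'_apply]
      exact congrFun (h1t _) i
    obtain ⟨n, hn⟩ := hX
    have hn' : θ₁ ^ n = 0 := by
      have h2 : LinearMap.toMatrixAlgEquiv' (θ₁ ^ n) = 0 := by
        rw [map_pow]; exact hn
      exact (LinearMap.toMatrixAlgEquiv' (R := R) (n := Fin m)).injective (by rw [h2, map_zero])
    have hfixn : (θ₁ ^ n) y = y := by
      rw [Module.End.pow_apply]
      exact Function.iterate_fixed h1y n
    rw [hn', LinearMap.zero_apply] at hfixn
    rw [Submodule.mem_bot]
    exact Subtype.ext hfixn.symm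
  exact Module.Projective.of_equiv (LinearEquiv.ofBijective h ⟨hinj, hsurj⟩)

end LemmaP

end Groth.Agent.Lib.Helper7.FlatNil
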