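import Mathlib
import Groth.Agent.Lib.Helper7.FlatNil2

set_option autoImplicit false

namespace Groth.Agent.Lib.Helper7.FlatNil

universe u

section Step
variable {R : Type u} [CommRing R] {S : Type u} [CommRing S] (t : R →+* S)
variable {M : Type u} [AddCommGroup M] [Module R M] {N : Type u} [AddCommGroup N] [Module S N]

lemma exists_lift_functional [Module.Projective R M] (ht : Function.Surjective t)
    (ψ : M →ₛₗ[t] S) : ∃ ψ' : M →ₗ[R] R, ∀ x, t (ψ' x) = ψ x := by
  classical
  obtain ⟨s, hs⟩ := Module.projective_def'.mp ‹Module.Projective R M›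
  set v : M → R := fun x => Function.surjInv ht (ψ x) with hv
  refine ⟨Finsupp.linearCombination R v ∘ₗ s, fun x => ?_⟩
  have hx := LinearMap.congr_fun hs x
  simp only [LinearMap.comp_apply, LinearMap.id_apply] at hx
  conv_rhs => rw [← hx]
  simp only [LinearMap.comp_apply, Finsupp.linearCombination_apply, Finsupp.sum, map_sum,
    smul_eq_mul, map_mul, map_smulₛₗ, id_eq]
  refine Finset.sum_congr rfl fun b _ => ?_
  rw [hv]
  simp [Function.surjInv_eq]

theorem exists_step [Module.Finite R M] [Module.Projective R M]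
    (ht : Function.Surjective t) (hnil : ∀ x, t x = 0 → IsNilpotent x)
    (u : M →ₛₗ[t] N) (hu : Function.Surjective u)
    (hker : LinearMap.ker u = RingHom.ker t • (⊤ : Submodule R M))
    {m : ℕ} (g : Fin m → N) (φ : Fin m → (N →ₗ[S] S)) (db : ∀ x, ∑ i, φ i x • g i = x) :
    ∃ (g' : Fin m → M) (φ' : Fin m → (M →ₗ[R] R)), (∀ x, ∑ i, φ' i x • g' i = x) ∧
      (∀ i, u (g' i) = g i) ∧ (∀ i x, t (φ' i x) = φ i (u x)) := by
  classical
  choose g' hg' using fun i => hu (g i)
  choose φ₁ hφ₁ using fun i => exists_lift_functional t ht ((φ i).comp u)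
  set e : M →ₗ[R] M := ∑ i, (φ₁ i).smulRight (g' i) with he
  have he' : ∀ x, e x = ∑ i, φ₁ i x • g' i := by
    intro x; simp [he, LinearMap.sum_apply]
  have hue : ∀ x, u (e x) = u x := by
    intro x
    rw [he', map_sum]
    conv_rhs => rw [← db (u x)]
    refine Finset.sum_congr rfl fun i _ => ?_
    rw [map_smulₛₗ, hφ₁, hg']
    rfl
  have hJ := ker_le_jacobson t hnil
  have hsurj : Function.Surjective e := by
    rw [← LinearMap.range_eq_top, eq_top_iff]
    apply Submodule.le_of_le_smul_of_le_jacobson_bot Module.Finite.fg_top hJ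
    intro x _
    have h2 : x - e x ∈ RingHom.ker t • (⊤ : Submodule R M) := by
      rw [← hker, LinearMap.mem_ker, map_sub, hue, sub_self]
    have : x = e x + (x - e x) := by abel
    rw [this]
    exact Submodule.add_mem_sup ⟨x, rfl⟩ h2
  have hinj : Function.Injective e := OrzechProperty.injective_of_surjective_endomorphism e hsurj
  set ee := LinearEquiv.ofBijective e ⟨hinj, hsurj⟩ with hee
  have hee' : ∀ x, e (ee.symm x) = x := fun x => ee.apply_symm_apply x
  refine ⟨g', fun i => φ₁ i ∘ₗ ee.symm.toLinearMap, fun x => ?_, hg', fun i x => ?_⟩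
  · simp only [LinearMap.comp_apply, LinearEquiv.coe_coe]
    rw [← he', hee']
  · simp only [LinearMap.comp_apply, LinearEquiv.coe_coe]
    rw [hφ₁]
    show φ i (u (ee.symm x)) = φ i (u x)
    rw [← hue, hee']

end Step

/-- inverse limits of surjective systems of types project onto each level -/
lemma exists_compat (X : ℕ → Type u) (f : ∀ k, X (k + 1) → X k)
    (hf : ∀ k, Function.Surjective (f k)) :
    ∀ (n : ℕ) (b : X n), ∃ x : ∀ k, X k, (∀ k, f k (x (k + 1)) = x k) ∧ x n = b := by
  intro n
  induction n generalizing X with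
  | zero =>
    intro b
    refine ⟨fun k => Nat.rec b (fun k xk => (hf k xk).choose) k, fun k => ?_, rfl⟩
    exact (hf k _).choose_spec
  | succ n ih =>
    intro b
    obtain ⟨x', hx', hb⟩ := ih (fun k => X (k + 1)) (fun k => f (k + 1)) (fun k => hf (k + 1)) b
    refine ⟨fun k => match k with
      | 0 => f 0 (x' 0)
      | k + 1 => x' k, fun k => ?_, hb⟩
    cases k with
    | zero => rfl
    | succ k => exact hx' k

end Groth.Agent.Lib.Helper7.FlatNil
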