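import Mathlib
import Groth.Agent.Lib.Helper7.FlatNil3

set_option autoImplicit false

namespace Groth.Agent.Lib.Helper7.FlatNil

universe u

section Main
variable (A : Type u) [CommRing A] (An : ℕ → Type u) [∀ n, CommRing (An n)]
  (t : ∀ n, An (n + 1) →+* An n) (π : ∀ n, A →+* An n)
  (M : ℕ → Type u) [∀ n, AddCommGroup (M n)] [∀ n, Module (An n) (M n)]
  (u : ∀ n, M (n + 1) →ₛₗ[t n] M n)

omit [CommRing A] in
theorem projective_all [Module.Projective (An 0) (M 0)]
    (ht : ∀ n, Function.Surjective (t n)) (hnil : ∀ n (x : An (n + 1)), t n x = 0 → IsNilpotent x)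
    (hfin : ∀ n, Module.Finite (An n) (M n)) (hflat : ∀ n, Module.Flat (An n) (M n))
    (hu : ∀ n, Function.Surjective (u n) ∧
      LinearMap.ker (u n) = RingHom.ker (t n) • (⊤ : Submodule (An (n + 1)) (M (n + 1)))) :
    ∀ n, Module.Projective (An n) (M n)
  | 0 => inferInstance
  | n + 1 => by
    haveI := projective_all ht hnil hfin hflat hu n
    haveI := hfin (n + 1)
    haveI := hflat (n + 1)
    exact projective_of_nil (t n) (ht n) (hnil n) (u n) (hu n).1 (hu n).2

/-- level data: a finite dual basis of `M n` -/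
structure Lvl (m : ℕ) (n : ℕ) where
  g : Fin m → M n
  φ : Fin m → (M n →ₗ[An n] An n)
  db : ∀ x, ∑ i, φ i x • g i = x

/-- the compatible sequences -/
def LimCarrier : AddSubgroup (∀ n, M n) where
  carrier := {x | ∀ n, u n (x (n + 1)) = x n}
  add_mem' := by
    intro x y hx hy n
    simp only [Set.mem_setOf_eq] at hx hy
    rw [Pi.add_apply, map_add, hx n, hy n, Pi.add_apply]
  zero_mem' := by intro n; simp
  neg_mem' := by
    intro x hx n
    simp only [Set.mem_setOf_eq] at hx
    rw [Pi.neg_apply, map_neg, hx n, Pi.neg_apply]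

/-- the limit module as a type (with a phantom compatibility proof) -/
def LimP (_hc : ∀ n, (t n).comp (π (n + 1)) = π n) : Type u := ↥(LimCarrier An t M u)

variable {A An t π M u}
variable {hc : ∀ n, (t n).comp (π (n + 1)) = π n}

instance : AddCommGroup (LimP A An t π M u hc) :=
  inferInstanceAs (AddCommGroup ↥(LimCarrier An t M u))

/-- the underlying sequence -/
def LimP.val (x : LimP A An t π M u hc) : ∀ n, M n := Subtype.val x

lemma LimP.compat (x : LimP A An t π M u hc) (n : ℕ) : u n (x.val (n + 1)) = x.val n :=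
  Subtype.property x n

@[ext] lemma LimP.ext {x y : LimP A An t π M u hc} (h : ∀ n, x.val n = y.val n) : x = y :=
  Subtype.ext (funext h)

@[simp] lemma LimP.add_val (x y : LimP A An t π M u hc) (n : ℕ) :
    (x + y).val n = x.val n + y.val n := rfl

@[simp] lemma LimP.zero_val (n : ℕ) : (0 : LimP A An t π M u hc).val n = 0 := rfl

/-- constructor -/
def LimP.mk (x : ∀ n, M n) (hx : ∀ n, u n (x (n + 1)) = x n) : LimP A An t π M u hc := ⟨x, hx⟩

@[simp] lemma LimP.mk_val (x : ∀ n, M n) (hx : ∀ n, u n (x (n + 1)) = x n) (n : ℕ) :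
    (LimP.mk (hc := hc) x hx).val n = x n := rfl

instance : SMul A (LimP A An t π M u hc) where
  smul a x := LimP.mk (fun n => π n a • x.val n) (fun n => by
    rw [map_smulₛₗ, x.compat n, ← hc n]; rfl)

@[simp] lemma LimP.smul_val (a : A) (x : LimP A An t π M u hc) (n : ℕ) :
    (a • x).val n = π n a • x.val n := rfl

instance : Module A (LimP A An t π M u hc) where
  one_smul x := by ext n; simp
  mul_smul a b x := by ext n; simp [mul_smul]
  smul_zero a := by ext n; simp
  smul_add a x y := by ext n; simp
  add_smul a b x := by ext n; simp [add_smul]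
  zero_smul x := by ext n; simp

/-- the projections -/
def LimP.proj (n : ℕ) : LimP A An t π M u hc →ₛₗ[π n] M n where
  toFun x := x.val n
  map_add' _ _ := rfl
  map_smul' _ _ := rfl

@[simp] lemma LimP.proj_apply (n : ℕ) (x : LimP A An t π M u hc) : LimP.proj n x = x.val n := rfl

end Main

end Groth.Agent.Lib.Helper7.FlatNil
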