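import Mathlib
import Groth.Agent.Lib.Helper7.FlatNil4

set_option autoImplicit false

namespace Groth.Agent.Lib.Helper7.FlatNil

universe u

section Main
variable {A : Type u} [CommRing A] {An : ℕ → Type u} [∀ n, CommRing (An n)]
  {t : ∀ n, An (n + 1) →+* An n} {π : ∀ n, A →+* An n}
  {M : ℕ → Type u} [∀ n, AddCommGroup (M n)] [∀ n, Module (An n) (M n)]
  {u : ∀ n, M (n + 1) →ₛₗ[t n] M n}

theorem main [Module.Projective (An 0) (M 0)]
    (ht : ∀ n, Function.Surjective (t n)) (hnil : ∀ n (x : An (n + 1)), t n x = 0 → IsNilpotent x)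
    (hc : ∀ n, (t n).comp (π (n + 1)) = π n)
    (hinj : ∀ a b : A, (∀ n, π n a = π n b) → a = b)
    (hex : ∀ x : ∀ n, An n, (∀ n, t n (x (n + 1)) = x n) → ∃ a : A, ∀ n, π n a = x n)
    (hfin : ∀ n, Module.Finite (An n) (M n)) (hflat : ∀ n, Module.Flat (An n) (M n))
    (hu : ∀ n, Function.Surjective (u n) ∧
      LinearMap.ker (u n) = RingHom.ker (t n) • (⊤ : Submodule (An (n + 1)) (M (n + 1)))) :
    Module.Finite A (LimP A An t π M u hc) ∧ Module.Projective A (LimP A An t π M u hc) ∧
      (∀ n, Function.Surjective (LimP.proj (A := A) (An := An) (t := t) (π := π) (M := M) (u := u) (hc := hc) n) ∧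
        LinearMap.ker (LimP.proj (A := A) (An := An) (t := t) (π := π) (M := M) (u := u) (hc := hc) n) =
          RingHom.ker (π n) • (⊤ : Submodule A (LimP A An t π M u hc))) := by
  classical
  have hproj := projective_all An t M u ht hnil hfin hflat hu
  -- level 0
  haveI := hfin 0
  obtain ⟨m, g₀, hg₀⟩ := Module.Finite.exists_fin (R := An 0) (M := M 0)
  have hs0 : Function.Surjective (Fintype.linearCombination (An 0) g₀) := by
    rw [← LinearMap.range_eq_top, Fintype.range_linearCombination, hg₀]
  obtain ⟨s₀, hs₀⟩ := Module.projective_lifting_property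
    (Fintype.linearCombination (An 0) g₀) LinearMap.id hs0
  let L0 : Lvl An M m 0 :=
    { g := g₀
      φ := fun i => LinearMap.proj i ∘ₗ s₀
      db := fun x => by
        have := LinearMap.congr_fun hs₀ x
        simp only [LinearMap.comp_apply, LinearMap.id_apply,
          Fintype.linearCombination_apply] at this
        simpa using this }
  -- steps
  have hstep : ∀ n (L : Lvl An M m n), ∃ L' : Lvl An M m (n + 1),
      (∀ i, u n (L'.g i) = L.g i) ∧ (∀ i x, t n (L'.φ i x) = L.φ i (u n x)) := by
    intro n L
    haveI := hfin (n + 1)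
    haveI := hproj (n + 1)
    obtain ⟨g', φ', h1, h2, h3⟩ := exists_step (t n) (ht n) (hnil n) (u n) (hu n).1 (hu n).2
      L.g L.φ L.db
    exact ⟨⟨g', φ', h1⟩, h2, h3⟩
  choose step hstep1 hstep2 using hstep
  let seq : ∀ n, Lvl An M m n := fun n => Nat.rec L0 (fun n L => step n L) n
  have hseq1 : ∀ n i, u n ((seq (n + 1)).g i) = (seq n).g i := fun n i => hstep1 n (seq n) i
  have hseq2 : ∀ n i x, t n ((seq (n + 1)).φ i x) = (seq n).φ i (u n x) :=
    fun n i x => hstep2 n (seq n) i x
  -- generators of the limit
  let G : Fin m → LimP A An t π M u hc := fun i => LimP.mk (fun n => (seq n).g i) (fun n => hseq1 n i)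
  -- coefficients
  have hcoef : ∀ (x : LimP A An t π M u hc) (i : Fin m), ∃ a : A, ∀ n, π n a = (seq n).φ i (x.val n) := by
    intro x i
    apply hex
    intro n
    rw [hseq2, x.compat]
  choose Sx hSx using hcoef
  have hval_sum : ∀ (n : ℕ) (s : Finset (Fin m)) (f : Fin m → LimP A An t π M u hc),
      (∑ i ∈ s, f i).val n = ∑ i ∈ s, (f i).val n := by
    intro n s f
    exact map_sum (LimP.proj (A := A) (An := An) (t := t) (π := π) (M := M) (u := u) (hc := hc) n) f s
  have hkey : ∀ x : LimP A An t π M u hc, ∑ i, Sx x i • G i = x := by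
    intro x
    ext n
    rw [hval_sum]
    simp only [LimP.smul_val, hSx]
    exact (seq n).db (x.val n)
  let S : LimP A An t π M u hc →ₗ[A] (Fin m → A) :=
    { toFun := fun x i => Sx x i
      map_add' := fun x y => by
        funext i
        apply hinj
        intro n
        simp [hSx]
      map_smul' := fun a x => by
        funext i
        apply hinj
        intro n
        simp [hSx] }
  have hFS : Fintype.linearCombination A G ∘ₗ S = LinearMap.id := by
    apply LinearMap.ext
    intro x
    simp only [LinearMap.comp_apply, LinearMap.id_apply, Fintype.linearCombination_apply]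
    exact hkey x
  have hFsurj : Function.Surjective (Fintype.linearCombination A G) := fun x =>
    ⟨S x, LinearMap.congr_fun hFS x⟩
  have hπ : ∀ n, Function.Surjective (π n) := by
    intro n b
    obtain ⟨x, hx, hxn⟩ := exists_compat An (fun k => t k) ht n b
    obtain ⟨a, ha⟩ := hex x hx
    exact ⟨a, by rw [ha, hxn]⟩
  refine ⟨Module.Finite.of_surjective _ hFsurj, Module.Projective.of_split S _ hFS, fun n => ⟨?_, ?_⟩⟩
  · intro y
    choose a ha using fun i => hπ n ((seq n).φ i y)
    refine ⟨∑ i, a i • G i, ?_⟩
    rw [LimP.proj_apply, hval_sum]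
    simp only [LimP.smul_val, ha]
    exact (seq n).db y
  · apply le_antisymm
    · intro x hx
      rw [LinearMap.mem_ker, LimP.proj_apply] at hx
      rw [← hkey x]
      refine Submodule.sum_mem _ fun i _ => ?_
      apply Submodule.smul_mem_smul _ Submodule.mem_top
      rw [RingHom.mem_ker, hSx, hx, map_zero]
    · rw [Submodule.smul_le]
      intro a ha x _
      rw [LinearMap.mem_ker, LimP.proj_apply, LimP.smul_val, (RingHom.mem_ker).mp ha, zero_smul]

end Main

end Groth.Agent.Lib.Helper7.FlatNil
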