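import Groth.Agent.Lib.Helper7.StabMod

/-!
# Trivial inertia at a point and freeness over a neighbourhood in the quotient (helper7)
-/

set_option autoImplicit false
universe u
open TensorProduct
open CategoryTheory MonoidalCategory CartesianMonoidalCategory AlgebraicGeometry MonObj

namespace Groth.Agent.Lib.Helper7.FreeLoc

open HopfRep Groth.Agent.Lib.Helper7.Transit Groth.Agent.Lib.Helper7.AffPt
  Groth.Agent.Lib.Helper7.InertiaConj Groth.Agent.Lib.Helper7.StabMod
  Groth.Agent.Lib.Helper7.Compositum

variable {R : Type u} [CommRing R] {A B : Type u} [CommRing A] [HopfAlgebra R A] [CommRing B]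
  [Algebra R B] [Comod R A B] [GLin.IsCoactAlg R A B]
  {K : Type u} [Field K] [Algebra R K]

theorem forward [Module.Finite R A] [Module.Projective R A] (x : B →ₐ[R] K)
    (H : InT (A := A) x) :
    ∃ (Y' : Scheme.{u}) (c : Y' ⟶ Spec (CommRingCat.of (GLin.invariants R A B))),
      Flat c ∧ LocallyOfFinitePresentation c ∧
      (∃ y' : Y', c.base y' =
        (Spec.map (CommRingCat.ofHom (x.toRingHom.comp (GLin.invariants R A B).val.toRingHom))).base
          (IsLocalRing.closedPoint K)) ∧
      ∀ (T : Over (Spec (CommRingCat.of R))) (ζ : T ⟶ CoactBr.sp R B),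
        (∃ t : T.left ⟶ Y', t ≫ c =
          ζ.left ≫ Spec.map (CommRingCat.ofHom (GLin.invariants R A B).val.toRingHom)) →
        ∀ g : T ⟶ CoactBr.sp R A, lift g ζ ≫ (CoactBr.action R A B).act = ζ → g = 1 := by
  obtain ⟨f, hfx, hfa⟩ := exists_mem_annihilator x H
  have hu : IsUnit ((x.toRingHom.comp (GLin.invariants R A B).val.toRingHom) f) :=
    IsUnit.mk0 _ hfx
  refine ⟨Spec (CommRingCat.of (Localization.Away f)),
    Spec.map (CommRingCat.ofHom (algebraMap (GLin.invariants R A B) (Localization.Away f))),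
    inferInstance, inferInstance, ?_, ?_⟩
  · refine ⟨(Spec.map (CommRingCat.ofHom (IsLocalization.Away.lift (S := Localization.Away f)
      f hu))).base (IsLocalRing.closedPoint K), ?_⟩
    have e : Spec.map (CommRingCat.ofHom (IsLocalization.Away.lift (S := Localization.Away f)
        f hu)) ≫ Spec.map (CommRingCat.ofHom (algebraMap (GLin.invariants R A B)
          (Localization.Away f))) =
        Spec.map (CommRingCat.ofHom
          (x.toRingHom.comp (GLin.invariants R A B).val.toRingHom)) := by
      rw [← Spec.map_comp, ← CommRingCat.ofHom_comp, IsLocalization.Away.lift_comp]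
    rw [← e]
    rfl
  · rintro T ζ ⟨t, ht⟩ g hfix
    letI : Algebra R (Gam T) := algGam T
    rw [act_fix_iff, ract_fix_iff] at hfix
    rw [eq_one_iff]
    refine eq_unitHom_of_mem_annihilator hfa (sharp ζ) (sharp g) ?_ hfix
    have h1 := sharp_comp_apply (ζ.left : T.left ⟶ Spec (CommRingCat.of B))
      (GLin.invariants R A B).val.toRingHom _ rfl f
    have h2 := sharp_comp_apply t
      (algebraMap (GLin.invariants R A B) (Localization.Away f)) _ ht f
    have h3 : sharp ζ (f : B) = ((Scheme.ΓSpecIso (CommRingCat.of (Localization.Away f))).inv ≫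
        t.appTop).hom (algebraMap (GLin.invariants R A B) (Localization.Away f) f) :=
      h1.trans h2.symm
    rw [h3]
    exact (IsLocalization.Away.algebraMap_isUnit f).map _

theorem backward [Module.Finite R A] [Module.Projective R A] (x : B →ₐ[R] K)
    (Y' : Scheme.{u}) (c : Y' ⟶ Spec (CommRingCat.of (GLin.invariants R A B)))
    (hy : ∃ y' : Y', c.base y' =
      (Spec.map (CommRingCat.ofHom (x.toRingHom.comp (GLin.invariants R A B).val.toRingHom))).base
        (IsLocalRing.closedPoint K))
    (Hfree : ∀ (T : Over (Spec (CommRingCat.of R))) (ζ : T ⟶ CoactBr.sp R B),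
      (∃ t : T.left ⟶ Y', t ≫ c =
        ζ.left ≫ Spec.map (CommRingCat.ofHom (GLin.invariants R A B).val.toRingHom)) →
      ∀ g : T ⟶ CoactBr.sp R A, lift g ζ ≫ (CoactBr.action R A B).act = ζ → g = 1) :
    InT (A := A) x := by
  obtain ⟨y', hy'⟩ := hy
  intro L _ _ h gam hfix
  set s : Spec (CommRingCat.of K) ⟶ Spec (CommRingCat.of (GLin.invariants R A B)) :=
    Spec.map (CommRingCat.ofHom (x.toRingHom.comp (GLin.invariants R A B).val.toRingHom)) with hs
  obtain ⟨z, hz1, hz2⟩ := Scheme.Pullback.exists_preimage_pullback (f := s) (g := c)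
    (IsLocalRing.closedPoint K) y' hy'.symm
  set W := Limits.pullback s c with hW
  set m : Spec (W.residueField z) ⟶ W := W.fromSpecResidueField z with hm
  set k₀ : K →+* (W.residueField z) := (Spec.preimage (m ≫ Limits.pullback.fst s c)).hom with hk₀
  have hk₀' : Spec.map (CommRingCat.ofHom k₀) = m ≫ Limits.pullback.fst s c := by
    rw [hk₀, CommRingCat.ofHom_hom, Spec.map_preimage]
  obtain ⟨P, _, io, ω, hio, hsq⟩ := exists_pushout_field (K' := K) (L := L)
    (Ω := W.residueField z) (h : K →+* L) k₀
  letI : Algebra R P := (io.comp (algebraMap R L)).toAlgebra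
  let ioA : L →ₐ[R] P := { io with commutes' := fun r => rfl }
  set ζ : CoactBr.sp R P ⟶ CoactBr.sp R B := CoactBr.pt (ioA.comp (h.comp x)) with hζ
  set g : CoactBr.sp R P ⟶ CoactBr.sp R A := CoactBr.pt (ioA.comp gam) with hg
  let t : (CoactBr.sp R P).left ⟶ Y' :=
    Spec.map (CommRingCat.ofHom ω) ≫ m ≫ Limits.pullback.snd s c
  have ht : t ≫ c = ζ.left ≫
      Spec.map (CommRingCat.ofHom (GLin.invariants R A B).val.toRingHom) := by
    have e1 : t ≫ c = Spec.map (CommRingCat.ofHom ω) ≫ Spec.map (CommRingCat.ofHom k₀) ≫ s := by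
      change (Spec.map (CommRingCat.ofHom ω) ≫ m ≫ Limits.pullback.snd s c) ≫ c = _
      rw [Category.assoc, Category.assoc, ← Limits.pullback.condition, ← Category.assoc m,
        ← hk₀']
    have e2 : Spec.map (CommRingCat.ofHom ω) ≫ Spec.map (CommRingCat.ofHom k₀) ≫ s =
        Spec.map (CommRingCat.ofHom ((ω.comp k₀).comp
          (x.toRingHom.comp (GLin.invariants R A B).val.toRingHom))) := by
      rw [hs, ← Spec.map_comp, ← Spec.map_comp, ← CommRingCat.ofHom_comp,
        ← CommRingCat.ofHom_comp]
    have e3 : ζ.left ≫ Spec.map (CommRingCat.ofHom (GLin.invariants R A B).val.toRingHom) =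
        Spec.map (CommRingCat.ofHom ((ioA.comp (h.comp x)).toRingHom.comp
          (GLin.invariants R A B).val.toRingHom)) := by
      rw [CommRingCat.ofHom_comp, Spec.map_comp]
      rfl
    rw [e1, e2, e3]
    congr 2
    ext c'
    simp only [RingHom.comp_apply]
    exact (RingHom.congr_fun hsq _).symm
  have hfix' : lift g ζ ≫ (CoactBr.action R A B).act = ζ := by
    rw [hg, hζ, pt_fix_iff, ← comp_actP, hfix]
  have h1 := Hfree (CoactBr.sp R P) ζ ⟨t, ht⟩ g hfix'
  rw [hg, pt_eq_one_iff, ← comp_unitHom (A := A) ioA] at h1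
  apply AlgHom.ext
  intro a
  exact hio (AlgHom.congr_fun h1 a)

end Groth.Agent.Lib.Helper7.FreeLoc
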