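import Groth.Agent.Lib.Helper7.HopfColon
import Mathlib.RingTheory.Polynomial.Basic
import Mathlib.RingTheory.FiniteType
import Mathlib.RingTheory.Adjoin.FG
import Mathlib.Algebra.Algebra.Subalgebra.Pointwise

/-!
# Hilbert's finiteness theorem for invariants, relative form (helper7)

`C` a comodule algebra (semisimple as a comodule), `A₁ ⊆ C` a Noetherian invariant subalgebra over
which `C` is finitely generated: then `C^G` is generated by `A₁^G` and finitely many invariants.
The proof runs Hilbert's argument in the Rees ring of the filtration `P n = A₁ W^n`.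
-/

universe u v v' w w' w''

open TensorProduct Polynomial

namespace Groth.Agent.Lib.Helper7.Comod

open HopfRep

section Rees

variable {k : Type u} [CommRing k] {C : Type w} [CommRing C] [Algebra k C]

/-- The filtration `P n = A₁ W^n`. -/
def filt (A₁ : Subalgebra k C) (W : Submodule k C) (n : ℕ) : Submodule k C :=
  Subalgebra.toSubmodule A₁ * W ^ n

lemma filt_zero (A₁ : Subalgebra k C) (W : Submodule k C) :
    filt A₁ W 0 = Subalgebra.toSubmodule A₁ := by
  rw [filt, pow_zero, mul_one]

lemma filt_mul (A₁ : Subalgebra k C) (W : Submodule k C) (i j : ℕ) :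
    filt A₁ W i * filt A₁ W j = filt A₁ W (i + j) := by
  have h : Subalgebra.toSubmodule A₁ * Subalgebra.toSubmodule A₁ = Subalgebra.toSubmodule A₁ :=
    Subalgebra.isIdempotentElem_toSubmodule A₁
  rw [filt, filt, filt, mul_mul_mul_comm, h, pow_add]

lemma filt_mono (A₁ : Subalgebra k C) {W : Submodule k C} (h1 : (1 : C) ∈ W) {i j : ℕ}
    (hij : i ≤ j) : filt A₁ W i ≤ filt A₁ W j := by
  induction hij with
  | refl => exact le_rfl
  | step _ ih =>
    refine ih.trans ?_
    rw [filt, filt, pow_succ, ← mul_assoc]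
    intro x hx
    rw [← mul_one x]
    exact Submodule.mul_mem_mul hx h1

lemma mem_filt_one (A₁ : Subalgebra k C) {W : Submodule k C} {w : C} (hw : w ∈ W) :
    w ∈ filt A₁ W 1 := by
  rw [filt, pow_one, ← one_mul w]
  exact Submodule.mul_mem_mul (show (1 : C) ∈ A₁ from one_mem A₁) hw

/-- The Rees ring of the filtration `A₁ W^n` inside `C[X]`, as an `A₁`-subalgebra. -/
noncomputable def rees (A₁ : Subalgebra k C) (wfin : Finset C) : Subalgebra A₁ C[X] :=
  Algebra.adjoin A₁ ((fun c : C => Polynomial.C c * Polynomial.X) '' (wfin : Set C))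

instance rees_noeth (A₁ : Subalgebra k C) [IsNoetherianRing A₁] (wfin : Finset C) :
    IsNoetherianRing (rees A₁ wfin) := by
  classical
  have : Algebra.FiniteType A₁ (rees A₁ wfin) := by
    rw [← Subalgebra.fg_iff_finiteType, rees, ← Finset.coe_image]
    exact Subalgebra.fg_adjoin_finset _
  exact Algebra.FiniteType.isNoetherianRing A₁ _

lemma C_mem_rees (A₁ : Subalgebra k C) (wfin : Finset C) {a : C} (ha : a ∈ A₁) :
    Polynomial.C a ∈ rees A₁ wfin :=
  Subalgebra.algebraMap_mem (rees A₁ wfin) (⟨a, ha⟩ : A₁)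

/-- (a) `P n X^n ⊆ Rees`. -/
lemma C_mul_X_pow_mem_rees (A₁ : Subalgebra k C) (wfin : Finset C) (n : ℕ) {c : C}
    (hc : c ∈ filt A₁ (Submodule.span k (wfin : Set C)) n) :
    Polynomial.C c * Polynomial.X ^ n ∈ rees A₁ wfin := by
  -- the submodules `Q n = {c | C c X^n ∈ Rees}`
  let Q : ℕ → Submodule k C := fun n =>
    { carrier := {c | Polynomial.C c * Polynomial.X ^ n ∈ rees A₁ wfin}
      add_mem' := fun {a b} ha hb => by
        change Polynomial.C (a + b) * Polynomial.X ^ n ∈ rees A₁ wfin
        rw [map_add, add_mul]; exact add_mem ha hb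
      zero_mem' := by
        change Polynomial.C (0 : C) * Polynomial.X ^ n ∈ rees A₁ wfin
        rw [map_zero, zero_mul]; exact zero_mem _
      smul_mem' := fun r a ha => by
        change Polynomial.C (r • a) * Polynomial.X ^ n ∈ rees A₁ wfin
        rw [Algebra.smul_def, map_mul, mul_assoc]
        exact mul_mem (C_mem_rees A₁ wfin (A₁.algebraMap_mem r)) ha }
  have hQ0 : Subalgebra.toSubmodule A₁ ≤ Q 0 := fun a ha => by
    change Polynomial.C a * Polynomial.X ^ 0 ∈ rees A₁ wfin
    rw [pow_zero, mul_one]; exact C_mem_rees A₁ wfin ha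
  have hQ1 : Submodule.span k (wfin : Set C) ≤ Q 1 := Submodule.span_le.2 fun w hw => by
    change Polynomial.C w * Polynomial.X ^ 1 ∈ rees A₁ wfin
    rw [pow_one]; exact Algebra.subset_adjoin ⟨w, hw, rfl⟩
  have hQmul : ∀ i j, Q i * Q j ≤ Q (i + j) := fun i j => Submodule.mul_le.2 fun a ha b hb => by
    change Polynomial.C (a * b) * Polynomial.X ^ (i + j) ∈ rees A₁ wfin
    have : Polynomial.C (a * b) * Polynomial.X ^ (i + j) =
        (Polynomial.C a * Polynomial.X ^ i) * (Polynomial.C b * Polynomial.X ^ j) := by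
      rw [map_mul, pow_add]; ring
    rw [this]; exact mul_mem ha hb
  have hQpow : ∀ n, Submodule.span k (wfin : Set C) ^ n ≤ Q n := by
    intro n
    induction n with
    | zero =>
      rw [pow_zero, Submodule.one_le]
      change Polynomial.C (1 : C) * Polynomial.X ^ 0 ∈ rees A₁ wfin
      rw [pow_zero, mul_one, map_one]; exact one_mem _
    | succ n ih =>
      rw [pow_succ]
      exact (mul_le_mul' ih hQ1).trans (hQmul n 1)
  have : filt A₁ (Submodule.span k (wfin : Set C)) n ≤ Q n := by
    rw [filt]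
    refine (mul_le_mul' hQ0 (hQpow n)).trans ?_
    have := hQmul 0 n
    rwa [zero_add] at this
  exact this hc

/-- (b) coefficients of elements of the Rees ring lie in the filtration. -/
lemma coeff_mem_filt_of_mem_rees (A₁ : Subalgebra k C) (wfin : Finset C) {g : C[X]}
    (hg : g ∈ rees A₁ wfin) (m : ℕ) :
    g.coeff m ∈ filt A₁ (Submodule.span k (wfin : Set C)) m := by
  induction hg using Algebra.adjoin_induction generalizing m with
  | mem x hx =>
    obtain ⟨w, hw, rfl⟩ := hx
    rw [Polynomial.coeff_C_mul_X]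
    split_ifs with h
    · subst h; exact mem_filt_one A₁ (Submodule.subset_span hw)
    · exact Submodule.zero_mem _
  | algebraMap a =>
    change (Polynomial.C (a : C)).coeff m ∈ _
    rw [Polynomial.coeff_C]
    split_ifs with h
    · subst h; rw [filt_zero]; exact a.2
    · exact Submodule.zero_mem _
  | add x y _ _ hx hy =>
    rw [Polynomial.coeff_add]; exact Submodule.add_mem _ (hx m) (hy m)
  | mul x y _ _ hx hy =>
    rw [Polynomial.coeff_mul]
    refine Submodule.sum_mem _ fun p hp => ?_
    rw [← Finset.mem_antidiagonal.1 hp, ← filt_mul]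
    exact Submodule.mul_mem_mul (hx _) (hy _)

end Rees

end Groth.Agent.Lib.Helper7.Comod

namespace Groth.Agent.Lib.Helper7.Comod

open HopfRep

section Core

variable {k : Type u} [CommRing k] {C : Type w} [CommRing C] [Algebra k C]
variable {A₁ : Type*} [CommRing A₁] [Algebra A₁ C[X]]

/-- Hilbert's argument in a Noetherian Rees ring, with an abstract Reynolds operator `E` onto `T`. -/
theorem hilbert_core (P : ℕ → Submodule k C) (T : Subalgebra k C) (E : C →ₗ[k] C)
    (hET : ∀ c, E c ∈ T) (hEP : ∀ n c, c ∈ P n → E c ∈ P n)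
    (hEmul : ∀ c, ∀ f ∈ T, E (c * f) = E c * f) (hEid : ∀ f ∈ T, E f = f)
    (Rr : Subalgebra A₁ C[X]) [IsNoetherianRing Rr]
    (ha : ∀ n, ∀ c ∈ P n, Polynomial.C c * Polynomial.X ^ n ∈ Rr)
    (hb : ∀ g ∈ Rr, ∀ m, g.coeff m ∈ P m) :
    ∃ s : Finset C, (∀ x ∈ s, x ∈ T) ∧
      ∀ n, ∀ f ∈ T, f ∈ P n →
        f ∈ Algebra.adjoin k ({c | c ∈ P 0 ∧ c ∈ T} ∪ (s : Set C)) := by
  classical
  let G : Set Rr := {x | ∃ n, 1 ≤ n ∧ ∃ f, f ∈ T ∧ f ∈ P n ∧
    (x : C[X]) = Polynomial.C f * Polynomial.X ^ n}
  have hfg : (Submodule.span Rr G).FG := IsNoetherian.noetherian _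
  obtain ⟨G', hG'G, hspan⟩ := (Submodule.fg_span_iff_fg_span_finset_subset G).1 hfg
  have hch : ∀ q ∈ G', ∃ n, 1 ≤ n ∧ ∃ f, f ∈ T ∧ f ∈ P n ∧
      (q : C[X]) = Polynomial.C f * Polynomial.X ^ n := fun q hq => hG'G hq
  choose! nq hnq fq hfqT hfqP hq using hch
  refine ⟨G'.image fq, ?_, ?_⟩
  · intro x hx
    obtain ⟨q, hq', rfl⟩ := Finset.mem_image.1 hx
    exact hfqT q hq'
  · intro n
    induction n using Nat.strong_induction_on with
    | _ n ih =>
      intro f hfT hfP
      rcases Nat.eq_zero_or_pos n with rfl | hn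
      · exact Algebra.subset_adjoin (Or.inl ⟨hfP, hfT⟩)
      · have hmem : (⟨Polynomial.C f * Polynomial.X ^ n, ha n f hfP⟩ : Rr) ∈
            Submodule.span Rr G := Submodule.subset_span ⟨n, hn, f, hfT, hfP, rfl⟩
        rw [hspan] at hmem
        obtain ⟨g, _, hg⟩ := Submodule.mem_span_finset.1 hmem
        have h1 : f = ∑ q ∈ G',
            (if nq q ≤ n then (g q : C[X]).coeff (n - nq q) * fq q else 0) := by
          have h := congrArg (fun x : Rr => (x : C[X]).coeff n) hg
          simp only [smul_eq_mul, AddSubmonoidClass.coe_finset_sum, MulMemClass.coe_mul,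
            Polynomial.finset_sum_coeff, Polynomial.coeff_C_mul_X_pow, if_true] at h
          rw [← h]
          refine Finset.sum_congr rfl fun q hq' => ?_
          rw [hq q hq', ← mul_assoc, Polynomial.coeff_mul_X_pow', Polynomial.coeff_mul_C]
        have h2 : f = ∑ q ∈ G',
            (if nq q ≤ n then E ((g q : C[X]).coeff (n - nq q)) * fq q else 0) := by
          conv_lhs => rw [← hEid f hfT, h1]
          rw [map_sum]
          refine Finset.sum_congr rfl fun q hq' => ?_
          split_ifs
          · exact hEmul _ _ (hfqT q hq')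
          · exact map_zero E
        rw [h2]
        refine Subalgebra.sum_mem _ fun q hq' => ?_
        split_ifs with hle
        · refine Subalgebra.mul_mem _ ?_ (Algebra.subset_adjoin
            (Or.inr (Finset.mem_coe.2 (Finset.mem_image_of_mem fq hq'))))
          have := hnq q hq'
          exact ih (n - nq q) (by omega) _ (hET _) (hEP _ _ (hb _ (g q).2 _))
        · exact Subalgebra.zero_mem _

end Core

end Groth.Agent.Lib.Helper7.Comod

namespace Groth.Agent.Lib.Helper7.Comod

open HopfRep

section MulSub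

variable {k : Type u} [CommRing k] {H : Type v} [CommRing H] [Bialgebra k H]
variable {C : Type w} [CommRing C] [Algebra k C] [Comod k H C] [GLin.IsCoactAlg k H C]

omit [Comod k H C] [GLin.IsCoactAlg k H C] in
lemma mul_mem_range_rTensor_mul {U V : Submodule k C} {a b : C ⊗[k] H}
    (ha : a ∈ LinearMap.range (U.subtype.rTensor H))
    (hb : b ∈ LinearMap.range (V.subtype.rTensor H)) :
    a * b ∈ LinearMap.range ((U * V).subtype.rTensor H) := by
  obtain ⟨y, rfl⟩ := ha
  obtain ⟨z, rfl⟩ := hb
  induction y using TensorProduct.induction_on with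
  | zero => simp
  | tmul u c =>
    induction z using TensorProduct.induction_on with
    | zero => simp
    | tmul v d =>
      rw [LinearMap.rTensor_tmul, LinearMap.rTensor_tmul, Algebra.TensorProduct.tmul_mul_tmul]
      exact tmul_mem_range_rTensor (Submodule.mul_mem_mul u.2 v.2) _
    | add s t hs ht =>
      rw [map_add, mul_add]
      exact Submodule.add_mem _ hs ht
  | add s t hs ht =>
    rw [map_add, add_mul]
    exact Submodule.add_mem _ hs ht

lemma isSubcomod_one : IsSubcomod (k := k) (A := H) (1 : Submodule k C) := by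
  rw [Submodule.one_eq_span]
  apply isSubcomod_span
  intro v hv
  rw [Set.mem_singleton_iff] at hv
  subst hv
  rw [GLin.IsCoactAlg.coact_one, Algebra.TensorProduct.one_def]
  exact tmul_mem_range_rTensor (Submodule.subset_span (Set.mem_singleton _)) _

lemma isSubcomod_mul {U V : Submodule k C} (hU : IsSubcomod (k := k) (A := H) U)
    (hV : IsSubcomod (k := k) (A := H) V) : IsSubcomod (k := k) (A := H) (U * V) := by
  intro x hx
  refine Submodule.mul_induction_on (C := fun x => Comod.coact (k := k) (A := H) x ∈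
    LinearMap.range ((U * V).subtype.rTensor H)) hx ?_ ?_
  · intro m hm n hn
    rw [GLin.IsCoactAlg.coact_mul]
    exact mul_mem_range_rTensor_mul (hU m hm) (hV n hn)
  · intro x y hx hy
    rw [map_add]
    exact Submodule.add_mem _ hx hy

lemma isSubcomod_pow {W : Submodule k C} (hW : IsSubcomod (k := k) (A := H) W) (n : ℕ) :
    IsSubcomod (k := k) (A := H) (W ^ n) := by
  induction n with
  | zero => rw [pow_zero]; exact isSubcomod_one
  | succ n ih => rw [pow_succ]; exact isSubcomod_mul ih hW

lemma isSubcomod_filt {A₁ : Subalgebra k C}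
    (hA₁ : IsSubcomod (k := k) (A := H) (Subalgebra.toSubmodule A₁)) {W : Submodule k C}
    (hW : IsSubcomod (k := k) (A := H) W) (n : ℕ) :
    IsSubcomod (k := k) (A := H) (filt A₁ W n) :=
  isSubcomod_mul hA₁ (isSubcomod_pow hW n)

end MulSub

section Assemble

variable {k : Type u} [Field k] {H : Type v} [CommRing H] [Bialgebra k H]
variable {C : Type w} [CommRing C] [Algebra k C] [Comod k H C] [GLin.IsCoactAlg k H C]

/-- Relative Hilbert finiteness: `C^G` is generated by `A₁^G` and finitely many invariants. -/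
theorem exists_finset_invariants_adjoin (hC : IsSemisimpleComod k H C) (A₁ : Subalgebra k C)
    [IsNoetherianRing A₁] (hA₁ : IsSubcomod (k := k) (A := H) (Subalgebra.toSubmodule A₁))
    (t : Finset C) (ht : Algebra.adjoin k ((A₁ : Set C) ∪ t) = ⊤) :
    ∃ s : Finset C, (∀ x ∈ s, x ∈ GLin.invariants k H C) ∧
      ∀ f ∈ GLin.invariants k H C,
        f ∈ Algebra.adjoin k ({c | c ∈ A₁ ∧ c ∈ GLin.invariants k H C} ∪ (s : Set C)) := by
  classical
  obtain ⟨W, hWfin, htW, hW⟩ := exists_finite_subcomod_le (k := k) (A := H) (insert 1 t)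
  obtain ⟨wfin, hwfin⟩ : W.FG := Module.Finite.iff_fg.1 hWfin
  subst hwfin
  obtain ⟨E, hE⟩ := exists_isReynolds hC
  have h1W : (1 : C) ∈ Submodule.span k (wfin : Set C) :=
    htW (Finset.mem_coe.2 (Finset.mem_insert_self _ _))
  obtain ⟨s, hsT, hs⟩ := hilbert_core (filt A₁ (Submodule.span k (wfin : Set C)))
    (GLin.invariants k H C) E (fun c => hE.apply_mem c)
    (fun n c hc => IsReynolds.apply_mem_of_mem hC hE (isSubcomod_filt hA₁ hW n) hc)
    (fun c f hf => IsReynolds.map_mul hC hE c hf) (fun f hf => (hE.2.2 f).2 hf)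
    (rees A₁ wfin) (fun n c hc => C_mul_X_pow_mem_rees A₁ wfin n hc)
    (fun g hg m => coeff_mem_filt_of_mem_rees A₁ wfin hg m)
  refine ⟨s, hsT, fun f hf => ?_⟩
  -- every element lies in some `P n`
  have hcover : ∀ x : C, ∃ n, x ∈ filt A₁ (Submodule.span k (wfin : Set C)) n := by
    intro x
    have hx : x ∈ Algebra.adjoin k ((A₁ : Set C) ∪ t) := by rw [ht]; trivial
    induction hx using Algebra.adjoin_induction with
    | mem x hx =>
      rcases hx with hx | hx
      · exact ⟨0, by rw [filt_zero]; exact hx⟩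
      · exact ⟨1, mem_filt_one A₁ (htW (Finset.mem_coe.2 (Finset.mem_insert_of_mem hx)))⟩
    | algebraMap r => exact ⟨0, by rw [filt_zero]; exact A₁.algebraMap_mem r⟩
    | add x y _ _ hx hy =>
      obtain ⟨n, hn⟩ := hx
      obtain ⟨m, hm⟩ := hy
      exact ⟨max n m, Submodule.add_mem _ (filt_mono A₁ h1W (le_max_left _ _) hn)
        (filt_mono A₁ h1W (le_max_right _ _) hm)⟩
    | mul x y _ _ hx hy =>
      obtain ⟨n, hn⟩ := hx
      obtain ⟨m, hm⟩ := hy
      exact ⟨n + m, by rw [← filt_mul]; exact Submodule.mul_mem_mul hn hm⟩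
  obtain ⟨n, hn⟩ := hcover f
  have := hs n f hf hn
  simp only [filt_zero] at this
  exact this

end Assemble

end Groth.Agent.Lib.Helper7.Comod
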