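import Mathlib
import Groth.Prelude.Def_SGA1
import Groth.Agent.Lib.Helper7.FiniteQuotient
import Groth.Agent.Lib.Helper7.QuotientAffine
import Groth.Agent.Lib.Helper7.GCHR5

/-!
# The quotient of an étale scheme by a finite group is étale (helper7)
-/

set_option autoImplicit false
set_option linter.unusedSectionVars false
set_option linter.style.haveILetI false

namespace Groth.Agent.Lib.Helper7.GCHR

open CategoryTheory CategoryTheory.Limits AlgebraicGeometry SGA1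
  Groth.Agent.Lib.Helper7.FiniteQuotient

universe u

variable {X X' Y : Scheme.{u}} {G : Type u} [Group G] [Finite G] {ρ : G →* Aut X} {p : X ⟶ X'}
  (hp : IsQuot ρ p) (q : X' ⟶ Y) [IsLocallyNoetherian Y] [Etale (p ≫ q)]

include hp in
theorem etale_chart (V : Y.Opens) (hV : IsAffineOpen V) (V' : X'.Opens) (hV' : IsAffineOpen V')
    (e : V' ≤ q ⁻¹ᵁ V) : (q.appLE V V' e).hom.Etale := by
  have : IsAffineHom p := hp.affine
  have hW : IsAffineOpen (p ⁻¹ᵁ V') := hV'.preimage p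
  letI algCB : Algebra Γ(Y, V) Γ(X', V') := (q.appLE V V' e).hom.toAlgebra
  letI algBA : Algebra Γ(X', V') Γ(X, p ⁻¹ᵁ V') := (p.app V').hom.toAlgebra
  letI algCA : Algebra Γ(Y, V) Γ(X, p ⁻¹ᵁ V') :=
    ((p.app V').hom.comp (q.appLE V V' e).hom).toAlgebra
  haveI : IsScalarTower Γ(Y, V) Γ(X', V') Γ(X, p ⁻¹ᵁ V') := IsScalarTower.of_algebraMap_eq' rfl
  letI := mulSemiringAction ρ p hp.inv V'
  haveI := smulCommClass hp V'
  haveI : IsNoetherianRing Γ(Y, V) := IsLocallyNoetherian.component_noetherian ⟨V, hV⟩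
  have e' : p ⁻¹ᵁ V' ≤ (p ≫ q) ⁻¹ᵁ V := by
    rw [Scheme.Hom.comp_preimage]
    exact (TopologicalSpace.Opens.map p.base).map (homOfLE e) |>.le
  have h1 : ((p ≫ q).appLE V (p ⁻¹ᵁ V') e').hom.Etale := (p ≫ q).etale_appLE hV hW e'
  have h2 : (p ≫ q).appLE V (p ⁻¹ᵁ V') e' = q.appLE V V' e ≫ p.app V' := by
    rw [← Scheme.Hom.appLE_eq_app, Scheme.Hom.appLE_comp_appLE]
  haveI : Algebra.Etale Γ(Y, V) Γ(X, p ⁻¹ᵁ V') := by
    rw [h2] at h1
    exact h1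
  have := (etale_invariants (C := Γ(Y, V)) (B := Γ(X', V')) (A := Γ(X, p ⁻¹ᵁ V')) (G := G)
    (hp.injective V') ((isInvariant hp V').isInvariant)).1
  exact this

include hp in
theorem etale_of_isQuot : Etale q := by
  rw [HasRingHomProperty.iff_exists_appLE (P := @Etale)
    (RingHom.Etale.stableUnderComposition.stableUnderCompositionWithLocalizationAway
      (RingHom.Etale.propertyIsLocal.HoldsForLocalizationAway
        RingHom.Etale.containsIdentities)).left]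
  intro x'
  obtain ⟨_, ⟨V, hV, rfl⟩, hyV, -⟩ :=
    Y.isBasis_affineOpens.exists_subset_of_mem_open (Set.mem_univ (q.base x')) isOpen_univ
  obtain ⟨_, ⟨V', hV', rfl⟩, hxV', hle⟩ :=
    X'.isBasis_affineOpens.exists_subset_of_mem_open
      (show x' ∈ ((q ⁻¹ᵁ V : X'.Opens) : Set X') from hyV) (q ⁻¹ᵁ V).isOpen
  exact ⟨⟨V, hV⟩, ⟨V', hV'⟩, hxV', hle, etale_chart hp q V hV V' hV' hle⟩

include hp in
theorem etale_of_isQuot' {Z : Scheme.{u}} (r : X' ⟶ Z) [IsLocallyNoetherian Z] [Etale (p ≫ r)] :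
    Etale p := by
  haveI : Etale r := etale_of_isQuot hp r
  exact Etale.of_comp p r

include hp in
theorem isFinite_of_isQuot [IsFinite (p ≫ q)] : IsFinite q := by
  have haff : ∀ V : Y.Opens, IsAffineOpen V → IsAffineOpen (q ⁻¹ᵁ V) := by
    intro V hV
    apply isAffineOpen_of_isQuot hp
    have : IsAffineOpen ((p ≫ q) ⁻¹ᵁ V) := hV.preimage (p ≫ q)
    rwa [Scheme.Hom.comp_preimage] at this
  haveI : IsAffineHom q := ⟨haff⟩
  refine ⟨fun V hV => ?_⟩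
  have h1 : ((p ≫ q).app V).hom.Finite := IsFinite.finite_app (p ≫ q) V hV
  rw [Scheme.Hom.comp_app] at h1
  letI algCB : Algebra Γ(Y, V) Γ(X', q ⁻¹ᵁ V) := (q.app V).hom.toAlgebra
  letI algBA : Algebra Γ(X', q ⁻¹ᵁ V) Γ(X, p ⁻¹ᵁ (q ⁻¹ᵁ V)) := (p.app (q ⁻¹ᵁ V)).hom.toAlgebra
  letI algCA : Algebra Γ(Y, V) Γ(X, p ⁻¹ᵁ (q ⁻¹ᵁ V)) :=
    ((p.app (q ⁻¹ᵁ V)).hom.comp (q.app V).hom).toAlgebra
  haveI : IsScalarTower Γ(Y, V) Γ(X', q ⁻¹ᵁ V) Γ(X, p ⁻¹ᵁ (q ⁻¹ᵁ V)) :=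
    IsScalarTower.of_algebraMap_eq' rfl
  haveI : IsNoetherianRing Γ(Y, V) := IsLocallyNoetherian.component_noetherian ⟨V, hV⟩
  haveI : Module.Finite Γ(Y, V) Γ(X, p ⁻¹ᵁ (q ⁻¹ᵁ V)) := h1
  haveI : IsNoetherian Γ(Y, V) Γ(X, p ⁻¹ᵁ (q ⁻¹ᵁ V)) := isNoetherian_of_isNoetherianRing_of_finite _ _
  change Module.Finite Γ(Y, V) Γ(X', q ⁻¹ᵁ V)
  exact Module.Finite.of_injective
    (IsScalarTower.toAlgHom Γ(Y, V) Γ(X', q ⁻¹ᵁ V) Γ(X, p ⁻¹ᵁ (q ⁻¹ᵁ V))).toLinearMap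
    (hp.injective (q ⁻¹ᵁ V))

end Groth.Agent.Lib.Helper7.GCHR
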