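import Groth.Agent.Lib.Helper7.UE3

set_option autoImplicit false

namespace Groth.Agent.Lib.Helper7.UnipExt

open TensorProduct WithConv HopfRep Groth.Agent.Lib.Helper7.Comod
  Groth.Agent.Lib.Helper7.HopfConv Groth.Agent.Lib.Helper7.HopfMap
  Groth.Agent.Lib.Helper7.NormalFix Groth.Agent.Lib.Helper7.HopfCoinv
  Groth.Agent.Lib.Helper7.HopfSub Groth.Agent.Lib.Helper7.NormalKer

universe u

section Ext

variable {k : Type u} [Field k] {A : Type u} [CommRing A] [HopfAlgebra k A]
  {C : Type u} [CommRing C] [HopfAlgebra k C]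

/-- the coefficients of the vectors fixed by the kernel of `G → Q` lie in `O(Q)`. -/
theorem coact_mem_range_of_fixed (ψ : C →ₐc[k] A) (J : Ideal A)
    (hJ : J = Ideal.map (ψ : C →+* A) (RingHom.ker (Bialgebra.counitAlgHom k C)))
    {W : Type u} [AddCommGroup W] [Module k W] (cW : Comod k A W)
    (hfix : ∀ w : W, LinearMap.lTensor W (Ideal.Quotient.mkₐ k J).toLinearMap (cW.coact w) =
      w ⊗ₜ[k] (1 : A ⧸ J)) (w : W) :
    cW.coact w ∈ LinearMap.range (LinearMap.lTensor W (ψ : C →ₗ[k] A)) := by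
  letI := cW
  rw [mem_range_lTensor_iff]
  intro g hg
  rw [← Module.forall_dual_apply_eq_zero_iff k]
  intro φ
  rw [← apply_contrL_eq]
  change g (coeffMap (C := A) φ w) = 0
  -- the coefficient is coinvariant
  have hmem : coeffMap (C := A) φ w ∈ (ψ : C →ₐ[k] A).range := by
    apply mem_of_comul_sub_mem (isHopfSub_range ψ)
    rw [← map_ker_counit_eq_augSpan, ← hJ]
    have hex0 : Function.Exact (J.restrictScalars k).subtype
        (Ideal.Quotient.mkₐ k J).toLinearMap := by
      intro a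
      constructor
      · intro ha
        exact ⟨⟨a, Ideal.Quotient.eq_zero_iff_mem.1 ha⟩, rfl⟩
      · rintro ⟨j, rfl⟩
        exact Ideal.Quotient.eq_zero_iff_mem.2 j.2
    have hex := lTensor_exact A hex0 (Ideal.Quotient.mkₐ_surjective k J)
    refine (hex _).1 ?_
    rw [map_sub, comul_coeffMap]
    have h1 : ∀ z : W ⊗[k] A, LinearMap.lTensor A (Ideal.Quotient.mkₐ k J).toLinearMap
        ((coeffMap (C := A) φ).rTensor A z) =
        (coeffMap (C := A) φ).rTensor (A ⧸ J)
          (LinearMap.lTensor W (Ideal.Quotient.mkₐ k J).toLinearMap z) := by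
      intro z
      induction z using TensorProduct.induction_on with
      | zero => simp
      | tmul x a => simp
      | add y z hy hz => simp only [map_add, hy, hz]
    rw [h1, hfix w, LinearMap.rTensor_tmul, LinearMap.lTensor_tmul, sub_eq_zero]
    simp
  obtain ⟨c, hc⟩ := hmem
  rw [← hc]
  exact LinearMap.congr_fun hg c

/-- an extension of a unipotent group by a unipotent group is unipotent. -/
theorem isUnipotent_of_extension (ψ : C →ₐc[k] A) (hψ : Function.Injective ψ) (J : Ideal A)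
    [J.IsHopfIdeal k]
    (hJ : J = Ideal.map (ψ : C →+* A) (RingHom.ker (Bialgebra.counitAlgHom k C)))
    (hC : IsUnipotent k C) (hN : IsUnipotent k (A ⧸ J)) : IsUnipotent k A := by
  intro V _ _ cV hfin hnt
  set W : Submodule k V := LinearMap.ker (fixMap (k := k) J (V := V)) with hWdef
  have hJn : SGA3.IsNormalHopfIdeal k A J := hJ ▸ normal_map_augIdeal ψ
  have hW : IsSubcomod (k := k) (A := A) W := isSubcomod_ker_fixMap J hJn
  -- `W ≠ ⊥` since the kernel is unipotent
  have hWne : W ≠ ⊥ := by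
    have h := @hN V _ _ (push ((Bialgebra.Quotient.mkBialgHom J : A →ₐc[k] A ⧸ J) :
      A →ₗc[k] A ⧸ J) cV) hfin hnt
    obtain ⟨v, hv, hv0⟩ := Submodule.exists_mem_ne_zero_of_ne_bot h
    intro hbot
    apply hv0
    have : v ∈ W := by
      rw [hWdef, mem_ker_fixMap]
      exact hv
    rwa [hbot, Submodule.mem_bot] at this
  let cW : Comod k A ↥W := ComodSub.Comod.restr cV W hW
  have hfix : ∀ w : ↥W, LinearMap.lTensor ↥W (Ideal.Quotient.mkₐ k J).toLinearMap (cW.coact w) =
      w ⊗ₜ[k] (1 : A ⧸ J) := by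
    intro w
    apply rTensor_subtype_injective W (A ⧸ J)
    rw [rTensor_subtype_lTensor_restr, LinearMap.rTensor_tmul]
    exact (mem_ker_fixMap J (w : V)).1 w.2
  obtain ⟨c, hc⟩ := exists_comod_of_coact_mem_range ((ψ : C →ₐc[k] A) : C →ₗc[k] A) hψ cW
    (coact_mem_range_of_fixed ψ J hJ cW hfix)
  have hWnt : Nontrivial ↥W := (Submodule.nontrivial_iff_ne_bot).2 hWne
  have hfixC := @hC ↥W _ _ c inferInstance hWnt
  obtain ⟨w, hw, hw0⟩ := Submodule.exists_mem_ne_zero_of_ne_bot hfixC
  intro hbot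
  apply hw0
  have hwV : (w : V) ∈ fixedPts k A V := by
    change cV.coact (w : V) = (w : V) ⊗ₜ[k] (1 : A)
    have h1 : c.coact w = w ⊗ₜ[k] (1 : C) := hw
    have h2 : cW.coact w = w ⊗ₜ[k] (1 : A) := by
      rw [← hc, LinearMap.comp_apply, h1, LinearMap.lTensor_tmul]
      congr 1
      exact map_one ψ
    rw [← ComodSub.restr_coact_coe cV W hW w]
    change W.subtype.rTensor A (cW.coact w) = _
    rw [h2, LinearMap.rTensor_tmul]
    rfl
  rw [hbot, Submodule.mem_bot] at hwV
  exact Subtype.ext hwV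

end Ext

end Groth.Agent.Lib.Helper7.UnipExt
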