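import Groth.Agent.Lib.Helper7.TrigUnip
import Groth.Agent.Lib.Helper7.HopfSubGen
import Groth.Agent.Lib.Helper7.HopfIdealMap
import Groth.Agent.Lib.Helper7.UE4
import Groth.Agent.Lib.Helper7.ComodCocomm

set_option autoImplicit false

namespace Groth.Agent.Lib.Helper7.TrigUnip

open TensorProduct HopfRep Groth.Agent.Lib.Helper7.Comod Groth.Agent.Lib.Helper7.UnipExt
  Groth.Agent.Lib.Helper7.HopfSub Groth.Agent.Lib.Helper7.HopfSubGen
  Groth.Agent.Lib.Helper7.HopfIdealMap

universe u v

section CharSub

variable {k : Type u} [Field k] {A : Type v} [CommRing A] [HopfAlgebra k A]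

variable (k A) in
/-- the Hopf subalgebra spanned by the group-like elements. -/
def charSub : Subalgebra k A := Algebra.adjoin k {a : A | IsGroupLikeElem k a}

lemma mem_charSub_of_isGroupLikeElem {a : A} (ha : IsGroupLikeElem k a) : a ∈ charSub k A :=
  Algebra.subset_adjoin ha

lemma isHopfSub_charSub : IsHopfSub (charSub k A) := by
  apply isHopfSub_adjoin
  · intro x hx
    refine ⟨(⟨x, Algebra.subset_adjoin hx⟩ : Algebra.adjoin k {a : A | IsGroupLikeElem k a}) ⊗ₜ[k]
      ⟨x, Algebra.subset_adjoin hx⟩, ?_⟩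
    rw [TensorProduct.map_tmul]
    exact (IsGroupLikeElem.comul_eq_tmul_self hx).symm
  · intro x hx
    exact Algebra.subset_adjoin (IsGroupLikeElem.antipode hx)

lemma charSub_toSubmodule :
    Subalgebra.toSubmodule (charSub k A) = Submodule.span k {a : A | IsGroupLikeElem k a} := by
  rw [charSub, Algebra.adjoin_eq_span]
  congr 1
  exact congrArg _ (Submonoid.closure_eq (groupLikeSubmonoid k A))

lemma isGroupLikeElem_charSub {a : A} (ha : IsGroupLikeElem k a) :
    letI := hopfAlgebra (isHopfSub_charSub (k := k) (A := A))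
    IsGroupLikeElem k (⟨a, mem_charSub_of_isGroupLikeElem ha⟩ : ↥(charSub k A)) := by
  letI := hopfAlgebra (isHopfSub_charSub (k := k) (A := A))
  refine ⟨ha.counit_eq_one, ?_⟩
  apply ιι_injective (charSub k A)
  have := ιι_comulB (isHopfSub_charSub (k := k) (A := A))
    (⟨a, mem_charSub_of_isGroupLikeElem ha⟩ : ↥(charSub k A))
  refine this.trans ?_
  rw [ιι_apply, TensorProduct.map_tmul]
  exact ha.comul_eq_tmul_self

theorem isDiagonalizable_charSub :
    letI := hopfAlgebra (isHopfSub_charSub (k := k) (A := A))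
    IsDiagonalizable k ↥(charSub k A) := by
  letI := hopfAlgebra (isHopfSub_charSub (k := k) (A := A))
  change Submodule.span k {b : ↥(charSub k A) | IsGroupLikeElem k b} = ⊤
  rw [eq_top_iff]
  intro b _
  have hb : (b : A) ∈ Submodule.span k {a : A | IsGroupLikeElem k a} := by
    rw [← charSub_toSubmodule]; exact b.2
  have hle : Submodule.span k {a : A | IsGroupLikeElem k a} ≤
      (Submodule.span k {b : ↥(charSub k A) | IsGroupLikeElem k b}).map
        (charSub k A).val.toLinearMap := by
    rw [Submodule.span_le]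
    intro a ha
    exact ⟨⟨a, mem_charSub_of_isGroupLikeElem ha⟩,
      Submodule.subset_span (isGroupLikeElem_charSub ha), rfl⟩
  obtain ⟨b', hb', hbb'⟩ := hle hb
  have : b' = b := Subtype.ext hbb'
  rw [← this]
  exact hb'

end CharSub

section Quot

variable {k : Type u} [Field k] {A : Type v} [CommRing A] [HopfAlgebra k A]

/-- for a trigonalizable group, a Hopf quotient killing all characters is unipotent. -/
theorem isUnipotent_of_trig {H : Type v} [CommRing H] [HopfAlgebra k H]
    (hT : IsTrigonalizable k A) (φ : A →ₐc[k] H) (hsurj : Function.Surjective φ)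
    (hφ : ∀ a : A, IsGroupLikeElem k a → φ a = 1) : IsUnipotent k H := by
  apply isUnipotent_of_regular_exhaustive
  intro h
  obtain ⟨a, rfl⟩ := hsurj h
  obtain ⟨U, hfin, haU, hU⟩ := exists_finite_subcomod_mem (k := k) (C := A) (V := A) a
  haveI := hfin
  let cU : Comod k A ↥U := ComodSub.Comod.restr (Comod.regular k A) U hU
  have htop := fixFilt_push_eq_top hT φ hφ (Module.finrank k ↥U) ↥U cU rfl
  letI cUH : Comod k H ↥U := push ((φ : A →ₐc[k] H) : A →ₗc[k] H) cU
  let f : ↥U →ₗ[k] H := (φ : A →ₗ[k] H) ∘ₗ U.subtype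
  have hf : Hoch.IsComodHom H f := by
    apply LinearMap.ext
    intro u
    change Coalgebra.comul (R := k) (φ (u : A)) =
      f.rTensor H (LinearMap.lTensor ↥U (φ : A →ₗ[k] H) (cU.coact u))
    have h1 : Coalgebra.comul (R := k) (φ (u : A)) =
        TensorProduct.map (φ : A →ₗ[k] H) (φ : A →ₗ[k] H) (Coalgebra.comul (R := k) (u : A)) :=
      (LinearMap.congr_fun (CoalgHomClass.map_comp_comul φ) (u : A)).symm
    have h2 : Coalgebra.comul (R := k) (u : A) = U.subtype.rTensor A (cU.coact u) :=
      (ComodSub.restr_coact_coe (Comod.regular k A) U hU u).symm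
    rw [h1, h2]
    generalize cU.coact u = z
    induction z using TensorProduct.induction_on with
    | zero => simp
    | tmul x b => simp [f]
    | add y z hy hz => simp only [map_add, hy, hz]
  refine ⟨Module.finrank k ↥U, ?_⟩
  apply map_fixFilt_le hf
  refine ⟨⟨a, haU⟩, ?_, rfl⟩
  rw [htop]; trivial

end Quot

end Groth.Agent.Lib.Helper7.TrigUnip
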