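import Mathlib
import Groth.Agent.Lib.Helper7.HopfPoints
import Groth.Agent.Lib.Helper7.HopfMap

set_option autoImplicit false

namespace Groth.Agent.Lib.Helper7.GH

open Groth.Agent.Lib.Helper7.HopfSub Groth.Agent.Lib.Helper7.HopfPoints
  Groth.Agent.Lib.Helper7.HopfMap

universe u

variable {k : Type u} [Field k] [IsAlgClosed k] {A A' : Type u} [CommRing A] [HopfAlgebra k A]
  [CommRing A'] [HopfAlgebra k A']

/-- rational points lift along a homomorphism of Hopf algebras which is surjective on spectra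
(`k` algebraically closed). -/
theorem exists_algHom_comp_eq_of_comap_surjective (φ : A' →ₐc[k] A)
    (hφ : Function.Surjective (PrimeSpectrum.comap (φ : A' →+* A))) (ξ : A' →ₐ[k] k) :
    ∃ ζ : A →ₐ[k] k, ζ.comp (φ : A' →ₐ[k] A) = ξ := by
  have hker : ∀ a : A', φ a = 0 → ξ a = 0 := by
    intro a ha
    have hn : IsNilpotent a := by
      rw [nilpotent_iff_mem_prime]
      intro P hP
      obtain ⟨Q, hQ⟩ := hφ ⟨P, hP⟩
      have : a ∈ (PrimeSpectrum.comap (φ : A' →+* A) Q).asIdeal := by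
        change (φ : A' →+* A) a ∈ Q.asIdeal
        change φ a ∈ Q.asIdeal
        rw [ha]
        exact Q.asIdeal.zero_mem
      rw [hQ] at this
      exact this
    exact (hn.map ξ).eq_zero
  let φ₀ : A' →ₐ[k] A := (φ : A' →ₐ[k] A)
  have hB : IsHopfSub φ₀.range := isHopfSub_range φ
  let φr : A' →ₐ[k] ↥φ₀.range := φ₀.rangeRestrict
  have hsurj : Function.Surjective φr := φ₀.rangeRestrict_surjective
  have hker' : ∀ a : A', a ∈ RingHom.ker φr → ξ a = 0 := by
    intro a ha
    apply hker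
    have h0 : φr a = 0 := ha
    exact congrArg Subtype.val h0
  let e := Ideal.quotientKerAlgEquivOfSurjective hsurj
  let g₀ : ↥φ₀.range →ₐ[k] k :=
    (Ideal.Quotient.liftₐ (RingHom.ker φr) ξ hker').comp
      (e.symm : ↥φ₀.range →ₐ[k] A' ⧸ RingHom.ker φr)
  have hc' : ∀ a : A', g₀ ⟨φ₀ a, a, rfl⟩ = ξ a := by
    intro a
    have h1 : e.symm ⟨φ₀ a, a, rfl⟩ = Ideal.Quotient.mk _ a := by
      rw [AlgEquiv.symm_apply_eq]
      rfl
    change Ideal.Quotient.liftₐ _ ξ hker' (e.symm ⟨φ₀ a, a, rfl⟩) = ξ a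
    rw [h1]
    rfl
  obtain ⟨ζ, hζ⟩ := exists_algHom_extension φ₀.range hB g₀
  refine ⟨ζ, ?_⟩
  ext a
  exact (hζ ⟨φ₀ a, a, rfl⟩).trans (hc' a)

/-- a non-nilpotent element of a commutative Hopf algebra over an algebraically closed field is
nonzero at some rational point. -/
theorem exists_algHom_ne_zero (a : A) (ha : ¬ IsNilpotent a) : ∃ g : A →ₐ[k] k, g a ≠ 0 := by
  obtain ⟨B, haB, hBfg, hB⟩ := Groth.Agent.Lib.Helper7.HopfSubGen.exists_fg_hopfSub_mem (k := k) a
  letI := hopfAlgebra hB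
  have : Algebra.FiniteType k ↥B := (Subalgebra.fg_iff_finiteType B).1 hBfg
  have hn : ¬ IsNilpotent (⟨a, haB⟩ : ↥B) := fun h => ha (h.map B.val)
  by_contra hcon
  push Not at hcon
  apply hn
  apply Groth.Agent.Lib.Helper7.Comod.isNilpotent_of_forall_algHom_eq_zero (k := k)
  intro g₀
  obtain ⟨g, hg⟩ := exists_algHom_extension B hB g₀
  rw [← hg]
  exact hcon g

end Groth.Agent.Lib.Helper7.GH
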