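import Groth.Agent.Lib.Helper7.StabLine
import Groth.Agent.Lib.Helper7.HopfConv
import Groth.Prelude.Def_SGA3

/-!
# Fixed vectors of a normal subgroup form a subrepresentation (helper7)
-/

universe u v w x

open TensorProduct

namespace Groth.Agent.Lib.Helper7.NormalFix

open HopfRep WithConv Groth.Agent.Lib.Helper7.Comod Groth.Agent.Lib.Helper7.StabLine
  Groth.Agent.Lib.Helper7.HopfConv

lemma monoid_conj_aux {M : Type*} [Monoid M] (g gi h : M) (e : g * gi = 1) :
    h * g = g * (gi * h * g) := by
  rw [← mul_assoc, ← mul_assoc, e, one_mul]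

section Conv

variable {k : Type u} [Field k] {A : Type v} [CommRing A] [HopfAlgebra k A]
  {R : Type x} [CommRing R] [Algebra k R]

lemma conv3_eq {A : Type u} [CommRing A] [HopfAlgebra k A] {R : Type u} [CommRing R] [Algebra k R]
    (f g h : A →ₐ[k] R) :
    Dyn.conv3 k A f g h = (toConv f * toConv g * toConv h).ofConv := by
  rw [AlgHom.convMul_def, AlgHom.convMul_def]
  unfold Dyn.conv3
  simp only [ofConv_toConv]
  congr 1
  rw [← AlgHom.comp_assoc]
  congr 1
  ext a <;> simp

variable {V : Type w} [AddCommGroup V] [Module k V] [Comod k A V]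

lemma lTensor_convMul (g h : A →ₐ[k] R) (v : V) :
    LinearMap.lTensor V (toConv g * toConv h).ofConv.toLinearMap
        (Comod.coact (k := k) (A := A) v) =
      extR g.toLinearMap (LinearMap.lTensor V h.toLinearMap (Comod.coact (k := k) (A := A) v)) := by
  have h1 : (toConv g * toConv h).ofConv.toLinearMap =
      (LinearMap.mul' k R ∘ₗ TensorProduct.map g.toLinearMap h.toLinearMap) ∘ₗ
        Coalgebra.comul (R := k) := by
    rw [AlgHom.convMul_def]
    rfl
  have h2 := LinearMap.congr_fun (Comod.coassoc (k := k) (A := A) (V := V)) v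
  simp only [LinearMap.comp_apply, LinearEquiv.coe_coe] at h2
  rw [h1, LinearMap.lTensor_comp, LinearMap.comp_apply, ← h2]
  generalize Comod.coact (k := k) (A := A) v = y
  induction y using TensorProduct.induction_on with
  | zero => simp
  | add y z hy hz => simp only [map_add, hy, hz]
  | tmul u a =>
    rw [LinearMap.rTensor_tmul, LinearMap.lTensor_tmul, extR_tmul]
    generalize Comod.coact (k := k) (A := A) u = z
    induction z using TensorProduct.induction_on with
    | zero => simp
    | add y z hy hz => simp only [map_add, TensorProduct.add_tmul, hy, hz]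
    | tmul u' b => simp

end Conv

section Fixed

variable {k : Type u} [Field k] {A : Type u} [CommRing A] [HopfAlgebra k A]
  (I : Ideal A)
  {V : Type w} [AddCommGroup V] [Module k V] [Comod k A V]

/-- the map `v ↦ (id ⊗ mk)ρ(v) - v ⊗ 1`. -/
noncomputable def fixMap : V →ₗ[k] V ⊗[k] (A ⧸ I) :=
  LinearMap.lTensor V (Ideal.Quotient.mkₐ k I).toLinearMap ∘ₗ Comod.coact (k := k) (A := A) -
    (TensorProduct.mk k V (A ⧸ I)).flip 1

lemma mem_ker_fixMap (v : V) : v ∈ LinearMap.ker (fixMap (k := k) I (V := V)) ↔
    LinearMap.lTensor V (Ideal.Quotient.mkₐ k I).toLinearMap (Comod.coact (k := k) (A := A) v) =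
      v ⊗ₜ[k] (1 : A ⧸ I) := by
  rw [LinearMap.mem_ker, fixMap, LinearMap.sub_apply, sub_eq_zero]
  rfl

/-- a point killing `I` fixes the `I`-fixed vectors. -/
lemma lTensor_eq_of_kills {R : Type x} [CommRing R] [Algebra k R] (h : A →ₐ[k] R)
    (hh : ∀ a ∈ I, h a = 0) {v : V} (hv : v ∈ LinearMap.ker (fixMap (k := k) I (V := V))) :
    LinearMap.lTensor V h.toLinearMap (Comod.coact (k := k) (A := A) v) = v ⊗ₜ[k] (1 : R) := by
  rw [mem_ker_fixMap] at hv
  let hbar : A ⧸ I →ₐ[k] R := Ideal.Quotient.liftₐ I h hh
  have h1 : h.toLinearMap = hbar.toLinearMap ∘ₗ (Ideal.Quotient.mkₐ k I).toLinearMap := by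
    apply LinearMap.ext
    intro a
    simp [hbar]
  rw [h1, LinearMap.lTensor_comp, LinearMap.comp_apply, hv, LinearMap.lTensor_tmul]
  simp

variable (hI : SGA3.IsNormalHopfIdeal k A I)

include hI in
/-- **S7968**: the fixed vectors of a normal subgroup form a subcomodule. -/
theorem isSubcomod_ker_fixMap :
    IsSubcomod (k := k) (A := A) (LinearMap.ker (fixMap (k := k) I (V := V))) := by
  intro w hw
  have hex := Module.Flat.rTensor_exact A (LinearMap.exact_subtype_ker_map (fixMap (k := k) I (V := V)))
  refine (hex _).1 ?_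
  -- the two universal points
  let g : A →ₐ[k] (A ⧸ I) ⊗[k] A := Algebra.TensorProduct.includeRight
  let h : A →ₐ[k] (A ⧸ I) ⊗[k] A :=
    (Algebra.TensorProduct.includeLeft (R := k) (S := k) (A := A ⧸ I) (B := A)).comp
      (Ideal.Quotient.mkₐ k I)
  have hh : ∀ a ∈ I, h a = 0 := by
    intro a ha
    simp only [h, AlgHom.comp_apply, Ideal.Quotient.mkₐ_eq_mk]
    rw [Ideal.Quotient.eq_zero_iff_mem.2 ha, map_zero]
  -- the conjugate `g⁻¹ h g` kills `I`
  set gi : A →ₐ[k] (A ⧸ I) ⊗[k] A := g.comp (HopfAlgebra.antipodeAlgHom k A) with hgi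
  have hinv : toConv (gi.comp (HopfAlgebra.antipodeAlgHom k A)) = toConv g :=
    left_inv_eq_right_inv (antipode_mul_self gi) (antipode_mul_self g)
  have hh'' : ∀ a ∈ I, (toConv gi * toConv h * toConv g).ofConv a = 0 := by
    intro a ha
    have := hI ((A ⧸ I) ⊗[k] A) gi h hh a ha
    rwa [conv3_eq, hinv] at this
  -- `h g = g (g⁻¹ h g)`
  have hgrp : toConv h * toConv g = toConv g * (toConv gi * toConv h * toConv g) :=
    monoid_conj_aux (M := WithConv (A →ₐ[k] (A ⧸ I) ⊗[k] A)) (toConv g) (toConv gi) (toConv h)
      (self_mul_antipode g)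
  have key : LinearMap.lTensor V (toConv h * toConv g).ofConv.toLinearMap
      (Comod.coact (k := k) (A := A) w) =
      LinearMap.lTensor V g.toLinearMap (Comod.coact (k := k) (A := A) w) := by
    rw [hgrp, lTensor_convMul, lTensor_eq_of_kills I _ hh'' hw, extR_tmul, rmul_one]
  -- transport along the associator
  apply (TensorProduct.assoc k V (A ⧸ I) A).injective
  rw [map_zero]
  have h1 : (TensorProduct.assoc k V (A ⧸ I) A) ((fixMap (k := k) I (V := V)).rTensor A
      (Comod.coact (k := k) (A := A) w)) =
      LinearMap.lTensor V (toConv h * toConv g).ofConv.toLinearMap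
        (Comod.coact (k := k) (A := A) w) -
      LinearMap.lTensor V g.toLinearMap (Comod.coact (k := k) (A := A) w) := by
    have h2 : (toConv h * toConv g).ofConv.toLinearMap =
        TensorProduct.map (Ideal.Quotient.mkₐ k I).toLinearMap LinearMap.id ∘ₗ
          Coalgebra.comul (R := k) := by
      rw [AlgHom.convMul_def]
      apply LinearMap.ext
      intro a
      change (Algebra.TensorProduct.lmul' k) ((Algebra.TensorProduct.map h g)
        (Coalgebra.comul (R := k) a)) = _
      rw [LinearMap.comp_apply]
      generalize Coalgebra.comul (R := k) a = y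
      induction y using TensorProduct.induction_on with
      | zero => simp
      | add y z hy hz => simp only [map_add, hy, hz]
      | tmul a b => simp [h, g]
    have h3 := LinearMap.congr_fun (Comod.coassoc (k := k) (A := A) (V := V)) w
    simp only [LinearMap.comp_apply, LinearEquiv.coe_coe] at h3
    rw [h2, LinearMap.lTensor_comp, LinearMap.comp_apply, ← h3]
    rw [fixMap, LinearMap.rTensor_sub, LinearMap.sub_apply, map_sub]
    congr 1
    · generalize Comod.coact (k := k) (A := A) w = y
      induction y using TensorProduct.induction_on with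
      | zero => simp
      | add y z hy hz => simp only [map_add, hy, hz]
      | tmul u a =>
        rw [LinearMap.rTensor_tmul, LinearMap.rTensor_tmul, LinearMap.comp_apply]
        generalize Comod.coact (k := k) (A := A) u = z
        induction z using TensorProduct.induction_on with
        | zero => simp
        | add y z hy hz => simp only [map_add, TensorProduct.add_tmul, hy, hz]
        | tmul u' b => simp
    · generalize Comod.coact (k := k) (A := A) w = y
      induction y using TensorProduct.induction_on with
      | zero => simp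
      | add y z hy hz => simp only [map_add, hy, hz]
      | tmul u a => simp [g]
  rw [h1, key, sub_self]

end Fixed

end Groth.Agent.Lib.Helper7.NormalFix
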