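import Groth.Agent.Lib.Helper7.GLnReductive
import Groth.Agent.Lib.Helper7.ComodRetract
import Mathlib.Algebra.Algebra.Operations

/-!
# Homogeneous representations of `GL_n` (helper7)

A representation of `GL_n` on which the scalar torus acts through `t ↦ t^h` has its coefficients in
`(polynomials of degree a) · det^(-c)` for suitable `a`, `c` with `a - n c = h`.
-/

universe u v w w'

open TensorProduct LaurentPolynomial

namespace Groth.Agent.Lib.Helper7.GLnHomog

open HopfRep ComodTens CoordGrp Groth.Agent.Lib.Helper7.Comod Groth.Agent.Lib.Helper7.Subquot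
  Groth.Agent.Lib.Helper7.Unitarian Groth.Agent.Lib.Helper7.GLnRed

section Weights

variable (n : ℕ) (k : Type u) [Field k]

/-- the scalar one-parameter subgroup. -/
noncomputable def dg : GLn n k →ₐc[k] k[T;T⁻¹] := GLn.diag n k (fun _ => 1)

lemma dg_X (i j : Fin n) : dg n k (GLn.X i j) = if i = j then T 1 else 0 := GLn.diag_X _ i j

lemma dg_Dinv : dg n k GLn.Dinv = T (-(n : ℤ)) := by
  unfold dg
  rw [GLn.diag_Dinv]
  simp

/-- restriction of functions along `G × G_m → G`, `(g, t) ↦ g t`. -/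
noncomputable def Φ : GLn n k →ₐ[k] GLn n k ⊗[k] k[T;T⁻¹] :=
  (Algebra.TensorProduct.map (AlgHom.id k (GLn n k)) (dg n k : GLn n k →ₐ[k] k[T;T⁻¹])).comp
    (Bialgebra.comulAlgHom k (GLn n k))

lemma Φ_apply (f : GLn n k) : Φ n k f =
    (dg n k : GLn n k →ₗ[k] k[T;T⁻¹]).lTensor (GLn n k) (Coalgebra.comul (R := k) f) := by
  unfold Φ
  rw [AlgHom.comp_apply]
  change Algebra.TensorProduct.map (AlgHom.id k (GLn n k)) (dg n k : GLn n k →ₐ[k] k[T;T⁻¹])
    (Coalgebra.comul (R := k) f) = _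
  generalize Coalgebra.comul (R := k) f = y
  induction y using TensorProduct.induction_on with
  | zero => simp
  | add y z hy hz => simp only [map_add, hy, hz]
  | tmul x a => simp

lemma Φ_X (i j : Fin n) : Φ n k (GLn.X i j) = GLn.X i j ⊗ₜ[k] T 1 := by
  rw [Φ_apply, GLn.comul_X, map_sum]
  simp only [LinearMap.lTensor_tmul]
  rw [Finset.sum_eq_single j]
  · change GLn.X i j ⊗ₜ[k] dg n k (GLn.X j j) = _
    rw [dg_X, if_pos rfl]
  · intro l _ hl
    change GLn.X i l ⊗ₜ[k] dg n k (GLn.X l j) = _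
    rw [dg_X, if_neg hl, TensorProduct.tmul_zero]
  · intro h; exact absurd (Finset.mem_univ j) h

lemma Φ_Dinv : Φ n k GLn.Dinv = GLn.Dinv ⊗ₜ[k] T (-(n : ℤ)) := by
  rw [Φ_apply, GLn.comul_Dinv, LinearMap.lTensor_tmul]
  change GLn.Dinv ⊗ₜ[k] dg n k GLn.Dinv = _
  rw [dg_Dinv]

/-- the weight spaces of the scalar torus acting by right translation. -/
noncomputable def wt (e : ℤ) : Submodule k (GLn n k) :=
  LinearMap.ker ((Φ n k).toLinearMap - (TensorProduct.mk k (GLn n k) k[T;T⁻¹]).flip (T e))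

lemma mem_wt {e : ℤ} {f : GLn n k} : f ∈ wt n k e ↔ Φ n k f = f ⊗ₜ[k] T e := by
  unfold wt
  rw [LinearMap.mem_ker, LinearMap.sub_apply, sub_eq_zero]
  rfl

lemma one_mem_wt : (1 : GLn n k) ∈ wt n k 0 := by
  rw [mem_wt, map_one, T_zero]
  rfl

lemma mul_mem_wt {e e' : ℤ} {f g : GLn n k} (hf : f ∈ wt n k e) (hg : g ∈ wt n k e') :
    f * g ∈ wt n k (e + e') := by
  rw [mem_wt] at *
  rw [map_mul, hf, hg, Algebra.TensorProduct.tmul_mul_tmul, T_add]

lemma X_mem_wt (i j : Fin n) : GLn.X i j ∈ wt n k 1 := (mem_wt n k).2 (Φ_X n k i j)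

lemma Dinv_mem_wt : GLn.Dinv ∈ wt n k (-(n : ℤ)) := (mem_wt n k).2 (Φ_Dinv n k)

lemma pow_mem_wt {e : ℤ} {f : GLn n k} (hf : f ∈ wt n k e) (c : ℕ) : f ^ c ∈ wt n k (c * e) := by
  induction c with
  | zero => simpa using one_mem_wt n k
  | succ c ih =>
    rw [pow_succ]
    have := mul_mem_wt n k ih hf
    have h2 : ((c + 1 : ℕ) : ℤ) * e = c * e + e := by push_cast; ring
    rw [h2]
    exact this

/-- the coefficient functional on Laurent polynomials. -/
noncomputable def coeffFn (e : ℤ) : k[T;T⁻¹] →ₗ[k] k :=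
  Finsupp.lapply e ∘ₗ (AddMonoidAlgebra.coeffLinearEquiv k).toLinearMap

lemma coeffFn_T (e e' : ℤ) : coeffFn k e (T e' : k[T;T⁻¹]) = if e' = e then 1 else 0 := by
  unfold coeffFn LaurentPolynomial.T
  simp [Finsupp.single_apply]

/-- projection to the weight `e` part. -/
noncomputable def pr (e : ℤ) : GLn n k →ₗ[k] GLn n k :=
  contr (GLn n k) (coeffFn k e) ∘ₗ (Φ n k).toLinearMap

lemma pr_of_mem {e e' : ℤ} {f : GLn n k} (hf : f ∈ wt n k e') :
    pr n k e f = if e' = e then f else 0 := by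
  unfold pr
  rw [LinearMap.comp_apply]
  change contr (GLn n k) (coeffFn k e) (Φ n k f) = _
  rw [(mem_wt n k).1 hf, contr_tmul, coeffFn_T]
  split_ifs <;> simp

end Weights

section Monomials

variable (n : ℕ) (k : Type u) [Field k]

/-- the span of the matrix entries. -/
noncomputable def PX : Submodule k (GLn n k) :=
  Submodule.span k (Set.range fun p : Fin n × Fin n => GLn.X p.1 p.2)

/-- degree `a` polynomials in the entries times `det^(-c)`. -/
noncomputable def MM (a c : ℕ) : Submodule k (GLn n k) :=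
  PX n k ^ a * Submodule.span k {(GLn.Dinv : GLn n k) ^ c}

lemma X_mem_PX (i j : Fin n) : GLn.X i j ∈ PX n k := Submodule.subset_span ⟨(i, j), rfl⟩

lemma MM_mul_PX (a c : ℕ) : MM n k a c * PX n k = MM n k (a + 1) c := by
  unfold MM
  rw [pow_succ, mul_right_comm]

lemma MM_mul_pow_PX (a c d : ℕ) : MM n k a c * PX n k ^ d = MM n k (a + d) c := by
  unfold MM
  rw [pow_add, mul_right_comm]

lemma MM_mul_Dinv (a c : ℕ) :
    MM n k a c * Submodule.span k {(GLn.Dinv : GLn n k)} = MM n k a (c + 1) := by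
  unfold MM
  rw [mul_assoc, Submodule.span_mul_span, Set.singleton_mul_singleton, ← pow_succ]

lemma one_mem_MM : (1 : GLn n k) ∈ MM n k 0 0 := by
  unfold MM
  rw [pow_zero, pow_zero, ← Submodule.one_eq_span, one_mul]
  exact Submodule.one_le.1 le_rfl

lemma prod_mem_pow {ι : Type*} (P : Submodule k (GLn n k)) (s : Finset ι) (f : ι → GLn n k)
    (h : ∀ i ∈ s, f i ∈ P) : ∏ i ∈ s, f i ∈ P ^ s.card := by
  classical
  induction s using Finset.induction_on with
  | empty =>
    rw [Finset.prod_empty, Finset.card_empty, pow_zero]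
    exact Submodule.one_le.1 le_rfl
  | insert a s ha ih =>
    rw [Finset.prod_insert ha, Finset.card_insert_of_notMem ha, pow_succ, mul_comm (f a)]
    exact Submodule.mul_mem_mul (ih (fun i hi => h i (Finset.mem_insert_of_mem hi)))
      (h a (Finset.mem_insert_self a s))

lemma det_mem_pow : (GLn.det : GLn n k) ∈ PX n k ^ n := by
  rw [GLn.det_eq, Matrix.det_apply]
  refine Submodule.sum_mem _ (fun σ _ => ?_)
  rw [Units.smul_def]
  refine zsmul_mem ?_ _
  have h := prod_mem_pow n k (PX n k) Finset.univ (fun i => GLn.genMat n k (σ i) i)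
    (fun i _ => X_mem_PX n k (σ i) i)
  rw [Finset.card_univ, Fintype.card_fin] at h
  exact h

lemma MM_le_succ (a c : ℕ) : MM n k a c ≤ MM n k (a + n) (c + 1) := by
  intro x hx
  have h1 : x * GLn.det ∈ MM n k (a + n) c := by
    rw [← MM_mul_pow_PX]
    exact Submodule.mul_mem_mul hx (det_mem_pow n k)
  have h2 : x * GLn.det * GLn.Dinv ∈ MM n k (a + n) (c + 1) := by
    rw [← MM_mul_Dinv]
    exact Submodule.mul_mem_mul h1 (Submodule.subset_span rfl)
  rw [mul_assoc, GLn.det_mul_Dinv, mul_one] at h2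
  exact h2

lemma MM_le_add (a c d : ℕ) : MM n k a c ≤ MM n k (a + n * d) (c + d) := by
  induction d with
  | zero => simp
  | succ d ih =>
    refine ih.trans ?_
    have := MM_le_succ n k (a + n * d) (c + d)
    have e1 : a + n * d + n = a + n * (d + 1) := by ring
    have e2 : c + d + 1 = c + (d + 1) := by ring
    rw [e1, e2] at this
    exact this

lemma iSup_MM : ⨆ p : ℕ × ℕ, MM n k p.1 p.2 = ⊤ := by
  rw [eq_top_iff]
  rintro y -
  set S := ⨆ p : ℕ × ℕ, MM n k p.1 p.2 with hS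
  have hX : ∀ x ∈ S, ∀ i j, x * GLn.X i j ∈ S := by
    intro x hx i j
    refine Submodule.iSup_induction _ (motive := fun x => x * GLn.X i j ∈ S) hx ?_ ?_ ?_
    · intro p x hx
      have : x * GLn.X i j ∈ MM n k (p.1 + 1) p.2 := by
        rw [← MM_mul_PX]
        exact Submodule.mul_mem_mul hx (X_mem_PX n k i j)
      exact (le_iSup (fun p : ℕ × ℕ => MM n k p.1 p.2) (p.1 + 1, p.2)) this
    · rw [zero_mul]; exact Submodule.zero_mem _
    · intro x y hx hy
      rw [add_mul]; exact Submodule.add_mem _ hx hy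
  have hD : ∀ x ∈ S, x * GLn.Dinv ∈ S := by
    intro x hx
    refine Submodule.iSup_induction _ (motive := fun x => x * GLn.Dinv ∈ S) hx ?_ ?_ ?_
    · intro p x hx
      have : x * GLn.Dinv ∈ MM n k p.1 (p.2 + 1) := by
        rw [← MM_mul_Dinv]
        exact Submodule.mul_mem_mul hx (Submodule.subset_span rfl)
      exact (le_iSup (fun p : ℕ × ℕ => MM n k p.1 p.2) (p.1, p.2 + 1)) this
    · rw [zero_mul]; exact Submodule.zero_mem _
    · intro x y hx hy
      rw [add_mul]; exact Submodule.add_mem _ hx hy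
  have h1 : (1 : GLn n k) ∈ S :=
    (le_iSup (fun p : ℕ × ℕ => MM n k p.1 p.2) (0, 0)) (one_mem_MM n k)
  obtain ⟨F, rfl⟩ := Ideal.Quotient.mkₐ_surjective k (GLb.relIdeal n k) y
  let g : MvPolynomial (GLPoly.Idx n) k →ₐ[k] GLn n k := GLn.mk n k
  have key : ∀ F : MvPolynomial (GLPoly.Idx n) k, g F ∈ S := by
    intro F
    induction F using MvPolynomial.induction_on with
    | C r =>
      have : g (MvPolynomial.C r) = r • (1 : GLn n k) := by
        rw [Algebra.smul_def, mul_one]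
        exact AlgHomClass.commutes g r
      rw [this]
      exact Submodule.smul_mem _ _ h1
    | add p q hp hq => rw [map_add]; exact Submodule.add_mem _ hp hq
    | mul_X p s hp =>
      rw [map_mul]
      rcases s with ⟨i, j⟩ | ⟨⟩
      · exact hX _ hp i j
      · exact hD _ hp
  exact key F

lemma PX_pow_le_wt (a : ℕ) : PX n k ^ a ≤ wt n k a := by
  induction a with
  | zero =>
    rw [pow_zero, Submodule.one_le]
    simpa using one_mem_wt n k
  | succ a ih =>
    rw [pow_succ, Submodule.mul_le]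
    intro m hm x hx
    have hx' : x ∈ wt n k 1 := by
      have : PX n k ≤ wt n k 1 := by
        unfold PX
        rw [Submodule.span_le]
        rintro _ ⟨p, rfl⟩
        exact X_mem_wt n k p.1 p.2
      exact this hx
    have := mul_mem_wt n k (ih hm) hx'
    push_cast
    exact this

lemma MM_le_wt (a c : ℕ) : MM n k a c ≤ wt n k ((a : ℤ) - n * c) := by
  unfold MM
  rw [Submodule.mul_le]
  intro m hm d hd
  obtain ⟨r, rfl⟩ := Submodule.mem_span_singleton.1 hd
  have h1 := mul_mem_wt n k (PX_pow_le_wt n k a hm) (pow_mem_wt n k (Dinv_mem_wt n k) c)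
  have e : (a : ℤ) + c * -(n : ℤ) = a - n * c := by ring
  rw [e] at h1
  rw [mul_smul_comm]
  exact Submodule.smul_mem _ _ h1

/-- the weight `h` part is the union of the `MM a c` with `a - n c = h`. -/
lemma wt_le_iSup (h : ℤ) :
    wt n k h ≤ ⨆ p : {p : ℕ × ℕ // (p.1 : ℤ) = h + n * p.2}, MM n k p.1.1 p.1.2 := by
  intro f hf
  set T' := ⨆ p : {p : ℕ × ℕ // (p.1 : ℤ) = h + n * p.2}, MM n k p.1.1 p.1.2 with hT
  have hmap : (⨆ p : ℕ × ℕ, MM n k p.1 p.2) ≤ T'.comap (pr n k h) := by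
    apply iSup_le
    intro p x hx
    rw [Submodule.mem_comap, pr_of_mem n k (MM_le_wt n k p.1 p.2 hx)]
    split_ifs with he
    · have hp : (p.1 : ℤ) = h + n * p.2 := by rw [← he]; ring
      exact (le_iSup (fun p : {p : ℕ × ℕ // (p.1 : ℤ) = h + n * p.2} => MM n k p.1.1 p.1.2)
        ⟨p, hp⟩) hx
    · exact Submodule.zero_mem _
  have h1 : f ∈ T'.comap (pr n k h) := hmap (by rw [iSup_MM]; trivial)
  rw [Submodule.mem_comap, pr_of_mem n k hf, if_pos rfl] at h1
  exact h1

end Monomials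

section Final

variable (n : ℕ) (k : Type u) [Field k]

lemma PX_pow_le_cf (a : ℕ) : PX n k ^ a ≤ cf (Comod.tpow (cStd n k) a) := by
  induction a with
  | zero =>
    rw [pow_zero, Submodule.one_le]
    exact one_mem_cf_tpow_zero _
  | succ a ih =>
    rw [pow_succ, Submodule.mul_le]
    intro m hm x hx
    unfold PX at hx
    induction hx using Submodule.span_induction with
    | mem x hx =>
      obtain ⟨p, rfl⟩ := hx
      exact mul_mem_cf_tpow_succ _ a (ih hm) (X_mem_cf_cStd n k p.1 p.2)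
    | zero => rw [mul_zero]; exact Submodule.zero_mem _
    | add x y _ _ hx hy => rw [mul_add]; exact Submodule.add_mem _ hx hy
    | smul r x _ hx => rw [mul_smul_comm]; exact Submodule.smul_mem _ _ hx

variable {n k} in
lemma mul_mem_cf_twist {A : Type v} [CommRing A] [Bialgebra k A] {V : Type w} [AddCommGroup V]
    [Module k V] (c : Comod k A V) (g : A) (hg : IsGroupLikeElem k g) {f : A} (hf : f ∈ cf c) :
    f * g ∈ cf (Comod.twist c g hg) := by
  unfold cf coeffSpace at hf
  refine Submodule.iSup_induction _ (motive := fun f => f * g ∈ cf (Comod.twist c g hg)) hf ?_ ?_ ?_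
  · rintro φ _ ⟨v, rfl⟩
    have h : contrL A φ ((Comod.twist c g hg).coact v) =
        @coeffMap k _ A _ _ _ V _ _ c φ v * g := by
      rw [twist_coact, contrL_lTensor]
      rfl
    rw [← h]
    exact contrL_coact_mem _ _ _
  · rw [zero_mul]; exact Submodule.zero_mem _
  · intro x y hx hy
    rw [add_mul]; exact Submodule.add_mem _ hx hy

lemma MM_le_cf (a c : ℕ) : MM n k a c ≤ cf (Comod.twist (Comod.tpow (cStd n k) a)
    ((GLn.Dinv : GLn n k) ^ c) (IsGroupLikeElem.pow ⟨GLn.counit_Dinv, GLn.comul_Dinv⟩)) := by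
  unfold MM
  rw [Submodule.mul_le]
  intro m hm d hd
  obtain ⟨r, rfl⟩ := Submodule.mem_span_singleton.1 hd
  rw [mul_smul_comm]
  exact Submodule.smul_mem _ _ (mul_mem_cf_twist _ _ _ (PX_pow_le_cf n k a hm))

variable {n k} in
/-- the coefficients of a representation on which the scalars act with weight `h` have
weight `h`. -/
lemma cf_le_wt {V : Type w} [AddCommGroup V] [Module k V] (ρ : Comod k (GLn n k) V) (h : ℤ)
    (hh : @HopfRep.eigenspace k k[T;T⁻¹] _ _ _ V _ _
      (GLin.comodAlong (GLn.diag n k (fun _ => 1)) ρ) (T h) = ⊤) :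
    cf ρ ≤ wt n k h := by
  unfold cf coeffSpace
  apply iSup_le
  rintro φ _ ⟨v, rfl⟩
  rw [mem_wt, Φ_apply]
  have hv : TensorProduct.map LinearMap.id (dg n k : GLn n k →ₗ[k] k[T;T⁻¹]) (ρ.coact v) =
      v ⊗ₜ[k] T h := by
    have : v ∈ @HopfRep.eigenspace k k[T;T⁻¹] _ _ _ V _ _
        (GLin.comodAlong (GLn.diag n k (fun _ => 1)) ρ) (T h) := by rw [hh]; trivial
    exact this
  have h1 := @comul_coeffMap k _ (GLn n k) _ _ _ V _ _ ρ φ v
  rw [h1]
  have h2 : (dg n k : GLn n k →ₗ[k] k[T;T⁻¹]).lTensor (GLn n k)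
      ((@coeffMap k _ (GLn n k) _ _ _ V _ _ ρ φ).rTensor (GLn n k) (ρ.coact v)) =
      (@coeffMap k _ (GLn n k) _ _ _ V _ _ ρ φ).rTensor k[T;T⁻¹]
        (TensorProduct.map LinearMap.id (dg n k : GLn n k →ₗ[k] k[T;T⁻¹]) (ρ.coact v)) := by
    generalize ρ.coact v = y
    induction y using TensorProduct.induction_on with
    | zero => simp
    | add y z hy hz => simp only [map_add, hy, hz]
    | tmul x a => simp
  change (dg n k : GLn n k →ₗ[k] k[T;T⁻¹]).lTensor (GLn n k)
      ((@coeffMap k _ (GLn n k) _ _ _ V _ _ ρ φ).rTensor (GLn n k) (ρ.coact v)) = _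
  rw [h2, hv, LinearMap.rTensor_tmul]

variable {n k} in
/-- **Homogeneous representations**: if the scalars act with weight `h` on a finite-dimensional
representation of `GL_n` (`n ≥ 1`), its coefficients lie in those of
`(k^n)^(⊗ a) ⊗ det^(-c)` for some `a` and some `c > 0`. -/
theorem exists_cf_le (hn : 0 < n) {V : Type w} [AddCommGroup V] [Module k V] [Module.Finite k V]
    (ρ : Comod k (GLn n k) V) (h : ℤ)
    (hh : @HopfRep.eigenspace k k[T;T⁻¹] _ _ _ V _ _
      (GLin.comodAlong (GLn.diag n k (fun _ => 1)) ρ) (T h) = ⊤) :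
    ∃ a c : ℕ, 0 < c ∧ cf ρ ≤ cf (Comod.twist (Comod.tpow (cStd n k) a)
      ((GLn.Dinv : GLn n k) ^ c) (IsGroupLikeElem.pow ⟨GLn.counit_Dinv, GLn.comul_Dinv⟩)) := by
  classical
  have h1 : cf ρ ≤ ⨆ p : {p : ℕ × ℕ // (p.1 : ℤ) = h + n * p.2}, MM n k p.1.1 p.1.2 :=
    (cf_le_wt ρ h hh).trans (wt_le_iSup n k h)
  have hfg : (cf ρ).FG := by
    have := @finite_coeffSpace k _ (GLn n k) _ _ _ V _ _ ρ _
    exact Module.Finite.iff_fg.1 this
  have hcpt := (Submodule.fg_iff_compact _).1 hfg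
  obtain ⟨t, ht⟩ := CompleteLattice.IsCompactElement.exists_finset_of_le_iSup _ hcpt _ h1
  set C : ℕ := t.sup (fun p => p.1.2) + 1 with hC
  refine ⟨(h + n * C).toNat, C, Nat.succ_pos _, ht.trans ?_⟩
  refine (iSup₂_le ?_).trans (MM_le_cf n k _ C)
  intro p hp
  have hpc : p.1.2 ≤ C := (Finset.le_sup (f := fun p : {p : ℕ × ℕ // (p.1 : ℤ) = h + n * p.2} =>
    p.1.2) hp).trans (Nat.le_succ _)
  have h2 := MM_le_add n k p.1.1 p.1.2 (C - p.1.2)
  have e1 : p.1.2 + (C - p.1.2) = C := Nat.add_sub_cancel' hpc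
  have e2 : p.1.1 + n * (C - p.1.2) = (h + n * C).toNat := by
    have : (h + n * C) = ((p.1.1 + n * (C - p.1.2) : ℕ) : ℤ) := by
      push_cast
      rw [p.2, Nat.cast_sub hpc]
      ring
    rw [this, Int.toNat_natCast]
  rw [e1, e2] at h2
  exact h2

end Final

end Groth.Agent.Lib.Helper7.GLnHomog
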