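import Groth.Agent.Lib.Helper7.Unitarian
import Groth.Agent.Lib.Helper7.HopfBaseChange
import Mathlib.Algebra.Algebra.Rat

/-!
# The general linear group is linearly reductive in characteristic zero (helper7)

Algebraic unitarian trick over an ordered field, then base change.
-/

universe u v w w'

open TensorProduct

namespace Groth.Agent.Lib.Helper7.GLnRed

open HopfRep ComodTens CoordGrp Groth.Agent.Lib.Helper7.Comod Groth.Agent.Lib.Helper7.Subquot
  Groth.Agent.Lib.Helper7.Unitarian

section Transpose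

variable (n : ℕ) (k : Type u) [Field k]

lemma transpose_det : ((GLn.genMat n k).transpose).det * (GLn.Dinv : GLn n k) = 1 := by
  rw [Matrix.det_transpose, ← GLn.det_eq, GLn.det_mul_Dinv]

/-- transposition on `GL_n`, as an algebra endomorphism of the coordinate ring. -/
noncomputable def tr : GLn n k →ₐ[k] GLn n k :=
  GLn.pt n k (GLn.genMat n k).transpose GLn.Dinv (transpose_det n k)

@[simp] lemma tr_X (i j : Fin n) : tr n k (GLn.X i j) = GLn.X j i := by
  unfold tr
  rw [GLn.pt_X]
  rfl

@[simp] lemma tr_Dinv : tr n k GLn.Dinv = GLn.Dinv := by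
  unfold tr
  rw [GLn.pt_Dinv]

lemma tr_tr : (tr n k).comp (tr n k) = AlgHom.id k (GLn n k) := by
  apply GLn.algHom_ext
  · intro i j
    simp
  · simp

lemma tr_injective : Function.Injective (tr n k) := by
  intro x y h
  have := congrArg (tr n k) h
  have h2 : ∀ z, tr n k (tr n k z) = z := fun z => AlgHom.congr_fun (tr_tr n k) z
  rw [h2, h2] at this
  exact this

/-- the standard representation of `GL_n`. -/
@[reducible] noncomputable def cStd : Comod k (GLn n k) (Fin n → k) :=
  GLin.comodAlong (Mat.toGLn n k) (stdVec n k)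

lemma cStd_coact_single (j : Fin n) :
    (cStd n k).coact (Pi.single j 1) = ∑ l : Fin n, (Pi.single l (1 : k)) ⊗ₜ[k] GLn.X l j := by
  change TensorProduct.map LinearMap.id (Mat.toGLn n k : Mat n k →ₗ[k] GLn n k)
      ((stdVec n k).coact (Pi.single j 1)) = _
  rw [stdVec_coact_single, map_sum]
  apply Finset.sum_congr rfl
  intro l _
  rw [TensorProduct.map_tmul]
  simp only [LinearMap.id_apply]
  congr 1
  change Mat.toGLn n k (Mat.X l j) = _
  rw [Mat.toGLn_X]

lemma cm_cStd (i j : Fin n) : cm (cStd n k) (Pi.basisFun k (Fin n)) i j = GLn.X i j := by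
  unfold cm
  rw [Pi.basisFun_apply, cStd_coact_single, map_sum]
  simp only [contrL_tmul, Module.Basis.coord_apply, Pi.basisFun_repr]
  rw [Finset.sum_eq_single i]
  · simp
  · intro l _ hl
    rw [Pi.single_eq_of_ne (Ne.symm hl), zero_smul]
  · intro h; exact absurd (Finset.mem_univ i) h

lemma isOrth_cStd : IsOrth (tr n k) (cStd n k) :=
  ⟨Fin n, inferInstance, inferInstance, Pi.basisFun k (Fin n), fun i j => by
    rw [cm_cStd, cm_cStd, tr_X]⟩

lemma X_mem_cf_cStd (i j : Fin n) : GLn.X i j ∈ cf (cStd n k) := by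
  rw [← cm_cStd]
  exact contrL_coact_mem _ _ _

/-- the generating representation: standard plus inverse determinant. -/
@[reducible] noncomputable def cGen : Comod k (GLn n k) ((Fin n → k) × k) :=
  Comod.prod (cStd n k) (Comod.ofGroupLike (GLn.Dinv : GLn n k) ⟨GLn.counit_Dinv, GLn.comul_Dinv⟩)

lemma isOrth_cGen : IsOrth (tr n k) (cGen n k) :=
  (isOrth_cStd n k).prod (IsOrth.ofGroupLike _ (tr_Dinv n k))

lemma Dinv_mem_cf : (GLn.Dinv : GLn n k) ∈
    cf (Comod.ofGroupLike (GLn.Dinv : GLn n k) ⟨GLn.counit_Dinv, GLn.comul_Dinv⟩) := by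
  have h := contrL_coact_mem (Comod.ofGroupLike (GLn.Dinv : GLn n k)
    ⟨GLn.counit_Dinv, GLn.comul_Dinv⟩) (LinearMap.id : k →ₗ[k] k) (1 : k)
  rw [ofGroupLike_coact, contrL_tmul, LinearMap.id_apply, one_smul] at h
  exact h

lemma adjoin_cf_cGen : Algebra.adjoin k (cf (cGen n k) : Set (GLn n k)) = ⊤ := by
  rw [eq_top_iff]
  intro y _
  obtain ⟨x, rfl⟩ := Ideal.Quotient.mkₐ_surjective k (GLb.relIdeal n k) y
  have htop : (⊤ : Subalgebra k (MvPolynomial (GLPoly.Idx n) k)) ≤
      ((Algebra.adjoin k (cf (cGen n k) : Set (GLn n k))).comap (GLn.mk n k)) := by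
    rw [← MvPolynomial.adjoin_range_X]
    apply Algebra.adjoin_le
    rintro _ ⟨s, rfl⟩
    rcases s with ⟨i, j⟩ | ⟨⟩
    · exact Algebra.subset_adjoin (cf_le_prod_left _ _ (X_mem_cf_cStd n k i j))
    · exact Algebra.subset_adjoin (cf_le_prod_right _ _ (Dinv_mem_cf n k))
  exact htop (Algebra.mem_top (R := k) (A := MvPolynomial (GLPoly.Idx n) k) (x := x))

lemma iSup_cf_tpow_cGen : ⨆ m, cf (Comod.tpow (cGen n k) m) = ⊤ := by
  rw [eq_top_iff]
  refine le_trans ?_ (adjoin_le_iSup_cf_tpow (cGen n k))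
  rw [adjoin_cf_cGen]
  exact le_of_eq Algebra.top_toSubmodule.symm

end Transpose

section Ordered

variable (n : ℕ) (k : Type u) [Field k] [LinearOrder k] [IsStrictOrderedRing k]

/-- `GL_n` over an ordered field is linearly reductive. -/
theorem isLinearlyReductive_GLn_ordered : IsLinearlyReductive k (GLn n k) :=
  isLinearlyReductive_of_isOrth (cGen n k) (tr n k) (tr_injective n k) (isOrth_cGen n k)
    (iSup_cf_tpow_cGen n k)

end Ordered

section Along

variable {k : Type u} [Field k] {A : Type v} [CommRing A] [Bialgebra k A]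
  {B : Type w} [CommRing B] [Bialgebra k B] {V : Type w'} [AddCommGroup V] [Module k V]

lemma contrL_comodAlong (π : A →ₐc[k] B) (c : Comod k A V) (φ : V →ₗ[k] k) (v : V) :
    contrL B φ ((GLin.comodAlong π c).coact v) = π (contrL A φ (c.coact v)) := by
  change contrL B φ (TensorProduct.map LinearMap.id (π : A →ₗ[k] B) (c.coact v)) = _
  exact contrL_lTensor φ (π : A →ₗ[k] B) (c.coact v)

lemma cm_comodAlong {ι : Type*} [Fintype ι] [DecidableEq ι] (π : A →ₐc[k] B) (c : Comod k A V)
    (b : Module.Basis ι k V) (i j : ι) : cm (GLin.comodAlong π c) b i j = π (cm c b i j) :=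
  contrL_comodAlong π c _ _

lemma IsOrth.comodAlong {π : A →ₐc[k] B} {τ : A →ₐ[k] A} {τ' : B →ₐ[k] B}
    (hτ : ∀ x, τ' (π x) = π (τ x)) {c : Comod k A V} (h : IsOrth τ c) :
    IsOrth τ' (GLin.comodAlong π c) := by
  obtain ⟨ι, hF, hD, b, hb⟩ := h
  refine ⟨ι, hF, hD, b, fun i j => ?_⟩
  rw [cm_comodAlong, cm_comodAlong, hτ, hb]

lemma map_mem_cf_comodAlong (π : A →ₐc[k] B) (c : Comod k A V) {a : A} (ha : a ∈ cf c) :
    π a ∈ cf (GLin.comodAlong π c) := by
  unfold cf coeffSpace at ha
  refine Submodule.iSup_induction _ (motive := fun a => π a ∈ cf (GLin.comodAlong π c)) ha ?_ ?_ ?_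
  · rintro φ _ ⟨v, rfl⟩
    have h := contrL_comodAlong π c φ v
    change _ = π (@coeffMap k _ A _ _ _ V _ _ c φ v) at h
    rw [← h]
    exact contrL_coact_mem _ _ _
  · rw [map_zero]; exact Submodule.zero_mem _
  · intro x y hx hy
    rw [map_add]; exact Submodule.add_mem _ hx hy

end Along

section SelfAdjoint

variable {n : ℕ} {k : Type u} [Field k] [LinearOrder k] [IsStrictOrderedRing k]
  {A : Type u} [CommRing A] [HopfAlgebra k A]

/-- A closed subgroup of `GL_n` over an ordered field which is stable under transposition is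
linearly reductive. -/
theorem isLinearlyReductive_of_selfAdjoint (π : GLn n k →ₐc[k] A) (hπ : Function.Surjective π)
    (τ : A →ₐ[k] A) (hτ : ∀ x, τ (π x) = π (tr n k x)) : IsLinearlyReductive k A := by
  have hinj : Function.Injective τ := by
    have h2 : ∀ z, τ (τ z) = z := by
      intro z
      obtain ⟨x, rfl⟩ := hπ z
      rw [hτ, hτ]
      exact congrArg π (AlgHom.congr_fun (tr_tr n k) x)
    intro x y h
    have := congrArg τ h
    rw [h2, h2] at this
    exact this
  refine isLinearlyReductive_of_isOrth (GLin.comodAlong π (cGen n k)) τ hinj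
    (IsOrth.comodAlong hτ (isOrth_cGen n k)) ?_
  rw [eq_top_iff]
  refine le_trans ?_ (adjoin_le_iSup_cf_tpow (GLin.comodAlong π (cGen n k)))
  rintro y -
  obtain ⟨x, rfl⟩ := hπ y
  have hx : x ∈ Algebra.adjoin k (cf (cGen n k) : Set (GLn n k)) := by
    rw [adjoin_cf_cGen]; trivial
  change π x ∈ Algebra.adjoin k (cf (GLin.comodAlong π (cGen n k)) : Set A)
  induction hx using Algebra.adjoin_induction with
  | mem a ha => exact Algebra.subset_adjoin (map_mem_cf_comodAlong π _ ha)
  | algebraMap r =>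
    rw [AlgHomClass.commutes]
    exact Subalgebra.algebraMap_mem _ r
  | add a b _ _ ha hb => rw [map_add]; exact Subalgebra.add_mem _ ha hb
  | mul a b _ _ ha hb => rw [map_mul]; exact Subalgebra.mul_mem _ ha hb

end SelfAdjoint

section Transfer

variable {k : Type u} [Field k] {A : Type v} [CommRing A] [HopfAlgebra k A]
  {B : Type w} [CommRing B] [HopfAlgebra k B]

/-- total integrals pull back along injective bialgebra maps (quotient groups of linearly
reductive groups are linearly reductive). -/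
theorem isLinearlyReductive_of_injective (f : B →ₐc[k] A) (hf : Function.Injective f)
    (hA : IsLinearlyReductive k A) : IsLinearlyReductive k B := by
  rw [isLinearlyReductive_iff_exists_isTrivIntegral] at hA ⊢
  obtain ⟨α, hα⟩ := hA
  rw [isTrivIntegral_iff] at hα
  refine ⟨α ∘ₗ (f : B →ₗ[k] A), (isTrivIntegral_iff _).2 ⟨?_, ?_⟩⟩
  · intro b
    have hinj : Function.Injective ((f : B →ₗ[k] A).lTensor k) :=
      Module.Flat.lTensor_preserves_injective_linearMap _ hf
    apply hinj
    rw [LinearMap.lTensor_tmul]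
    change (α (f b)) ⊗ₜ[k] f 1 = _
    rw [map_one, hα.1 (f b)]
    have hcomul : Coalgebra.comul (R := k) (f b) =
        TensorProduct.map (f : B →ₗ[k] A) (f : B →ₗ[k] A) (Coalgebra.comul (R := k) b) :=
      (LinearMap.congr_fun (CoalgHomClass.map_comp_comul f) b).symm
    rw [hcomul]
    generalize Coalgebra.comul (R := k) b = y
    induction y using TensorProduct.induction_on with
    | zero => simp
    | add y z hy hz => simp only [map_add, hy, hz]
    | tmul x y => simp
  · change α (f 1) = 1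
    rw [map_one, hα.2]

end Transfer

section BaseChange

variable (n : ℕ) (k : Type u) (K : Type v) [Field k] [Field K] [Algebra k K]

/-- the generic matrix over the base change. -/
noncomputable def bcMat : Matrix (Fin n) (Fin n) (K ⊗[k] GLn n k) :=
  fun i j => (1 : K) ⊗ₜ[k] GLn.X i j

lemma bcMat_det : (bcMat n k K).det * ((1 : K) ⊗ₜ[k] (GLn.Dinv : GLn n k)) = 1 := by
  have h : bcMat n k K = (Algebra.TensorProduct.includeRight :
      GLn n k →ₐ[k] K ⊗[k] GLn n k).mapMatrix (GLn.genMat n k) := by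
    ext i j; rfl
  rw [h, ← AlgHom.map_det, ← GLn.det_eq]
  change ((1 : K) ⊗ₜ[k] (GLn.det : GLn n k)) * ((1 : K) ⊗ₜ[k] (GLn.Dinv : GLn n k)) = 1
  rw [Algebra.TensorProduct.tmul_mul_tmul, mul_one, GLn.det_mul_Dinv]
  rfl

/-- the comparison map `O(GL_n)_K → K ⊗ O(GL_n)_k`, as an algebra map. -/
noncomputable def bcAlg : GLn n K →ₐ[K] K ⊗[k] GLn n k :=
  GLn.pt n K (bcMat n k K) ((1 : K) ⊗ₜ[k] (GLn.Dinv : GLn n k)) (bcMat_det n k K)

@[simp] lemma bcAlg_X (i j : Fin n) : bcAlg n k K (GLn.X i j) = (1 : K) ⊗ₜ[k] GLn.X i j :=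
  GLn.pt_X _ _ _ i j

/-- the comparison map as a bialgebra map. -/
noncomputable def bcHom : GLn n K →ₐc[K] K ⊗[k] GLn n k :=
  BialgHom.ofAlgHom (bcAlg n k K)
    (by
      apply Groth.Agent.Lib.Helper7.HopfGLn.algHom_ext_X
      intro i j
      rw [AlgHom.comp_apply, bcAlg_X]
      change Coalgebra.counit (R := K) ((1 : K) ⊗ₜ[k] (GLn.X i j : GLn n k)) =
        Coalgebra.counit (R := K) (GLn.X i j : GLn n K)
      rw [TensorProduct.counit_tmul, GLn.counit_X, GLn.counit_X]
      by_cases h : i = j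
      · simp [h]
      · simp [h])
    (by
      apply Groth.Agent.Lib.Helper7.HopfGLn.algHom_ext_X
      intro i j
      rw [AlgHom.comp_apply, AlgHom.comp_apply, bcAlg_X]
      change Algebra.TensorProduct.map (bcAlg n k K) (bcAlg n k K)
        (Coalgebra.comul (R := K) (GLn.X i j : GLn n K)) =
        Coalgebra.comul (R := K) ((1 : K) ⊗ₜ[k] (GLn.X i j : GLn n k))
      rw [GLn.comul_X, map_sum, comul_tmul_eq, GLn.comul_X]
      unfold bcPair
      rw [TensorProduct.tmul_sum, map_sum]
      apply Finset.sum_congr rfl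
      intro l _
      rw [Algebra.TensorProduct.map_tmul, bcAlg_X, bcAlg_X]
      simp)

lemma bcHom_injective : Function.Injective (bcHom n k K) := by
  letI : Algebra k (GLn n K) := Algebra.compHom (GLn n K) (algebraMap k K)
  haveI : IsScalarTower k K (GLn n K) := IsScalarTower.of_algebraMap_eq (fun x => rfl)
  have hdet : (GLn.genMat n K).det * (GLn.Dinv : GLn n K) = 1 := by
    rw [← GLn.det_eq, GLn.det_mul_Dinv]
  let g₀ : GLn n k →ₐ[k] GLn n K := GLn.pt n k (GLn.genMat n K) GLn.Dinv hdet
  let g : K ⊗[k] GLn n k →ₐ[K] GLn n K :=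
    Algebra.TensorProduct.lift (Algebra.ofId K (GLn n K)) g₀ (fun x y => Commute.all _ _)
  have hgf : g.comp (bcAlg n k K) = AlgHom.id K (GLn n K) := by
    apply Groth.Agent.Lib.Helper7.HopfGLn.algHom_ext_X
    intro i j
    rw [AlgHom.comp_apply, bcAlg_X]
    change Algebra.TensorProduct.lift (Algebra.ofId K (GLn n K)) g₀ _ ((1 : K) ⊗ₜ[k] GLn.X i j) = _
    rw [Algebra.TensorProduct.lift_tmul, map_one, one_mul]
    change GLn.pt n k (GLn.genMat n K) GLn.Dinv hdet (GLn.X i j) = _
    rw [GLn.pt_X]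
    rfl
  intro x y h
  have := congrArg g h
  exact (AlgHom.congr_fun hgf x).symm.trans (this.trans (AlgHom.congr_fun hgf y))

end BaseChange

section CharZero

/-- `GL_n` over any field of characteristic zero is linearly reductive. -/
theorem isLinearlyReductive_GLn (n : ℕ) (K : Type v) [Field K] [CharZero K] :
    IsLinearlyReductive K (GLn n K) := by
  have h1 : IsLinearlyReductive ℚ (GLn n ℚ) := isLinearlyReductive_GLn_ordered n ℚ
  have h2 : IsLinearlyReductive K (K ⊗[ℚ] GLn n ℚ) :=
    (isLinearlyReductive_baseChange_iff (k := ℚ) (K := K) (A := GLn n ℚ)).1 h1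
  exact isLinearlyReductive_of_injective (bcHom n ℚ K) (bcHom_injective n ℚ K) h2

end CharZero

end Groth.Agent.Lib.Helper7.GLnRed
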