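import Mathlib
import Groth.Agent.Lib.Helper7.GModComod2

set_option autoImplicit false

namespace Groth.Agent.Lib.Helper7.GModComod

open CategoryTheory MonoidalCategory CartesianMonoidalCategory MonObj GrpObj AlgebraicGeometry
open TensorProduct WithConv

universe u

variable {R : Type u} [CommRing R] {A : Type u} [CommRing A] [HopfAlgebra R A]
  {E : Type u} [AddCommGroup E] [Module R E]
  {B : Type u} [CommRing B] [Algebra R B] {B' : Type u} [CommRing B'] [Algebra R B']

lemma gmod_ext {m m' : VecGrp.GMod ((Spec (CommRingCat.of A)).asOver (Spec (CommRingCat.of R))) E}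
    (h : ∀ (B : Type u) [CommRing B] [Algebra R B]
      (g : VecGrp.pt R B ⟶ ((Spec (CommRingCat.of A)).asOver (Spec (CommRingCat.of R)))) (x : E),
      m.ρ B g ((1 : B) ⊗ₜ[R] x) = m'.ρ B g ((1 : B) ⊗ₜ[R] x)) : m = m' := by
  cases m with
  | mk ρ nat =>
    cases m' with
    | mk ρ' nat' =>
      have : ρ = ρ' := by
        funext B _ _
        apply MonoidHom.ext
        intro g
        apply LinearEquiv.toLinearMap_injective
        exact ext_one_tmul (h B g)
      subst this
      rfl

lemma ev_one (z : E ⊗[R] A) : ev E (1 : WithConv (A →ₐ[R] B)).ofConv z =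
    (TensorProduct.comm R E B) (LinearMap.lTensor E (Algebra.linearMap R B)
      (LinearMap.lTensor E (CoalgebraStruct.counit (R := R) (A := A)) z)) := by
  induction z using TensorProduct.induction_on with
  | zero => simp
  | add x y hx hy => rw [map_add, hx, hy, map_add, map_add, map_add]
  | tmul x a =>
    rw [ev_tmul, AlgHom.convOne_apply]
    rfl

lemma ev_id (z : E ⊗[R] A) : ev E (AlgHom.id R A) z = (TensorProduct.comm R E A) z := by
  induction z using TensorProduct.induction_on with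
  | zero => simp
  | add x y hx hy => rw [map_add, hx, hy, map_add]
  | tmul x a => rfl

lemma ev2_incl (w : E ⊗[R] (A ⊗[R] A)) :
    ev2 E (Algebra.TensorProduct.includeLeft : A →ₐ[R] A ⊗[R] A)
      (Algebra.TensorProduct.includeRight : A →ₐ[R] A ⊗[R] A) w =
      (TensorProduct.comm R E (A ⊗[R] A)) w := by
  induction w using TensorProduct.induction_on with
  | zero => simp
  | add x y hx hy => rw [map_add, hx, hy, map_add]
  | tmul x d =>
    induction d using TensorProduct.induction_on with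
    | zero => simp
    | add x y hx hy => rw [TensorProduct.tmul_add, map_add, hx, hy, map_add]
    | tmul a' a =>
      rw [ev2_tmul, TensorProduct.comm_tmul, Algebra.TensorProduct.includeLeft_apply,
        Algebra.TensorProduct.includeRight_apply, Algebra.TensorProduct.tmul_mul_tmul, _root_.mul_one,
        _root_.one_mul]

section Part1

variable [HopfRep.Comod R A E]

theorem part1 :
    ∃! m : VecGrp.GMod ((Spec (CommRingCat.of A)).asOver (Spec (CommRingCat.of R))) E,
      (∀ (B : Type u) [CommRing B] [Algebra R B]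
        (g : VecGrp.pt R B ⟶ ((Spec (CommRingCat.of A)).asOver (Spec (CommRingCat.of R)))) (x : E),
        m.ρ B g ((1 : B) ⊗ₜ[R] x) =
          (TensorProduct.comm R E B) (LinearMap.lTensor E
            (Spec.mapMulEquiv.symm g).ofConv.toLinearMap
            (HopfRep.Comod.coact (k := R) (A := A) x))) := by
  refine ⟨toGMod (HopfRep.Comod.coact (k := R) (A := A) (V := E)) HopfRep.Comod.coassoc
    HopfRep.Comod.counit_comp, ?_, ?_⟩
  · intro B _ _ g x
    rw [toGMod_apply, act_one_tmul]
    rfl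
  · intro m' hm'
    apply gmod_ext
    intro B _ _ g x
    rw [hm' B g x, toGMod_apply, act_one_tmul]
    rfl

end Part1

section Part2

variable (m : VecGrp.GMod ((Spec (CommRingCat.of A)).asOver (Spec (CommRingCat.of R))) E)

/-- the universal point. -/
noncomputable def g₀ : VecGrp.pt R A ⟶ ((Spec (CommRingCat.of A)).asOver (Spec (CommRingCat.of R))) :=
  pg (AlgHom.id R A)

/-- the coaction defined by a `G`-module structure. -/
noncomputable def toCoact : E →ₗ[R] E ⊗[R] A :=
  (TensorProduct.comm R E A).symm.toLinearMap ∘ₗ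
    ((m.ρ A g₀).toLinearMap.restrictScalars R) ∘ₗ (TensorProduct.mk R A E 1)

lemma comm_toCoact (x : E) :
    (TensorProduct.comm R E A) (toCoact m x) = m.ρ A g₀ ((1 : A) ⊗ₜ[R] x) := by
  unfold toCoact
  simp

lemma eq_ptMap_comp_g₀
    (g : VecGrp.pt R B ⟶ ((Spec (CommRingCat.of A)).asOver (Spec (CommRingCat.of R)))) :
    g = VecGrp.ptMap (pf g) ≫ g₀ := by
  have h := ptMap_comp_pg (pf g) (AlgHom.id R A)
  rw [AlgHom.comp_id] at h
  refine Eq.trans ?_ h.symm
  exact (pg_pf g).symm

/-- the formula for the action in terms of the coaction. -/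
lemma rho_one_tmul
    (g : VecGrp.pt R B ⟶ ((Spec (CommRingCat.of A)).asOver (Spec (CommRingCat.of R)))) (x : E) :
    m.ρ B g ((1 : B) ⊗ₜ[R] x) = ev E (pf g) (toCoact m x) := by
  have h1 := m.naturality (pf g) g₀ ((1 : A) ⊗ₜ[R] x)
  rw [VecGrp.Wmap_tmul, map_one] at h1
  have h2 : m.ρ B (VecGrp.ptMap (pf g) ≫ g₀) ((1 : B) ⊗ₜ[R] x) = m.ρ B g ((1 : B) ⊗ₜ[R] x) := by
    rw [← eq_ptMap_comp_g₀ g]
  rw [← h2, ← h1, ← comm_toCoact, ← ev_id]
  have h3 := wmap_ev (E := E) (pf g) (AlgHom.id R A) (toCoact m x)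
  rw [AlgHom.comp_id] at h3
  exact h3

lemma rho_eq_act
    (g : VecGrp.pt R B ⟶ ((Spec (CommRingCat.of A)).asOver (Spec (CommRingCat.of R)))) :
    (m.ρ B g).toLinearMap = act (toCoact m) (pf g) := by
  apply ext_one_tmul
  intro x
  rw [act_one_tmul]
  exact rho_one_tmul m g x

lemma toCoact_coassoc :
    (TensorProduct.assoc R E A A).toLinearMap ∘ₗ (toCoact m).rTensor A ∘ₗ toCoact m =
      (CoalgebraStruct.comul (R := R) (A := A)).lTensor E ∘ₗ toCoact m := by
  apply LinearMap.ext
  intro x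
  rw [LinearMap.comp_apply, LinearMap.comp_apply, LinearMap.comp_apply]
  apply (TensorProduct.comm R E (A ⊗[R] A)).injective
  rw [← ev2_incl, ← ev2_incl]
  set g₁ : VecGrp.pt R (A ⊗[R] A) ⟶ ((Spec (CommRingCat.of A)).asOver (Spec (CommRingCat.of R))) :=
    pg (Algebra.TensorProduct.includeLeft : A →ₐ[R] A ⊗[R] A) with hg₁
  set g₂ : VecGrp.pt R (A ⊗[R] A) ⟶ ((Spec (CommRingCat.of A)).asOver (Spec (CommRingCat.of R))) :=
    pg (Algebra.TensorProduct.includeRight : A →ₐ[R] A ⊗[R] A) with hg₂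
  have e1 : pf g₁ = Algebra.TensorProduct.includeLeft := pf_pg _
  have e2 : pf g₂ = Algebra.TensorProduct.includeRight := pf_pg _
  have h := map_mul (m.ρ (A ⊗[R] A)) g₁ g₂
  have h' := LinearEquiv.congr_fun h ((1 : A ⊗[R] A) ⊗ₜ[R] x)
  rw [LinearEquiv.mul_apply, rho_one_tmul, rho_one_tmul m g₂] at h'
  have h3 : m.ρ (A ⊗[R] A) g₁ (ev E (pf g₂) (toCoact m x)) =
      act (toCoact m) (pf g₁) (ev E (pf g₂) (toCoact m x)) :=
    LinearMap.congr_fun (rho_eq_act m g₁) _
  rw [h3, act_ev, e1, e2] at h'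
  have h4 : pf (g₁ * g₂) = (toConv (pf g₁) * toConv (pf g₂)).ofConv := pf_mul g₁ g₂
  rw [h4, ev_convMul, e1, e2] at h'
  exact h'.symm

lemma toCoact_counit :
    (CoalgebraStruct.counit (R := R) (A := A)).lTensor E ∘ₗ toCoact m =
      (TensorProduct.mk R E R).flip 1 := by
  apply LinearMap.ext
  intro x
  rw [LinearMap.comp_apply]
  have h := map_one (m.ρ R)
  have h' := LinearEquiv.congr_fun h ((1 : R) ⊗ₜ[R] x)
  rw [rho_one_tmul] at h'
  have h4 : pf (1 : VecGrp.pt R R ⟶ ((Spec (CommRingCat.of A)).asOver (Spec (CommRingCat.of R)))) =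
      (1 : WithConv (A →ₐ[R] R)).ofConv := pf_one
  rw [h4, ev_one] at h'
  have h5 : (LinearMap.lTensor E (Algebra.linearMap R R))
      ((LinearMap.lTensor E (CoalgebraStruct.counit (R := R) (A := A))) (toCoact m x)) =
      (LinearMap.lTensor E (CoalgebraStruct.counit (R := R) (A := A))) (toCoact m x) := by
    have : Algebra.linearMap R R = LinearMap.id := by ext; simp
    rw [this, LinearMap.lTensor_id, LinearMap.id_apply]
  rw [h5] at h'
  apply (TensorProduct.comm R E R).injective
  rw [h']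
  rfl

theorem part2 :
    ∃! δ : E →ₗ[R] E ⊗[R] A,
      ((TensorProduct.assoc R E A A).toLinearMap ∘ₗ δ.rTensor A ∘ₗ δ =
          (CoalgebraStruct.comul (R := R) (A := A)).lTensor E ∘ₗ δ ∧
        (CoalgebraStruct.counit (R := R) (A := A)).lTensor E ∘ₗ δ = (TensorProduct.mk R E R).flip 1) ∧
      (∀ (B : Type u) [CommRing B] [Algebra R B]
        (g : VecGrp.pt R B ⟶ ((Spec (CommRingCat.of A)).asOver (Spec (CommRingCat.of R)))) (x : E),
        m.ρ B g ((1 : B) ⊗ₜ[R] x) =
          (TensorProduct.comm R E B) (LinearMap.lTensor E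
            (Spec.mapMulEquiv.symm g).ofConv.toLinearMap (δ x))) := by
  refine ⟨toCoact m, ⟨⟨toCoact_coassoc m, toCoact_counit m⟩, ?_⟩, ?_⟩
  · intro B _ _ g x
    rw [rho_one_tmul]
    rfl
  · rintro δ' ⟨-, hδ'⟩
    apply LinearMap.ext
    intro x
    apply (TensorProduct.comm R E A).injective
    rw [comm_toCoact, hδ' A g₀ x]
    have e0 : (Spec.mapMulEquiv.symm (g₀ (R := R) (A := A))).ofConv = AlgHom.id R A := pf_pg _
    rw [e0]
    have : (AlgHom.id R A).toLinearMap = LinearMap.id := rfl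
    rw [this, LinearMap.lTensor_id, LinearMap.id_apply]

end Part2

end Groth.Agent.Lib.Helper7.GModComod
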