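import Groth.Agent.Lib.Helper21.DSPts
import Mathlib.Algebra.Polynomial.Bivariate
import Mathlib.Algebra.Polynomial.Degree.Lemmas

/-!
# Group laws on the affine line over a field (helper7)

Pure algebra: a functorial group law on the forgetful functor `k-Alg → Set` with unit `e` is
`a + b - e` (`law_eq`).  Scheme side: points of `Spec R` over `Spec k`, and the formula for the group law of
any group structure on `Red.Ga (Spec k)`.
-/

set_option autoImplicit false
universe u
open Polynomial

namespace Groth.Agent.Lib.Helper7.GaLaw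

section Algebra

variable (k : Type u) [Field k]

theorem aevalAeval_eq_comp (q M : k[X][X]) :
    aevalAeval (R := k) (C X : k[X][X]) q M = M.comp q := by
  have h : ((aevalAeval (R := k) (C X : k[X][X]) q : k[X][X] →ₐ[k] k[X][X]) : k[X][X] →+* k[X][X])
      = compRingHom q := by
    ext <;> simp
  exact congrArg (fun f : k[X][X] →+* k[X][X] => f M) h

theorem aeval_C_X (p : k[X]) : aeval (C X : k[X][X]) p = C p := by
  have h : ((aeval (R := k) (C X : k[X][X]) : k[X] →ₐ[k] k[X][X]) : k[X] →+* k[X][X]) = C := by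
    ext <;> simp
  exact congrArg (fun f : k[X] →+* k[X][X] => f p) h

/-- A functorial group law on the underlying sets of `k`-algebras, with unit `e`, is `a + b - e`. -/
theorem law_eq
    (m : ∀ (R : Type u) [CommRing R] [Algebra k R], R → R → R)
    (inv : ∀ (R : Type u) [CommRing R] [Algebra k R], R → R)
    (e : k)
    (hnat : ∀ (R R' : Type u) [CommRing R] [CommRing R'] [Algebra k R] [Algebra k R']
      (φ : R →ₐ[k] R') (a b : R), φ (m R a b) = m R' (φ a) (φ b))
    (hassoc : ∀ (R : Type u) [CommRing R] [Algebra k R] (a b c : R),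
      m R (m R a b) c = m R a (m R b c))
    (hone : ∀ (R : Type u) [CommRing R] [Algebra k R] (a : R), m R a (algebraMap k R e) = a)
    (hone' : ∀ (R : Type u) [CommRing R] [Algebra k R] (a : R), m R (algebraMap k R e) a = a)
    (hinv : ∀ (R : Type u) [CommRing R] [Algebra k R] (a : R), m R (inv R a) a = algebraMap k R e)
    (R : Type u) [CommRing R] [Algebra k R] (a b : R) :
    m R a b = a + b - algebraMap k R e := by
  set M : k[X][X] := m (k[X][X]) X (C X) with hM
  have step1 : ∀ (R : Type u) [CommRing R] [Algebra k R] (a b : R),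
      m R a b = aevalAeval (R := k) b a M := by
    intro R _ _ a b
    rw [hM, hnat]
    simp
  set q : k[X][X] := m (k[X][X]) X (inv (k[X][X]) (C X)) with hq
  have hcomp : M.comp q = X := by
    rw [← aevalAeval_eq_comp, ← step1, hq, hassoc, hinv, hone]
  have hdeg : M.natDegree * q.natDegree = 1 := by rw [← natDegree_comp, hcomp, natDegree_X]
  have hM1 : M.natDegree = 1 := Nat.eq_one_of_mul_eq_one_right hdeg
  have hq1 : q.natDegree = 1 := Nat.eq_one_of_mul_eq_one_left hdeg
  obtain ⟨A1, B1, hMeq⟩ : ∃ A1 B1 : k[X], M = C A1 * X + C B1 :=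
    ⟨_, _, eq_X_add_C_of_natDegree_le_one hM1.le⟩
  obtain ⟨A2, B2, hqeq⟩ : ∃ A2 B2 : k[X], q = C A2 * X + C B2 :=
    ⟨_, _, eq_X_add_C_of_natDegree_le_one hq1.le⟩
  have hA12 : A1 * A2 = 1 := by
    have h0 : M.comp q = C (A1 * A2) * X + C (A1 * B2 + B1) := by
      rw [hMeq]
      simp only [add_comp, mul_comp, C_comp, X_comp]
      rw [hqeq, C_mul, C_add, C_mul]
      ring
    have := congrArg (fun p => p.coeff 1) hcomp
    simpa [h0] using this
  obtain ⟨c, hc⟩ : ∃ c : k, A1 = C c := by
    have hu : IsUnit A1 := IsUnit.of_mul_eq_one _ hA12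
    obtain ⟨c, _, rfl⟩ := Polynomial.isUnit_iff.mp hu
    exact ⟨c, rfl⟩
  have h1 := hone (k[X][X]) X
  rw [step1, hMeq] at h1
  have h2 := hone' (k[X][X]) (C X)
  rw [step1, hMeq] at h2
  simp only [map_add, map_mul, aevalAeval_C, aevalAeval_Y, aeval_C_X,
    aeval_algebraMap_apply_eq_algebraMap_eval] at h1 h2
  have hc1 : c = 1 := by
    have := congrArg (fun p => (p.coeff 1).coeff 0) h1
    simpa [hc, Polynomial.algebraMap_apply, coeff_C] using this
  have hA1 : A1 = 1 := by rw [hc, hc1, C_1]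
  have hB1 : B1 = X - C e := by
    have h3 : C (A1 * C e + B1) = (C X : k[X][X]) := by
      rw [← h2, C_add, C_mul]; rfl
    have h4 := C_injective h3
    rw [hA1, one_mul] at h4
    rw [← h4]; ring
  rw [step1, hMeq, hA1, hB1]
  simp only [map_add, map_sub, map_one, aevalAeval_C, aevalAeval_Y, aeval_X, aeval_C, one_mul]
  ring

end Algebra

end Groth.Agent.Lib.Helper7.GaLaw

namespace Groth.Agent.Lib.Helper7.GaLaw

open CategoryTheory MonoidalCategory CartesianMonoidalCategory MonObj GrpObj AlgebraicGeometry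
  CategoryTheory.Limits
open Groth.Agent.Lib.Helper21.GaPts

section Points

variable (k : Type u) [Field k]

/-- `Spec R` as a scheme over `Spec k`. -/
noncomputable def XR (R : Type u) [CommRing R] [Algebra k R] : Over (Spec (CommRingCat.of k)) :=
  Over.mk (Spec.map (CommRingCat.ofHom (algebraMap k R)))

variable {k}

/-- The morphism `Spec R' ⟶ Spec R` over `Spec k` of a `k`-algebra map `R → R'`. -/
noncomputable def XRmap {R R' : Type u} [CommRing R] [CommRing R'] [Algebra k R] [Algebra k R']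
    (φ : R →ₐ[k] R') : XR k R' ⟶ XR k R :=
  Over.homMk (Spec.map (CommRingCat.ofHom (φ : R →+* R'))) (by
    change Spec.map _ ≫ Spec.map _ = Spec.map _
    rw [← Spec.map_comp, ← CommRingCat.ofHom_comp, φ.comp_algebraMap])

/-- The `k`-algebra structure on the global functions of a `k`-scheme. -/
@[reducible] noncomputable def algΓ (X : Over (Spec (CommRingCat.of k))) : Algebra k Γ(X.left, ⊤) :=
  (evalHom X.hom).toAlgebra

/-- The canonical morphism `X ⟶ Spec Γ(X, O_X)` over `Spec k`. -/
noncomputable def canon (X : Over (Spec (CommRingCat.of k))) :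
    letI := algΓ X
    X ⟶ XR k Γ(X.left, ⊤) :=
  letI := algΓ X
  Over.homMk X.left.toSpecΓ (by
    change X.left.toSpecΓ ≫ Spec.map (CommRingCat.ofHom (evalHom X.hom)) = X.hom
    exact ofRingHom_evalHom X.hom)

end Points

section Ga

variable {k : Type u} [Field k]

/-- The value in `R` of an `R`-point of `𝔾_a`. -/
noncomputable def gaVal (R : Type u) [CommRing R] [Algebra k R]
    (a : XR k R ⟶ Red.Ga (Spec (CommRingCat.of k))) : R :=
  (Scheme.ΓSpecIso (CommRingCat.of R)).hom (Red.gaFn a)

/-- The `R`-point of `𝔾_a` with value `r`. -/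
noncomputable def gaOf (R : Type u) [CommRing R] [Algebra k R] (r : R) :
    XR k R ⟶ Red.Ga (Spec (CommRingCat.of k)) :=
  gaPt ((Scheme.ΓSpecIso (CommRingCat.of R)).inv r)

@[simp]
theorem gaVal_gaOf (R : Type u) [CommRing R] [Algebra k R] (r : R) : gaVal R (gaOf (k := k) R r) = r := by
  rw [gaVal, gaOf, gaFn_gaPt]
  exact congrArg (fun f : CommRingCat.of R ⟶ CommRingCat.of R => f r)
    (Scheme.ΓSpecIso (CommRingCat.of R)).inv_hom_id

theorem gaVal_injective (R : Type u) [CommRing R] [Algebra k R] :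
    Function.Injective (gaVal (k := k) R) := by
  intro a b h
  apply gaFn_injective
  have e1 : ∀ t : Γ(Spec (CommRingCat.of R), ⊤),
      (Scheme.ΓSpecIso (CommRingCat.of R)).inv ((Scheme.ΓSpecIso (CommRingCat.of R)).hom t) = t :=
    fun t => congrArg (fun f : Γ(Spec (CommRingCat.of R), ⊤) ⟶ Γ(Spec (CommRingCat.of R), ⊤) => f t)
      (Scheme.ΓSpecIso (CommRingCat.of R)).hom_inv_id
  have h1 : (Scheme.ΓSpecIso (CommRingCat.of R)).inv (gaVal R a) = Red.gaFn a := e1 _
  have h2 : (Scheme.ΓSpecIso (CommRingCat.of R)).inv (gaVal R b) = Red.gaFn b := e1 _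
  rw [h] at h1
  exact h1.symm.trans h2

@[simp]
theorem gaOf_gaVal (R : Type u) [CommRing R] [Algebra k R]
    (a : XR k R ⟶ Red.Ga (Spec (CommRingCat.of k))) : gaOf R (gaVal R a) = a :=
  gaVal_injective R (gaVal_gaOf R _)

theorem gaVal_map {R R' : Type u} [CommRing R] [CommRing R'] [Algebra k R] [Algebra k R']
    (φ : R →ₐ[k] R') (a : XR k R ⟶ Red.Ga (Spec (CommRingCat.of k))) :
    gaVal R' (XRmap φ ≫ a) = φ (gaVal R a) := by
  rw [gaVal, gaVal, gaFn_comp]
  have h := Scheme.ΓSpecIso_naturality (CommRingCat.ofHom (φ : R →+* R'))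
  exact congrArg (fun f : Γ(Spec (CommRingCat.of R), ⊤) ⟶ CommRingCat.of R' => f (Red.gaFn a)) h

theorem map_gaOf {R R' : Type u} [CommRing R] [CommRing R'] [Algebra k R] [Algebra k R']
    (φ : R →ₐ[k] R') (r : R) : XRmap φ ≫ gaOf (k := k) R r = gaOf R' (φ r) :=
  gaVal_injective R' (by rw [gaVal_map, gaVal_gaOf, gaVal_gaOf])

/-- Every point factors through the canonical morphism to the spectrum of global functions. -/
theorem canon_comp_gaOf (X : Over (Spec (CommRingCat.of k)))
    (a : X ⟶ Red.Ga (Spec (CommRingCat.of k))) :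
    letI := algΓ X
    canon X ≫ gaOf Γ(X.left, ⊤) (Red.gaFn a) = a := by
  letI := algΓ X
  apply gaFn_injective
  rw [gaFn_comp]
  change X.left.toSpecΓ.appTop (Red.gaFn (gaOf Γ(X.left, ⊤) (Red.gaFn a))) = _
  rw [Scheme.toSpecΓ_appTop]
  exact gaVal_gaOf (k := k) Γ(X.left, ⊤) (Red.gaFn a)

theorem gaFn_canon_comp (X : Over (Spec (CommRingCat.of k))) :
    letI := algΓ X
    ∀ a' : XR k Γ(X.left, ⊤) ⟶ Red.Ga (Spec (CommRingCat.of k)),
      Red.gaFn (canon X ≫ a') = gaVal Γ(X.left, ⊤) a' := by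
  letI := algΓ X
  intro a'
  rw [gaFn_comp]
  change X.left.toSpecΓ.appTop (Red.gaFn a') = _
  rw [Scheme.toSpecΓ_appTop]
  rfl

variable [hG : GrpObj (Red.Ga (Spec (CommRingCat.of k)))]

/-- The unit of the group law, as an element of `k`. -/
noncomputable def gaUnit : k := gaVal k (1 : XR k k ⟶ Red.Ga (Spec (CommRingCat.of k)))

theorem gaVal_one (R : Type u) [CommRing R] [Algebra k R] :
    gaVal R (1 : XR k R ⟶ Red.Ga (Spec (CommRingCat.of k))) = algebraMap k R (gaUnit (k := k)) := by
  have h : XRmap (Algebra.ofId k R) ≫ (1 : XR k k ⟶ Red.Ga (Spec (CommRingCat.of k))) = 1 :=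
    MonObj.comp_one _
  rw [← h, gaVal_map]
  rfl

/-- The transported multiplication on `R`. -/
noncomputable def gaM (R : Type u) [CommRing R] [Algebra k R] (x y : R) : R :=
  gaVal (k := k) R (gaOf R x * gaOf R y)

/-- The transported inverse on `R`. -/
noncomputable def gaI (R : Type u) [CommRing R] [Algebra k R] (x : R) : R :=
  gaVal (k := k) R (gaOf R x)⁻¹

theorem gaM_nat (R R' : Type u) [CommRing R] [CommRing R'] [Algebra k R] [Algebra k R']
    (φ : R →ₐ[k] R') (x y : R) : φ (gaM (k := k) R x y) = gaM (k := k) R' (φ x) (φ y) := by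
  unfold gaM
  rw [← gaVal_map, MonObj.comp_mul, map_gaOf, map_gaOf]

theorem gaM_assoc (R : Type u) [CommRing R] [Algebra k R] (x y z : R) :
    gaM (k := k) R (gaM (k := k) R x y) z = gaM (k := k) R x (gaM (k := k) R y z) := by
  unfold gaM
  rw [gaOf_gaVal, gaOf_gaVal, _root_.mul_assoc]

theorem gaM_one (R : Type u) [CommRing R] [Algebra k R] (x : R) :
    gaM (k := k) R x (algebraMap k R (gaUnit (k := k))) = x := by
  unfold gaM
  rw [← gaVal_one, gaOf_gaVal, _root_.mul_one, gaVal_gaOf]

theorem gaM_one' (R : Type u) [CommRing R] [Algebra k R] (x : R) :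
    gaM (k := k) R (algebraMap k R (gaUnit (k := k))) x = x := by
  unfold gaM
  rw [← gaVal_one, gaOf_gaVal, _root_.one_mul, gaVal_gaOf]

theorem gaM_inv (R : Type u) [CommRing R] [Algebra k R] (x : R) :
    gaM (k := k) R (gaI (k := k) R x) x = algebraMap k R (gaUnit (k := k)) := by
  unfold gaM gaI
  rw [gaOf_gaVal, inv_mul_cancel, gaVal_one]

theorem gaVal_mul (R : Type u) [CommRing R] [Algebra k R]
    (a b : XR k R ⟶ Red.Ga (Spec (CommRingCat.of k))) :
    gaVal R (a * b) = gaVal R a + gaVal R b - algebraMap k R (gaUnit (k := k)) := by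
  have key := law_eq k (fun R _ _ => gaM (k := k) R) (fun R _ _ => gaI (k := k) R) (gaUnit (k := k))
    (fun R R' _ _ _ _ => gaM_nat R R') (fun R _ _ => gaM_assoc R) (fun R _ _ => gaM_one R)
    (fun R _ _ => gaM_one' R) (fun R _ _ => gaM_inv R) R (gaVal R a) (gaVal R b)
  change gaM (k := k) R (gaVal R a) (gaVal R b) = _ at key
  unfold gaM at key
  rwa [gaOf_gaVal, gaOf_gaVal] at key

/-- The group law of any group structure on the affine line, on arbitrary points. -/
theorem gaFn_mul_eq (X : Over (Spec (CommRingCat.of k)))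
    (a b : X ⟶ Red.Ga (Spec (CommRingCat.of k))) :
    Red.gaFn (a * b) = Red.gaFn a + Red.gaFn b - evalHom X.hom (gaUnit (k := k)) := by
  letI := algΓ X
  have ha := canon_comp_gaOf X a
  have hb := canon_comp_gaOf X b
  rw [← ha, ← hb, ← MonObj.comp_mul, gaFn_canon_comp, gaVal_mul, gaVal_gaOf, gaVal_gaOf, ha, hb]
  rfl

end Ga

end Groth.Agent.Lib.Helper7.GaLaw
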