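import Groth.Agent.Lib.Helper7.GH1
import Groth.Agent.Lib.Helper7.GaLaw
import Groth.Agent.Lib.Helper7.D1Comm
import Groth.Agent.Lib.Helper7.HopfAntipode

/-!
# The Hopf algebra of `𝔾_a` over a field (helper7)

For any Hopf-algebra model `A` of `Red.Ga (Spec k)` there is a primitive element `t₀` with
`aeval t₀ : k[X] → A` bijective.
-/

set_option autoImplicit false
universe u
open CategoryTheory MonoidalCategory CartesianMonoidalCategory MonObj GrpObj AlgebraicGeometry
  CategoryTheory.Limits
open TensorProduct WithConv Polynomial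

namespace Groth.Agent.Lib.Helper7.GaIsog

open Groth.Agent.Lib.Helper7.GH Groth.Agent.Lib.Helper7.GModComod Groth.Agent.Lib.Helper7.GaLaw
  Groth.Agent.Lib.Helper21.GaPts Groth.Agent.Lib.Helper7.D1

variable {k : Type u} [Field k]

instance isAffine_Ga : IsAffine (Red.Ga (Spec (CommRingCat.of k))).left := by
  haveI : IsAffine (Red.GaZ.{u}).left := inferInstanceAs (IsAffine (Spec _))
  change IsAffine (pullback _ _)
  infer_instance

variable {A : Type u} [CommRing A] [HopfAlgebra k A]

/-- `pg` with source `XR k R`. -/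
noncomputable def pgX {R : Type u} [CommRing R] [Algebra k R] (g : A →ₐ[k] R) :
    XR k R ⟶ (Spec (CommRingCat.of A)).asOver (Spec (CommRingCat.of k)) := pg g

lemma pgX_comp {R R' : Type u} [CommRing R] [CommRing R'] [Algebra k R] [Algebra k R']
    (ψ : R →ₐ[k] R') (g : A →ₐ[k] R) : pgX (ψ.comp g) = XRmap ψ ≫ pgX g :=
  (ptMap_comp_pg ψ g).symm

lemma pgX_mul {R : Type u} [CommRing R] [Algebra k R] (g g' : A →ₐ[k] R) :
    pgX (toConv g * toConv g').ofConv = pgX g * pgX g' := by
  unfold pgX pg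
  rw [toConv_ofConv, map_mul]
  rfl

lemma pgX_injective {R : Type u} [CommRing R] [Algebra k R] :
    Function.Injective (pgX : (A →ₐ[k] R) → _) := by
  intro g g' h
  have := congrArg pf h
  unfold pgX at this
  rwa [pf_pg, pf_pg] at this

lemma pgX_surjective {R : Type u} [CommRing R] [Algebra k R] :
    Function.Surjective (pgX : (A →ₐ[k] R) → _) := by
  intro x
  exact ⟨pf x, pg_pf x⟩

variable (M : Model (Red.Ga (Spec (CommRingCat.of k))))

/-- the value of an `R`-point of the model. -/
noncomputable def th (R : Type u) [CommRing R] [Algebra k R] (g : M.A →ₐ[k] R) : R :=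
  gaVal (k := k) R (pgX g ≫ M.e.inv)

lemma th_comp {R R' : Type u} [CommRing R] [CommRing R'] [Algebra k R] [Algebra k R']
    (ψ : R →ₐ[k] R') (g : M.A →ₐ[k] R) : th M R' (ψ.comp g) = ψ (th M R g) := by
  unfold th
  rw [← gaVal_map ψ, pgX_comp, Category.assoc]

lemma th_mul (R : Type u) [CommRing R] [Algebra k R] (g g' : M.A →ₐ[k] R) :
    th M R (toConv g * toConv g').ofConv = th M R g + th M R g' := by
  unfold th
  have h1 : pgX (toConv g * toConv g').ofConv ≫ M.e.inv = (pgX g ≫ M.e.inv) * (pgX g' ≫ M.e.inv) := by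
    rw [pgX_mul]
    exact MonObj.mul_comp (pgX g) (pgX g') M.e.inv
  rw [h1]
  unfold gaVal
  rw [gaFn_mul]
  exact map_add (Scheme.ΓSpecIso (CommRingCat.of R)).hom.hom _ _

lemma th_injective (R : Type u) [CommRing R] [Algebra k R] : Function.Injective (th M R) := by
  intro g g' h
  unfold th at h
  have h1 := gaVal_injective R h
  rw [cancel_mono] at h1
  exact pgX_injective h1

lemma th_surjective (R : Type u) [CommRing R] [Algebra k R] : Function.Surjective (th M R) := by
  intro r
  obtain ⟨g, hg⟩ := pgX_surjective (A := M.A) (gaOf (k := k) R r ≫ M.e.hom)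
  refine ⟨g, ?_⟩
  unfold th
  rw [hg, Category.assoc, Iso.hom_inv_id, Category.comp_id, gaVal_gaOf]

/-- the coordinate of the model. -/
noncomputable def t₀ : M.A := th M M.A (AlgHom.id k M.A)

lemma th_eq (R : Type u) [CommRing R] [Algebra k R] (g : M.A →ₐ[k] R) : th M R g = g (t₀ M) := by
  have := th_comp M g (AlgHom.id k M.A)
  rwa [AlgHom.comp_id] at this

lemma isPrim_t₀ : IsPrim k (t₀ M) := by
  unfold IsPrim
  have h1 := th_mul M (M.A ⊗[k] M.A) Algebra.TensorProduct.includeLeft Algebra.TensorProduct.includeRight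
  rw [← Groth.Agent.Lib.Helper7.HopfConv.comul_eq_includeLeft_mul_includeRight, ofConv_toConv,
    th_eq, th_eq, th_eq] at h1
  exact h1

lemma aeval_t₀_bijective : Function.Bijective (aeval (t₀ M) : k[X] →ₐ[k] M.A) := by
  obtain ⟨g₁, hg₁⟩ := th_surjective M k[X] X
  rw [th_eq] at hg₁
  have h1 : g₁.comp (aeval (t₀ M) : k[X] →ₐ[k] M.A) = AlgHom.id k k[X] := by
    apply Polynomial.algHom_ext
    simp [hg₁]
  have h2 : (aeval (t₀ M) : k[X] →ₐ[k] M.A).comp g₁ = AlgHom.id k M.A := by
    apply th_injective M M.A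
    rw [th_eq, th_eq]
    simp [hg₁]
  constructor
  · intro p p' h
    have := congrArg g₁ h
    have e1 : ∀ p, g₁ (aeval (t₀ M) p) = p := fun p => congrArg (fun f : k[X] →ₐ[k] k[X] => f p) h1
    rwa [e1, e1] at this
  · intro a
    exact ⟨g₁ a, congrArg (fun f : M.A →ₐ[k] M.A => f a) h2⟩

end Groth.Agent.Lib.Helper7.GaIsog
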