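import Groth.Agent.Lib.Helper7.D1Prim
import Groth.Agent.Lib.Helper7.UnipQuot

/-!
# Hopf subalgebras of the Hopf algebra of `𝔾_a` (helper7)

`A = k[t]` with `t` primitive.  If `(Q(t))` is a Hopf ideal with `Q` monic then `Q(t)` is primitive;
every Hopf subalgebra `B ≠ k` is `k[q]` for a nonzero primitive `q`.
-/

set_option autoImplicit false
universe u v
open TensorProduct Polynomial

namespace Groth.Agent.Lib.Helper7.GaIsog

open Groth.Agent.Lib.Helper7.D1 Groth.Agent.Lib.Helper7.HopfCoinv Groth.Agent.Lib.Helper7.HopfSub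

variable {k : Type u} [Field k] {A : Type v} [CommRing A] [HopfAlgebra k A]

section Proj

variable {t : A} (hbij : Function.Bijective (aeval t : k[X] →ₐ[k] A)) (Q : k[X])

/-- remainder modulo `Q`, transported to `A = k[t]`. -/
noncomputable def rem : A →ₗ[k] A :=
  (AlgEquiv.ofBijective (aeval t : k[X] →ₐ[k] A) hbij).toLinearMap ∘ₗ Polynomial.modByMonicHom Q ∘ₗ
    (AlgEquiv.ofBijective (aeval t : k[X] →ₐ[k] A) hbij).symm.toLinearMap

lemma rem_aeval (P : k[X]) : rem hbij Q (aeval t P) = aeval t (P %ₘ Q) := by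
  unfold rem
  have h : (AlgEquiv.ofBijective (aeval t : k[X] →ₐ[k] A) hbij).symm (aeval t P) = P :=
    (AlgEquiv.ofBijective (aeval t : k[X] →ₐ[k] A) hbij).symm_apply_apply P
  simp only [LinearMap.comp_apply, AlgEquiv.toLinearMap_apply, h]
  rfl

variable {Q} (hQ : Q.Monic)
include hQ

lemma rem_pow {i : ℕ} (hi : i < Q.natDegree) : rem hbij Q (t ^ i) = t ^ i := by
  have h1 : t ^ i = aeval t (X ^ i : k[X]) := by simp
  rw [h1, rem_aeval, (Polynomial.modByMonic_eq_self_iff hQ).2]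
  rw [Polynomial.degree_X_pow, Polynomial.degree_eq_natDegree hQ.ne_zero]
  exact_mod_cast hi

lemma rem_eq_zero {x : A} (hx : x ∈ Ideal.span {aeval t Q}) : rem hbij Q x = 0 := by
  obtain ⟨s, rfl⟩ := Ideal.mem_span_singleton'.1 hx
  obtain ⟨S, rfl⟩ := hbij.2 s
  rw [← map_mul, rem_aeval, (Polynomial.modByMonic_eq_zero_iff_dvd hQ).2 (dvd_mul_left _ _), map_zero]

end Proj

section Binom

variable (t : A)

/-- the submodule of tensors fixed by `r ⊗ r`. -/
def fixT (r : A →ₗ[k] A) : Submodule k (A ⊗[k] A) :=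
  LinearMap.ker (TensorProduct.map r r - LinearMap.id)

lemma mem_fixT {r : A →ₗ[k] A} {z : A ⊗[k] A} : z ∈ fixT r ↔ TensorProduct.map r r z = z := by
  unfold fixT
  rw [LinearMap.mem_ker, LinearMap.sub_apply, LinearMap.id_apply, sub_eq_zero]

lemma tmul_mem_fixT {r : A →ₗ[k] A} {a b : A} (ha : r a = a) (hb : r b = b) :
    a ⊗ₜ[k] b ∈ fixT r := by
  rw [mem_fixT, TensorProduct.map_tmul, ha, hb]

lemma binom_mem (r : A →ₗ[k] A) (d : ℕ) (hr : ∀ i < d, r (t ^ i) = t ^ i) (hd : 0 < d)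
    (n : ℕ) (hn : n ≤ d) :
    (t ⊗ₜ[k] (1 : A) + (1 : A) ⊗ₜ[k] t) ^ n - (t ⊗ₜ[k] (1 : A)) ^ n - ((1 : A) ⊗ₜ[k] t) ^ n ∈
      fixT r := by
  have hmem : ∀ i j, i < d → j < d → (t ^ i) ⊗ₜ[k] (t ^ j) ∈ fixT r := fun i j hi hj =>
    tmul_mem_fixT (hr i hi) (hr j hj)
  rcases Nat.eq_zero_or_pos n with rfl | hpos
  · simp only [pow_zero]
    have : (1 : A ⊗[k] A) - 1 - 1 = -((t ^ 0) ⊗ₜ[k] (t ^ 0)) := by
      simp [Algebra.TensorProduct.one_def]
    rw [this]
    exact Submodule.neg_mem _ (hmem 0 0 hd hd)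
  · obtain ⟨n', rfl⟩ : ∃ n', n = n' + 1 := ⟨n - 1, by omega⟩
    have hterm : ∀ m : ℕ, (t ⊗ₜ[k] (1 : A)) ^ m * ((1 : A) ⊗ₜ[k] t) ^ (n' + 1 - m) =
        (t ^ m) ⊗ₜ[k] (t ^ (n' + 1 - m)) := by
      intro m
      rw [Algebra.TensorProduct.tmul_pow, Algebra.TensorProduct.tmul_pow,
        Algebra.TensorProduct.tmul_mul_tmul, one_pow, one_pow, mul_one, one_mul]
    rw [add_pow, Finset.sum_range_succ, Finset.sum_range_succ']
    simp only [hterm]
    have e0 : (t ^ 0) ⊗ₜ[k] (t ^ (n' + 1 - 0)) * ((n' + 1).choose 0 : A ⊗[k] A) =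
        ((1 : A) ⊗ₜ[k] t) ^ (n' + 1) := by
      rw [Algebra.TensorProduct.tmul_pow]
      simp
    have e1 : (t ^ (n' + 1)) ⊗ₜ[k] (t ^ (n' + 1 - (n' + 1))) * ((n' + 1).choose (n' + 1) : A ⊗[k] A) =
        (t ⊗ₜ[k] (1 : A)) ^ (n' + 1) := by
      rw [Algebra.TensorProduct.tmul_pow]
      simp
    rw [e0, e1]
    have : ∀ (S a b : A ⊗[k] A), S + b + a - a - b = S := fun S a b => by ring
    rw [this]
    refine Submodule.sum_mem _ (fun m hm => ?_)
    rw [Finset.mem_range] at hm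
    rw [mul_comm, ← nsmul_eq_mul]
    refine Submodule.smul_of_tower_mem _ _ ?_
    exact hmem _ _ (by omega) (by omega)

end Binom

section Main

variable {t : A} (ht : IsPrim k t) (hbij : Function.Bijective (aeval t : k[X] →ₐ[k] A))
include ht hbij

/-- a monic generator of a Hopf ideal of `k[t]` is primitive. -/
theorem isPrim_aeval {Q : k[X]} (hQ : Q.Monic) (hI : (Ideal.span {aeval t Q}).IsHopfIdeal k) :
    IsPrim k (aeval t Q) := by
  have hqI : aeval t Q ∈ (Ideal.span {aeval t Q}).restrictScalars k :=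
    Ideal.subset_span (Set.mem_singleton _)
  have hd : 0 < Q.natDegree := by
    by_contra h0
    have h0' : Q.natDegree = 0 := by omega
    have hQ1 : Q = 1 := hQ.natDegree_eq_zero.1 h0'
    have := hI.counit_eq_zero hqI
    rw [hQ1, map_one, Bialgebra.counit_one] at this
    exact one_ne_zero this
  have hΔ : Coalgebra.comul (R := k) (aeval t Q) =
      aeval (t ⊗ₜ[k] (1 : A) + (1 : A) ⊗ₜ[k] t) Q := by
    have := Polynomial.aeval_algHom_apply (Bialgebra.comulAlgHom k A) t Q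
    rw [Bialgebra.comulAlgHom_apply, Bialgebra.comulAlgHom_apply, ht] at this
    exact this.symm
  have h1 : (aeval t Q) ⊗ₜ[k] (1 : A) = aeval (t ⊗ₜ[k] (1 : A)) Q :=
    (Polynomial.aeval_algHom_apply (Algebra.TensorProduct.includeLeft : A →ₐ[k] A ⊗[k] A) t Q).symm
  have h2 : (1 : A) ⊗ₜ[k] (aeval t Q) = aeval ((1 : A) ⊗ₜ[k] t) Q :=
    (Polynomial.aeval_algHom_apply (Algebra.TensorProduct.includeRight : A →ₐ[k] A ⊗[k] A) t Q).symm
  have hD : Coalgebra.comul (R := k) (aeval t Q) - (aeval t Q) ⊗ₜ[k] (1 : A) -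
      (1 : A) ⊗ₜ[k] (aeval t Q) ∈ fixT (rem hbij Q) := by
    rw [hΔ, h1, h2, aeval_eq_sum_range, aeval_eq_sum_range, aeval_eq_sum_range,
      ← Finset.sum_sub_distrib, ← Finset.sum_sub_distrib]
    refine Submodule.sum_mem _ fun n hn => ?_
    rw [← smul_sub, ← smul_sub]
    refine Submodule.smul_mem _ _ (binom_mem t (rem hbij Q) Q.natDegree
      (fun i hi => rem_pow hbij hQ hi) hd n ?_)
    rw [Finset.mem_range] at hn
    omega
  have hker : TensorProduct.map (rem hbij Q) (rem hbij Q)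
      (Coalgebra.comul (R := k) (aeval t Q) - (aeval t Q) ⊗ₜ[k] (1 : A) -
      (1 : A) ⊗ₜ[k] (aeval t Q)) = 0 := by
    have hle : (Ideal.span {aeval t Q}).restrictScalars k ≤ LinearMap.ker (rem hbij Q) :=
      fun x hx => rem_eq_zero hbij hQ hx
    have hr : rem hbij Q = ((Ideal.span {aeval t Q}).restrictScalars k).liftQ (rem hbij Q) hle ∘ₗ
        ((Ideal.span {aeval t Q}).restrictScalars k).mkQ := (Submodule.liftQ_mkQ _ _ _).symm
    have hmap : TensorProduct.map (rem hbij Q) (rem hbij Q) =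
        TensorProduct.map (((Ideal.span {aeval t Q}).restrictScalars k).liftQ (rem hbij Q) hle)
          (((Ideal.span {aeval t Q}).restrictScalars k).liftQ (rem hbij Q) hle) ∘ₗ
        TensorProduct.map ((Ideal.span {aeval t Q}).restrictScalars k).mkQ
          ((Ideal.span {aeval t Q}).restrictScalars k).mkQ := by
      rw [← TensorProduct.map_comp, ← hr]
    have hq0 : ((Ideal.span {aeval t Q}).restrictScalars k).mkQ (aeval t Q) = 0 :=
      (Submodule.Quotient.mk_eq_zero _).2 hqI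
    have hin : TensorProduct.map ((Ideal.span {aeval t Q}).restrictScalars k).mkQ
          ((Ideal.span {aeval t Q}).restrictScalars k).mkQ
        (Coalgebra.comul (R := k) (aeval t Q) - (aeval t Q) ⊗ₜ[k] (1 : A) -
          (1 : A) ⊗ₜ[k] (aeval t Q)) = 0 := by
      rw [map_sub, map_sub, hI.map_mkQ_comul_eq_zero hqI,
        TensorProduct.map_tmul, TensorProduct.map_tmul, hq0, TensorProduct.zero_tmul,
        TensorProduct.tmul_zero, sub_zero, sub_zero]
    rw [hmap, LinearMap.comp_apply, hin, map_zero]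
  rw [mem_fixT, hker] at hD
  unfold IsPrim
  rw [sub_sub] at hD
  exact sub_eq_zero.1 hD.symm

omit ht in
lemma transcendental_aeval {Q : k[X]} (hQ : 0 < Q.natDegree) : Transcendental k (aeval t Q) := by
  rintro ⟨P, hP0, hP⟩
  rw [← Polynomial.aeval_comp] at hP
  have h0 : P.comp Q = 0 := hbij.1 (by rw [hP, map_zero])
  rcases Polynomial.comp_eq_zero_iff.1 h0 with h | ⟨_, h⟩
  · exact hP0 h
  · rw [h, natDegree_C] at hQ
    exact lt_irrefl _ hQ

/-- a Hopf subalgebra `≠ k` of `k[t]` is generated by a transcendental primitive element. -/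
theorem exists_prim_of_hopfSub (B : Subalgebra k A) (hB : IsHopfSub B) (hne : B ≠ ⊥) :
    ∃ q : A, IsPrim k q ∧ Transcendental k q ∧ B = Algebra.adjoin k {q} := by
  have hI : (augSpan B).IsHopfIdeal k := Groth.Agent.Lib.Helper7.UnipQuot.isHopfIdeal_augSpan hB
  -- the augmentation ideal is nonzero
  have hI0 : augSpan B ≠ ⊥ := by
    intro h0
    apply hne
    rw [eq_bot_iff]
    intro b hb
    have h1 := sub_counit_mem_augSpan B hb
    rw [h0, Ideal.mem_bot, sub_eq_zero] at h1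
    rw [h1]
    exact Subalgebra.algebraMap_mem _ _
  set J : Ideal k[X] := (augSpan B).comap (aeval t : k[X] →ₐ[k] A) with hJ
  have hIJ : augSpan B = J.map (aeval t : k[X] →ₐ[k] A) :=
    (Ideal.map_comap_of_surjective _ hbij.2 _).symm
  have hJ0 : J ≠ ⊥ := by
    intro h0
    apply hI0
    rw [hIJ, h0, Ideal.map_bot]
  set Q₀ := Submodule.IsPrincipal.generator J with hQ₀
  have hspan : Ideal.span {Q₀} = J := Ideal.span_singleton_generator J
  have hQ₀0 : Q₀ ≠ 0 := by
    intro h0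
    apply hJ0
    rw [← hspan, h0, Ideal.span_singleton_eq_bot]
  set Q := Q₀ * C Q₀.leadingCoeff⁻¹ with hQdef
  have hQ : Q.Monic := Polynomial.monic_mul_leadingCoeff_inv hQ₀0
  have hu : IsUnit (C Q₀.leadingCoeff⁻¹ : k[X]) :=
    Polynomial.isUnit_C.2 (IsUnit.mk0 _ (inv_ne_zero (Polynomial.leadingCoeff_ne_zero.2 hQ₀0)))
  have hspanQ : Ideal.span {Q} = J := by
    rw [hQdef, Ideal.span_singleton_mul_right_unit hu, hspan]
  have hIq : augSpan B = Ideal.span {aeval t Q} := by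
    rw [hIJ, ← hspanQ, Ideal.map_span, Set.image_singleton]
  have hI' : (Ideal.span {aeval t Q}).IsHopfIdeal k := hIq ▸ hI
  have hq := isPrim_aeval ht hbij hQ hI'
  have hd : 0 < Q.natDegree := by
    by_contra h0
    have h0' : Q.natDegree = 0 := by omega
    have hQ1 : Q = 1 := hQ.natDegree_eq_zero.1 h0'
    have := hq.counit
    rw [hQ1, map_one, Bialgebra.counit_one] at this
    exact one_ne_zero this
  refine ⟨aeval t Q, hq, transcendental_aeval hbij hd, ?_⟩
  apply SetLike.coe_injective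
  rw [coe_eq_coinv B hB, coe_eq_coinv _ hq.isHopfSub, hq.augSpan_adjoin, hIq]

end Main

end Groth.Agent.Lib.Helper7.GaIsog
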