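import Groth.Agent.Lib.Helper7.GaIsog2
import Groth.Agent.Lib.Helper7.D1Ga
import Groth.Agent.Lib.Helper7.HopfMap

/-!
# A Hopf algebra over which `k[t]` is finite is `k[t]` (helper7)
-/

set_option autoImplicit false
universe u v
open TensorProduct Polynomial

namespace Groth.Agent.Lib.Helper7.GaIsog

open Groth.Agent.Lib.Helper7.D1 Groth.Agent.Lib.Helper7.HopfCoinv Groth.Agent.Lib.Helper7.HopfSub

variable {k : Type u} [Field k] {A₀ : Type u} [CommRing A₀] [HopfAlgebra k A₀]
  {A : Type u} [CommRing A] [HopfAlgebra k A]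

theorem nonempty_bialgEquiv_of_finite {t : A₀} (ht : IsPrim k t)
    (hbij : Function.Bijective (aeval t : k[X] →ₐ[k] A₀)) (φ : A →ₐc[k] A₀)
    (hinj : Function.Injective φ) (hfin : ((φ : A →ₐ[k] A₀) : A →+* A₀).Finite) :
    Nonempty (A ≃ₐc[k] A₀) := by
  have httr : Transcendental k t := transcendental_iff_injective.2 hbij.1
  have httop : Algebra.adjoin k {t} = ⊤ := by
    rw [Algebra.adjoin_singleton_eq_range_aeval, AlgHom.range_eq_top]
    exact hbij.2
  obtain ⟨e₀⟩ := ht.nonempty_bialgEquiv_Ga httr httop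
  have hB : IsHopfSub (φ : A →ₐ[k] A₀).range := Groth.Agent.Lib.Helper7.HopfMap.isHopfSub_range φ
  have hne : (φ : A →ₐ[k] A₀).range ≠ ⊥ := by
    intro hbot
    letI : Algebra A A₀ := ((φ : A →ₐ[k] A₀) : A →+* A₀).toAlgebra
    haveI : IsScalarTower k A A₀ := IsScalarTower.of_algebraMap_eq (fun c => by
      change algebraMap k A₀ c = φ (algebraMap k A c)
      exact ((φ : A →ₐ[k] A₀).commutes c).symm)
    haveI : Module.Finite A A₀ := hfin
    haveI : Module.Finite k A := by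
      refine Module.Finite.of_surjective (Algebra.linearMap k A) ?_
      intro a
      have ha : φ a ∈ (φ : A →ₐ[k] A₀).range := ⟨a, rfl⟩
      rw [hbot] at ha
      obtain ⟨c, hc⟩ := Algebra.mem_bot.1 ha
      refine ⟨c, hinj ?_⟩
      rw [← hc]
      exact (φ : A →ₐ[k] A₀).commutes c
    haveI : Module.Finite k A₀ := Module.Finite.trans A A₀
    exact httr (Algebra.IsAlgebraic.isAlgebraic t)
  obtain ⟨q, hq, hqtr, hBq⟩ := exists_prim_of_hopfSub ht hbij _ hB hne
  have hqB : q ∈ (φ : A →ₐ[k] A₀).range := by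
    rw [hBq]
    exact Algebra.subset_adjoin rfl
  obtain ⟨x, hx⟩ := hqB
  change φ x = q at hx
  have hφφ : Function.Injective (TensorProduct.map (φ : A →ₗ[k] A₀) (φ : A →ₗ[k] A₀)) :=
    TensorProduct.map_injective_of_flat_flat _ _ hinj hinj
  have hxprim : IsPrim k x := by
    unfold IsPrim
    apply hφφ
    have h1 : TensorProduct.map (φ : A →ₗ[k] A₀) (φ : A →ₗ[k] A₀) (Coalgebra.comul (R := k) x) =
        Coalgebra.comul (R := k) (φ x) :=
      LinearMap.congr_fun (CoalgHomClass.map_comp_comul φ) x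
    rw [h1, hx, hq, map_add, TensorProduct.map_tmul, TensorProduct.map_tmul]
    change _ = φ x ⊗ₜ[k] φ 1 + φ 1 ⊗ₜ[k] φ x
    rw [hx, map_one]
  have haev : ∀ P : k[X], φ (aeval x P) = aeval q P := by
    intro P
    rw [← hx]
    exact (Polynomial.aeval_algHom_apply (φ : A →ₐ[k] A₀) x P).symm
  have hxtr : Transcendental k x := by
    rintro ⟨P, hP0, hP⟩
    apply hqtr
    refine ⟨P, hP0, ?_⟩
    rw [← haev, hP, map_zero]
  have hxtop : Algebra.adjoin k {x} = ⊤ := by
    rw [eq_top_iff]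
    intro a _
    have ha : φ a ∈ (φ : A →ₐ[k] A₀).range := ⟨a, rfl⟩
    rw [hBq, Algebra.adjoin_singleton_eq_range_aeval] at ha
    obtain ⟨P, hP⟩ := ha
    change aeval q P = φ a at hP
    rw [← haev] at hP
    rw [← hinj hP, Algebra.adjoin_singleton_eq_range_aeval]
    exact ⟨P, rfl⟩
  obtain ⟨e⟩ := hxprim.nonempty_bialgEquiv_Ga hxtr hxtop
  exact ⟨e.trans e₀.symm⟩

end Groth.Agent.Lib.Helper7.GaIsog
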