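import Groth.Agent.Lib.Helper7.ComodSS
import Groth.Agent.Lib.Helper7.NQ2

/-!
# Nilradical and identity component of an algebraic group over an algebraically closed field
(helper7)
-/

universe u v w

open TensorProduct

namespace Groth.Agent.Lib.Helper7.GenSubgp

open Groth.Agent.Lib.Helper7.Comod

section NS

variable {k : Type u} [Field k] [IsAlgClosed k] {R : Type v} [CommRing R] [Algebra k R]
  [Algebra.FiniteType k R]

/-- Nullstellensatz: an element vanishing at all `k`-points is nilpotent. -/
theorem mem_nilradical_of_forall_algHom (a : R) (h : ∀ x : R →ₐ[k] k, x a = 0) :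
    a ∈ nilradical R := by
  haveI : IsJacobsonRing R := isJacobsonRing_of_finiteType (A := k) (B := R)
  change a ∈ (⊥ : Ideal R).radical
  rw [Ideal.radical_eq_jacobson]
  change a ∈ sInf {J : Ideal R | ⊥ ≤ J ∧ J.IsMaximal}
  rw [Ideal.mem_sInf]
  rintro m ⟨-, hm⟩
  haveI := hm
  let _ := Ideal.Quotient.field m
  have hfin : Module.Finite k (R ⧸ m) := finite_of_finite_type_of_isJacobsonRing k (R ⧸ m)
  have hbij : Function.Bijective (algebraMap k (R ⧸ m)) :=
    IsAlgClosed.algebraMap_bijective_of_isIntegral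
  let e : (R ⧸ m) ≃ₐ[k] k := (AlgEquiv.ofBijective (Algebra.ofId k (R ⧸ m)) hbij).symm
  have h1 := h ((e : (R ⧸ m) →ₐ[k] k).comp (Ideal.Quotient.mkₐ k m))
  have h2 : e (Ideal.Quotient.mk m a) = 0 := h1
  have h3 : Ideal.Quotient.mk m a = 0 := by
    rw [← e.symm_apply_apply (Ideal.Quotient.mk m a), h2, map_zero]
  exact Ideal.Quotient.eq_zero_iff_mem.1 h3

end NS

section Ev

variable {k : Type u} [Field k] {R : Type v} [CommRing R] [Algebra k R]
  {S : Type w} [CommRing S] [Algebra k S]

/-- evaluation of the left factor at a point. -/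
noncomputable def evL (x : R →ₐ[k] k) : R ⊗[k] S →ₐ[k] S :=
  (Algebra.TensorProduct.lid k S : k ⊗[k] S →ₐ[k] S).comp
    (Algebra.TensorProduct.map x (AlgHom.id k S))

@[simp] lemma evL_tmul (x : R →ₐ[k] k) (r : R) (s : S) : evL x (r ⊗ₜ[k] s) = x r • s := by
  simp [evL]

/-- evaluation of the right factor at a point. -/
noncomputable def evR (y : S →ₐ[k] k) : R ⊗[k] S →ₐ[k] R :=
  (Algebra.TensorProduct.rid k k R : R ⊗[k] k →ₐ[k] R).comp
    (Algebra.TensorProduct.map (AlgHom.id k R) y)

@[simp] lemma evR_tmul (y : S →ₐ[k] k) (r : R) (s : S) : evR y (r ⊗ₜ[k] s) = y s • r := by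
  simp [evR]

lemma apply_contr (x : R →ₐ[k] k) (l : S →ₗ[k] k) (z : R ⊗[k] S) :
    x (contr R l z) = l (evL x z) := by
  induction z using TensorProduct.induction_on with
  | zero => simp
  | tmul r s => simp [mul_comm]
  | add a b ha hb => simp only [map_add, ha, hb]

lemma apply_evR (x : R →ₐ[k] k) (y : S →ₐ[k] k) (z : R ⊗[k] S) :
    x (evR y z) = y (evL x z) := by
  induction z using TensorProduct.induction_on with
  | zero => simp
  | tmul r s => simp [mul_comm]
  | add a b ha hb => simp only [map_add, ha, hb]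

end Ev

section Tensor

variable {k : Type u} [Field k] [IsAlgClosed k] {R : Type v} [CommRing R] [Algebra k R]
  [Algebra.FiniteType k R] {S : Type w} [CommRing S] [Algebra k S]

/-- an element of `R ⊗ S` vanishing at all points of `R` lies in `nil(R) ⊗ S`. -/
theorem mem_range_nilradical (z : R ⊗[k] S) (h : ∀ x : R →ₐ[k] k, evL x z = 0) :
    z ∈ LinearMap.range
      ((Submodule.restrictScalars k (nilradical R)).subtype.rTensor S) := by
  rw [mem_range_rTensor_iff_contr]
  intro l
  change contr R l z ∈ nilradical R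
  apply mem_nilradical_of_forall_algHom (k := k)
  intro x
  rw [apply_contr, h x, map_zero]

theorem mem_nilradical_tensor (z : R ⊗[k] S) (h : ∀ x : R →ₐ[k] k, evL x z = 0) :
    z ∈ nilradical (R ⊗[k] S) := by
  obtain ⟨y, rfl⟩ := mem_range_nilradical z h
  clear h
  induction y using TensorProduct.induction_on with
  | zero => simp
  | tmul n s =>
    change ((n : R) ⊗ₜ[k] s) ∈ nilradical (R ⊗[k] S)
    have h1 : ((n : R) ⊗ₜ[k] s) = ((n : R) ⊗ₜ[k] (1 : S)) * ((1 : R) ⊗ₜ[k] s) := by
      rw [Algebra.TensorProduct.tmul_mul_tmul, mul_one, one_mul]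
    rw [h1]
    apply Ideal.mul_mem_right
    rw [mem_nilradical]
    have hn : IsNilpotent (n : R) := mem_nilradical.1 n.2
    exact hn.map (Algebra.TensorProduct.includeLeft : R →ₐ[k] R ⊗[k] S)
  | add a b ha hb =>
    rw [map_add]
    exact Ideal.add_mem _ ha hb

/-- the tensor product of reduced algebras of finite type over an algebraically closed field
is reduced. -/
theorem isReduced_tensor [IsReduced R] [IsReduced S] : IsReduced (R ⊗[k] S) := by
  rw [← nilradical_eq_bot_iff, eq_bot_iff]
  intro z hz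
  have hz' : IsNilpotent z := mem_nilradical.1 hz
  have h : ∀ x : R →ₐ[k] k, evL x z = 0 := fun x => (hz'.map (evL x)).eq_zero
  obtain ⟨y, rfl⟩ := mem_range_nilradical z h
  rw [Ideal.mem_bot]
  have key : ∀ y : ↥(Submodule.restrictScalars k (nilradical R)) ⊗[k] S, y = 0 := by
    intro y
    induction y using TensorProduct.induction_on with
    | zero => rfl
    | tmul n s =>
      have hn : (n : R) = 0 := by
        have h1 : (n : R) ∈ nilradical R := n.2
        have h2 : IsNilpotent (n : R) := mem_nilradical.1 h1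
        exact h2.eq_zero
      have hn' : n = 0 := Subtype.ext hn
      rw [hn', TensorProduct.zero_tmul]
    | add a b ha hb => rw [ha, hb, add_zero]
  rw [key y, map_zero]

/-- an idempotent of `R ⊗ S` vanishing at a point, with `R` and `S` connected, is zero. -/
theorem idem_eq_zero (hR : ∀ e : R, IsIdempotentElem e → e = 0 ∨ e = 1)
    (hS : ∀ e : S, IsIdempotentElem e → e = 0 ∨ e = 1) (x₀ : R →ₐ[k] k) (y₀ : S →ₐ[k] k)
    (z : R ⊗[k] S) (hz : IsIdempotentElem z) (h0 : y₀ (evL x₀ z) = 0) : z = 0 := by
  have h1 : evR y₀ z = 0 := by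
    rcases hR _ (hz.map (evR y₀)) with h | h
    · exact h
    · exfalso
      have := apply_evR x₀ y₀ z
      rw [h, h0, map_one] at this
      exact one_ne_zero this
  have h2 : ∀ x : R →ₐ[k] k, evL x z = 0 := by
    intro x
    rcases hS _ (hz.map (evL x)) with h | h
    · exact h
    · exfalso
      have := apply_evR x y₀ z
      rw [h, h1, map_one, map_zero] at this
      exact zero_ne_one this
  have h3 : IsNilpotent z := mem_nilradical.1 (mem_nilradical_tensor z h2)
  obtain ⟨n, hn⟩ := h3
  rcases Nat.eq_zero_or_pos n with rfl | hpos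
  · rw [pow_zero] at hn
    rw [← mul_one z, hn, mul_zero]
  · rw [← hz.pow_eq hpos.ne', hn]

/-- the tensor product of connected algebras of finite type with a rational point over an
algebraically closed field is connected. -/
theorem idem_tensor (hR : ∀ e : R, IsIdempotentElem e → e = 0 ∨ e = 1)
    (hS : ∀ e : S, IsIdempotentElem e → e = 0 ∨ e = 1) (x₀ : R →ₐ[k] k) (y₀ : S →ₐ[k] k)
    (z : R ⊗[k] S) (hz : IsIdempotentElem z) : z = 0 ∨ z = 1 := by
  have hc : IsIdempotentElem (y₀ (evL x₀ z)) := (hz.map (evL x₀)).map y₀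
  rcases (IsIdempotentElem.iff_eq_zero_or_one.1 hc) with h | h
  · left
    exact idem_eq_zero hR hS x₀ y₀ z hz h
  · right
    have h1 : (1 - z) = 0 := by
      apply idem_eq_zero hR hS x₀ y₀ (1 - z) hz.one_sub
      rw [map_sub, map_sub, map_one, map_one, h, sub_self]
    exact (sub_eq_zero.1 h1).symm

end Tensor

section Hopf

variable {k : Type u} [Field k] {H : Type v} [CommRing H] [HopfAlgebra k H]

/-- criterion for Hopf ideals in terms of algebra maps. -/
theorem isHopfIdeal_of (I : Ideal H) (h1 : ∀ x ∈ I, Coalgebra.counit (R := k) x = 0)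
    (h2 : ∀ x ∈ I, Algebra.TensorProduct.map (Ideal.Quotient.mkₐ k I) (Ideal.Quotient.mkₐ k I)
      (Coalgebra.comul (R := k) x) = 0)
    (h3 : ∀ x ∈ I, HopfAlgebra.antipode k x ∈ I) : I.IsHopfIdeal k where
  counit_eq_zero := fun x hx => h1 x hx
  map_mkQ_comul_eq_zero := fun x hx => h2 x hx
  antipode_mem := fun x hx => h3 x hx

lemma evL_counit_comul (a : H) :
    evL (S := H) (Bialgebra.counitAlgHom k H) (Coalgebra.comul (R := k) a) = a := by
  have h := Coalgebra.rTensor_counit_comul (R := k) a
  have h2 : ∀ z : H ⊗[k] H, evL (S := H) (Bialgebra.counitAlgHom k H) z =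
      TensorProduct.lid k H ((Coalgebra.counit (R := k) (A := H)).rTensor H z) := by
    intro z
    induction z using TensorProduct.induction_on with
    | zero => simp
    | tmul x y => simp
    | add x y hx hy => simp only [map_add, hx, hy]
  rw [h2, h]
  simp

variable [IsAlgClosed k] [Algebra.FiniteType k H]

/-- the nilradical of an algebraic group over an algebraically closed field is a Hopf ideal. -/
theorem isHopfIdeal_nilradical : (nilradical H).IsHopfIdeal k := by
  haveI : Algebra.FiniteType k (H ⧸ nilradical H) :=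
    Algebra.FiniteType.of_surjective (Ideal.Quotient.mkₐ k (nilradical H))
      Ideal.Quotient.mk_surjective
  haveI : IsReduced (H ⧸ nilradical H) :=
    (Ideal.isRadical_iff_quotient_reduced _).1 (Ideal.radical_isRadical _)
  haveI : IsReduced ((H ⧸ nilradical H) ⊗[k] (H ⧸ nilradical H)) := isReduced_tensor
  apply isHopfIdeal_of
  · intro x hx
    have h : IsNilpotent x := mem_nilradical.1 hx
    exact (h.map (Bialgebra.counitAlgHom k H)).eq_zero
  · intro x hx
    have h : IsNilpotent x := mem_nilradical.1 hx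
    exact ((h.map (Bialgebra.comulAlgHom k H)).map (Algebra.TensorProduct.map
      (Ideal.Quotient.mkₐ k (nilradical H)) (Ideal.Quotient.mkₐ k (nilradical H)))).eq_zero
  · intro x hx
    rw [mem_nilradical] at hx ⊢
    exact hx.map (HopfAlgebra.antipodeAlgHom k H)

/-- the identity component. -/
theorem exists_identity_idem : ∃ e₀ : H, IsIdempotentElem e₀ ∧
    Coalgebra.counit (R := k) e₀ = 1 ∧
    (∀ e : H, IsIdempotentElem e → Coalgebra.counit (R := k) e = 1 → e * e₀ = e₀) ∧
    (Ideal.span {1 - e₀}).IsHopfIdeal k := by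
  classical
  haveI : IsNoetherianRing H := Algebra.FiniteType.isNoetherianRing k H
  let T : Set (Ideal H) := {I | ∃ e : H, IsIdempotentElem e ∧ Coalgebra.counit (R := k) e = 1 ∧
    I = Ideal.span {1 - e}}
  have hne : T.Nonempty := ⟨_, 1, IsIdempotentElem.one, Bialgebra.counit_one, rfl⟩
  obtain ⟨I, ⟨e₀, he₀, hε₀, rfl⟩, hmax⟩ :=
    set_has_maximal_iff_noetherian.2 (inferInstance : IsNoetherian H H) T hne
  have hstar : ∀ e : H, IsIdempotentElem e → Coalgebra.counit (R := k) e = 1 → e * e₀ = e₀ := by
    intro e he hε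
    have h1 : IsIdempotentElem (e * e₀) := he.mul he₀
    have h2 : Coalgebra.counit (R := k) (e * e₀) = 1 := by
      rw [Bialgebra.counit_mul, hε, hε₀, mul_one]
    have h3 : Ideal.span {1 - e₀} ≤ Ideal.span {1 - e * e₀} := by
      rw [Ideal.span_singleton_le_iff_mem, Ideal.mem_span_singleton']
      refine ⟨1 - e₀, ?_⟩
      have : e₀ * e₀ = e₀ := he₀
      calc (1 - e₀) * (1 - e * e₀) = 1 - e₀ - e * e₀ + e * (e₀ * e₀) := by ring
        _ = 1 - e₀ := by rw [this]; ring
    have h4 : Ideal.span {1 - e * e₀} = Ideal.span {1 - e₀} := by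
      by_contra hne'
      exact hmax _ ⟨e * e₀, h1, h2, rfl⟩ (lt_of_le_of_ne h3 (fun h => hne' h.symm))
    have h5 : 1 - e * e₀ ∈ Ideal.span {1 - e₀} := by
      rw [← h4]
      exact Ideal.subset_span rfl
    obtain ⟨c, hc⟩ := Ideal.mem_span_singleton'.1 h5
    have h6 : (1 - e * e₀) * e₀ = 0 := by
      have : e₀ * e₀ = e₀ := he₀
      rw [← hc]
      calc c * (1 - e₀) * e₀ = c * (e₀ - e₀ * e₀) := by ring
        _ = 0 := by rw [this, sub_self, mul_zero]
    have h7 : (1 - e * e₀) * e₀ = e₀ - e * e₀ := by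
      have : e₀ * e₀ = e₀ := he₀
      calc (1 - e * e₀) * e₀ = e₀ - e * (e₀ * e₀) := by ring
        _ = e₀ - e * e₀ := by rw [this]
    rw [h7] at h6
    exact (sub_eq_zero.1 h6).symm
  refine ⟨e₀, he₀, hε₀, hstar, ?_⟩
  set I₀ : Ideal H := Ideal.span {1 - e₀} with hI₀
  have hcounit : ∀ x ∈ I₀, Coalgebra.counit (R := k) x = 0 := by
    intro x hx
    obtain ⟨c, rfl⟩ := Ideal.mem_span_singleton'.1 hx
    rw [Bialgebra.counit_mul, map_sub, Bialgebra.counit_one, hε₀, sub_self, mul_zero]
  let π : H →ₐ[k] H ⧸ I₀ := Ideal.Quotient.mkₐ k I₀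
  have hπe : π e₀ = 1 := by
    have h1 : π (1 - e₀) = 0 := Ideal.Quotient.eq_zero_iff_mem.2 (Ideal.subset_span rfl)
    rw [map_sub, map_one, sub_eq_zero] at h1
    exact h1.symm
  let εbar : H ⧸ I₀ →ₐ[k] k := Ideal.Quotient.liftₐ I₀ (Bialgebra.counitAlgHom k H)
    (fun a ha => hcounit a ha)
  have hεbar : ∀ a, εbar (π a) = Coalgebra.counit (R := k) a := fun a => rfl
  haveI : Algebra.FiniteType k (H ⧸ I₀) :=
    Algebra.FiniteType.of_surjective π Ideal.Quotient.mk_surjective
  have hconn : ∀ f : H ⧸ I₀, IsIdempotentElem f → f = 0 ∨ f = 1 := by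
    intro fbar hf
    obtain ⟨f, rfl⟩ := Ideal.Quotient.mk_surjective fbar
    have h1 : f * f - f ∈ I₀ := by
      rw [← Ideal.Quotient.eq_zero_iff_mem, map_sub, map_mul, sub_eq_zero]
      exact hf
    obtain ⟨c, hc⟩ := Ideal.mem_span_singleton'.1 h1
    have hee : e₀ * e₀ = e₀ := he₀
    have h2 : (f * f - f) * e₀ = 0 := by
      rw [← hc]
      calc c * (1 - e₀) * e₀ = c * (e₀ - e₀ * e₀) := by ring
        _ = 0 := by rw [hee, sub_self, mul_zero]
    have h2' : f * f * e₀ = f * e₀ := by
      have : (f * f - f) * e₀ = f * f * e₀ - f * e₀ := by ring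
      rw [this] at h2
      exact sub_eq_zero.1 h2
    set f' := f * e₀ with hf'
    have hf'idem : IsIdempotentElem f' := by
      change f' * f' = f'
      calc f' * f' = f * f * (e₀ * e₀) := by rw [hf']; ring
        _ = f * e₀ := by rw [hee, h2']
    have hf'e : f' * e₀ = f' := by
      calc f' * e₀ = f * (e₀ * e₀) := by rw [hf']; ring
        _ = f' := by rw [hee]
    have hmk : (Ideal.Quotient.mk I₀ f) = π f' := by
      change π f = π f'
      rw [hf', map_mul, hπe, mul_one]
    have hεf' : IsIdempotentElem (Coalgebra.counit (R := k) f') :=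
      hf'idem.map (Bialgebra.counitAlgHom k H)
    rcases IsIdempotentElem.iff_eq_zero_or_one.1 hεf' with h0 | h1'
    · left
      set g := e₀ - f' with hg
      have hgidem : IsIdempotentElem g := by
        change g * g = g
        have hf'f' : f' * f' = f' := hf'idem
        calc g * g = e₀ * e₀ - 2 * (f' * e₀) + f' * f' := by rw [hg]; ring
          _ = e₀ - f' := by rw [hee, hf'e, hf'f']; ring
      have hεg : Coalgebra.counit (R := k) g = 1 := by
        rw [hg, map_sub, hε₀, h0, sub_zero]
      have h3 := hstar g hgidem hεg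
      have h4 : g * e₀ = g := by
        calc g * e₀ = e₀ * e₀ - f' * e₀ := by rw [hg]; ring
          _ = g := by rw [hee, hf'e]
      rw [h4] at h3
      have h5 : f' = 0 := by
        have : e₀ - f' = e₀ := h3
        have h6 : f' = e₀ - (e₀ - f') := by ring
        rw [h6, this, sub_self]
      rw [hmk, h5, map_zero]
    · right
      have h3 := hstar f' hf'idem h1'
      rw [hf'e] at h3
      rw [hmk, h3, hπe]
  have htens : ∀ z : (H ⧸ I₀) ⊗[k] (H ⧸ I₀), IsIdempotentElem z → z = 0 ∨ z = 1 :=
    fun z hz => idem_tensor hconn hconn εbar εbar z hz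
  have hnat : ∀ z : H ⊗[k] H, evL (S := H ⧸ I₀) εbar (Algebra.TensorProduct.map π π z) =
      π (evL (S := H) (Bialgebra.counitAlgHom k H) z) := by
    intro z
    induction z using TensorProduct.induction_on with
    | zero => simp
    | tmul x y =>
      rw [Algebra.TensorProduct.map_tmul, evL_tmul, evL_tmul, hεbar, map_smul]
      rfl
    | add x y hx hy => simp only [map_add, hx, hy]
  apply isHopfIdeal_of
  · exact hcounit
  · intro x hx
    obtain ⟨c, rfl⟩ := Ideal.mem_span_singleton'.1 hx
    set w := Algebra.TensorProduct.map π π (Coalgebra.comul (R := k) e₀) with hw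
    have hwidem : IsIdempotentElem w :=
      (he₀.map (Bialgebra.comulAlgHom k H)).map (Algebra.TensorProduct.map π π)
    have hw1 : w = 1 := by
      rcases htens w hwidem with h | h
      · exfalso
        have h1 := hnat (Coalgebra.comul (R := k) e₀)
        rw [evL_counit_comul, ← hw, h, map_zero] at h1
        rw [hπe] at h1
        have h2 := congrArg εbar h1
        rw [map_zero, map_one] at h2
        exact zero_ne_one h2
      · exact h
    have hmul : Coalgebra.comul (R := k) (c * (1 - e₀)) =
        Coalgebra.comul (R := k) c * (1 - Coalgebra.comul (R := k) e₀) := by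
      rw [Bialgebra.comul_mul, map_sub, Bialgebra.comul_one]
    change Algebra.TensorProduct.map π π (Coalgebra.comul (R := k) (c * (1 - e₀))) = 0
    rw [hmul, map_mul, map_sub, map_one, ← hw, hw1, sub_self, mul_zero]
  · intro x hx
    obtain ⟨c, rfl⟩ := Ideal.mem_span_singleton'.1 hx
    have h1 : HopfAlgebra.antipode k (c * (1 - e₀)) =
        HopfAlgebra.antipode k c * (1 - HopfAlgebra.antipode k e₀) := by
      have := map_mul (HopfAlgebra.antipodeAlgHom k H) c (1 - e₀)
      rw [map_sub, map_one] at this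
      exact this
    rw [h1]
    apply Ideal.mul_mem_left
    have hSidem : IsIdempotentElem (π (HopfAlgebra.antipode k e₀)) :=
      (he₀.map (HopfAlgebra.antipodeAlgHom k H)).map π
    have h2 : π (HopfAlgebra.antipode k e₀) = 1 := by
      rcases hconn _ hSidem with h | h
      · exfalso
        have h3 := hεbar (HopfAlgebra.antipode k e₀)
        rw [h, map_zero, HopfAlgebra.counit_antipode, hε₀] at h3
        exact zero_ne_one h3
      · exact h
    rw [← Ideal.Quotient.eq_zero_iff_mem]
    change π (1 - HopfAlgebra.antipode k e₀) = 0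
    rw [map_sub, map_one, h2, sub_self]

end Hopf

end Groth.Agent.Lib.Helper7.GenSubgp
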