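import Mathlib
import Groth.Agent.Lib.Helper28.SepClosedConn

/-!
# Connected algebras with a rational point are geometrically connected (helper7)
-/

set_option autoImplicit false
universe u
open TensorProduct PrimeSpectrum

namespace Groth.Agent.Lib.Helper7.GmIsog

/-- a continuous open closed map to a connected space with one nonempty preconnected fibre has
connected source (copied from helper1). -/
theorem connectedSpace_of_fibre {Y X : Type*} [TopologicalSpace Y] [TopologicalSpace X]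
    [ConnectedSpace X] (π : Y → X) (hopen : IsOpenMap π) (hclosed : IsClosedMap π) (x : X)
    (hne : (π ⁻¹' {x}).Nonempty) (hx : IsPreconnected (π ⁻¹' {x})) : ConnectedSpace Y := by
  obtain ⟨y₀, hy₀⟩ := hne
  haveI : Nonempty Y := ⟨y₀⟩
  have key : ∀ T : Set Y, IsClopen T → T.Nonempty → (T ∩ π ⁻¹' {x}).Nonempty := by
    intro T hT hTne
    have h1 : IsClopen (π '' T) := ⟨hclosed _ hT.1, hopen _ hT.2⟩
    have h2 : π '' T = Set.univ := by
      rcases isClopen_iff.mp h1 with h | h
      · exact absurd (Set.image_eq_empty.mp h) hTne.ne_empty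
      · exact h
    obtain ⟨t, ht, htx⟩ := h2.ge (Set.mem_univ x)
    exact ⟨t, ht, htx⟩
  suffices h : PreconnectedSpace Y from { toPreconnectedSpace := h, toNonempty := inferInstance }
  rw [preconnectedSpace_iff_clopen]
  intro T hT
  by_contra hcon
  push Not at hcon
  obtain ⟨hT1, hT2⟩ := hcon
  have hTne : T.Nonempty := hT1
  have hTcne : Tᶜ.Nonempty := Set.nonempty_compl.mpr hT2
  obtain ⟨a, ha1, ha2⟩ := key T hT hTne
  obtain ⟨b, hb1, hb2⟩ := key Tᶜ hT.compl hTcne
  obtain ⟨c, -, hc1, hc2⟩ := hx T Tᶜ hT.2 hT.compl.2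
    (by rw [Set.union_compl_self]; exact Set.subset_univ _) ⟨a, ha2, ha1⟩ ⟨b, hb2, hb1⟩
  exact hc2 hc1

variable {k : Type u} [Field k] (K : Type u) [Field K] [Algebra k K]
  {A : Type u} [CommRing A] [Algebra k A]

/-- the base change of a rational point. -/
noncomputable def epsK (ε : A →ₐ[k] k) : A ⊗[k] K →ₐ[k] K :=
  Algebra.TensorProduct.lift ((Algebra.ofId k K).comp ε) (AlgHom.id k K) (fun _ _ => Commute.all _ _)

lemma epsK_tmul (ε : A →ₐ[k] k) (a : A) (c : K) : epsK K ε (a ⊗ₜ[k] c) = algebraMap k K (ε a) * c := by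
  simp [epsK]

lemma sub_epsK_mem (ε : A →ₐ[k] k) (z : A ⊗[k] K) :
    z - (1 : A) ⊗ₜ[k] (epsK K ε z) ∈
      Ideal.span ((algebraMap A (A ⊗[k] K)) '' (RingHom.ker ε : Set A)) := by
  induction z using TensorProduct.induction_on with
  | zero => simp
  | tmul a c =>
    have h1 : a ⊗ₜ[k] c - (1 : A) ⊗ₜ[k] (epsK K ε (a ⊗ₜ[k] c)) =
        ((1 : A) ⊗ₜ[k] c) * ((a - algebraMap k A (ε a)) ⊗ₜ[k] (1 : K)) := by
      rw [epsK_tmul, Algebra.TensorProduct.tmul_mul_tmul, mul_one, one_mul, TensorProduct.sub_tmul]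
      congr 1
      rw [Algebra.algebraMap_eq_smul_one (A := A) (ε a), TensorProduct.smul_tmul,
        Algebra.smul_def]
    rw [h1]
    apply Ideal.mul_mem_left
    apply Ideal.subset_span
    refine ⟨a - algebraMap k A (ε a), ?_, rfl⟩
    rw [SetLike.mem_coe, RingHom.mem_ker, map_sub, AlgHom.commutes]
    simp
  | add y z hy hz =>
    rw [map_add, TensorProduct.tmul_add, add_sub_add_comm]
    exact Ideal.add_mem _ hy hz

theorem connectedSpace_tensor [Algebra.IsAlgebraic k K] (ε : A →ₐ[k] k)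
    (hconn : ∀ e : A, IsIdempotentElem e → e = 0 ∨ e = 1) :
    ConnectedSpace (PrimeSpectrum (A ⊗[k] K)) := by
  haveI : Nontrivial A := RingHom.domain_nontrivial (ε : A →+* k)
  haveI : PreconnectedSpace (PrimeSpectrum A) :=
    Groth.Agent.Lib.Helper28.preconnectedSpace_of_idem_trivial hconn
  haveI : ConnectedSpace (PrimeSpectrum A) := { toNonempty := inferInstance }
  have hclosed : IsClosedMap (comap (algebraMap A (A ⊗[k] K))) :=
    isClosedMap_comap_of_isIntegral _ (algebraMap_isIntegral_iff.2 inferInstance)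
  have hopen : IsOpenMap (comap (algebraMap A (A ⊗[k] K))) :=
    isOpenMap_comap_algebraMap_tensorProduct_of_field
  -- the rational point
  have hεsurj : Function.Surjective ε := fun c => ⟨algebraMap k A c, by simp⟩
  haveI hmax : (RingHom.ker (ε : A →+* k)).IsMaximal := RingHom.ker_isMaximal_of_surjective _ hεsurj
  let x : PrimeSpectrum A := ⟨RingHom.ker (ε : A →+* k), hmax.isPrime⟩
  have hεKsurj : Function.Surjective (epsK K ε) := fun c => ⟨(1 : A) ⊗ₜ[k] c, by simp [epsK_tmul]⟩
  haveI hmaxK : (RingHom.ker ((epsK K ε : A ⊗[k] K →ₐ[k] K) : A ⊗[k] K →+* K)).IsMaximal :=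
    RingHom.ker_isMaximal_of_surjective _ hεKsurj
  let q₀ : PrimeSpectrum (A ⊗[k] K) := ⟨RingHom.ker ((epsK K ε : A ⊗[k] K →ₐ[k] K) : A ⊗[k] K →+* K), hmaxK.isPrime⟩
  have hq₀ : comap (algebraMap A (A ⊗[k] K)) q₀ = x := by
    apply PrimeSpectrum.ext
    ext a
    change epsK K ε (a ⊗ₜ[k] (1 : K)) = 0 ↔ ε a = 0
    rw [epsK_tmul, mul_one]
    exact (map_eq_zero_iff _ (algebraMap k K).injective)
  refine connectedSpace_of_fibre (comap (algebraMap A (A ⊗[k] K))) hopen hclosed x ⟨q₀, hq₀⟩ ?_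
  apply Set.Subsingleton.isPreconnected
  have key : ∀ q : PrimeSpectrum (A ⊗[k] K), comap (algebraMap A (A ⊗[k] K)) q = x → q = q₀ := by
    intro q hq
    apply PrimeSpectrum.ext
    symm
    apply hmaxK.eq_of_le q.2.ne_top
    intro z hz
    have h1 := sub_epsK_mem K ε z
    have hz' : epsK K ε z = 0 := hz
    rw [hz', TensorProduct.tmul_zero, sub_zero] at h1
    refine (Ideal.span_le.2 ?_) h1
    rintro _ ⟨a, ha, rfl⟩
    have : a ∈ (comap (algebraMap A (A ⊗[k] K)) q).asIdeal := by rw [hq]; exact ha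
    exact this
  intro q1 h1 q2 h2
  rw [key q1 h1, key q2 h2]

theorem idem_trivial_baseChange [Algebra.IsAlgebraic k K] (ε : A →ₐ[k] k)
    (hconn : ∀ e : A, IsIdempotentElem e → e = 0 ∨ e = 1) :
    ∀ e : K ⊗[k] A, IsIdempotentElem e → e = 0 ∨ e = 1 := by
  haveI := connectedSpace_tensor K ε hconn
  intro e he
  let c := Algebra.TensorProduct.comm k K A
  have he' : IsIdempotentElem (c e) := by
    unfold IsIdempotentElem at he ⊢
    rw [← map_mul, he]
  rcases Groth.Agent.Lib.Helper28.idem_eq_zero_or_one_of_preconnected he' with h | h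
  · left
    exact (map_eq_zero_iff c c.injective).1 h
  · right
    exact (map_eq_one_iff c c.injective).1 h

end Groth.Agent.Lib.Helper7.GmIsog
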