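import Mathlib

/-!
# The Krull dimension of `K[ℤ]` is one (helper7)
-/

set_option autoImplicit false
universe u
open Polynomial

namespace Groth.Agent.Lib.Helper7.LaurentDim

variable (K : Type u) [Field K]

/-- the generator `T`. -/
noncomputable def T : MonoidAlgebra K (Multiplicative ℤ) := MonoidAlgebra.single (Multiplicative.ofAdd (1 : ℤ)) 1
/-- the inverse of `T`. -/
noncomputable def Tinv : MonoidAlgebra K (Multiplicative ℤ) := MonoidAlgebra.single (Multiplicative.ofAdd (-1 : ℤ)) 1

lemma T_mul_Tinv : T K * Tinv K = 1 := by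
  unfold T Tinv
  rw [MonoidAlgebra.single_mul_single, ← ofAdd_add, mul_one]
  simp [MonoidAlgebra.one_def]

/-- `K[X][Y] → K[ℤ]`, `X ↦ T`, `Y ↦ T⁻¹`. -/
noncomputable def proj : K[X][X] →+* MonoidAlgebra K (Multiplicative ℤ) :=
  Polynomial.eval₂RingHom ((aeval (T K) : K[X] →ₐ[K] MonoidAlgebra K (Multiplicative ℤ)) : K[X] →+* _) (Tinv K)

lemma proj_surjective : Function.Surjective (proj K) := by
  intro z
  induction z using MonoidAlgebra.induction_on with
  | of m =>
    obtain ⟨n, hn⟩ : ∃ n : ℤ, Multiplicative.ofAdd n = m := ⟨Multiplicative.toAdd m, rfl⟩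
    subst hn
    rcases Int.eq_nat_or_neg n with ⟨d, rfl | rfl⟩
    · refine ⟨C (X ^ d), ?_⟩
      have : proj K (C (X ^ d)) = T K ^ d := by
        unfold proj
        rw [Polynomial.coe_eval₂RingHom, Polynomial.eval₂_C]
        simp
      rw [this, T, MonoidAlgebra.single_pow, one_pow, ← ofAdd_nsmul, MonoidAlgebra.of_apply]
      simp
    · refine ⟨X ^ d, ?_⟩
      have : proj K (X ^ d) = Tinv K ^ d := by simp [proj]
      rw [this, Tinv, MonoidAlgebra.single_pow, one_pow, ← ofAdd_nsmul, MonoidAlgebra.of_apply]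
      simp
  | add x y hx hy =>
    obtain ⟨a, rfl⟩ := hx
    obtain ⟨b, rfl⟩ := hy
    exact ⟨a + b, map_add _ _ _⟩
  | smul r x hx =>
    obtain ⟨a, rfl⟩ := hx
    refine ⟨C (C r) * a, ?_⟩
    rw [map_mul]
    simp [proj, Algebra.smul_def]

theorem ringKrullDim_le_one : ringKrullDim (MonoidAlgebra K (Multiplicative ℤ)) ≤ 1 := by
  have h1 : (C X * X - 1 : K[X][X]) ∈ nonZeroDivisors K[X][X] := by
    apply mem_nonZeroDivisors_of_ne_zero
    intro h0
    have := congrArg (fun p => (p.coeff 0)) h0
    simp at this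
  have h2 : proj K (C X * X - 1) = 0 := by
    simp [proj, T_mul_Tinv]
  have h3 := ringKrullDim_succ_le_of_surjective (proj K) (proj_surjective K) h1 h2
  rw [Polynomial.ringKrullDim_of_isNoetherianRing, Polynomial.ringKrullDim_of_isNoetherianRing,
    ringKrullDim_eq_zero_of_field, zero_add] at h3
  generalize ringKrullDim (MonoidAlgebra K (Multiplicative ℤ)) = d at h3 ⊢
  induction d using WithBot.recBotCoe with
  | bot => exact bot_le
  | coe e =>
    induction e using ENat.recTopCoe with
    | top =>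
      exfalso
      have e1 : ((⊤ : ℕ∞) : WithBot ℕ∞) + 1 = ((⊤ : ℕ∞) : WithBot ℕ∞) := by
        rw [← WithBot.coe_one, ← WithBot.coe_add, top_add]
      have e2 : (1 + 1 : WithBot ℕ∞) = ((2 : ℕ∞) : WithBot ℕ∞) := by norm_num
      rw [e1, e2, WithBot.coe_le_coe] at h3
      exact absurd h3 (by simp)
    | coe m =>
      have h4 : ((m + 1 : ℕ) : WithBot ℕ∞) ≤ ((2 : ℕ) : WithBot ℕ∞) := by
        have e1 : ((m + 1 : ℕ) : WithBot ℕ∞) = ((m : ℕ∞) : WithBot ℕ∞) + 1 := by push_cast; rfl
        have e2 : ((2 : ℕ) : WithBot ℕ∞) = 1 + 1 := by norm_num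
        rw [e1, e2]; exact h3
      have h5 : m + 1 ≤ 2 := by exact_mod_cast h4
      have h6 : m ≤ 1 := by omega
      exact_mod_cast h6

lemma not_isField : ¬ IsField (MonoidAlgebra K (Multiplicative ℤ)) := by
  intro hF
  let aug : MonoidAlgebra K (Multiplicative ℤ) →ₐ[K] K :=
    MonoidAlgebra.lift K K (Multiplicative ℤ) (1 : Multiplicative ℤ →* K)
  have haug : aug (T K - 1) = 0 := by
    simp [aug, T]
  have hne : T K - 1 ≠ 0 := by
    intro h0
    have h1 : T K = 1 := sub_eq_zero.1 h0
    unfold T at h1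
    rw [MonoidAlgebra.one_def] at h1
    have h2 := congrArg (fun z : MonoidAlgebra K (Multiplicative ℤ) => z.coeff (Multiplicative.ofAdd (1 : ℤ))) h1
    simp only [MonoidAlgebra.coeff_single] at h2
    have h3 : (1 : Multiplicative ℤ) ≠ Multiplicative.ofAdd (1 : ℤ) := by
      intro h
      have := congrArg Multiplicative.toAdd h
      simp at this
    simp at h2
  obtain ⟨b, hb⟩ := hF.mul_inv_cancel hne
  have := congrArg aug hb
  rw [map_mul, haug, zero_mul, map_one] at this
  exact zero_ne_one this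

theorem ringKrullDim_eq_one : ringKrullDim (MonoidAlgebra K (Multiplicative ℤ)) = 1 := by
  apply le_antisymm (ringKrullDim_le_one K)
  by_contra hlt
  have h0 : ringKrullDim (MonoidAlgebra K (Multiplicative ℤ)) ≤ 0 := by
    rw [not_le] at hlt
    generalize ringKrullDim (MonoidAlgebra K (Multiplicative ℤ)) = d at hlt ⊢
    induction d using WithBot.recBotCoe with
    | bot => exact bot_le
    | coe e =>
      induction e using ENat.recTopCoe with
      | top =>
        exfalso
        rw [← WithBot.coe_one, WithBot.coe_lt_coe] at hlt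
        exact absurd hlt (by simp)
      | coe m =>
        have h4 : ((m : ℕ) : WithBot ℕ∞) < ((1 : ℕ) : WithBot ℕ∞) := by
          simpa using hlt
        have h5 : m < 1 := by exact_mod_cast h4
        have h6 : m ≤ 0 := by omega
        exact_mod_cast h6
  haveI : Ring.KrullDimLE 0 (MonoidAlgebra K (Multiplicative ℤ)) := (Ring.krullDimLE_iff).2 h0
  exact not_isField K Ring.KrullDimLE.isField_of_isDomain

end Groth.Agent.Lib.Helper7.LaurentDim
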