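import Groth.Agent.Lib.Helper7.GmIsog2
import Groth.Agent.Lib.Helper7.LaurentDim
import Groth.Agent.Lib.Helper7.TrigBC
import Groth.Agent.Lib.Helper12.IntegralDim

/-!
# Dimension of a Hopf algebra finite over `k[ℤ]` after base change (helper7)
-/

set_option autoImplicit false
universe u
open TensorProduct

namespace Groth.Agent.Lib.Helper7.GmIsog

variable {k : Type u} [Field k] (K : Type u) [Field K] [Algebra k K] {A : Type u} [CommRing A]
  [HopfAlgebra k A] (ψ : MonoidAlgebra k (Multiplicative ℤ) →ₐc[k] A)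

/-- the character `g ↦ 1 ⊗ ψ g`. -/
noncomputable def chiK : Multiplicative ℤ →* K ⊗[k] A :=
  ((Algebra.TensorProduct.includeRight : A →ₐ[k] K ⊗[k] A) : A →* K ⊗[k] A).comp
    (((ψ : MonoidAlgebra k (Multiplicative ℤ) →ₐ[k] A) : MonoidAlgebra k (Multiplicative ℤ) →* A).comp
      (MonoidAlgebra.of k (Multiplicative ℤ)))

lemma chiK_apply (g : Multiplicative ℤ) :
    chiK K ψ g = (1 : K) ⊗ₜ[k] ψ (MonoidAlgebra.single g 1) := rfl

/-- `K[ℤ] → K ⊗ A`. -/
noncomputable def PsiK : MonoidAlgebra K (Multiplicative ℤ) →ₐ[K] K ⊗[k] A :=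
  MonoidAlgebra.lift K (K ⊗[k] A) (Multiplicative ℤ) (chiK K ψ)

lemma PsiK_single (g : Multiplicative ℤ) (c : K) :
    PsiK K ψ (MonoidAlgebra.single g c) = c ⊗ₜ[k] ψ (MonoidAlgebra.single g 1) := by
  unfold PsiK
  rw [MonoidAlgebra.lift_single, chiK_apply, TensorProduct.smul_tmul', smul_eq_mul, mul_one]

lemma isGroupLikeElem_chiK (g : Multiplicative ℤ) : IsGroupLikeElem K (chiK K ψ g) := by
  rw [chiK_apply]
  apply Groth.Agent.Lib.Helper7.TrigBC.isGroupLikeElem_one_tmul
  exact (MonoidAlgebra.isGroupLikeElem_single_one (R := k) (A := k) g).map ψ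

variable {ψ} (hinj : Function.Injective ψ)
include hinj

lemma chiK_injective : Function.Injective (chiK K ψ) := by
  intro g h hgh
  rw [chiK_apply, chiK_apply] at hgh
  have h1 := Algebra.TensorProduct.includeRight_injective (R := k) (A := K) (B := A)
    (algebraMap k K).injective hgh
  have h2 := hinj h1
  have h3 := congrArg (fun z : MonoidAlgebra k (Multiplicative ℤ) => z.coeff g) h2
  simp only [MonoidAlgebra.coeff_single] at h3
  by_contra hne
  simp [Ne.symm hne] at h3

lemma PsiK_injective : Function.Injective (PsiK K ψ) := by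
  have hli : LinearIndependent K (chiK K ψ) := by
    have h0 := linearIndepOn_isGroupLikeElem (R := K) (A := K ⊗[k] A)
    let f : Multiplicative ℤ → {a : K ⊗[k] A | IsGroupLikeElem K a} :=
      fun g => ⟨chiK K ψ g, isGroupLikeElem_chiK K ψ g⟩
    have hf : Function.Injective f := fun g h hgh =>
      chiK_injective K hinj (congrArg Subtype.val hgh)
    exact h0.comp f hf
  have hΨ : ∀ z : MonoidAlgebra K (Multiplicative ℤ),
      PsiK K ψ z = Finsupp.linearCombination K (chiK K ψ) z.coeff := by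
    intro z
    unfold PsiK
    rw [MonoidAlgebra.lift_apply, Finsupp.linearCombination_apply]
  intro y z hyz
  rw [hΨ, hΨ] at hyz
  have := hli hyz
  exact (MonoidAlgebra.coeffLinearEquiv K).injective this

omit hinj in
lemma PsiK_comp_map :
    ((PsiK K ψ : MonoidAlgebra K (Multiplicative ℤ) →ₐ[K] K ⊗[k] A) :
        MonoidAlgebra K (Multiplicative ℤ) →+* K ⊗[k] A).comp
      (MonoidAlgebra.mapRingHom (Multiplicative ℤ) (algebraMap k K)) =
    ((Algebra.TensorProduct.includeRight : A →ₐ[k] K ⊗[k] A) : A →+* K ⊗[k] A).comp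
      ((ψ : MonoidAlgebra k (Multiplicative ℤ) →ₐ[k] A) : MonoidAlgebra k (Multiplicative ℤ) →+* A) := by
  apply MonoidAlgebra.ringHom_ext
  · intro r
    change PsiK K ψ (MonoidAlgebra.mapRingHom (Multiplicative ℤ) (algebraMap k K) (MonoidAlgebra.single 1 r)) =
      (1 : K) ⊗ₜ[k] ψ (MonoidAlgebra.single 1 r)
    rw [MonoidAlgebra.mapRingHom_single, PsiK_single]
    have h1 : (MonoidAlgebra.single (1 : Multiplicative ℤ) r : MonoidAlgebra k (Multiplicative ℤ)) =
        r • MonoidAlgebra.single 1 (1 : k) := by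
      rw [MonoidAlgebra.smul_single', mul_one]
    rw [h1, map_smul, TensorProduct.tmul_smul, TensorProduct.smul_tmul', Algebra.smul_def, mul_one]
  · intro g
    change PsiK K ψ (MonoidAlgebra.mapRingHom (Multiplicative ℤ) (algebraMap k K) (MonoidAlgebra.single g 1)) =
      (1 : K) ⊗ₜ[k] ψ (MonoidAlgebra.single g 1)
    rw [MonoidAlgebra.mapRingHom_single, PsiK_single, map_one]

omit hinj in
lemma PsiK_isIntegral (hfin : ((ψ : MonoidAlgebra k (Multiplicative ℤ) →ₐ[k] A) :
      MonoidAlgebra k (Multiplicative ℤ) →+* A).Finite) :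
    ((PsiK K ψ : MonoidAlgebra K (Multiplicative ℤ) →ₐ[K] K ⊗[k] A) :
        MonoidAlgebra K (Multiplicative ℤ) →+* K ⊗[k] A).IsIntegral := by
  intro z
  induction z using TensorProduct.induction_on with
  | zero => exact RingHom.isIntegralElem_zero _
  | tmul c a =>
    have h1 : c ⊗ₜ[k] a = (c ⊗ₜ[k] (1 : A)) * ((1 : K) ⊗ₜ[k] a) := by
      rw [Algebra.TensorProduct.tmul_mul_tmul, mul_one, one_mul]
    rw [h1]
    apply RingHom.IsIntegralElem.mul
    · have : c ⊗ₜ[k] (1 : A) = PsiK K ψ (MonoidAlgebra.single 1 c) := by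
        rw [PsiK_single]
        congr 1
        rw [← MonoidAlgebra.one_def, map_one]
      rw [this]
      exact RingHom.isIntegralElem_map _
    · obtain ⟨p, hp, hpa⟩ := hfin.to_isIntegral a
      refine ⟨p.map (MonoidAlgebra.mapRingHom (Multiplicative ℤ) (algebraMap k K)), hp.map _, ?_⟩
      rw [Polynomial.eval₂_map, PsiK_comp_map]
      have := Polynomial.hom_eval₂ p ((ψ : MonoidAlgebra k (Multiplicative ℤ) →ₐ[k] A) :
        MonoidAlgebra k (Multiplicative ℤ) →+* A)
        ((Algebra.TensorProduct.includeRight : A →ₐ[k] K ⊗[k] A) : A →+* K ⊗[k] A) a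
      rw [hpa, map_zero] at this
      exact this.symm
  | add y z hy hz => exact RingHom.IsIntegralElem.add _ hy hz

theorem ringKrullDim_baseChange (hfin : ((ψ : MonoidAlgebra k (Multiplicative ℤ) →ₐ[k] A) :
      MonoidAlgebra k (Multiplicative ℤ) →+* A).Finite) :
    ringKrullDim (K ⊗[k] A) = 1 := by
  letI : Algebra (MonoidAlgebra K (Multiplicative ℤ)) (K ⊗[k] A) :=
    ((PsiK K ψ : MonoidAlgebra K (Multiplicative ℤ) →ₐ[K] K ⊗[k] A) :
        MonoidAlgebra K (Multiplicative ℤ) →+* K ⊗[k] A).toAlgebra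
  haveI : Algebra.IsIntegral (MonoidAlgebra K (Multiplicative ℤ)) (K ⊗[k] A) :=
    ⟨PsiK_isIntegral K hfin⟩
  rw [← Groth.Agent.Lib.Helper12.ringKrullDim_eq_of_isIntegral_of_injective
    (MonoidAlgebra K (Multiplicative ℤ)) (K ⊗[k] A) (PsiK_injective K hinj)]
  exact Groth.Agent.Lib.Helper7.LaurentDim.ringKrullDim_eq_one K

end Groth.Agent.Lib.Helper7.GmIsog
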