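import Groth.Agent.Lib.Helper7.GmIsog3
import Groth.Agent.Lib.Helper7.GmIsog4
import Groth.Agent.Lib.Helper10.SmoothReduced
import Groth.Agent.S7976

/-!
# A smooth connected Hopf algebra finite over `k[ℤ]` is `k[ℤ]` (helper7)
-/

set_option autoImplicit false
universe u
open TensorProduct

namespace Groth.Agent.Lib.Helper7.GmIsog

section Sym

variable {K : Type u} [Field K]

/-- the only group-like element of the symmetric algebra is `1`. -/
lemma groupLike_sym_eq_one {g : SymmetricAlgebra K K} (hg : IsGroupLikeElem K g) : g = 1 := by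
  let b : Module.Basis Unit K K := Module.Basis.singleton Unit K
  let e := SymmetricAlgebra.equivMvPolynomial b
  have hu : IsUnit (e g) := hg.isUnit.map e
  obtain ⟨r, _, hr⟩ := MvPolynomial.isUnit_iff_eq_C_of_isReduced.1 hu
  have h1 : g = algebraMap K (SymmetricAlgebra K K) r := by
    apply e.injective
    rw [hr, AlgEquiv.commutes]
    rfl
  have h2 := hg.counit_eq_one
  rw [h1, Bialgebra.counit_algebraMap] at h2
  rw [h1, h2, map_one]

end Sym

variable (k : Type u) [Field k] (A : Type u) [CommRing A] [HopfAlgebra k A]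

theorem nonempty_bialgEquiv_of_finite [Algebra.Smooth k A]
    (hconn : ∀ e : A, IsIdempotentElem e → e = 0 ∨ e = 1)
    (ψ : MonoidAlgebra k (Multiplicative ℤ) →ₐc[k] A) (hinj : Function.Injective ψ)
    (hfin : ((ψ : MonoidAlgebra k (Multiplicative ℤ) →ₐ[k] A) :
      MonoidAlgebra k (Multiplicative ℤ) →+* A).Finite) :
    Nonempty (A ≃ₐc[k] MonoidAlgebra k (Multiplicative ℤ)) := by
  let K := AlgebraicClosure k
  haveI : IsReduced (K ⊗[k] A) :=
    Groth.Agent.Lib.Helper10.SmoothReduced.isReduced_of_smooth_of_isDomain K (K ⊗[k] A)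
  have hconnK := idem_trivial_baseChange K (Bialgebra.counitAlgHom k A) hconn
  have hdim := ringKrullDim_baseChange K hinj hfin
  -- the group-like element
  let x : A := ψ (MonoidAlgebra.single (Multiplicative.ofAdd (1 : ℤ)) 1)
  have hxgl : IsGroupLikeElem K ((1 : K) ⊗ₜ[k] x : K ⊗[k] A) := isGroupLikeElem_chiK K ψ _
  have hx1 : ((1 : K) ⊗ₜ[k] x : K ⊗[k] A) ≠ 1 := by
    intro h
    have h1 : chiK K ψ (Multiplicative.ofAdd (1 : ℤ)) = chiK K ψ 1 := by
      rw [(chiK K ψ).map_one]; exact h
    have h2 := chiK_injective K hinj h1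
    have := congrArg Multiplicative.toAdd h2
    simp at this
  rcases Groth.Agent.S7976.result K (K ⊗[k] A) hconnK hdim with ⟨⟨E⟩⟩ | ⟨⟨E'⟩⟩
  · -- multiplicative case
    have hEx : IsGroupLikeElem K (E ((1 : K) ⊗ₜ[k] x)) := hxgl.map E
    obtain ⟨g, hg⟩ := MonoidAlgebra.isGroupLikeElem_iff_mem_range_of.1 hEx
    rw [MonoidAlgebra.of_apply] at hg
    obtain ⟨n', hgn⟩ : ∃ n' : ℤ, Multiplicative.ofAdd n' = g := ⟨Multiplicative.toAdd g, rfl⟩
    rw [← hgn] at hg
    clear hgn g
    have hn' : n' ≠ 0 := by
      intro h0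
      rw [h0] at hg
      apply hx1
      have : E ((1 : K) ⊗ₜ[k] x) = E 1 := by
        rw [← hg, map_one]; rfl
      have h3 := congrArg E.symm this
      rwa [E.symm_apply_apply, E.symm_apply_apply] at h3
    rcases lt_or_gt_of_ne hn' with hneg | hpos
    · -- compose with inversion
      let E₂ : (K ⊗[k] A) ≃ₐc[K] MonoidAlgebra K (Multiplicative ℤ) :=
        E.trans (MonoidAlgebra.domCongrBialgEquiv K K (MulEquiv.inv (Multiplicative ℤ)))
      refine nonempty_bialgEquiv_of_baseChange E₂ x (-n').toNat ?_ ?_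
      · intro h0
        have : (-n').toNat = 0 := h0
        omega
      · change MonoidAlgebra.domCongrBialgEquiv K K (MulEquiv.inv (Multiplicative ℤ)) (E _) = _
        rw [← hg]
        have h5 : ((-n').toNat : ℤ) = -n' := Int.toNat_of_nonneg (by omega)
        rw [h5]
        change MonoidAlgebra.domCongr K K (MulEquiv.inv (Multiplicative ℤ)) _ = _
        rw [MonoidAlgebra.domCongr_single]
        rfl
    · refine nonempty_bialgEquiv_of_baseChange E x n'.toNat ?_ ?_
      · intro h0
        have : n'.toNat = 0 := h0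
        omega
      · rw [← hg]
        have h5 : (n'.toNat : ℤ) = n' := Int.toNat_of_nonneg (by omega)
        rw [h5]
  · -- additive case: impossible
    exfalso
    apply hx1
    have h1 := groupLike_sym_eq_one (hxgl.map E')
    have h3 := congrArg E'.symm h1
    rwa [E'.symm_apply_apply, map_one] at h3

end Groth.Agent.Lib.Helper7.GmIsog
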