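import Groth.Agent.Lib.Helper7.HH1

/-!
# Linear push-forward of first-order points and naturality of convolution (helper7)
-/

set_option autoImplicit false

namespace Groth.Agent.Lib.Helper7.HH

open TensorProduct WithConv

universe u

section LComp

variable {R : Type u} [CommRing R] {C : Type u} [CommRing C] [HopfAlgebra R C]
  {T T' T'' : Type u} [CommRing T] [Algebra R T] [CommRing T'] [Algebra R T'] [CommRing T'']
  [Algebra R T'']

/-- post-composition with a linear map. -/
noncomputable def lcomp (l : T →ₗ[R] T') (u : WithConv (C →ₗ[R] T)) : WithConv (C →ₗ[R] T') :=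
  toConv (l ∘ₗ u.ofConv)

lemma lcomp_apply (l : T →ₗ[R] T') (u : WithConv (C →ₗ[R] T)) (c : C) :
    lcomp l u c = l (u c) := rfl

lemma conv_add_apply (u v : WithConv (C →ₗ[R] T)) (c : C) : (u + v) c = u c + v c := rfl

lemma conv_one_apply (c : C) :
    (1 : WithConv (C →ₗ[R] T)) c = algebraMap R T (Coalgebra.counit (R := R) c) := rfl

lemma conv_ext {u v : WithConv (C →ₗ[R] T)} (h : ∀ c, u c = v c) : u = v := by
  apply WithConv.ext
  apply LinearMap.ext
  exact h

lemma lcomp_add (l : T →ₗ[R] T') (u v : WithConv (C →ₗ[R] T)) :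
    lcomp l (u + v) = lcomp l u + lcomp l v := by
  apply conv_ext
  intro c
  rw [lcomp_apply, conv_add_apply, map_add, conv_add_apply, lcomp_apply, lcomp_apply]

lemma lcomp_lcomp (l' : T' →ₗ[R] T'') (l : T →ₗ[R] T') (u : WithConv (C →ₗ[R] T)) :
    lcomp l' (lcomp l u) = lcomp (l' ∘ₗ l) u := rfl

lemma lcomp_id (u : WithConv (C →ₗ[R] T)) : lcomp LinearMap.id u = u := rfl

lemma dpart_push' (h : T →ₐ[R] T') (f : Pt R C T) :
    dpart (push h f) = lcomp h.toLinearMap (dpart f) := dpart_push h f

/-- naturality of left convolution by a pushed-forward point. -/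
lemma lcomp_mul_left {A : Type u} [CommRing A] [Algebra R A] (l : T →ₗ[R] T') (h : A →ₐ[R] T)
    (h' : A →ₐ[R] T') (hl : ∀ x t, l (h x * t) = h' x * l t) (p : Pt R C A)
    (u : WithConv (C →ₗ[R] T)) :
    lcomp l (lin (push h p) * u) = lin (push h' p) * lcomp l u := by
  apply conv_ext
  intro c
  rw [lcomp_apply, LinearMap.convMul_apply, LinearMap.convMul_apply]
  generalize Coalgebra.comul (R := R) c = z
  induction z using TensorProduct.induction_on with
  | zero => simp
  | tmul a b =>
    rw [TensorProduct.map_tmul, LinearMap.mul'_apply, TensorProduct.map_tmul,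
      LinearMap.mul'_apply]
    exact hl _ _
  | add x y hx hy => simp only [map_add, hx, hy]

/-- naturality of right convolution by a pushed-forward point. -/
lemma lcomp_mul_right {A : Type u} [CommRing A] [Algebra R A] (l : T →ₗ[R] T') (h : A →ₐ[R] T)
    (h' : A →ₐ[R] T') (hl : ∀ x t, l (h x * t) = h' x * l t) (p : Pt R C A)
    (u : WithConv (C →ₗ[R] T)) :
    lcomp l (u * lin (push h p)) = lcomp l u * lin (push h' p) := by
  apply conv_ext
  intro c
  rw [lcomp_apply, LinearMap.convMul_apply, LinearMap.convMul_apply]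
  generalize Coalgebra.comul (R := R) c = z
  induction z using TensorProduct.induction_on with
  | zero => simp
  | tmul a b =>
    rw [TensorProduct.map_tmul, LinearMap.mul'_apply, TensorProduct.map_tmul,
      LinearMap.mul'_apply, mul_comm, mul_comm (lcomp l u a)]
    exact hl _ _
  | add x y hx hy => simp only [map_add, hx, hy]

end LComp

section NJ

variable {R : Type u} [CommRing R] (J : Ideal R) (T : Type u) [CommRing T] [Algebra R T]

/-- the extension `J·T` of an ideal. -/
abbrev NJ : Ideal T := Ideal.map (algebraMap R T) J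

variable {J} in
lemma NJ_sq (hJ : J * J = ⊥) : NJ J T * NJ J T = ⊥ := by
  rw [← Ideal.map_mul, hJ, Ideal.map_bot]

variable {T}

lemma lin_mem_NJ {T' : Type u} [CommRing T'] [Algebra R T'] (l : T →ₗ[R] T') {x : T}
    (hx : x ∈ NJ J T) : l x ∈ NJ J T' := by
  have h1 : x ∈ (J • ⊤ : Submodule R T) := by
    rw [Ideal.smul_top_eq_map]
    exact hx
  have h2 : l x ∈ (J • ⊤ : Submodule R T') := by
    have := Submodule.mem_map_of_mem (f := l) h1
    rw [Submodule.map_smul''] at this
    exact Submodule.smul_mono le_rfl le_top this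
  rw [Ideal.smul_top_eq_map] at h2
  exact h2

end NJ

section LinPush

variable {R : Type u} [CommRing R] {C : Type u} [CommRing C] [HopfAlgebra R C]
  {T T' : Type u} [CommRing T] [Algebra R T] [CommRing T'] [Algebra R T']
  {N : Ideal T} {N' : Ideal T'}

lemma dpart_map_mul (hN : N * N = ⊥) {f : Pt R C T} (hf : Cong N f) (c c' : C) :
    dpart f (c * c') = algebraMap R T (Coalgebra.counit c) * dpart f c' +
      algebraMap R T (Coalgebra.counit c') * dpart f c := by
  have h0 : dpart f c * dpart f c' = 0 := by
    have := Ideal.mul_mem_mul (hf c) (hf c')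
    rw [hN] at this
    exact this
  rw [dpart_apply, dpart_apply] at h0
  rw [dpart_apply, dpart_apply, dpart_apply]
  have e : f (c * c') = f c * f c' := map_mul f.ofConv c c'
  rw [e, Bialgebra.counit_mul, map_mul]
  linear_combination h0

lemma dpart_map_one (f : Pt R C T) : dpart f 1 = 0 := by
  have e : f 1 = 1 := map_one f.ofConv
  rw [dpart_apply, e, Bialgebra.counit_one, map_one, sub_self]

/-- the point with `d`-part `l ∘ dpart f`. -/
noncomputable def linPush (hN : N * N = ⊥) (hN' : N' * N' = ⊥) (l : T →ₗ[R] T')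
    (hl : ∀ x ∈ N, l x ∈ N') (f : Pt R C T) (hf : Cong N f) : Pt R C T' :=
  toConv (AlgHom.ofLinearMap ((1 : WithConv (C →ₗ[R] T')) + lcomp l (dpart f)).ofConv
    (by
      change ((1 : WithConv (C →ₗ[R] T')) + lcomp l (dpart f)) 1 = 1
      rw [conv_add_apply, conv_one_apply, lcomp_apply, dpart_map_one, map_zero,
        Bialgebra.counit_one, map_one, add_zero])
    (by
      intro x y
      change ((1 : WithConv (C →ₗ[R] T')) + lcomp l (dpart f)) (x * y) =
        ((1 : WithConv (C →ₗ[R] T')) + lcomp l (dpart f)) x *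
          ((1 : WithConv (C →ₗ[R] T')) + lcomp l (dpart f)) y
      rw [conv_add_apply, conv_add_apply, conv_add_apply, conv_one_apply, conv_one_apply,
        conv_one_apply, lcomp_apply, lcomp_apply, lcomp_apply, dpart_map_mul hN hf,
        Bialgebra.counit_mul, map_mul, map_add]
      have h0 : l (dpart f x) * l (dpart f y) = 0 := by
        have := Ideal.mul_mem_mul (hl _ (hf x)) (hl _ (hf y))
        rw [hN'] at this
        exact this
      have e1 : ∀ (r : R) (t : T), l (algebraMap R T r * t) = algebraMap R T' r * l t := by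
        intro r t
        rw [← Algebra.smul_def, map_smul, Algebra.smul_def]
      rw [e1, e1]
      linear_combination -h0))

lemma dpart_linPush (hN : N * N = ⊥) (hN' : N' * N' = ⊥) (l : T →ₗ[R] T')
    (hl : ∀ x ∈ N, l x ∈ N') (f : Pt R C T) (hf : Cong N f) :
    dpart (linPush hN hN' l hl f hf) = lcomp l (dpart f) := by
  have e : lin (linPush hN hN' l hl f hf) = 1 + lcomp l (dpart f) := rfl
  rw [dpart, e, add_sub_cancel_left]

lemma Cong.linPush (hN : N * N = ⊥) (hN' : N' * N' = ⊥) (l : T →ₗ[R] T')
    (hl : ∀ x ∈ N, l x ∈ N') (f : Pt R C T) (hf : Cong N f) :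
    Cong N' (linPush hN hN' l hl f hf) := by
  intro c
  rw [dpart_linPush, lcomp_apply]
  exact hl _ (hf c)

end LinPush

end Groth.Agent.Lib.Helper7.HH
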