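import Groth.Agent.Lib.Helper7.HH2

/-!
# Vanishing of the second Hochschild obstruction by averaging (helper7)

`A` a commutative Hopf algebra over `R` with a normalised invariant integral, `J` a square-zero
ideal of `R`, `C` a commutative Hopf algebra.  An algebra map `ψ : C → A` which is comultiplicative
modulo `J` can be corrected, modulo `J`, to a bialgebra map.
-/

set_option autoImplicit false

namespace Groth.Agent.Lib.Helper7.HH

open TensorProduct WithConv

universe u

attribute [-instance] AlgHom.convInv AlgHom.convGroup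

section Maps

variable (R : Type u) [CommRing R] (A : Type u) [CommRing A] [HopfAlgebra R A]

noncomputable abbrev j1 : A →ₐ[R] A ⊗[R] A := Algebra.TensorProduct.includeLeft
noncomputable abbrev j2 : A →ₐ[R] A ⊗[R] A := Algebra.TensorProduct.includeRight
noncomputable abbrev dl : A →ₐ[R] A ⊗[R] A := Bialgebra.comulAlgHom R A
noncomputable abbrev i1 : A →ₐ[R] A ⊗[R] (A ⊗[R] A) := Algebra.TensorProduct.includeLeft
noncomputable abbrev i2 : A →ₐ[R] A ⊗[R] (A ⊗[R] A) :=
  (Algebra.TensorProduct.includeRight).comp (j1 R A)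
noncomputable abbrev i3 : A →ₐ[R] A ⊗[R] (A ⊗[R] A) :=
  (Algebra.TensorProduct.includeRight).comp (j2 R A)
noncomputable abbrev q12 : A ⊗[R] A →ₐ[R] A ⊗[R] (A ⊗[R] A) :=
  Algebra.TensorProduct.map (AlgHom.id R A) (j1 R A)
noncomputable abbrev q23 : A ⊗[R] A →ₐ[R] A ⊗[R] (A ⊗[R] A) :=
  Algebra.TensorProduct.includeRight
noncomputable abbrev d1 : A ⊗[R] A →ₐ[R] A ⊗[R] (A ⊗[R] A) :=
  (Algebra.TensorProduct.assoc R R R A A A).toAlgHom.comp
    (Algebra.TensorProduct.map (dl R A) (AlgHom.id R A))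
noncomputable abbrev d2 : A ⊗[R] A →ₐ[R] A ⊗[R] (A ⊗[R] A) :=
  Algebra.TensorProduct.map (AlgHom.id R A) (dl R A)

lemma r1 : (q12 R A).comp (j1 R A) = i1 R A := by
  apply AlgHom.ext
  intro x
  simp

lemma r2 : (q12 R A).comp (j2 R A) = i2 R A := by
  apply AlgHom.ext
  intro x
  simp

lemma r3 : (q23 R A).comp (j1 R A) = i2 R A := rfl

lemma r4 : (q23 R A).comp (j2 R A) = i3 R A := rfl

lemma assoc_tmul_one (w : A ⊗[R] A) :
    Algebra.TensorProduct.assoc R R R A A A (w ⊗ₜ[R] (1 : A)) = q12 R A w := by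
  induction w using TensorProduct.induction_on with
  | zero => simp
  | tmul a b => simp
  | add x y hx hy => rw [TensorProduct.add_tmul, map_add, hx, hy, map_add]

lemma r5 : (d1 R A).comp (j1 R A) = (q12 R A).comp (dl R A) := by
  apply AlgHom.ext
  intro x
  simp only [AlgHom.comp_apply, Algebra.TensorProduct.includeLeft_apply,
    Algebra.TensorProduct.map_tmul, map_one]
  exact assoc_tmul_one R A _

lemma r6 : (d1 R A).comp (j2 R A) = i3 R A := by
  apply AlgHom.ext
  intro x
  simp only [AlgHom.comp_apply, Algebra.TensorProduct.includeRight_apply,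
    Algebra.TensorProduct.map_tmul, map_one, AlgHom.id_apply]
  rw [Algebra.TensorProduct.one_def]
  exact Algebra.TensorProduct.assoc_tmul (R := R) (S := R) (T := R) (a := (1 : A)) (b := (1 : A))
    (c := x)

lemma r7 : (d2 R A).comp (j1 R A) = i1 R A := by
  apply AlgHom.ext
  intro x
  simp

lemma r8 : (d2 R A).comp (j2 R A) = (q23 R A).comp (dl R A) := by
  apply AlgHom.ext
  intro x
  simp

lemma r9 : (d1 R A).comp (dl R A) = (d2 R A).comp (dl R A) := by
  apply AlgHom.ext
  intro x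
  exact Coalgebra.coassoc_apply (R := R) x

end Maps

section Integral

variable {R : Type u} [CommRing R] {A : Type u} [CommRing A] [HopfAlgebra R A]

/-- integration over the second variable. -/
noncomputable def intR (I : A →ₗ[R] R) : A ⊗[R] A →ₗ[R] A :=
  (TensorProduct.rid R A).toLinearMap ∘ₗ LinearMap.lTensor A I

@[simp] lemma intR_tmul (I : A →ₗ[R] R) (x y : A) : intR I (x ⊗ₜ[R] y) = I y • x := by
  simp [intR]

/-- a normalised (left-)invariant integral. -/
structure IsInvInt (I : A →ₗ[R] R) : Prop where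
  one : I 1 = 1
  inv : ∀ a : A, intR I (Coalgebra.comul (R := R) a) = algebraMap R A (I a)

/-- integration over the third variable. -/
noncomputable def intL (I : A →ₗ[R] R) : A ⊗[R] (A ⊗[R] A) →ₗ[R] A ⊗[R] A :=
  LinearMap.lTensor A (intR I)

@[simp] lemma intL_tmul (I : A →ₗ[R] R) (x : A) (w : A ⊗[R] A) :
    intL I (x ⊗ₜ[R] w) = x ⊗ₜ[R] intR I w := rfl

variable {I : A →ₗ[R] R}

lemma L1 (hI : IsInvInt I) : intL I ∘ₗ (q12 R A).toLinearMap = LinearMap.id := by
  apply TensorProduct.ext'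
  intro x y
  simp [hI.one]

lemma L2_aux (z : A ⊗[R] A) (y : A) :
    intL I (Algebra.TensorProduct.assoc R R R A A A (z ⊗ₜ[R] y)) = I y • z := by
  induction z using TensorProduct.induction_on with
  | zero => simp
  | tmul a b => simp [TensorProduct.tmul_smul]
  | add x y hx hy => rw [TensorProduct.add_tmul, map_add, map_add, hx, hy, smul_add]

lemma L2 : intL I ∘ₗ (d1 R A).toLinearMap = (dl R A).toLinearMap ∘ₗ intR I := by
  apply TensorProduct.ext'
  intro x y
  simp only [LinearMap.comp_apply, AlgHom.toLinearMap_apply, AlgHom.comp_apply,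
    Algebra.TensorProduct.map_tmul, AlgHom.id_apply, intR_tmul, map_smul]
  exact L2_aux _ _

lemma L3 (hI : IsInvInt I) : intL I ∘ₗ (d2 R A).toLinearMap = (j1 R A).toLinearMap ∘ₗ intR I := by
  apply TensorProduct.ext'
  intro x y
  simp only [LinearMap.comp_apply, AlgHom.toLinearMap_apply,
    Algebra.TensorProduct.map_tmul, AlgHom.id_apply, intL_tmul, intR_tmul, map_smul,
    Bialgebra.comulAlgHom_apply, hI.inv, Algebra.TensorProduct.includeLeft_apply]
  rw [Algebra.algebraMap_eq_smul_one, TensorProduct.tmul_smul, TensorProduct.smul_tmul']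

lemma L4 : intL I ∘ₗ (q23 R A).toLinearMap = (j2 R A).toLinearMap ∘ₗ intR I := by
  apply TensorProduct.ext'
  intro x y
  simp only [LinearMap.comp_apply, AlgHom.toLinearMap_apply,
    Algebra.TensorProduct.includeRight_apply, intL_tmul, intR_tmul, map_smul,
    TensorProduct.tmul_smul]

lemma L5 (x : A) (t : A ⊗[R] (A ⊗[R] A)) : intL I (i1 R A x * t) = j1 R A x * intL I t := by
  induction t using TensorProduct.induction_on with
  | zero => simp
  | tmul a b => simp
  | add y z hy hz => rw [mul_add, map_add, hy, hz, map_add, mul_add]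

end Integral

section Core

variable {R : Type u} [CommRing R] {A : Type u} [CommRing A] [HopfAlgebra R A]
  {C : Type u} [CommRing C] [HopfAlgebra R C] {J : Ideal R} {I : A →ₗ[R] R}

lemma lift_eq_map (ψ : C →ₐ[R] A) (z : C ⊗[R] C) :
    Algebra.TensorProduct.lift ((j1 R A).comp ψ) ((j2 R A).comp ψ) (fun _ _ => Commute.all _ _) z =
      Algebra.TensorProduct.map ψ ψ z := by
  induction z using TensorProduct.induction_on with
  | zero => simp
  | tmul a b => simp
  | add x y hx hy => simp only [map_add, hx, hy]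

lemma push_mul_push (ψ : Pt R C A) (c : C) :
    (push (j1 R A) ψ * push (j2 R A) ψ) c =
      Algebra.TensorProduct.map ψ.ofConv ψ.ofConv (Coalgebra.comul (R := R) c) := by
  rw [AlgHom.convMul_apply]
  exact lift_eq_map ψ.ofConv _

theorem exists_comul_fix (hJ : J * J = ⊥) (hI : IsInvInt I) (ψ : Pt R C A)
    (hψ : ∀ c, Algebra.TensorProduct.map ψ.ofConv ψ.ofConv (Coalgebra.comul (R := R) c) -
      Coalgebra.comul (R := R) (ψ c) ∈ NJ J (A ⊗[R] A)) :
    ∃ ψ' : Pt R C A, push (j1 R A) ψ' * push (j2 R A) ψ' = push (dl R A) ψ' ∧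
      ∀ c, ψ' c - ψ c ∈ NJ J A := by
  have hN1 : NJ J A * NJ J A = ⊥ := NJ_sq A hJ
  have hN2 : NJ J (A ⊗[R] A) * NJ J (A ⊗[R] A) = ⊥ := NJ_sq _ hJ
  have hN3 : NJ J (A ⊗[R] (A ⊗[R] A)) * NJ J (A ⊗[R] (A ⊗[R] A)) = ⊥ := NJ_sq _ hJ
  set P1 := push (j1 R A) ψ with hP1
  set P2 := push (j2 R A) ψ with hP2
  set P12 := push (dl R A) ψ with hP12
  have hD : Cong (NJ J (A ⊗[R] A)) (P1 * P2 * P12⁻¹) := by
    apply Cong.of_sub_mem
    intro c
    rw [push_mul_push]
    exact hψ c
  set D := P1 * P2 * P12⁻¹ with hDdef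
  set E : Pt R C A := linPush hN2 hN1 (intR I) (fun x hx => lin_mem_NJ J _ hx) D hD with hEdef
  have hE : Cong (NJ J A) E := Cong.linPush hN2 hN1 _ _ D hD
  have hdE : dpart E = lcomp (intR I) (dpart D) := dpart_linPush hN2 hN1 _ _ D hD
  -- points over the triple product
  set a := push (i1 R A) ψ with ha
  set b := push (i2 R A) ψ with hb
  set c := push (i3 R A) ψ with hc
  set ab := push ((q12 R A).comp (dl R A)) ψ with hab
  set bc := push ((q23 R A).comp (dl R A)) ψ with hbc
  set abc := push ((d1 R A).comp (dl R A)) ψ with habc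
  have h1 : push (q12 R A) D = a * b * ab⁻¹ := by
    rw [hDdef, map_mul, map_mul, map_inv, hP1, hP2, hP12, push_push, push_push, push_push, r1, r2]
  have h2 : push (d1 R A) D = ab * c * abc⁻¹ := by
    rw [hDdef, map_mul, map_mul, map_inv, hP1, hP2, hP12, push_push, push_push, push_push, r5, r6]
  have h3 : push (q23 R A) D = b * c * bc⁻¹ := by
    rw [hDdef, map_mul, map_mul, map_inv, hP1, hP2, hP12, push_push, push_push, push_push, r3, r4]
  have h4 : push (d2 R A) D = a * bc * abc⁻¹ := by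
    rw [hDdef, map_mul, map_mul, map_inv, hP1, hP2, hP12, push_push, push_push, push_push, r7, r8,
      habc, r9]
  have key : push (q12 R A) D * push (d1 R A) D =
      (a * push (q23 R A) D * a⁻¹) * push (d2 R A) D := by
    rw [h1, h2, h3, h4]
    group
  have hpush : ∀ (h : A ⊗[R] A →ₐ[R] A ⊗[R] (A ⊗[R] A)),
      Cong (NJ J (A ⊗[R] (A ⊗[R] A))) (push h D) := fun h =>
    Cong.push h (fun x hx => lin_mem_NJ J h.toLinearMap hx) hD
  have key2 := congrArg dpart key
  rw [dpart_mul hN3 (hpush _) (hpush _), dpart_mul hN3 (Cong.conj a (hpush _)) (hpush _),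
    dpart_conj, dpart_push', dpart_push', dpart_push', dpart_push'] at key2
  have key3 := congrArg (lcomp (intL I)) key2
  have hainv : a⁻¹ = push (i1 R A) ψ⁻¹ := (map_inv (push (i1 R A)) ψ).symm
  rw [lcomp_add, lcomp_add, lcomp_lcomp, lcomp_lcomp, lcomp_lcomp, L1 hI, L2, L3 hI, hainv,
    lcomp_mul_right (intL I) (i1 R A) (j1 R A) L5, ha,
    lcomp_mul_left (intL I) (i1 R A) (j1 R A) L5, lcomp_lcomp, L4, lcomp_id,
    ← lcomp_lcomp, ← lcomp_lcomp, ← lcomp_lcomp, ← hdE, ← dpart_push', ← dpart_push',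
    ← dpart_push', map_inv, ← hP1, ← dpart_conj] at key3
  have hE1 : Cong (NJ J (A ⊗[R] A)) (push (j1 R A) E) :=
    Cong.push _ (fun x hx => lin_mem_NJ J (j1 R A).toLinearMap hx) hE
  have hE2 : Cong (NJ J (A ⊗[R] A)) (push (j2 R A) E) :=
    Cong.push _ (fun x hx => lin_mem_NJ J (j2 R A).toLinearMap hx) hE
  have hE12 : Cong (NJ J (A ⊗[R] A)) (push (dl R A) E) :=
    Cong.push _ (fun x hx => lin_mem_NJ J (dl R A).toLinearMap hx) hE
  rw [← dpart_mul hN2 hD hE12, ← dpart_mul hN2 (Cong.conj P1 hE2) hE1] at key3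
  have key4 := dpart_injective key3
  refine ⟨E⁻¹ * ψ, ?_, ?_⟩
  · have hDeq : D = P1 * push (j2 R A) E * P1⁻¹ * push (j1 R A) E * (push (dl R A) E)⁻¹ :=
      eq_mul_inv_of_mul_eq key4
    have hP2' : P2 = P1⁻¹ * D * P12 := by
      rw [hDdef]
      group
    simp only [map_mul, map_inv]
    rw [← hP1, ← hP2, ← hP12, hP2', hDeq]
    group
  · intro c
    apply sub_mem_of_cong
    have : E⁻¹ * ψ * ψ⁻¹ = E⁻¹ := by group
    rw [this]
    exact hE.inv

end Core

end Groth.Agent.Lib.Helper7.HH
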