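import Groth.Agent.Lib.Helper7.HH3
import Groth.Agent.Lib.Helper7.NilLift5

/-!
# Lifting homomorphisms along a square-zero extension (helper7)
-/

set_option autoImplicit false

namespace Groth.Agent.Lib.Helper7.HH

open TensorProduct WithConv

universe u

attribute [-instance] AlgHom.convInv AlgHom.convGroup

section Counit

variable {R : Type u} [CommRing R] {A : Type u} [CommRing A] [HopfAlgebra R A]
  {C : Type u} [CommRing C] [HopfAlgebra R C]

/-- `ε ⊗ ε : A ⊗ A → R`. -/
noncomputable abbrev epsm : A ⊗[R] A →ₐ[R] R :=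
  Algebra.TensorProduct.lift (Bialgebra.counitAlgHom R A) (Bialgebra.counitAlgHom R A)
    (fun _ _ => Commute.all _ _)

lemma epsm_eq (z : A ⊗[R] A) :
    epsm (R := R) (A := A) z = Coalgebra.counit (R := R)
      (TensorProduct.lid R A (LinearMap.rTensor A (Coalgebra.counit (R := R) (A := A)) z)) := by
  induction z using TensorProduct.induction_on with
  | zero => simp
  | tmul a b => simp
  | add x y hx hy => simp only [map_add, hx, hy]

lemma epsm_comp_dl : (epsm (R := R) (A := A)).comp (dl R A) = Bialgebra.counitAlgHom R A := by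
  apply AlgHom.ext
  intro x
  rw [AlgHom.comp_apply, epsm_eq, Bialgebra.comulAlgHom_apply, Coalgebra.rTensor_counit_comul]
  simp

lemma epsm_comp_j1 : (epsm (R := R) (A := A)).comp (j1 R A) = Bialgebra.counitAlgHom R A :=
  Algebra.TensorProduct.lift_comp_includeLeft _ _ (fun _ _ => Commute.all _ _)

lemma epsm_comp_j2 : (epsm (R := R) (A := A)).comp (j2 R A) = Bialgebra.counitAlgHom R A :=
  Algebra.TensorProduct.lift_comp_includeRight _ _ (fun _ _ => Commute.all _ _)

/-- a comultiplicative algebra map is a bialgebra map. -/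
lemma exists_bialgHom_of_mul (ψ : Pt R C A)
    (h : push (j1 R A) ψ * push (j2 R A) ψ = push (dl R A) ψ) :
    ∃ φ : C →ₐc[R] A, ∀ c, φ c = ψ c := by
  have hg : push (Bialgebra.counitAlgHom R A) ψ = 1 := by
    have h2 := congrArg (push (epsm (R := R) (A := A))) h
    rw [map_mul, push_push, push_push, push_push, epsm_comp_j1, epsm_comp_j2, epsm_comp_dl] at h2
    exact mul_left_cancel (h2.trans (mul_one _).symm)
  have hcounit : (Bialgebra.counitAlgHom R A).comp ψ.ofConv = Bialgebra.counitAlgHom R C := by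
    apply AlgHom.ext
    intro c
    have := congrArg (fun f : Pt R C R => f c) hg
    simp only [push_apply, one_apply] at this
    rw [AlgHom.comp_apply]
    exact this
  have hcomul : (Algebra.TensorProduct.map ψ.ofConv ψ.ofConv).comp (Bialgebra.comulAlgHom R C) =
      (Bialgebra.comulAlgHom R A).comp ψ.ofConv := by
    apply AlgHom.ext
    intro c
    have := congrArg (fun f : Pt R C (A ⊗[R] A) => f c) h
    simp only [push_mul_push, push_apply] at this
    rw [AlgHom.comp_apply, AlgHom.comp_apply]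
    exact this
  exact ⟨BialgHom.ofAlgHom ψ.ofConv hcounit hcomul, fun c => rfl⟩

end Counit

section Step

variable {R : Type u} [CommRing R] {k : Type u} [CommRing k] [Algebra R k]
  {A : Type u} [CommRing A] [HopfAlgebra R A] {C : Type u} [CommRing C] [HopfAlgebra R C]

lemma includeRight_surjective (hk : Function.Surjective (algebraMap R k)) :
    Function.Surjective (Algebra.TensorProduct.includeRight : A →ₐ[R] k ⊗[R] A) := by
  intro z
  induction z using TensorProduct.induction_on with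
  | zero => exact ⟨0, map_zero _⟩
  | tmul x a =>
    obtain ⟨r, rfl⟩ := hk x
    refine ⟨r • a, ?_⟩
    rw [Algebra.TensorProduct.includeRight_apply, TensorProduct.tmul_smul,
      TensorProduct.smul_tmul', Algebra.algebraMap_eq_smul_one]
  | add x y hx hy =>
    obtain ⟨a, rfl⟩ := hx
    obtain ⟨b, rfl⟩ := hy
    exact ⟨a + b, map_add _ _ _⟩

lemma mem_NJ_of_one_tmul_eq_zero (hk : Function.Surjective (algebraMap R k))
    {V : Type u} [CommRing V] [Algebra R V] {y : V} (hy : (1 : k) ⊗ₜ[R] y = 0) :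
    y ∈ NJ (RingHom.ker (algebraMap R k)) V := by
  have := Groth.Agent.Lib.Helper7.NilLift.mem_smul_top_of_one_tmul_eq_zero' hk hy
  rw [Ideal.smul_top_eq_map] at this
  exact this

lemma one_tmul_eq_zero_of_mem_NJ {V : Type u} [CommRing V] [Algebra R V] {y : V}
    (hy : y ∈ NJ (RingHom.ker (algebraMap R k)) V) : (1 : k) ⊗ₜ[R] y = 0 := by
  have h1 := lin_mem_NJ (RingHom.ker (algebraMap R k))
    (Algebra.TensorProduct.includeRight : V →ₐ[R] k ⊗[R] V).toLinearMap hy
  have h2 : NJ (RingHom.ker (algebraMap R k)) (k ⊗[R] V) = ⊥ := by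
    rw [eq_bot_iff, Ideal.map_le_iff_le_comap]
    intro r hr
    rw [RingHom.mem_ker] at hr
    rw [Ideal.mem_comap, Algebra.TensorProduct.algebraMap_apply, hr]
    simp
  rw [h2] at h1
  exact h1

variable (hk : Function.Surjective (algebraMap R k))
  (hJ : RingHom.ker (algebraMap R k) * RingHom.ker (algebraMap R k) = ⊥)

include hk hJ in
lemma ker_includeRight_nilpotent :
    IsNilpotent (RingHom.ker ((Algebra.TensorProduct.includeRight : A →ₐ[R] k ⊗[R] A) :
      A →+* k ⊗[R] A)) := by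
  refine ⟨2, ?_⟩
  rw [pow_two, Ideal.zero_eq_bot, eq_bot_iff, ← NJ_sq A hJ]
  apply Ideal.mul_mono
  · intro y hy
    exact mem_NJ_of_one_tmul_eq_zero hk hy
  · intro y hy
    exact mem_NJ_of_one_tmul_eq_zero hk hy

lemma distrib_map_map (φ' : (k ⊗[R] C) →ₐc[k] (k ⊗[R] A)) (ψ : C →ₐ[R] A)
    (hψ : ∀ c, (1 : k) ⊗ₜ[R] ψ c = φ' ((1 : k) ⊗ₜ[R] c)) (z : C ⊗[R] C) :
    AlgebraTensorModule.distribBaseChange R k A A
        ((1 : k) ⊗ₜ[R] Algebra.TensorProduct.map ψ ψ z) =
      TensorProduct.map (φ' : (k ⊗[R] C) →ₗ[k] (k ⊗[R] A)) (φ' : (k ⊗[R] C) →ₗ[k] (k ⊗[R] A))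
        (AlgebraTensorModule.distribBaseChange R k C C ((1 : k) ⊗ₜ[R] z)) := by
  induction z using TensorProduct.induction_on with
  | zero => simp
  | tmul a b =>
    rw [Algebra.TensorProduct.map_tmul, AlgebraTensorModule.distribBaseChange_tmul,
      AlgebraTensorModule.distribBaseChange_tmul, TensorProduct.map_tmul, hψ, hψ]
    rfl
  | add x y hx hy => simp only [map_add, TensorProduct.tmul_add, hx, hy]

include hk hJ in
theorem sqzero_step {I : A →ₗ[R] R} (hI : IsInvInt I) [Algebra.FormallySmooth R C]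
    (φ' : (k ⊗[R] C) →ₐc[k] (k ⊗[R] A)) :
    ∃ φ : C →ₐc[R] A, ∀ c : C, φ' ((1 : k) ⊗ₜ[R] c) = (1 : k) ⊗ₜ[R] φ c := by
  set g : A →ₐ[R] k ⊗[R] A := Algebra.TensorProduct.includeRight with hg
  set f : C →ₐ[R] k ⊗[R] A :=
    ((φ' : (k ⊗[R] C) →ₐ[k] (k ⊗[R] A)).restrictScalars R).comp
      Algebra.TensorProduct.includeRight with hf
  set ψ₀ : C →ₐ[R] A := Algebra.FormallySmooth.liftOfSurjective f g
    (includeRight_surjective hk) (ker_includeRight_nilpotent hk hJ) with hψ₀
  have h0 : ∀ c, (1 : k) ⊗ₜ[R] ψ₀ c = φ' ((1 : k) ⊗ₜ[R] c) := by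
    intro c
    have := Algebra.FormallySmooth.liftOfSurjective_apply f g
      (includeRight_surjective hk) (ker_includeRight_nilpotent hk hJ) c
    exact this
  have h1 : ∀ c, Algebra.TensorProduct.map ψ₀ ψ₀ (Coalgebra.comul (R := R) c) -
      Coalgebra.comul (R := R) (ψ₀ c) ∈ NJ (RingHom.ker (algebraMap R k)) (A ⊗[R] A) := by
    intro c
    apply mem_NJ_of_one_tmul_eq_zero hk
    apply (AlgebraTensorModule.distribBaseChange R k A A).injective
    rw [map_zero, TensorProduct.tmul_sub, map_sub, sub_eq_zero, distrib_map_map φ' ψ₀ h0]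
    have e1 := Groth.Agent.Lib.Helper7.NilLift.comul_eq_distrib (R := R) (A := A) (K := k)
      ((1 : k) ⊗ₜ[R] ψ₀ c)
    have e2 := Groth.Agent.Lib.Helper7.NilLift.comul_eq_distrib (R := R) (A := C) (K := k)
      ((1 : k) ⊗ₜ[R] c)
    rw [LinearMap.lTensor_tmul] at e1 e2
    rw [← e1, ← e2, h0]
    exact (CoalgHomClass.map_comp_comul_apply φ' _)
  obtain ⟨ψ', hm, hc⟩ := exists_comul_fix hJ hI (toConv ψ₀) h1
  obtain ⟨φ, hφ⟩ := exists_bialgHom_of_mul ψ' hm
  refine ⟨φ, fun c => ?_⟩
  rw [hφ, ← h0, ← sub_eq_zero, ← TensorProduct.tmul_sub]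
  have := one_tmul_eq_zero_of_mem_NJ (k := k) (hc c)
  rw [← neg_sub, TensorProduct.tmul_neg, neg_eq_zero]
  exact this

end Step

end Groth.Agent.Lib.Helper7.HH
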