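import Groth.Agent.Lib.Helper7.HH4
import Groth.Agent.Lib.Helper7.FamDesc5

/-!
# Invariant integrals on groups of multiplicative type (helper7)
-/

set_option autoImplicit false

namespace Groth.Agent.Lib.Helper7.HH

open TensorProduct

universe u

section Inv

variable {R : Type u} [CommRing R] {A : Type u} [CommRing A] [HopfAlgebra R A]
  {S : Type u} [CommRing S] [Algebra R S]

/-- right invariance of a functional with values in an algebra. -/
def RInv (l : A →ₗ[R] S) : Prop :=
  ∀ a : A, LinearMap.rTensor A l (Coalgebra.comul (R := R) a) = l a ⊗ₜ[R] (1 : A)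

/-- left invariance of a functional with values in an algebra. -/
def LInv (l : A →ₗ[R] S) : Prop :=
  ∀ a : A, LinearMap.rTensor A l (TensorProduct.comm R A A (Coalgebra.comul (R := R) a)) =
    l a ⊗ₜ[R] (1 : A)

/-- `s ⊗ a ↦ s * l a`. -/
noncomputable def mulL (l : A →ₗ[R] S) : S ⊗[R] A →ₗ[R] S :=
  LinearMap.mul' R S ∘ₗ LinearMap.lTensor S l

@[simp] lemma mulL_tmul (l : A →ₗ[R] S) (s : S) (a : A) : mulL l (s ⊗ₜ[R] a) = s * l a := by
  simp [mulL]

theorem eq_of_LInv_RInv {l l' : A →ₗ[R] S} (h1 : l 1 = 1) (h1' : l' 1 = 1) (hl : LInv l)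
    (hr : RInv l') : l = l' := by
  apply LinearMap.ext
  intro a
  have e1 : ∀ z : A ⊗[R] A, mulL l (LinearMap.rTensor A l' z) =
      mulL l' (LinearMap.rTensor A l (TensorProduct.comm R A A z)) := by
    intro z
    induction z using TensorProduct.induction_on with
    | zero => simp
    | tmul x y => simp [mul_comm]
    | add x y hx hy => simp only [map_add, hx, hy]
  have := e1 (Coalgebra.comul (R := R) a)
  rw [hr a, hl a, mulL_tmul, mulL_tmul, h1, h1', mul_one, mul_one] at this
  exact this.symm

lemma RInv.comp {S' : Type u} [CommRing S'] [Algebra R S'] (ρ : S →ₐ[R] S') {l : A →ₗ[R] S}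
    (h : RInv l) : RInv (ρ.toLinearMap ∘ₗ l) := by
  intro a
  rw [LinearMap.rTensor_comp, LinearMap.comp_apply, h a]
  rfl

lemma LInv.comp {S' : Type u} [CommRing S'] [Algebra R S'] (ρ : S →ₐ[R] S') {l : A →ₗ[R] S}
    (h : LInv l) : LInv (ρ.toLinearMap ∘ₗ l) := by
  intro a
  rw [LinearMap.rTensor_comp, LinearMap.comp_apply, h a]
  rfl

lemma intR_eq (I : A →ₗ[R] R) (z : A ⊗[R] A) :
    intR I z = TensorProduct.lid R A (LinearMap.rTensor A I (TensorProduct.comm R A A z)) := by
  induction z using TensorProduct.induction_on with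
  | zero => simp
  | tmul x y => simp
  | add x y hx hy => simp only [map_add, hx, hy]

lemma isInvInt_of_LInv {I : A →ₗ[R] R} (h1 : I 1 = 1) (h : LInv I) : IsInvInt I := by
  refine ⟨h1, fun a => ?_⟩
  rw [intR_eq, h a]
  simp [Algebra.algebraMap_eq_smul_one]

lemma LInv_of_isInvInt {I : A →ₗ[R] R} (h : IsInvInt I) : LInv I := by
  intro a
  apply (TensorProduct.lid R A).injective
  rw [← intR_eq, h.inv]
  simp [Algebra.algebraMap_eq_smul_one]

end Inv

section MonAlg

variable {S : Type u} [CommRing S] {M : Type u} [CommGroup M]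

/-- the coefficient of the neutral element. -/
noncomputable def c1 : MonoidAlgebra S M →ₗ[S] S :=
  Finsupp.lapply 1 ∘ₗ (MonoidAlgebra.coeffLinearEquiv S).toLinearMap

lemma c1_single (m : M) (s : S) [Decidable (m = 1)] :
    c1 (MonoidAlgebra.single m s) = if m = 1 then s else 0 := by
  simp [c1, Finsupp.single_apply]

lemma c1_one : c1 (1 : MonoidAlgebra S M) = 1 := by
  classical
  rw [MonoidAlgebra.one_def, c1_single, if_pos rfl]

lemma c1_rinv (y : MonoidAlgebra S M) :
    LinearMap.rTensor (MonoidAlgebra S M) (c1 (S := S) (M := M)) (Coalgebra.comul (R := S) y) =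
      c1 y ⊗ₜ[S] (1 : MonoidAlgebra S M) := by
  classical
  induction y using MonoidAlgebra.induction_linear with
  | zero => simp
  | add x y hx hy => rw [map_add, map_add, hx, hy, map_add, TensorProduct.add_tmul]
  | single m s =>
    rw [MonoidAlgebra.comul_single, CommSemiring.comul_apply, TensorProduct.map_tmul,
      LinearMap.rTensor_tmul, MonoidAlgebra.lsingle_apply, MonoidAlgebra.lsingle_apply,
      c1_single, c1_single]
    by_cases hm : m = 1
    · subst hm
      rw [if_pos rfl, if_pos rfl, MonoidAlgebra.one_def]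
      have : MonoidAlgebra.single (1 : M) s = s • MonoidAlgebra.single (1 : M) (1 : S) := by
        rw [MonoidAlgebra.smul_single, smul_eq_mul, mul_one]
      rw [this, TensorProduct.tmul_smul, TensorProduct.smul_tmul', smul_eq_mul, mul_one]
    · rw [if_neg hm, if_neg hm, TensorProduct.zero_tmul, TensorProduct.zero_tmul]

lemma c1_linv (y : MonoidAlgebra S M) :
    LinearMap.rTensor (MonoidAlgebra S M) (c1 (S := S) (M := M))
      (TensorProduct.comm S _ _ (Coalgebra.comul (R := S) y)) =
      c1 y ⊗ₜ[S] (1 : MonoidAlgebra S M) := by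
  classical
  induction y using MonoidAlgebra.induction_linear with
  | zero => simp
  | add x y hx hy => rw [map_add, map_add, map_add, hx, hy, map_add, TensorProduct.add_tmul]
  | single m s =>
    rw [MonoidAlgebra.comul_single, CommSemiring.comul_apply, TensorProduct.map_tmul,
      TensorProduct.comm_tmul, LinearMap.rTensor_tmul, MonoidAlgebra.lsingle_apply,
      MonoidAlgebra.lsingle_apply, c1_single]
    by_cases hm : m = 1
    · subst hm
      rw [if_pos rfl, MonoidAlgebra.one_def]
    · rw [if_neg hm, TensorProduct.zero_tmul, TensorProduct.zero_tmul]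

end MonAlg

section Diag

variable {R : Type u} [CommRing R] {A : Type u} [CommRing A] [HopfAlgebra R A]
  {S : Type u} [CommRing S] [Algebra R S] {M : Type u} [CommGroup M]
  (e : (S ⊗[R] A) ≃ₐc[S] MonoidAlgebra S M)

/-- the functional `a ↦ coefficient of 1 in e (1 ⊗ a)`. -/
noncomputable def lam : A →ₗ[R] S :=
  ((c1 (S := S) (M := M) ∘ₗ (e : (S ⊗[R] A) →ₗ[S] MonoidAlgebra S M)).restrictScalars R) ∘ₗ
    TensorProduct.mk R S A 1

lemma lam_apply (a : A) : lam e a = c1 (e ((1 : S) ⊗ₜ[R] a)) := rfl

lemma lam_one : lam e 1 = 1 := by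
  rw [lam_apply, ← Algebra.TensorProduct.one_def, map_one, c1_one]

lemma e_tmul (s : S) (a : A) : e (s ⊗ₜ[R] a) = s • e ((1 : S) ⊗ₜ[R] a) := by
  rw [← map_smul, TensorProduct.smul_tmul', smul_eq_mul, mul_one]

lemma lam_key (z : A ⊗[R] A) :
    e (LinearMap.rTensor A (lam e) z) =
      TensorProduct.lid S (MonoidAlgebra S M) (LinearMap.rTensor (MonoidAlgebra S M) c1
        (TensorProduct.map (e : (S ⊗[R] A) →ₗ[S] MonoidAlgebra S M)
          (e : (S ⊗[R] A) →ₗ[S] MonoidAlgebra S M)
          (AlgebraTensorModule.distribBaseChange R S A A ((1 : S) ⊗ₜ[R] z)))) := by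
  induction z using TensorProduct.induction_on with
  | zero => simp
  | tmul a b =>
    rw [LinearMap.rTensor_tmul, e_tmul, AlgebraTensorModule.distribBaseChange_tmul,
      TensorProduct.map_tmul, LinearMap.rTensor_tmul, TensorProduct.lid_tmul]
    rfl
  | add x y hx hy => simp only [map_add, TensorProduct.tmul_add, hx, hy]

lemma lam_key' (z : A ⊗[R] A) :
    e (LinearMap.rTensor A (lam e) (TensorProduct.comm R A A z)) =
      TensorProduct.lid S (MonoidAlgebra S M) (LinearMap.rTensor (MonoidAlgebra S M) c1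
        (TensorProduct.comm S _ _
        (TensorProduct.map (e : (S ⊗[R] A) →ₗ[S] MonoidAlgebra S M)
          (e : (S ⊗[R] A) →ₗ[S] MonoidAlgebra S M)
          (AlgebraTensorModule.distribBaseChange R S A A ((1 : S) ⊗ₜ[R] z))))) := by
  induction z using TensorProduct.induction_on with
  | zero => simp
  | tmul a b =>
    rw [TensorProduct.comm_tmul, LinearMap.rTensor_tmul, e_tmul,
      AlgebraTensorModule.distribBaseChange_tmul,
      TensorProduct.map_tmul, TensorProduct.comm_tmul, LinearMap.rTensor_tmul,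
      TensorProduct.lid_tmul]
    rfl
  | add x y hx hy => simp only [map_add, TensorProduct.tmul_add, hx, hy]

lemma map_e_comul (a : A) :
    TensorProduct.map (e : (S ⊗[R] A) →ₗ[S] MonoidAlgebra S M)
          (e : (S ⊗[R] A) →ₗ[S] MonoidAlgebra S M)
          (AlgebraTensorModule.distribBaseChange R S A A
            ((1 : S) ⊗ₜ[R] Coalgebra.comul (R := R) a)) =
      Coalgebra.comul (R := S) (e ((1 : S) ⊗ₜ[R] a)) := by
  have e1 := Groth.Agent.Lib.Helper7.NilLift.comul_eq_distrib (R := R) (A := A) (K := S)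
    ((1 : S) ⊗ₜ[R] a)
  rw [LinearMap.lTensor_tmul] at e1
  rw [← e1]
  exact (CoalgHomClass.map_comp_comul_apply e _)

lemma lam_rinv : RInv (lam e) := by
  intro a
  have hinj : Function.Injective (fun z : S ⊗[R] A => e z) := e.injective
  apply hinj
  change e _ = e _
  rw [lam_key, map_e_comul, c1_rinv, TensorProduct.lid_tmul, ← lam_apply]
  conv_rhs => rw [e_tmul, ← Algebra.TensorProduct.one_def, map_one]

lemma lam_linv : LInv (lam e) := by
  intro a
  have hinj : Function.Injective (fun z : S ⊗[R] A => e z) := e.injective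
  apply hinj
  change e _ = e _
  rw [lam_key', map_e_comul, c1_linv, TensorProduct.lid_tmul, ← lam_apply]
  conv_rhs => rw [e_tmul, ← Algebra.TensorProduct.one_def, map_one]

end Diag

end Groth.Agent.Lib.Helper7.HH
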