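import Groth.Agent.Lib.Helper7.HH7

/-!
# Vanishing of the first Hochschild obstruction: relative lifting of homomorphisms (helper7)
-/

set_option autoImplicit false

namespace Groth.Agent.Lib.Helper7.HH

open TensorProduct WithConv

universe u

attribute [-instance] AlgHom.convInv AlgHom.convGroup

section H1

variable {R : Type u} [CommRing R] {A : Type u} [CommRing A] [HopfAlgebra R A]
  {C : Type u} [CommRing C] [HopfAlgebra R C]

/-- a bialgebra map is a multiplicative point. -/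
lemma mul_of_bialgHom (φ : C →ₐc[R] A) :
    push (j1 R A) (toConv (φ : C →ₐ[R] A)) * push (j2 R A) (toConv (φ : C →ₐ[R] A)) =
      push (dl R A) (toConv (φ : C →ₐ[R] A)) := by
  apply WithConv.ext
  apply AlgHom.ext
  intro c
  change (push (j1 R A) (toConv (φ : C →ₐ[R] A)) * push (j2 R A) (toConv (φ : C →ₐ[R] A))) c =
    Coalgebra.comul (R := R) (φ c)
  rw [push_mul_push]
  exact (CoalgHomClass.map_comp_comul_apply φ c)

lemma push_ofId {T T' : Type u} [CommRing T] [Algebra R T] [CommRing T'] [Algebra R T']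
    (h : T →ₐ[R] T') (x : Pt R C R) :
    push h (push (Algebra.ofId R T) x) = push (Algebra.ofId R T') x := by
  rw [push_push]
  have : h.comp (Algebra.ofId R T) = Algebra.ofId R T' := by
    apply AlgHom.ext
    intro r
    simp [Algebra.ofId_apply]
  rw [this]

variable {I : A →ₗ[R] R}

lemma intR_j1_mul (x : A) (t : A ⊗[R] A) : intR I (j1 R A x * t) = (AlgHom.id R A) x * intR I t := by
  induction t using TensorProduct.induction_on with
  | zero => simp
  | tmul a b => simp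
  | add y z hy hz => rw [mul_add, map_add, hy, hz, map_add, mul_add]

lemma intR_comp_dl (hI : IsInvInt I) :
    intR I ∘ₗ (dl R A).toLinearMap = (Algebra.ofId R A).toLinearMap ∘ₗ I := by
  apply LinearMap.ext
  intro a
  rw [LinearMap.comp_apply, LinearMap.comp_apply, AlgHom.toLinearMap_apply,
    Bialgebra.comulAlgHom_apply, hI.inv]
  rfl

lemma intR_comp_j2 : intR I ∘ₗ (j2 R A).toLinearMap = (Algebra.ofId R A).toLinearMap ∘ₗ I := by
  apply LinearMap.ext
  intro a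
  simp [Algebra.ofId_apply, Algebra.algebraMap_eq_smul_one]

lemma intR_comp_j1 (hI : IsInvInt I) : intR I ∘ₗ (j1 R A).toLinearMap = LinearMap.id := by
  apply LinearMap.ext
  intro a
  simp [hI.one]

/-- two homomorphisms congruent modulo a square-zero ideal are conjugate by a point congruent
to `1`. -/
theorem exists_conj {J : Ideal R} (hJ : J * J = ⊥) (hI : IsInvInt I) (v v' : Pt R C A)
    (hv : push (j1 R A) v * push (j2 R A) v = push (dl R A) v)
    (hv' : push (j1 R A) v' * push (j2 R A) v' = push (dl R A) v')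
    (hc : ∀ c, v c - v' c ∈ NJ J A) :
    ∃ x : Pt R C R, Cong (NJ J R) x ∧
      v = push (Algebra.ofId R A) x * v' * (push (Algebra.ofId R A) x)⁻¹ := by
  have hN0 : NJ J R * NJ J R = ⊥ := NJ_sq R hJ
  have hN1 : NJ J A * NJ J A = ⊥ := NJ_sq A hJ
  have hN2 : NJ J (A ⊗[R] A) * NJ J (A ⊗[R] A) = ⊥ := NJ_sq _ hJ
  set z := v * v'⁻¹ with hz
  have hzc : Cong (NJ J A) z := Cong.of_sub_mem hc
  have hcoc : push (dl R A) z =
      (push (j1 R A) v * push (j2 R A) z * (push (j1 R A) v)⁻¹) * push (j1 R A) z := by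
    rw [hz, map_mul, map_inv, ← hv, ← hv', map_mul, map_mul, map_inv, map_inv]
    group
  have hpush : ∀ (h : A →ₐ[R] A ⊗[R] A), Cong (NJ J (A ⊗[R] A)) (push h z) := fun h =>
    Cong.push h (fun x hx => lin_mem_NJ J h.toLinearMap hx) hzc
  have k2 := congrArg dpart hcoc
  rw [dpart_mul hN2 (Cong.conj _ (hpush _)) (hpush _), dpart_conj, dpart_push', dpart_push',
    dpart_push'] at k2
  have k3 := congrArg (lcomp (intR I)) k2
  have hinv : (push (j1 R A) v)⁻¹ = push (j1 R A) v⁻¹ := (map_inv (push (j1 R A)) v).symm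
  have hid : ∀ p : Pt R C A, push (AlgHom.id R A) p = p := fun p => rfl
  rw [lcomp_add, lcomp_lcomp, lcomp_lcomp, intR_comp_dl hI, intR_comp_j1 hI, lcomp_id, hinv,
    lcomp_mul_right (intR I) (j1 R A) (AlgHom.id R A) intR_j1_mul,
    lcomp_mul_left (intR I) (j1 R A) (AlgHom.id R A) intR_j1_mul, lcomp_lcomp, intR_comp_j2,
    hid, hid] at k3
  set x : Pt R C R := linPush hN1 hN0 I (fun y hy => lin_mem_NJ J _ hy) z hzc with hx
  have hxc : Cong (NJ J R) x := Cong.linPush hN1 hN0 _ _ z hzc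
  have hdx : dpart x = lcomp I (dpart z) := dpart_linPush hN1 hN0 _ _ z hzc
  set xt := push (Algebra.ofId R A) x with hxt
  have hxtc : Cong (NJ J A) xt :=
    Cong.push _ (fun y hy => lin_mem_NJ J (Algebra.ofId R A).toLinearMap hy) hxc
  have hdxt : dpart xt = lcomp ((Algebra.ofId R A).toLinearMap ∘ₗ I) (dpart z) := by
    rw [hxt, dpart_push', hdx, lcomp_lcomp]
  rw [← hdxt, ← dpart_conj, ← dpart_mul hN1 (Cong.conj v hxtc) hzc] at k3
  have k4 := dpart_injective k3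
  refine ⟨x, hxc, ?_⟩
  rw [← hxt]
  have : z = (v * xt * v⁻¹)⁻¹ * xt := eq_inv_mul_of_mul_eq k4.symm
  rw [hz] at this
  have h2 : v'⁻¹ = v⁻¹ * ((v * xt * v⁻¹)⁻¹ * xt) := by
    rw [← this]
    group
  have h3 : v' = (v⁻¹ * ((v * xt * v⁻¹)⁻¹ * xt))⁻¹ := by
    rw [← h2, inv_inv]
  rw [h3]
  group

end H1

section Step2

variable {R : Type u} [CommRing R] {k : Type u} [CommRing k] [Algebra R k]
  {A₁ : Type u} [CommRing A₁] [HopfAlgebra R A₁] {A₂ : Type u} [CommRing A₂] [HopfAlgebra R A₂]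
  {C : Type u} [CommRing C] [HopfAlgebra R C]
  (hk : Function.Surjective (algebraMap R k))
  (hJ : RingHom.ker (algebraMap R k) * RingHom.ker (algebraMap R k) = ⊥)

include hk hJ in
theorem sqzero_step2 {I₁ : A₁ →ₗ[R] R} (hI₁ : IsInvInt I₁) {I₂ : A₂ →ₗ[R] R} (hI₂ : IsInvInt I₂)
    [Algebra.FormallySmooth R C] (α : A₂ →ₐc[R] A₁) (β : C →ₐc[R] A₁)
    (γ' : (k ⊗[R] C) →ₐc[k] (k ⊗[R] A₂))
    (h0 : ∀ c : C, Algebra.TensorProduct.map (AlgHom.id k k) (α : A₂ →ₐ[R] A₁)
      (γ' ((1 : k) ⊗ₜ[R] c)) = (1 : k) ⊗ₜ[R] β c) :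
    ∃ γ : C →ₐc[R] A₂, (∀ c : C, γ' ((1 : k) ⊗ₜ[R] c) = (1 : k) ⊗ₜ[R] γ c) ∧
      ∀ c : C, α (γ c) = β c := by
  obtain ⟨γ₁, hγ₁⟩ := sqzero_step hk hJ hI₂ γ'
  set J := RingHom.ker (algebraMap R k) with hJdef
  have hN2 : NJ J A₂ * NJ J A₂ = ⊥ := NJ_sq A₂ hJ
  set v : Pt R C A₁ := toConv (β : C →ₐ[R] A₁) with hvdef
  set v' : Pt R C A₁ := toConv ((α.comp γ₁ : C →ₐc[R] A₁) : C →ₐ[R] A₁) with hv'def
  have hv := mul_of_bialgHom β
  have hv' := mul_of_bialgHom (α.comp γ₁)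
  have hc : ∀ c, v c - v' c ∈ NJ J A₁ := by
    intro c
    apply mem_NJ_of_one_tmul_eq_zero hk
    have e1 : v c = β c := rfl
    have e2 : v' c = α (γ₁ c) := rfl
    rw [e1, e2, TensorProduct.tmul_sub, ← h0 c, hγ₁ c, Algebra.TensorProduct.map_tmul,
      AlgHom.id_apply]
    exact sub_self _
  obtain ⟨x, hxc, hx⟩ := exists_conj hJ hI₁ v v' hv hv' hc
  set g : Pt R C A₂ := toConv (γ₁ : C →ₐ[R] A₂) with hg
  set y : Pt R C A₂ := push (Algebra.ofId R A₂) x with hy
  have hyc : Cong (NJ J A₂) y :=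
    Cong.push _ (fun t ht => lin_mem_NJ J (Algebra.ofId R A₂).toLinearMap ht) hxc
  set w : Pt R C A₂ := y * g * y⁻¹ with hw
  have hgm : push (j1 R A₂) g * push (j2 R A₂) g = push (dl R A₂) g := mul_of_bialgHom γ₁
  have hwm : push (j1 R A₂) w * push (j2 R A₂) w = push (dl R A₂) w := by
    rw [hw, map_mul, map_mul, map_mul, map_mul, map_mul, map_mul, map_inv, map_inv, map_inv, hy,
      push_ofId, push_ofId, push_ofId, ← hgm]
    group
  obtain ⟨γ, hγ⟩ := exists_bialgHom_of_mul w hwm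
  refine ⟨γ, fun c => ?_, fun c => ?_⟩
  · rw [hγ₁ c, hγ, ← sub_eq_zero, ← TensorProduct.tmul_sub, ← neg_sub, TensorProduct.tmul_neg,
      neg_eq_zero]
    apply one_tmul_eq_zero_of_mem_NJ
    have e1 : γ₁ c = g c := rfl
    rw [e1]
    apply sub_mem_of_cong
    have e2 : w * g⁻¹ = y * (g * y * g⁻¹)⁻¹ := by
      rw [hw]
      group
    rw [e2]
    exact Cong.mul hN2 hyc (Cong.conj g hyc).inv
  · rw [hγ]
    have e1 : α (w c) = push (α : A₂ →ₐ[R] A₁) w c := rfl
    have e2 : push (α : A₂ →ₐ[R] A₁) g = v' := rfl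
    rw [e1, hw, map_mul, map_mul, map_inv, hy, push_ofId, e2, ← hx]
    rfl

end Step2

end Groth.Agent.Lib.Helper7.HH
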