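import Groth.Agent.Lib.Helper7.HopfModLR

/-!
# Invariant ideals in comodule algebras: ideals generated by invariants, colon ideals (helper7)
-/

universe u v v' w w' w''

open TensorProduct

namespace Groth.Agent.Lib.Helper7.Comod

open HopfRep

section IdealTensor

variable {k : Type u} [CommRing k] {A : Type v} [CommRing A] [Algebra k A]
variable {R : Type w} [CommRing R] [Algebra k R]

/-- `J ⊗ A` is stable under multiplication by `R ⊗ A`. -/
lemma mul_mem_range_rTensor_ideal (J : Ideal R) (t : R ⊗[k] A) {w : R ⊗[k] A}
    (hw : w ∈ LinearMap.range ((J.restrictScalars k).subtype.rTensor A)) :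
    t * w ∈ LinearMap.range ((J.restrictScalars k).subtype.rTensor A) := by
  obtain ⟨z, rfl⟩ := hw
  induction z using TensorProduct.induction_on with
  | zero => simp
  | tmul u c =>
    induction t using TensorProduct.induction_on with
    | zero => simp
    | tmul r a =>
      rw [LinearMap.rTensor_tmul, Algebra.TensorProduct.tmul_mul_tmul]
      exact tmul_mem_range_rTensor (W := J.restrictScalars k) (J.mul_mem_left r u.2) _
    | add s t hs ht =>
      rw [add_mul]
      exact Submodule.add_mem _ hs ht
  | add y z hy hz =>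
    rw [map_add, mul_add]
    exact Submodule.add_mem _ hy hz

end IdealTensor

section SpanInv

variable {k : Type u} [CommRing k] {A : Type v} [CommRing A] [Bialgebra k A]
variable {R : Type w} [CommRing R] [Algebra k R] [Comod k A R] [GLin.IsCoactAlg k A R]

/-- An ideal generated by a set whose elements have coaction in `J ⊗ A` is a subcomodule. -/
theorem isSubcomod_ideal_span {S : Set R}
    (hS : ∀ x ∈ S, Comod.coact (k := k) (A := A) x ∈
      LinearMap.range (((Ideal.span S).restrictScalars k).subtype.rTensor A)) :
    IsSubcomod (k := k) (A := A) ((Ideal.span S).restrictScalars k) := by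
  intro x hx
  change x ∈ Ideal.span S at hx
  refine Submodule.span_induction (p := fun x _ => Comod.coact (k := k) (A := A) x ∈
      LinearMap.range (((Ideal.span S).restrictScalars k).subtype.rTensor A)) ?_ ?_ ?_ ?_ hx
  · exact hS
  · simp
  · intro x y _ _ hx hy
    rw [map_add]
    exact Submodule.add_mem _ hx hy
  · intro r x _ hx
    rw [smul_eq_mul, GLin.IsCoactAlg.coact_mul]
    exact mul_mem_range_rTensor_ideal _ _ hx

/-- An ideal generated by invariants is a subcomodule. -/
theorem isSubcomod_ideal_span_of_invariants {S : Set R}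
    (hS : ∀ x ∈ S, x ∈ GLin.invariants k A R) :
    IsSubcomod (k := k) (A := A) ((Ideal.span S).restrictScalars k) := by
  apply isSubcomod_ideal_span
  intro x hx
  rw [(GLin.mem_invariants_iff k A R x).1 (hS x hx)]
  exact tmul_mem_range_rTensor (W := (Ideal.span S).restrictScalars k) (Ideal.subset_span hx) _

end SpanInv

section Colon

variable {k : Type u} [Field k] {A : Type v} [CommRing A] [HopfAlgebra k A]
variable {R : Type w} [CommRing R] [Algebra k R] [Comod k A R] [GLin.IsCoactAlg k A R]

omit [GLin.IsCoactAlg k A R] [Comod k A R] in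
lemma rmul_rTensor_subtype (W : Submodule k R) (a : A) (z : W ⊗[k] A) :
    rmul R a (W.subtype.rTensor A z) = W.subtype.rTensor A (rmul W a z) := by
  induction z using TensorProduct.induction_on with
  | zero => simp
  | tmul u c => simp
  | add y z hy hz => simp only [map_add, hy, hz]

omit [GLin.IsCoactAlg k A R] [Comod k A R] in
lemma rmul_eq_mul (a : A) (x : R ⊗[k] A) : rmul R a x = x * ((1 : R) ⊗ₜ[k] a) := by
  induction x using TensorProduct.induction_on with
  | zero => simp
  | tmul u c => simp [Algebra.TensorProduct.tmul_mul_tmul]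
  | add y z hy hz => simp only [map_add, hy, hz, add_mul]

omit [GLin.IsCoactAlg k A R] [Comod k A R] in
lemma contr_mul_tmul_one (φ : A →ₗ[k] k) (x : R ⊗[k] A) (y : R) :
    contr R φ (x * (y ⊗ₜ[k] (1 : A))) = contr R φ x * y := by
  induction x using TensorProduct.induction_on with
  | zero => simp
  | tmul u c => simp [Algebra.TensorProduct.tmul_mul_tmul]
  | add y z hy hz => simp only [map_add, hy, hz, add_mul]

/-- `ρ(b) (y ⊗ 1) ∈ J ⊗ A` whenever `b I ⊆ J`, `y ∈ I`, with `I`, `J` invariant ideals. -/
theorem coact_mul_tmul_one_mem (I J : Ideal R)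
    (hI : IsSubcomod (k := k) (A := A) (I.restrictScalars k))
    (hJ : IsSubcomod (k := k) (A := A) (J.restrictScalars k))
    {b : R} (hb : ∀ y ∈ I, b * y ∈ J) {y : R} (hy : y ∈ I) :
    Comod.coact (k := k) (A := A) b * (y ⊗ₜ[k] (1 : A)) ∈
      LinearMap.range ((J.restrictScalars k).subtype.rTensor A) := by
  -- `y ⊗ 1 = θ (θ' (y ⊗ 1))` with `θ' (y ⊗ 1) ∈ I ⊗ A`
  obtain ⟨z₀, hz₀⟩ := hI y hy
  have h1 : tw R (HopfAlgebra.antipode k (A := A)) (y ⊗ₜ[k] (1 : A)) =
      (I.restrictScalars k).subtype.rTensor A
        ((HopfAlgebra.antipode k (A := A)).lTensor _ z₀) := by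
    rw [tw_tmul, rmul_one, ← hz₀]
    generalize z₀ = z
    induction z using TensorProduct.induction_on with
    | zero => simp
    | tmul u c => simp
    | add y z hy hz => simp only [map_add, hy, hz]
  have key : ∀ z : (I.restrictScalars k : Submodule k R) ⊗[k] A,
      Comod.coact (k := k) (A := A) b *
        tw R LinearMap.id ((I.restrictScalars k).subtype.rTensor A z) ∈
      LinearMap.range ((J.restrictScalars k).subtype.rTensor A) := by
    intro z
    induction z using TensorProduct.induction_on with
    | zero => simp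
    | tmul u a =>
      rw [LinearMap.rTensor_tmul, tw_tmul, LinearMap.lTensor_id, LinearMap.id_apply, rmul_eq_mul,
        ← mul_assoc, Submodule.subtype_apply, ← GLin.IsCoactAlg.coact_mul, mul_comm]
      exact mul_mem_range_rTensor_ideal J _ (hJ _ (hb _ u.2))
    | add y z hy hz =>
      rw [map_add, map_add, mul_add]
      exact Submodule.add_mem _ hy hz
  have := key ((HopfAlgebra.antipode k (A := A)).lTensor _ z₀)
  rwa [← h1, tw_id_tw_antipode] at this

/-- The colon ideal `(J : I)` of invariant ideals is invariant. -/
theorem isSubcomod_colon (I J : Ideal R)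
    (hI : IsSubcomod (k := k) (A := A) (I.restrictScalars k))
    (hJ : IsSubcomod (k := k) (A := A) (J.restrictScalars k))
    (C : Ideal R) (hC : ∀ b, b ∈ C ↔ ∀ y ∈ I, b * y ∈ J) :
    IsSubcomod (k := k) (A := A) (C.restrictScalars k) := by
  intro b hb
  rw [mem_range_rTensor_iff_contr]
  intro φ
  change contr R φ _ ∈ C
  rw [hC]
  intro y hy
  rw [← contr_mul_tmul_one]
  have h := coact_mul_tmul_one_mem I J hI hJ ((hC b).1 hb) hy
  exact (mem_range_rTensor_iff_contr (J.restrictScalars k) _).1 h φ

end Colon

end Groth.Agent.Lib.Helper7.Comod
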