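import Groth.Agent.Lib.Helper7.ComodExtSimple

/-!
# The cotangent space of a Hopf algebra at the identity: invariant derivations and the graded pieces `I^n/I^(n+1)` (helper7)
-/

universe u v

open TensorProduct

namespace Groth.Agent.Lib.Helper7.HopfCot

open HopfRep Groth.Agent.Lib.Helper7.Comod

section Setup

variable {k : Type u} [Field k] {A : Type v} [CommRing A] [Bialgebra k A]

/-- the augmentation ideal. -/
abbrev augI (k : Type u) [Field k] (A : Type v) [CommRing A] [Bialgebra k A] : Ideal A :=
  RingHom.ker (Bialgebra.counitAlgHom k A)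

lemma mem_augI (a : A) : a ∈ augI k A ↔ Coalgebra.counit (R := k) a = 0 := by
  rw [RingHom.mem_ker]; rfl

/-- the projection `a ↦ a - ε(a)` to the augmentation ideal. -/
noncomputable def proj : A →ₗ[k] augI k A where
  toFun a := ⟨a - algebraMap k A (Coalgebra.counit (R := k) a), by
    rw [mem_augI, map_sub, Bialgebra.counit_algebraMap, sub_self]⟩
  map_add' a b := by
    apply Subtype.ext
    simp only [map_add, Submodule.coe_add]
    ring
  map_smul' c a := by
    apply Subtype.ext
    change c • a - algebraMap k A (Coalgebra.counit (R := k) (c • a)) =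
      c • (a - algebraMap k A (Coalgebra.counit (R := k) a))
    rw [map_smul, smul_sub, smul_eq_mul, map_mul, Algebra.smul_def c (algebraMap k A _)]

lemma proj_coe (a : A) : ((proj a : augI k A) : A) = a - algebraMap k A (Coalgebra.counit (R := k) a) := rfl

/-- A functional on the cotangent space gives an `ε`-derivation `A → k`. -/
noncomputable def dOf (l : (augI k A).Cotangent →ₗ[k] k) : A →ₗ[k] k :=
  l ∘ₗ ((augI k A).toCotangent.restrictScalars k) ∘ₗ proj

lemma dOf_apply (l : (augI k A).Cotangent →ₗ[k] k) (a : A) :
    dOf l a = l ((augI k A).toCotangent (proj a)) := rfl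

lemma dOf_of_mem (l : (augI k A).Cotangent →ₗ[k] k) {a : A} (ha : a ∈ augI k A) :
    dOf l a = l ((augI k A).toCotangent ⟨a, ha⟩) := by
  rw [dOf_apply]
  congr 2
  apply Subtype.ext
  rw [proj_coe, (mem_augI a).1 ha, map_zero, sub_zero]

lemma dOf_one (l : (augI k A).Cotangent →ₗ[k] k) : dOf l (1 : A) = 0 := by
  rw [dOf_apply]
  have : (proj (1 : A) : augI k A) = 0 := by
    apply Subtype.ext
    rw [proj_coe, Bialgebra.counit_one, map_one, sub_self]
    rfl
  rw [this, map_zero, map_zero]

lemma dOf_of_mem_sq (l : (augI k A).Cotangent →ₗ[k] k) {a : A} (ha : a ∈ augI k A ^ 2) :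
    dOf l a = 0 := by
  have ha' : a ∈ augI k A := Ideal.pow_le_self two_ne_zero ha
  rw [dOf_of_mem l ha', ((augI k A).toCotangent_eq_zero ⟨a, ha'⟩).2 ha, map_zero]

lemma dOf_mul (l : (augI k A).Cotangent →ₗ[k] k) (a b : A) :
    dOf l (a * b) = Coalgebra.counit (R := k) a * dOf l b + dOf l a * Coalgebra.counit (R := k) b := by
  set ea := Coalgebra.counit (R := k) a
  set eb := Coalgebra.counit (R := k) b
  have h : a * b = ((proj a : augI k A) : A) * ((proj b : augI k A) : A) + ea • b + eb • a
      - (ea * eb) • (1 : A) := by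
    rw [proj_coe, proj_coe, Algebra.smul_def, Algebra.smul_def, Algebra.smul_def, map_mul]
    ring
  rw [h, map_sub, map_add, map_add, map_smul, map_smul, map_smul, dOf_one,
    dOf_of_mem_sq l (by rw [pow_two]; exact Ideal.mul_mem_mul (proj a).2 (proj b).2)]
  simp only [smul_eq_mul, mul_zero, sub_zero, zero_add]
  ring

end Setup

section Deriv

variable {k : Type u} [Field k] {A : Type v} [CommRing A] [Bialgebra k A]

/-- the invariant derivation attached to a cotangent functional. -/
noncomputable def DOf (l : (augI k A).Cotangent →ₗ[k] k) : A →ₗ[k] A :=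
  contr A (dOf l) ∘ₗ Coalgebra.comul (R := k)

lemma DOf_apply (l : (augI k A).Cotangent →ₗ[k] k) (a : A) :
    DOf l a = contr A (dOf l) (Coalgebra.comul (R := k) a) := rfl

lemma contr_mul (l : (augI k A).Cotangent →ₗ[k] k) (y z : A ⊗[k] A) :
    contr A (dOf l) (y * z) =
      contr A (Coalgebra.counit (R := k)) y * contr A (dOf l) z +
        contr A (dOf l) y * contr A (Coalgebra.counit (R := k)) z := by
  induction y using TensorProduct.induction_on with
  | zero => simp
  | add y y' hy hy' => simp only [add_mul, map_add, hy, hy']; ring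
  | tmul a a' =>
    induction z using TensorProduct.induction_on with
    | zero => simp
    | add z z' hz hz' => simp only [mul_add, map_add, hz, hz']; ring
    | tmul b b' =>
      rw [Algebra.TensorProduct.tmul_mul_tmul, contr_tmul, contr_tmul, contr_tmul, contr_tmul,
        contr_tmul, dOf_mul]
      simp only [Algebra.smul_def, map_mul, map_add]
      ring

lemma contr_counit_comul (a : A) :
    contr A (Coalgebra.counit (R := k)) (Coalgebra.comul (R := k) a) = a := by
  have h := Coalgebra.lTensor_counit_comul (R := k) a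
  unfold contr
  rw [LinearMap.comp_apply, h]
  simp

lemma DOf_mul (l : (augI k A).Cotangent →ₗ[k] k) (a b : A) :
    DOf l (a * b) = a * DOf l b + DOf l a * b := by
  rw [DOf_apply, Bialgebra.comul_mul, contr_mul, contr_counit_comul, contr_counit_comul]
  rfl

lemma DOf_one (l : (augI k A).Cotangent →ₗ[k] k) : DOf l (1 : A) = 0 := by
  rw [DOf_apply, Bialgebra.comul_one, Algebra.TensorProduct.one_def, contr_tmul, dOf_one, zero_smul]

lemma counit_DOf (l : (augI k A).Cotangent →ₗ[k] k) (a : A) :
    Coalgebra.counit (R := k) (DOf l a) = dOf l a := by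
  rw [DOf_apply]
  have h : ∀ y : A ⊗[k] A, Coalgebra.counit (R := k) (contr A (dOf l) y) =
      dOf l (TensorProduct.lid k A ((Coalgebra.counit (R := k)).rTensor A y)) := by
    intro y
    induction y using TensorProduct.induction_on with
    | zero => simp
    | add y z hy hz => simp only [map_add, hy, hz]
    | tmul b c => simp [mul_comm]
  rw [h, Coalgebra.rTensor_counit_comul]
  simp

lemma DOf_mem_pow (l : (augI k A).Cotangent →ₗ[k] k) (m : ℕ) :
    ∀ a ∈ augI k A ^ (m + 1), DOf l a ∈ augI k A ^ m := by
  induction m with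
  | zero =>
    intro a _
    rw [pow_zero, Ideal.one_eq_top]
    trivial
  | succ m ih =>
    intro a ha
    rw [pow_succ'] at ha
    refine Submodule.mul_induction_on ha ?_ ?_
    · intro x hx y hy
      rw [DOf_mul]
      refine Ideal.add_mem _ ?_ ?_
      · rw [pow_succ']
        exact Ideal.mul_mem_mul hx (ih y hy)
      · exact Ideal.mul_mem_left _ _ hy
    · intro x y hx hy
      rw [map_add]
      exact Ideal.add_mem _ hx hy

end Deriv

section Poly

variable {k : Type u} [Field k] {A : Type v} [CommRing A] [Algebra k A]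
  {ι : Type} [Fintype ι]

/-- chain rule for a `k`-linear derivation of `A` along `aeval x`. -/
lemma chain_rule (D : A →ₗ[k] A) (hD : ∀ a b, D (a * b) = a * D b + D a * b) (x : ι → A)
    (P : MvPolynomial ι k) :
    D (MvPolynomial.aeval x P) =
      ∑ j, MvPolynomial.aeval x (MvPolynomial.pderiv j P) * D (x j) := by
  have hD1 : D 1 = 0 := by
    have := hD 1 1
    simp only [mul_one, one_mul] at this
    have h2 : D 1 + D 1 = D 1 + 0 := by rw [add_zero]; exact this.symm
    exact add_left_cancel h2
  induction P using MvPolynomial.induction_on with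
  | C c =>
    simp only [MvPolynomial.aeval_C, MvPolynomial.pderiv_C, map_zero, zero_mul,
      Finset.sum_const_zero]
    rw [Algebra.algebraMap_eq_smul_one, map_smul, hD1, smul_zero]
  | add p q hp hq =>
    simp only [map_add, hp, hq, add_mul, Finset.sum_add_distrib]
  | mul_X p l hp =>
    classical
    rw [map_mul, MvPolynomial.aeval_X, hD, hp]
    simp only [MvPolynomial.pderiv_mul, MvPolynomial.pderiv_X, map_add, map_mul,
      MvPolynomial.aeval_X, add_mul, Finset.sum_add_distrib, Finset.sum_mul]
    rw [add_comm]
    congr 1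
    · apply Finset.sum_congr rfl
      intro j _
      ring
    · rw [Finset.sum_eq_single l]
      · simp
      · intro j _ hj
        simp [Pi.single_apply, hj.symm]
      · intro h; exact absurd (Finset.mem_univ l) h

lemma aeval_mem_pow_of_isHomogeneous {I : Ideal A} {x : ι → A} (hx : ∀ i, x i ∈ I)
    {P : MvPolynomial ι k} {m : ℕ} (hP : P.IsHomogeneous m) :
    MvPolynomial.aeval x P ∈ I ^ m := by
  rw [P.as_sum, map_sum]
  refine Ideal.sum_mem _ (fun β hβ => ?_)
  rw [MvPolynomial.aeval_monomial]
  refine Ideal.mul_mem_left _ _ ?_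
  have hdeg : β.degree = m := by
    rw [Finsupp.degree_eq_weight_one]
    exact hP (MvPolynomial.mem_support_iff.1 hβ)
  rw [← hdeg, Finsupp.prod, Finsupp.degree_apply, ← Finset.prod_pow_eq_pow_sum]
  exact Ideal.prod_mem_prod (fun i _ => Ideal.pow_mem_pow (hx i) _)

end Poly

section Key

variable {k : Type u} [Field k] {A : Type v} [CommRing A] [Bialgebra k A]
  {ι : Type} [Fintype ι]

/-- Key lemma (Waterhouse 11.3): monomials of degree `n` in lifts of a basis of `I/I²` are linearly
independent modulo `I^(n+1)` when `n!` is invertible. -/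
theorem eq_zero_of_aeval_mem (b : Module.Basis ι k (augI k A).Cotangent) (x : ι → A)
    (hxI : ∀ i, x i ∈ augI k A) (hxb : ∀ i, (augI k A).toCotangent ⟨x i, hxI i⟩ = b i) (n : ℕ) :
    ((n.factorial : ℕ) : k) ≠ 0 → ∀ P : MvPolynomial ι k, P.IsHomogeneous n →
      MvPolynomial.aeval x P ∈ augI k A ^ (n + 1) → P = 0 := by
  classical
  induction n with
  | zero =>
    intro _ P hP hmem
    rw [← MvPolynomial.totalDegree_zero_iff_isHomogeneous,
      MvPolynomial.totalDegree_eq_zero_iff_eq_C] at hP
    rw [hP, MvPolynomial.aeval_C, zero_add, pow_one, mem_augI, Bialgebra.counit_algebraMap] at hmem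
    rw [hP]
    change MvPolynomial.C (MvPolynomial.coeff 0 P) = 0
    rw [show MvPolynomial.coeff 0 P = 0 from hmem, map_zero]
  | succ n ih =>
    intro hfac P hP hmem
    have hfac' : ((n.factorial : ℕ) : k) ≠ 0 := by
      intro h
      apply hfac
      rw [Nat.factorial_succ, Nat.cast_mul, h, mul_zero]
    have hn1 : ((n + 1 : ℕ) : k) ≠ 0 := by
      intro h
      apply hfac
      rw [Nat.factorial_succ, Nat.cast_mul, h, zero_mul]
    -- all partial derivatives vanish
    have hpd : ∀ i, MvPolynomial.pderiv i P = 0 := by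
      intro i
      apply ih hfac' _ (by simpa using hP.pderiv (i := i))
      -- `aeval (∂_i P) = D_i (aeval P) - Σ_j aeval (∂_j P) * u_ij`
      have hch := chain_rule (DOf (b.coord i)) (DOf_mul (b.coord i)) x P
      have hu : ∀ j, DOf (b.coord i) (x j) - (if i = j then 1 else 0) ∈ augI k A := by
        intro j
        rw [mem_augI, map_sub, counit_DOf, dOf_of_mem _ (hxI j), hxb j, Module.Basis.coord_apply,
          Module.Basis.repr_self, Finsupp.single_apply]
        by_cases hij : i = j
        · simp [hij]
        · simp [hij, Ne.symm hij]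
      have e : MvPolynomial.aeval x (MvPolynomial.pderiv i P) =
          DOf (b.coord i) (MvPolynomial.aeval x P) -
            ∑ j, MvPolynomial.aeval x (MvPolynomial.pderiv j P) *
              (DOf (b.coord i) (x j) - (if i = j then 1 else 0)) := by
        rw [hch]
        simp only [mul_sub, Finset.sum_sub_distrib, mul_ite, mul_one, mul_zero,
          Finset.sum_ite_eq, Finset.mem_univ, if_true]
        ring
      rw [e]
      refine Ideal.sub_mem _ (DOf_mem_pow _ _ _ hmem) (Ideal.sum_mem _ (fun j _ => ?_))
      rw [pow_succ]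
      refine Ideal.mul_mem_mul ?_ (hu j)
      have := aeval_mem_pow_of_isHomogeneous (I := augI k A) hxI (hP.pderiv (i := j))
      simpa using this
    have heuler := hP.sum_X_mul_pderiv
    simp only [hpd, mul_zero, Finset.sum_const_zero] at heuler
    have h2 : ((n + 1 : ℕ) : k) • P = 0 := by
      rw [Nat.cast_smul_eq_nsmul]
      exact heuler.symm
    rcases smul_eq_zero.1 h2 with h | h
    · exact absurd h hn1
    · exact h

end Key

section Span

variable {k : Type u} [Field k] {A : Type v} [CommRing A] [Bialgebra k A]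
  {ι : Type} [Fintype ι]

/-- the `k`-span of the degree `n` monomials in `x`. -/
noncomputable def Hn (x : ι → A) (n : ℕ) : Submodule k A :=
  (MvPolynomial.homogeneousSubmodule ι k n).map (MvPolynomial.aeval x).toLinearMap

lemma pow_le_Hn_sup (b : Module.Basis ι k (augI k A).Cotangent) (x : ι → A)
    (hxI : ∀ i, x i ∈ augI k A) (hxb : ∀ i, (augI k A).toCotangent ⟨x i, hxI i⟩ = b i) (n : ℕ) :
    (augI k A ^ n).restrictScalars k ≤ Hn x n ⊔ (augI k A ^ (n + 1)).restrictScalars k := by
  induction n with
  | zero =>
    intro a _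
    have e : a = algebraMap k A (Coalgebra.counit (R := k) a) +
        (a - algebraMap k A (Coalgebra.counit (R := k) a)) := by ring
    rw [e]
    refine Submodule.add_mem_sup ?_ ?_
    · refine ⟨MvPolynomial.C (Coalgebra.counit (R := k) a), ?_, ?_⟩
      · exact MvPolynomial.isHomogeneous_C _ _
      · simp
    · change _ ∈ augI k A ^ (0 + 1)
      rw [zero_add, pow_one]
      exact (proj a).2
  | succ n ih =>
    intro a ha
    change a ∈ augI k A ^ (n + 1) at ha
    rw [pow_succ] at ha
    refine Submodule.mul_induction_on ha ?_ ?_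
    · intro y hy c hc
      obtain ⟨h, hh, a', ha', rfl⟩ := Submodule.mem_sup.1 (ih hy)
      obtain ⟨P, hP, rfl⟩ := hh
      change a' ∈ augI k A ^ (n + 1) at ha'
      simp only [AlgHom.toLinearMap_apply] at hy ⊢
      -- decompose `c`
      set Q : MvPolynomial ι k :=
        ∑ j, MvPolynomial.C (b.repr ((augI k A).toCotangent ⟨c, hc⟩) j) * MvPolynomial.X j with hQ
      have hQh : Q.IsHomogeneous 1 := by
        rw [hQ]
        refine MvPolynomial.IsHomogeneous.sum _ _ _ (fun j _ => ?_)
        have := (MvPolynomial.isHomogeneous_C ι (b.repr ((augI k A).toCotangent ⟨c, hc⟩) j)).mul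
          (MvPolynomial.isHomogeneous_X k j)
        simpa using this
      have hQI : MvPolynomial.aeval x Q ∈ augI k A :=
        by simpa using aeval_mem_pow_of_isHomogeneous (I := augI k A) hxI hQh
      have hc' : c - MvPolynomial.aeval x Q ∈ augI k A ^ 2 := by
        have h1 : (augI k A).toCotangent ⟨c, hc⟩ =
            (augI k A).toCotangent ⟨MvPolynomial.aeval x Q, hQI⟩ := by
          conv_lhs => rw [← b.sum_repr ((augI k A).toCotangent ⟨c, hc⟩)]
          have hval : MvPolynomial.aeval x Q =
              ∑ j, (b.repr ((augI k A).toCotangent ⟨c, hc⟩) j) • x j := by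
            rw [hQ]
            simp [Algebra.smul_def]
          have h2 : (⟨MvPolynomial.aeval x Q, hQI⟩ : augI k A) =
              ∑ j, (b.repr ((augI k A).toCotangent ⟨c, hc⟩) j) • (⟨x j, hxI j⟩ : augI k A) := by
            apply Subtype.ext
            rw [Submodule.coe_sum]
            simp only [Submodule.coe_smul]
            exact hval
          rw [h2, map_sum]
          apply Finset.sum_congr rfl
          intro j _
          rw [← hxb j]
          exact (LinearMap.map_smul_of_tower _ _ _).symm
        exact ((augI k A).toCotangent_eq).1 h1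
      have e : MvPolynomial.aeval x P * c + a' * c =
          MvPolynomial.aeval x (P * Q) +
            (MvPolynomial.aeval x P * (c - MvPolynomial.aeval x Q) + a' * c) := by
        rw [map_mul]; ring
      rw [add_mul, e]
      refine Submodule.add_mem_sup ?_ ?_
      · exact ⟨P * Q, hP.mul hQh, rfl⟩
      · change _ ∈ augI k A ^ (n + 1 + 1)
        refine Ideal.add_mem _ ?_ ?_
        · have h3 : augI k A ^ (n + 1 + 1) = augI k A ^ n * augI k A ^ 2 := by
            rw [← pow_add]
          rw [h3]
          exact Ideal.mul_mem_mul (aeval_mem_pow_of_isHomogeneous hxI hP) hc'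
        · rw [pow_succ (augI k A) (n + 1)]
          exact Ideal.mul_mem_mul ha' hc
    · intro y z hy hz
      exact Submodule.add_mem _ hy hz

end Span

section Finrank

variable {k : Type u} [Field k] {A : Type v} [CommRing A] [Bialgebra k A]
  {ι : Type} [Fintype ι] [DecidableEq ι]

/-- index set of degree `n` monomials. -/
abbrev Idx (ι : Type) [Fintype ι] [DecidableEq ι] (n : ℕ) :=
  {β : ι →₀ ℕ // β ∈ (Finset.univ : Finset ι).finsuppAntidiag n}

lemma Idx.degree_eq {n : ℕ} (β : Idx ι n) : β.1.degree = n := by
  have := (Finset.mem_finsuppAntidiag.1 β.2).1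
  rw [Finsupp.degree_eq_sum]
  exact this

lemma card_Idx (n : ℕ) : Fintype.card (Idx ι n) = (Fintype.card ι + n - 1).choose n := by
  rw [Fintype.card_coe, Finset.card_finsuppAntidiag_nat_eq_choose, Finset.card_univ]

/-- the family of monomials modulo `I^(n+1)`. -/
noncomputable def vfam (x : ι → A) (n : ℕ) :
    Idx ι n → A ⧸ (augI k A ^ (n + 1)).restrictScalars k :=
  fun β => Submodule.mkQ _ (MvPolynomial.aeval x (MvPolynomial.monomial β.1 (1 : k)))

lemma linearIndependent_vfam (b : Module.Basis ι k (augI k A).Cotangent) (x : ι → A)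
    (hxI : ∀ i, x i ∈ augI k A) (hxb : ∀ i, (augI k A).toCotangent ⟨x i, hxI i⟩ = b i) (n : ℕ)
    (hn : ((n.factorial : ℕ) : k) ≠ 0) : LinearIndependent k (vfam (k := k) x n) := by
  rw [Fintype.linearIndependent_iff]
  intro g hg
  set P : MvPolynomial ι k := ∑ β : Idx ι n, MvPolynomial.monomial β.1 (g β) with hP
  have hPh : P.IsHomogeneous n := by
    rw [hP]
    exact MvPolynomial.IsHomogeneous.sum _ _ _
      (fun β _ => MvPolynomial.isHomogeneous_monomial _ β.degree_eq)
  have hmem : MvPolynomial.aeval x P ∈ augI k A ^ (n + 1) := by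
    have h1 : Submodule.mkQ ((augI k A ^ (n + 1)).restrictScalars k) (MvPolynomial.aeval x P) = 0 := by
      rw [← hg, hP, map_sum, map_sum]
      apply Finset.sum_congr rfl
      intro β _
      unfold vfam
      rw [← map_smul, ← map_smul, MvPolynomial.smul_monomial, smul_eq_mul, mul_one]
    rw [Submodule.mkQ_apply, Submodule.Quotient.mk_eq_zero] at h1
    exact h1
  have hP0 := eq_zero_of_aeval_mem b x hxI hxb n hn P hPh hmem
  intro β
  have := congrArg (MvPolynomial.coeff β.1) hP0
  rw [hP, MvPolynomial.coeff_sum, MvPolynomial.coeff_zero] at this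
  rw [← this, Finset.sum_eq_single β]
  · simp
  · intro γ _ hγ
    rw [MvPolynomial.coeff_monomial, if_neg]
    intro h
    exact hγ (Subtype.ext h)
  · intro h; exact absurd (Finset.mem_univ β) h

lemma span_vfam (b : Module.Basis ι k (augI k A).Cotangent) (x : ι → A)
    (hxI : ∀ i, x i ∈ augI k A) (hxb : ∀ i, (augI k A).toCotangent ⟨x i, hxI i⟩ = b i) (n : ℕ) :
    Submodule.span k (Set.range (vfam (k := k) x n)) =
      ((augI k A ^ n).restrictScalars k).map
        (Submodule.mkQ ((augI k A ^ (n + 1)).restrictScalars k)) := by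
  apply le_antisymm
  · rw [Submodule.span_le]
    rintro _ ⟨β, rfl⟩
    refine ⟨_, ?_, rfl⟩
    exact aeval_mem_pow_of_isHomogeneous hxI (MvPolynomial.isHomogeneous_monomial _ β.degree_eq)
  · rintro _ ⟨a, ha, rfl⟩
    obtain ⟨h, hh, a', ha', rfl⟩ := Submodule.mem_sup.1 (pow_le_Hn_sup b x hxI hxb n ha)
    obtain ⟨P, hP, rfl⟩ := hh
    have hz : Submodule.mkQ ((augI k A ^ (n + 1)).restrictScalars k) a' = 0 := by
      rw [Submodule.mkQ_apply]
      exact (Submodule.Quotient.mk_eq_zero _).2 ha'
    rw [map_add, hz, add_zero]
    change Submodule.mkQ _ (MvPolynomial.aeval x P) ∈ _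
    rw [P.as_sum, map_sum, map_sum]
    refine Submodule.sum_mem _ (fun β hβ => ?_)
    have hdeg : β.degree = n := by
      rw [Finsupp.degree_eq_weight_one]
      exact hP (MvPolynomial.mem_support_iff.1 hβ)
    have hβ' : β ∈ (Finset.univ : Finset ι).finsuppAntidiag n := by
      rw [Finset.mem_finsuppAntidiag]
      refine ⟨?_, Finset.subset_univ _⟩
      rw [← Finsupp.degree_eq_sum]
      exact hdeg
    have e : MvPolynomial.monomial β (MvPolynomial.coeff β P) =
        (MvPolynomial.coeff β P) • MvPolynomial.monomial β (1 : k) := by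
      rw [MvPolynomial.smul_monomial, smul_eq_mul, mul_one]
    rw [e, map_smul, map_smul]
    exact Submodule.smul_mem _ _ (Submodule.subset_span ⟨⟨β, hβ'⟩, rfl⟩)

end Finrank

section Main

variable {k : Type u} [Field k] {A : Type v} [CommRing A] [Bialgebra k A]

instance finite_quotient_augI : Module.Finite k (A ⧸ augI k A) := by
  have hs : Function.Surjective (Bialgebra.counitAlgHom k A) := by
    intro c
    exact ⟨algebraMap k A c, by simp⟩
  exact Module.Finite.equiv
    (Ideal.quotientKerAlgEquivOfSurjective hs).symm.toLinearEquiv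

theorem finite_cotangent [Algebra.FiniteType k A] : Module.Finite k (augI k A).Cotangent := by
  haveI : IsNoetherianRing A := Algebra.FiniteType.isNoetherianRing k A
  haveI : Module.Finite A (augI k A) := Module.IsNoetherian.finite A _
  haveI : Module.Finite A (augI k A).Cotangent :=
    Module.Finite.of_surjective (augI k A).toCotangent (augI k A).toCotangent_surjective
  haveI : Module.Finite (A ⧸ augI k A) (augI k A).Cotangent :=
    Module.Finite.of_restrictScalars_finite A _ _
  haveI : IsScalarTower k (A ⧸ augI k A) (augI k A).Cotangent :=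
    IsScalarTower.of_algebraMap_smul (fun r m => by
      rw [IsScalarTower.algebraMap_apply k A (A ⧸ augI k A), algebraMap_smul, algebraMap_smul])
  exact Module.Finite.trans (A ⧸ augI k A) _

/-- `k`-submodule version of `I^m`. -/
abbrev Um (k : Type u) [Field k] (A : Type v) [CommRing A] [Bialgebra k A] (m : ℕ) :
    Submodule k A := (augI k A ^ m).restrictScalars k

lemma Um_anti (m : ℕ) : Um k A (m + 1) ≤ Um k A m := by
  intro a ha
  exact Ideal.pow_le_pow_right (Nat.le_succ m) ha

theorem finite_quotient_Um [Algebra.FiniteType k A] (m : ℕ) : Module.Finite k (A ⧸ Um k A m) := by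
  classical
  haveI := finite_cotangent (k := k) (A := A)
  let b := Module.finBasis k (augI k A).Cotangent
  choose y hy using fun i => (augI k A).toCotangent_surjective (b i)
  let x : Fin (Module.finrank k (augI k A).Cotangent) → A := fun i => (y i : A)
  have hxI : ∀ i, x i ∈ augI k A := fun i => (y i).2
  have hxb : ∀ i, (augI k A).toCotangent ⟨x i, hxI i⟩ = b i := fun i => hy i
  induction m with
  | zero =>
    have : Um k A 0 = ⊤ := by
      rw [eq_top_iff]
      intro a _
      change a ∈ augI k A ^ 0
      rw [pow_zero, Ideal.one_eq_top]; trivial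
    rw [this]
    infer_instance
  | succ m ih =>
    set N := (Um k A m).map (Submodule.mkQ (Um k A (m + 1))) with hN
    haveI : Module.Finite k N := by
      rw [hN, ← span_vfam b x hxI hxb m]
      exact Module.Finite.span_of_finite k (Set.finite_range _)
    haveI : Module.Finite k ((A ⧸ Um k A (m + 1)) ⧸ N) :=
      Module.Finite.equiv (Submodule.quotientQuotientEquivQuotient _ _ (Um_anti m)).symm
    exact Module.Finite.of_submodule_quotient N

theorem finrank_quotient_Um_succ [Algebra.FiniteType k A] (n : ℕ)
    (hn : ((n.factorial : ℕ) : k) ≠ 0) :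
    Module.finrank k (A ⧸ Um k A (n + 1)) = Module.finrank k (A ⧸ Um k A n) +
      Nat.choose (Module.finrank k (augI k A).Cotangent + n - 1) n := by
  classical
  haveI := finite_cotangent (k := k) (A := A)
  let b := Module.finBasis k (augI k A).Cotangent
  choose y hy using fun i => (augI k A).toCotangent_surjective (b i)
  let x : Fin (Module.finrank k (augI k A).Cotangent) → A := fun i => (y i : A)
  have hxI : ∀ i, x i ∈ augI k A := fun i => (y i).2
  have hxb : ∀ i, (augI k A).toCotangent ⟨x i, hxI i⟩ = b i := fun i => hy i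
  haveI := finite_quotient_Um (k := k) (A := A) (n + 1)
  set N := (Um k A n).map (Submodule.mkQ (Um k A (n + 1))) with hN
  have h1 := Submodule.finrank_quotient_add_finrank N
  have h2 : Module.finrank k ((A ⧸ Um k A (n + 1)) ⧸ N) = Module.finrank k (A ⧸ Um k A n) :=
    LinearEquiv.finrank_eq (Submodule.quotientQuotientEquivQuotient _ _ (Um_anti n))
  have h3 : Module.finrank k N =
      Nat.choose (Module.finrank k (augI k A).Cotangent + n - 1) n := by
    rw [hN, ← span_vfam b x hxI hxb n,
      finrank_span_eq_card (linearIndependent_vfam b x hxI hxb n hn), card_Idx, Fintype.card_fin]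
  rw [← h1, h2, h3]

/-- S7964 in ideal-quotient form. -/
theorem finrank_quotient_pow_succ [Algebra.FiniteType k A] (n : ℕ)
    (hn : ((n.factorial : ℕ) : k) ≠ 0) :
    Module.finrank k (A ⧸ augI k A ^ (n + 1)) = Module.finrank k (A ⧸ augI k A ^ n) +
      Nat.choose (Module.finrank k (augI k A).Cotangent + n - 1) n := by
  have e1 := LinearEquiv.finrank_eq
    (Submodule.Quotient.restrictScalarsEquiv k (augI k A ^ (n + 1)))
  have e2 := LinearEquiv.finrank_eq
    (Submodule.Quotient.restrictScalarsEquiv k (augI k A ^ n))
  rw [← e1, ← e2]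
  exact finrank_quotient_Um_succ n hn

end Main

end Groth.Agent.Lib.Helper7.HopfCot
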