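import Groth.Agent.Lib.Helper7.JordanPts2

/-!
# Jordan decomposition of rational points: the semisimple part (helper7)
-/

universe u v w w'

open TensorProduct

namespace Groth.Agent.Lib.Helper7.JordanPts

open HopfRep Groth.Agent.Lib.Helper7.Comod

section Act

variable {k : Type u} [Field k] {A : Type v} [CommRing A] [Bialgebra k A]
variable {V : Type w} [AddCommGroup V] [Module k V] [Comod k A V]
variable {W : Type w'} [AddCommGroup W] [Module k W] [Comod k A W]

/-- comodule maps commute with the action of points. -/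
lemma act_comp_of_isComodHom {f : V →ₗ[k] W} (hf : Hoch.IsComodHom A f) (h : A →ₐ[k] k) (v : V) :
    f (Comod.act k A V h v) = Comod.act k A W h (f v) := by
  rw [act_eq_contr, act_eq_contr, isComodHom_apply hf, contr_rTensor]

end Act

section Rt

variable {k : Type u} [Field k] {A : Type v} [CommRing A] [HopfAlgebra k A]

/-- right translation by a point (the action on the regular comodule). -/
noncomputable def Rt (g : A →ₐ[k] k) : Module.End k A := Comod.act k A A g

lemma Rt_apply (g : A →ₐ[k] k) (a : A) :
    Rt g a = contr A g.toLinearMap (Coalgebra.comul (R := k) a) := rfl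

/-- right translation as an algebra map. -/
noncomputable def RtAlg (g : A →ₐ[k] k) : A →ₐ[k] A :=
  (Algebra.TensorProduct.rid k k A : A ⊗[k] k →ₐ[k] A).comp
    ((Algebra.TensorProduct.map (AlgHom.id k A) g).comp (Bialgebra.comulAlgHom k A))

lemma Rt_eq_RtAlg (g : A →ₐ[k] k) (a : A) : Rt g a = RtAlg g a := by
  rw [Rt_apply]
  change _ = (Algebra.TensorProduct.rid k k A)
    (Algebra.TensorProduct.map (AlgHom.id k A) g (Coalgebra.comul (R := k) a))
  generalize Coalgebra.comul (R := k) a = z
  induction z using TensorProduct.induction_on with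
  | zero => simp
  | tmul x y => simp
  | add x y hx hy => simp only [map_add, hx, hy]

lemma Rt_mul (g : A →ₐ[k] k) (a b : A) : Rt g (a * b) = Rt g a * Rt g b := by
  rw [Rt_eq_RtAlg, Rt_eq_RtAlg, Rt_eq_RtAlg, map_mul]

lemma Rt_one (g : A →ₐ[k] k) : Rt g 1 = 1 := by
  rw [Rt_eq_RtAlg, map_one]

lemma counit_Rt (g : A →ₐ[k] k) (a : A) : Coalgebra.counit (R := k) (Rt g a) = g a := by
  have h := Coalgebra.rTensor_counit_comul (R := k) a
  have h2 : ∀ z : A ⊗[k] A, Coalgebra.counit (R := k) (contr A g.toLinearMap z) =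
      g (TensorProduct.lid k A ((Coalgebra.counit (R := k) (A := A)).rTensor A z)) := by
    intro z
    induction z using TensorProduct.induction_on with
    | zero => simp
    | tmul x y => simp [mul_comm]
    | add x y hx hy => simp only [map_add, hx, hy]
  rw [Rt_apply, h2, h]
  simp

lemma Rt_convMul (g h : WithConv (A →ₐ[k] k)) :
    Rt (g * h).ofConv = Rt g.ofConv * Rt h.ofConv := act_convMul g h

lemma Rt_convOne : Rt (WithConv.ofConv (1 : WithConv (A →ₐ[k] k))) = 1 := act_convOne

lemma Rt_inv_mul (g : A →ₐ[k] k) :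
    Rt ((WithConv.toConv g)⁻¹).ofConv * Rt g = 1 := by
  have h := Rt_convMul (WithConv.toConv g)⁻¹ (WithConv.toConv g)
  rw [inv_mul_cancel, Rt_convOne] at h
  exact h.symm

lemma Rt_mul_inv (g : A →ₐ[k] k) :
    Rt g * Rt ((WithConv.toConv g)⁻¹).ofConv = 1 := by
  have h := Rt_convMul (WithConv.toConv g) (WithConv.toConv g)⁻¹
  rw [mul_inv_cancel, Rt_convOne] at h
  exact h.symm

lemma Rt_injective (g : A →ₐ[k] k) : Function.Injective (Rt g) := by
  intro a b hab
  have h := Rt_inv_mul g
  have h1 := LinearMap.congr_fun h a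
  have h2 := LinearMap.congr_fun h b
  simp only [Module.End.mul_apply, Module.End.one_apply] at h1 h2
  rw [← h1, ← h2, hab]

/-- points are determined by their right translations. -/
lemma eq_of_Rt_eq {g h : A →ₐ[k] k} (hh : ∀ a, Rt g a = Rt h a) : g = h := by
  apply AlgHom.ext
  intro a
  rw [← counit_Rt g a, ← counit_Rt h a, hh a]

end Rt

end Groth.Agent.Lib.Helper7.JordanPts
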