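import Groth.Agent.Lib.Helper7.HopfFrobSub
import Groth.Agent.Lib.Helper7.HopfCartier

/-!
# Finite local Hopf algebras: base change and the order (helper7)
-/

universe u v w

open TensorProduct

namespace Groth.Agent.Lib.Helper7.HopfSub

open Groth.Agent.Lib.Helper7.Comod HopfRep Groth.Agent.Lib.Helper7.HopfCot
  Groth.Agent.Lib.Helper7.FrobKer Groth.Agent.Lib.Helper7.HeightOne

section BC

variable {k : Type u} [Field k] (K : Type w) [Field K] [Algebra k K]
  {A : Type v} [CommRing A] [HopfAlgebra k A] [Module.Finite k A] [IsLocalRing A]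

lemma sub_counit_mem_nilradical (z : K ⊗[k] A) :
    z - algebraMap K (K ⊗[k] A) (Coalgebra.counit (R := K) z) ∈ nilradical (K ⊗[k] A) := by
  induction z using TensorProduct.induction_on with
  | zero => simp
  | tmul c a =>
    have e : c ⊗ₜ[k] a - algebraMap K (K ⊗[k] A) (Coalgebra.counit (R := K) (c ⊗ₜ[k] a)) =
        c ⊗ₜ[k] (a - algebraMap k A (Coalgebra.counit (R := k) a)) := by
      rw [TensorProduct.counit_tmul, CommSemiring.counit_apply,
        Algebra.TensorProduct.algebraMap_apply, Algebra.algebraMap_self_apply,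
        TensorProduct.tmul_sub, Algebra.algebraMap_eq_smul_one (A := A),
        TensorProduct.tmul_smul, TensorProduct.smul_tmul']
    rw [e, mem_nilradical]
    have hn : IsNilpotent (a - algebraMap k A (Coalgebra.counit (R := k) a)) := by
      apply isNilpotent_of_counit_eq_zero (k := k)
      rw [map_sub, Bialgebra.counit_algebraMap, sub_self]
    obtain ⟨N, hN⟩ := hn
    exact ⟨N, by rw [Algebra.TensorProduct.tmul_pow, hN, TensorProduct.tmul_zero]⟩
  | add z₁ z₂ h₁ h₂ =>
    have e : z₁ + z₂ - algebraMap K (K ⊗[k] A) (Coalgebra.counit (R := K) (z₁ + z₂)) =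
        (z₁ - algebraMap K (K ⊗[k] A) (Coalgebra.counit (R := K) z₁)) +
          (z₂ - algebraMap K (K ⊗[k] A) (Coalgebra.counit (R := K) z₂)) := by
      rw [map_add, map_add]; ring
    rw [e]
    exact Ideal.add_mem _ h₁ h₂

lemma isLocalRing_baseChange : IsLocalRing (K ⊗[k] A) := by
  refine isLocalRing_of_augmentation (Bialgebra.counitAlgHom K (K ⊗[k] A)) (fun z hz => ?_)
  have := sub_counit_mem_nilradical K z
  have hz' : Coalgebra.counit (R := K) z = 0 := hz
  rw [hz', map_zero, sub_zero] at this
  exact mem_nilradical.1 this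

end BC

section Order

variable (k : Type u) [Field k] (A : Type v) [CommRing A] [HopfAlgebra k A] [Module.Finite k A]
  [IsLocalRing A]

/-- an infinitesimal group scheme in characteristic zero is trivial. -/
theorem finrank_eq_one_of_charZero [CharZero k] : Module.finrank k A = 1 := by
  haveI : Algebra.FiniteType k A := inferInstance
  haveI : IsReduced A := HopfCartier.isReduced k A
  have hinj : Function.Injective (Bialgebra.counitAlgHom k A) := by
    rw [injective_iff_map_eq_zero]
    intro a ha
    exact (isNilpotent_of_counit_eq_zero (k := k) a ha).eq_zero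
  have hsurj : Function.Surjective (Bialgebra.counitAlgHom k A) := fun c =>
    ⟨algebraMap k A c, by simp⟩
  have e := LinearEquiv.ofBijective (Bialgebra.counitAlgHom k A).toLinearMap ⟨hinj, hsurj⟩
  rw [e.finrank_eq, Module.finrank_self]

/-- the order of an infinitesimal group scheme over a field of characteristic `p` is a power of
`p`. -/
theorem exists_finrank_eq_pow_of_charP (p : ℕ) [Fact p.Prime] [CharP k p] :
    ∃ r : ℕ, Module.finrank k A = p ^ r := by
  haveI : CharP (AlgebraicClosure k) p :=
    charP_of_injective_algebraMap (algebraMap k (AlgebraicClosure k)).injective p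
  haveI := isLocalRing_baseChange (AlgebraicClosure k) (k := k) (A := A)
  obtain ⟨r, hr⟩ := exists_finrank_eq_pow (k := AlgebraicClosure k) p (AlgebraicClosure k ⊗[k] A)
  exact ⟨r, by rw [← hr, Module.finrank_baseChange]⟩

theorem exists_finrank_eq_ringExpChar_pow :
    ∃ n : ℕ, Module.finrank k A = ringExpChar k ^ n := by
  obtain ⟨q, hq⟩ := ExpChar.exists k
  rw [ringExpChar.eq k q]
  cases hq with
  | zero => exact ⟨0, by rw [pow_zero]; exact finrank_eq_one_of_charZero k A⟩
  | prime hp =>
    haveI : Fact q.Prime := ⟨hp⟩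
    exact exists_finrank_eq_pow_of_charP k A q

end Order

end Groth.Agent.Lib.Helper7.HopfSub
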