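import Mathlib

/-!
# Ideals of minors of a set of vectors of `Rⁿ`
-/

namespace Groth.Agent.Lib.Helper7.Minors

open Module

variable {R : Type*} [CommRing R] {n q : ℕ}

/-- the `q × q` minor of the rows `x` on the columns `s`. -/
def minor (s : Fin q → Fin n) (x : Fin q → (Fin n → R)) : R :=
  Matrix.det (Matrix.of fun a b => x a (s b))

/-- the minor as an alternating map. -/
noncomputable def minorAlt (s : Fin q → Fin n) : (Fin n → R) [⋀^Fin q]→ₗ[R] R :=
  (Matrix.detRowAlternating (R := R) (n := Fin q)).compLinearMap (LinearMap.funLeft R R s)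

lemma minorAlt_apply (s : Fin q → Fin n) (x : Fin q → (Fin n → R)) :
    minorAlt s x = minor s x := rfl

/-- the ideal generated by the `q`-minors of tuples of vectors of `G`. -/
def minorsIdeal (G : Set (Fin n → R)) (q : ℕ) : Ideal R :=
  Ideal.span {d | ∃ (s : Fin q → Fin n) (x : Fin q → (Fin n → R)), (∀ a, x a ∈ G) ∧ minor s x = d}

lemma minor_mem {G : Set (Fin n → R)} (s : Fin q → Fin n) {x : Fin q → (Fin n → R)}
    (hx : ∀ a, x a ∈ G) : minor s x ∈ minorsIdeal G q :=
  Ideal.subset_span ⟨s, x, hx, rfl⟩

lemma minorsIdeal_mono {G G' : Set (Fin n → R)} (h : G ⊆ G') (q : ℕ) :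
    minorsIdeal G q ≤ minorsIdeal G' q := by
  apply Ideal.span_mono
  rintro d ⟨s, x, hx, rfl⟩
  exact ⟨s, x, fun a => h (hx a), rfl⟩

/-- every alternating form is a combination of minors. -/
theorem alt_mem (f : (Fin n → R) [⋀^Fin q]→ₗ[R] R) (x : Fin q → (Fin n → R)) :
    f x ∈ Ideal.span (Set.range fun s : Fin q → Fin n => minor s x) := by
  classical
  let e : Basis (Fin n) R (Fin n → R) := Pi.basisFun R (Fin n)
  let F := exteriorPower.alternatingMapLinearEquiv f
  have h1 : f x = F (exteriorPower.ιMulti R q x) :=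
    (exteriorPower.alternatingMapLinearEquiv_apply_ιMulti f x).symm
  rw [h1, ← (e.exteriorPower q).linearCombination_repr (exteriorPower.ιMulti R q x),
    Finsupp.linearCombination_apply, Finsupp.sum, map_sum]
  apply Ideal.sum_mem
  intro S _
  rw [map_smul, smul_eq_mul]
  apply Ideal.mul_mem_right
  rw [exteriorPower.basis_repr_apply, exteriorPower.ιMultiDual_apply_ιMulti]
  apply Ideal.subset_span
  refine ⟨fun j => Set.powersetCard.ofFinEmbEquiv.symm S j, ?_⟩
  simp only [minor]
  congr 1

/-- a linear map does not increase ideals of minors. -/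
theorem minorsIdeal_image_le {m : ℕ} (L : (Fin n → R) →ₗ[R] (Fin m → R)) (G : Set (Fin n → R))
    (q : ℕ) : minorsIdeal (L '' G) q ≤ minorsIdeal G q := by
  apply Ideal.span_le.2
  rintro d ⟨s, x', hx', rfl⟩
  choose x hxG hx using hx'
  have h : minor s x' = ((minorAlt s).compLinearMap L) x := by
    rw [AlternatingMap.compLinearMap_apply, minorAlt_apply]
    congr 1
    funext a
    exact (hx a).symm
  rw [h]
  refine Ideal.span_le.2 ?_ (alt_mem _ x)
  rintro _ ⟨s', rfl⟩
  exact minor_mem s' hxG

/-- the ideal of minors of a span. -/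
theorem minorsIdeal_span (G : Set (Fin n → R)) (q : ℕ) :
    minorsIdeal (Submodule.span R G : Set (Fin n → R)) q = minorsIdeal G q := by
  classical
  apply le_antisymm _ (minorsIdeal_mono Submodule.subset_span q)
  apply Ideal.span_le.2
  rintro d ⟨s, x, hx, rfl⟩
  have hx' : ∀ a, ∃ l : G →₀ R, Finsupp.linearCombination R Subtype.val l = x a := fun a =>
    (Finsupp.mem_span_iff_linearCombination R G (x a)).1 (hx a)
  choose l hl using hx'
  have h : minor s x = (minorAlt s).toMultilinearMap
      (fun a => ∑ g ∈ (l a).support, (l a g) • (g : Fin n → R)) := by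
    change minor s x = minorAlt s _
    rw [minorAlt_apply]
    congr 1
    funext a
    rw [← hl a, Finsupp.linearCombination_apply, Finsupp.sum]
  rw [h, MultilinearMap.map_sum_finset]
  apply Ideal.sum_mem
  intro r _
  rw [MultilinearMap.map_smul_univ]
  apply Ideal.mul_mem_left
  exact minor_mem s (fun a => (r a).2)

/-- ring homomorphisms map minors to minors. -/
lemma map_minor {R' : Type*} [CommRing R'] (φ : R →+* R') (s : Fin q → Fin n)
    (x : Fin q → (Fin n → R)) : φ (minor s x) = minor s (fun a => φ ∘ x a) := by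
  simp only [minor, RingHom.map_det]
  congr 1

theorem minorsIdeal_ringHom_image {R' : Type*} [CommRing R'] (φ : R →+* R')
    (G : Set (Fin n → R)) (q : ℕ) :
    minorsIdeal ((fun x : Fin n → R => φ ∘ x) '' G) q = Ideal.map φ (minorsIdeal G q) := by
  apply le_antisymm
  · apply Ideal.span_le.2
    rintro d ⟨s, x', hx', rfl⟩
    choose x hxG hx using hx'
    have : minor s x' = φ (minor s x) := by
      rw [map_minor]
      congr 1
      funext a
      exact (hx a).symm
    rw [this]
    exact Ideal.mem_map_of_mem φ (minor_mem s hxG)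
  · rw [minorsIdeal, Ideal.map_span]
    apply Ideal.span_le.2
    rintro _ ⟨d, ⟨s, x, hx, rfl⟩, rfl⟩
    rw [map_minor]
    exact minor_mem s (fun a => ⟨x a, hx a, rfl⟩)

lemma minorsIdeal_zero (G : Set (Fin n → R)) : minorsIdeal G 0 = ⊤ := by
  rw [Ideal.eq_top_iff_one]
  have : minor (R := R) (n := n) (Fin.elim0) (fun a => Fin.elim0 a) = 1 := by
    simp [minor]
  rw [← this]
  exact minor_mem _ (fun a => Fin.elim0 a)

lemma minorsIdeal_succ (G : Set (Fin n → R)) : minorsIdeal G (n + 1) = ⊥ := by
  rw [eq_bot_iff]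
  apply Ideal.span_le.2
  rintro d ⟨s, x, hx, rfl⟩
  obtain ⟨a, b, hab, hs⟩ := Fintype.exists_ne_map_eq_of_card_lt s (by simp)
  change minor s x = 0
  exact Matrix.det_zero_of_column_eq hab (fun i => by simp [hs])

/-- the linear form `y ↦ minor s (y, z)`. -/
noncomputable def minorCons (s : Fin (q + 1) → Fin n) (z : Fin q → (Fin n → R)) :
    (Fin n → R) →ₗ[R] R where
  toFun y := minorAlt s (Matrix.vecCons y z)
  map_add' _ _ := AlternatingMap.map_vecCons_add _ _ _ _
  map_smul' _ _ := AlternatingMap.map_vecCons_smul _ _ _ _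

lemma minorCons_apply (s : Fin (q + 1) → Fin n) (z : Fin q → (Fin n → R)) (y : Fin n → R) :
    minorCons s z y = minor s (Fin.cons y z) := rfl

/-- Laplace expansion of a `(q+2)`-minor along the first column. -/
lemma laplace (s : Fin (q + 1) → Fin n) (x : Fin (q + 1) → (Fin n → R)) (y : Fin n → R)
    (m : Fin n) :
    minor (Fin.cons m s : Fin (q + 2) → Fin n) (Fin.cons y x : Fin (q + 2) → (Fin n → R)) =
      y m * minor s x +
        ∑ j : Fin (q + 1), (-1) ^ ((j : ℕ) + 1) * x j m * minorCons s (x ∘ j.succAbove) y := by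
  rw [minor, Matrix.det_succ_column_zero, Fin.sum_univ_succ]
  congr 1
  · simp only [Fin.val_zero, pow_zero, one_mul, Matrix.of_apply, Fin.cons_zero]
    congr 1
  · apply Finset.sum_congr rfl
    intro j _
    simp only [Fin.val_succ, Matrix.of_apply, Fin.cons_zero, Fin.cons_succ]
    congr 1
    rw [minorCons_apply, minor]
    congr 1
    ext a b
    simp only [Matrix.submatrix_apply, Matrix.of_apply, Fin.cons_succ]
    refine Fin.cases ?_ (fun a' => ?_) a
    · simp
    · simp [Fin.succ_succAbove_succ]

/-- A submodule of `Rⁿ` whose `q`-minors generate the unit ideal and whose `(q+1)`-minors vanish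
is a direct summand. -/
theorem exists_proj (K : Submodule R (Fin n → R)) (q : ℕ)
    (h1 : minorsIdeal (K : Set (Fin n → R)) q = ⊤)
    (h2 : minorsIdeal (K : Set (Fin n → R)) (q + 1) = ⊥) :
    ∃ E : (Fin n → R) →ₗ[R] (Fin n → R), (∀ y, E y ∈ K) ∧ ∀ y ∈ K, E y = y := by
  classical
  suffices H : ∀ c ∈ minorsIdeal (K : Set (Fin n → R)) q,
      ∃ E : (Fin n → R) →ₗ[R] (Fin n → R), (∀ y, E y ∈ K) ∧ ∀ y ∈ K, E y = c • y by
    obtain ⟨E, hE1, hE2⟩ := H 1 (by rw [h1]; trivial)
    exact ⟨E, hE1, fun y hy => by rw [hE2 y hy, one_smul]⟩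
  intro c hc
  induction hc using Submodule.span_induction with
  | zero => exact ⟨0, fun y => by simp, fun y _ => by simp⟩
  | add c c' _ _ hc hc' =>
    obtain ⟨E, hE1, hE2⟩ := hc
    obtain ⟨E', hE1', hE2'⟩ := hc'
    exact ⟨E + E', fun y => K.add_mem (hE1 y) (hE1' y), fun y hy => by
      rw [LinearMap.add_apply, hE2 y hy, hE2' y hy, add_smul]⟩
  | smul r c _ hc =>
    obtain ⟨E, hE1, hE2⟩ := hc
    exact ⟨r • E, fun y => K.smul_mem r (hE1 y), fun y hy => by
      rw [LinearMap.smul_apply, hE2 y hy, smul_eq_mul, mul_smul]⟩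
  | mem d hd =>
    obtain ⟨s, x, hx, rfl⟩ := hd
    cases q with
    | zero =>
      -- all entries of vectors of `K` vanish
      have hK : ∀ y ∈ K, y = 0 := by
        intro y hy
        funext m
        have : minor (fun _ : Fin 1 => m) (fun _ : Fin 1 => y) ∈
            minorsIdeal (K : Set (Fin n → R)) (0 + 1) := minor_mem _ (fun _ => hy)
        rw [h2] at this
        simpa [minor] using this
      exact ⟨0, fun y => by simp, fun y hy => by rw [hK y hy]; simp⟩
    | succ q =>
      refine ⟨-∑ j : Fin (q + 1), ((-1 : R) ^ ((j : ℕ) + 1)) •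
        (minorCons s (x ∘ j.succAbove)).smulRight (x j), ?_, ?_⟩
      · intro y
        rw [LinearMap.neg_apply, LinearMap.sum_apply]
        apply K.neg_mem
        apply K.sum_mem
        intro j _
        rw [LinearMap.smul_apply, LinearMap.smulRight_apply]
        exact K.smul_mem _ (K.smul_mem _ (hx j))
      · intro y hy
        funext m
        have h0 : minor (Fin.cons m s : Fin (q + 2) → Fin n)
            (Fin.cons y x : Fin (q + 2) → (Fin n → R)) = 0 := by
          have : minor (Fin.cons m s : Fin (q + 2) → Fin n)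
              (Fin.cons y x : Fin (q + 2) → (Fin n → R)) ∈
              minorsIdeal (K : Set (Fin n → R)) (q + 1 + 1) := by
            apply minor_mem
            intro a
            refine Fin.cases ?_ (fun a' => ?_) a
            · simpa using hy
            · simpa using hx a'
          rw [h2] at this
          exact this
        rw [laplace] at h0
        rw [LinearMap.neg_apply, LinearMap.sum_apply, Pi.neg_apply, Finset.sum_apply,
          Pi.smul_apply, smul_eq_mul]
        rw [mul_comm] at h0
        rw [neg_eq_iff_add_eq_zero, add_comm, ← h0]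
        congr 1
        apply Finset.sum_congr rfl
        intro j _
        rw [LinearMap.smul_apply, LinearMap.smulRight_apply, Pi.smul_apply, Pi.smul_apply,
          smul_eq_mul, smul_eq_mul]
        ring

end Groth.Agent.Lib.Helper7.Minors
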