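import Mathlib
import Groth.Agent.Lib.Helper7.Minors

namespace Groth.Agent.Lib.Helper7.HopfFlat

open TensorProduct Groth.Agent.Lib.Helper7.Minors

universe u v w

variable {k : Type u} [Field k] {A : Type v} [CommRing A] [HopfAlgebra k A]
  {B : Type w} [CommRing B] [HopfAlgebra k B]

/-- `(id ⊗ ψ) ∘ Δ : B → B ⊗ A`. -/
noncomputable def sig (ψ : B →ₐc[k] A) : B →ₐ[k] B ⊗[k] A :=
  (Algebra.TensorProduct.map (AlgHom.id k B) (ψ : B →ₐ[k] A)).comp (Bialgebra.comulAlgHom k B)

lemma sig_apply (ψ : B →ₐc[k] A) (b : B) :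
    sig ψ b = TensorProduct.map LinearMap.id (ψ : B →ₗ[k] A) (Coalgebra.comul (R := k) b) := by
  simp only [sig, AlgHom.comp_apply, Bialgebra.comulAlgHom_apply]
  generalize Coalgebra.comul (R := k) b = z
  induction z using TensorProduct.induction_on with
  | zero => simp
  | tmul a b => simp
  | add y z hy hz => simp only [map_add, hy, hz]

/-- An ideal `J` of a Hopf algebra `B ⊆ A` with `Δ J ⊆ J ⊗ A` is `0` or `B`. -/
theorem eq_bot_or_top (ψ : B →ₐc[k] A) (hψ : Function.Injective ψ) (J : Ideal B)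
    (hJ : ∀ d ∈ J, sig ψ d ∈ Ideal.map
      (Algebra.TensorProduct.includeLeftRingHom : B →+* B ⊗[k] A) J) : J = ⊥ ∨ J = ⊤ := by
  classical
  by_cases hε : ∀ x ∈ J, Coalgebra.counit (R := k) x = 0
  · left
    rw [eq_bot_iff]
    intro x hx
    rw [Ideal.mem_bot]
    apply hψ
    rw [map_zero]
    let e₁ : B ⊗[k] A →ₐ[k] A := Algebra.TensorProduct.lift
      ((Algebra.ofId k A).comp (Bialgebra.counitAlgHom k B)) (AlgHom.id k A)
      (fun _ _ => Commute.all _ _)
    have h1 : e₁ (sig ψ x) = ψ x := by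
      rw [sig_apply]
      have : ∀ z : B ⊗[k] B, e₁ (TensorProduct.map LinearMap.id (ψ : B →ₗ[k] A) z) =
          ψ (TensorProduct.lid k B (LinearMap.rTensor B (Coalgebra.counit (R := k)) z)) := by
        intro z
        induction z using TensorProduct.induction_on with
        | zero => simp
        | tmul a b =>
          simp [e₁, Algebra.ofId_apply, Algebra.smul_def]
          rw [AlgHomClass.commutes ψ]
        | add y z hy hz => simp only [map_add, hy, hz]
      rw [this, Coalgebra.rTensor_counit_comul]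
      simp
    have h2 : Ideal.map (Algebra.TensorProduct.includeLeftRingHom : B →+* B ⊗[k] A) J ≤
        RingHom.ker (e₁ : B ⊗[k] A →+* A) := by
      rw [Ideal.map_le_iff_le_comap]
      intro j hj
      rw [Ideal.mem_comap, RingHom.mem_ker]
      change e₁ (j ⊗ₜ[k] (1 : A)) = 0
      simp [e₁, hε j hj]
    have h3 := h2 (hJ x hx)
    rw [RingHom.mem_ker] at h3
    rw [← h1]
    exact h3
  · right
    push Not at hε
    obtain ⟨x, hx, hεx⟩ := hε
    obtain ⟨r, hr⟩ := LinearMap.exists_leftInverse_of_injective (ψ : B →ₗ[k] A)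
      (LinearMap.ker_eq_bot.2 hψ)
    let e₂ : B ⊗[k] A →ₗ[k] B := LinearMap.mul' k B ∘ₗ
      TensorProduct.map LinearMap.id ((HopfAlgebra.antipode k (A := B)) ∘ₗ r)
    have h1 : e₂ (sig ψ x) = algebraMap k B (Coalgebra.counit (R := k) x) := by
      rw [sig_apply]
      have : ∀ z : B ⊗[k] B, e₂ (TensorProduct.map LinearMap.id (ψ : B →ₗ[k] A) z) =
          LinearMap.mul' k B (LinearMap.lTensor B (HopfAlgebra.antipode k (A := B)) z) := by
        intro z
        induction z using TensorProduct.induction_on with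
        | zero => simp
        | tmul a b =>
          have : r (ψ b) = b := LinearMap.congr_fun hr b
          simp [e₂, this]
        | add y z hy hz => simp only [map_add, hy, hz]
      rw [this, HopfAlgebra.mul_antipode_lTensor_comul_apply]
    have h2 : ∀ z ∈ Ideal.map (Algebra.TensorProduct.includeLeftRingHom : B →+* B ⊗[k] A) J,
        ∀ r' : B ⊗[k] A, e₂ (r' * z) ∈ J := by
      intro z hz
      rw [Ideal.map] at hz
      induction hz using Submodule.span_induction with
      | zero => intro r'; simp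
      | add y z _ _ hy hz => intro r'; rw [mul_add, map_add]; exact J.add_mem (hy r') (hz r')
      | smul c z _ hz =>
        intro r'
        rw [smul_eq_mul, ← mul_assoc]
        exact hz _
      | mem z hz =>
        obtain ⟨j, hj, rfl⟩ := hz
        intro r'
        change e₂ (r' * (j ⊗ₜ[k] (1 : A))) ∈ J
        induction r' using TensorProduct.induction_on with
        | zero => simp
        | tmul b a =>
          simp only [Algebra.TensorProduct.tmul_mul_tmul, mul_one, e₂, LinearMap.comp_apply,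
            TensorProduct.map_tmul, LinearMap.id_apply, LinearMap.mul'_apply]
          rw [mul_comm b j, mul_assoc]
          exact J.mul_mem_right _ hj
        | add y z hy hz => rw [add_mul, map_add]; exact J.add_mem hy hz
    have h3 := h2 _ (hJ x hx) 1
    rw [one_mul, h1] at h3
    exact Ideal.eq_top_of_isUnit_mem _ h3 ((isUnit_iff_ne_zero.2 hεx).map (algebraMap k B))

section Setup

variable (ψ : B →ₐc[k] A) {n : ℕ} (v : Fin n → A)

/-- the map `Bⁿ → A`, `κ ↦ Σ ψ(κ i) v i`. -/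
def piMap (κ : Fin n → B) : A := ∑ i, ψ (κ i) * v i

lemma piMap_add (κ κ' : Fin n → B) : piMap ψ v (κ + κ') = piMap ψ v κ + piMap ψ v κ' := by
  simp [piMap, add_mul, Finset.sum_add_distrib]

lemma piMap_zero : piMap ψ v 0 = 0 := by simp [piMap]

lemma piMap_smul (b : B) (κ : Fin n → B) : piMap ψ v (b • κ) = ψ b * piMap ψ v κ := by
  simp [piMap, Finset.mul_sum, mul_assoc]

/-- the submodule `π⁻¹(P)` of `Bⁿ`. -/
def KP (P : Submodule k A) (hP1 : ∀ b, ∀ p ∈ P, ψ b * p ∈ P) : Submodule B (Fin n → B) where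
  carrier := {κ | piMap ψ v κ ∈ P}
  add_mem' {κ κ'} h h' := by
    change piMap ψ v (κ + κ') ∈ P
    rw [piMap_add]; exact P.add_mem h h'
  zero_mem' := by
    change piMap ψ v 0 ∈ P
    rw [piMap_zero]; exact P.zero_mem
  smul_mem' b κ h := by
    change piMap ψ v (b • κ) ∈ P
    rw [piMap_smul]; exact hP1 b _ h

lemma mem_KP {P : Submodule k A} {hP1 : ∀ b, ∀ p ∈ P, ψ b * p ∈ P} {κ : Fin n → B} :
    κ ∈ KP ψ v P hP1 ↔ piMap ψ v κ ∈ P := Iff.rfl

/-- `ψ ⊗ id : B ⊗ A → A ⊗ A`. -/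
noncomputable def jj : B ⊗[k] A →ₐ[k] A ⊗[k] A :=
  Algebra.TensorProduct.map (ψ : B →ₐ[k] A) (AlgHom.id k A)

/-- the map `(B ⊗ A)ⁿ → A ⊗ A`. -/
noncomputable def piR (r : Fin n → B ⊗[k] A) : A ⊗[k] A := ∑ l, jj ψ (r l) * (v l ⊗ₜ[k] 1)

lemma jj_sig (b : B) : jj ψ (sig ψ b) = Coalgebra.comul (R := k) (ψ b) := by
  rw [sig_apply]
  have h : ∀ z : B ⊗[k] B, jj ψ (TensorProduct.map LinearMap.id (ψ : B →ₗ[k] A) z) =
      TensorProduct.map (ψ : B →ₗ[k] A) (ψ : B →ₗ[k] A) z := by
    intro z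
    induction z using TensorProduct.induction_on with
    | zero => simp
    | tmul a b => simp [jj]
    | add y z hy hz => simp only [map_add, hy, hz]
  rw [h]
  exact LinearMap.congr_fun (CoalgHomClass.map_comp_comul ψ) b

variable (t : Matrix (Fin n) (Fin n) A)

/-- Claim 1 -/
theorem piR_mulVec (hv : ∀ i, Coalgebra.comul (R := k) (v i) = ∑ l, v l ⊗ₜ[k] t l i)
    (κ : Fin n → B) :
    piR ψ v ((t.map (Algebra.TensorProduct.includeRight : A →ₐ[k] B ⊗[k] A)).mulVec
      (fun i => sig ψ (κ i))) = Coalgebra.comul (R := k) (piMap ψ v κ) := by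
  simp only [piR, piMap, Matrix.mulVec, dotProduct, Matrix.map_apply, map_sum, map_mul, jj_sig,
    Bialgebra.comul_mul, hv]
  simp only [Finset.sum_mul, Finset.mul_sum]
  rw [Finset.sum_comm]
  apply Finset.sum_congr rfl
  intro i _
  apply Finset.sum_congr rfl
  intro l _
  have : jj ψ ((Algebra.TensorProduct.includeRight : A →ₐ[k] B ⊗[k] A) (t l i)) =
      (1 : A) ⊗ₜ[k] t l i := by
    simp [jj]
  rw [this, mul_comm ((1 : A) ⊗ₜ[k] t l i), mul_assoc, Algebra.TensorProduct.tmul_mul_tmul,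
    one_mul, mul_one]

/-- Claim 2 -/
theorem mem_span_of_piR_mem (P : Submodule k A) (hP1 : ∀ b, ∀ p ∈ P, ψ b * p ∈ P)
    (r : Fin n → B ⊗[k] A)
    (h : piR ψ v r ∈ LinearMap.range (LinearMap.rTensor A P.subtype)) :
    r ∈ Submodule.span (B ⊗[k] A)
      ((fun κ : Fin n → B => (Algebra.TensorProduct.includeLeftRingHom : B →+* B ⊗[k] A) ∘ κ) ''
        (KP ψ v P hP1 : Set (Fin n → B))) := by
  classical
  let bA := Module.Basis.ofVectorSpace k A
  have hc : ∀ l, ∃ c : _ →₀ B, c.sum (fun i m => m ⊗ₜ[k] bA i) = r l :=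
    fun l => TensorProduct.eq_repr_basis_right bA (r l)
  choose c hc using hc
  let S : Finset _ := Finset.univ.biUnion (fun l => (c l).support)
  have hr : ∀ l, r l = ∑ β ∈ S, c l β ⊗ₜ[k] bA β := by
    intro l
    rw [← hc l, Finsupp.sum]
    apply Finset.sum_subset
    · intro β hβ; exact Finset.mem_biUnion.2 ⟨l, Finset.mem_univ _, hβ⟩
    · intro β _ hβ; rw [Finsupp.notMem_support_iff.1 hβ, zero_tmul]
  have hpi : piR ψ v r = ∑ β ∈ S, piMap ψ v (fun l => c l β) ⊗ₜ[k] bA β := by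
    simp only [piR, piMap, TensorProduct.sum_tmul]
    rw [Finset.sum_comm]
    apply Finset.sum_congr rfl
    intro l _
    rw [hr l, map_sum, Finset.sum_mul]
    apply Finset.sum_congr rfl
    intro β _
    simp [jj]
  have hκ : ∀ β, (fun l => c l β) ∈ KP ψ v P hP1 := by
    intro β
    rw [mem_KP]
    by_cases hβ : β ∈ S
    · have h0 : LinearMap.rTensor A P.mkQ (piR ψ v r) = 0 := by
        obtain ⟨y, hy⟩ := h
        rw [← hy, ← LinearMap.comp_apply, ← LinearMap.rTensor_comp]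
        have : P.mkQ ∘ₗ P.subtype = 0 := by
          ext p; simp
        rw [this, LinearMap.rTensor_zero, LinearMap.zero_apply]
      rw [hpi, map_sum] at h0
      have h1 := congrArg (fun z => TensorProduct.equivFinsuppOfBasisRight bA z β) h0
      simp only [LinearMap.rTensor_tmul, map_sum, Finsupp.coe_finsetSum, Finset.sum_apply,
        TensorProduct.equivFinsuppOfBasisRight_apply_tmul_apply, Module.Basis.repr_self,
        map_zero, Finsupp.coe_zero, Pi.zero_apply] at h1
      rw [Finset.sum_eq_single β] at h1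
      · simp only [Finsupp.single_eq_same, one_smul] at h1
        exact (Submodule.Quotient.mk_eq_zero P).1 h1
      · intro β' _ hne
        rw [Finsupp.single_eq_of_ne (Ne.symm hne), zero_smul]
      · intro h'; exact absurd hβ h'
    · have : (fun l => c l β) = 0 := by
        funext l
        by_contra hne
        exact hβ (Finset.mem_biUnion.2 ⟨l, Finset.mem_univ _, Finsupp.mem_support_iff.2 hne⟩)
      rw [this, piMap_zero]
      exact P.zero_mem
  have : r = ∑ β ∈ S, ((1 : B) ⊗ₜ[k] bA β) •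
      ((Algebra.TensorProduct.includeLeftRingHom : B →+* B ⊗[k] A) ∘ (fun l => c l β)) := by
    funext l
    rw [hr l, Finset.sum_apply]
    apply Finset.sum_congr rfl
    intro β _
    simp [Algebra.TensorProduct.tmul_mul_tmul]
  rw [this]
  exact Submodule.sum_mem _ (fun β _ => Submodule.smul_mem _ _
    (Submodule.subset_span ⟨_, hκ β, rfl⟩))

end Setup


section Main

variable (ψ : B →ₐc[k] A) {n : ℕ} (v : Fin n → A) (t t' : Matrix (Fin n) (Fin n) A)

theorem sig_mem (hv : ∀ i, Coalgebra.comul (R := k) (v i) = ∑ l, v l ⊗ₜ[k] t l i)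
    (ht : t' * t = 1)
    (P : Submodule k A) (hP1 : ∀ b, ∀ p ∈ P, ψ b * p ∈ P)
    (hP2 : ∀ p ∈ P, Coalgebra.comul (R := k) p ∈ LinearMap.range (LinearMap.rTensor A P.subtype))
    (q : ℕ) :
    ∀ d ∈ minorsIdeal (KP ψ v P hP1 : Set (Fin n → B)) q,
      sig ψ d ∈ Ideal.map (Algebra.TensorProduct.includeLeftRingHom : B →+* B ⊗[k] A)
        (minorsIdeal (KP ψ v P hP1 : Set (Fin n → B)) q) := by
  suffices H : minorsIdeal (KP ψ v P hP1 : Set (Fin n → B)) q ≤
      Ideal.comap ((sig ψ : B →ₐ[k] B ⊗[k] A) : B →+* B ⊗[k] A)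
        (Ideal.map (Algebra.TensorProduct.includeLeftRingHom : B →+* B ⊗[k] A)
          (minorsIdeal (KP ψ v P hP1 : Set (Fin n → B)) q)) from fun d hd => H hd
  apply Ideal.span_le.2
  rintro _ ⟨s, x, hx, rfl⟩
  rw [SetLike.mem_coe, Ideal.mem_comap, map_minor]
  set T : Matrix (Fin n) (Fin n) (B ⊗[k] A) :=
    t.map (Algebra.TensorProduct.includeRight : A →ₐ[k] B ⊗[k] A) with hT
  set T' : Matrix (Fin n) (Fin n) (B ⊗[k] A) :=
    t'.map (Algebra.TensorProduct.includeRight : A →ₐ[k] B ⊗[k] A) with hT'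
  have hTT : T' * T = 1 := by
    rw [hT, hT', ← Matrix.map_mul, ht]
    exact Matrix.map_one _ (map_zero _) (map_one _)
  set G : Set (Fin n → B ⊗[k] A) :=
    (fun κ : Fin n → B => (Algebra.TensorProduct.includeLeftRingHom : B →+* B ⊗[k] A) ∘ κ) ''
      (KP ψ v P hP1 : Set (Fin n → B)) with hG
  have hN : ∀ a, T.mulVec (fun i => sig ψ (x a i)) ∈ Submodule.span (B ⊗[k] A) G := by
    intro a
    apply mem_span_of_piR_mem
    rw [piR_mulVec ψ v t hv]
    exact hP2 _ (hx a)
  have hmem : ∀ a, ((sig ψ : B →ₐ[k] B ⊗[k] A) : B →+* B ⊗[k] A) ∘ x a ∈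
      (Matrix.mulVecLin T') '' (Submodule.span (B ⊗[k] A) G : Set (Fin n → B ⊗[k] A)) := by
    intro a
    refine ⟨_, hN a, ?_⟩
    rw [Matrix.mulVecLin_apply, Matrix.mulVec_mulVec, hTT, Matrix.one_mulVec]
    rfl
  have h1 := minor_mem s hmem
  have h2 := minorsIdeal_image_le (Matrix.mulVecLin T')
    (Submodule.span (B ⊗[k] A) G : Set (Fin n → B ⊗[k] A)) q h1
  rw [minorsIdeal_span, hG, minorsIdeal_ringHom_image] at h2
  exact h2

/-- `π⁻¹(P)` is a direct summand of `Bⁿ`. -/
theorem exists_proj_KP (hψ : Function.Injective ψ)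
    (hv : ∀ i, Coalgebra.comul (R := k) (v i) = ∑ l, v l ⊗ₜ[k] t l i)
    (ht : t' * t = 1)
    (P : Submodule k A) (hP1 : ∀ b, ∀ p ∈ P, ψ b * p ∈ P)
    (hP2 : ∀ p ∈ P, Coalgebra.comul (R := k) p ∈
      LinearMap.range (LinearMap.rTensor A P.subtype)) :
    ∃ E : (Fin n → B) →ₗ[B] (Fin n → B),
      (∀ y, E y ∈ KP ψ v P hP1) ∧ ∀ y ∈ KP ψ v P hP1, E y = y := by
  classical
  have h : ∀ q, minorsIdeal (KP ψ v P hP1 : Set (Fin n → B)) q = ⊥ ∨
      minorsIdeal (KP ψ v P hP1 : Set (Fin n → B)) q = ⊤ := fun q =>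
    eq_bot_or_top ψ hψ _ (sig_mem ψ v t t' hv ht P hP1 hP2 q)
  have hex : ∃ q, minorsIdeal (KP ψ v P hP1 : Set (Fin n → B)) (q + 1) = ⊥ :=
    ⟨n, minorsIdeal_succ _⟩
  have hq := Nat.find_spec hex
  have hq' : minorsIdeal (KP ψ v P hP1 : Set (Fin n → B)) (Nat.find hex) = ⊤ := by
    rcases Nat.eq_zero_or_pos (Nat.find hex) with h0 | h0
    · rw [h0]; exact minorsIdeal_zero _
    · obtain ⟨q', hq'⟩ := Nat.exists_eq_succ_of_ne_zero (Nat.pos_iff_ne_zero.1 h0)
      have hmin := Nat.find_min hex (m := q') (by omega)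
      rw [hq']
      rcases h (q' + 1) with h' | h'
      · exact absurd h' hmin
      · exact h'
  exact Minors.exists_proj _ _ hq' hq

end Main

end Groth.Agent.Lib.Helper7.HopfFlat
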