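import Groth.Agent.Lib.Helper7.HopfCotangent

/-!
# The kernel of Frobenius of an infinitesimal group scheme is a truncated polynomial algebra
(helper7)
-/

universe u v

open TensorProduct

namespace Groth.Agent.Lib.Helper7.FrobKer

open Groth.Agent.Lib.Helper7.HopfCot

section Indep

variable {k : Type u} [Field k] (p : ℕ) [Fact p.Prime] [CharP k p]
  {A : Type v} [CommRing A] [Bialgebra k A] {ι : Type} [Fintype ι]

lemma pderiv_mem_restrictDegree (i : ι) {P : MvPolynomial ι k} {m : ℕ}
    (hP : P ∈ MvPolynomial.restrictDegree ι k m) :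
    MvPolynomial.pderiv i P ∈ MvPolynomial.restrictDegree ι k m := by
  classical
  rw [MvPolynomial.mem_restrictDegree] at hP ⊢
  intro s hs j
  rw [MvPolynomial.mem_support_iff, MvPolynomial.coeff_pderiv] at hs
  have h1 : MvPolynomial.coeff (s + Finsupp.single i 1) P ≠ 0 := by
    intro h
    apply hs
    rw [h, zero_mul]
  have := hP _ (MvPolynomial.mem_support_iff.2 h1) j
  rw [Finsupp.add_apply] at this
  omega

/-- `p`-reduced monomials of degree `n` in lifts of a basis of the cotangent space are linearly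
independent modulo `I^(n+1) + J` for any ideal `J ≤ I` stable under the invariant derivations. -/
theorem eq_zero_of_aeval_mem_sup (b : Module.Basis ι k (augI k A).Cotangent) (x : ι → A)
    (hxI : ∀ i, x i ∈ augI k A) (hxb : ∀ i, (augI k A).toCotangent ⟨x i, hxI i⟩ = b i)
    (J : Ideal A) (hJI : J ≤ augI k A)
    (hJ : ∀ (l : (augI k A).Cotangent →ₗ[k] k) (a : A), a ∈ J → DOf l a ∈ J) (n : ℕ) :
    ∀ P : MvPolynomial ι k, P.IsHomogeneous n → P ∈ MvPolynomial.restrictDegree ι k (p - 1) →
      MvPolynomial.aeval x P ∈ augI k A ^ (n + 1) ⊔ J → P = 0 := by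
  classical
  induction n with
  | zero =>
    intro P hP _ hmem
    rw [← MvPolynomial.totalDegree_zero_iff_isHomogeneous,
      MvPolynomial.totalDegree_eq_zero_iff_eq_C] at hP
    rw [zero_add, pow_one, sup_eq_left.2 hJI] at hmem
    rw [hP, MvPolynomial.aeval_C, mem_augI, Bialgebra.counit_algebraMap] at hmem
    rw [hP]
    change MvPolynomial.C (MvPolynomial.coeff 0 P) = 0
    rw [show MvPolynomial.coeff 0 P = 0 from hmem, map_zero]
  | succ n ih =>
    intro P hP hPr hmem
    have hpd : ∀ i, MvPolynomial.pderiv i P = 0 := by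
      intro i
      apply ih _ (by simpa using hP.pderiv (i := i)) (pderiv_mem_restrictDegree i hPr)
      have hch := chain_rule (DOf (b.coord i)) (DOf_mul (b.coord i)) x P
      have hu : ∀ j, DOf (b.coord i) (x j) - (if i = j then 1 else 0) ∈ augI k A := by
        intro j
        rw [mem_augI, map_sub, counit_DOf, dOf_of_mem _ (hxI j), hxb j, Module.Basis.coord_apply,
          Module.Basis.repr_self, Finsupp.single_apply]
        by_cases hij : i = j
        · simp [hij]
        · simp [hij, Ne.symm hij]
      have e : MvPolynomial.aeval x (MvPolynomial.pderiv i P) =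
          DOf (b.coord i) (MvPolynomial.aeval x P) -
            ∑ j, MvPolynomial.aeval x (MvPolynomial.pderiv j P) *
              (DOf (b.coord i) (x j) - (if i = j then 1 else 0)) := by
        rw [hch]
        simp only [mul_sub, Finset.sum_sub_distrib, mul_ite, mul_one, mul_zero,
          Finset.sum_ite_eq, Finset.mem_univ, if_true]
        ring
      rw [e]
      have hD : DOf (b.coord i) (MvPolynomial.aeval x P) ∈ augI k A ^ (n + 1) ⊔ J := by
        obtain ⟨y, hy, z, hz, hyz⟩ := Submodule.mem_sup.1 hmem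
        rw [← hyz, map_add]
        exact Submodule.add_mem_sup (DOf_mem_pow _ _ _ hy) (hJ _ _ hz)
      refine Ideal.sub_mem _ hD (Ideal.sum_mem _ (fun j _ => ?_))
      apply Ideal.mem_sup_left
      rw [pow_succ]
      refine Ideal.mul_mem_mul ?_ (hu j)
      have := aeval_mem_pow_of_isHomogeneous (I := augI k A) hxI (hP.pderiv (i := j))
      simpa using this
    -- all coefficients vanish
    ext α
    rw [MvPolynomial.coeff_zero]
    by_contra hα
    have hαs : α ∈ P.support := MvPolynomial.mem_support_iff.2 hα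
    have hdeg : α.degree = n + 1 := by
      rw [Finsupp.degree_eq_weight_one]
      exact hP hα
    -- some `α i ≥ 1`
    have hex : ∃ i, α i ≠ 0 := by
      by_contra hne
      push Not at hne
      have : α = 0 := by
        ext i; exact hne i
      rw [this] at hdeg
      simp at hdeg
    obtain ⟨i, hi⟩ := hex
    have hlt : α i ≤ p - 1 := (MvPolynomial.mem_restrictDegree _ _ _).1 hPr α hαs i
    have hαeq : α = (α - Finsupp.single i 1) + Finsupp.single i 1 := by
      ext j
      by_cases hj : j = i
      · subst hj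
        simp only [Finsupp.add_apply, Finsupp.tsub_apply, Finsupp.single_eq_same]
        omega
      · simp [Finsupp.single_apply, Ne.symm hj]
    have h1 := MvPolynomial.coeff_pderiv (i := i) P (α - Finsupp.single i 1)
    rw [hpd i, MvPolynomial.coeff_zero, ← hαeq] at h1
    have hcast : ((((α - Finsupp.single i 1 : ι →₀ ℕ) i : ℕ) : k)) + 1 = ((α i : ℕ) : k) := by
      rw [Finsupp.tsub_apply, Finsupp.single_eq_same, ← Nat.cast_one (R := k), ← Nat.cast_add]
      congr 1
      omega
    rw [hcast] at h1
    have hne : ((α i : ℕ) : k) ≠ 0 := by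
      rw [Ne, CharP.cast_eq_zero_iff k p]
      intro hdvd
      have hp : 2 ≤ p := (Fact.out : p.Prime).two_le
      have := Nat.le_of_dvd (Nat.pos_of_ne_zero hi) hdvd
      omega
    rcases mul_eq_zero.1 h1.symm with h | h
    · exact hα h
    · exact hne h

/-- a `p`-reduced polynomial in lifts of a basis of the cotangent space which lies in `J` is
zero. -/
theorem eq_zero_of_aeval_mem (b : Module.Basis ι k (augI k A).Cotangent) (x : ι → A)
    (hxI : ∀ i, x i ∈ augI k A) (hxb : ∀ i, (augI k A).toCotangent ⟨x i, hxI i⟩ = b i)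
    (J : Ideal A) (hJI : J ≤ augI k A)
    (hJ : ∀ (l : (augI k A).Cotangent →ₗ[k] k) (a : A), a ∈ J → DOf l a ∈ J)
    (P : MvPolynomial ι k) (hPr : P ∈ MvPolynomial.restrictDegree ι k (p - 1))
    (hmem : MvPolynomial.aeval x P ∈ J) : P = 0 := by
  classical
  by_contra hP
  have hex : ∃ n, MvPolynomial.homogeneousComponent n P ≠ 0 := by
    by_contra h
    push Not at h
    apply hP
    rw [← MvPolynomial.sum_homogeneousComponent P]
    exact Finset.sum_eq_zero (fun i _ => h i)
  have hn : MvPolynomial.homogeneousComponent (Nat.find hex) P ≠ 0 := Nat.find_spec hex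
  have hlt : ∀ m < Nat.find hex, MvPolynomial.homogeneousComponent m P = 0 := fun m hm =>
    by_contra (fun h => Nat.find_min hex hm h)
  set n := Nat.find hex with hndef
  have hnr : n ∈ Finset.range (P.totalDegree + 1) := by
    rw [Finset.mem_range]
    by_contra h
    exact hn (MvPolynomial.homogeneousComponent_eq_zero n P (by omega))
  have hcr : ∀ m, MvPolynomial.homogeneousComponent m P ∈ MvPolynomial.restrictDegree ι k (p - 1) := by
    intro m
    rw [MvPolynomial.mem_restrictDegree] at hPr ⊢
    intro s hs i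
    rw [MvPolynomial.mem_support_iff, MvPolynomial.coeff_homogeneousComponent] at hs
    split_ifs at hs with h
    · exact hPr s (MvPolynomial.mem_support_iff.2 hs) i
    · exact absurd rfl hs
  apply hn
  apply eq_zero_of_aeval_mem_sup p b x hxI hxb J hJI hJ n _
    (MvPolynomial.homogeneousComponent_isHomogeneous n P) (hcr n)
  have hsum : MvPolynomial.aeval x (MvPolynomial.homogeneousComponent n P) =
      MvPolynomial.aeval x P - ∑ m ∈ (Finset.range (P.totalDegree + 1)).erase n,
        MvPolynomial.aeval x (MvPolynomial.homogeneousComponent m P) := by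
    have hP' : MvPolynomial.aeval x P = ∑ m ∈ Finset.range (P.totalDegree + 1),
        MvPolynomial.aeval x (MvPolynomial.homogeneousComponent m P) := by
      rw [← map_sum, MvPolynomial.sum_homogeneousComponent]
    rw [hP', ← Finset.add_sum_erase _ _ hnr]
    ring
  rw [hsum]
  refine Ideal.sub_mem _ (Ideal.mem_sup_right hmem) (Ideal.sum_mem _ (fun m hm => ?_))
  rw [Finset.mem_erase] at hm
  rcases lt_or_gt_of_ne hm.1 with h | h
  · rw [hlt m h, map_zero]
    exact Ideal.zero_mem _
  · apply Ideal.mem_sup_left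
    exact Ideal.pow_le_pow_right (by omega : n + 1 ≤ m)
      (aeval_mem_pow_of_isHomogeneous hxI (MvPolynomial.homogeneousComponent_isHomogeneous m P))

end Indep

section Struct

variable {k : Type u} [Field k] (p : ℕ) [Fact p.Prime] [CharP k p]
  {A : Type v} [CommRing A] [Bialgebra k A]

/-- the ideal generated by the `p`-th powers of the elements of the augmentation ideal. -/
def frobI (k : Type u) [Field k] (A : Type v) [CommRing A] [Bialgebra k A] (p : ℕ) : Ideal A :=
  Ideal.span ((fun a : A => a ^ p) '' (augI k A : Set A))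

lemma frobI_le : frobI k A p ≤ augI k A := by
  apply Ideal.span_le.2
  rintro _ ⟨a, ha, rfl⟩
  have hp : p ≠ 0 := (Fact.out : p.Prime).ne_zero
  exact Ideal.pow_mem_of_mem _ ha p (Nat.pos_of_ne_zero hp)

lemma DOf_pow (l : (augI k A).Cotangent →ₗ[k] k) (a : A) (n : ℕ) :
    DOf l (a ^ (n + 1)) = ((n + 1 : ℕ) : A) * a ^ n * DOf l a := by
  induction n with
  | zero => simp
  | succ n ih =>
    rw [pow_succ, DOf_mul, ih]
    push_cast
    ring

lemma DOf_pow_p (l : (augI k A).Cotangent →ₗ[k] k) (a : A) : DOf l (a ^ p) = 0 := by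
  have hp : p ≠ 0 := (Fact.out : p.Prime).ne_zero
  obtain ⟨n, rfl⟩ := Nat.exists_eq_succ_of_ne_zero hp
  rw [DOf_pow]
  have : ((n + 1 : ℕ) : A) = 0 := by
    have h1 : ((n + 1 : ℕ) : k) = 0 := (CharP.cast_eq_zero_iff k (n + 1) (n + 1)).2 dvd_rfl
    have h2 : ((n + 1 : ℕ) : A) = algebraMap k A ((n + 1 : ℕ) : k) := by
      rw [map_natCast]
    rw [h2, h1, map_zero]
  rw [this, zero_mul, zero_mul]

lemma DOf_mem_frobI (l : (augI k A).Cotangent →ₗ[k] k) (a : A) (ha : a ∈ frobI k A p) :
    DOf l a ∈ frobI k A p := by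
  unfold frobI at ha
  refine Submodule.span_induction (p := fun y _ => DOf l y ∈ frobI k A p) ?_ ?_ ?_ ?_ ha
  · rintro _ ⟨b, _, rfl⟩
    rw [DOf_pow_p]
    exact Ideal.zero_mem _
  · rw [map_zero]; exact Ideal.zero_mem _
  · intro y z _ _ hy hz
    rw [map_add]; exact Ideal.add_mem _ hy hz
  · intro c y hy hDy
    rw [smul_eq_mul, DOf_mul]
    exact Ideal.add_mem _ (Ideal.mul_mem_left _ _ hDy) (Ideal.mul_mem_left _ _ hy)

variable {ι : Type} [Fintype ι]

/-- reduction of a polynomial modulo the `p`-th powers of the variables. -/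
lemma exists_reduced (Q : MvPolynomial ι k) :
    ∃ Q' ∈ MvPolynomial.restrictDegree ι k (p - 1),
      Q - Q' ∈ Ideal.span (Set.range fun i : ι => (MvPolynomial.X i : MvPolynomial ι k) ^ p) := by
  classical
  have hp : 1 ≤ p := (Fact.out : p.Prime).one_le
  induction Q using MvPolynomial.induction_on' with
  | monomial α c =>
    by_cases h : ∀ i, α i ≤ p - 1
    · refine ⟨MvPolynomial.monomial α c, ?_, by rw [sub_self]; exact Ideal.zero_mem _⟩
      rw [MvPolynomial.mem_restrictDegree]
      intro s hs i
      have : s = α := by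
        by_contra hne
        rw [MvPolynomial.mem_support_iff, MvPolynomial.coeff_monomial, if_neg (Ne.symm hne)] at hs
        exact hs rfl
      rw [this]; exact h i
    · push Not at h
      obtain ⟨i, hi⟩ := h
      refine ⟨0, Submodule.zero_mem _, ?_⟩
      rw [sub_zero]
      have hle : Finsupp.single i p ≤ α := by
        rw [Finsupp.single_le_iff]
        omega
      have : MvPolynomial.monomial α c =
          MvPolynomial.monomial (α - Finsupp.single i p) c * (MvPolynomial.X i) ^ p := by
        rw [MvPolynomial.X_pow_eq_monomial, MvPolynomial.monomial_mul, mul_one,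
          tsub_add_cancel_of_le hle]
      rw [this]
      exact Ideal.mul_mem_left _ _ (Ideal.subset_span ⟨i, rfl⟩)
  | add Q₁ Q₂ h₁ h₂ =>
    obtain ⟨Q₁', h1r, h1⟩ := h₁
    obtain ⟨Q₂', h2r, h2⟩ := h₂
    refine ⟨Q₁' + Q₂', Submodule.add_mem _ h1r h2r, ?_⟩
    have : Q₁ + Q₂ - (Q₁' + Q₂') = (Q₁ - Q₁') + (Q₂ - Q₂') := by ring
    rw [this]
    exact Ideal.add_mem _ h1 h2

variable [Module.Finite k A] [IsLocalRing A]

lemma exists_pow_augI_eq_bot : ∃ N : ℕ, augI k A ^ N = ⊥ := by
  haveI : IsArtinianRing A := IsArtinianRing.of_finite k A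
  have hmax : (augI k A).IsMaximal := by
    apply RingHom.ker_isMaximal_of_surjective
    intro c
    exact ⟨algebraMap k A c, by simp⟩
  have h1 : augI k A = IsLocalRing.maximalIdeal A := IsLocalRing.eq_maximalIdeal hmax
  have h2 := IsArtinianRing.isNilpotent_jacobson_bot (R := A)
  rw [IsLocalRing.jacobson_eq_maximalIdeal ⊥ bot_ne_top, ← h1] at h2
  obtain ⟨N, hN⟩ := h2
  exact ⟨N, hN⟩

lemma aeval_surjective (b : Module.Basis ι k (augI k A).Cotangent) (x : ι → A)
    (hxI : ∀ i, x i ∈ augI k A) (hxb : ∀ i, (augI k A).toCotangent ⟨x i, hxI i⟩ = b i) :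
    Function.Surjective (MvPolynomial.aeval x : MvPolynomial ι k →ₐ[k] A) := by
  obtain ⟨N, hN⟩ := exists_pow_augI_eq_bot (k := k) (A := A)
  have key : ∀ n : ℕ, (⊤ : Submodule k A) ≤
      LinearMap.range (MvPolynomial.aeval x : MvPolynomial ι k →ₐ[k] A).toLinearMap ⊔
        (augI k A ^ n).restrictScalars k := by
    intro n
    induction n with
    | zero =>
      rw [pow_zero, Ideal.one_eq_top]
      intro a _
      exact Submodule.mem_sup_right trivial
    | succ n ih =>
      refine ih.trans (sup_le le_sup_left ?_)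
      refine (pow_le_Hn_sup b x hxI hxb n).trans (sup_le ?_ le_sup_right)
      refine le_trans ?_ le_sup_left
      rintro _ ⟨P, _, rfl⟩
      exact ⟨P, rfl⟩
  intro a
  have := key N (Submodule.mem_top (x := a))
  rw [hN] at this
  obtain ⟨y, hy, z, hz, hyz⟩ := Submodule.mem_sup.1 this
  have hz0 : z = 0 := by simpa using hz
  obtain ⟨P, rfl⟩ := hy
  exact ⟨P, by rw [← hyz, hz0, add_zero]; rfl⟩

/-- the structure of the Frobenius kernel. -/
theorem nonempty_algEquiv (d : ℕ) (hd : Module.finrank k (augI k A).Cotangent = d) :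
    Nonempty ((A ⧸ frobI k A p) ≃ₐ[k]
      (MvPolynomial (Fin d) k ⧸ Ideal.span (Set.range fun i : Fin d =>
        (MvPolynomial.X i : MvPolynomial (Fin d) k) ^ p))) := by
  classical
  haveI : Module.Finite k (augI k A).Cotangent := by
    haveI : IsNoetherian k A := inferInstance
    haveI : Module.Finite k (augI k A) := Module.Finite.of_injective
      ((augI k A).restrictScalars k).subtype Subtype.val_injective
    exact Module.Finite.of_surjective ((augI k A).toCotangent.restrictScalars k)
      (Ideal.toCotangent_surjective _)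
  let b := Module.finBasisOfFinrankEq k (augI k A).Cotangent hd
  have hsurj : ∀ i, ∃ xi : augI k A, (augI k A).toCotangent xi = b i :=
    fun i => Ideal.toCotangent_surjective _ (b i)
  choose xi hxi using hsurj
  let x : Fin d → A := fun i => (xi i : A)
  have hxI : ∀ i, x i ∈ augI k A := fun i => (xi i).2
  have hxb : ∀ i, (augI k A).toCotangent ⟨x i, hxI i⟩ = b i := fun i => hxi i
  let Φ : MvPolynomial (Fin d) k →ₐ[k] A ⧸ frobI k A p :=
    (Ideal.Quotient.mkₐ k (frobI k A p)).comp (MvPolynomial.aeval x)
  have hΦs : Function.Surjective Φ :=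
    (Ideal.Quotient.mkₐ_surjective k _).comp (aeval_surjective b x hxI hxb)
  have hker : RingHom.ker Φ = Ideal.span (Set.range fun i : Fin d =>
      (MvPolynomial.X i : MvPolynomial (Fin d) k) ^ p) := by
    apply le_antisymm
    · intro Q hQ
      obtain ⟨Q', hQ'r, hQQ'⟩ := exists_reduced p Q
      have hQ'k : Q' ∈ RingHom.ker Φ := by
        have h1 : Q - Q' ∈ RingHom.ker Φ := by
          refine (Ideal.span_le.2 ?_) hQQ'
          rintro _ ⟨i, rfl⟩
          change Φ ((MvPolynomial.X i) ^ p) = 0
          change Ideal.Quotient.mk _ (MvPolynomial.aeval x ((MvPolynomial.X i) ^ p)) = 0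
          rw [map_pow, MvPolynomial.aeval_X, Ideal.Quotient.eq_zero_iff_mem]
          exact Ideal.subset_span ⟨x i, hxI i, rfl⟩
        have : Q' = Q - (Q - Q') := by ring
        rw [this]
        exact Ideal.sub_mem _ hQ h1
      have hmem : MvPolynomial.aeval x Q' ∈ frobI k A p := by
        rw [RingHom.mem_ker] at hQ'k
        exact Ideal.Quotient.eq_zero_iff_mem.1 hQ'k
      have hQ'0 := eq_zero_of_aeval_mem p b x hxI hxb (frobI k A p) (frobI_le p)
        (DOf_mem_frobI p) Q' hQ'r hmem
      rw [hQ'0, sub_zero] at hQQ'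
      exact hQQ'
    · apply Ideal.span_le.2
      rintro _ ⟨i, rfl⟩
      change Φ ((MvPolynomial.X i) ^ p) = 0
      change Ideal.Quotient.mk _ (MvPolynomial.aeval x ((MvPolynomial.X i) ^ p)) = 0
      rw [map_pow, MvPolynomial.aeval_X, Ideal.Quotient.eq_zero_iff_mem]
      exact Ideal.subset_span ⟨x i, hxI i, rfl⟩
  exact ⟨((Ideal.quotientEquivAlgOfEq k hker).symm.trans
    (Ideal.quotientKerAlgEquivOfSurjective hΦs)).symm⟩

end Struct

end Groth.Agent.Lib.Helper7.FrobKer
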