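import Mathlib.RingTheory.HopfAlgebra.Basic
import Mathlib.RingTheory.Bialgebra.Basic
import Mathlib.Algebra.Algebra.Subalgebra.Lattice
import Mathlib.Tactic.NoncommRing

/-!
# Antipode axioms can be checked on algebra generators (helper7)

For a bialgebra `H` (not necessarily commutative) and a linear anti-multiplicative map `S`, the
antipode identities hold on all of `H` as soon as they hold on a generating set.
-/

universe u v

open TensorProduct

namespace Groth.Agent.Lib.Helper7.HopfGenAntipode

variable {k : Type u} [CommRing k] {H : Type v} [Ring H] [Bialgebra k H]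
  (S : H →ₗ[k] H)

/-- `c ⊗ d ↦ S c * x * d`. -/
noncomputable def Al (x : H) : H ⊗[k] H →ₗ[k] H :=
  LinearMap.mul' k H ∘ₗ TensorProduct.map (LinearMap.mulRight k x ∘ₗ S) LinearMap.id

/-- `c ⊗ d ↦ c * x * S d`. -/
noncomputable def Ar (x : H) : H ⊗[k] H →ₗ[k] H :=
  LinearMap.mul' k H ∘ₗ TensorProduct.map LinearMap.id (LinearMap.mulLeft k x ∘ₗ S)

lemma Al_tmul (x c d : H) : Al S x (c ⊗ₜ[k] d) = S c * x * d := by
  simp [Al]

lemma Ar_tmul (x c d : H) : Ar S x (c ⊗ₜ[k] d) = c * (x * S d) := by
  simp [Ar]

lemma Al_one (t : H ⊗[k] H) : Al S 1 t = LinearMap.mul' k H (S.rTensor H t) := by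
  induction t using TensorProduct.induction_on with
  | zero => simp
  | tmul c d => simp [Al_tmul]
  | add t t' h h' => rw [map_add, h, h', map_add, map_add]

lemma Ar_one (t : H ⊗[k] H) : Ar S 1 t = LinearMap.mul' k H (S.lTensor H t) := by
  induction t using TensorProduct.induction_on with
  | zero => simp
  | tmul c d => simp [Ar_tmul]
  | add t t' h h' => rw [map_add, h, h', map_add, map_add]

lemma Al_add (x x' : H) (t : H ⊗[k] H) : Al S (x + x') t = Al S x t + Al S x' t := by
  induction t using TensorProduct.induction_on with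
  | zero => simp
  | tmul c d => simp only [Al_tmul]; noncomm_ring
  | add t t' h h' => rw [map_add, h, h', map_add, map_add]; abel

lemma Ar_add (x x' : H) (t : H ⊗[k] H) : Ar S (x + x') t = Ar S x t + Ar S x' t := by
  induction t using TensorProduct.induction_on with
  | zero => simp
  | tmul c d => simp only [Ar_tmul]; noncomm_ring
  | add t t' h h' => rw [map_add, h, h', map_add, map_add]; abel

lemma Al_zero (t : H ⊗[k] H) : Al S 0 t = 0 := by
  induction t using TensorProduct.induction_on with
  | zero => simp
  | tmul c d => simp [Al_tmul]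
  | add t t' h h' => rw [map_add, h, h', add_zero]

lemma Ar_zero (t : H ⊗[k] H) : Ar S 0 t = 0 := by
  induction t using TensorProduct.induction_on with
  | zero => simp
  | tmul c d => simp [Ar_tmul]
  | add t t' h h' => rw [map_add, h, h', add_zero]

lemma Al_smul (a : k) (x : H) (t : H ⊗[k] H) : Al S (a • x) t = a • Al S x t := by
  induction t using TensorProduct.induction_on with
  | zero => simp
  | tmul c d => simp only [Al_tmul, mul_smul_comm, smul_mul_assoc]
  | add t t' h h' => rw [map_add, h, h', map_add, smul_add]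

lemma Ar_smul (a : k) (x : H) (t : H ⊗[k] H) : Ar S (a • x) t = a • Ar S x t := by
  induction t using TensorProduct.induction_on with
  | zero => simp
  | tmul c d => simp only [Ar_tmul, mul_smul_comm, smul_mul_assoc]
  | add t t' h h' => rw [map_add, h, h', map_add, smul_add]

variable (hSmul : ∀ a c : H, S (a * c) = S c * S a)

include hSmul in
lemma Al_mul (t t' : H ⊗[k] H) : Al S 1 (t * t') = Al S (Al S 1 t) t' := by
  induction t using TensorProduct.induction_on with
  | zero => rw [zero_mul, map_zero, Al_zero]
  | tmul a c =>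
    induction t' using TensorProduct.induction_on with
    | zero => rw [mul_zero, map_zero, map_zero]
    | tmul a' c' =>
      rw [Algebra.TensorProduct.tmul_mul_tmul, Al_tmul, Al_tmul, Al_tmul, hSmul]
      noncomm_ring
    | add t t' h h' => rw [mul_add, map_add, h, h', map_add]
  | add t₁ t₂ h₁ h₂ => rw [add_mul, map_add, h₁, h₂, map_add, Al_add]

include hSmul in
lemma Ar_mul (t t' : H ⊗[k] H) : Ar S 1 (t * t') = Ar S (Ar S 1 t') t := by
  induction t' using TensorProduct.induction_on with
  | zero => rw [mul_zero, map_zero, Ar_zero]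
  | tmul a' c' =>
    induction t using TensorProduct.induction_on with
    | zero => rw [zero_mul, map_zero, map_zero]
    | tmul a c =>
      rw [Algebra.TensorProduct.tmul_mul_tmul, Ar_tmul, Ar_tmul, Ar_tmul, hSmul]
      noncomm_ring
    | add t t' h h' => rw [add_mul, map_add, h, h', map_add]
  | add t₁ t₂ h₁ h₂ => rw [mul_add, map_add, h₁, h₂, map_add, Ar_add]

include hSmul in
/-- **Antipode axioms from generators.** -/
theorem antipode_axioms_of_generators (hS1 : S 1 = 1) (G : Set H)
    (hG : Algebra.adjoin k G = ⊤)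
    (h1 : ∀ g ∈ G, LinearMap.mul' k H (S.rTensor H (Coalgebra.comul (R := k) g)) =
      algebraMap k H (Coalgebra.counit (R := k) g))
    (h2 : ∀ g ∈ G, LinearMap.mul' k H (S.lTensor H (Coalgebra.comul (R := k) g)) =
      algebraMap k H (Coalgebra.counit (R := k) g)) :
    (LinearMap.mul' k H ∘ₗ S.rTensor H ∘ₗ Coalgebra.comul =
      (Algebra.linearMap k H) ∘ₗ Coalgebra.counit) ∧
    (LinearMap.mul' k H ∘ₗ S.lTensor H ∘ₗ Coalgebra.comul =
      (Algebra.linearMap k H) ∘ₗ Coalgebra.counit) := by
  let P : Subalgebra k H :=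
    { carrier := {v | Al S 1 (Coalgebra.comul (R := k) v) =
          algebraMap k H (Coalgebra.counit (R := k) v) ∧
        Ar S 1 (Coalgebra.comul (R := k) v) = algebraMap k H (Coalgebra.counit (R := k) v)}
      mul_mem' := by
        rintro v w ⟨hv1, hv2⟩ ⟨hw1, hw2⟩
        refine ⟨?_, ?_⟩
        · rw [Bialgebra.comul_mul, Al_mul S hSmul, hv1, Algebra.algebraMap_eq_smul_one, Al_smul,
            hw1, Bialgebra.counit_mul, map_mul, Algebra.smul_def]
        · rw [Bialgebra.comul_mul, Ar_mul S hSmul, hw2, Algebra.algebraMap_eq_smul_one, Ar_smul,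
            hv2, Bialgebra.counit_mul, map_mul, Algebra.smul_def]
          exact Algebra.commutes _ _
      add_mem' := by
        rintro v w ⟨hv1, hv2⟩ ⟨hw1, hw2⟩
        exact ⟨by rw [map_add, map_add, hv1, hw1, map_add, map_add],
          by rw [map_add, map_add, hv2, hw2, map_add, map_add]⟩
      algebraMap_mem' := by
        intro c
        refine ⟨?_, ?_⟩
        · rw [Algebra.algebraMap_eq_smul_one, map_smul, map_smul, Bialgebra.comul_one, map_smul,
            Bialgebra.counit_one, Algebra.TensorProduct.one_def, Al_tmul, hS1]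
          simp [Algebra.algebraMap_eq_smul_one]
        · rw [Algebra.algebraMap_eq_smul_one, map_smul, map_smul, Bialgebra.comul_one, map_smul,
            Bialgebra.counit_one, Algebra.TensorProduct.one_def, Ar_tmul, hS1]
          simp [Algebra.algebraMap_eq_smul_one] }
  have hP : (⊤ : Subalgebra k H) ≤ P := by
    rw [← hG]
    apply Algebra.adjoin_le
    intro g hg
    exact ⟨by rw [Al_one]; exact h1 g hg, by rw [Ar_one]; exact h2 g hg⟩
  refine ⟨?_, ?_⟩
  · ext v
    have := (hP (Algebra.mem_top : v ∈ (⊤ : Subalgebra k H))).1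
    rw [Al_one] at this
    exact this
  · ext v
    have := (hP (Algebra.mem_top : v ∈ (⊤ : Subalgebra k H))).2
    rw [Ar_one] at this
    exact this

end Groth.Agent.Lib.Helper7.HopfGenAntipode
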