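import Groth.Agent.Lib.Helper7.HopfTwist
import Groth.Agent.Lib.Helper7.ComodIntegral
import Groth.Agent.Lib.Helper7.ComodLR

/-!
# Total integrals on a commutative Hopf algebra give complete reducibility (helper7)
-/

universe u v v' w w' w''

open TensorProduct

namespace Groth.Agent.Lib.Helper7.Comod

open HopfRep

section Diag

variable {k : Type u} [CommRing k] {A : Type v} [CommRing A] [HopfAlgebra k A]
variable {V : Type w} [AddCommGroup V] [Module k V] [Comod k A V]

/-- `(u ⊗ b', b ⊗ c) ↦ (u ⊗ b) ⊗ (b' c)`. -/
noncomputable def pairD (y : V ⊗[k] A) (d : A ⊗[k] A) : (V ⊗[k] A) ⊗[k] A :=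
  TensorProduct.map LinearMap.id (LinearMap.mul' k A)
    (AlgebraTensorModule.tensorTensorTensorComm k k k k V A A A (y ⊗ₜ[k] d))

omit [Comod k A V] in
@[simp] lemma pairD_tmul (u : V) (b' b c : A) :
    pairD (u ⊗ₜ[k] b') (b ⊗ₜ[k] c) = (u ⊗ₜ[k] b) ⊗ₜ[k] (b' * c) := by
  simp [pairD]

omit [Comod k A V] in
lemma pairD_add_left (y z : V ⊗[k] A) (d : A ⊗[k] A) : pairD (y + z) d = pairD y d + pairD z d := by
  simp [pairD, TensorProduct.add_tmul]

omit [Comod k A V] in
lemma pairD_add_right (y : V ⊗[k] A) (d e : A ⊗[k] A) : pairD y (d + e) = pairD y d + pairD y e := by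
  simp [pairD, TensorProduct.tmul_add]

omit [Comod k A V] in
@[simp] lemma pairD_zero_left (d : A ⊗[k] A) : pairD (0 : V ⊗[k] A) d = 0 := by
  simp [pairD]

omit [Comod k A V] in
@[simp] lemma pairD_zero_right (y : V ⊗[k] A) : pairD y (0 : A ⊗[k] A) = 0 := by
  simp [pairD]

/-- The diagonal coaction on `V ⊗ A` (as a linear map). -/
noncomputable def diagCoact (V : Type w) [AddCommGroup V] [Module k V] [Comod k A V] :
    V ⊗[k] A →ₗ[k] (V ⊗[k] A) ⊗[k] A :=
  TensorProduct.map LinearMap.id (LinearMap.mul' k A) ∘ₗ
    (AlgebraTensorModule.tensorTensorTensorComm k k k k V A A A).toLinearMap ∘ₗ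
      TensorProduct.map (Comod.coact (k := k) (A := A)) (Coalgebra.comul (R := k) (A := A))

lemma diagCoact_tmul (v : V) (a : A) :
    diagCoact V (v ⊗ₜ[k] a) = pairD (Comod.coact (k := k) (A := A) v) (Coalgebra.comul (R := k) a) :=
  rfl

/-- `(θ ⊗ id)(P(y, d)) = (assoc (ρ ⊗ id) y) · d`. -/
lemma rTensor_tw_pairD (y : V ⊗[k] A) (d : A ⊗[k] A) :
    (tw V LinearMap.id).rTensor A (pairD y d) =
      (TensorProduct.assoc k V A A).symm (LinearMap.lTensor V (LinearMap.mulRight k d)
        (TensorProduct.assoc k V A A (LinearMap.rTensor A (Comod.coact (k := k) (A := A)) y))) := by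
  induction d using TensorProduct.induction_on with
  | zero => simp
  | tmul b c =>
    induction y using TensorProduct.induction_on with
    | zero => simp
    | tmul u b' =>
      rw [pairD_tmul, LinearMap.rTensor_tmul, tw_tmul, LinearMap.lTensor_id, LinearMap.id_apply,
        LinearMap.rTensor_tmul]
      generalize Comod.coact (k := k) (A := A) u = z
      induction z using TensorProduct.induction_on with
      | zero => simp
      | tmul w b'' => simp [Algebra.TensorProduct.tmul_mul_tmul]
      | add y z hy hz => simp only [map_add, TensorProduct.add_tmul, hy, hz]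
    | add y z hy hz => simp only [pairD_add_left, map_add, hy, hz]
  | add d e hd he =>
    have hadd : LinearMap.mulRight k (d + e) = LinearMap.mulRight k d + LinearMap.mulRight k e := by
      ext x; simp [mul_add]
    rw [pairD_add_right, map_add, hd, he, hadd]
    simp only [LinearMap.lTensor_add, LinearMap.add_apply, map_add]

/-- (C2): `θ` intertwines the diagonal coaction with the induced one. -/
theorem ind_coact_tw (x : V ⊗[k] A) :
    (TensorProduct.assoc k V A A).symm ((Coalgebra.comul (R := k) (A := A)).lTensor V
      (tw V LinearMap.id x)) = (tw V LinearMap.id).rTensor A (diagCoact V x) := by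
  induction x using TensorProduct.induction_on with
  | zero => simp
  | tmul v a =>
    have hc := LinearMap.congr_fun (Comod.coassoc (k := k) (A := A) (V := V)) v
    simp only [LinearMap.comp_apply, LinearEquiv.coe_coe] at hc
    rw [diagCoact_tmul, rTensor_tw_pairD, hc, tw_tmul, LinearMap.lTensor_id, LinearMap.id_apply]
    congr 1
    generalize Comod.coact (k := k) (A := A) v = y
    induction y using TensorProduct.induction_on with
    | zero => simp
    | tmul u b => simp [Bialgebra.comul_mul]
    | add y z hy hz => simp only [map_add, hy, hz]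
  | add y z hy hz => simp only [map_add, hy, hz]

/-- Contraction against a functional (over a ring). -/
noncomputable def contrR (V : Type w) [AddCommGroup V] [Module k V] (α : A →ₗ[k] k) :
    V ⊗[k] A →ₗ[k] V :=
  (TensorProduct.rid k V).toLinearMap ∘ₗ LinearMap.lTensor V α

omit [Comod k A V] in
@[simp] lemma contrR_tmul (α : A →ₗ[k] k) (v : V) (a : A) : contrR V α (v ⊗ₜ[k] a) = α a • v := by
  simp [contrR]

omit [Comod k A V] in
lemma rTensor_contrR_pairD (α : A →ₗ[k] k) (y : V ⊗[k] A) (d : A ⊗[k] A) :
    (contrR V α).rTensor A (pairD y d) = rmul V (TensorProduct.lid k A (α.rTensor A d)) y := by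
  induction d using TensorProduct.induction_on with
  | zero => simp [rmul_zero]
  | tmul b c =>
    induction y using TensorProduct.induction_on with
    | zero => simp
    | tmul u b' => simp [TensorProduct.smul_tmul, mul_comm]
    | add y z hy hz => simp only [pairD_add_left, map_add, hy, hz]
  | add d e hd he =>
    rw [pairD_add_right, map_add, hd, he, map_add, map_add, rmul_add]
    rfl

/-- (β): contraction against a total integral intertwines the diagonal coaction with `ρ_V`. -/
theorem coact_contrR {α : A →ₗ[k] k} (hα : IsTrivIntegral k A α) (x : V ⊗[k] A) :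
    Comod.coact (k := k) (A := A) (contrR V α x) = (contrR V α).rTensor A (diagCoact V x) := by
  rw [isTrivIntegral_iff] at hα
  induction x using TensorProduct.induction_on with
  | zero => simp
  | tmul v a =>
    rw [diagCoact_tmul, rTensor_contrR_pairD, ← hα.1 a, TensorProduct.lid_tmul, rmul_smul_one,
      contrR_tmul, map_smul]
  | add y z hy hz => simp only [map_add, hy, hz]

/-- The comodule retraction `Ind V → V` of the coaction attached to a total integral. -/
theorem exists_retraction_toInd {α : A →ₗ[k] k} (hα : IsTrivIntegral k A α) :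
    ∃ r : Hoch.Ind k A V →ₗ[k] V, Hoch.IsComodHom A r ∧ r ∘ₗ Hoch.toInd k A V = LinearMap.id := by
  let r' : V ⊗[k] A →ₗ[k] V := contrR V α ∘ₗ tw V (HopfAlgebra.antipode k (A := A))
  refine ⟨r', ?_, ?_⟩
  · rw [isComodHom_iff]
    intro x
    change Comod.coact (k := k) (A := A) (r' x) = r'.rTensor A
      ((TensorProduct.assoc k V A A).symm ((Coalgebra.comul (R := k) (A := A)).lTensor V x))
    -- write `x = θ y`
    obtain ⟨y, rfl⟩ : ∃ y, tw V LinearMap.id y = x :=
      ⟨tw V (HopfAlgebra.antipode k (A := A)) x, tw_id_tw_antipode x⟩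
    rw [ind_coact_tw, ← LinearMap.comp_apply (r'.rTensor A), ← LinearMap.rTensor_comp]
    have h1 : r' ∘ₗ tw V LinearMap.id = contrR V α := by
      apply LinearMap.ext
      intro z
      simp only [r', LinearMap.comp_apply, tw_antipode_tw_id]
    have h2 : r' (tw V LinearMap.id y) = contrR V α y := LinearMap.congr_fun h1 y
    rw [h1, h2, coact_contrR hα]
  · apply LinearMap.ext
    intro v
    change r' (Comod.coact (k := k) (A := A) v) = v
    simp only [r', LinearMap.comp_apply, tw_antipode_coact, contrR_tmul]
    rw [((isTrivIntegral_iff α).1 hα).2, one_smul]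

end Diag

section SS

variable {k : Type u} [Field k] {A : Type v} [CommRing A] [HopfAlgebra k A]

/-- S18812: a total integral `A → k` makes every comodule semisimple. -/
theorem isSemisimpleComod_of_isTrivIntegral {α : A →ₗ[k] k} (hα : IsTrivIntegral k A α)
    (V : Type w) [AddCommGroup V] [Module k V] [c : Comod k A V] : IsSemisimpleComod k A V := by
  intro W hW
  letI cW : Comod k A W := ComodSub.Comod.restr c W hW
  obtain ⟨r, hr, hr1⟩ := exists_retraction_toInd (V := W) hα
  obtain ⟨p, hp⟩ := LinearMap.exists_leftInverse_of_injective W.subtype (Submodule.ker_subtype W)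
  let q : V →ₗ[k] W := r ∘ₗ ((Hoch.Ind.equiv k A W).toLinearMap ∘ₗ p.rTensor A ∘ₗ
    Comod.coact (k := k) (A := A))
  have hq : Hoch.IsComodHom A q := isComodHom_comp hr (isComodHom_ind_of_linear p)
  have hqW : ∀ w : W, q w = w := by
    intro w
    have h1 : p.rTensor A (Comod.coact (k := k) (A := A) (w : V)) =
        Comod.coact (k := k) (A := A) (V := W) w := by
      rw [← ComodSub.restr_coact_coe c W hW w, ← LinearMap.comp_apply, ← LinearMap.rTensor_comp, hp,
        LinearMap.rTensor_id, LinearMap.id_apply]
    change r (p.rTensor A (Comod.coact (k := k) (A := A) (w : V))) = w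
    rw [h1]
    exact LinearMap.congr_fun hr1 w
  exact ⟨LinearMap.ker q, isSubcomod_ker hq, LinearMap.isCompl_of_proj hqW⟩

end SS

end Groth.Agent.Lib.Helper7.Comod
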