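import Groth.Agent.Lib.Helper7.HopfCotangent
import Mathlib.RingTheory.Kaehler.Basic
import Mathlib.RingTheory.HopfAlgebra.Convolution

/-!
# The module of differentials of a commutative Hopf algebra over a field is free (helper7)

`Ω[B⁄K] ≅ B ⊗ I/I²`, via the invariant derivation `b ↦ Σ b₁ ⊗ π(b₂)` and the Maurer–Cartan form
`x ↦ Σ S(x₁) d x₂`.
-/

universe u v

open TensorProduct

namespace Groth.Agent.Lib.Helper7.HopfKaehler

open Groth.Agent.Lib.Helper7.HopfCot Groth.Agent.Lib.Helper7.Comod

variable {K : Type u} [Field K] {B : Type v} [CommRing B] [HopfAlgebra K B]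

/-- projection to the cotangent space at the identity. -/
noncomputable def π (K : Type u) [Field K] (B : Type v) [CommRing B] [Bialgebra K B] :
    B →ₗ[K] (augI K B).Cotangent :=
  ((augI K B).toCotangent.restrictScalars K) ∘ₗ proj

omit [HopfAlgebra K B] in
lemma π_mul [Bialgebra K B] (x y : B) : π K B (x * y) =
    Coalgebra.counit (R := K) x • π K B y + Coalgebra.counit (R := K) y • π K B x := by
  rw [← sub_eq_zero]
  refine (Module.forall_dual_apply_eq_zero_iff K _).1 (fun l => ?_)
  have h := dOf_mul l x y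
  rw [map_sub, map_add, map_smul, map_smul, sub_eq_zero]
  change dOf l (x * y) = Coalgebra.counit (R := K) x • dOf l y + Coalgebra.counit (R := K) y • dOf l x
  rw [h, smul_eq_mul, smul_eq_mul, mul_comm (dOf l x)]

omit [HopfAlgebra K B] in
lemma π_of_mem [Bialgebra K B] {x : B} (hx : x ∈ augI K B) :
    π K B x = (augI K B).toCotangent ⟨x, hx⟩ := by
  have h : (proj x : augI K B) = ⟨x, hx⟩ := by
    apply Subtype.ext
    rw [proj_coe, (mem_augI x).1 hx, map_zero, sub_zero]
  unfold π
  rw [LinearMap.comp_apply, h]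
  rfl

/-- the invariant universal derivation. -/
noncomputable def D0 (K : Type u) [Field K] (B : Type v) [CommRing B] [Bialgebra K B] :
    B →ₗ[K] B ⊗[K] (augI K B).Cotangent :=
  LinearMap.lTensor B (π K B) ∘ₗ Coalgebra.comul (R := K)

omit [HopfAlgebra K B] in
lemma lTensor_π_mul [Bialgebra K B] (y z : B ⊗[K] B) :
    LinearMap.lTensor B (π K B) (y * z) =
      contr B (Coalgebra.counit (R := K)) y • LinearMap.lTensor B (π K B) z +
        contr B (Coalgebra.counit (R := K)) z • LinearMap.lTensor B (π K B) y := by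
  induction y using TensorProduct.induction_on with
  | zero => simp
  | add y y' hy hy' => simp only [add_mul, map_add, hy, hy', add_smul, smul_add]; abel
  | tmul a a' =>
    induction z using TensorProduct.induction_on with
    | zero => simp
    | add z z' hz hz' => simp only [mul_add, map_add, hz, hz', add_smul, smul_add]; abel
    | tmul b b' =>
      rw [Algebra.TensorProduct.tmul_mul_tmul, LinearMap.lTensor_tmul, LinearMap.lTensor_tmul,
        LinearMap.lTensor_tmul, contr_tmul, contr_tmul, π_mul, TensorProduct.tmul_add,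
        TensorProduct.smul_tmul', TensorProduct.smul_tmul', TensorProduct.tmul_smul,
        TensorProduct.tmul_smul, TensorProduct.smul_tmul', TensorProduct.smul_tmul']
      simp only [smul_eq_mul, Algebra.smul_mul_assoc]
      rw [mul_comm b a]

omit [HopfAlgebra K B] in
lemma D0_mul [Bialgebra K B] (a b : B) : D0 K B (a * b) = a • D0 K B b + b • D0 K B a := by
  unfold D0
  rw [LinearMap.comp_apply, Bialgebra.comul_mul, lTensor_π_mul, contr_counit_comul,
    contr_counit_comul]
  rfl

/-- the invariant universal derivation, as a derivation. -/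
noncomputable def der0 (K : Type u) [Field K] (B : Type v) [CommRing B] [Bialgebra K B] :
    Derivation K B (B ⊗[K] (augI K B).Cotangent) :=
  Derivation.mk' (D0 K B) D0_mul

/-- `Ω → B ⊗ I/I²`. -/
noncomputable def Φ (K : Type u) [Field K] (B : Type v) [CommRing B] [Bialgebra K B] :
    Ω[B⁄K] →ₗ[B] B ⊗[K] (augI K B).Cotangent :=
  (der0 K B).liftKaehlerDifferential

omit [HopfAlgebra K B] in
lemma Φ_D [Bialgebra K B] (b : B) : Φ K B (KaehlerDifferential.D K B b) = D0 K B b :=
  (der0 K B).liftKaehlerDifferential_comp_D b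

/-- `a ⊗ b ↦ S(a) • d b`. -/
noncomputable def mMap (K : Type u) [Field K] (B : Type v) [CommRing B] [HopfAlgebra K B] :
    B ⊗[K] B →ₗ[K] Ω[B⁄K] :=
  TensorProduct.lift (LinearMap.mk₂ K
    (fun a b => HopfAlgebra.antipode K a • KaehlerDifferential.D K B b)
    (fun a a' b => by rw [map_add, add_smul])
    (fun c a b => by rw [map_smul, smul_assoc])
    (fun a b b' => by rw [map_add, smul_add])
    (fun c a b => by rw [Derivation.map_smul, smul_comm]))

@[simp] lemma mMap_tmul (a b : B) :
    mMap K B (a ⊗ₜ[K] b) = HopfAlgebra.antipode K a • KaehlerDifferential.D K B b := rfl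

/-- `a ⊗ b ↦ S(a) b`. -/
noncomputable def μS (K : Type u) [Field K] (B : Type v) [CommRing B] [HopfAlgebra K B] :
    B ⊗[K] B →ₗ[K] B :=
  LinearMap.mul' K B ∘ₗ LinearMap.rTensor B (HopfAlgebra.antipode K)

@[simp] lemma μS_tmul (a b : B) : μS K B (a ⊗ₜ[K] b) = HopfAlgebra.antipode K a * b := by
  simp [μS]

lemma μS_comul (x : B) :
    μS K B (Coalgebra.comul (R := K) x) = algebraMap K B (Coalgebra.counit (R := K) x) := by
  unfold μS
  rw [LinearMap.comp_apply]
  exact HopfAlgebra.mul_antipode_rTensor_comul_apply x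

lemma mMap_mul (y z : B ⊗[K] B) :
    mMap K B (y * z) = μS K B y • mMap K B z + μS K B z • mMap K B y := by
  induction y using TensorProduct.induction_on with
  | zero => simp
  | add y y' hy hy' => simp only [add_mul, map_add, hy, hy', add_smul, smul_add]; abel
  | tmul a a' =>
    induction z using TensorProduct.induction_on with
    | zero => simp
    | add z z' hz hz' => simp only [mul_add, map_add, hz, hz', add_smul, smul_add]; abel
    | tmul b b' =>
      rw [Algebra.TensorProduct.tmul_mul_tmul, mMap_tmul, mMap_tmul, mMap_tmul, μS_tmul, μS_tmul,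
        HopfAlgebra.antipode_mul_distrib, Derivation.leibniz]
      module

/-- the Maurer–Cartan form `x ↦ Σ S(x₁) d x₂`. -/
noncomputable def ω (K : Type u) [Field K] (B : Type v) [CommRing B] [HopfAlgebra K B] :
    B →ₗ[K] Ω[B⁄K] :=
  mMap K B ∘ₗ Coalgebra.comul (R := K)

lemma ω_mul (x y : B) : ω K B (x * y) =
    Coalgebra.counit (R := K) x • ω K B y + Coalgebra.counit (R := K) y • ω K B x := by
  unfold ω
  rw [LinearMap.comp_apply, Bialgebra.comul_mul, mMap_mul, μS_comul, μS_comul, algebraMap_smul,
    algebraMap_smul]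
  rfl

lemma ω_one : ω K B (1 : B) = 0 := by
  unfold ω
  rw [LinearMap.comp_apply, Bialgebra.comul_one, Algebra.TensorProduct.one_def, mMap_tmul,
    Derivation.map_one_eq_zero, smul_zero]

lemma ω_of_mem_sq {x : B} (hx : x ∈ augI K B ^ 2) : ω K B x = 0 := by
  rw [pow_two] at hx
  refine Submodule.mul_induction_on hx ?_ ?_
  · intro a ha b hb
    rw [ω_mul, (mem_augI a).1 ha, (mem_augI b).1 hb, zero_smul, zero_smul, add_zero]
  · intro a b ha hb
    rw [map_add, ha, hb, add_zero]

omit [HopfAlgebra K B] in
lemma π_one [Bialgebra K B] : π K B (1 : B) = 0 := by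
  have h : (proj (1 : B) : augI K B) = 0 := by
    apply Subtype.ext
    rw [proj_coe, Bialgebra.counit_one, map_one, sub_self]
    rfl
  unfold π
  rw [LinearMap.comp_apply, h, map_zero]

omit [HopfAlgebra K B] in
lemma π_algebraMap [Bialgebra K B] (c : K) : π K B (algebraMap K B c) = 0 := by
  rw [Algebra.algebraMap_eq_smul_one, map_smul, π_one, smul_zero]

lemma ω_algebraMap (c : K) : ω K B (algebraMap K B c) = 0 := by
  rw [Algebra.algebraMap_eq_smul_one, map_smul, ω_one, smul_zero]

omit [HopfAlgebra K B] in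
lemma mem_sq_of_π_eq_zero [Bialgebra K B] {w : B} (hw : w ∈ augI K B) (h : π K B w = 0) :
    w ∈ augI K B ^ 2 := by
  rw [π_of_mem hw] at h
  exact (Ideal.toCotangent_eq_zero _ ⟨w, hw⟩).1 h

section Assoc

/-- `(a ⊗ u) ⊗ v ↦ (a S(u)) • d v`. -/
noncomputable def qMap (K : Type u) [Field K] (B : Type v) [CommRing B] [HopfAlgebra K B] :
    (B ⊗[K] B) ⊗[K] B →ₗ[K] Ω[B⁄K] :=
  TensorProduct.lift (LinearMap.mk₂ K
    (fun z v => (LinearMap.mul' K B (LinearMap.lTensor B (HopfAlgebra.antipode K) z)) •
      KaehlerDifferential.D K B v)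
    (fun z z' v => by rw [map_add, map_add, add_smul])
    (fun c z v => by rw [map_smul, map_smul, smul_assoc])
    (fun z v v' => by rw [map_add, smul_add])
    (fun c z v => by rw [Derivation.map_smul, smul_comm]))

lemma qMap_tmul (z : B ⊗[K] B) (v : B) : qMap K B (z ⊗ₜ[K] v) =
    (LinearMap.mul' K B (LinearMap.lTensor B (HopfAlgebra.antipode K) z)) •
      KaehlerDifferential.D K B v := rfl

lemma smul_mMap (a : B) (t : B ⊗[K] B) :
    a • mMap K B t = qMap K B ((TensorProduct.assoc K B B B).symm (a ⊗ₜ[K] t)) := by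
  induction t using TensorProduct.induction_on with
  | zero => simp
  | add t t' ht ht' => simp only [map_add, smul_add, TensorProduct.tmul_add, ht, ht']
  | tmul u v =>
    rw [TensorProduct.assoc_symm_tmul, qMap_tmul, mMap_tmul, LinearMap.lTensor_tmul,
      LinearMap.mul'_apply, mul_smul]

/-- `a ⊗ x ↦ a • ω x`. -/
noncomputable def nMap (K : Type u) [Field K] (B : Type v) [CommRing B] [HopfAlgebra K B] :
    B ⊗[K] B →ₗ[K] Ω[B⁄K] :=
  TensorProduct.lift (LinearMap.mk₂ K (fun a x => a • ω K B x)
    (fun a a' x => by rw [add_smul])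
    (fun c a x => by rw [smul_assoc])
    (fun a x x' => by rw [map_add, smul_add])
    (fun c a x => by rw [map_smul, smul_comm]))

@[simp] lemma nMap_tmul (a x : B) : nMap K B (a ⊗ₜ[K] x) = a • ω K B x := rfl

lemma nMap_eq (z : B ⊗[K] B) : nMap K B z = qMap K B ((TensorProduct.assoc K B B B).symm
    (LinearMap.lTensor B (Coalgebra.comul (R := K)) z)) := by
  induction z using TensorProduct.induction_on with
  | zero => simp
  | add t t' ht ht' => simp only [map_add, ht, ht']
  | tmul a x =>
    rw [nMap_tmul, LinearMap.lTensor_tmul]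
    exact smul_mMap a _

/-- `a ⊗ v ↦ ε(a) d v`. -/
noncomputable def eMap (K : Type u) [Field K] (B : Type v) [CommRing B] [HopfAlgebra K B] :
    B ⊗[K] B →ₗ[K] Ω[B⁄K] :=
  (KaehlerDifferential.D K B).toLinearMap ∘ₗ (TensorProduct.lid K B).toLinearMap ∘ₗ
    LinearMap.rTensor B (Coalgebra.counit (R := K))

lemma qMap_rTensor_comul (z : B ⊗[K] B) :
    qMap K B (LinearMap.rTensor B (Coalgebra.comul (R := K)) z) = eMap K B z := by
  induction z using TensorProduct.induction_on with
  | zero => simp
  | add t t' ht ht' => simp only [map_add, ht, ht']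
  | tmul a v =>
    rw [LinearMap.rTensor_tmul, qMap_tmul, HopfAlgebra.mul_antipode_lTensor_comul_apply]
    unfold eMap
    simp only [LinearMap.comp_apply, LinearMap.rTensor_tmul, LinearEquiv.coe_coe,
      TensorProduct.lid_tmul, Derivation.coeFn_coe, Derivation.map_smul, algebraMap_smul]

lemma nMap_comul (b : B) : nMap K B (Coalgebra.comul (R := K) b) = KaehlerDifferential.D K B b := by
  rw [nMap_eq, Coalgebra.coassoc_symm_apply, qMap_rTensor_comul]
  unfold eMap
  simp only [LinearMap.comp_apply, Coalgebra.rTensor_counit_comul, LinearEquiv.coe_coe,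
    TensorProduct.lid_tmul, one_smul, Derivation.coeFn_coe]

/-- `(a ⊗ u) ⊗ v ↦ (S(a) u) ⊗ π(v)`. -/
noncomputable def rMap (K : Type u) [Field K] (B : Type v) [CommRing B] [HopfAlgebra K B] :
    (B ⊗[K] B) ⊗[K] B →ₗ[K] B ⊗[K] (augI K B).Cotangent :=
  TensorProduct.map (μS K B) (π K B)

lemma smul_lTensor_π (a : B) (t : B ⊗[K] B) :
    HopfAlgebra.antipode K a • LinearMap.lTensor B (π K B) t =
      rMap K B ((TensorProduct.assoc K B B B).symm (a ⊗ₜ[K] t)) := by
  induction t using TensorProduct.induction_on with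
  | zero => simp
  | add t t' ht ht' => simp only [map_add, smul_add, TensorProduct.tmul_add, ht, ht']
  | tmul u v =>
    rw [TensorProduct.assoc_symm_tmul, LinearMap.lTensor_tmul, TensorProduct.smul_tmul']
    unfold rMap
    rw [TensorProduct.map_tmul, μS_tmul, smul_eq_mul]

lemma Φ_mMap (z : B ⊗[K] B) : Φ K B (mMap K B z) = rMap K B ((TensorProduct.assoc K B B B).symm
    (LinearMap.lTensor B (Coalgebra.comul (R := K)) z)) := by
  induction z using TensorProduct.induction_on with
  | zero => simp
  | add t t' ht ht' => simp only [map_add, ht, ht']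
  | tmul a x =>
    rw [mMap_tmul, map_smul, Φ_D, LinearMap.lTensor_tmul]
    exact smul_lTensor_π a _

lemma rMap_rTensor_comul (z : B ⊗[K] B) :
    rMap K B (LinearMap.rTensor B (Coalgebra.comul (R := K)) z) =
      (1 : B) ⊗ₜ[K] π K B (TensorProduct.lid K B
        (LinearMap.rTensor B (Coalgebra.counit (R := K)) z)) := by
  induction z using TensorProduct.induction_on with
  | zero => simp
  | add t t' ht ht' => simp only [map_add, TensorProduct.tmul_add, ht, ht']
  | tmul a v =>
    unfold rMap
    rw [LinearMap.rTensor_tmul, TensorProduct.map_tmul, μS_comul, LinearMap.rTensor_tmul,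
      TensorProduct.lid_tmul, map_smul, Algebra.algebraMap_eq_smul_one, TensorProduct.smul_tmul]

lemma Φ_ω (x : B) : Φ K B (ω K B x) = (1 : B) ⊗ₜ[K] π K B x := by
  unfold ω
  rw [LinearMap.comp_apply, Φ_mMap, Coalgebra.coassoc_symm_apply, rMap_rTensor_comul,
    Coalgebra.rTensor_counit_comul, TensorProduct.lid_tmul, one_smul]

end Assoc

section Main

/-- the module of differentials of a commutative Hopf algebra over a field is free:
`Ω[B⁄K] ≃ B ⊗ I/I²`. -/
theorem nonempty_linearEquiv (K : Type u) [Field K] (B : Type v) [CommRing B] [HopfAlgebra K B] :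
    Nonempty (Ω[B⁄K] ≃ₗ[B] B ⊗[K] (augI K B).Cotangent) := by
  classical
  let bs := Module.Free.chooseBasis K (augI K B).Cotangent
  have hsurj : ∀ i, ∃ xi : augI K B, (augI K B).toCotangent xi = bs i :=
    fun i => Ideal.toCotangent_surjective _ _
  choose xi hxi using hsurj
  have hπxi : ∀ i, π K B (xi i : B) = bs i := fun i => by
    rw [π_of_mem (xi i).2]
    exact hxi i
  -- `ω` factors through `π`
  have hfactor : ∀ x : B, ω K B x =
      ∑ i ∈ (bs.repr (π K B x)).support, bs.repr (π K B x) i • ω K B (xi i : B) := by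
    intro x
    set c := bs.repr (π K B x) with hc
    set w : B := x - algebraMap K B (Coalgebra.counit (R := K) x) -
      ∑ i ∈ c.support, c i • (xi i : B) with hw
    have hwI : w ∈ augI K B := by
      rw [hw]
      refine Ideal.sub_mem _ ?_ (Ideal.sum_mem _ (fun i _ => ?_))
      · rw [mem_augI, map_sub, Bialgebra.counit_algebraMap, sub_self]
      · exact Submodule.smul_of_tower_mem _ _ (xi i).2
    have hπw : π K B w = 0 := by
      rw [hw, map_sub, map_sub, π_algebraMap, sub_zero, map_sum, sub_eq_zero]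
      simp only [map_smul, hπxi]
      have := bs.linearCombination_repr (π K B x)
      rw [Finsupp.linearCombination_apply, Finsupp.sum] at this
      exact this.symm
    have h0 := ω_of_mem_sq (mem_sq_of_π_eq_zero hwI hπw)
    rw [hw, map_sub, map_sub, ω_algebraMap, sub_zero, sub_eq_zero, map_sum] at h0
    rw [h0]
    simp only [map_smul]
  -- the inverse map
  let Ψ : B ⊗[K] (augI K B).Cotangent →ₗ[B] Ω[B⁄K] :=
    (bs.baseChange B).constr B (fun i => ω K B (xi i : B))
  have hΨb : ∀ i, Ψ ((1 : B) ⊗ₜ[K] bs i) = ω K B (xi i : B) := by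
    intro i
    have := (bs.baseChange B).constr_basis B (fun i => ω K B (xi i : B)) i
    rwa [Module.Basis.baseChange_apply] at this
  have hΨπ : ∀ (a x : B), Ψ (a ⊗ₜ[K] π K B x) = a • ω K B x := by
    intro a x
    have h1 : a ⊗ₜ[K] π K B x = a • ((1 : B) ⊗ₜ[K] π K B x) := by
      rw [TensorProduct.smul_tmul', smul_eq_mul, mul_one]
    have h2 : (1 : B) ⊗ₜ[K] π K B x =
        ∑ i ∈ (bs.repr (π K B x)).support, bs.repr (π K B x) i • ((1 : B) ⊗ₜ[K] bs i) := by
      have := bs.linearCombination_repr (π K B x)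
      rw [Finsupp.linearCombination_apply, Finsupp.sum] at this
      conv_lhs => rw [← this]
      rw [TensorProduct.tmul_sum]
      simp only [TensorProduct.tmul_smul]
    rw [h1, map_smul, h2, map_sum, hfactor x]
    congr 1
    refine Finset.sum_congr rfl (fun i _ => ?_)
    rw [LinearMap.map_smul_of_tower, hΨb]
  have hΨΦ : Ψ ∘ₗ Φ K B = LinearMap.id := by
    apply Derivation.liftKaehlerDifferential_unique
    apply Derivation.ext
    intro b
    change Ψ (Φ K B (KaehlerDifferential.D K B b)) = KaehlerDifferential.D K B b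
    rw [Φ_D, ← nMap_comul]
    unfold D0
    rw [LinearMap.comp_apply]
    generalize Coalgebra.comul (R := K) b = z
    induction z using TensorProduct.induction_on with
    | zero => simp
    | add t t' ht ht' => simp only [map_add, ht, ht']
    | tmul a x => rw [LinearMap.lTensor_tmul, hΨπ, nMap_tmul]
  have hΦΨ : Φ K B ∘ₗ Ψ = LinearMap.id := by
    apply (bs.baseChange B).ext
    intro i
    rw [LinearMap.comp_apply, Module.Basis.baseChange_apply, hΨb, Φ_ω, hπxi, LinearMap.id_apply]
  exact ⟨LinearEquiv.ofLinear (Φ K B) Ψ hΦΨ hΨΦ⟩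

theorem free (K : Type u) [Field K] (B : Type v) [CommRing B] [HopfAlgebra K B] :
    Module.Free B (Ω[B⁄K]) := by
  obtain ⟨e⟩ := nonempty_linearEquiv K B
  exact Module.Free.of_equiv e.symm

end Main

end Groth.Agent.Lib.Helper7.HopfKaehler
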