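import Groth.Agent.Lib.Helper7.HopfRegular
import Groth.Agent.Lib.Helper21.TensorDomain

set_option autoImplicit false

universe u v

open TensorProduct

namespace Groth.Agent.Lib.Helper7.HopfKrull

open HopfRep Groth.Agent.Lib.Helper7.Comod Groth.Agent.Lib.Helper7.HopfReg

section Basic

variable {k : Type u} [Field k] {A : Type v} [CommRing A] [HopfAlgebra k A]

/-- the augmentation ideal. -/
abbrev aug (k : Type u) [Field k] (A : Type v) [CommRing A] [HopfAlgebra k A] : Ideal A :=
  RingHom.ker (Bialgebra.counitAlgHom k A)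

lemma mem_aug {x : A} : x ∈ aug k A ↔ Coalgebra.counit (R := k) x = 0 := by
  rw [RingHom.mem_ker]; rfl

/-- contraction sends `J ⊗ A` into `J`. -/
lemma contr_mem_of_mem_map_includeLeft (J : Ideal A) (l : A →ₗ[k] k) {y : A ⊗[k] A}
    (hy : y ∈ J.map (Algebra.TensorProduct.includeLeft : A →ₐ[k] A ⊗[k] A)) :
    contr A l y ∈ J := by
  have h1 : y ∈ (J.map (Algebra.TensorProduct.includeLeft : A →ₐ[k] A ⊗[k] A)).restrictScalars k :=
    hy
  rw [Ideal.map_includeLeft_eq] at h1
  obtain ⟨w, rfl⟩ := h1
  clear hy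
  induction w using TensorProduct.induction_on with
  | zero => simp
  | tmul j a =>
    rw [LinearMap.rTensor_tmul, contr_tmul]
    exact Submodule.smul_mem (J.restrictScalars k) _ j.2
  | add x y hx hy =>
    rw [map_add, map_add]
    exact J.add_mem hx hy

/-- contraction against a functional killing `J` kills `A ⊗ J`. -/
lemma contr_eq_zero_of_mem_map_includeRight (J : Ideal A) (l : A →ₗ[k] k)
    (hl : ∀ x ∈ J, l x = 0) {y : A ⊗[k] A}
    (hy : y ∈ J.map (Algebra.TensorProduct.includeRight : A →ₐ[k] A ⊗[k] A)) :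
    contr A l y = 0 := by
  have h1 : y ∈ (J.map (Algebra.TensorProduct.includeRight : A →ₐ[k] A ⊗[k] A)).restrictScalars k :=
    hy
  rw [Ideal.map_includeRight_eq] at h1
  obtain ⟨w, rfl⟩ := h1
  clear hy
  induction w using TensorProduct.induction_on with
  | zero => simp
  | tmul a j =>
    rw [LinearMap.lTensor_tmul, contr_tmul]
    have : l ((J.restrictScalars k).subtype j) = 0 := hl _ j.2
    rw [this, zero_smul]
  | add x y hx hy =>
    rw [map_add, map_add, hx, hy, add_zero]

lemma comul_mem_sup {x : A} (hx : x ∈ aug k A) :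
    Coalgebra.comul (R := k) x ∈
      (aug k A).map (Algebra.TensorProduct.includeLeft : A →ₐ[k] A ⊗[k] A) ⊔
      (aug k A).map (Algebra.TensorProduct.includeRight : A →ₐ[k] A ⊗[k] A) := by
  have hs : Function.Surjective (Bialgebra.counitAlgHom k A) := by
    intro c
    exact ⟨algebraMap k A c, by simp⟩
  rw [← Algebra.TensorProduct.map_ker (Bialgebra.counitAlgHom k A) (Bialgebra.counitAlgHom k A)
    hs hs, RingHom.mem_ker]
  have h1 : ∀ z : A ⊗[k] A, Algebra.TensorProduct.map (Bialgebra.counitAlgHom k A)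
      (Bialgebra.counitAlgHom k A) z =
      LinearMap.rTensor k (Coalgebra.counit (R := k) (A := A))
        (LinearMap.lTensor A (Coalgebra.counit (R := k) (A := A)) z) := by
    intro z
    induction z using TensorProduct.induction_on with
    | zero => simp
    | tmul a b => rfl
    | add x y hx hy => simp only [map_add, hx, hy]
  rw [h1, Coalgebra.lTensor_counit_comul, LinearMap.rTensor_tmul, mem_aug.1 hx,
    TensorProduct.zero_tmul]

lemma comul_mem_pow (n : ℕ) {x : A} (hx : x ∈ aug k A ^ n) :
    Coalgebra.comul (R := k) x ∈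
      ((aug k A).map (Algebra.TensorProduct.includeLeft : A →ₐ[k] A ⊗[k] A) ⊔
      (aug k A).map (Algebra.TensorProduct.includeRight : A →ₐ[k] A ⊗[k] A)) ^ n := by
  have h1 : (aug k A).map (Bialgebra.comulAlgHom k A) ≤
      (aug k A).map (Algebra.TensorProduct.includeLeft : A →ₐ[k] A ⊗[k] A) ⊔
      (aug k A).map (Algebra.TensorProduct.includeRight : A →ₐ[k] A ⊗[k] A) := by
    rw [Ideal.map_le_iff_le_comap]
    intro y hy
    exact comul_mem_sup hy
  have h2 : Bialgebra.comulAlgHom k A x ∈ ((aug k A) ^ n).map (Bialgebra.comulAlgHom k A) :=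
    Ideal.mem_map_of_mem _ hx
  rw [Ideal.map_pow] at h2
  exact Ideal.pow_right_mono h1 n h2

/-- the operators `x ↦ Σ x₁ l(x₂)` for `l` killing `𝔪^r` shift the `𝔪`-adic filtration by `r`. -/
lemma contr_comul_mem (l : A →ₗ[k] k) (r s : ℕ) (hl : ∀ x ∈ aug k A ^ r, l x = 0) {x : A}
    (hx : x ∈ aug k A ^ (s + r)) :
    contr A l (Coalgebra.comul (R := k) x) ∈ aug k A ^ s := by
  have h1 := Ideal.sup_pow_add_le_pow_sup_pow (n := s) (m := r) (comul_mem_pow (s + r) hx)
  rw [← Ideal.map_pow, ← Ideal.map_pow] at h1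
  obtain ⟨y, hy, z, hz, hyz⟩ := Submodule.mem_sup.1 h1
  rw [← hyz, map_add, contr_eq_zero_of_mem_map_includeRight _ l hl hz, add_zero]
  exact contr_mem_of_mem_map_includeLeft _ l hy

/-- the intersection of the powers of the augmentation ideal. -/
abbrev krull (k : Type u) [Field k] (A : Type v) [CommRing A] [HopfAlgebra k A] : Ideal A :=
  ⨅ n : ℕ, aug k A ^ n

lemma contr_comul_mem_krull (l : A →ₗ[k] k) (r : ℕ) (hl : ∀ x ∈ aug k A ^ r, l x = 0) {x : A}
    (hx : x ∈ krull k A) : contr A l (Coalgebra.comul (R := k) x) ∈ krull k A := by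
  rw [Ideal.mem_iInf] at hx ⊢
  intro s
  exact contr_comul_mem l r s hl (hx (s + r))

lemma apply_contrL_eq (g l : A →ₗ[k] k) (z : A ⊗[k] A) :
    l (contrL A g z) = g (contr A l z) := by
  induction z using TensorProduct.induction_on with
  | zero => simp
  | tmul a b => simp [mul_comm]
  | add x y hx hy => simp only [map_add, hx, hy]

/-- translation by a point of `V(N)` preserves `N = ⋂ 𝔪^n`. -/
lemma transl_mem_krull (g : A →ₐ[k] k) (hg : ∀ x ∈ krull k A, g x = 0) {x : A}
    (hx : x ∈ krull k A) : transl g x ∈ krull k A := by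
  rw [Ideal.mem_iInf]
  intro r
  by_contra hnot
  have hproj : Module.Projective k (A ⧸ ((aug k A ^ r).restrictScalars k)) :=
    Module.Projective.of_free
  obtain ⟨l, hl1, hl2⟩ := Submodule.exists_dual_map_eq_bot_of_notMem
    (p := (aug k A ^ r).restrictScalars k) hnot hproj
  have hl : ∀ y ∈ aug k A ^ r, l y = 0 := by
    intro y hy
    have : l y ∈ Submodule.map l ((aug k A ^ r).restrictScalars k) := ⟨y, hy, rfl⟩
    rw [hl2] at this
    exact this
  apply hl1
  rw [transl_apply, apply_contrL_eq]
  exact hg _ (contr_comul_mem_krull l r hl hx)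

end Basic

section Main

variable (k : Type u) [Field k] [IsAlgClosed k] (A : Type u) [CommRing A] [HopfAlgebra k A]
  [Algebra.FiniteType k A]

theorem main (hconn : ∀ e : A, IsIdempotentElem e → e = 0 ∨ e = 1) :
    (⨅ n : ℕ, RingHom.ker (Bialgebra.counitAlgHom k A) ^ n) = ⊥ := by
  have hnoeth : IsNoetherianRing A := Algebra.FiniteType.isNoetherianRing k A
  change krull k A = ⊥
  set N : Ideal A := krull k A with hN
  -- Krull: `N ≤ 𝔪 • N`
  have hle : N ≤ aug k A • N := by
    intro x hx
    have h1 : x ∈ (⨅ i : ℕ, aug k A ^ i • ⊤ : Submodule A A) := by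
      simpa [hN, krull] using hx
    obtain ⟨r, hr⟩ := (Ideal.mem_iInf_smul_pow_eq_bot_iff (aug k A) x).1 h1
    rw [← hr]
    exact Submodule.smul_mem_smul r.2 hx
  obtain ⟨s, hs1, hs2⟩ := Submodule.exists_sub_one_mem_and_smul_eq_zero_of_fg_of_le_smul
    (aug k A) N (IsNoetherian.noetherian N) hle
  have hεs : Coalgebra.counit (R := k) s = 1 := by
    have := mem_aug.1 hs1
    rw [map_sub, Bialgebra.counit_one, sub_eq_zero] at this
    exact this
  -- annihilator and `N` are comaximal
  have hsup : Submodule.annihilator N ⊔ N = ⊤ := by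
    by_contra hne
    obtain ⟨P, hP, hle'⟩ := Ideal.exists_le_maximal _ hne
    obtain ⟨g, hg⟩ := Groth.Agent.Lib.Helper21.exists_algHom_ker_eq_of_isMaximal k A P
    have hgN : ∀ x ∈ N, g x = 0 := by
      intro x hx
      have : x ∈ P := hle' (Submodule.mem_sup_right hx)
      rw [← hg] at this
      exact this
    obtain ⟨t, ht⟩ := (transl_bijective g).2 s
    have htP : t ∉ P := by
      rw [← hg, RingHom.mem_ker]
      change ¬ g t = 0
      rw [← counit_transl g t, ht, hεs]
      exact one_ne_zero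
    apply htP
    apply hle'
    apply Submodule.mem_sup_left
    rw [Submodule.mem_annihilator]
    intro n hn
    apply (transl_bijective g).1
    rw [smul_eq_mul, map_mul, ht, map_zero]
    exact hs2 _ (transl_mem_krull g hgN hn)
  have h1 : (1 : A) ∈ Submodule.annihilator N ⊔ N := by rw [hsup]; trivial
  obtain ⟨a, ha, n, hn, han⟩ := Submodule.mem_sup.1 h1
  rw [Submodule.mem_annihilator] at ha
  have hidem : IsIdempotentElem n := by
    have h2 : a * n = 0 := ha n hn
    calc n * n = (a + n) * n - a * n := by ring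
      _ = n := by rw [han, h2, one_mul, sub_zero]
  rcases hconn n hidem with h0 | h1'
  · rw [eq_bot_iff]
    intro x hx
    have h2 : a * x = 0 := ha x hx
    have : x = (a + n) * x := by rw [han, one_mul]
    rw [this, add_mul, h2, h0, zero_mul, add_zero]
    exact Submodule.zero_mem _
  · exfalso
    rw [h1'] at hn
    have h2 : (1 : A) ∈ aug k A ^ 1 := (Ideal.mem_iInf.1 hn) 1
    rw [pow_one, mem_aug, Bialgebra.counit_one] at h2
    exact one_ne_zero h2

end Main

end Groth.Agent.Lib.Helper7.HopfKrull
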