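import Groth.Agent.Lib.Helper7.HopfCartier
import Groth.Agent.Lib.Helper7.ComodUnipReg
import Mathlib.RingTheory.Polynomial.Pochhammer

/-!
# Infinitesimal invariance determines invariance for unipotent groups in characteristic zero
(helper7)
-/

universe u v w

open TensorProduct

namespace Groth.Agent.Lib.Helper7.LieInv

open HopfRep Groth.Agent.Lib.Helper7.Comod Groth.Agent.Lib.Helper7.HopfCot
  Groth.Agent.Lib.Helper7.HopfFin

section Step

variable {k : Type u} [Field k] [CharZero k] {A : Type v} [CommRing A] [Bialgebra k A]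
  {ι : Type} [Fintype ι]

/-- If `a ∈ I^(n+1)` and all invariant derivatives of `a` lie in `I^(n+1)` then `a ∈ I^(n+2)`
(characteristic zero). -/
theorem mem_pow_succ_succ (b : Module.Basis ι k (augI k A).Cotangent) (x : ι → A)
    (hxI : ∀ i, x i ∈ augI k A) (hxb : ∀ i, (augI k A).toCotangent ⟨x i, hxI i⟩ = b i) (n : ℕ)
    {a : A} (ha : a ∈ augI k A ^ (n + 1))
    (hD : ∀ i, DOf (b.coord i) a ∈ augI k A ^ (n + 1)) : a ∈ augI k A ^ (n + 2) := by
  classical
  obtain ⟨h, hh, a', ha', hsum⟩ := Submodule.mem_sup.1 (pow_le_Hn_sup b x hxI hxb (n + 1) ha)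
  obtain ⟨P, hP, rfl⟩ := hh
  change a' ∈ augI k A ^ (n + 1 + 1) at ha'
  simp only [AlgHom.toLinearMap_apply] at hsum
  have hPh : P.IsHomogeneous (n + 1) := hP
  have hfac : ((n.factorial : ℕ) : k) ≠ 0 := Nat.cast_ne_zero.2 (Nat.factorial_ne_zero _)
  have hn1 : ((n + 1 : ℕ) : k) ≠ 0 := Nat.cast_ne_zero.2 (Nat.succ_ne_zero _)
  have hpd : ∀ i, MvPolynomial.pderiv i P = 0 := by
    intro i
    apply eq_zero_of_aeval_mem b x hxI hxb n hfac _ (by simpa using hPh.pderiv (i := i))
    have hch := chain_rule (DOf (b.coord i)) (DOf_mul (b.coord i)) x P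
    have hu : ∀ j, DOf (b.coord i) (x j) - (if i = j then 1 else 0) ∈ augI k A := by
      intro j
      rw [mem_augI, map_sub, counit_DOf, dOf_of_mem _ (hxI j), hxb j, Module.Basis.coord_apply,
        Module.Basis.repr_self, Finsupp.single_apply]
      by_cases hij : i = j
      · simp [hij]
      · simp [hij, Ne.symm hij]
    have e : MvPolynomial.aeval x (MvPolynomial.pderiv i P) =
        DOf (b.coord i) (MvPolynomial.aeval x P) -
          ∑ j, MvPolynomial.aeval x (MvPolynomial.pderiv j P) *
            (DOf (b.coord i) (x j) - (if i = j then 1 else 0)) := by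
      rw [hch]
      simp only [mul_sub, Finset.sum_sub_distrib, mul_ite, mul_one, mul_zero,
        Finset.sum_ite_eq, Finset.mem_univ, if_true]
      ring
    rw [e]
    have hDP : DOf (b.coord i) (MvPolynomial.aeval x P) ∈ augI k A ^ (n + 1) := by
      have : MvPolynomial.aeval x P = a - a' := by rw [← hsum]; ring
      rw [this, map_sub]
      exact Ideal.sub_mem _ (hD i) (DOf_mem_pow _ _ _ ha')
    refine Ideal.sub_mem _ hDP (Ideal.sum_mem _ (fun j _ => ?_))
    rw [pow_succ]
    refine Ideal.mul_mem_mul ?_ (hu j)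
    have := aeval_mem_pow_of_isHomogeneous (I := augI k A) hxI (hPh.pderiv (i := j))
    simpa using this
  have heuler := hPh.sum_X_mul_pderiv
  simp only [hpd, mul_zero, Finset.sum_const_zero] at heuler
  have h2 : ((n + 1 : ℕ) : k) • P = 0 := by
    rw [Nat.cast_smul_eq_nsmul]
    exact heuler.symm
  have hP0 : P = 0 := by
    rcases smul_eq_zero.1 h2 with h | h
    · exact absurd h hn1
    · exact h
  rw [hP0, map_zero, zero_add] at hsum
  rw [← hsum]
  exact ha'

variable [Algebra.FiniteType k A]

/-- Characteristic zero: a set of elements of the augmentation ideal stable under all invariant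
derivations is contained in `⋂ I^n`. -/
theorem mem_pow_of_stable (F : Set A)
    (h0 : ∀ a ∈ F, Coalgebra.counit (R := k) a = 0)
    (hD : ∀ a ∈ F, ∀ l : (augI k A).Cotangent →ₗ[k] k, DOf l a ∈ F) (n : ℕ) :
    ∀ a ∈ F, a ∈ augI k A ^ (n + 1) := by
  classical
  haveI : Module.Finite k (augI k A).Cotangent := finite_cotangent (k := k) (A := A)
  let b := Module.finBasis k (augI k A).Cotangent
  have hsurj : ∀ i, ∃ xi : augI k A, (augI k A).toCotangent xi = b i :=
    fun i => Ideal.toCotangent_surjective _ (b i)
  choose xi hxi using hsurj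
  let x : Fin (Module.finrank k (augI k A).Cotangent) → A := fun i => (xi i : A)
  have hxI : ∀ i, x i ∈ augI k A := fun i => (xi i).2
  have hxb : ∀ i, (augI k A).toCotangent ⟨x i, hxI i⟩ = b i := fun i => hxi i
  induction n with
  | zero =>
    intro a ha
    rw [zero_add, pow_one, mem_augI]
    exact h0 a ha
  | succ n ih =>
    intro a ha
    exact mem_pow_succ_succ b x hxI hxb n (ih a ha) (fun i => ih _ (hD a ha _))

end Step

section PolySeq

variable {k : Type u} [Field k] [CharZero k] {A : Type v} [CommRing A] [HopfAlgebra k A]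

open Polynomial in
/-- For `a` in the `n`-th step of the fixed point filtration of the regular comodule and a point
`g`, the sequence `m ↦ g^m (a)` is polynomial in `m`. -/
theorem exists_poly_of_mem_fixFilt (g : WithConv (A →ₐ[k] k)) (n : ℕ) {a : A}
    (ha : a ∈ fixFilt k A A n) :
    ∃ P : Polynomial k, ∀ m : ℕ, (g ^ m).ofConv a = P.eval (m : k) := by
  classical
  set T : Module.End k A := Comod.act k A A g.ofConv with hT
  set N₀ : Module.End k A := T - 1 with hN₀
  have hnil : ∀ i, n ≤ i → (N₀ ^ i) a = 0 := by
    intro i hi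
    obtain ⟨j, rfl⟩ := Nat.exists_eq_add_of_le' hi
    rw [pow_add, Module.End.mul_apply, act_sub_one_pow_eq_zero_of_mem_fixFilt g.ofConv n a ha,
      map_zero]
  set c : ℕ → k := fun i => Coalgebra.counit (R := k) ((N₀ ^ i) a) with hc
  have hc0 : ∀ i, n ≤ i → c i = 0 := by
    intro i hi
    simp only [hc, hnil i hi, map_zero]
  have hTm : ∀ m : ℕ, (g ^ m).ofConv a = ∑ i ∈ Finset.range (m + 1), (m.choose i : k) * c i := by
    intro m
    rw [← counit_act_regular (g ^ m).ofConv a]
    have h1 : Comod.act k A A (g ^ m).ofConv = T ^ m := by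
      have := map_pow (actHom k A A) g m
      simpa only [actHom_apply] using this
    have h2 : T = N₀ + 1 := by rw [hN₀]; abel
    rw [h1, h2, (Commute.one_right N₀).add_pow m, LinearMap.sum_apply, map_sum]
    apply Finset.sum_congr rfl
    intro i _
    rw [one_pow, mul_one, Module.End.mul_apply, Module.End.natCast_apply, map_nsmul, map_nsmul,
      nsmul_eq_mul]
  refine ⟨∑ i ∈ Finset.range n, Polynomial.C (c i / (i.factorial : k)) * descPochhammer k i, ?_⟩
  intro m
  rw [hTm, Polynomial.eval_finset_sum]
  have hR : ∀ i, Polynomial.eval (m : k)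
      (Polynomial.C (c i / (i.factorial : k)) * descPochhammer k i) = (m.choose i : k) * c i := by
    intro i
    rw [Polynomial.eval_mul, Polynomial.eval_C, descPochhammer_eval_eq_descFactorial,
      Nat.descFactorial_eq_factorial_mul_choose, Nat.cast_mul]
    have hi : ((i.factorial : ℕ) : k) ≠ 0 := Nat.cast_ne_zero.2 (Nat.factorial_ne_zero _)
    field_simp
  simp_rw [hR]
  have hA : ∑ i ∈ Finset.range (m + 1), (m.choose i : k) * c i =
      ∑ i ∈ Finset.range (max n (m + 1)), (m.choose i : k) * c i := by
    apply Finset.sum_subset (Finset.range_subset_range.2 (le_max_right _ _))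
    intro i _ hi
    rw [Finset.mem_range, not_lt] at hi
    rw [Nat.choose_eq_zero_of_lt hi, Nat.cast_zero, zero_mul]
  have hB : ∑ i ∈ Finset.range n, (m.choose i : k) * c i =
      ∑ i ∈ Finset.range (max n (m + 1)), (m.choose i : k) * c i := by
    apply Finset.sum_subset (Finset.range_subset_range.2 (le_max_left _ _))
    intro i _ hi
    rw [Finset.mem_range, not_lt] at hi
    rw [hc0 i hi, mul_zero]
  rw [hA, hB]

/-- the same for an arbitrary element when the group is unipotent. -/
theorem exists_poly (hU : IsUnipotent k A) (g : WithConv (A →ₐ[k] k)) (a : A) :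
    ∃ P : Polynomial k, ∀ m : ℕ, (g ^ m).ofConv a = P.eval (m : k) := by
  obtain ⟨n, hn⟩ := exists_mem_fixFilt_regular hU a
  exact exists_poly_of_mem_fixFilt g n hn

variable [IsAlgClosed k] [Algebra.FiniteType k A]

/-- For a unipotent group over an algebraically closed field of characteristic zero, the powers
of the augmentation ideal have zero intersection. -/
theorem eq_zero_of_forall_mem_pow (hU : IsUnipotent k A) {y : A}
    (hy : ∀ n, y ∈ augI k A ^ n) : y = 0 := by
  haveI : IsNoetherianRing A := Algebra.FiniteType.isNoetherianRing k A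
  haveI : IsReduced A := Groth.Agent.Lib.Helper7.HopfCartier.isReduced k A
  have hmem : y ∈ (⨅ i : ℕ, augI k A ^ i • ⊤ : Submodule A A) := by
    rw [Submodule.mem_iInf]
    intro i
    have : (augI k A ^ i • ⊤ : Submodule A A) = augI k A ^ i := by
      rw [smul_eq_mul, Ideal.mul_top]
    rw [this]
    exact hy i
  obtain ⟨r, hr⟩ := ((augI k A).mem_iInf_smul_pow_eq_bot_iff y).1 hmem
  have hr' : (r : A) * y = y := hr
  have hnil : IsNilpotent y := by
    apply isNilpotent_of_forall_algHom_eq_zero (k := k)
    intro g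
    set G : WithConv (A →ₐ[k] k) := WithConv.toConv g with hG
    obtain ⟨Py, hPy⟩ := exists_poly hU G y
    obtain ⟨Pr, hPr⟩ := exists_poly hU G (r : A)
    have hprod : (1 - Pr) * Py = 0 := by
      apply Polynomial.eq_zero_of_infinite_isRoot
      apply Set.Infinite.mono (s := Set.range (fun m : ℕ => (m : k)))
      · rintro _ ⟨m, rfl⟩
        change Polynomial.IsRoot _ _
        rw [Polynomial.IsRoot.def, Polynomial.eval_mul, Polynomial.eval_sub, Polynomial.eval_one,
          ← hPy, ← hPr, sub_mul, one_mul, ← map_mul, hr', sub_self]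
      · exact Set.infinite_range_of_injective Nat.cast_injective
    rcases mul_eq_zero.1 hprod with h | h
    · exfalso
      have h0 := congrArg (Polynomial.eval ((0 : ℕ) : k)) h
      rw [Polynomial.eval_sub, Polynomial.eval_one, ← hPr, pow_zero, Polynomial.eval_zero] at h0
      have h1 : (WithConv.ofConv (1 : WithConv (A →ₐ[k] k))) (r : A) = 0 := by
        change Coalgebra.counit (R := k) (r : A) = 0
        exact (mem_augI (r : A)).1 r.2
      rw [h1, sub_zero] at h0
      exact one_ne_zero h0
    · have h1 := hPy 1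
      rw [pow_one, h, Polynomial.eval_zero] at h1
      exact h1
  exact hnil.eq_zero

end PolySeq

section Apply

variable {k : Type u} [Field k] [CharZero k] [IsAlgClosed k] {A : Type v} [CommRing A]
  [HopfAlgebra k A] [Algebra.FiniteType k A]

/-- Unipotent group over an algebraically closed field of characteristic zero: a set of elements
of the augmentation ideal stable under all invariant derivations is `{0}`. -/
theorem eq_zero_of_stable (hU : IsUnipotent k A) (F : Set A)
    (h0 : ∀ a ∈ F, Coalgebra.counit (R := k) a = 0)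
    (hD : ∀ a ∈ F, ∀ l : (augI k A).Cotangent →ₗ[k] k, DOf l a ∈ F) :
    ∀ a ∈ F, a = 0 := by
  intro a ha
  apply eq_zero_of_forall_mem_pow hU
  intro n
  cases n with
  | zero => rw [pow_zero, Ideal.one_eq_top]; exact Submodule.mem_top
  | succ n => exact mem_pow_of_stable F h0 hD n a ha

end Apply

section Inf

variable {k : Type u} [Field k] {A : Type v} [CommRing A] [Bialgebra k A]
variable {V : Type w} [AddCommGroup V] [Module k V] [Comod k A V]

/-- the infinitesimal action of a cotangent functional on a comodule. -/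
noncomputable def inf (l : (augI k A).Cotangent →ₗ[k] k) : V →ₗ[k] V :=
  contr V (dOf l) ∘ₗ Comod.coact (k := k) (A := A)

lemma inf_apply (l : (augI k A).Cotangent →ₗ[k] k) (v : V) :
    inf l v = contr V (dOf l) (Comod.coact (k := k) (A := A) v) := rfl

lemma DOf_coeffMap (l : (augI k A).Cotangent →ₗ[k] k) (φ : V →ₗ[k] k) (v : V) :
    DOf l (coeffMap (C := A) φ v) = coeffMap (C := A) φ (inf l v) := by
  rw [DOf_apply, comul_coeffMap, contr_rTensor]
  rfl

end Inf

end Groth.Agent.Lib.Helper7.LieInv
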