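import Groth.Agent.Lib.Helper7.HopfTotalInt
import Groth.Prelude.Def_W4c1tameactTame
import Groth.Agent.Lib.Helper7.ComodPoints

/-!
# Relative Hopf modules: the Reynolds operator of a total integral (helper7)
-/

universe u v v' w w' w''

open TensorProduct

namespace Groth.Agent.Lib.Helper7.Comod

open HopfRep

section SmulA

variable {k : Type u} [CommRing k] {A : Type v} [CommRing A] [HopfAlgebra k A]
variable {B : Type w} [CommRing B] [Algebra k B] [Comod k A B]
variable {M : Type w'} [AddCommGroup M] [Module k M] [Module B M] [IsScalarTower k B M]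
  [Comod k A M] [TameAct.IsHopfMod k A B M]

/-- `m ⊗ a ↦ α a • m`. -/
noncomputable def smulA (M : Type w') [AddCommGroup M] [Module k M] [Module B M]
    [IsScalarTower k B M] (α : A →ₗ[k] B) : M ⊗[k] A →ₗ[k] M :=
  TensorProduct.lift ((Algebra.lsmul k k M : B →ₐ[k] Module.End k M).toLinearMap ∘ₗ α).flip

omit [Comod k A B] [Comod k A M] [TameAct.IsHopfMod k A B M] in
@[simp] lemma smulA_tmul (α : A →ₗ[k] B) (m : M) (a : A) : smulA M α (m ⊗ₜ[k] a) = α a • m := by
  simp [smulA]

omit [Comod k A B] [TameAct.IsHopfMod k A B M] in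
lemma rTensor_smulA_pairD (α : A →ₗ[k] B) (y : M ⊗[k] A) (d : A ⊗[k] A) :
    (smulA M α).rTensor A (pairD y d) = TameAct.hmSMul k A B M (α.rTensor A d) y := by
  induction d using TensorProduct.induction_on with
  | zero => simp
  | tmul b c =>
    induction y using TensorProduct.induction_on with
    | zero => simp
    | tmul u b' => simp [mul_comm]
    | add y z hy hz => simp only [pairD_add_left, map_add, hy, hz]
  | add d e hd he =>
    rw [pairD_add_right, map_add, hd, he, map_add, map_add, LinearMap.add_apply]

/-- the action against a comodule map `α : A → B` intertwines the diagonal coaction with `ρ_M`. -/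
theorem coact_smulA {α : A →ₗ[k] B} (hα : Hoch.IsComodHom A α) (x : M ⊗[k] A) :
    Comod.coact (k := k) (A := A) (smulA M α x) = (smulA M α).rTensor A (diagCoact M x) := by
  induction x using TensorProduct.induction_on with
  | zero => simp
  | tmul m a =>
    rw [diagCoact_tmul, rTensor_smulA_pairD, smulA_tmul, TameAct.IsHopfMod.coact_smul,
      isComodHom_apply hα]
    rfl
  | add y z hy hz => simp only [map_add, hy, hz]

/-- The retraction `M ⊗ A → M`, `m ⊗ a ↦ Σ α(S(m₁) a) • m₀`. -/
noncomputable def retrM (M : Type w') [AddCommGroup M] [Module k M] [Module B M]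
    [IsScalarTower k B M] [Comod k A M] (α : A →ₗ[k] B) : M ⊗[k] A →ₗ[k] M :=
  smulA M α ∘ₗ tw M (HopfAlgebra.antipode k (A := A))

/-- `retrM` as a map out of the induced comodule. -/
noncomputable def retrMInd (M : Type w') [AddCommGroup M] [Module k M] [Module B M]
    [IsScalarTower k B M] [Comod k A M] (α : A →ₗ[k] B) : Hoch.Ind k A M →ₗ[k] M := retrM M α

theorem isComodHom_retrM {α : A →ₗ[k] B} (hα : Hoch.IsComodHom A α) :
    Hoch.IsComodHom A (retrMInd M α) := by
  rw [isComodHom_iff]
  intro x
  change Comod.coact (k := k) (A := A) (retrM M α x) = (retrM M α).rTensor A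
    ((TensorProduct.assoc k M A A).symm ((Coalgebra.comul (R := k) (A := A)).lTensor M x))
  obtain ⟨y, rfl⟩ : ∃ y, tw M LinearMap.id y = x :=
    ⟨tw M (HopfAlgebra.antipode k (A := A)) x, tw_id_tw_antipode x⟩
  rw [ind_coact_tw, ← LinearMap.comp_apply ((retrM M α).rTensor A), ← LinearMap.rTensor_comp]
  have h1 : retrM M α ∘ₗ tw M LinearMap.id = smulA M α := by
    apply LinearMap.ext
    intro z
    simp only [retrM, LinearMap.comp_apply, tw_antipode_tw_id]
  have h2 : retrM M α (tw M LinearMap.id y) = smulA M α y := LinearMap.congr_fun h1 y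
  rw [h1, h2, coact_smulA hα]

omit [Comod k A B] [TameAct.IsHopfMod k A B M] in
theorem retrM_coact {α : A →ₗ[k] B} (h1 : α 1 = 1) (m : M) :
    retrM M α (Comod.coact (k := k) (A := A) m) = m := by
  simp only [retrM, LinearMap.comp_apply, tw_antipode_coact, smulA_tmul, h1, one_smul]

omit [Comod k A B] [TameAct.IsHopfMod k A B M] in
lemma reynolds_eq (α : A →ₗ[k] B) (m : M) :
    TameAct.reynolds k A B M α m = retrM M α (m ⊗ₜ[k] (1 : A)) := by
  simp only [TameAct.reynolds, retrM, LinearMap.comp_apply, tw_tmul]
  generalize Comod.coact (k := k) (A := A) m = y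
  induction y using TensorProduct.induction_on with
  | zero => simp
  | tmul u b => simp
  | add y z hy hz => simp only [map_add, hy, hz]

theorem reynolds_mem_fixedPts {α : A →ₗ[k] B} (hα : Hoch.IsComodHom A α) (m : M) :
    TameAct.reynolds k A B M α m ∈ fixedPts k A M := by
  rw [reynolds_eq]
  change Comod.coact (k := k) (A := A) (retrM M α (m ⊗ₜ[k] (1 : A))) = _
  have h := isComodHom_apply (isComodHom_retrM (M := M) hα)
    ((m ⊗ₜ[k] (1 : A) : M ⊗[k] A) : Hoch.Ind k A M)
  change Comod.coact (k := k) (A := A)
    (retrMInd M α ((m ⊗ₜ[k] (1 : A) : M ⊗[k] A) : Hoch.Ind k A M)) = _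
  rw [h]
  change (retrM M α).rTensor A ((TensorProduct.assoc k M A A).symm
    ((Coalgebra.comul (R := k) (A := A)).lTensor M (m ⊗ₜ[k] (1 : A)))) = _
  rw [LinearMap.lTensor_tmul, Bialgebra.comul_one, Algebra.TensorProduct.one_def,
    TensorProduct.assoc_symm_tmul, LinearMap.rTensor_tmul]

omit [Comod k A B] [TameAct.IsHopfMod k A B M] in
theorem reynolds_of_mem {α : A →ₗ[k] B} (h1 : α 1 = 1) {m : M} (hm : m ∈ fixedPts k A M) :
    TameAct.reynolds k A B M α m = m := by
  have hm' : Comod.coact (k := k) (A := A) m = m ⊗ₜ[k] (1 : A) := hm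
  rw [reynolds_eq, ← hm', retrM_coact h1]

variable {N : Type w''} [AddCommGroup N] [Module k N] [Module B N] [IsScalarTower k B N]
  [Comod k A N]

omit [Comod k A B] [TameAct.IsHopfMod k A B M] in
/-- The Reynolds operator commutes with `B`-linear comodule maps. -/
theorem reynolds_map (α : A →ₗ[k] B) (f : M →ₗ[B] N)
    (hf : Hoch.IsComodHom A (f.restrictScalars k)) (m : M) :
    TameAct.reynolds k A B N α (f m) = f (TameAct.reynolds k A B M α m) := by
  have h := isComodHom_apply hf m
  simp only [TameAct.reynolds, LinearMap.comp_apply]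
  change TensorProduct.lift _ (Comod.coact (k := k) (A := A) ((f.restrictScalars k) m)) = _
  rw [h]
  generalize Comod.coact (k := k) (A := A) m = y
  induction y using TensorProduct.induction_on with
  | zero => simp
  | tmul u b => simp
  | add y z hy hz => simp only [map_add, hy, hz]

end SmulA

end Groth.Agent.Lib.Helper7.Comod

namespace Groth.Agent.Lib.Helper7.Comod

open HopfRep

section Fundamental

variable {k : Type u} [CommRing k] {A : Type v} [CommRing A] [HopfAlgebra k A]
variable {M : Type w'} [AddCommGroup M] [Module k M] [Module A M] [IsScalarTower k A M]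
  [Comod k A M] [TameAct.IsHopfMod k A A M]

/-- The projector `m ↦ Σ S(m₁) • m₀` of a Hopf module onto its coinvariants. -/
noncomputable def hmProj (k : Type u) [CommRing k] (A : Type v) [CommRing A] [HopfAlgebra k A]
    (M : Type w') [AddCommGroup M] [Module k M] [Module A M]
    [IsScalarTower k A M] [Comod k A M] : M →ₗ[k] M :=
  TameAct.reynolds k A A M LinearMap.id

omit [Comod k A M] [TameAct.IsHopfMod k A A M] in
lemma smulA_id_rmul (b : A) (z : M ⊗[k] A) :
    smulA M (LinearMap.id : A →ₗ[k] A) (rmul M b z) = b • smulA M (LinearMap.id : A →ₗ[k] A) z := by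
  induction z using TensorProduct.induction_on with
  | zero => simp
  | tmul u c => simp [mul_smul, mul_comm]
  | add y z hy hz => simp only [map_add, hy, hz, smul_add]

omit [TameAct.IsHopfMod k A A M] in
lemma smulA_rTensor_hmProj (y : M ⊗[k] A) :
    smulA M (LinearMap.id : A →ₗ[k] A) ((hmProj k A M).rTensor A y) =
      retrM M (LinearMap.id : A →ₗ[k] A) y := by
  induction y using TensorProduct.induction_on with
  | zero => simp
  | tmul u b =>
    rw [LinearMap.rTensor_tmul, smulA_tmul, LinearMap.id_apply, hmProj, reynolds_eq]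
    simp only [retrM, LinearMap.comp_apply, tw_tmul]
    rw [smulA_id_rmul, smulA_id_rmul, one_smul]
  | add y z hy hz => simp only [map_add, hy, hz]

omit [TameAct.IsHopfMod k A A M] in
theorem smulA_hmProj_coact (m : M) :
    smulA M (LinearMap.id : A →ₗ[k] A) ((hmProj k A M).rTensor A (Comod.coact (k := k) (A := A) m)) = m := by
  rw [smulA_rTensor_hmProj, retrM_coact (by simp)]

theorem hmProj_mem (m : M) : hmProj k A M m ∈ fixedPts k A M :=
  reynolds_mem_fixedPts (B := A) (isComodHom_id (A := A) (V := A)) m

theorem span_fixedPts_eq_top : Submodule.span A (fixedPts k A M : Set M) = ⊤ := by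
  rw [eq_top_iff]
  intro m _
  rw [← smulA_hmProj_coact (k := k) (A := A) m]
  generalize Comod.coact (k := k) (A := A) m = y
  induction y using TensorProduct.induction_on with
  | zero => simp
  | tmul u b =>
    rw [LinearMap.rTensor_tmul, smulA_tmul, LinearMap.id_apply]
    exact Submodule.smul_mem _ _ (Submodule.subset_span (hmProj_mem u))
  | add y z hy hz =>
    simp only [map_add]
    exact Submodule.add_mem _ hy hz

lemma coact_smul_of_mem (a : A) {v : M} (hv : v ∈ fixedPts k A M) :
    Comod.coact (k := k) (A := A) (a • v) =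
      TameAct.hmSMul k A A M (Coalgebra.comul (R := k) a) (v ⊗ₜ[k] (1 : A)) := by
  have hv' : Comod.coact (k := k) (A := A) v = v ⊗ₜ[k] (1 : A) := hv
  rw [TameAct.IsHopfMod.coact_smul (k := k) (A := A) (B := A), hv']
  rfl

lemma hmProj_smul_of_mem (a : A) {v : M} (hv : v ∈ fixedPts k A M) :
    hmProj k A M (a • v) = Coalgebra.counit (R := k) a • v := by
  have key : ∀ d : A ⊗[k] A,
      TensorProduct.lift ((Algebra.lsmul k k M : A →ₐ[k] Module.End k M).toLinearMap ∘ₗ
        (LinearMap.id : A →ₗ[k] A) ∘ₗ (HopfAlgebraStruct.antipode (R := k) (A := A))).flip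
          (TameAct.hmSMul k A A M d (v ⊗ₜ[k] (1 : A))) =
        (LinearMap.mul' k A ((HopfAlgebra.antipode k (A := A)).lTensor A d)) • v := by
    intro d
    induction d using TensorProduct.induction_on with
    | zero => simp
    | tmul x y => simp [mul_smul, smul_comm x]
    | add d e hd he => simp only [map_add, LinearMap.add_apply, hd, he, add_smul]
  simp only [hmProj, TameAct.reynolds, LinearMap.comp_apply]
  rw [coact_smul_of_mem a hv, key, HopfAlgebra.mul_antipode_lTensor_comul_apply,
    Algebra.algebraMap_eq_smul_one, smul_assoc, one_smul]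

theorem rTensor_hmProj_coact_smul (a : A) {v : M} (hv : v ∈ fixedPts k A M) :
    (hmProj k A M).rTensor A (Comod.coact (k := k) (A := A) (a • v)) = v ⊗ₜ[k] a := by
  have key : ∀ d : A ⊗[k] A,
      (hmProj k A M).rTensor A (TameAct.hmSMul k A A M d (v ⊗ₜ[k] (1 : A))) =
        v ⊗ₜ[k] (TensorProduct.lid k A ((Coalgebra.counit (R := k) (A := A)).rTensor A d)) := by
    intro d
    induction d using TensorProduct.induction_on with
    | zero => simp
    | tmul x y => simp [hmProj_smul_of_mem x hv, TensorProduct.smul_tmul]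
    | add d e hd he => simp only [map_add, LinearMap.add_apply, hd, he, TensorProduct.tmul_add]
  rw [coact_smul_of_mem a hv, key, Coalgebra.rTensor_counit_comul]
  simp

end Fundamental

section Basis

variable {k : Type u} [Field k] {A : Type v} [CommRing A] [HopfAlgebra k A]
variable {M : Type w'} [AddCommGroup M] [Module k M] [Module A M] [IsScalarTower k A M]
  [Comod k A M] [TameAct.IsHopfMod k A A M]

/-- S13255: a `k`-basis of the coinvariants of a Hopf module is an `A`-basis. -/
theorem hopfModule_basis {ι : Type*} (v : ι → M) (hli : LinearIndependent k v)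
    (hsp : Submodule.span k (Set.range v) = fixedPts k A M) :
    LinearIndependent A v ∧ Submodule.span A (Set.range v) = ⊤ := by
  have hv : ∀ i, v i ∈ fixedPts k A M := fun i => by
    rw [← hsp]; exact Submodule.subset_span ⟨i, rfl⟩
  constructor
  · rw [linearIndependent_iff']
    intro s g hg i₀ hi₀
    -- apply `(P ⊗ id) ∘ ρ`
    have h1 : ∑ i ∈ s, v i ⊗ₜ[k] g i = (0 : M ⊗[k] A) := by
      have := congrArg (fun m => (hmProj k A M).rTensor A (Comod.coact (k := k) (A := A) m)) hg
      simp only [map_sum, map_zero] at this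
      rw [← this]
      exact Finset.sum_congr rfl fun i _ => (rTensor_hmProj_coact_smul (g i) (hv i)).symm
    -- a functional dual to `v i₀`
    classical
    obtain ⟨Φ, hΦ⟩ : ∃ Φ : M →ₗ[k] (ι →₀ k), ∀ i, Φ (v i) = Finsupp.single i 1 := by
      obtain ⟨Φ, hΦ⟩ := LinearMap.exists_extend (hli.repr : _ →ₗ[k] (ι →₀ k))
      refine ⟨Φ, fun i => ?_⟩
      have := LinearMap.congr_fun hΦ ⟨v i, Submodule.subset_span ⟨i, rfl⟩⟩
      simp only [LinearMap.comp_apply, Submodule.subtype_apply] at this
      rw [this]
      exact hli.repr_eq_single i _ rfl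
    have h2 := congrArg (contrL A (Finsupp.lapply i₀ ∘ₗ Φ)) h1
    simp only [map_sum, contrL_tmul, map_zero, LinearMap.comp_apply, hΦ, Finsupp.lapply_apply] at h2
    rw [Finset.sum_eq_single i₀] at h2
    · simpa using h2
    · intro j _ hj
      simp [Finsupp.single_eq_of_ne hj.symm]
    · intro h; exact absurd hi₀ h
  · rw [eq_top_iff, ← span_fixedPts_eq_top (k := k) (A := A) (M := M)]
    apply Submodule.span_le.2
    intro m hm
    have : m ∈ Submodule.span k (Set.range v) := by rw [hsp]; exact hm
    exact Submodule.span_le_restrictScalars k A (Set.range v) this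

end Basis

end Groth.Agent.Lib.Helper7.Comod
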