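import Groth.Agent.Lib.Helper7.HopfMod
import Groth.Agent.Lib.Helper7.HopfLR

/-!
# Relative Hopf modules over a comodule algebra with semisimple comodules (helper7)

Reynolds operators on `(R, A)`-modules, finite generation of invariants `M^G` over `R^G`.
-/

universe u v v' w w' w''

open TensorProduct

namespace Groth.Agent.Lib.Helper7.Comod

open HopfRep

section LRMod

variable {k : Type u} [Field k] {A : Type v} [CommRing A] [Bialgebra k A]
variable {R : Type w} [CommRing R] [Algebra k R] [Comod k A R] [GLin.IsCoactAlg k A R]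
variable {M : Type w'} [AddCommGroup M] [Module k M] [Module R M] [IsScalarTower k R M]
  [Comod k A M] [TameAct.IsHopfMod k A R M]

omit [GLin.IsCoactAlg k A R] in
/-- `r ↦ r • n` is a comodule map for invariant `n`. -/
lemma isComodHom_toSpanSingleton {n : M} (hn : n ∈ fixedPts k A M) :
    Hoch.IsComodHom A ((LinearMap.toSpanSingleton R M n).restrictScalars k) := by
  have hn' : Comod.coact (k := k) (A := A) n = n ⊗ₜ[k] (1 : A) := hn
  rw [isComodHom_iff]
  intro r
  have key : ∀ y : R ⊗[k] A, TameAct.hmSMul k A R M y (n ⊗ₜ[k] (1 : A)) =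
      ((LinearMap.toSpanSingleton R M n).restrictScalars k).rTensor A y := by
    intro y
    induction y using TensorProduct.induction_on with
    | zero => simp
    | tmul x a => simp
    | add y z hy hz => simp only [map_add, LinearMap.add_apply, hy, hz]
  change Comod.coact (k := k) (A := A) (r • n) = _
  rw [TameAct.IsHopfMod.coact_smul (k := k) (A := A) (B := R), hn', key]

omit [GLin.IsCoactAlg k A R] in
/-- `m ↦ c • m` is a comodule map for invariant `c`. -/
lemma isComodHom_lsmul {c : R} (hc : c ∈ fixedPts k A R) :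
    Hoch.IsComodHom A ((LinearMap.lsmul R M c).restrictScalars k) := by
  have hc' : Comod.coact (k := k) (A := A) c = c ⊗ₜ[k] (1 : A) := hc
  rw [isComodHom_iff]
  intro m
  have key : ∀ z : M ⊗[k] A, TameAct.hmSMul k A R M (c ⊗ₜ[k] (1 : A)) z =
      ((LinearMap.lsmul R M c).restrictScalars k).rTensor A z := by
    intro z
    induction z using TensorProduct.induction_on with
    | zero => simp
    | tmul x a => simp
    | add y z hy hz => simp only [map_add, hy, hz]
  change Comod.coact (k := k) (A := A) (c • m) = _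
  rw [TameAct.IsHopfMod.coact_smul (k := k) (A := A) (B := R), hc', key]

omit [GLin.IsCoactAlg k A R] in
/-- `E_M (r • n) = E_R r • n` for invariant `n`. -/
theorem IsReynolds.map_smul_of_mem (hR : IsSemisimpleComod k A R) {E : R →ₗ[k] R}
    (hE : IsReynolds k A E) {E' : M →ₗ[k] M} (hE' : IsReynolds k A E') (r : R) {n : M}
    (hn : n ∈ fixedPts k A M) : E' (r • n) = E r • n := by
  have := LinearMap.congr_fun (IsReynolds.comp_eq hR hE hE' (isComodHom_toSpanSingleton hn)) r
  simpa using this

omit [GLin.IsCoactAlg k A R] in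
/-- `E_M (c • m) = c • E_M m` for invariant `c`. -/
theorem IsReynolds.map_smul_of_mem_invariants (hM : IsSemisimpleComod k A M)
    {E' : M →ₗ[k] M} (hE' : IsReynolds k A E') {c : R} (hc : c ∈ fixedPts k A R) (m : M) :
    E' (c • m) = c • E' m := by
  have := LinearMap.congr_fun (IsReynolds.comp_eq hM hE' hE' (isComodHom_lsmul (M := M) hc)) m
  simpa using this

omit [GLin.IsCoactAlg k A R] in
/-- Finite generation of the invariants of a Noetherian Hopf module over the invariant ring. -/
theorem exists_finset_fixedPts_generating (hR : IsSemisimpleComod k A R)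
    (hM : IsSemisimpleComod k A M) [IsNoetherian R M] :
    ∃ s : Finset M, (↑s : Set M) ⊆ (fixedPts k A M : Set M) ∧
      ∀ m ∈ fixedPts k A M, ∃ c : M → R,
        (∀ y, c y ∈ fixedPts k A R) ∧ m = ∑ y ∈ s, c y • y := by
  obtain ⟨E, hE⟩ := exists_isReynolds hR
  obtain ⟨E', hE'⟩ := exists_isReynolds hM
  have hfg : (Submodule.span R (fixedPts k A M : Set M)).FG := IsNoetherian.noetherian _
  obtain ⟨s, hs, hspan⟩ := (Submodule.fg_span_iff_fg_span_finset_subset _).1 hfg
  refine ⟨s, hs, fun m hm => ?_⟩
  have hm' : m ∈ Submodule.span R (s : Set M) := by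
    rw [← hspan]; exact Submodule.subset_span hm
  obtain ⟨f, _, hf⟩ := Submodule.mem_span_finset.1 hm'
  refine ⟨fun y => E (f y), fun y => hE.apply_mem _, ?_⟩
  have h1 : E' m = m := (hE'.2.2 m).2 hm
  rw [← h1, ← hf, map_sum]
  exact Finset.sum_congr rfl fun y hy => IsReynolds.map_smul_of_mem hR hE hE' (f y) (hs hy)

end LRMod

end Groth.Agent.Lib.Helper7.Comod
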