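import Groth.Agent.Lib.Helper7.HopfSimple
import Mathlib

/-!
# Simple multiplicative finite commutative group schemes are `μ_p` (helper7)
-/

universe u v

open TensorProduct WithConv

namespace Groth.Agent.Lib.Helper7.HopfSimple

section MuP

variable {k : Type u} [Field k] [IsAlgClosed k] (p : ℕ) [Fact p.Prime] [CharP k p]
  {A : Type v} [CommRing A] [HopfAlgebra k A] [Coalgebra.IsCocomm k A] [FiniteDimensional k A]

omit [Fact p.Prime] [CharP k p] in
/-- a reduced dual of dimension `> 1` has a point other than the counit. -/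
theorem exists_point_ne (hdual : IsReduced (WithConv (A →ₗ[k] k)))
    (hA : 1 < Module.finrank k A) :
    ∃ χ : WithConv (A →ₗ[k] k) →ₐ[k] k, χ ≠ ev1 k A := by
  classical
  set m : Ideal (WithConv (A →ₗ[k] k)) := RingHom.ker (ev1 k A) with hm
  have hfinD : Module.Finite k (WithConv (A →ₗ[k] k)) :=
    Module.Finite.equiv (WithConv.linearEquiv k (A →ₗ[k] k)).symm
  have hrankD : Module.finrank k (WithConv (A →ₗ[k] k)) = Module.finrank k A := by
    rw [(WithConv.linearEquiv k (A →ₗ[k] k)).finrank_eq, Subspace.dual_finrank_eq]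
  have hsurj : Function.Surjective (ev1 k A) := fun c =>
    ⟨c • 1, by rw [map_smul, map_one, smul_eq_mul, mul_one]⟩
  have hmax : m.IsMaximal := RingHom.ker_isMaximal_of_surjective _ hsurj
  have hart : IsArtinianRing (WithConv (A →ₗ[k] k)) := IsArtinianRing.of_finite k _
  have hmne : m ≠ ⊥ := by
    intro h0
    have h1 : ∀ w : WithConv (A →ₗ[k] k), ∃ c : k, c • (1 : WithConv (A →ₗ[k] k)) = w := by
      intro w
      refine ⟨w 1, ?_⟩
      have := sub_mem_ker_ev1 w
      rw [← hm, h0, Ideal.mem_bot, sub_eq_zero] at this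
      exact this.symm
    have := finrank_le_one (1 : WithConv (A →ₗ[k] k)) h1
    omega
  have hex : ∃ M : Ideal (WithConv (A →ₗ[k] k)), M.IsMaximal ∧ M ≠ m := by
    by_contra hcon
    push Not at hcon
    have hjac : Ideal.jacobson (⊥ : Ideal (WithConv (A →ₗ[k] k))) = m := by
      apply le_antisymm
      · exact sInf_le ⟨bot_le, hmax⟩
      · apply le_sInf
        rintro J ⟨-, hJ⟩
        rw [hcon J hJ]
    have hnil : IsNilpotent (Ideal.jacobson (⊥ : Ideal (WithConv (A →ₗ[k] k)))) :=
      IsArtinianRing.isNilpotent_jacobson_bot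
    apply hmne
    rw [eq_bot_iff]
    intro y hy
    rw [← hjac] at hy
    obtain ⟨n, hn⟩ := hnil
    have h1 := Ideal.pow_mem_pow hy n
    rw [hn] at h1
    have h2 : y ^ n = 0 := h1
    exact (Ideal.mem_bot).mpr (IsReduced.eq_zero y ⟨n, h2⟩)
  obtain ⟨M, hM, hMm⟩ := hex
  letI : Field (WithConv (A →ₗ[k] k) ⧸ M) := Ideal.Quotient.field M
  have hfinK : Module.Finite k (WithConv (A →ₗ[k] k) ⧸ M) :=
    Module.Finite.of_surjective (Ideal.Quotient.mkₐ k M).toLinearMap (Ideal.Quotient.mkₐ_surjective k M)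
  have hbij : Function.Bijective (algebraMap k (WithConv (A →ₗ[k] k) ⧸ M)) :=
    IsAlgClosed.algebraMap_bijective_of_isIntegral
  let e : k ≃ₐ[k] (WithConv (A →ₗ[k] k) ⧸ M) :=
    AlgEquiv.ofBijective (Algebra.ofId k _) hbij
  let χ : WithConv (A →ₗ[k] k) →ₐ[k] k := (e.symm : _ →ₐ[k] k).comp (Ideal.Quotient.mkₐ k M)
  refine ⟨χ, fun h => hMm ?_⟩
  have hker : RingHom.ker χ = M := by
    ext y
    rw [RingHom.mem_ker]
    change e.symm (Ideal.Quotient.mk M y) = 0 ↔ _
    rw [map_eq_zero_iff _ e.symm.injective, Ideal.Quotient.eq_zero_iff_mem]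
  rw [← hker, h]


omit [IsAlgClosed k] [Fact p.Prime] [CharP k p] in
/-- an algebra map on the dual is evaluation at a group-like element. -/
theorem exists_groupLike_of_point (χ : WithConv (A →ₗ[k] k) →ₐ[k] k) :
    ∃ g : A, IsGroupLikeElem k g ∧ ∀ y : WithConv (A →ₗ[k] k), χ y = y g := by
  obtain ⟨g, hg⟩ := exists_eval χ.toLinearMap
  have hg' : ∀ y : WithConv (A →ₗ[k] k), χ y = y g := hg
  refine ⟨g, ⟨?_, ?_⟩, hg'⟩
  · have h1 := hg' 1
    rw [map_one, LinearMap.convOne_apply] at h1
    exact h1.symm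
  · rw [← sub_eq_zero]
    apply eq_zero_of_forall_tensor
    intro y z
    rw [map_sub, map_sub, TensorProduct.map_tmul, LinearMap.mul'_apply]
    have h3 : LinearMap.mul' k k (TensorProduct.map y z (Coalgebra.comul (R := k) g)) =
        ((toConv y : WithConv (A →ₗ[k] k)) * toConv z) g :=
      (LinearMap.convMul_apply (toConv y : WithConv (A →ₗ[k] k)) (toConv z) g).symm
    rw [h3, ← hg', map_mul, hg', hg']
    exact sub_self _

variable [IsLocalRing A]

/-- a simple connected multiplicative finite commutative group scheme over an algebraically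
closed field is `μ_p`. -/
theorem muP_of_simple (hdual : IsReduced (WithConv (A →ₗ[k] k)))
    (hA : 1 < Module.finrank k A)
    (hsimple : ∀ I : Ideal A, I.IsHopfIdeal k → I = ⊥ ∨ I = RingHom.ker (Bialgebra.counitAlgHom k A)) :
    ∃ g : A, IsGroupLikeElem k g ∧ g ^ p = 1 ∧ LinearIndependent k (fun i : Fin p => g ^ (i : ℕ)) ∧
      Module.finrank k A = p := by
  classical
  obtain ⟨χ, hχ⟩ := exists_point_ne hdual hA
  obtain ⟨g, hg, hgχ⟩ := exists_groupLike_of_point χ
  have hg1 : g ≠ 1 := by
    rintro rfl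
    apply hχ
    apply AlgHom.ext
    intro y
    rw [hgχ y, ev1_apply]
  have hcharA : CharP A p := charP_of_injective_algebraMap (algebraMap k A).injective p
  -- g has p-power order
  have hex : ∃ e : ℕ, g ^ p ^ e = 1 := by
    have hε : Coalgebra.counit (R := k) (g - 1) = 0 := by
      rw [map_sub, hg.counit_eq_one, Bialgebra.counit_one, sub_self]
    obtain ⟨N, hN⟩ := isNilpotent_of_counit_eq_zero hε
    refine ⟨N, ?_⟩
    have h1 : (g - 1) ^ p ^ N = 0 := by
      have hle : N ≤ p ^ N := (Nat.lt_pow_self (Fact.out : p.Prime).one_lt).le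
      rw [← Nat.sub_add_cancel hle, pow_add, hN, mul_zero]
    rw [sub_pow_char_pow, one_pow, sub_eq_zero] at h1
    exact h1
  set e := Nat.find hex with he
  have hge : g ^ p ^ e = 1 := Nat.find_spec hex
  have hepos : 1 ≤ e := by
    by_contra h
    have : e = 0 := by omega
    rw [this, pow_zero, pow_one] at hge
    exact hg1 hge
  set h := g ^ p ^ (e - 1) with hh
  have hh1 : h ≠ 1 := Nat.find_min hex (m := e - 1) (by omega)
  have hhp : h ^ p = 1 := by
    rw [hh, ← pow_mul, ← pow_succ, Nat.sub_add_cancel hepos]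
    exact hge
  have hhg : IsGroupLikeElem k h := hg.pow
  -- (h - 1) = I
  have hI : RingHom.ker (Bialgebra.counitAlgHom k A) = Ideal.span ({h - 1} : Set A) := by
    rcases hsimple _ (isHopfIdeal_span_groupLike hhg) with h0 | h0
    · rw [Ideal.span_singleton_eq_bot, sub_eq_zero] at h0
      exact absurd h0 hh1
    · exact h0.symm
  have hnilp : (h - 1) ^ p = 0 := by
    rw [sub_pow_char, one_pow, hhp, sub_self]
  have hspan := span_pow_eq_top (h - 1) hI p hnilp
  have hle : Module.finrank k A ≤ p := by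
    have h1 := finrank_range_le_card (R := k) (fun i : Fin p => (h - 1) ^ (i : ℕ))
    rw [Set.finrank, hspan, finrank_top, Fintype.card_fin] at h1
    exact h1
  -- linear independence
  have hord : orderOf h = p := orderOf_eq_prime hhp hh1
  let f : Fin p → GroupLike k A := fun i => ⟨h ^ (i : ℕ), hhg.pow⟩
  have hf : Function.Injective f := by
    intro i j hij
    have h1 : h ^ (i : ℕ) = h ^ (j : ℕ) := congrArg GroupLike.val hij
    have hi : (i : ℕ) ∈ Set.Iio (orderOf h) := by rw [hord]; exact i.2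
    have hj : (j : ℕ) ∈ Set.Iio (orderOf h) := by rw [hord]; exact j.2
    exact Fin.ext (pow_injOn_Iio_orderOf hi hj h1)
  have hli : LinearIndependent k (fun i : Fin p => h ^ (i : ℕ)) :=
    (linearIndep_groupLikeVal (R := k) (A := A)).comp f hf
  have hge' : p ≤ Module.finrank k A := by
    have := hli.fintype_card_le_finrank
    rwa [Fintype.card_fin] at this
  exact ⟨h, hhg, hhp, hli, le_antisymm hle hge'⟩

end MuP

end Groth.Agent.Lib.Helper7.HopfSimple
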