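import Groth.Agent.Lib.Helper7.HopfSub
import Groth.Agent.Lib.Helper7.HopfTwist
import Groth.Agent.Lib.Helper7.HopfFrobKer

/-!
# A finite local commutative Hopf algebra over a field is free over its Hopf subalgebras (helper7)
-/

universe u v

open TensorProduct

namespace Groth.Agent.Lib.Helper7.HopfSub

open Groth.Agent.Lib.Helper7.Comod HopfRep Groth.Agent.Lib.Helper7.HopfCot
  Groth.Agent.Lib.Helper7.FrobKer

section Free

variable {k : Type u} [Field k] {A : Type v} [CommRing A] [HopfAlgebra k A]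

/-- the ideal of `A` generated by the augmentation ideal of `B`. -/
noncomputable def augMap (B : Subalgebra k A) : Ideal A :=
  Ideal.map (algebraMap ↥B A) (RingHom.ker (counitB B))

/-- `q ⊗ id : A ⊗ A → A/B⁺A ⊗ A`. -/
noncomputable def QI (B : Subalgebra k A) : A ⊗[k] A →ₐ[k] (A ⧸ augMap B) ⊗[k] A :=
  Algebra.TensorProduct.map (Ideal.Quotient.mkₐ k (augMap B)) (AlgHom.id k A)

variable {B : Subalgebra k A}

lemma sub_counit_mem_augMap (u : ↥B) : (u : A) - algebraMap k A (counitB B u) ∈ augMap B := by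
  have h : u - algebraMap k ↥B (counitB B u) ∈ RingHom.ker (counitB B) := by
    rw [RingHom.mem_ker, map_sub, AlgHom.commutes, Algebra.algebraMap_self_apply, sub_self]
  exact Ideal.mem_map_of_mem (algebraMap ↥B A) h

lemma mk_val (u : ↥B) :
    Ideal.Quotient.mk (augMap B) (u : A) = algebraMap k (A ⧸ augMap B) (counitB B u) := by
  rw [← sub_eq_zero]
  have := Ideal.Quotient.eq_zero_iff_mem.2 (sub_counit_mem_augMap u)
  rw [map_sub] at this
  exact this

lemma QI_ιι (z : ↥B ⊗[k] ↥B) :
    QI B (ιι B z) = (1 : A ⧸ augMap B) ⊗ₜ[k] (Algebra.TensorProduct.lid k A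
      (Algebra.TensorProduct.map (Bialgebra.counitAlgHom k A) (AlgHom.id k A) (ιι B z))) := by
  induction z using TensorProduct.induction_on with
  | zero => simp
  | tmul u v =>
    simp only [ιι, QI, Algebra.TensorProduct.map_tmul, Ideal.Quotient.mkₐ_eq_mk, AlgHom.coe_id,
      id_eq, Subalgebra.coe_val, Algebra.TensorProduct.lid_tmul]
    rw [mk_val, Algebra.algebraMap_eq_smul_one, TensorProduct.smul_tmul]
    rfl
  | add y z hy hz => simp only [map_add, hy, hz, TensorProduct.tmul_add]

variable (hB : IsHopfSub B)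

include hB in
lemma QI_comul_val (b : ↥B) :
    QI B (Coalgebra.comul (R := k) (b : A)) = (1 : A ⧸ augMap B) ⊗ₜ[k] (b : A) := by
  rw [← ιι_comulB hB, QI_ιι, ιι_comulB]
  have h := Coalgebra.rTensor_counit_comul (R := k) (b : A)
  have h2 : Algebra.TensorProduct.map (Bialgebra.counitAlgHom k A) (AlgHom.id k A)
      (Coalgebra.comul (R := k) (b : A)) = (1 : k) ⊗ₜ[k] (b : A) := h
  rw [h2]
  simp

/-- the canonical map, `(v, a) ↦ Σ q(v₁) ⊗ v₂ a`. -/
noncomputable def canF (B : Subalgebra k A) (v a : A) : (A ⧸ augMap B) ⊗[k] A :=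
  QI B (Coalgebra.comul (R := k) v) * ((1 : A ⧸ augMap B) ⊗ₜ[k] a)

lemma canF_add_left (v w a : A) : canF B (v + w) a = canF B v a + canF B w a := by
  unfold canF
  rw [map_add, map_add, add_mul]

lemma canF_zero_left (a : A) : canF B 0 a = 0 := by
  unfold canF
  rw [map_zero, map_zero, zero_mul]

lemma canF_sum_left {ι : Type*} (s : Finset ι) (v : ι → A) (a : A) :
    canF B (∑ i ∈ s, v i) a = ∑ i ∈ s, canF B (v i) a := by
  classical
  induction s using Finset.induction_on with
  | empty => simp [canF_zero_left]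
  | insert i s hi ih => rw [Finset.sum_insert hi, Finset.sum_insert hi, canF_add_left, ih]

include hB in
lemma canF_balanced (b : ↥B) (v a : A) : canF B ((b : A) * v) a = canF B v ((b : A) * a) := by
  unfold canF
  rw [Bialgebra.comul_mul, map_mul, QI_comul_val hB]
  rw [mul_comm ((1 : A ⧸ augMap B) ⊗ₜ[k] (b : A)), mul_assoc, Algebra.TensorProduct.tmul_mul_tmul,
    one_mul]

lemma span_canF : Submodule.span k {z | ∃ v a : A, canF B v a = z} = ⊤ := by
  have hθ : Function.Surjective (tw A (LinearMap.id : A →ₗ[k] A)) := fun x =>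
    ⟨tw A (HopfAlgebra.antipode k (A := A)) x, tw_id_tw_antipode x⟩
  have hQ : Function.Surjective (QI B) := by
    have : (QI B : A ⊗[k] A → (A ⧸ augMap B) ⊗[k] A) =
        TensorProduct.map (Ideal.Quotient.mkₐ k (augMap B)).toLinearMap LinearMap.id := rfl
    rw [this]
    exact TensorProduct.map_surjective (Ideal.Quotient.mkₐ_surjective k _) Function.surjective_id
  have hs : Function.Surjective ((QI B).toLinearMap ∘ₗ tw A (LinearMap.id : A →ₗ[k] A)) :=
    hQ.comp hθ
  rw [eq_top_iff, ← LinearMap.range_eq_top.2 hs, LinearMap.range_eq_map,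
    ← TensorProduct.span_tmul_eq_top, Submodule.map_span]
  apply Submodule.span_mono
  rintro _ ⟨_, ⟨v, a, rfl⟩, rfl⟩
  refine ⟨v, a, ?_⟩
  rw [LinearMap.comp_apply, tw_tmul, LinearMap.lTensor_id, LinearMap.id_apply]
  change canF B v a = QI B (rmul A a (Coalgebra.comul (R := k) v))
  have hr : ∀ y : A ⊗[k] A, rmul A a y = y * ((1 : A) ⊗ₜ[k] a) := by
    intro y
    induction y using TensorProduct.induction_on with
    | zero => simp
    | tmul x c => simp
    | add y z hy hz => simp only [map_add, hy, hz, add_mul]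
  rw [hr, map_mul]
  unfold canF
  congr 1

end Free

section Dim

variable {k : Type u} [Field k] {A : Type v} [CommRing A] [HopfAlgebra k A]
  {B : Subalgebra k A} [Module.Finite k A] [IsLocalRing A]

lemma isNilpotent_of_counit_eq_zero (a : A) (ha : Coalgebra.counit (R := k) a = 0) :
    IsNilpotent a := by
  obtain ⟨N, hN⟩ := exists_pow_augI_eq_bot (k := k) (A := A)
  refine ⟨N, ?_⟩
  have : a ^ N ∈ augI k A ^ N := Ideal.pow_mem_pow ((mem_augI a).2 ha) N
  rwa [hN, Ideal.mem_bot] at this

lemma isNilpotent_of_mem_ker_counitB (x : ↥B) (hx : x ∈ RingHom.ker (counitB B)) :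
    IsNilpotent x := by
  have hn : IsNilpotent (x : A) := isNilpotent_of_counit_eq_zero (k := k) _ hx
  obtain ⟨N, hN⟩ := hn
  exact ⟨N, Subtype.ext (by simpa using hN)⟩

lemma ker_counitB_le_jacobson : RingHom.ker (counitB B) ≤ Ideal.jacobson ⊥ := by
  intro x hx
  have h1 : x ∈ nilradical ↥B := mem_nilradical.2 (isNilpotent_of_mem_ker_counitB x hx)
  exact Ideal.radical_le_jacobson h1

variable (hB : IsHopfSub B)

include hB in
/-- A finite local commutative Hopf algebra is free over a Hopf subalgebra `B`, of rank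
`dim A/B⁺A`. -/
theorem finrank_eq_mul :
    Module.finrank k A = Module.finrank k ↥B * Module.finrank k (A ⧸ augMap B) := by
  classical
  obtain ⟨m, hm⟩ : ∃ m, Module.finrank k (A ⧸ augMap B) = m := ⟨_, rfl⟩
  let bQ := Module.finBasisOfFinrankEq k (A ⧸ augMap B) hm
  have hlift : ∀ i, ∃ a : A, Ideal.Quotient.mk (augMap B) a = bQ i :=
    fun i => Ideal.Quotient.mk_surjective _
  choose a ha using hlift
  haveI : Module.Finite ↥B A := Module.Finite.of_restrictScalars_finite k ↥B A
  have hgen : Submodule.span ↥B (Set.range a) = ⊤ := by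
    rw [eq_top_iff]
    apply Submodule.le_of_le_smul_of_le_jacobson_bot (I := RingHom.ker (counitB B))
      (Module.finite_def.1 inferInstance) ker_counitB_le_jacobson
    intro x _
    have hx := bQ.sum_repr (Ideal.Quotient.mk (augMap B) x)
    set y : A := ∑ i, bQ.repr (Ideal.Quotient.mk (augMap B) x) i • a i with hy
    have hxy : x - y ∈ augMap B := by
      rw [← Ideal.Quotient.eq_zero_iff_mem, map_sub, sub_eq_zero, hy, map_sum]
      conv_lhs => rw [← hx]
      refine Finset.sum_congr rfl (fun i _ => ?_)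
      rw [← ha i]
      rfl
    have : x = y + (x - y) := by ring
    rw [this]
    refine Submodule.add_mem_sup ?_ ?_
    · refine Submodule.sum_mem _ (fun i _ => ?_)
      have : bQ.repr (Ideal.Quotient.mk (augMap B) x) i • a i =
          (algebraMap k ↥B (bQ.repr (Ideal.Quotient.mk (augMap B) x) i)) • a i := by
        rw [algebraMap_smul]
      rw [this]
      exact Submodule.smul_mem _ _ (Submodule.subset_span ⟨i, rfl⟩)
    · rw [Ideal.smul_top_eq_map]
      exact hxy
  let Ψ : (Fin m → A) →ₗ[k] (A ⧸ augMap B) ⊗[k] A :=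
    ∑ i, (LinearMap.mulLeft k (QI B (Coalgebra.comul (R := k) (a i)))) ∘ₗ
      (Algebra.TensorProduct.includeRight : A →ₐ[k] (A ⧸ augMap B) ⊗[k] A).toLinearMap ∘ₗ
        LinearMap.proj i
  have hΨ : ∀ c, Ψ c = ∑ i, canF B (a i) (c i) := by
    intro c
    simp only [Ψ, LinearMap.sum_apply, LinearMap.comp_apply, LinearMap.proj_apply]
    rfl
  have hΨs : Function.Surjective Ψ := by
    rw [← LinearMap.range_eq_top, eq_top_iff, ← span_canF (B := B)]
    apply Submodule.span_le.2
    rintro _ ⟨v, a', rfl⟩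
    have hv : v ∈ Submodule.span ↥B (Set.range a) := by rw [hgen]; trivial
    obtain ⟨c, hc⟩ := (Submodule.mem_span_range_iff_exists_fun ↥B).1 hv
    refine ⟨fun i => (c i : A) * a', ?_⟩
    rw [hΨ, ← hc, canF_sum_left]
    refine Finset.sum_congr rfl (fun i _ => ?_)
    rw [← canF_balanced hB]
    rfl
  have hdim : Module.finrank k (Fin m → A) = Module.finrank k ((A ⧸ augMap B) ⊗[k] A) := by
    rw [Module.finrank_tensorProduct, Module.finrank_pi_fintype, hm]
    simp
  have hΨi : Function.Injective Ψ :=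
    (LinearMap.injective_iff_surjective_of_finrank_eq_finrank hdim).2 hΨs
  let π : (Fin m → ↥B) →ₗ[k] A :=
    ∑ i, (LinearMap.mulRight k (a i)) ∘ₗ B.val.toLinearMap ∘ₗ LinearMap.proj i
  have hπ : ∀ c, π c = ∑ i, (c i : A) * a i := by
    intro c
    simp only [π, LinearMap.sum_apply, LinearMap.comp_apply, LinearMap.proj_apply]
    rfl
  have hπs : Function.Surjective π := by
    intro v
    have hv : v ∈ Submodule.span ↥B (Set.range a) := by rw [hgen]; trivial
    obtain ⟨c, hc⟩ := (Submodule.mem_span_range_iff_exists_fun ↥B).1 hv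
    exact ⟨c, by rw [hπ, ← hc]; rfl⟩
  have hπi : Function.Injective π := by
    rw [← LinearMap.ker_eq_bot, LinearMap.ker_eq_bot']
    intro c hc
    have h0 : Ψ (fun i => (c i : A)) = 0 := by
      rw [hΨ]
      have : ∀ i, canF B (a i) (c i : A) = canF B ((c i : A) * a i) 1 := by
        intro i
        rw [canF_balanced hB, mul_one]
      simp_rw [this]
      rw [← canF_sum_left, ← hπ, hc, canF_zero_left]
    have h1 := hΨi (h0.trans (map_zero Ψ).symm)
    funext i
    exact Subtype.ext (congrFun h1 i)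
  have e := LinearEquiv.ofBijective π ⟨hπi, hπs⟩
  rw [← e.finrank_eq, Module.finrank_pi_fintype, hm]
  simp [mul_comm]

end Dim

end Groth.Agent.Lib.Helper7.HopfSub
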