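import Mathlib
import Groth.Prelude.Def_SGA3b
import Groth.Agent.Lib.Helper7.CO6
import Groth.Agent.Lib.Helper7.TrivFibre1

set_option autoImplicit false
universe u
open TensorProduct SGA3b
open Groth.Agent.Lib.Helper7.Clopen (typed_of_algHom)
open Groth.Agent.Lib.Helper7.CancelBC (cancelBC)
open Groth.Agent.Lib.Helper7.TrivFibre (QF)

namespace Groth.Agent.Lib.Helper7.IsoLift

section Flat

variable {R : Type u} [CommRing R] {A : Type u} [CommRing A] [HopfAlgebra R A]

theorem flat_of_isMultType (h : IsMultType R A) : Module.Flat R A := by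
  obtain ⟨s, hs, hs'⟩ := h
  apply Module.flat_of_localized_span R A s hs
  intro ⟨f, hf⟩
  obtain ⟨R₂, _, _, hff, M, _, ⟨e⟩⟩ := hs' f hf
  have h1 : Module.Flat R₂ (R₂ ⊗[Localization.Away f] (Localization.Away f ⊗[R] A)) :=
    Module.Flat.of_linearEquiv e.toLinearEquiv
  have h2 : Module.Flat (Localization.Away f) (Localization.Away f ⊗[R] A) :=
    Module.Flat.of_flat_tensorProduct (Localization.Away f) _ R₂
  have h3 : Module.Flat R (Localization.Away f ⊗[R] A) :=
    Module.Flat.trans R (Localization.Away f) _
  exact Module.Flat.of_linearEquiv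
    ((LocalizedModule.equivTensorProduct (Submonoid.powers f) A).restrictScalars R)

end Flat

section Type0

variable {R : Type u} [CommRing R] {C : Type u} [CommRing C] [HopfAlgebra R C]

/-- the type of a chart is the type at every field-valued point of the chart. -/
theorem exists_field_typed (f : R) (R₂ : Type u) [CommRing R₂] [Algebra (Localization.Away f) R₂]
    [Module.FaithfullyFlat (Localization.Away f) R₂] {M : Type u} [CommGroup M]
    (e : R₂ ⊗[Localization.Away f] (Localization.Away f ⊗[R] C) ≃ₐc[R₂] MonoidAlgebra R₂ M)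
    (K : Type u) [Field K] [Algebra R K] (hf0 : algebraMap R K f ≠ 0) :
    ∃ (F : Type u) (_ : Field F) (_ : Algebra R F) (_ : Algebra K F),
      IsScalarTower R K F ∧ IsAlgClosed F ∧ Nonempty (F ⊗[R] C ≃ₐc[F] MonoidAlgebra F M) := by
  have hunit : IsUnit (algebraMap R K f) := isUnit_iff_ne_zero.2 hf0
  let g : Localization.Away f →+* K := IsLocalization.Away.lift f hunit
  let _ : Algebra (Localization.Away f) K := g.toAlgebra
  have : IsScalarTower R (Localization.Away f) K :=
    IsScalarTower.of_algebraMap_eq (fun r => (IsLocalization.Away.lift_eq f hunit r).symm)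
  have hnt : Nontrivial (R₂ ⊗[Localization.Away f] K) :=
    (Module.FaithfullyFlat.tensorProduct_mk_injective (A := Localization.Away f) (B := R₂)
      K).nontrivial
  obtain ⟨𝔫, h𝔫⟩ := Ideal.exists_maximal (R₂ ⊗[Localization.Away f] K)
  let L := AlgebraicClosure (QF 𝔫)
  let φ₁ : R₂ →+* L := (algebraMap (QF 𝔫) L).comp
    ((QF.mk 𝔫).comp (Algebra.TensorProduct.includeLeft : R₂ →ₐ[Localization.Away f] _).toRingHom)
  let φ₂ : K →+* L := (algebraMap (QF 𝔫) L).comp
    ((QF.mk 𝔫).comp (Algebra.TensorProduct.includeRight : K →ₐ[Localization.Away f] _).toRingHom)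
  let _ : Algebra R R₂ := ((algebraMap (Localization.Away f) R₂).comp
    (algebraMap R (Localization.Away f))).toAlgebra
  have : IsScalarTower R (Localization.Away f) R₂ := IsScalarTower.of_algebraMap_eq (fun _ => rfl)
  let _ : Algebra R L := (φ₁.comp (algebraMap R R₂)).toAlgebra
  let _ : Algebra K L := φ₂.toAlgebra
  have t2 : IsScalarTower R K L := by
    apply IsScalarTower.of_algebraMap_eq
    intro r
    change algebraMap (QF 𝔫) L (QF.mk 𝔫 ((algebraMap (Localization.Away f) R₂
        (algebraMap R (Localization.Away f) r)) ⊗ₜ[Localization.Away f] (1 : K))) =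
      algebraMap (QF 𝔫) L (QF.mk 𝔫 ((1 : R₂) ⊗ₜ[Localization.Away f] (algebraMap R K r)))
    congr 2
    rw [IsScalarTower.algebraMap_apply R (Localization.Away f) K,
      Algebra.algebraMap_eq_smul_one, Algebra.algebraMap_eq_smul_one (A := K),
      TensorProduct.smul_tmul]
  refine ⟨L, inferInstance, inferInstance, inferInstance, t2, inferInstance, ?_⟩
  let e₂ : R₂ ⊗[R] C ≃ₐc[R₂] MonoidAlgebra R₂ M :=
    (cancelBC R (Localization.Away f) R₂ C).symm.trans e
  let fa : R₂ →ₐ[R] L := { toRingHom := φ₁, commutes' := fun r => rfl }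
  exact typed_of_algHom fa e₂

end Type0

section Hopfian

variable {F : Type u} [Field F] {M : Type u} [CommGroup M] [Group.FG M]

theorem injective_of_surjective_monoidAlgebra (Φ : MonoidAlgebra F M →ₐc[F] MonoidAlgebra F M)
    (hΦ : Function.Surjective Φ) : Function.Injective Φ := by
  classical
  let f : M →* M := MonoidAlgebra.mapDomainOfBialgHom Φ
  have hΦf : MonoidAlgebra.mapDomainBialgHom F f = Φ :=
    MonoidAlgebra.mapDomainBialgHom_mapDomainOfBialgHom Φ
  have hsurj : Function.Surjective f := by
    intro m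
    obtain ⟨x, hx⟩ := hΦ (MonoidAlgebra.single m 1)
    rw [← hΦf] at hx
    have h1 : (MonoidAlgebra.mapDomainBialgHom F f x).coeff m ≠ 0 := by
      rw [hx, MonoidAlgebra.coeff_single, Finsupp.single_eq_same]
      exact one_ne_zero
    have h2 : m ∈ (Finsupp.mapDomain f x.coeff).support := by
      rw [Finsupp.mem_support_iff]
      exact h1
    have h3 := Finsupp.mapDomain_support h2
    rw [Finset.mem_image] at h3
    obtain ⟨g, -, hg⟩ := h3
    exact ⟨g, hg⟩
  have hinj : Function.Injective f := by
    have : Module.Finite ℤ (Additive M) := Module.Finite.iff_addGroup_fg.2 inferInstance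
    let fl : Additive M →ₗ[ℤ] Additive M := (MonoidHom.toAdditive f).toIntLinearMap
    have hs : Function.Surjective fl := hsurj
    exact OrzechProperty.injective_of_surjective_endomorphism fl hs
  rw [← hΦf]
  intro x y hxy
  apply MonoidAlgebra.coeff_injective
  have h1 : Finsupp.mapDomain f x.coeff = Finsupp.mapDomain f y.coeff :=
    congrArg MonoidAlgebra.coeff hxy
  exact Finsupp.mapDomain_injective hinj h1

end Hopfian

end Groth.Agent.Lib.Helper7.IsoLift
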