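import Mathlib
import Groth.Prelude.Def_SGA3b
import Groth.Agent.Lib.Helper7.IL1
import Groth.Agent.Lib.Helper7.PT4

set_option autoImplicit false
universe u
open TensorProduct SGA3b
open Groth.Agent.Lib.Helper7.Clopen
open Groth.Agent.Lib.Helper7.Pts (exists_algHom_of_finite)

namespace Groth.Agent.Lib.Helper7.IsoLift

section BC

variable {R : Type u} [CommRing R] {C : Type u} [CommRing C] [HopfAlgebra R C]
  {B : Type u} [CommRing B] [HopfAlgebra R B]

/-- base change of a bialgebra map to a field. -/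
noncomputable def bcF (F : Type u) [CommRing F] [Algebra R F] (φ : C →ₐc[R] B) :
    F ⊗[R] C →ₐc[F] F ⊗[R] B :=
  Bialgebra.TensorProduct.map (BialgHom.id F F) φ

@[simp] lemma bcF_tmul (F : Type u) [CommRing F] [Algebra R F] (φ : C →ₐc[R] B) (x : F) (c : C) :
    bcF F φ (x ⊗ₜ[R] c) = x ⊗ₜ[R] φ c := rfl

lemma bcF_surjective (F : Type u) [CommRing F] [Algebra R F] (φ : C →ₐc[R] B)
    (hφ : Function.Surjective φ) : Function.Surjective (bcF F φ) := by
  intro y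
  induction y using TensorProduct.induction_on with
  | zero => exact ⟨0, map_zero _⟩
  | tmul x b =>
    obtain ⟨c, rfl⟩ := hφ b
    exact ⟨x ⊗ₜ[R] c, rfl⟩
  | add y z hy hz =>
    obtain ⟨y', rfl⟩ := hy
    obtain ⟨z', rfl⟩ := hz
    exact ⟨y' + z', map_add _ _ _⟩

/-- kernel of the base change is generated by `1 ⊗ e`. -/
lemma bcF_ker (F : Type u) [CommRing F] [Algebra R F] (φ : C →ₐc[R] B)
    (hφ : Function.Surjective φ) {e : C} (hker : RingHom.ker (φ : C →+* B) = Ideal.span {e})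
    {z : F ⊗[R] C} (hz : bcF F φ z = 0) : z ∈ Ideal.span {((1 : F) ⊗ₜ[R] e : F ⊗[R] C)} := by
  have hex : Function.Exact ((RingHom.ker (φ : C →+* B)).subtype.restrictScalars R)
      ((φ : C →ₐ[R] B).toLinearMap) := by
    intro c
    constructor
    · intro hc
      exact ⟨⟨c, hc⟩, rfl⟩
    · rintro ⟨⟨c', hc'⟩, rfl⟩
      exact hc'
  have h2 := lTensor_exact F hex hφ
  have hz' : (LinearMap.lTensor F (φ : C →ₐ[R] B).toLinearMap) z = 0 := hz
  obtain ⟨w, rfl⟩ := (h2 z).1 hz'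
  clear hz hz'
  induction w using TensorProduct.induction_on with
  | zero => simp
  | add a b ha hb =>
    rw [map_add]
    exact Ideal.add_mem _ ha hb
  | tmul x k =>
    obtain ⟨k, hk⟩ := k
    have hk' := hk
    rw [hker, Ideal.mem_span_singleton] at hk'
    obtain ⟨c, rfl⟩ := hk'
    rw [LinearMap.lTensor_tmul]
    change x ⊗ₜ[R] (e * c) ∈ _
    have : x ⊗ₜ[R] (e * c) = ((1 : F) ⊗ₜ[R] e) * (x ⊗ₜ[R] c) := by
      rw [Algebra.TensorProduct.tmul_mul_tmul, one_mul]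
    rw [this]
    exact Ideal.mul_mem_right _ _ (Ideal.mem_span_singleton_self _)

end BC

section Main

variable (R : Type u) [CommRing R] [IsNoetherianRing R] (I : Ideal R) [IsAdicComplete I R]
  (C : Type u) [CommRing C] [HopfAlgebra R C]

theorem main (hft : Algebra.FiniteType R C) (h : IsMultType R C)
    (h0 : IsIsotrivial (R ⧸ I) ((R ⧸ I) ⊗[R] C)) : IsIsotrivial R C := by
  have hflat : Module.Flat R C := flat_of_isMultType h
  obtain ⟨B, _, _, hB, φ, hsurj, e, he, heI, hker⟩ :=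
    clopen_main R I C hft (fun q _ _ => inferInstance) h0
  have hI : I ≤ Ideal.jacobson ⊥ := IsAdicComplete.le_jacobson_bot I
  have heK : e ∈ RingHom.ker (φ : C →+* B) := by
    rw [hker]
    exact Ideal.mem_span_singleton_self e
  have hφe : φ e = 0 := heK
  suffices he0 : e = 0 by
    have hinj : Function.Injective φ := by
      rw [injective_iff_map_eq_zero]
      intro c hc
      have : c ∈ RingHom.ker (φ : C →+* B) := hc
      rw [hker, he0, Ideal.mem_span_singleton] at this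
      exact zero_dvd_iff.1 this
    exact isIsotrivial_of_bialgEquiv (BialgEquiv.ofBijective φ ⟨hinj, hsurj⟩).symm hB
  by_contra hne
  obtain ⟨P, hP, heP⟩ : ∃ P : Ideal C, P.IsPrime ∧ e ∉ P := by
    by_contra hcon
    push Not at hcon
    apply hne
    apply eq_zero_of_isIdempotentElem_of_isNilpotent he
    rw [nilpotent_iff_mem_prime]
    exact hcon
  -- the point and a maximal ideal above it
  set p : Ideal R := Ideal.comap (algebraMap R C) P with hp
  have hpp : p.IsPrime := Ideal.comap_isPrime _ _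
  obtain ⟨𝔪, h𝔪, hp𝔪⟩ := Ideal.exists_le_maximal p hpp.ne_top
  have hI𝔪 : I ≤ 𝔪 := hI.trans (sInf_le ⟨bot_le, h𝔪⟩)
  obtain ⟨s, hs, hs'⟩ := h
  obtain ⟨f, hfs, hf𝔪⟩ : ∃ f ∈ s, f ∉ 𝔪 := by
    by_contra hcon
    push Not at hcon
    have h1 : Ideal.span s ≤ 𝔪 := Ideal.span_le.2 hcon
    rw [hs] at h1
    exact h𝔪.ne_top (top_le_iff.1 h1)
  have hfp : f ∉ p := fun hf => hf𝔪 (hp𝔪 hf)
  obtain ⟨R₂, _, _, hff, M, _, ⟨e₂⟩⟩ := hs' f hfs
  obtain ⟨A', _, _, -, hfin, hffA, N, _, ⟨eN⟩⟩ := hB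
  -- the closed point
  let _ : Field (R ⧸ 𝔪) := Ideal.Quotient.field 𝔪
  obtain ⟨F₁, _, _, _, t₁, hac₁, ⟨ψ₁⟩⟩ := exists_field_typed f R₂ e₂ (R ⧸ 𝔪) (by
    intro h0
    exact hf𝔪 (Ideal.Quotient.eq_zero_iff_mem.1 h0))
  obtain ⟨a₁⟩ := exists_algHom_of_finite (A := R) F₁ A'
  obtain ⟨χ₁⟩ := typed_of_algHom a₁ eN
  have hIF₁ : ∀ i ∈ I, algebraMap R F₁ i = 0 := by
    intro i hi
    rw [IsScalarTower.algebraMap_apply R (R ⧸ 𝔪) F₁]
    have : algebraMap R (R ⧸ 𝔪) i = 0 := Ideal.Quotient.eq_zero_iff_mem.2 (hI𝔪 hi)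
    rw [this, map_zero]
  have h1e : ((1 : F₁) ⊗ₜ[R] e : F₁ ⊗[R] C) = 0 := by
    have hmem : e ∈ I • (⊤ : Submodule R C) := by
      rw [Ideal.smul_top_eq_map]
      exact heI
    refine Submodule.smul_induction_on hmem ?_ ?_
    · intro i hi c _
      rw [TensorProduct.tmul_smul, TensorProduct.smul_tmul', Algebra.smul_def, hIF₁ i hi, zero_mul,
        TensorProduct.zero_tmul]
    · intro x y hx hy
      rw [TensorProduct.tmul_add, hx, hy, add_zero]
  have hbij₁ : Function.Bijective (bcF F₁ φ) := by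
    refine ⟨?_, bcF_surjective F₁ φ hsurj⟩
    rw [injective_iff_map_eq_zero]
    intro z hz
    have := bcF_ker F₁ φ hsurj hker hz
    rw [h1e, Ideal.mem_span_singleton, zero_dvd_iff] at this
    exact this
  let Θ₁ : MonoidAlgebra F₁ M ≃ₐc[F₁] MonoidAlgebra F₁ N :=
    (ψ₁.symm.trans (BialgEquiv.ofBijective (bcF F₁ φ) hbij₁)).trans χ₁
  obtain ⟨σ⟩ := mulEquiv_of_bialgEquiv Θ₁
  -- the generic point
  let K := FractionRing (C ⧸ P)
  let ι : C →+* K := (algebraMap (C ⧸ P) K).comp (Ideal.Quotient.mk P)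
  let _ : Algebra R K := (ι.comp (algebraMap R C)).toAlgebra
  let g₀ : C →ₐ[R] K := { ι with commutes' := fun a => rfl }
  have hg₀ : ∀ c, g₀ c = 0 ↔ c ∈ P := by
    intro c
    change algebraMap (C ⧸ P) K (Ideal.Quotient.mk P c) = 0 ↔ _
    rw [← map_zero (algebraMap (C ⧸ P) K), (IsFractionRing.injective (C ⧸ P) K).eq_iff,
      Ideal.Quotient.eq_zero_iff_mem]
  obtain ⟨F₂, _, _, _, t₂, hac₂, ⟨ψ₂⟩⟩ := exists_field_typed f R₂ e₂ K (by
    intro h0
    apply hfp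
    have : g₀ (algebraMap R C f) = 0 := h0
    rw [hg₀] at this
    exact this)
  obtain ⟨a₂⟩ := exists_algHom_of_finite (A := R) F₂ A'
  obtain ⟨χ₂⟩ := typed_of_algHom a₂ eN
  let g : C →ₐ[R] F₂ := (IsScalarTower.toAlgHom R K F₂).comp g₀
  have hge : g e ≠ 0 := by
    intro h0
    have h1 : algebraMap K F₂ (g₀ e) = 0 := h0
    rw [← map_zero (algebraMap K F₂), (algebraMap K F₂).injective.eq_iff, hg₀] at h1
    exact heP h1
  have : Group.FG M := by
    have h1 : Algebra.FiniteType F₂ (F₂ ⊗[R] C) := inferInstance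
    have h2 : Algebra.FiniteType F₂ (MonoidAlgebra F₂ M) :=
      h1.equiv (ψ₂ : F₂ ⊗[R] C ≃ₐ[F₂] MonoidAlgebra F₂ M)
    exact MonoidAlgebra.finiteType_iff_group_fg.1 h2
  let Φ : MonoidAlgebra F₂ M →ₐc[F₂] MonoidAlgebra F₂ M :=
    (((domCongrBialg F₂ σ).symm : MonoidAlgebra F₂ N →ₐc[F₂] MonoidAlgebra F₂ M).comp
      ((χ₂ : F₂ ⊗[R] B →ₐc[F₂] MonoidAlgebra F₂ N).comp (bcF F₂ φ))).comp
      (ψ₂.symm : MonoidAlgebra F₂ M →ₐc[F₂] F₂ ⊗[R] C)
  have hΦ : ∀ x, Φ x = (domCongrBialg F₂ σ).symm (χ₂ (bcF F₂ φ (ψ₂.symm x))) := fun _ => rfl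
  have hΦs : Function.Surjective Φ := by
    intro y
    obtain ⟨z, hz⟩ := bcF_surjective F₂ φ hsurj (χ₂.symm (domCongrBialg F₂ σ y))
    refine ⟨ψ₂ z, ?_⟩
    rw [hΦ, BialgEquiv.symm_apply_apply, hz, BialgEquiv.apply_symm_apply,
      BialgEquiv.symm_apply_apply]
  have hΦi := injective_of_surjective_monoidAlgebra Φ hΦs
  have h2e : ((1 : F₂) ⊗ₜ[R] e : F₂ ⊗[R] C) = 0 := by
    have h3 : Φ (ψ₂ ((1 : F₂) ⊗ₜ[R] e)) = Φ 0 := by
      rw [hΦ, BialgEquiv.symm_apply_apply, bcF_tmul, hφe, TensorProduct.tmul_zero, map_zero,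
        map_zero, map_zero]
    have h4 := hΦi h3
    rw [← map_zero ψ₂] at h4
    exact ψ₂.injective h4
  apply hge
  have h5 := congrArg (Algebra.TensorProduct.lift (Algebra.ofId F₂ F₂) g (fun _ _ => .all ..)) h2e
  simpa using h5

end Main

end Groth.Agent.Lib.Helper7.IsoLift
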