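import Groth.Agent.Lib.Helper7.AffPt
import Groth.Agent.Lib.Helper7.Compositum

/-!
# Triviality of inertia is constant along the fibres of the quotient (helper7)
-/

set_option autoImplicit false
universe u
open TensorProduct
open CategoryTheory MonoidalCategory CartesianMonoidalCategory AlgebraicGeometry MonObj

namespace Groth.Agent.Lib.Helper7.InertiaConj

open HopfRep Groth.Agent.Lib.Helper7.Transit Groth.Agent.Lib.Helper7.AffPt
  Groth.Agent.Lib.Helper7.Compositum

variable {R : Type u} [CommRing R] {A B : Type u} [CommRing A] [HopfAlgebra R A] [CommRing B]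
  [Algebra R B] [Comod R A B] [GLin.IsCoactAlg R A B]

lemma comp_actP {L L' : Type u} [CommRing L] [Algebra R L] [CommRing L'] [Algebra R L']
    (f : L →ₐ[R] L') (ξ : B →ₐ[R] L) (gam : A →ₐ[R] L) :
    f.comp (actP ξ gam) = actP (f.comp ξ) (f.comp gam) := by
  apply AlgHom.ext
  intro b
  change f (Algebra.TensorProduct.lift ξ gam (fun _ _ => Commute.all _ _)
    (GLin.coactAlgHom R A B b)) =
    Algebra.TensorProduct.lift (f.comp ξ) (f.comp gam) (fun _ _ => Commute.all _ _)
      (GLin.coactAlgHom R A B b)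
  generalize GLin.coactAlgHom R A B b = z
  induction z using TensorProduct.induction_on with
  | zero => simp
  | tmul t a => simp
  | add y z hy hz => simp only [map_add, hy, hz]

lemma comp_unitHom {L L' : Type u} [CommRing L] [Algebra R L] [CommRing L'] [Algebra R L']
    (f : L →ₐ[R] L') : f.comp (unitHom A L) = unitHom A L' := by
  apply AlgHom.ext
  intro a
  simp [unitHom, Algebra.ofId_apply]

variable [Module.Finite R A] [Module.Projective R A]

/-- if the inertia at `x` is trivial, so is the inertia at any point `x'` over the same point of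
the quotient. -/
theorem inT_of_inT {K K' : Type u} [Field K] [Algebra R K] [Field K'] [Algebra R K']
    (x : B →ₐ[R] K) (x' : B →ₐ[R] K')
    (hker : RingHom.ker ((x : B →+* K).comp (GLin.invariants R A B).val.toRingHom) =
      RingHom.ker ((x' : B →+* K').comp (GLin.invariants R A B).val.toRingHom))
    (H : InT (A := A) x) : InT (A := A) x' := by
  obtain ⟨Ω, _, _, j, j', hjj⟩ := exists_common_algClosed _ _ hker
  letI : Algebra R Ω := (j.comp (algebraMap R K)).toAlgebra
  have hjr : ∀ r : R, j' (algebraMap R K' r) = j (algebraMap R K r) := by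
    intro r
    have h1 := RingHom.congr_fun hjj (algebraMap R (GLin.invariants R A B) r)
    simp only [RingHom.comp_apply] at h1
    have e1 : (GLin.invariants R A B).val.toRingHom (algebraMap R (GLin.invariants R A B) r) =
        algebraMap R B r := rfl
    rw [e1] at h1
    change j (x (algebraMap R B r)) = j' (x' (algebraMap R B r)) at h1
    rw [AlgHom.commutes, AlgHom.commutes] at h1
    exact h1.symm
  let jA : K →ₐ[R] Ω := { j with commutes' := fun r => rfl }
  let j'A : K' →ₐ[R] Ω := { j' with commutes' := fun r => hjr r }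
  have hx : ∀ c ∈ GLin.invariants R A B, (jA.comp x) c = (j'A.comp x') c := by
    intro c hc
    exact RingHom.congr_fun hjj ⟨c, hc⟩
  obtain ⟨gam₀, hgam₀⟩ := exists_actP_eq (jA.comp x) (j'A.comp x') hx
  intro L _ _ h' gam hfix
  obtain ⟨P, _, io, ω, hio, hsq⟩ := exists_pushout_field (h' : K' →+* L) (j' : K' →+* Ω)
  letI : Algebra R P := (io.comp (algebraMap R L)).toAlgebra
  let ioA : L →ₐ[R] P := { io with commutes' := fun r => rfl }
  have hωr : ∀ r : R, ω (algebraMap R Ω r) = algebraMap R P r := by
    intro r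
    change ω (j (algebraMap R K r)) = io (algebraMap R L r)
    rw [← hjr r, ← h'.commutes r]
    exact (RingHom.congr_fun hsq (algebraMap R K' r)).symm
  let ωA : Ω →ₐ[R] P := { ω with commutes' := hωr }
  -- the points
  set ξ₀ : B →ₐ[R] P := (ωA.comp jA).comp x with hξ₀
  set gam₀' : A →ₐ[R] P := ωA.comp gam₀ with hgam₀'
  set gam' : A →ₐ[R] P := ioA.comp gam with hgam'
  have f1 : ioA.comp (h'.comp x') = ωA.comp (j'A.comp x') := by
    apply AlgHom.ext
    intro b
    exact RingHom.congr_fun hsq (x' b)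
  have f2 : ωA.comp (j'A.comp x') = actP ξ₀ gam₀' := by
    rw [hgam₀, comp_actP]
    rfl
  have f3 : actP (actP ξ₀ gam₀') gam' = actP ξ₀ gam₀' := by
    rw [← f2, ← f1, hgam', ← comp_actP, hfix]
  -- group theory at the level of points of `Spec P`
  set Z₀ := CoactBr.pt ξ₀ with hZ₀
  set G₀ := CoactBr.pt gam₀' with hG₀
  set G := CoactBr.pt gam' with hG
  have g1 : lift (lift Z₀ G₀ ≫ CoactBr.ract R A B) G ≫ CoactBr.ract R A B =
      lift Z₀ G₀ ≫ CoactBr.ract R A B := by
    rw [CoactBr.lift_pt_ract, CoactBr.lift_pt_ract]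
    exact congrArg CoactBr.pt f3
  have g2 : lift Z₀ (G₀ * G * G₀⁻¹) ≫ CoactBr.ract R A B = Z₀ := by
    rw [← CoactBr.lift_ract_ract, ← CoactBr.lift_ract_ract, g1, CoactBr.lift_ract_ract,
      _root_.mul_inv_cancel, CoactBr.lift_one_ract]
  have g3 : G₀ * G * G₀⁻¹ = 1 := by
    have Hs := (inT_iff (A := A) x).2 H (CoactBr.sp R P) (CoactBr.pt (ωA.comp jA)) (G₀ * G * G₀⁻¹)
    rw [← CoactBr.pt_comp, act_fix_iff] at Hs
    exact Hs g2
  have g4 : G = 1 := by
    have e : G = G₀⁻¹ * (G₀ * G * G₀⁻¹) * G₀ := by group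
    rw [e, g3]
    group
  rw [hG, pt_eq_one_iff, hgam', ← comp_unitHom (A := A) ioA] at g4
  apply AlgHom.ext
  intro a
  exact hio (AlgHom.congr_fun g4 a)

end Groth.Agent.Lib.Helper7.InertiaConj
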