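import Groth.Agent.Lib.Helper7.HopfUnit
import Groth.Agent.Lib.Helper7.ComodAct
import Groth.Prelude.Def_GLin
import Mathlib.RingTheory.FiniteStability
import Mathlib.RingTheory.TensorProduct.Free

/-!
# Tensor products of integral algebras of finite type over an algebraically closed field (helper7)
-/

universe u v w

open TensorProduct

namespace Groth.Agent.Lib.Helper7.InvFrac

open HopfRep Groth.Agent.Lib.Helper7.GenSubgp Groth.Agent.Lib.Helper7.Comod
  Groth.Agent.Lib.Helper7.Rosen Groth.Agent.Lib.Helper7.HopfDomain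

section Tensor

variable {k : Type u} [Field k] {R : Type v} [CommRing R] [Algebra k R]
  {S : Type w} [CommRing S] [Algebra k S]

lemma apply_contrL_evR (l : R →ₗ[k] k) (y : S →ₐ[k] k) (z : R ⊗[k] S) :
    y (contrL S l z) = l (evR y z) := by
  induction z using TensorProduct.induction_on with
  | zero => simp
  | tmul r t => simp [mul_comm]
  | add p q hp hq => simp only [map_add, hp, hq]

/-- a point of a tensor product is determined by its two components. -/
lemma algHom_tensor_apply (Y : R ⊗[k] S →ₐ[k] k) (z : R ⊗[k] S) :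
    Y z = (Y.comp Algebra.TensorProduct.includeLeft)
      (evR (Y.comp Algebra.TensorProduct.includeRight) z) := by
  induction z using TensorProduct.induction_on with
  | zero => simp
  | tmul r s =>
    rw [evR_tmul, map_smul, smul_eq_mul]
    change Y (r ⊗ₜ[k] s) = Y ((1 : R) ⊗ₜ[k] s) * Y (r ⊗ₜ[k] (1 : S))
    rw [← map_mul, Algebra.TensorProduct.tmul_mul_tmul, one_mul, mul_one]
  | add p q hp hq => simp only [map_add, hp, hq]

variable [IsAlgClosed k] [Algebra.FiniteType k S] [IsDomain S]

/-- an element of `R ⊗ S` vanishing on all fibres over points of `S` is zero. -/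
lemma eq_zero_of_forall_evR (z : R ⊗[k] S) (h : ∀ y : S →ₐ[k] k, evR y z = 0) : z = 0 := by
  apply eq_zero_of_forall_contr_eq_zero_of_dense
    (Set.range fun y : S →ₐ[k] k => y.toLinearMap)
  · intro t ht
    by_contra hne
    obtain ⟨y, hy⟩ := exists_point_ne_zero (k := k) t hne
    exact hy (ht _ ⟨y, rfl⟩)
  · rintro _ ⟨y, rfl⟩
    rw [contr_eq_evR, h]

/-- the tensor product of two domains over an algebraically closed field, one of them of
finite type, is a domain. -/
theorem isDomain_tensor [IsDomain R] : IsDomain (R ⊗[k] S) := by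
  obtain ⟨y₀, -⟩ := exists_point_ne_zero (k := k) (1 : S) one_ne_zero
  haveI : Nontrivial (R ⊗[k] S) := ⟨⟨0, 1, fun h => by
    have := congrArg (evR (R := R) y₀) h
    rw [map_zero, map_one] at this
    exact zero_ne_one this⟩⟩
  haveI : NoZeroDivisors (R ⊗[k] S) := ⟨fun {z w} hzw => by
    by_contra hne
    push Not at hne
    obtain ⟨hz, hw⟩ := hne
    have h1 : ∃ l : R →ₗ[k] k, contrL S l z ≠ 0 := by
      by_contra h
      push Not at h
      exact hz (eq_zero_of_forall_contrL_eq_zero z h)
    have h2 : ∃ l : R →ₗ[k] k, contrL S l w ≠ 0 := by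
      by_contra h
      push Not at h
      exact hw (eq_zero_of_forall_contrL_eq_zero w h)
    obtain ⟨l, hl⟩ := h1
    obtain ⟨l', hl'⟩ := h2
    obtain ⟨y, hy⟩ := exists_point_ne_zero (k := k) (contrL S l z * contrL S l' w)
      (mul_ne_zero hl hl')
    rw [map_mul, apply_contrL_evR, apply_contrL_evR] at hy
    have h3 : evR y z * evR y w = 0 := by rw [← map_mul, hzw, map_zero]
    rcases mul_eq_zero.1 h3 with h | h
    · rw [h, map_zero, zero_mul] at hy
      exact hy rfl
    · rw [h, map_zero, mul_zero] at hy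
      exact hy rfl⟩
  exact NoZeroDivisors.to_isDomain _

/-- an element of `R ⊗ S` all of whose fibres over points of `S` are units is a unit. -/
theorem isUnit_of_forall_evR [Algebra.FiniteType k R] (θ : R ⊗[k] S)
    (h : ∀ y : S →ₐ[k] k, IsUnit (evR y θ)) : IsUnit θ := by
  haveI : Algebra.FiniteType k (R ⊗[k] S) :=
    Algebra.FiniteType.trans (inferInstance : Algebra.FiniteType k R)
      (inferInstance : Algebra.FiniteType R (R ⊗[k] S))
  by_contra hθ
  have hne : Ideal.span {θ} ≠ ⊤ := by
    rwa [Ne, Ideal.span_singleton_eq_top]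
  obtain ⟨Y, hY⟩ := exists_point_le_ker (k := k) _ hne
  have hYθ : Y θ = 0 := RingHom.mem_ker.1 (hY (Ideal.mem_span_singleton_self θ))
  rw [algHom_tensor_apply] at hYθ
  exact ((h _).map (Y.comp Algebra.TensorProduct.includeLeft)).ne_zero hYθ

end Tensor

section Act

variable {k : Type u} [Field k] {A : Type v} [CommRing A] [HopfAlgebra k A]
  {B : Type w} [CommRing B] [Algebra k B] [HopfRep.Comod k A B] [GLin.IsCoactAlg k A B]

lemma act_eq_evR (φ : A →ₐ[k] k) (b : B) :
    Comod.act k A B φ b = evR φ (GLin.coactAlgHom k A B b) := by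
  rw [act_eq_contr, contr_eq_evR]
  rfl

lemma act_mul (φ : A →ₐ[k] k) (b b' : B) :
    Comod.act k A B φ (b * b') = Comod.act k A B φ b * Comod.act k A B φ b' := by
  rw [act_eq_evR, act_eq_evR, act_eq_evR, map_mul, map_mul]

lemma act_counit (b : B) : Comod.act k A B (Bialgebra.counitAlgHom k A) b = b := by
  have h := act_convOne (k := k) (A := A) (V := B)
  have e : (WithConv.ofConv (1 : WithConv (A →ₐ[k] k))) = Bialgebra.counitAlgHom k A := by
    apply AlgHom.ext
    intro a
    simp [AlgHom.convOne_def]
  rw [e] at h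
  rw [h]
  rfl

lemma act_inv_act (φ : A →ₐ[k] k) (b : B) :
    Comod.act k A B ((WithConv.toConv φ)⁻¹).ofConv (Comod.act k A B φ b) = b := by
  have h := act_convMul (V := B) (WithConv.toConv φ)⁻¹ (WithConv.toConv φ)
  rw [inv_mul_cancel, act_convOne] at h
  have h2 := LinearMap.congr_fun h b
  exact h2.symm

end Act

end Groth.Agent.Lib.Helper7.InvFrac
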