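import Groth.Agent.Lib.Helper7.InvFrac1

/-!
# Invariant rational functions are quotients of invariants (connected, character-free case)
(helper7)
-/

universe u v w

open TensorProduct

namespace Groth.Agent.Lib.Helper7.InvFrac

open HopfRep Groth.Agent.Lib.Helper7.GenSubgp Groth.Agent.Lib.Helper7.Comod
  Groth.Agent.Lib.Helper7.Rosen Groth.Agent.Lib.Helper7.HopfDomain

section Main

variable {k : Type u} [Field k] [IsAlgClosed k]
  {A : Type v} [CommRing A] [HopfAlgebra k A] [Algebra.FiniteType k A] [IsDomain A]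
  {B : Type w} [CommRing B] [Algebra k B] [Algebra.FiniteType k B] [IsDomain B]
  [UniqueFactorizationMonoid B] [HopfRep.Comod k A B] [GLin.IsCoactAlg k A B]

theorem exists_invariant_fraction (hchar : ∀ a : A, IsGroupLikeElem k a → a = 1)
    (f g : B) (hg : g ≠ 0)
    (hinv : ∀ φ : A →ₐ[k] k, Comod.act k A B φ f * g = f * Comod.act k A B φ g) :
    ∃ f' g' : B, (∀ φ : A →ₐ[k] k, Comod.act k A B φ f' = f') ∧
      (∀ φ : A →ₐ[k] k, Comod.act k A B φ g' = g') ∧ g' ≠ 0 ∧ f * g' = f' * g := by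
  classical
  haveI hC : IsDomain (B ⊗[k] A) := isDomain_tensor
  let ρ : B →ₐ[k] B ⊗[k] A := GLin.coactAlgHom k A B
  let ι : B →ₐ[k] B ⊗[k] A := Algebra.TensorProduct.includeLeft
  have hact : ∀ (φ : A →ₐ[k] k) (b : B), Comod.act k A B φ b = evR φ (ρ b) := act_eq_evR
  have hι : ∀ (φ : A →ₐ[k] k) (b : B), evR φ (ι b) = b := by
    intro φ b
    change evR φ (b ⊗ₜ[k] (1 : A)) = b
    rw [evR_tmul, map_one, one_smul]
  -- (1) the global relation
  have h1 : ρ f * ι g = ι f * ρ g := by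
    rw [← sub_eq_zero]
    apply eq_zero_of_forall_evR (k := k)
    intro φ
    rw [map_sub, map_mul, map_mul, hι, hι, ← hact, ← hact, hinv, sub_self]
  obtain ⟨g₀, f₀, d, hrel, hdg, hdf⟩ := UniqueFactorizationMonoid.exists_reduced_factors g hg f
  have hd : d ≠ 0 := by
    rintro rfl
    rw [zero_mul] at hdg
    exact hg hdg.symm
  have hg₀ : g₀ ≠ 0 := by
    rintro rfl
    rw [mul_zero] at hdg
    exact hg hdg.symm
  have hρinj : ∀ b : B, b ≠ 0 → ρ b ≠ 0 := by
    intro b hb h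
    have h' := act_counit (k := k) (A := A) b
    rw [hact, h, map_zero] at h'
    exact hb h'.symm
  have hιinj : ∀ b : B, b ≠ 0 → ι b ≠ 0 := by
    intro b hb h
    have h' := hι (Bialgebra.counitAlgHom k A) b
    rw [h, map_zero] at h'
    exact hb h'.symm
  -- (2) the reduced relation
  have h2 : ρ f₀ * ι g₀ = ι f₀ * ρ g₀ := by
    rw [← hdf, ← hdg, map_mul, map_mul, map_mul, map_mul] at h1
    have h3 : (ρ d * ι d) * (ρ f₀ * ι g₀) = (ρ d * ι d) * (ι f₀ * ρ g₀) := by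
      calc (ρ d * ι d) * (ρ f₀ * ι g₀) = ρ d * ρ f₀ * (ι d * ι g₀) := by ring
        _ = ι d * ι f₀ * (ρ d * ρ g₀) := h1
        _ = (ρ d * ι d) * (ι f₀ * ρ g₀) := by ring
    exact mul_left_cancel₀ (mul_ne_zero (hρinj d hd) (hιinj d hd)) h3
  -- (3) coefficientwise divisibility
  let e := Module.Basis.ofVectorSpace k A
  let 𝔟 := Algebra.TensorProduct.basis B e
  have hsmul : ∀ (b : B) (z : B ⊗[k] A), ι b * z = b • z := by
    intro b z
    rw [Algebra.smul_def]
    rfl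
  have hcoef : ∀ j, g₀ * 𝔟.repr (ρ f₀) j = f₀ * 𝔟.repr (ρ g₀) j := by
    intro j
    have h3 : 𝔟.repr (ι g₀ * ρ f₀) j = 𝔟.repr (ι f₀ * ρ g₀) j := by
      rw [mul_comm, h2]
    rw [hsmul, hsmul, map_smul, map_smul, Finsupp.smul_apply, Finsupp.smul_apply,
      smul_eq_mul, smul_eq_mul] at h3
    exact h3
  have hdiv : ∀ j, g₀ ∣ 𝔟.repr (ρ g₀) j := by
    intro j
    apply hrel.dvd_of_dvd_mul_left
    rw [← hcoef j]
    exact dvd_mul_right _ _
  choose γ hγ using hdiv
  let θ : B ⊗[k] A := ∑ j ∈ (𝔟.repr (ρ g₀)).support, γ j • 𝔟 j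
  have hθ : ρ g₀ = ι g₀ * θ := by
    rw [hsmul, Finset.smul_sum]
    conv_lhs => rw [← 𝔟.linearCombination_repr (ρ g₀)]
    rw [Finsupp.linearCombination_apply, Finsupp.sum]
    apply Finset.sum_congr rfl
    intro j _
    rw [smul_smul, ← hγ j]
  have hθf : ρ f₀ = ι f₀ * θ := by
    have h3 : ι g₀ * ρ f₀ = ι g₀ * (ι f₀ * θ) := by
      rw [mul_comm, h2, hθ]
      ring
    exact mul_left_cancel₀ (hιinj g₀ hg₀) h3
  -- (4) the fibres of θ are units
  have hθφ : ∀ φ : A →ₐ[k] k, Comod.act k A B φ g₀ = g₀ * evR φ θ := by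
    intro φ
    rw [hact, hθ, map_mul, hι]
  have key : ∀ ψ : A →ₐ[k] k, IsUnit (evR (R := B) ((WithConv.toConv ψ)⁻¹).ofConv θ) := by
    intro ψ
    have h := act_inv_act (B := B) ψ g₀
    rw [hθφ ψ, act_mul, hθφ, mul_assoc] at h
    have h' : evR (R := B) ((WithConv.toConv ψ)⁻¹).ofConv θ *
        Comod.act k A B ((WithConv.toConv ψ)⁻¹).ofConv (evR ψ θ) = 1 := by
      apply mul_left_cancel₀ hg₀
      rw [h, mul_one]
    exact IsUnit.of_mul_eq_one _ h'
  have hunit : ∀ φ : A →ₐ[k] k, IsUnit (evR (R := B) φ θ) := by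
    intro φ
    have h := key ((WithConv.toConv φ)⁻¹).ofConv
    rw [WithConv.toConv_ofConv, inv_inv, WithConv.ofConv_toConv] at h
    exact h
  have hθu : IsUnit θ := isUnit_of_forall_evR (k := k) θ hunit
  -- (5) Rosenlicht
  obtain ⟨b, a, hba⟩ := exists_eq_tmul (k := k) θ hθu
  have hε : evR (R := B) (Bialgebra.counitAlgHom k A) θ = 1 := by
    have h := hθφ (Bialgebra.counitAlgHom k A)
    rw [act_counit] at h
    apply mul_left_cancel₀ hg₀
    rw [← h, mul_one]
  obtain ⟨x₀, -⟩ := exists_point_ne_zero (k := k) (1 : B) one_ne_zero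
  have ha' : IsUnit (evL (S := A) x₀ θ) := hθu.map (evL (S := A) x₀)
  have hc' : Coalgebra.counit (R := k) (evL (S := A) x₀ θ) = 1 := by
    have h := apply_evR x₀ (Bialgebra.counitAlgHom k A) θ
    rw [hε, map_one] at h
    exact h.symm
  have hgl := isGroupLikeElem_of_isUnit (k := k) _ ha' hc'
  have h1' := hchar _ hgl
  rw [hba, evL_tmul] at h1'
  rw [hba, evR_tmul] at hε
  have hθ1 : θ = 1 := by
    rw [hba]
    have hx : x₀ b ≠ 0 := by
      intro h
      rw [h, zero_smul] at h1'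
      exact zero_ne_one h1'
    have ha : a = (x₀ b)⁻¹ • (1 : A) := by
      rw [← h1', smul_smul, inv_mul_cancel₀ hx, one_smul]
    have hεa : Bialgebra.counitAlgHom k A a = (x₀ b)⁻¹ := by
      rw [ha, map_smul, map_one, smul_eq_mul, mul_one]
    rw [ha, TensorProduct.tmul_smul, TensorProduct.smul_tmul', ← hεa, hε]
    rfl
  rw [hθ1, mul_one] at hθ hθf
  refine ⟨f₀, g₀, ?_, ?_, hg₀, ?_⟩
  · intro φ
    rw [hact, hθf, hι]
  · intro φ
    rw [hact, hθ, hι]
  · rw [← hdf, ← hdg]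
    ring

end Main

end Groth.Agent.Lib.Helper7.InvFrac
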