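import Mathlib

/-! Functoriality of the (multiplicative) Jordan decomposition over a perfect field. -/

universe u v w
open Polynomial

namespace Groth.Agent.Lib.Helper7.JordanFunct

variable {k : Type u} [Field k] {V : Type v} {W : Type w}
  [AddCommGroup V] [Module k V] [AddCommGroup W] [Module k W]

lemma aeval_prodMap (a : Module.End k V) (b : Module.End k W) (g : k[X]) :
    aeval (a.prodMap b) g = (aeval a g).prodMap (aeval b g) := by
  have h := Polynomial.aeval_algHom_apply (LinearMap.prodMapAlgHom k V W) (a, b) g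
  rw [Polynomial.aeval_prod_apply] at h
  exact h

variable [FiniteDimensional k V] [FiniteDimensional k W]

lemma isSemisimple_prodMap {a : Module.End k V} {b : Module.End k W} (ha : a.IsSemisimple)
    (hb : b.IsSemisimple) : Module.End.IsSemisimple (a.prodMap b : Module.End k (V × W)) := by
  have hp := ha.minpoly_squarefree
  have hq := hb.minpoly_squarefree
  have hne : minpoly k a * minpoly k b ≠ 0 :=
    mul_ne_zero (minpoly.ne_zero_of_finite k a) (minpoly.ne_zero_of_finite k b)
  obtain ⟨g, n, hg, hg1, hg2⟩ := exists_squarefree_dvd_pow_of_ne_zero hne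
  have h1 : minpoly k a ∣ g := by
    have h := dvd_trans (dvd_mul_right (minpoly k a) (minpoly k b)) hg2
    rcases Nat.eq_zero_or_pos n with rfl | hn
    · rw [pow_zero] at h
      exact (isUnit_of_dvd_one h).dvd
    · exact (hp.dvd_pow_iff_dvd hn.ne').1 h
  have h2 : minpoly k b ∣ g := by
    have h := dvd_trans (dvd_mul_left (minpoly k b) (minpoly k a)) hg2
    rcases Nat.eq_zero_or_pos n with rfl | hn
    · rw [pow_zero] at h
      exact (isUnit_of_dvd_one h).dvd
    · exact (hq.dvd_pow_iff_dvd hn.ne').1 h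
  apply Module.End.isSemisimple_of_squarefree_aeval_eq_zero hg
  rw [aeval_prodMap]
  obtain ⟨c, hc⟩ := h1
  obtain ⟨d, hd⟩ := h2
  have ea : aeval a g = 0 := by rw [hc, map_mul, minpoly.aeval, zero_mul]
  have eb : aeval b g = 0 := by rw [hd, map_mul, minpoly.aeval, zero_mul]
  rw [ea, eb]
  exact LinearMap.prodMap_zero

end Groth.Agent.Lib.Helper7.JordanFunct

namespace Groth.Agent.Lib.Helper7.JordanFunct

variable {k : Type u} [Field k] {V : Type v} {W : Type w}
  [AddCommGroup V] [Module k V] [AddCommGroup W] [Module k W]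

lemma comp_aeval_eq {α : Module.End k V} {β : Module.End k W} (φ : V →ₗ[k] W)
    (hφ : φ ∘ₗ α = β ∘ₗ φ) (P : k[X]) : φ ∘ₗ aeval α P = aeval β P ∘ₗ φ := by
  induction P using Polynomial.induction_on with
  | C a =>
    simp only [aeval_C]
    apply LinearMap.ext
    intro v
    simp [Module.algebraMap_end_apply]
  | add p q hp hq =>
    rw [map_add, map_add, LinearMap.comp_add, LinearMap.add_comp, hp, hq]
  | monomial n a ih =>
    have e1 : aeval α (C a * X ^ (n + 1)) = aeval α (C a * X ^ n) * α := by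
      rw [pow_succ, ← mul_assoc, map_mul (aeval α) (C a * X ^ n) X, aeval_X]
    have e2 : aeval β (C a * X ^ (n + 1)) = aeval β (C a * X ^ n) * β := by
      rw [pow_succ, ← mul_assoc, map_mul (aeval β) (C a * X ^ n) X, aeval_X]
    rw [e1, e2]
    change φ ∘ₗ (aeval α (C a * X ^ n) ∘ₗ α) = (aeval β (C a * X ^ n) ∘ₗ β) ∘ₗ φ
    rw [← LinearMap.comp_assoc, ih, LinearMap.comp_assoc, hφ, LinearMap.comp_assoc]

lemma isNilpotent_prodMap {a : Module.End k V} {b : Module.End k W} (ha : IsNilpotent a)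
    (hb : IsNilpotent b) : IsNilpotent (a.prodMap b : Module.End k (V × W)) := by
  obtain ⟨n, hn⟩ := ha
  obtain ⟨m, hm⟩ := hb
  refine ⟨n + m, ?_⟩
  have h : (a.prodMap b : Module.End k (V × W)) = LinearMap.prodMapAlgHom k V W (a, b) := rfl
  rw [h, ← map_pow, Prod.pow_mk, pow_add a, hn, zero_mul, pow_add b, hm, mul_zero]
  exact LinearMap.prodMap_zero

variable [FiniteDimensional k V] [FiniteDimensional k W] [PerfectField k]

theorem jordan_functorial
    (α αs αu : Module.End k V) (β βs βu : Module.End k W) (hα : IsUnit α) (hβ : IsUnit β)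
    (hαs : αs.IsSemisimple) (hαu : IsNilpotent (αu - 1)) (hαc : Commute αs αu) (hαe : αs * αu = α)
    (hβs : βs.IsSemisimple) (hβu : IsNilpotent (βu - 1)) (hβc : Commute βs βu) (hβe : βs * βu = β)
    (φ : V →ₗ[k] W) (hφ : φ ∘ₗ α = β ∘ₗ φ) :
    φ ∘ₗ αs = βs ∘ₗ φ ∧ φ ∘ₗ αu = βu ∘ₗ φ := by
  -- the product endomorphism
  set γ : Module.End k (V × W) := α.prodMap β with hγ
  set γs : Module.End k (V × W) := αs.prodMap βs with hγs
  set γn : Module.End k (V × W) := (αs * (αu - 1)).prodMap (βs * (βu - 1)) with hγn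
  have hc1 : Commute αs (αu - 1) := hαc.sub_right (Commute.one_right _)
  have hc2 : Commute βs (βu - 1) := hβc.sub_right (Commute.one_right _)
  have hn1 : IsNilpotent (αs * (αu - 1)) := hc1.isNilpotent_mul_left hαu
  have hn2 : IsNilpotent (βs * (βu - 1)) := hc2.isNilpotent_mul_left hβu
  have hγn_nil : IsNilpotent γn := isNilpotent_prodMap hn1 hn2
  have hγs_ss : γs.IsSemisimple := isSemisimple_prodMap hαs hβs
  have hsum : γn + γs = γ := by
    rw [hγn, hγs, hγ, ← LinearMap.prodMap_add]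
    congr 1
    · rw [mul_sub, mul_one, sub_add_cancel, hαe]
    · rw [mul_sub, mul_one, sub_add_cancel, hβe]
  have hcomm : Commute γn γs := by
    change γn * γs = γs * γn
    rw [hγn, hγs, LinearMap.prodMap_mul, LinearMap.prodMap_mul]
    congr 1
    · exact ((Commute.refl αs).mul_left hc1.symm).eq
    · exact ((Commute.refl βs).mul_left hc2.symm).eq
  obtain ⟨n₀, hn₀, s₀, hs₀, hn₀_nil, hs₀_ss, h₀⟩ := γ.exists_isNilpotent_isSemisimple
  rw [Algebra.adjoin_singleton_eq_range_aeval] at hn₀ hs₀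
  obtain ⟨Q, hQ⟩ := hn₀
  obtain ⟨P, hP⟩ := hs₀
  have hcomm₀ : Commute n₀ s₀ := by
    change n₀ * s₀ = s₀ * n₀
    rw [← hQ, ← hP]
    change aeval γ Q * aeval γ P = aeval γ P * aeval γ Q
    rw [← map_mul, ← map_mul, mul_comm]
  have huniq := Module.End.isNilpotent_isSemisimple_unique hγn_nil hγs_ss hn₀_nil hs₀_ss hcomm hcomm₀
    (hsum.trans h₀)
  have hγsP : γs = (aeval α P).prodMap (aeval β P) := by
    rw [huniq.2, ← hP]
    exact aeval_prodMap α β P
  have hαsP : αs = aeval α P := by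
    apply LinearMap.ext
    intro v
    have := congrArg Prod.fst (LinearMap.congr_fun hγsP (v, 0))
    simpa [hγs] using this
  have hβsP : βs = aeval β P := by
    apply LinearMap.ext
    intro w
    have := congrArg Prod.snd (LinearMap.congr_fun hγsP (0, w))
    simpa [hγs] using this
  have hs : φ ∘ₗ αs = βs ∘ₗ φ := by
    rw [hαsP, hβsP]
    exact comp_aeval_eq φ hφ P
  refine ⟨hs, ?_⟩
  -- units
  have hαsu : IsUnit αs := ((hαc.isUnit_mul_iff).1 (hαe ▸ hα)).1
  have hβsu : IsUnit βs := ((hβc.isUnit_mul_iff).1 (hβe ▸ hβ)).1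
  obtain ⟨a, ha⟩ := hαsu
  obtain ⟨b, hb⟩ := hβsu
  have hαu' : αu = (↑a⁻¹ : Module.End k V) * α := by
    rw [← hαe, ← ha, ← mul_assoc, Units.inv_mul, one_mul]
  have hβu' : βu = (↑b⁻¹ : Module.End k W) * β := by
    rw [← hβe, ← hb, ← mul_assoc, Units.inv_mul, one_mul]
  have hs' : φ ∘ₗ (↑a⁻¹ : Module.End k V) = (↑b⁻¹ : Module.End k W) ∘ₗ φ := by
    apply LinearMap.ext
    intro v
    have e1 : ∀ w, (↑b⁻¹ : Module.End k W) (βs w) = w := by
      intro w
      have := LinearMap.congr_fun (Units.inv_mul b) w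
      rw [hb] at this
      exact this
    have e2 : ∀ v, αs ((↑a⁻¹ : Module.End k V) v) = v := by
      intro v
      have := LinearMap.congr_fun (Units.mul_inv a) v
      rw [ha] at this
      exact this
    have h3 := LinearMap.congr_fun hs ((↑a⁻¹ : Module.End k V) v)
    simp only [LinearMap.comp_apply] at h3 ⊢
    rw [e2] at h3
    rw [h3, e1]
  rw [hαu', hβu']
  change φ ∘ₗ ((↑a⁻¹ : Module.End k V) ∘ₗ α) = ((↑b⁻¹ : Module.End k W) ∘ₗ β) ∘ₗ φ
  rw [← LinearMap.comp_assoc, hs', LinearMap.comp_assoc, hφ, LinearMap.comp_assoc]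

end Groth.Agent.Lib.Helper7.JordanFunct
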