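import Groth.Agent.Lib.Helper7.JordanFunct

/-!
# Multiplicative Jordan decomposition: existence, uniqueness, tensor products (helper7)
-/

universe u v w

open TensorProduct Polynomial

namespace Groth.Agent.Lib.Helper7.JordanPts

section LinAlg

variable {k : Type u} [Field k] [PerfectField k] {V : Type v} [AddCommGroup V] [Module k V]
  [FiniteDimensional k V] {W : Type w} [AddCommGroup W] [Module k W] [FiniteDimensional k W]

/-- multiplicative Jordan decomposition of an automorphism. -/
theorem exists_mul_jordan (α : Module.End k V) (hα : IsUnit α) :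
    ∃ αs αu : Module.End k V, αs.IsSemisimple ∧ IsNilpotent (αu - 1) ∧ Commute αs αu ∧
      αs * αu = α := by
  obtain ⟨n, hn, s, hs, hnil, hss, h⟩ := α.exists_isNilpotent_isSemisimple
  rw [Algebra.adjoin_singleton_eq_range_aeval] at hn hs
  obtain ⟨Q, hQ⟩ := hn
  obtain ⟨P, hP⟩ := hs
  have hQ' : aeval α Q = n := hQ
  have hP' : aeval α P = s := hP
  have hcomm : Commute n s := by
    change n * s = s * n
    rw [← hQ', ← hP', ← map_mul, ← map_mul, mul_comm]
  have hcα : Commute n α := by
    change n * α = α * n
    have hX : aeval α (X : k[X]) = α := aeval_X α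
    rw [← hQ']
    nth_rewrite 2 [← hX]
    nth_rewrite 3 [← hX]
    rw [← map_mul, ← map_mul, mul_comm]
  have hs_eq : s = α - n := by rw [h]; abel
  have hsu : IsUnit s := by
    rw [hs_eq, sub_eq_add_neg]
    exact hnil.neg.isUnit_add_left_of_commute hα (hcα.neg_left)
  obtain ⟨su, hsu'⟩ := hsu
  refine ⟨s, 1 + (↑su⁻¹ : Module.End k V) * n, hss, ?_, ?_, ?_⟩
  · rw [add_sub_cancel_left]
    have hc : Commute (↑su⁻¹ : Module.End k V) n := by
      have h1 : Commute (su : Module.End k V) n := by rw [hsu']; exact hcomm.symm
      exact h1.units_inv_left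
    exact hc.isNilpotent_mul_left hnil
  · have hc : Commute s (↑su⁻¹ : Module.End k V) := by
      rw [← hsu']
      exact (Commute.refl (su : Module.End k V)).units_inv_right
    exact (Commute.one_right s).add_right (hc.mul_right hcomm.symm)
  · rw [mul_add, mul_one, ← mul_assoc, ← hsu', Units.mul_inv, one_mul, hsu', h, add_comm]

/-- uniqueness of the multiplicative Jordan decomposition. -/
theorem mul_jordan_unique (α αs αu βs βu : Module.End k V) (hα : IsUnit α)
    (hαs : αs.IsSemisimple) (hαu : IsNilpotent (αu - 1)) (hαc : Commute αs αu) (hαe : αs * αu = α)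
    (hβs : βs.IsSemisimple) (hβu : IsNilpotent (βu - 1)) (hβc : Commute βs βu) (hβe : βs * βu = α) :
    αs = βs ∧ αu = βu := by
  have h := Groth.Agent.Lib.Helper7.JordanFunct.jordan_functorial α αs αu α βs βu hα hα hαs hαu hαc hαe hβs hβu hβc hβe
    LinearMap.id rfl
  simp only [LinearMap.id_comp, LinearMap.comp_id] at h
  exact h

lemma isSemisimple_rTensor {a : Module.End k V} (ha : a.IsSemisimple) :
    Module.End.IsSemisimple (a.rTensor W : Module.End k (V ⊗[k] W)) := by
  apply Module.End.isSemisimple_of_squarefree_aeval_eq_zero ha.minpoly_squarefree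
  have h1 : (a.rTensor W : Module.End k (V ⊗[k] W)) = Module.End.rTensorAlgHom k V W a := rfl
  rw [h1, Polynomial.aeval_algHom_apply, minpoly.aeval, map_zero]

lemma isSemisimple_lTensor {b : Module.End k W} (hb : b.IsSemisimple) :
    Module.End.IsSemisimple (b.lTensor V : Module.End k (V ⊗[k] W)) := by
  apply Module.End.isSemisimple_of_squarefree_aeval_eq_zero hb.minpoly_squarefree
  have h1 : (b.lTensor V : Module.End k (V ⊗[k] W)) = Module.End.lTensorAlgHom k W V b := rfl
  rw [h1, Polynomial.aeval_algHom_apply, minpoly.aeval, map_zero]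

lemma map_eq_mul (a : Module.End k V) (b : Module.End k W) :
    (TensorProduct.map a b : Module.End k (V ⊗[k] W)) =
      (a.rTensor W : Module.End k (V ⊗[k] W)) * (b.lTensor V : Module.End k (V ⊗[k] W)) := by
  apply TensorProduct.ext'
  intro v w
  simp

lemma commute_rTensor_lTensor (a : Module.End k V) (b : Module.End k W) :
    Commute (a.rTensor W : Module.End k (V ⊗[k] W)) (b.lTensor V : Module.End k (V ⊗[k] W)) := by
  change _ * _ = _ * _
  apply TensorProduct.ext'
  intro v w
  simp

/-- the tensor product of semisimple endomorphisms is semisimple (perfect field). -/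
theorem isSemisimple_map {a : Module.End k V} {b : Module.End k W} (ha : a.IsSemisimple)
    (hb : b.IsSemisimple) : Module.End.IsSemisimple (TensorProduct.map a b : Module.End k (V ⊗[k] W)) := by
  rw [map_eq_mul]
  exact Module.End.IsSemisimple.mul_of_commute (commute_rTensor_lTensor a b)
    (isSemisimple_rTensor ha) (isSemisimple_lTensor hb)

/-- the tensor product of unipotent endomorphisms is unipotent. -/
theorem isNilpotent_map_sub_one {a : Module.End k V} {b : Module.End k W}
    (ha : IsNilpotent (a - 1)) (hb : IsNilpotent (b - 1)) :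
    IsNilpotent ((TensorProduct.map a b : Module.End k (V ⊗[k] W)) - 1) := by
  have h1 : (TensorProduct.map a b : Module.End k (V ⊗[k] W)) - 1 =
      ((a - 1).rTensor W : Module.End k (V ⊗[k] W)) * (b.lTensor V : Module.End k (V ⊗[k] W)) +
      ((b - 1).lTensor V : Module.End k (V ⊗[k] W)) := by
    apply TensorProduct.ext'
    intro v w
    simp [TensorProduct.sub_tmul, TensorProduct.tmul_sub]
  rw [h1]
  have hn1 : IsNilpotent ((a - 1).rTensor W : Module.End k (V ⊗[k] W)) :=
    ha.map (Module.End.rTensorAlgHom k V W)
  have hn2 : IsNilpotent ((b - 1).lTensor V : Module.End k (V ⊗[k] W)) :=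
    hb.map (Module.End.lTensorAlgHom k W V)
  have hc1 := commute_rTensor_lTensor (W := W) (a - 1) b
  have hn3 := hc1.isNilpotent_mul_right hn1
  have hc2 : Commute (((a - 1).rTensor W : Module.End k (V ⊗[k] W)) *
      (b.lTensor V : Module.End k (V ⊗[k] W))) ((b - 1).lTensor V : Module.End k (V ⊗[k] W)) := by
    apply Commute.mul_left
    · exact commute_rTensor_lTensor (a - 1) (b - 1)
    · change _ * _ = _ * _
      apply TensorProduct.ext'
      intro v w
      simp only [Module.End.mul_apply, LinearMap.lTensor_tmul, LinearMap.sub_apply,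
        Module.End.one_apply, map_sub]
  exact hc2.isNilpotent_add hn3 hn2

end LinAlg

end Groth.Agent.Lib.Helper7.JordanPts
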