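import Groth.Agent.Lib.Helper7.JordanPts1
import Groth.Agent.Lib.Helper7.ComodAct
import Groth.Agent.Lib.Helper7.CoeffSpace
import Groth.Prelude.Def_ComodSub

/-!
# Jordan decomposition of rational points (helper7)
-/

universe u v w

open TensorProduct

namespace Groth.Agent.Lib.Helper7.JordanPts

open HopfRep Groth.Agent.Lib.Helper7.Comod

section Choice

variable {k : Type u} [Field k] [PerfectField k] {V : Type v} [AddCommGroup V] [Module k V]
  [FiniteDimensional k V] {W : Type w} [AddCommGroup W] [Module k W] [FiniteDimensional k W]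

open Classical in
/-- the semisimple part. -/
noncomputable def ss (α : Module.End k V) : Module.End k V :=
  if h : IsUnit α then Classical.choose (exists_mul_jordan α h) else 1

open Classical in
/-- the unipotent part. -/
noncomputable def uu (α : Module.End k V) : Module.End k V :=
  if h : IsUnit α then Classical.choose (Classical.choose_spec (exists_mul_jordan α h)) else 1

lemma ss_spec (α : Module.End k V) (h : IsUnit α) :
    (ss α).IsSemisimple ∧ IsNilpotent (uu α - 1) ∧ Commute (ss α) (uu α) ∧ ss α * uu α = α := by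
  unfold ss uu
  rw [dif_pos h, dif_pos h]
  exact Classical.choose_spec (Classical.choose_spec (exists_mul_jordan α h))

lemma ss_functorial (α : Module.End k V) (hα : IsUnit α) (β : Module.End k W) (hβ : IsUnit β)
    (φ : V →ₗ[k] W) (hφ : φ ∘ₗ α = β ∘ₗ φ) : φ ∘ₗ ss α = ss β ∘ₗ φ := by
  obtain ⟨h1, h2, h3, h4⟩ := ss_spec α hα
  obtain ⟨h1', h2', h3', h4'⟩ := ss_spec β hβ
  exact (Groth.Agent.Lib.Helper7.JordanFunct.jordan_functorial α (ss α) (uu α) β (ss β) (uu β)
    hα hβ h1 h2 h3 h4 h1' h2' h3' h4' φ hφ).1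

lemma ss_unique (α s t : Module.End k V) (hα : IsUnit α) (hs : s.IsSemisimple)
    (ht : IsNilpotent (t - 1)) (hc : Commute s t) (he : s * t = α) : ss α = s ∧ uu α = t := by
  obtain ⟨h1, h2, h3, h4⟩ := ss_spec α hα
  exact mul_jordan_unique α (ss α) (uu α) s t hα h1 h2 h3 h4 hs ht hc he

lemma isUnit_map {a : Module.End k V} {b : Module.End k W} (ha : IsUnit a) (hb : IsUnit b) :
    IsUnit (TensorProduct.map a b : Module.End k (V ⊗[k] W)) := by
  rw [map_eq_mul]
  exact (ha.map (Module.End.rTensorAlgHom k V W)).mul (hb.map (Module.End.lTensorAlgHom k W V))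

lemma ss_map {a : Module.End k V} {b : Module.End k W} (ha : IsUnit a) (hb : IsUnit b) :
    ss (TensorProduct.map a b : Module.End k (V ⊗[k] W)) = TensorProduct.map (ss a) (ss b) := by
  obtain ⟨h1, h2, h3, h4⟩ := ss_spec a ha
  obtain ⟨h1', h2', h3', h4'⟩ := ss_spec b hb
  refine (ss_unique _ (TensorProduct.map (ss a) (ss b)) (TensorProduct.map (uu a) (uu b))
    (isUnit_map ha hb) (isSemisimple_map h1 h1') (isNilpotent_map_sub_one h2 h2') ?_ ?_).1
  · change (TensorProduct.map (ss a) (ss b) : Module.End k (V ⊗[k] W)) *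
      TensorProduct.map (uu a) (uu b) = TensorProduct.map (uu a) (uu b) *
      TensorProduct.map (ss a) (ss b)
    rw [← TensorProduct.map_mul, ← TensorProduct.map_mul, h3.eq, h3'.eq]
  · rw [← TensorProduct.map_mul, h4, h4']

lemma ss_one : ss (1 : Module.End k V) = 1 := by
  refine (ss_unique 1 1 1 isUnit_one ?_ ?_ (Commute.one_right 1) (mul_one 1)).1
  · exact Module.End.isSemisimple_id
  · rw [sub_self]; exact IsNilpotent.zero

end Choice

end Groth.Agent.Lib.Helper7.JordanPts
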