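import Mathlib
import Groth.Prelude.Def_SGA3b
import Groth.Agent.Lib.Helper7.MonoClosed
import Groth.Agent.Lib.Helper7.GroupLikeConn

set_option autoImplicit false
universe u
open TensorProduct SGA3b
open Groth.Agent.Lib.Helper7.MonoClosed

namespace Groth.Agent.Lib.Helper7.KerMT

section Idem

variable {V : Type u} [CommRing V] {M : Type u} [CommGroup M] {C : Type u} [CommRing C]
  [HopfAlgebra V C] (ψ : C →ₐc[V] MonoidAlgebra V M)

/-- the coefficient ideals are idempotent. -/
theorem coefIdeal_le_mul (m : M) : coefIdeal ψ m ≤ coefIdeal ψ m * coefIdeal ψ m := by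
  classical
  intro r hr
  obtain ⟨x, hx⟩ := hr
  have h1 : Coalgebra.comul (R := V) (ψ x) =
      TensorProduct.map (ψ : C →ₗ[V] MonoidAlgebra V M) (ψ : C →ₗ[V] MonoidAlgebra V M)
        (Coalgebra.comul (R := V) x) := (CoalgHomClass.map_comp_comul_apply ψ x).symm
  have h2 : GroupLikeConn.cf m m (Coalgebra.comul (R := V) (ψ x)) = r := by
    rw [GroupLikeConn.cf_comul, if_pos rfl, hx, MonoidAlgebra.coeff_single, Finsupp.single_eq_same]
  rw [← h2, h1]
  generalize Coalgebra.comul (R := V) x = z
  induction z using TensorProduct.induction_on with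
  | zero => simp
  | tmul a b =>
    rw [TensorProduct.map_tmul, GroupLikeConn.cf_tmul]
    exact Ideal.mul_mem_mul (coeff_mem_coefIdeal ψ a m) (coeff_mem_coefIdeal ψ b m)
  | add x y hx hy =>
    rw [map_add, map_add]
    exact Ideal.add_mem _ hx hy

theorem coefIdeal_isIdempotentElem (m : M) : IsIdempotentElem (coefIdeal ψ m) :=
  le_antisymm Ideal.mul_le_left (coefIdeal_le_mul ψ m)

end Idem

section Mono

variable {V : Type u} [CommRing V] {M : Type u} [CommGroup M] {F : Type u}
  (a : F → V) (n : F → M)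

/-- the monomial in the coefficients. -/
noncomputable def monoV (l : F →₀ ℕ) : V := l.prod (fun f k => a f ^ k)
/-- its degree. -/
noncomputable def monoM (l : F →₀ ℕ) : M := l.prod (fun f k => n f ^ k)

lemma monoV_zero : monoV a (0 : F →₀ ℕ) = 1 := Finsupp.prod_zero_index
lemma monoM_zero : monoM n (0 : F →₀ ℕ) = 1 := Finsupp.prod_zero_index

lemma monoV_add (l l' : F →₀ ℕ) : monoV a (l + l') = monoV a l * monoV a l' :=
  Finsupp.prod_add_index' (fun _ => pow_zero _) (fun _ _ _ => pow_add _ _ _)
lemma monoM_add (l l' : F →₀ ℕ) : monoM n (l + l') = monoM n l * monoM n l' :=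
  Finsupp.prod_add_index' (fun _ => pow_zero _) (fun _ _ _ => pow_add _ _ _)

lemma monoV_single (f : F) (k : ℕ) : monoV a (Finsupp.single f k) = a f ^ k :=
  Finsupp.prod_single_index (pow_zero _)
lemma monoM_single (f : F) (k : ℕ) : monoM n (Finsupp.single f k) = n f ^ k :=
  Finsupp.prod_single_index (pow_zero _)

/-- the ideal spanned by the monomials of degree `m`. -/
noncomputable def K (m : M) : Ideal V := Ideal.span (monoV a '' {l | monoM n l = m})

lemma monoV_mem_K (l : F →₀ ℕ) : monoV a l ∈ K a n (monoM n l) :=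
  Ideal.subset_span ⟨l, rfl, rfl⟩

lemma one_mem_K : (1 : V) ∈ K a n 1 := by
  have := monoV_mem_K a n (0 : F →₀ ℕ)
  rwa [monoV_zero, monoM_zero] at this

lemma K_mul_le (m m' : M) : K a n m * K a n m' ≤ K a n (m * m') := by
  unfold K
  rw [Ideal.span_mul_span']
  apply Ideal.span_le.2
  rintro _ ⟨_, ⟨l, hl, rfl⟩, _, ⟨l', hl', rfl⟩, rfl⟩
  change monoV a l * monoV a l' ∈ _
  rw [← monoV_add]
  apply Ideal.subset_span
  refine ⟨l + l', ?_, rfl⟩
  change monoM n (l + l') = m * m'
  rw [monoM_add, hl, hl']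

theorem K_fg [Finite F] (m : M) : (K a n m).FG := by
  classical
  let ev : MvPolynomial F ℤ →+* V := MvPolynomial.eval₂Hom (Int.castRingHom V) a
  have h1 : K a n m = Ideal.map ev
      (Ideal.span ((fun l => MvPolynomial.monomial l (1 : ℤ)) '' {l | monoM n l = m})) := by
    rw [Ideal.map_span, Set.image_image]
    unfold K
    congr 1
    apply Set.image_congr
    intro l _
    change monoV a l = MvPolynomial.eval₂ (Int.castRingHom V) a (MvPolynomial.monomial l 1)
    rw [MvPolynomial.eval₂_monomial, map_one, one_mul]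
    rfl
  rw [h1]
  exact Ideal.FG.map (IsNoetherian.noetherian _) ev

end Mono

end Groth.Agent.Lib.Helper7.KerMT
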