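import Mathlib
import Groth.Prelude.Def_SGA3b
import Groth.Agent.Lib.Helper7.KR1

set_option autoImplicit false
universe u
open TensorProduct SGA3b
open Groth.Agent.Lib.Helper7.MonoClosed

namespace Groth.Agent.Lib.Helper7.KerMT

section Compare

variable {V : Type u} [CommRing V] {M : Type u} [CommGroup M] {C : Type u} [CommRing C]
  [HopfAlgebra V C] (ψ : C →ₐc[V] MonoidAlgebra V M) {F : Type u} (a : F → V) (n : F → M)

lemma pow_mem_coefIdeal {m : M} {r : V} (hr : r ∈ coefIdeal ψ m) (k : ℕ) :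
    r ^ k ∈ coefIdeal ψ (m ^ k) := by
  induction k with
  | zero => rw [pow_zero, pow_zero]; exact one_mem_coefIdeal_one ψ
  | succ k ih => rw [pow_succ, pow_succ]; exact mul_mem_coefIdeal ψ ih hr

include ψ in
lemma monoV_mem_coefIdeal (ha : ∀ f, a f ∈ coefIdeal ψ (n f)) (l : F →₀ ℕ) :
    monoV a l ∈ coefIdeal ψ (monoM n l) := by
  classical
  induction l using Finsupp.induction with
  | zero => rw [monoV_zero, monoM_zero]; exact one_mem_coefIdeal_one ψ
  | single_add f k l _ _ ih =>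
    rw [monoV_add, monoM_add, monoV_single, monoM_single]
    exact mul_mem_coefIdeal ψ (pow_mem_coefIdeal ψ (ha f) k) ih

lemma K_le_coefIdeal (ha : ∀ f, a f ∈ coefIdeal ψ (n f)) (m : M) : K a n m ≤ coefIdeal ψ m := by
  unfold K
  rw [Ideal.span_le]
  rintro _ ⟨l, hl, rfl⟩
  have := monoV_mem_coefIdeal ψ a n ha l
  rw [hl] at this
  exact this

/-- the graded submodule `⊕ K_m m`. -/
noncomputable def gradedSub : Submodule V (MonoidAlgebra V M) :=
  Submodule.span V {y | ∃ m r, r ∈ K a n m ∧ y = MonoidAlgebra.single m r}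

lemma coeff_mem_of_mem_gradedSub {y : MonoidAlgebra V M} (hy : y ∈ gradedSub a n) (m : M) :
    y.coeff m ∈ K a n m := by
  classical
  unfold gradedSub at hy
  induction hy using Submodule.span_induction with
  | mem y hy =>
    obtain ⟨m', r, hr, rfl⟩ := hy
    rw [MonoidAlgebra.coeff_single, Finsupp.single_apply]
    split_ifs with h
    · rw [← h]; exact hr
    · exact Ideal.zero_mem _
  | zero => exact Ideal.zero_mem _
  | add x y _ _ hx hy => rw [MonoidAlgebra.coeff_add, Finsupp.add_apply]; exact Ideal.add_mem _ hx hy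
  | smul v x _ hx =>
    rw [MonoidAlgebra.coeff_smul, Finsupp.smul_apply, smul_eq_mul]
    exact Ideal.mul_mem_left _ _ hx

lemma one_mem_gradedSub : (1 : MonoidAlgebra V M) ∈ gradedSub a n :=
  Submodule.subset_span ⟨1, 1, one_mem_K a n, rfl⟩

lemma mul_mem_gradedSub {x y : MonoidAlgebra V M} (hx : x ∈ gradedSub a n)
    (hy : y ∈ gradedSub a n) : x * y ∈ gradedSub a n := by
  have h1 : gradedSub a n * gradedSub a n ≤ gradedSub a n := by
    unfold gradedSub
    rw [Submodule.span_mul_span]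
    apply Submodule.span_le.2
    rintro _ ⟨_, ⟨m, r, hr, rfl⟩, _, ⟨m', r', hr', rfl⟩, rfl⟩
    apply Submodule.subset_span
    refine ⟨m * m', r * r', K_mul_le a n m m' (Ideal.mul_mem_mul hr hr'), ?_⟩
    exact MonoidAlgebra.single_mul_single _ _ _ _
  exact h1 (Submodule.mul_mem_mul hx hy)

lemma coefIdeal_le_K (s : Finset C) (hs : Algebra.adjoin V (s : Set C) = ⊤)
    (hcov : ∀ c ∈ s, ∀ m, (ψ c).coeff m ∈ K a n m) (m : M) : coefIdeal ψ m ≤ K a n m := by
  classical
  let 𝔅 : Subalgebra V (MonoidAlgebra V M) :=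
    (gradedSub a n).toSubalgebra (one_mem_gradedSub a n) (fun x y hx hy => mul_mem_gradedSub a n hx hy)
  have h1 : ∀ c ∈ s, ψ c ∈ gradedSub a n := by
    intro c hc
    rw [← MonoidAlgebra.sum_coeff_single (ψ c)]
    apply Submodule.sum_mem
    intro m' _
    exact Submodule.subset_span ⟨m', _, hcov c hc m', rfl⟩
  have h2 : (ψ : C →ₐ[V] MonoidAlgebra V M).range ≤ 𝔅 := by
    rw [← Algebra.map_top, ← hs, AlgHom.map_adjoin]
    apply Algebra.adjoin_le
    rintro _ ⟨c, hc, rfl⟩
    exact h1 c hc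
  rintro r ⟨x, hx⟩
  have h3 : ψ x ∈ gradedSub a n := h2 ⟨x, rfl⟩
  have h4 := coeff_mem_of_mem_gradedSub a n h3 m
  rw [hx, MonoidAlgebra.coeff_single, Finsupp.single_eq_same] at h4
  exact h4

end Compare

section ExistsIdem

variable {V : Type u} [CommRing V] {M : Type u} [CommGroup M] {C : Type u} [CommRing C]
  [HopfAlgebra V C] (ψ : C →ₐc[V] MonoidAlgebra V M)

theorem exists_idem (hft : Algebra.FiniteType V C) :
    ∃ (P : Finset M) (e : M → V), (∀ m, IsIdempotentElem (e m)) ∧
      (∀ m, coefIdeal ψ m = Ideal.span {e m}) ∧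
      ∀ (W : Type u) [CommRing W] (g : V →+* W) (H : Subgroup M),
        (∀ m ∈ P, g (e m) = 0 ∨ m ∈ H) → ∀ m, m ∉ H → ∀ r ∈ coefIdeal ψ m, g r = 0 := by
  classical
  obtain ⟨s, hs⟩ := hft.out
  let P : Finset M := s.biUnion (fun c => (ψ c).coeff.support)
  let F := {c // c ∈ s} × {m // m ∈ P}
  let a : F → V := fun f => (ψ f.1.1).coeff f.2.1
  let n : F → M := fun f => f.2.1
  have ha : ∀ f, a f ∈ coefIdeal ψ (n f) := fun f => coeff_mem_coefIdeal ψ _ _
  have hcov : ∀ c ∈ s, ∀ m, (ψ c).coeff m ∈ K a n m := by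
    intro c hc m
    by_cases hm : m ∈ (ψ c).coeff.support
    · have hmP : m ∈ P := Finset.mem_biUnion.2 ⟨c, hc, hm⟩
      have := monoV_mem_K a n (Finsupp.single (⟨⟨c, hc⟩, ⟨m, hmP⟩⟩ : F) 1)
      rw [monoV_single, monoM_single, pow_one, pow_one] at this
      exact this
    · rw [Finsupp.notMem_support_iff.1 hm]; exact Ideal.zero_mem _
  have heq : ∀ m, coefIdeal ψ m = K a n m := fun m =>
    le_antisymm (coefIdeal_le_K ψ a n s hs hcov m) (K_le_coefIdeal ψ a n ha m)
  have hfg : ∀ m, (coefIdeal ψ m).FG := fun m => by rw [heq m]; exact K_fg a n m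
  have hex : ∀ m, ∃ e : V, IsIdempotentElem e ∧ coefIdeal ψ m = Ideal.span {e} := fun m =>
    ((coefIdeal ψ m).isIdempotentElem_iff_of_fg (hfg m)).1 (coefIdeal_isIdempotentElem ψ m)
  choose e he1 he2 using hex
  refine ⟨P, e, he1, he2, ?_⟩
  intro W _ g H hH m hm r hr
  rw [heq m] at hr
  unfold K at hr
  induction hr using Submodule.span_induction with
  | mem r hr =>
    obtain ⟨l, hl, rfl⟩ := hr
    have hl' : monoM n l = m := hl
    have : ∃ f ∈ l.support, n f ∉ H := by
      by_contra hcon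
      push Not at hcon
      apply hm
      rw [← hl']
      unfold monoM Finsupp.prod
      exact Subgroup.prod_mem H (fun f hf => H.pow_mem (hcon f hf) _)
    obtain ⟨f, hf, hfH⟩ := this
    have h1 : g (a f) = 0 := by
      have h2 : a f ∈ Ideal.span {e (n f)} := by rw [← he2]; exact ha f
      obtain ⟨t, ht⟩ := Ideal.mem_span_singleton'.1 h2
      have h3 := (hH (n f) f.2.2).resolve_right hfH
      rw [← ht, map_mul, h3, mul_zero]
    unfold monoV Finsupp.prod
    rw [map_prod]
    apply Finset.prod_eq_zero hf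
    rw [map_pow, h1, zero_pow (Finsupp.mem_support_iff.1 hf)]
  | zero => exact map_zero g
  | add x y _ _ hx hy => rw [map_add, hx, hy, add_zero]
  | smul v x _ hx => rw [smul_eq_mul, map_mul, hx, mul_zero]

end ExistsIdem

end Groth.Agent.Lib.Helper7.KerMT
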