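import Mathlib
import Groth.Prelude.Def_SGA3b
import Groth.Agent.Lib.Helper7.CO6
import Groth.Agent.Lib.Helper7.QuotDiag

set_option autoImplicit false
universe u v
open TensorProduct SGA3b
open Groth.Agent.Lib.Helper7.CancelBC

namespace Groth.Agent.Lib.Helper7.QP

section Spec

variable {R : Type u} [CommRing R] {A : Type u} [CommRing A] [HopfAlgebra R A]
  {M : Type v} [CommGroup M]

/-- base change of a diagonalisation, with the same group, with a formula. -/
theorem exists_bialgEquiv_baseChange_spec (S : Type u) [CommRing S] [Algebra R S]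
    (e : A ≃ₐc[R] MonoidAlgebra R M) :
    ∃ e' : S ⊗[R] A ≃ₐc[S] MonoidAlgebra S M, ∀ a : A,
      e' ((1 : S) ⊗ₜ[R] a) = MonoidAlgebra.mapRingHom M (algebraMap R S) (e a) := by
  classical
  have hgl : ∀ m : M, IsGroupLikeElem S ((1 : S) ⊗ₜ[R] e.symm (MonoidAlgebra.single m 1) :
      S ⊗[R] A) := fun m =>
    Groth.Agent.Lib.Helper7.DiagSub.isGroupLikeElem_one_tmul S
      ((MonoidAlgebra.isGroupLikeElem_single_one (R := R) (A := R) m).map e.symm)
  let γ : M →* GroupLike S (S ⊗[R] A) :=
    { toFun := fun m => ⟨_, hgl m⟩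
      map_one' := by
        apply GroupLike.val_injective
        change (1 : S) ⊗ₜ[R] e.symm (1 : MonoidAlgebra R M) = 1
        rw [map_one]
        rfl
      map_mul' := by
        intro m m'
        apply GroupLike.val_injective
        change (1 : S) ⊗ₜ[R] e.symm (MonoidAlgebra.single (m * m') 1) =
          ((1 : S) ⊗ₜ[R] e.symm (MonoidAlgebra.single m 1)) *
            ((1 : S) ⊗ₜ[R] e.symm (MonoidAlgebra.single m' 1))
        rw [Algebra.TensorProduct.tmul_mul_tmul, mul_one, ← map_mul,
          MonoidAlgebra.single_mul_single, mul_one] }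
  set φ : MonoidAlgebra S M →ₐc[S] S ⊗[R] A :=
    (MonoidAlgebra.liftGroupLikeBialgHom (R := S) (A := S ⊗[R] A)).comp
      (MonoidAlgebra.mapDomainBialgHom S γ) with hφ
  have hφs : ∀ (m : M) (r : S), φ (MonoidAlgebra.single m r) =
      r • ((1 : S) ⊗ₜ[R] e.symm (MonoidAlgebra.single m 1)) := by
    intro m r
    simp [hφ, γ]
  have hφeq : ∀ x : MonoidAlgebra S M, φ x =
      (LinearEquiv.lTensor S e.symm.toLinearEquiv)
        ((MonoidAlgebra.scalarTensorEquiv (M := M) R S).symm x) := by
    intro x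
    induction x using MonoidAlgebra.induction_linear with
    | zero => simp
    | add x y hx hy => rw [map_add, hx, hy, map_add, map_add]
    | single m r =>
      rw [hφs, MonoidAlgebra.scalarTensorEquiv_symm_single, LinearEquiv.lTensor_tmul,
        TensorProduct.smul_tmul', smul_eq_mul, mul_one]
      rfl
  have hbij : Function.Bijective φ := by
    have : (φ : MonoidAlgebra S M → S ⊗[R] A) =
        (LinearEquiv.lTensor S e.symm.toLinearEquiv) ∘
          ((MonoidAlgebra.scalarTensorEquiv (M := M) R S).symm) := by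
      funext x
      exact hφeq x
    rw [this]
    exact (LinearEquiv.bijective _).comp (AlgEquiv.bijective _)
  refine ⟨(BialgEquiv.ofBijective φ hbij).symm, ?_⟩
  intro a
  have hkey : ∀ x : MonoidAlgebra R M,
      φ (MonoidAlgebra.mapRingHom M (algebraMap R S) x) = (1 : S) ⊗ₜ[R] e.symm x := by
    intro x
    induction x using MonoidAlgebra.induction_linear with
    | zero => simp
    | add x y hx hy => rw [map_add, map_add, hx, hy, map_add, TensorProduct.tmul_add]
    | single m r =>
      rw [MonoidAlgebra.mapRingHom_single, hφs, Algebra.algebraMap_eq_smul_one, smul_assoc,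
        one_smul, ← TensorProduct.tmul_smul, ← map_smul, MonoidAlgebra.smul_single, smul_eq_mul,
        mul_one]
  have h1 := hkey (e a)
  rw [BialgEquiv.symm_apply_apply] at h1
  rw [← h1]
  exact (BialgEquiv.ofBijective φ hbij).symm_apply_apply _

end Spec

section BcIso

variable {R : Type u} [CommRing R] {A : Type u} [CommRing A] [HopfAlgebra R A]
  {M : Type v} [CommGroup M]
  (V W : Type u) [CommRing V] [CommRing W] [Algebra R V] [Algebra R W] [Algebra V W]
  [IsScalarTower R V W]

/-- the comparison map `V ⊗ A → W ⊗ A`. -/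
noncomputable def beta (A : Type u) [CommRing A] [Algebra R A] : V ⊗[R] A →ₐ[R] W ⊗[R] A :=
  Algebra.TensorProduct.map (IsScalarTower.toAlgHom R V W) (AlgHom.id R A)

@[simp] lemma beta_tmul (A : Type u) [CommRing A] [Algebra R A] (v : V) (a : A) :
    beta (R := R) V W A (v ⊗ₜ[R] a) = (algebraMap V W v) ⊗ₜ[R] a := by
  simp [beta]

lemma cancelBC_one_tmul (z : V ⊗[R] A) :
    cancelBC R V W A ((1 : W) ⊗ₜ[V] z) = beta V W A z := by
  induction z using TensorProduct.induction_on with
  | zero => simp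
  | add x y hx hy => rw [TensorProduct.tmul_add, map_add, map_add, hx, hy]
  | tmul v a =>
    rw [beta_tmul]
    change Algebra.TensorProduct.cancelBaseChange R V W W A ((1 : W) ⊗ₜ[V] (v ⊗ₜ[R] a)) = _
    rw [Algebra.TensorProduct.cancelBaseChange_tmul, Algebra.algebraMap_eq_smul_one]

theorem exists_bcIso (e : V ⊗[R] A ≃ₐc[V] MonoidAlgebra V M) :
    ∃ e' : W ⊗[R] A ≃ₐc[W] MonoidAlgebra W M, ∀ z : V ⊗[R] A,
      e' (beta V W A z) = MonoidAlgebra.mapRingHom M (algebraMap V W) (e z) := by
  obtain ⟨e'', h''⟩ := exists_bialgEquiv_baseChange_spec (R := V) (A := V ⊗[R] A) W e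
  refine ⟨(cancelBC R V W A).symm.trans e'', fun z => ?_⟩
  rw [← h'' z, ← cancelBC_one_tmul V W z]
  change e'' ((cancelBC R V W A).symm (cancelBC R V W A ((1 : W) ⊗ₜ[V] z))) = _
  rw [BialgEquiv.symm_apply_apply]

end BcIso

section QuotIdeal

open MonoidAlgebra Groth.Agent.Lib.Helper7.QuotDiag

variable {R : Type u} [CommRing R] {A : Type u} [CommRing A] [HopfAlgebra R A]
  {M : Type u} [CommGroup M] (T : Type u) [CommRing T] [Algebra R T]

/-- a quotient by a Hopf ideal whose extension is the ideal of a subgroup `D(M/H)`. -/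
theorem nonempty_bialgEquiv_quotient_of_ideal (e : T ⊗[R] A ≃ₐc[T] MonoidAlgebra T M)
    (J : Ideal A) [J.IsHopfIdeal R] (H : Subgroup M)
    (hJ : ∀ a ∈ J, e ((1 : T) ⊗ₜ[R] a) ∈ subgroupIdeal T H)
    (hH : ∀ h ∈ H, e.symm (single h 1) - 1 ∈
      J.map (Algebra.TensorProduct.includeRight : A →ₐ[R] T ⊗[R] A)) :
    Nonempty (MonoidAlgebra T (M ⧸ H) ≃ₐc[T] T ⊗[R] (A ⧸ J)) := by
  set mkq : A →ₐc[R] A ⧸ J := Bialgebra.Quotient.mkBialgHom J with hmkq
  set q : T ⊗[R] A →ₐc[T] T ⊗[R] (A ⧸ J) :=
    Bialgebra.TensorProduct.map (BialgHom.id T T) mkq with hq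
  have hqs : Function.Surjective q :=
    Groth.Agent.Lib.Helper7.MultQuot.map_id_surjective _ Ideal.Quotient.mk_surjective
  have hker : ∀ z : T ⊗[R] A, q z = 0 ↔
      z ∈ J.map (Algebra.TensorProduct.includeRight : A →ₐ[R] T ⊗[R] A) := by
    intro z
    have h1 := Algebra.TensorProduct.lTensor_ker (A := T) (g := (mkq : A →ₐ[R] A ⧸ J))
      Ideal.Quotient.mk_surjective
    have h2 : RingHom.ker (mkq : A →ₐ[R] A ⧸ J) = J := by
      ext a
      rw [RingHom.mem_ker]
      exact Ideal.Quotient.eq_zero_iff_mem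
    rw [h2] at h1
    rw [← h1]
    exact Iff.rfl
  set ψ : MonoidAlgebra T M →ₐc[T] T ⊗[R] (A ⧸ J) := q.comp (e.symm : _ →ₐc[T] _) with hψ
  have hψa : ∀ x, ψ x = q (e.symm x) := fun _ => rfl
  apply exists_bialgEquiv_quotient ψ
  · intro y
    obtain ⟨x, rfl⟩ := hqs y
    exact ⟨e x, by rw [hψa, BialgEquiv.symm_apply_apply]⟩
  · intro h hh
    have h1 := (hker _).2 (hH h hh)
    rw [map_sub, map_one, sub_eq_zero] at h1
    rw [hψa]
    exact h1
  · intro x hx
    have hx0 : q (e.symm x) = 0 := hx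
    have h1 := (hker _).1 hx0
    have h2 : J.map (Algebra.TensorProduct.includeRight : A →ₐ[R] T ⊗[R] A) ≤
        Ideal.comap (e : T ⊗[R] A →ₐ[T] MonoidAlgebra T M) (subgroupIdeal T H) := by
      rw [Ideal.map_le_iff_le_comap]
      intro a ha
      exact hJ a ha
    have h3 := h2 h1
    rw [Ideal.mem_comap] at h3
    have h4 : e (e.symm x) = x := BialgEquiv.apply_symm_apply e x
    change e (e.symm x) ∈ _ at h3
    rw [h4] at h3
    exact h3

/-- `z - ε(z)` lies in the extension of the augmentation ideal. -/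
lemma sub_counit_mem {C : Type u} [CommRing C] [Bialgebra R C] (z : T ⊗[R] C) :
    z - algebraMap T (T ⊗[R] C) (Coalgebra.counit (R := T) z) ∈
      (RingHom.ker (Bialgebra.counitAlgHom R C)).map
        (Algebra.TensorProduct.includeRight : C →ₐ[R] T ⊗[R] C) := by
  induction z using TensorProduct.induction_on with
  | zero => simp
  | add x y hx hy =>
    rw [map_add, map_add]
    have := Ideal.add_mem _ hx hy
    convert this using 1
    ring
  | tmul t c =>
    have h1 : t ⊗ₜ[R] c - algebraMap T (T ⊗[R] C) (Coalgebra.counit (R := T) (t ⊗ₜ[R] c)) =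
        (t ⊗ₜ[R] (1 : C)) * ((1 : T) ⊗ₜ[R] (c - algebraMap R C (Coalgebra.counit (R := R) c))) := by
      rw [Algebra.TensorProduct.tmul_mul_tmul, mul_one, one_mul, TensorProduct.tmul_sub,
        TensorProduct.counit_tmul, CommSemiring.counit_apply, Algebra.TensorProduct.algebraMap_apply,
        Algebra.algebraMap_eq_smul_one (Coalgebra.counit (R := R) c), TensorProduct.tmul_smul,
        TensorProduct.smul_tmul']
      rfl
    rw [h1]
    apply Ideal.mul_mem_left
    apply Ideal.mem_map_of_mem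
    rw [RingHom.mem_ker, map_sub]
    simp

end QuotIdeal

end Groth.Agent.Lib.Helper7.QP
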