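import Mathlib
import Groth.Prelude.Def_SGA3b
import Groth.Agent.Lib.Helper7.QP1

set_option autoImplicit false
universe u v
open TensorProduct SGA3b
open Groth.Agent.Lib.Helper7.CancelBC

namespace Groth.Agent.Lib.Helper7.QP

section IdealSubgroup

variable {N : Type*} [Group N] {B : Type*} [CommRing B]

/-- the elements of a group mapped to `1` modulo an ideal. -/
def idealSubgroup (g : N →* B) (K : Ideal B) : Subgroup N where
  carrier := {n | g n - 1 ∈ K}
  one_mem' := by
    change g 1 - 1 ∈ K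
    rw [map_one, sub_self]
    exact K.zero_mem
  mul_mem' := by
    intro a b ha hb
    change g (a * b) - 1 ∈ K
    have : g (a * b) - 1 = g a * (g b - 1) + (g a - 1) := by rw [map_mul]; ring
    rw [this]
    exact K.add_mem (K.mul_mem_left _ hb) ha
  inv_mem' := by
    intro a ha
    change g a⁻¹ - 1 ∈ K
    have h1 : g a⁻¹ * g a = 1 := by rw [← map_mul, inv_mul_cancel, map_one]
    have : g a⁻¹ - 1 = -(g a⁻¹ * (g a - 1)) := by
      rw [mul_sub, h1]; ring
    rw [this]
    exact K.neg_mem (K.mul_mem_left _ ha)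

lemma mem_idealSubgroup (g : N →* B) (K : Ideal B) (n : N) :
    n ∈ idealSubgroup g K ↔ g n - 1 ∈ K := Iff.rfl

end IdealSubgroup

section Gen

open MonoidAlgebra Groth.Agent.Lib.Helper7.QuotDiag

variable {R : Type u} [CommRing R] {A : Type u} [CommRing A] [HopfAlgebra R A]
  {C : Type u} [CommRing C] [HopfAlgebra R C]
  {M N : Type u} [CommGroup M] [CommGroup N] (T : Type u) [CommRing T] [Algebra R T]

theorem nonempty_quotient_of_generators (eA : T ⊗[R] A ≃ₐc[T] MonoidAlgebra T M)
    (eC : T ⊗[R] C ≃ₐc[T] MonoidAlgebra T N) (φ : C →ₐc[R] A)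
    (J : Ideal A) [J.IsHopfIdeal R] (hJ : J = Ideal.map φ (RingHom.ker (Bialgebra.counitAlgHom R C)))
    (G : Set N) (hG : Subgroup.closure G = ⊤) (τ : N → M)
    (hτ : ∀ g ∈ G, eA (Bialgebra.TensorProduct.map (BialgHom.id T T) φ (eC.symm (single g 1))) =
      single (τ g) 1) :
    Nonempty (MonoidAlgebra T (M ⧸ Subgroup.closure (τ '' G)) ≃ₐc[T] T ⊗[R] (A ⧸ J)) := by
  set H : Subgroup M := Subgroup.closure (τ '' G) with hH
  set Tφ : T ⊗[R] C →ₐc[T] T ⊗[R] A := Bialgebra.TensorProduct.map (BialgHom.id T T) φ with hTφ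
  have hTφ_tmul : ∀ (t : T) (c : C), Tφ (t ⊗ₜ[R] c) = t ⊗ₜ[R] φ c := fun t c => rfl
  set D : MonoidAlgebra T N →ₐc[T] MonoidAlgebra T M :=
    ((eA : T ⊗[R] A →ₐc[T] _).comp Tφ).comp (eC.symm : _ →ₐc[T] _) with hD
  have hDa : ∀ y, D y = eA (Tφ (eC.symm y)) := fun _ => rfl
  set K := subgroupIdeal T H with hK
  -- claim 1
  let gD : N →* MonoidAlgebra T M := ((D : MonoidAlgebra T N →ₐ[T] MonoidAlgebra T M) :
    MonoidAlgebra T N →* MonoidAlgebra T M).comp (MonoidAlgebra.of T N)
  have hgD : ∀ n, gD n = D (single n 1) := fun n => rfl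
  have hc1 : ∀ n : N, D (single n 1) - 1 ∈ K := by
    intro n
    have hle : Subgroup.closure G ≤ idealSubgroup gD K := by
      rw [Subgroup.closure_le]
      intro g hg
      change gD g - 1 ∈ K
      rw [hgD, hDa, hτ g hg]
      exact Ideal.subset_span ⟨τ g, Subgroup.subset_closure ⟨g, hg, rfl⟩, rfl⟩
    have : n ∈ idealSubgroup gD K := hle (by rw [hG]; trivial)
    exact this
  have hc2 : ∀ y : MonoidAlgebra T N,
      D y - algebraMap T (MonoidAlgebra T M) (Coalgebra.counit (R := T) y) ∈ K := by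
    intro y
    induction y using MonoidAlgebra.induction_linear with
    | zero => simp
    | add x y hx hy =>
      rw [map_add, map_add, map_add]
      have := K.add_mem hx hy
      convert this using 1
      ring
    | single n r =>
      have h1 : D (single n r) - algebraMap T (MonoidAlgebra T M)
          (Coalgebra.counit (R := T) (single n r)) = r • (D (single n 1) - 1) := by
        rw [MonoidAlgebra.counit_single, CommSemiring.counit_apply, smul_sub, ← map_smul,
          MonoidAlgebra.smul_single, smul_eq_mul, mul_one, Algebra.algebraMap_eq_smul_one]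
      rw [h1, Algebra.smul_def]
      exact K.mul_mem_left _ (hc1 n)
  apply nonempty_bialgEquiv_quotient_of_ideal T eA J H
  · -- hJ
    have h2 : J ≤ Ideal.comap (((eA : T ⊗[R] A →ₐ[T] MonoidAlgebra T M) : T ⊗[R] A →+* _).comp
        ((Algebra.TensorProduct.includeRight : A →ₐ[R] T ⊗[R] A) : A →+* T ⊗[R] A)) K := by
      rw [hJ, Ideal.map_le_iff_le_comap]
      intro c hc
      rw [Ideal.mem_comap, Ideal.mem_comap]
      change eA ((1 : T) ⊗ₜ[R] φ c) ∈ K
      have hc0 : Coalgebra.counit (R := R) c = 0 := hc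
      have h3 := hc2 (eC ((1 : T) ⊗ₜ[R] c))
      rw [hDa, BialgEquiv.symm_apply_apply, hTφ_tmul,
        CoalgHomClass.counit_comp_apply, TensorProduct.counit_tmul, hc0, zero_smul, map_zero,
        sub_zero] at h3
      exact h3
    intro a ha
    exact h2 ha
  · -- hH
    set 𝔍 := J.map (Algebra.TensorProduct.includeRight : A →ₐ[R] T ⊗[R] A) with h𝔍
    let gA : M →* T ⊗[R] A := ((eA.symm : MonoidAlgebra T M →ₐ[T] T ⊗[R] A) :
      MonoidAlgebra T M →* T ⊗[R] A).comp (MonoidAlgebra.of T M)
    have hgA : ∀ m, gA m = eA.symm (single m 1) := fun m => rfl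
    have hle : H ≤ idealSubgroup gA 𝔍 := by
      rw [hH, Subgroup.closure_le]
      rintro _ ⟨g, hg, rfl⟩
      change gA (τ g) - 1 ∈ 𝔍
      rw [hgA, ← hτ g hg, BialgEquiv.symm_apply_apply]
      set z := eC.symm (single g 1) with hz
      have hz1 : Coalgebra.counit (R := T) z = 1 := by
        rw [hz, CoalgHomClass.counit_comp_apply, MonoidAlgebra.counit_single,
          CommSemiring.counit_apply]
      have h4 := sub_counit_mem (R := R) T z
      rw [hz1, map_one] at h4
      have hle2 : (RingHom.ker (Bialgebra.counitAlgHom R C)).map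
          (Algebra.TensorProduct.includeRight : C →ₐ[R] T ⊗[R] C) ≤
          Ideal.comap (Tφ : T ⊗[R] C →ₐ[T] T ⊗[R] A) 𝔍 := by
        rw [Ideal.map_le_iff_le_comap]
        intro c hc
        rw [Ideal.mem_comap, Ideal.mem_comap]
        change Tφ ((1 : T) ⊗ₜ[R] c) ∈ 𝔍
        rw [hTφ_tmul, h𝔍, hJ]
        exact Ideal.mem_map_of_mem _ (Ideal.mem_map_of_mem _ hc)
      have h5 := hle2 h4
      rw [Ideal.mem_comap] at h5
      change Tφ (z - 1) ∈ 𝔍 at h5
      rw [map_sub, map_one] at h5
      exact h5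
    intro h hh
    exact hle hh

end Gen

end Groth.Agent.Lib.Helper7.QP
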