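import Mathlib
import Groth.Prelude.Def_SGA3b
import Groth.Agent.Lib.Helper7.QP2
import Groth.Agent.Lib.Helper7.GroupLikeConn
import Groth.Agent.Lib.Helper7.ZG1

set_option autoImplicit false
universe u v
open TensorProduct SGA3b

namespace Groth.Agent.Lib.Helper7.QP

section GLike

variable {V : Type u} [CommRing V] {M : Type u} [CommGroup M]

lemma counit_eq_sum (x : MonoidAlgebra V M) :
    Coalgebra.counit (R := V) x = ∑ m ∈ x.coeff.support, x.coeff m := by
  have h : ∀ x : MonoidAlgebra V M, Coalgebra.counit (R := V) x = x.coeff.sum (fun _ r => r) := by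
    intro x
    induction x using MonoidAlgebra.induction_linear with
    | zero => simp
    | add x y hx hy =>
      rw [map_add, hx, hy, MonoidAlgebra.coeff_add, Finsupp.sum_add_index' (fun _ => rfl)
        (fun _ _ _ => rfl)]
    | single m r =>
      rw [MonoidAlgebra.counit_single, CommSemiring.counit_apply, MonoidAlgebra.coeff_single,
        Finsupp.sum_single_index rfl]
  rw [h x]
  rfl

open Classical in
lemma coeff_mul_coeff {x : MonoidAlgebra V M} (hx : IsGroupLikeElem V x) (m m' : M) :
    x.coeff m * x.coeff m' = if m = m' then x.coeff m else 0 := by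
  classical
  rw [← GroupLikeConn.cf_tmul, ← hx.comul_eq_tmul_self, GroupLikeConn.cf_comul]

lemma sum_coeff {x : MonoidAlgebra V M} (hx : IsGroupLikeElem V x) :
    ∑ m ∈ x.coeff.support, x.coeff m = 1 := by
  rw [← counit_eq_sum, hx.counit_eq_one]

end GLike

section Partition

variable {V : Type u} [CommRing V] {M : Type u} [CommGroup M] {κ₀ : Type u} [Fintype κ₀]
  (x : κ₀ → MonoidAlgebra V M) (hx : ∀ k, IsGroupLikeElem V (x k))

include hx in
theorem exists_partition :
    ∃ (κ : Type u) (_ : Fintype κ) (ε : κ → V) (t : κ → κ₀ → M),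
      (∀ i, IsIdempotentElem (ε i)) ∧ (∀ i j, i ≠ j → ε i * ε j = 0) ∧ ∑ i, ε i = 1 ∧
      ∀ i k, MonoidAlgebra.mapRingHom M (algebraMap V (Localization.Away (ε i))) (x k) =
        MonoidAlgebra.single (t i k) 1 := by
  classical
  let P := Fintype.piFinset (fun k => (x k).coeff.support)
  let ε : P → V := fun t => ∏ k, (x k).coeff (t.1 k)
  have hidem : ∀ i, IsIdempotentElem (ε i) := by
    intro i
    unfold IsIdempotentElem
    change (∏ k, (x k).coeff (i.1 k)) * (∏ k, (x k).coeff (i.1 k)) = ∏ k, (x k).coeff (i.1 k)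
    rw [← Finset.prod_mul_distrib]
    apply Finset.prod_congr rfl
    intro k _
    rw [coeff_mul_coeff (hx k), if_pos rfl]
  have horth : ∀ i j, i ≠ j → ε i * ε j = 0 := by
    intro i j hij
    change (∏ k, (x k).coeff (i.1 k)) * (∏ k, (x k).coeff (j.1 k)) = 0
    rw [← Finset.prod_mul_distrib]
    have : ∃ k, i.1 k ≠ j.1 k := by
      by_contra hcon
      push Not at hcon
      exact hij (Subtype.ext (funext hcon))
    obtain ⟨k, hk⟩ := this
    apply Finset.prod_eq_zero (Finset.mem_univ k)
    rw [coeff_mul_coeff (hx k), if_neg hk]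
  have hsum : ∑ i, ε i = 1 := by
    have h1 : ∑ i, ε i = ∑ p ∈ P, ∏ k, (x k).coeff (p k) :=
      Finset.sum_coe_sort P (fun p => ∏ k, (x k).coeff (p k))
    rw [h1, ← Finset.prod_univ_sum]
    apply Finset.prod_eq_one
    intro k _
    exact sum_coeff (hx k)
  refine ⟨P, inferInstance, ε, fun i => i.1, hidem, horth, hsum, ?_⟩
  intro i k
  have h0 : algebraMap V (Localization.Away (ε i)) (ε i) = 1 :=
    Groth.Agent.Lib.Helper7.ZGlue.algebraMap_self ε hidem i
  have h1 : algebraMap V (Localization.Away (ε i)) ((x k).coeff (i.1 k)) = 1 := by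
    have h2 : ε i = (x k).coeff (i.1 k) * ∏ k' ∈ Finset.univ.erase k, (x k').coeff (i.1 k') :=
      (Finset.mul_prod_erase Finset.univ (fun k' => (x k').coeff (i.1 k')) (Finset.mem_univ k)).symm
    have h3 : IsUnit (algebraMap V (Localization.Away (ε i)) ((x k).coeff (i.1 k))) := by
      have h4 : algebraMap V (Localization.Away (ε i)) ((x k).coeff (i.1 k) *
          ∏ k' ∈ Finset.univ.erase k, (x k').coeff (i.1 k')) = 1 := by
        rw [← h2]; exact h0
      rw [map_mul] at h4
      exact IsUnit.of_mul_eq_one _ h4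
    have h5 : algebraMap V (Localization.Away (ε i)) ((x k).coeff (i.1 k)) *
        algebraMap V (Localization.Away (ε i)) ((x k).coeff (i.1 k)) =
        algebraMap V (Localization.Away (ε i)) ((x k).coeff (i.1 k)) * 1 := by
      rw [← map_mul, coeff_mul_coeff (hx k), if_pos rfl, mul_one]
    exact h3.mul_left_cancel h5
  ext m
  rw [MonoidAlgebra.coeff_mapRingHom, MonoidAlgebra.coeff_single, Finsupp.single_apply]
  by_cases hm : i.1 k = m
  · rw [if_pos hm, ← hm, h1]
  · rw [if_neg hm]
    have h6 : (x k).coeff m * (x k).coeff (i.1 k) = 0 := by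
      rw [coeff_mul_coeff (hx k), if_neg (Ne.symm hm)]
    have h7 := congrArg (algebraMap V (Localization.Away (ε i))) h6
    rw [map_mul, h1, mul_one, map_zero] at h7
    exact h7

end Partition

end Groth.Agent.Lib.Helper7.QP
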