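import Mathlib
import Groth.Prelude.Def_SGA3b
import Groth.Agent.Lib.Helper7.QP3

set_option autoImplicit false
universe u v
open TensorProduct SGA3b

namespace Groth.Agent.Lib.Helper7.QP

section Pieces

open MonoidAlgebra

variable {R : Type u} [CommRing R] {A : Type u} [CommRing A] [HopfAlgebra R A]
  {C : Type u} [CommRing C] [HopfAlgebra R C]
  {M N : Type u} [CommGroup M] [CommGroup N]

lemma beta_naturality (V W : Type u) [CommRing V] [CommRing W] [Algebra R V] [Algebra R W]
    [Algebra V W] [IsScalarTower R V W] (φ : C →ₐc[R] A) (z : V ⊗[R] C) :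
    Bialgebra.TensorProduct.map (BialgHom.id W W) φ (beta V W C z) =
      beta V W A (Bialgebra.TensorProduct.map (BialgHom.id V V) φ z) := by
  induction z using TensorProduct.induction_on with
  | zero => simp
  | add x y hx hy => rw [map_add, map_add, hx, hy, map_add, map_add]
  | tmul v c =>
    rw [beta_tmul]
    change (algebraMap V W v) ⊗ₜ[R] φ c = beta V W A (v ⊗ₜ[R] φ c)
    rw [beta_tmul]

theorem exists_pieces (V : Type u) [CommRing V] [Algebra R V]
    (eA : V ⊗[R] A ≃ₐc[V] MonoidAlgebra V M) (eC : V ⊗[R] C ≃ₐc[V] MonoidAlgebra V N)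
    (hCft : Algebra.FiniteType R C) (φ : C →ₐc[R] A)
    (J : Ideal A) [J.IsHopfIdeal R] (hJ : J = Ideal.map φ (RingHom.ker (Bialgebra.counitAlgHom R C))) :
    ∃ (κ : Type u) (_ : Fintype κ) (ε : κ → V), (∀ i, IsIdempotentElem (ε i)) ∧
      (∀ i j, i ≠ j → ε i * ε j = 0) ∧ ∑ i, ε i = 1 ∧
      ∀ i, ∃ (Q : Type u) (_ : CommGroup Q), Nonempty (Localization.Away (ε i) ⊗[R] (A ⧸ J) ≃ₐc[
        Localization.Away (ε i)] MonoidAlgebra (Localization.Away (ε i)) Q) := by
  classical
  by_cases hV : Nontrivial V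
  · have h1 : Algebra.FiniteType V (V ⊗[R] C) := inferInstance
    have h2 : Algebra.FiniteType V (MonoidAlgebra V N) :=
      Algebra.FiniteType.equiv h1 (eC : V ⊗[R] C ≃ₐ[V] MonoidAlgebra V N)
    have h3 : Group.FG N := MonoidAlgebra.finiteType_iff_group_fg.1 h2
    obtain ⟨S, hS⟩ := h3.out
    set Vφ : V ⊗[R] C →ₐc[V] V ⊗[R] A := Bialgebra.TensorProduct.map (BialgHom.id V V) φ with hVφ
    set DV : MonoidAlgebra V N →ₐc[V] MonoidAlgebra V M :=
      ((eA : V ⊗[R] A →ₐc[V] _).comp Vφ).comp (eC.symm : _ →ₐc[V] _) with hDV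
    have hDVa : ∀ y, DV y = eA (Vφ (eC.symm y)) := fun _ => rfl
    let x : {k // k ∈ S} → MonoidAlgebra V M := fun k => DV (single k.1 1)
    have hx : ∀ k, IsGroupLikeElem V (x k) := fun k =>
      (MonoidAlgebra.isGroupLikeElem_single_one (R := V) (A := V) k.1).map DV
    obtain ⟨κ, hκ, ε, t, hidem, horth, hsum, hloc⟩ := exists_partition x hx
    refine ⟨κ, hκ, ε, hidem, horth, hsum, fun i => ?_⟩
    obtain ⟨eA', hA'⟩ := exists_bcIso V (Localization.Away (ε i)) eA
    obtain ⟨eC', hC'⟩ := exists_bcIso V (Localization.Away (ε i)) eC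
    let τ : N → M := fun n => if h : n ∈ S then t i ⟨n, h⟩ else 1
    have hτ : ∀ g ∈ (S : Set N), eA' (Bialgebra.TensorProduct.map
        (BialgHom.id (Localization.Away (ε i)) (Localization.Away (ε i))) φ
        (eC'.symm (single g 1))) = single (τ g) 1 := by
      intro g hg
      have hgS : g ∈ S := hg
      have e1 : eC'.symm (single g 1) = beta V (Localization.Away (ε i)) C (eC.symm (single g 1)) := by
        have := hC' (eC.symm (single g 1))
        rw [BialgEquiv.apply_symm_apply, MonoidAlgebra.mapRingHom_single, map_one] at this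
        rw [← this, BialgEquiv.symm_apply_apply]
      rw [e1, beta_naturality, hA']
      have e2 : eA (Vφ (eC.symm (single g 1))) = x ⟨g, hg⟩ := rfl
      rw [← hVφ, e2, hloc i ⟨g, hg⟩]
      change _ = single (if h : g ∈ S then t i ⟨g, h⟩ else 1) 1
      rw [dif_pos hgS]
    obtain ⟨f⟩ := nonempty_quotient_of_generators (Localization.Away (ε i)) eA' eC' φ J hJ
      (S : Set N) hS τ hτ
    exact ⟨M ⧸ Subgroup.closure (τ '' (S : Set N)), inferInstance, ⟨f.symm⟩⟩
  · rw [not_nontrivial_iff_subsingleton] at hV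
    refine ⟨PEmpty, inferInstance, fun i => i.elim, fun i => i.elim, fun i => i.elim,
      Subsingleton.elim _ _, fun i => i.elim⟩

end Pieces

end Groth.Agent.Lib.Helper7.QP
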