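import Mathlib
import Groth.Prelude.Def_SGA3b
import Groth.Agent.Lib.Helper7.QP4
import Groth.Agent.Lib.Helper7.FAM1

set_option autoImplicit false
universe u v
open TensorProduct SGA3b
open Groth.Agent.Lib.Helper7.NilLift Groth.Agent.Lib.Helper7.HH

namespace Groth.Agent.Lib.Helper7.QP

section TensorFamily

variable {R : Type u} [CommRing R] {ι ι' : Type u}
  (T : ι → Type u) [∀ i, CommRing (T i)] [∀ i, Algebra R (T i)]
  (U : ι' → Type u) [∀ j, CommRing (U j)] [∀ j, Algebra R (U j)]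

theorem jointlyFaithful_tensor (hT : JointlyFaithful R T) (hU : JointlyFaithful R U) :
    JointlyFaithful R (fun p : ι × ι' => T p.1 ⊗[R] U p.2) := by
  intro N _ _ hN
  apply hU N
  intro j
  apply hT (U j ⊗[R] N)
  intro i
  have := hN (i, j)
  exact (TensorProduct.assoc R (T i) (U j) N).symm.injective.subsingleton

end TensorFamily

section Main

variable {R : Type u} [CommRing R] {A : Type u} [CommRing A] [HopfAlgebra R A]
  {C : Type u} [CommRing C] [HopfAlgebra R C]

theorem kernel_isMultType (hA : IsMultType R A) (hC : IsMultType R C)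
    (hCft : Algebra.FiniteType R C) (φ : C →ₐc[R] A)
    (J : Ideal A) [J.IsHopfIdeal R] (hJ : J = Ideal.map φ (RingHom.ker (Bialgebra.counitAlgHom R C))) :
    IsMultType R (A ⧸ J) := by
  classical
  obtain ⟨ι, hι, cA, hjA⟩ := exists_dfamily hA
  obtain ⟨ι', hι', cC, hjC⟩ := exists_dfamily hC
  have hjf := jointlyFaithful_tensor (fun i => (cA i).T) (fun j => (cC j).T) hjA hjC
  have hp : ∀ p : ι × ι', ∃ (κ : Type u) (_ : Fintype κ) (ε : κ → (cA p.1).T ⊗[R] (cC p.2).T),
      (∀ i, IsIdempotentElem (ε i)) ∧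
      (∀ i j, i ≠ j → ε i * ε j = 0) ∧ ∑ i, ε i = 1 ∧
      ∀ i, ∃ (Q : Type u) (_ : CommGroup Q), Nonempty (Localization.Away (ε i) ⊗[R] (A ⧸ J) ≃ₐc[
        Localization.Away (ε i)] MonoidAlgebra (Localization.Away (ε i)) Q) := by
    intro p
    obtain ⟨eA⟩ := Groth.Agent.Lib.Helper7.Clopen.typed_of_algHom
      (Algebra.TensorProduct.includeLeft : (cA p.1).T →ₐ[R] (cA p.1).T ⊗[R] (cC p.2).T) (cA p.1).e
    obtain ⟨eC⟩ := Groth.Agent.Lib.Helper7.Clopen.typed_of_algHom
      (Algebra.TensorProduct.includeRight : (cC p.2).T →ₐ[R] (cA p.1).T ⊗[R] (cC p.2).T) (cC p.2).e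
    exact exists_pieces _ eA eC hCft φ J hJ
  choose κ hκ ε hidem horth hsum Q hQ e using hp
  exact @Groth.Agent.Lib.Helper7.Fam.isMultType_of_family_pieces R _ (A ⧸ J) _ _ (ι × ι') _
    (fun p => (cA p.1).T ⊗[R] (cC p.2).T) _ _ (fun p => inferInstance) hjf κ hκ ε hidem horth hsum
    Q hQ e

end Main

end Groth.Agent.Lib.Helper7.QP
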