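import Mathlib
import Groth.Prelude.Def_SGA3b
import Groth.Agent.Lib.Helper7.KR2
import Groth.Agent.Lib.Helper7.QP5

set_option autoImplicit false
universe u
open TensorProduct SGA3b
open Groth.Agent.Lib.Helper7.MonoClosed Groth.Agent.Lib.Helper7.QP

namespace Groth.Agent.Lib.Helper7.KerMT

section Part

variable {V : Type u} [CommRing V] {M : Type u}

theorem exists_partition_of_idempotents (P : Finset M) (e : M → V)
    (he : ∀ m, IsIdempotentElem (e m)) :
    ∃ (κ : Type u) (_ : Fintype κ) (ε : κ → V), (∀ i, IsIdempotentElem (ε i)) ∧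
      (∀ i j, i ≠ j → ε i * ε j = 0) ∧ ∑ i, ε i = 1 ∧
      ∀ i, ∀ m ∈ P, e m * ε i = ε i ∨ e m * ε i = 0 := by
  classical
  induction P using Finset.induction_on with
  | empty =>
    refine ⟨PUnit, inferInstance, fun _ => 1, fun _ => IsIdempotentElem.one, ?_, ?_, ?_⟩
    · intro i j hij
      exact absurd (Subsingleton.elim i j) hij
    · simp
    · intro i m hm
      simp at hm
  | insert m₀ P hm₀ ih =>
    obtain ⟨κ, hκ, ε, hidem, horth, hsum, hprop⟩ := ih
    let d : Bool → V := fun b => if b then e m₀ else 1 - e m₀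
    have hd : ∀ b, IsIdempotentElem (d b) := by
      intro b
      cases b
      · exact (he m₀).one_sub
      · exact he m₀
    have hdd : ∀ b b', b ≠ b' → d b * d b' = 0 := by
      intro b b' hbb
      cases b <;> cases b'
      · exact absurd rfl hbb
      · change (1 - e m₀) * e m₀ = 0
        rw [sub_mul, one_mul, (he m₀).eq, sub_self]
      · change e m₀ * (1 - e m₀) = 0
        rw [mul_sub, mul_one, (he m₀).eq, sub_self]
      · exact absurd rfl hbb
    have hds : d true + d false = 1 := by
      change e m₀ + (1 - e m₀) = 1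
      ring
    refine ⟨κ × Bool, inferInstance, fun p => ε p.1 * d p.2, ?_, ?_, ?_, ?_⟩
    · intro p
      unfold IsIdempotentElem
      have := (hidem p.1).eq
      have := (hd p.2).eq
      calc ε p.1 * d p.2 * (ε p.1 * d p.2) = (ε p.1 * ε p.1) * (d p.2 * d p.2) := by ring
        _ = ε p.1 * d p.2 := by rw [(hidem p.1).eq, (hd p.2).eq]
    · rintro ⟨i, b⟩ ⟨j, b'⟩ hne
      change ε i * d b * (ε j * d b') = 0
      by_cases hij : i = j
      · subst hij
        have hbb : b ≠ b' := fun h => hne (by rw [h])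
        calc ε i * d b * (ε i * d b') = (ε i * ε i) * (d b * d b') := by ring
          _ = 0 := by rw [hdd b b' hbb, mul_zero]
      · calc ε i * d b * (ε j * d b') = (ε i * ε j) * (d b * d b') := by ring
          _ = 0 := by rw [horth i j hij, zero_mul]
    · rw [Fintype.sum_prod_type]
      have : ∀ i, ∑ b, ε i * d b = ε i := by
        intro i
        rw [Fintype.sum_bool, ← mul_add, hds, mul_one]
      rw [Finset.sum_congr rfl (fun i _ => this i), hsum]
    · rintro ⟨i, b⟩ m hm
      change e m * (ε i * d b) = ε i * d b ∨ e m * (ε i * d b) = 0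
      rw [Finset.mem_insert] at hm
      rcases hm with rfl | hm
      · cases b
        · right
          change e m * (ε i * (1 - e m)) = 0
          calc e m * (ε i * (1 - e m)) = ε i * (e m - e m * e m) := by ring
            _ = 0 := by rw [(he m).eq, sub_self, mul_zero]
        · left
          change e m * (ε i * e m) = ε i * e m
          calc e m * (ε i * e m) = ε i * (e m * e m) := by ring
            _ = ε i * e m := by rw [(he m).eq]
      · rcases hprop i m hm with h | h
        · left
          rw [← mul_assoc, h]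
        · right
          rw [← mul_assoc, h, zero_mul]

end Part

section Pieces

open MonoidAlgebra Groth.Agent.Lib.Helper7.QuotDiag

variable {R : Type u} [CommRing R] {A : Type u} [CommRing A] [HopfAlgebra R A]
  {C : Type u} [CommRing C] [HopfAlgebra R C] {M : Type u} [CommGroup M]

/-- `mapRingHom y - ε(y)` lies in the ideal of `D(M/H)` if the coefficients outside `H` die. -/
lemma mapRingHom_sub_mem {V W : Type u} [CommRing V] [CommRing W] (g : V →+* W) (H : Subgroup M)
    (y : MonoidAlgebra V M) (hy : ∀ m, m ∉ H → g (y.coeff m) = 0) :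
    MonoidAlgebra.mapRingHom M g y -
      algebraMap W (MonoidAlgebra W M) (g (Coalgebra.counit (R := V) y)) ∈ subgroupIdeal W H := by
  classical
  have h1 : MonoidAlgebra.mapRingHom M g y =
      ∑ m ∈ y.coeff.support, MonoidAlgebra.single m (g (y.coeff m)) := by
    conv_lhs => rw [← MonoidAlgebra.sum_coeff_single y]
    unfold Finsupp.sum
    rw [map_sum]
    exact Finset.sum_congr rfl (fun m _ => MonoidAlgebra.mapRingHom_single _ _ _)
  rw [h1, counit_eq_sum, map_sum, map_sum, ← Finset.sum_sub_distrib]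
  apply Ideal.sum_mem
  intro m _
  by_cases hm : m ∈ H
  · have h2 : MonoidAlgebra.single m (g (y.coeff m)) -
        algebraMap W (MonoidAlgebra W M) (g (y.coeff m)) =
        algebraMap W (MonoidAlgebra W M) (g (y.coeff m)) * (MonoidAlgebra.single m 1 - 1) := by
      rw [mul_sub, mul_one, ← Algebra.smul_def, MonoidAlgebra.smul_single, smul_eq_mul, mul_one]
    rw [h2]
    exact Ideal.mul_mem_left _ _ (Ideal.subset_span ⟨m, hm, rfl⟩)
  · rw [hy m hm, MonoidAlgebra.single_zero, map_zero, sub_zero]
    exact Ideal.zero_mem _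

theorem exists_pieces_ker (V : Type u) [CommRing V] [Algebra R V]
    (eA : V ⊗[R] A ≃ₐc[V] MonoidAlgebra V M) (hCft : Algebra.FiniteType R C) (φ : C →ₐc[R] A)
    (J : Ideal A) [J.IsHopfIdeal R] (hJ : J = Ideal.map φ (RingHom.ker (Bialgebra.counitAlgHom R C))) :
    ∃ (κ : Type u) (_ : Fintype κ) (ε : κ → V), (∀ i, IsIdempotentElem (ε i)) ∧
      (∀ i j, i ≠ j → ε i * ε j = 0) ∧ ∑ i, ε i = 1 ∧
      ∀ i, ∃ (Q : Type u) (_ : CommGroup Q), Nonempty (Localization.Away (ε i) ⊗[R] (A ⧸ J) ≃ₐc[
        Localization.Away (ε i)] MonoidAlgebra (Localization.Away (ε i)) Q) := by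
  classical
  set Vφ : V ⊗[R] C →ₐc[V] V ⊗[R] A := Bialgebra.TensorProduct.map (BialgHom.id V V) φ with hVφ
  have hVφ_tmul : ∀ (v : V) (c : C), Vφ (v ⊗ₜ[R] c) = v ⊗ₜ[R] φ c := fun v c => rfl
  set ψ : V ⊗[R] C →ₐc[V] MonoidAlgebra V M := (eA : V ⊗[R] A →ₐc[V] _).comp Vφ with hψ
  have hψa : ∀ x, ψ x = eA (Vφ x) := fun _ => rfl
  have hft' : Algebra.FiniteType V (V ⊗[R] C) := inferInstance
  obtain ⟨P, e, he1, he2, hvan⟩ := exists_idem ψ hft'
  obtain ⟨κ, hκ, ε, hidem, horth, hsum, hprop⟩ := exists_partition_of_idempotents P e he1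
  refine ⟨κ, hκ, ε, hidem, horth, hsum, fun i => ?_⟩
  have h0 : algebraMap V (Localization.Away (ε i)) (ε i) = 1 :=
    Groth.Agent.Lib.Helper7.ZGlue.algebraMap_self ε hidem i
  set g : V →+* Localization.Away (ε i) := algebraMap V (Localization.Away (ε i)) with hg
  let Z : Set M := {m | m ∈ P ∧ e m * ε i = ε i}
  set H : Subgroup M := Subgroup.closure Z with hH
  have hZ1 : ∀ m ∈ Z, g (e m) = 1 := by
    intro m hm
    have := congrArg g hm.2
    rw [map_mul, h0, mul_one] at this
    exact this
  have hZ0 : ∀ m ∈ P, g (e m) = 0 ∨ m ∈ H := by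
    intro m hm
    rcases hprop i m hm with h | h
    · right
      exact Subgroup.subset_closure ⟨hm, h⟩
    · left
      have := congrArg g h
      rw [map_mul, h0, mul_one, map_zero] at this
      exact this
  obtain ⟨eA', hA'⟩ := exists_bcIso V (Localization.Away (ε i)) eA
  have hbeta1 : ∀ a : A, beta V (Localization.Away (ε i)) A ((1 : V) ⊗ₜ[R] a) =
      (1 : Localization.Away (ε i)) ⊗ₜ[R] a := by
    intro a
    rw [beta_tmul, map_one]
  -- claim B
  have hB : ∀ x : V ⊗[R] C, Coalgebra.counit (R := V) x = 0 →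
      MonoidAlgebra.mapRingHom M g (ψ x) ∈ subgroupIdeal (Localization.Away (ε i)) H := by
    intro x hx
    have h1 := mapRingHom_sub_mem g H (ψ x) (fun m hm =>
      hvan (Localization.Away (ε i)) g H hZ0 m hm _ (coeff_mem_coefIdeal ψ x m))
    rw [CoalgHomClass.counit_comp_apply, hx, map_zero, map_zero, sub_zero] at h1
    exact h1
  -- claim C
  set 𝔍V := J.map (Algebra.TensorProduct.includeRight : A →ₐ[R] V ⊗[R] A) with h𝔍V
  set 𝔍W := J.map (Algebra.TensorProduct.includeRight : A →ₐ[R] Localization.Away (ε i) ⊗[R] A)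
    with h𝔍W
  have hC : ∀ x : V ⊗[R] C, Coalgebra.counit (R := V) x = 0 → Vφ x ∈ 𝔍V := by
    intro x hx
    have h4 := sub_counit_mem (R := R) V x
    rw [hx, map_zero, sub_zero] at h4
    have hle2 : (RingHom.ker (Bialgebra.counitAlgHom R C)).map
        (Algebra.TensorProduct.includeRight : C →ₐ[R] V ⊗[R] C) ≤
        Ideal.comap (Vφ : V ⊗[R] C →ₐ[V] V ⊗[R] A) 𝔍V := by
      rw [Ideal.map_le_iff_le_comap]
      intro c hc
      rw [Ideal.mem_comap, Ideal.mem_comap]
      change Vφ ((1 : V) ⊗ₜ[R] c) ∈ 𝔍V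
      rw [hVφ_tmul, h𝔍V, hJ]
      exact Ideal.mem_map_of_mem _ (Ideal.mem_map_of_mem _ hc)
    exact hle2 h4
  -- claim D
  have hD : ∀ z ∈ 𝔍V, beta V (Localization.Away (ε i)) A z ∈ 𝔍W := by
    have hle : 𝔍V ≤ Ideal.comap (beta V (Localization.Away (ε i)) A) 𝔍W := by
      rw [h𝔍V, Ideal.map_le_iff_le_comap]
      intro a ha
      rw [Ideal.mem_comap, Ideal.mem_comap]
      change beta V (Localization.Away (ε i)) A ((1 : V) ⊗ₜ[R] a) ∈ 𝔍W
      rw [hbeta1]
      exact Ideal.mem_map_of_mem _ ha
    intro z hz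
    exact hle hz
  have key : Nonempty (MonoidAlgebra (Localization.Away (ε i)) (M ⧸ H) ≃ₐc[Localization.Away (ε i)]
      Localization.Away (ε i) ⊗[R] (A ⧸ J)) := by
    apply nonempty_bialgEquiv_quotient_of_ideal (Localization.Away (ε i)) eA' J H
    · -- hJ'
      have h2 : J ≤ Ideal.comap (((eA : V ⊗[R] A →ₐ[V] MonoidAlgebra V M) : V ⊗[R] A →+* _).comp
          ((Algebra.TensorProduct.includeRight : A →ₐ[R] V ⊗[R] A) : A →+* V ⊗[R] A))
          (Ideal.comap (MonoidAlgebra.mapRingHom M g)
            (subgroupIdeal (Localization.Away (ε i)) H)) := by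
        rw [hJ, Ideal.map_le_iff_le_comap]
        intro c hc
        rw [Ideal.mem_comap, Ideal.mem_comap, Ideal.mem_comap]
        change MonoidAlgebra.mapRingHom M g (eA ((1 : V) ⊗ₜ[R] φ c)) ∈ _
        have hc0 : Coalgebra.counit (R := R) c = 0 := hc
        have h3 := hB ((1 : V) ⊗ₜ[R] c) (by
          rw [TensorProduct.counit_tmul, hc0, zero_smul])
        rw [hψa, hVφ_tmul] at h3
        exact h3
      intro a ha
      have h3 := h2 ha
      rw [Ideal.mem_comap, Ideal.mem_comap] at h3
      change MonoidAlgebra.mapRingHom M g (eA ((1 : V) ⊗ₜ[R] a)) ∈ _ at h3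
      rw [← hbeta1, hA']
      exact h3
    · -- hH'
      let gA : M →* Localization.Away (ε i) ⊗[R] A :=
        ((eA'.symm : MonoidAlgebra (Localization.Away (ε i)) M →ₐ[Localization.Away (ε i)]
          Localization.Away (ε i) ⊗[R] A) : MonoidAlgebra (Localization.Away (ε i)) M →* _).comp
          (MonoidAlgebra.of (Localization.Away (ε i)) M)
      have hgA : ∀ m, gA m = eA'.symm (single m 1) := fun m => rfl
      have hle : H ≤ idealSubgroup gA 𝔍W := by
        rw [hH, Subgroup.closure_le]
        intro m hm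
        change gA m - 1 ∈ 𝔍W
        rw [hgA]
        have h1 : e m ∈ coefIdeal ψ m := by
          rw [he2 m]
          exact Ideal.mem_span_singleton_self _
        obtain ⟨x, hx⟩ := h1
        have hcx : Coalgebra.counit (R := V) x = e m := by
          have := CoalgHomClass.counit_comp_apply ψ x
          rw [hx, MonoidAlgebra.counit_single, CommSemiring.counit_apply] at this
          exact this.symm
        obtain ⟨x', hx'⟩ : ∃ x' : V ⊗[R] C, x' = x - algebraMap V (V ⊗[R] C) (e m) := ⟨_, rfl⟩
        have hcx' : Coalgebra.counit (R := V) x' = 0 := by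
          rw [hx', map_sub, hcx]
          have : Coalgebra.counit (R := V) (algebraMap V (V ⊗[R] C) (e m)) = e m := by
            rw [Algebra.algebraMap_eq_smul_one, map_smul, Bialgebra.counit_one, smul_eq_mul, mul_one]
          rw [this, sub_self]
        have h2 := hD _ (hC x' hcx')
        have hψx' : ψ x' = single m (e m) - algebraMap V (MonoidAlgebra V M) (e m) := by
          rw [hx', map_sub, hx, AlgHomClass.commutes]
        have h3 := hA' (Vφ x')
        rw [← hψa, hψx', map_sub, MonoidAlgebra.mapRingHom_single] at h3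
        have h4 : MonoidAlgebra.mapRingHom M g (algebraMap V (MonoidAlgebra V M) (e m)) = 1 := by
          rw [Algebra.algebraMap_eq_smul_one, MonoidAlgebra.one_def, MonoidAlgebra.smul_single,
            smul_eq_mul, mul_one, MonoidAlgebra.mapRingHom_single, hZ1 m hm]
          rfl
        rw [← hg, h4, hZ1 m hm] at h3
        have h5 : beta V (Localization.Away (ε i)) A (Vφ x') = eA'.symm (single m 1 - 1) := by
          rw [← h3, BialgEquiv.symm_apply_apply]
        rw [h5, map_sub, map_one] at h2
        exact h2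
      intro h hh
      exact hle hh
  obtain ⟨f⟩ := key
  exact ⟨M ⧸ H, inferInstance, ⟨f.symm⟩⟩

end Pieces

end Groth.Agent.Lib.Helper7.KerMT

namespace Groth.Agent.Lib.Helper7.KerMT

open Groth.Agent.Lib.Helper7.NilLift Groth.Agent.Lib.Helper7.HH

section Main

variable {R : Type u} [CommRing R] {A : Type u} [CommRing A] [HopfAlgebra R A]
  {C : Type u} [CommRing C] [HopfAlgebra R C]

/-- the kernel of a homomorphism from a group of multiplicative type to an affine group of finite
type is of multiplicative type. -/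
theorem kernel_isMultType (hA : IsMultType R A) (hCft : Algebra.FiniteType R C) (φ : C →ₐc[R] A)
    (J : Ideal A) [J.IsHopfIdeal R] (hJ : J = Ideal.map φ (RingHom.ker (Bialgebra.counitAlgHom R C))) :
    IsMultType R (A ⧸ J) := by
  classical
  obtain ⟨ι, hι, cA, hjA⟩ := exists_dfamily hA
  have hp : ∀ p : ι, ∃ (κ : Type u) (_ : Fintype κ) (ε : κ → (cA p).T),
      (∀ i, IsIdempotentElem (ε i)) ∧
      (∀ i j, i ≠ j → ε i * ε j = 0) ∧ ∑ i, ε i = 1 ∧
      ∀ i, ∃ (Q : Type u) (_ : CommGroup Q), Nonempty (Localization.Away (ε i) ⊗[R] (A ⧸ J) ≃ₐc[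
        Localization.Away (ε i)] MonoidAlgebra (Localization.Away (ε i)) Q) :=
    fun p => exists_pieces_ker _ (cA p).e hCft φ J hJ
  choose κ hκ ε hidem horth hsum Q hQ e using hp
  exact @Groth.Agent.Lib.Helper7.Fam.isMultType_of_family_pieces R _ (A ⧸ J) _ _ ι _
    (fun p => (cA p).T) _ _ (fun p => inferInstance) hjA κ hκ ε hidem horth hsum Q hQ e

end Main

end Groth.Agent.Lib.Helper7.KerMT
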