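import Groth.Agent.Lib.Helper7.ComodUnipReg
import Groth.Agent.Lib.Helper7.ComodLattice
import Groth.Agent.Lib.Helper7.HopfSubGen

/-!
# Kostant–Rosenlicht, Hopf algebra core (helper7)

For a unipotent commutative Hopf algebra `A` over a field, a subspace `W₀ ⊆ A` such that some
nonzero `c` has `Δ c ∈ A ⊗ W₀` contains a nonzero constant.
-/

set_option autoImplicit false

universe u v w

open TensorProduct

namespace Groth.Agent.Lib.Helper7.KoRo

open HopfRep Groth.Agent.Lib.Helper7.Comod

section Fin

variable {k : Type u} {C : Type v} [Field k] [AddCommGroup C] [Module k C] [Coalgebra k C]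
variable {V : Type w} [AddCommGroup V] [Module k V] [Comod k C V]

/-- Local finiteness, refined: if `μ v ∈ W₁ ⊗ C` then `v` lies in a finite-dimensional subcomodule
contained in `W₁`. -/
theorem exists_finite_subcomod_mem_le (v : V) (W₁ : Submodule k V)
    (hv : μ k C V v ∈ LinearMap.range (W₁.subtype.rTensor C)) :
    ∃ W : Submodule k V, Module.Finite k W ∧ v ∈ W ∧ IsSubcomod (k := k) (A := C) W ∧ W ≤ W₁ := by
  classical
  let b := Module.Basis.ofVectorSpace k C
  obtain ⟨c, hc⟩ := TensorProduct.eq_repr_basis_right b (μ k C V v)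
  have hcoord : ∀ l, coordR b l (μ k C V v) = c l := by
    intro l
    rw [← hc, Finsupp.sum, map_sum]
    simp only [coordR_tmul, Module.Basis.repr_self]
    rw [Finset.sum_eq_single l]
    · simp
    · intro i _ hil
      rw [Finsupp.single_eq_of_ne hil.symm, zero_smul]
    · intro hl
      rw [Finsupp.notMem_support_iff.1 hl]
      simp
  refine ⟨Submodule.span k (Set.range c), ?_, ?_, ?_, ?_⟩
  · have : (Set.range c).Finite := by
      refine Set.Finite.subset (s := insert 0 (c '' (c.support : Set _))) ?_ ?_
      · exact (c.support.finite_toSet.image c).insert 0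
      · rintro _ ⟨i, rfl⟩
        by_cases hi : c i = 0
        · exact Or.inl hi
        · exact Or.inr ⟨i, Finsupp.mem_support_iff.2 hi, rfl⟩
    exact Module.Finite.span_of_finite k this
  · have h1 : (TensorProduct.rid k V) (LinearMap.lTensor V (CoalgebraStruct.counit (R := k) (A := C))
        (μ k C V v)) = v := by
      have := LinearMap.congr_fun (Comod.counit_comp (k := k) (A := C) (V := V)) v
      simp only [LinearMap.comp_apply] at this
      rw [this]
      simp
    rw [← h1, ← hc, Finsupp.sum, map_sum, map_sum]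
    refine Submodule.sum_mem _ fun i _ => ?_
    simp only [LinearMap.lTensor_tmul, TensorProduct.rid_tmul]
    exact Submodule.smul_mem _ _ (Submodule.subset_span ⟨i, rfl⟩)
  · apply isSubcomod_span
    rintro _ ⟨l, rfl⟩
    have hco := LinearMap.congr_fun (Comod.coassoc (k := k) (A := C) (V := V)) v
    simp only [LinearMap.comp_apply, LinearEquiv.coe_coe] at hco
    have h2 := congrArg (contractLast V (b.coord l)) hco
    have hL : contractLast V (b.coord l)
        ((TensorProduct.assoc k V C C) ((μ k C V).rTensor C (μ k C V v))) = μ k C V (c l) := by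
      rw [← hc, Finsupp.sum, map_sum, map_sum, map_sum]
      simp only [LinearMap.rTensor_tmul, contractLast_assoc_tmul, Module.Basis.coord_apply,
        Module.Basis.repr_self]
      rw [Finset.sum_eq_single l]
      · simp
      · intro i _ hil
        rw [Finsupp.single_eq_of_ne hil.symm, zero_smul]
      · intro hl
        rw [Finsupp.notMem_support_iff.1 hl]
        simp
    rw [hL] at h2
    rw [h2, ← hc, Finsupp.sum, map_sum, map_sum]
    refine Submodule.sum_mem _ fun i _ => ?_
    simp only [LinearMap.lTensor_tmul]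
    exact contractLast_tmul_mem (W := Submodule.span k (Set.range c)) _
      (Submodule.subset_span ⟨i, rfl⟩) _
  · rw [Submodule.span_le]
    rintro _ ⟨l, rfl⟩
    rw [SetLike.mem_coe, ← hcoord l]
    exact (mem_range_rTensor_iff b W₁ _).1 hv l

end Fin

section Hopf

variable {k : Type u} [Field k] {A : Type u} [CommRing A] [HopfAlgebra k A]

/-- a nonzero element `c'` with `Δ c' ∈ W₁ ⊗ A` forces a nonzero constant in `W₁`. -/
theorem exists_const_mem_of_right (hU : IsUnipotent k A) (W₁ : Submodule k A) (c' : A) (hc : c' ≠ 0)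
    (hΔ : Coalgebra.comul (R := k) c' ∈ LinearMap.range (W₁.subtype.rTensor A)) :
    ∃ v : A, v ≠ 0 ∧ v ∈ W₁ ∧ v = Coalgebra.counit (R := k) v • (1 : A) := by
  obtain ⟨U, hfin, hcU, hsub, hle⟩ :=
    exists_finite_subcomod_mem_le (k := k) (C := A) (V := A) c' W₁ hΔ
  letI cU : Comod k A U := ComodSub.Comod.restr (Comod.regular k A) U hsub
  haveI : Nontrivial U := ⟨⟨⟨c', hcU⟩, 0, fun h => hc (congrArg Subtype.val h)⟩⟩
  have hfix := hU U hfin inferInstance
  obtain ⟨v, hv, hv0⟩ := Submodule.exists_mem_ne_zero_of_ne_bot hfix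
  have hhom := ComodSub.isComodHom_subtype (Comod.regular k A) U hsub
  have h1 : Coalgebra.comul (R := k) (v : A) = (v : A) ⊗ₜ[k] (1 : A) := by
    have h2 := isComodHom_apply hhom v
    have hv' : Comod.coact (k := k) (A := A) v = v ⊗ₜ[k] (1 : A) := hv
    rw [hv'] at h2
    simp only [LinearMap.rTensor_tmul, Submodule.subtype_apply] at h2
    exact h2
  refine ⟨v, fun h => hv0 (Subtype.ext h), hle v.2, ?_⟩
  have h3 := congrArg (fun t => (TensorProduct.lid k A) ((Coalgebra.counit (R := k)).rTensor A t)) h1
  simp only [LinearMap.rTensor_tmul, TensorProduct.lid_tmul] at h3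
  rw [← h3]
  have := LinearMap.congr_fun (Coalgebra.rTensor_counit_comp_comul (R := k) (A := A)) (v : A)
  simp only [LinearMap.comp_apply] at this
  rw [this]
  simp

lemma map_comm_mem (S : A →ₗ[k] A) (W₀ : Submodule k A) (z : A ⊗[k] A)
    (hz : z ∈ LinearMap.range (W₀.subtype.lTensor A)) :
    TensorProduct.map S S (TensorProduct.comm k A A z) ∈
      LinearMap.range ((W₀.map S).subtype.rTensor A) := by
  obtain ⟨y, rfl⟩ := hz
  induction y using TensorProduct.induction_on with
  | zero => simp
  | tmul a w =>
    simp only [LinearMap.lTensor_tmul, Submodule.subtype_apply, TensorProduct.comm_tmul,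
      TensorProduct.map_tmul]
    exact tmul_mem_range_rTensor (Submodule.mem_map_of_mem w.2) _
  | add y z hy hz =>
    simp only [map_add]
    exact Submodule.add_mem _ hy hz

/-- **Hopf core of Kostant–Rosenlicht**: a subspace `W₀` of a unipotent Hopf algebra such that some
nonzero `c` has `Δ c ∈ A ⊗ W₀` contains a nonzero constant. -/
theorem exists_const_mem (hU : IsUnipotent k A) (W₀ : Submodule k A) (c : A) (hc : c ≠ 0)
    (hΔ : Coalgebra.comul (R := k) c ∈ LinearMap.range (W₀.subtype.lTensor A)) :
    ∃ c₀ : k, c₀ ≠ 0 ∧ algebraMap k A c₀ ∈ W₀ := by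
  have hc' : HopfAlgebra.antipode k c ≠ 0 := by
    intro h
    apply hc
    rw [← HopfSubGen.antipode_antipode (k := k) c, h, map_zero]
  have hΔ' : Coalgebra.comul (R := k) (HopfAlgebra.antipode k c) ∈
      LinearMap.range ((W₀.map (HopfAlgebra.antipode k)).subtype.rTensor A) := by
    rw [HopfConv.comul_antipode]
    exact map_comm_mem _ W₀ _ hΔ
  obtain ⟨v, hv0, hvW, hv⟩ := exists_const_mem_of_right hU _ _ hc' hΔ'
  obtain ⟨w, hw, rfl⟩ := hvW
  have hw' : w = Coalgebra.counit (R := k) (HopfAlgebra.antipode k w) • (1 : A) := by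
    have h1 := congrArg (HopfAlgebra.antipode k) hv
    rw [HopfSubGen.antipode_antipode, map_smul, HopfAlgebra.antipode_one] at h1
    exact h1
  refine ⟨Coalgebra.counit (R := k) (HopfAlgebra.antipode k w), ?_, ?_⟩
  · intro h0
    apply hv0
    rw [hv, h0, zero_smul]
  · rw [Algebra.algebraMap_eq_smul_one, ← hw']
    exact hw

end Hopf

end Groth.Agent.Lib.Helper7.KoRo
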