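import Mathlib

/-!
# Künneth in finite sum form (helper7)
-/

set_option autoImplicit false

universe u

open TensorProduct CategoryTheory CategoryTheory.Limits

namespace Groth.Agent.Lib.Helper7.KoRo

section

variable {K A' R R' P P' : Type u} [Field K] [CommRing A'] [CommRing R] [CommRing R'] [CommRing P]
  [CommRing P'] [Algebra K A'] [Algebra K R] [Algebra K R']

/-- Let `P = A' ⊗_K R` and `P' = A' ⊗_K R'` (as pushouts), `π : R → R'` and `ρ : P → P'` the induced
map.  An element of `P` killed by `ρ` is a finite sum of products `u a * v r` with `π r = 0`. -/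
theorem mem_closure_of_pushout (π : R →ₐ[K] R') (u : A' →+* P) (v : R →+* P) (u' : A' →+* P')
    (v' : R' →+* P')
    (H : IsPushout (CommRingCat.ofHom (algebraMap K A')) (CommRingCat.ofHom (algebraMap K R))
      (CommRingCat.ofHom u) (CommRingCat.ofHom v))
    (H' : IsPushout (CommRingCat.ofHom (algebraMap K A')) (CommRingCat.ofHom (algebraMap K R'))
      (CommRingCat.ofHom u') (CommRingCat.ofHom v'))
    (ρ : P →+* P') (hu : ∀ a, ρ (u a) = u' a) (hv : ∀ r, ρ (v r) = v' (π r)) (F : P) (hF : ρ F = 0) :
    F ∈ AddSubmonoid.closure {p : P | ∃ (a : A') (r : R), π r = 0 ∧ p = u a * v r} := by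
  let e : A' ⊗[K] R ≃+* P :=
    ((CommRingCat.isPushout_tensorProduct K A' R).isoIsPushout _ _ H).commRingCatIsoToRingEquiv
  let e' : A' ⊗[K] R' ≃+* P' :=
    ((CommRingCat.isPushout_tensorProduct K A' R').isoIsPushout _ _ H').commRingCatIsoToRingEquiv
  have he : ∀ (a : A') (r : R), e (a ⊗ₜ[K] r) = u a * v r := by
    intro a r
    have h1 := congrArg (fun f => f.hom a)
      ((CommRingCat.isPushout_tensorProduct K A' R).inl_isoIsPushout_hom _ _ H)
    have h2 := congrArg (fun f => f.hom r)
      ((CommRingCat.isPushout_tensorProduct K A' R).inr_isoIsPushout_hom _ _ H)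
    simp only [CommRingCat.hom_comp, CommRingCat.hom_ofHom, RingHom.comp_apply] at h1 h2
    have h3 : a ⊗ₜ[K] r = (a ⊗ₜ[K] (1 : R)) * ((1 : A') ⊗ₜ[K] r) := by
      rw [Algebra.TensorProduct.tmul_mul_tmul, mul_one, one_mul]
    rw [h3, map_mul]
    exact congrArg₂ (· * ·) h1 h2
  have he' : ∀ (a : A') (r : R'), e' (a ⊗ₜ[K] r) = u' a * v' r := by
    intro a r
    have h1 := congrArg (fun f => f.hom a)
      ((CommRingCat.isPushout_tensorProduct K A' R').inl_isoIsPushout_hom _ _ H')
    have h2 := congrArg (fun f => f.hom r)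
      ((CommRingCat.isPushout_tensorProduct K A' R').inr_isoIsPushout_hom _ _ H')
    simp only [CommRingCat.hom_comp, CommRingCat.hom_ofHom, RingHom.comp_apply] at h1 h2
    have h3 : a ⊗ₜ[K] r = (a ⊗ₜ[K] (1 : R')) * ((1 : A') ⊗ₜ[K] r) := by
      rw [Algebra.TensorProduct.tmul_mul_tmul, mul_one, one_mul]
    rw [h3, map_mul]
    exact congrArg₂ (· * ·) h1 h2
  have hcomp : ∀ t : A' ⊗[K] R, e' (π.toLinearMap.lTensor A' t) = ρ (e t) := by
    intro t
    induction t using TensorProduct.induction_on with
    | zero => simp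
    | tmul a r =>
      rw [LinearMap.lTensor_tmul, he', he, map_mul, hu, hv]
      rfl
    | add x y hx hy => rw [map_add, map_add, map_add, map_add, hx, hy]
  have hall : ∀ s : A' ⊗[K] (LinearMap.ker π.toLinearMap),
      e ((LinearMap.ker π.toLinearMap).subtype.lTensor A' s) ∈
        AddSubmonoid.closure {p : P | ∃ (a : A') (r : R), π r = 0 ∧ p = u a * v r} := by
    intro s
    induction s using TensorProduct.induction_on with
    | zero => simp
    | tmul a r =>
      rw [LinearMap.lTensor_tmul, he]
      exact AddSubmonoid.subset_closure ⟨a, r.1, r.2, rfl⟩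
    | add x y hx hy =>
      rw [map_add, map_add]
      exact AddSubmonoid.add_mem _ hx hy
  obtain ⟨t, rfl⟩ := e.surjective F
  have ht : π.toLinearMap.lTensor A' t = 0 := by
    apply e'.injective
    rw [hcomp, hF, map_zero]
  have hex : Function.Exact ((LinearMap.ker π.toLinearMap).subtype.lTensor A')
      (π.toLinearMap.lTensor A') :=
    Module.Flat.lTensor_exact A' (LinearMap.exact_subtype_ker_map π.toLinearMap)
  obtain ⟨s, rfl⟩ := (hex t).1 ht
  exact hall s

end

end Groth.Agent.Lib.Helper7.KoRo
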