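import Groth.Agent.Lib.Helper7.QAG4
import Groth.Agent.Lib.Helper7.KoRo2

/-!
# Kostant–Rosenlicht: Künneth over a field for objects of `Over (Spec k)` (helper7)
-/

set_option autoImplicit false

universe u

open CategoryTheory Limits AlgebraicGeometry MonoidalCategory CartesianMonoidalCategory MonObj

namespace Groth.Agent.Lib.Helper7.KoRo

open Groth.Agent.Lib.Helper7.QAG

variable {k : Type u} [Field k]

/-- the structure map `k → Γ(Z)`. -/
noncomputable def strk (Z : Over (Spec (CommRingCat.of k))) :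
    CommRingCat.of k ⟶ Γ(Z.left, ⊤) :=
  (Scheme.ΓSpecIso (CommRingCat.of k)).inv ≫ Z.hom.appTop

lemma strk_comp {Z Z' : Over (Spec (CommRingCat.of k))} (f : Z ⟶ Z') :
    strk Z' ≫ f.left.appTop = strk Z := by
  rw [strk, strk, Category.assoc, ← Scheme.Hom.comp_appTop, Over.w]

lemma flat_of_field {S : CommRingCat.{u}} (φ : CommRingCat.of k ⟶ S) : φ.hom.Flat := by
  algebraize [φ.hom]
  show Module.Flat k S
  infer_instance

lemma flat_hom_appTop (Z : Over (Spec (CommRingCat.of k))) : Z.hom.appTop.hom.Flat := by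
  have h1 : Z.hom.appTop = (Scheme.ΓSpecIso (CommRingCat.of k)).hom ≫ strk Z := by
    rw [strk, Iso.hom_inv_id_assoc]
  rw [h1, CommRingCat.hom_comp]
  exact RingHom.Flat.comp
    (RingHom.Flat.of_bijective (ConcreteCategory.bijective_of_isIso _)) (flat_of_field _)

/-- Künneth over the field `k`, with `k` itself as the base ring. -/
theorem isPushout_strk (G Z : Over (Spec (CommRingCat.of k)))
    [CompactSpace ↥G.left] [QuasiSeparatedSpace ↥G.left]
    [CompactSpace ↥Z.left] [QuasiSeparatedSpace ↥Z.left] :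
    IsPushout (strk G) (strk Z) (fst G Z).left.appTop (snd G Z).left.appTop := by
  have h := isPushout_appTop_of_flat (inferInstance : Flat G.hom) (flat_hom_appTop Z)
    (isPullback_W G Z)
  refine h.of_iso (Scheme.ΓSpecIso (CommRingCat.of k)) (Iso.refl _) (Iso.refl _) (Iso.refl _)
    ?_ ?_ ?_ ?_
  · simp [strk]
  · simp [strk]
  · simp
  · simp

/-- bundled form of `mem_closure_of_pushout`. -/
theorem mem_closure_of_pushout' {A' R R' P P' : CommRingCat.{u}} (f : CommRingCat.of k ⟶ A')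
    (g : CommRingCat.of k ⟶ R) (π : R ⟶ R') (u : A' ⟶ P) (v : R ⟶ P) (u' : A' ⟶ P') (v' : R' ⟶ P')
    (H : IsPushout f g u v) (H' : IsPushout f (g ≫ π) u' v') (ρ : P ⟶ P') (hu : u ≫ ρ = u')
    (hv : v ≫ ρ = π ≫ v') (F : P) (hF : ρ F = 0) :
    F ∈ AddSubmonoid.closure {p : P | ∃ (a : A') (r : R), π r = 0 ∧ p = u a * v r} := by
  letI : Algebra k A' := f.hom.toAlgebra
  letI : Algebra k R := g.hom.toAlgebra
  letI : Algebra k R' := (g ≫ π).hom.toAlgebra
  let π' : R →ₐ[k] R' := { π.hom with commutes' := fun _ => rfl }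
  exact mem_closure_of_pushout (K := k) π' u.hom v.hom u'.hom v'.hom H H' ρ.hom
    (fun a => congrArg (fun φ => φ.hom a) hu) (fun r => congrArg (fun φ => φ.hom r) hv) F hF

/-- **Künneth, finite sum form for actions**: a section on `G × X` vanishing on `G × Y'` is a sum of
products `a ⊗ r` with `r` vanishing on `Y'`. -/
theorem mem_closure_whisker (G X Y' : Over (Spec (CommRingCat.of k)))
    [CompactSpace ↥G.left] [QuasiSeparatedSpace ↥G.left]
    [CompactSpace ↥X.left] [QuasiSeparatedSpace ↥X.left]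
    [CompactSpace ↥Y'.left] [QuasiSeparatedSpace ↥Y'.left] (j : Y' ⟶ X)
    (F : Γ((G ⊗ X).left, ⊤)) (hF : (G ◁ j).left.appTop F = 0) :
    F ∈ AddSubmonoid.closure {p : Γ((G ⊗ X).left, ⊤) | ∃ (a : Γ(G.left, ⊤)) (r : Γ(X.left, ⊤)),
      j.left.appTop r = 0 ∧ p = (fst G X).left.appTop a * (snd G X).left.appTop r} := by
  refine mem_closure_of_pushout' (strk G) (strk X) j.left.appTop _ _ (fst G Y').left.appTop
    (snd G Y').left.appTop (isPushout_strk G X) ?_ (G ◁ j).left.appTop ?_ ?_ F hF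
  · rw [strk_comp]
    exact isPushout_strk G Y'
  · rw [appTop_comp_left, whiskerLeft_fst]
  · rw [appTop_comp_left, whiskerLeft_snd, ← appTop_comp_left]

end Groth.Agent.Lib.Helper7.KoRo
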