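import Groth.Agent.Lib.Helper7.KoRo3

/-!
# Kostant–Rosenlicht: the dictionary for `G = Spec A` (helper7)
-/

set_option autoImplicit false

universe u

open CategoryTheory Limits AlgebraicGeometry MonoidalCategory CartesianMonoidalCategory MonObj
open TensorProduct

namespace Groth.Agent.Lib.Helper7.KoRo

variable {k : Type u} [Field k] (A : Type u) [CommRing A] [HopfAlgebra k A]

/-- the group scheme `Spec A`. -/
noncomputable abbrev GA : Over (Spec (CommRingCat.of k)) :=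
  (Spec (CommRingCat.of A)).asOver (Spec (CommRingCat.of k))

/-- `Γ(Spec A) ≅ A`. -/
noncomputable def gam : Γ((GA (k := k) A).left, ⊤) ⟶ CommRingCat.of A :=
  (Scheme.ΓSpecIso (CommRingCat.of A)).hom

instance : IsIso (gam (k := k) A) := by unfold gam; infer_instance

/-- `Spec (A ⊗ A) → G × G`. -/
noncomputable def pinv : Spec (CommRingCat.of (A ⊗[k] A)) ⟶ (GA (k := k) A ⊗ GA (k := k) A).left :=
  (pullbackSpecIso k A A).inv

lemma pinv_fst : pinv (k := k) A ≫ (fst (GA (k := k) A) (GA (k := k) A)).left =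
    Spec.map (CommRingCat.ofHom (Algebra.TensorProduct.includeLeftRingHom : A →+* A ⊗[k] A)) :=
  pullbackSpecIso_inv_fst k A A

lemma pinv_snd : pinv (k := k) A ≫ (snd (GA (k := k) A) (GA (k := k) A)).left =
    Spec.map (CommRingCat.ofHom
      ((Algebra.TensorProduct.includeRight : A →ₐ[k] A ⊗[k] A) : A →+* A ⊗[k] A)) :=
  pullbackSpecIso_inv_snd k A A

lemma pinv_mul : pinv (k := k) A ≫ μ[GA (k := k) A].left =
    Spec.map (CommRingCat.ofHom
      ((Bialgebra.comulAlgHom k A : A →ₐ[k] A ⊗[k] A) : A →+* A ⊗[k] A)) := by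
  have h : μ[GA (k := k) A].left = (pullbackSpecIso k A A).hom ≫
      Spec.map (CommRingCat.ofHom (Bialgebra.comulAlgHom k A)) := mul_spec_asOver_spec_left
  rw [h]
  exact Iso.inv_hom_id_assoc _ _

/-- `Γ(Spec A × Spec A) → A ⊗ A`. -/
noncomputable def tht : Γ((GA (k := k) A ⊗ GA (k := k) A).left, ⊤) ⟶ CommRingCat.of (A ⊗[k] A) :=
  (pinv (k := k) A).appTop ≫ (Scheme.ΓSpecIso (CommRingCat.of (A ⊗[k] A))).hom

lemma specMap_appTop_ΓSpecIso {R S : CommRingCat.{u}} (φ : R ⟶ S) :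
    (Spec.map φ).appTop ≫ (Scheme.ΓSpecIso S).hom = (Scheme.ΓSpecIso R).hom ≫ φ :=
  Scheme.ΓSpecIso_naturality φ

lemma strk_gam : strk (GA (k := k) A) ≫ gam A = CommRingCat.ofHom (algebraMap k A) := by
  rw [strk, gam, Category.assoc]
  show (Scheme.ΓSpecIso (CommRingCat.of k)).inv ≫
    (Spec.map (CommRingCat.ofHom (algebraMap k A))).appTop ≫
      (Scheme.ΓSpecIso (CommRingCat.of A)).hom = _
  rw [specMap_appTop_ΓSpecIso, Iso.inv_hom_id_assoc]

lemma fst_tht : (fst (GA (k := k) A) (GA (k := k) A)).left.appTop ≫ tht A =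
    gam A ≫ CommRingCat.ofHom (Algebra.TensorProduct.includeLeftRingHom : A →+* A ⊗[k] A) := by
  rw [tht, ← Category.assoc, ← Scheme.Hom.comp_appTop, pinv_fst]
  exact specMap_appTop_ΓSpecIso _

lemma snd_tht : (snd (GA (k := k) A) (GA (k := k) A)).left.appTop ≫ tht A =
    gam A ≫ CommRingCat.ofHom
      ((Algebra.TensorProduct.includeRight : A →ₐ[k] A ⊗[k] A) : A →+* A ⊗[k] A) := by
  rw [tht, ← Category.assoc, ← Scheme.Hom.comp_appTop, pinv_snd]
  exact specMap_appTop_ΓSpecIso _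

lemma mul_tht : μ[GA (k := k) A].left.appTop ≫ tht A =
    gam A ≫ CommRingCat.ofHom ((Bialgebra.comulAlgHom k A : A →ₐ[k] A ⊗[k] A) : A →+* A ⊗[k] A) := by
  rw [tht, ← Category.assoc, ← Scheme.Hom.comp_appTop, pinv_mul]
  exact specMap_appTop_ΓSpecIso _

end Groth.Agent.Lib.Helper7.KoRo
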