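import Groth.Agent.Lib.Helper7.KoRo4
import Groth.Agent.Lib.Helper7.KoRo1
import Groth.Agent.Lib.Helper10.ClosedOrb3

/-!
# Kostant–Rosenlicht: the invariant function (helper7)
-/

set_option autoImplicit false

universe u

open CategoryTheory Limits AlgebraicGeometry MonoidalCategory CartesianMonoidalCategory MonObj
open TensorProduct

namespace Groth.Agent.Lib.Helper7.KoRo

open Groth.Agent.Lib.Helper7.QAG Groth.Agent.Lib.Helper10.ClosedOrb

variable {k : Type u} [Field k] {A : Type u} [CommRing A] [HopfAlgebra k A]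

instance : CompactSpace ↥(GA (k := k) A).left :=
  inferInstanceAs (CompactSpace ↥(Spec (CommRingCat.of A)))

instance : QuasiSeparatedSpace ↥(GA (k := k) A).left :=
  inferInstanceAs (QuasiSeparatedSpace ↥(Spec (CommRingCat.of A)))

section

variable {X Y' : Over (Spec (CommRingCat.of k))} (a : AlgGrp.Action (GA (k := k) A) X)
  (x : 𝟙_ (Over (Spec (CommRingCat.of k))) ⟶ X) (j : Y' ⟶ X)

/-- the orbit map on global sections, with values in `A`. -/
noncomputable def omg : Γ(X.left, ⊤) →+* A :=
  (gam (k := k) A).hom.comp (a.orbitMap x).left.appTop.hom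

lemma omg_strk (c : k) : omg a x ((strk X).hom c) = algebraMap k A c := by
  have h1 : strk X ≫ (a.orbitMap x).left.appTop = strk (GA (k := k) A) := strk_comp _
  have h2 := congrArg (fun φ => φ.hom c) (strk_gam (k := k) A)
  have h3 := congrArg (fun φ => φ.hom c) h1
  simp only [CommRingCat.hom_comp, RingHom.comp_apply, CommRingCat.hom_ofHom] at h2 h3
  rw [omg, RingHom.comp_apply, h3, h2]

/-- the space of functions on the orbit extending to functions vanishing on `Y'`. -/
noncomputable def W0 : Submodule k A where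
  carrier := {b | ∃ r : Γ(X.left, ⊤), j.left.appTop r = 0 ∧ omg a x r = b}
  add_mem' := by
    rintro _ _ ⟨r, hr, rfl⟩ ⟨r', hr', rfl⟩
    exact ⟨r + r', by rw [map_add, hr, hr', add_zero], map_add _ _ _⟩
  zero_mem' := ⟨0, map_zero _, map_zero _⟩
  smul_mem' := by
    rintro c _ ⟨r, hr, rfl⟩
    refine ⟨(strk X).hom c * r, by rw [map_mul, hr, mul_zero], ?_⟩
    rw [map_mul, omg_strk, Algebra.smul_def]

variable [CompactSpace ↥X.left] [QuasiSeparatedSpace ↥X.left]
  [CompactSpace ↥Y'.left] [QuasiSeparatedSpace ↥Y'.left]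

theorem comul_omg_mem (f : Γ(X.left, ⊤))
    (hf : ((GA (k := k) A ◁ j) ≫ a.act).left.appTop f = 0) :
    Coalgebra.comul (R := k) (omg a x f) ∈ LinearMap.range ((W0 a x j).subtype.lTensor A) := by
  let G := GA (k := k) A
  let Φ : Γ((G ⊗ X).left, ⊤) →+* A ⊗[k] A :=
    (tht (k := k) A).hom.comp (G ◁ a.orbitMap x).left.appTop.hom
  have hF : (G ◁ j).left.appTop (a.act.left.appTop f) = 0 := by
    have := congrArg (fun φ => φ.hom f) (appTop_comp_left (G ◁ j) a.act)
    simp only [CommRingCat.hom_comp, RingHom.comp_apply] at this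
    rw [this]
    exact hf
  have hmem := mem_closure_whisker G X Y' j (a.act.left.appTop f) hF
  have hΦ : Φ (a.act.left.appTop f) = Coalgebra.comul (R := k) (omg a x f) := by
    have h1 : a.act.left.appTop ≫ (G ◁ a.orbitMap x).left.appTop =
        (a.orbitMap x).left.appTop ≫ μ[G].left.appTop := by
      rw [appTop_comp_left, appTop_comp_left, whiskerLeft_orbitMap_act]
    have h2 := congrArg (fun φ => φ.hom f) h1
    have h3 := congrArg (fun φ => φ.hom ((a.orbitMap x).left.appTop f)) (mul_tht (k := k) A)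
    simp only [CommRingCat.hom_comp, RingHom.comp_apply, CommRingCat.hom_ofHom] at h2 h3
    show (tht (k := k) A).hom ((G ◁ a.orbitMap x).left.appTop.hom (a.act.left.appTop.hom f)) = _
    rw [h2, h3]
    rfl
  rw [← hΦ]
  refine AddSubmonoid.closure_induction (motive := fun p _ => Φ p ∈
    LinearMap.range ((W0 a x j).subtype.lTensor A)) ?_ ?_ ?_ hmem
  · rintro _ ⟨a', r, hr, rfl⟩
    have e1 : Φ ((fst G X).left.appTop a') = (gam (k := k) A).hom a' ⊗ₜ[k] (1 : A) := by
      have h1 : (fst G X).left.appTop ≫ (G ◁ a.orbitMap x).left.appTop = (fst G G).left.appTop := by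
        rw [appTop_comp_left, whiskerLeft_fst]
      have h2 := congrArg (fun φ => φ.hom a') h1
      have h3 := congrArg (fun φ => φ.hom a') (fst_tht (k := k) A)
      simp only [CommRingCat.hom_comp, RingHom.comp_apply, CommRingCat.hom_ofHom] at h2 h3
      show (tht (k := k) A).hom ((G ◁ a.orbitMap x).left.appTop.hom ((fst G X).left.appTop.hom a')) = _
      rw [h2, h3]
      rfl
    have e2 : Φ ((snd G X).left.appTop r) = (1 : A) ⊗ₜ[k] omg a x r := by
      have h1 : (snd G X).left.appTop ≫ (G ◁ a.orbitMap x).left.appTop =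
          (a.orbitMap x).left.appTop ≫ (snd G G).left.appTop := by
        rw [appTop_comp_left, appTop_comp_left, whiskerLeft_snd]
      have h2 := congrArg (fun φ => φ.hom r) h1
      have h3 := congrArg (fun φ => φ.hom ((a.orbitMap x).left.appTop r)) (snd_tht (k := k) A)
      simp only [CommRingCat.hom_comp, RingHom.comp_apply, CommRingCat.hom_ofHom] at h2 h3
      show (tht (k := k) A).hom ((G ◁ a.orbitMap x).left.appTop.hom ((snd G X).left.appTop.hom r)) = _
      rw [h2, h3]
      rfl
    rw [map_mul, e1, e2, Algebra.TensorProduct.tmul_mul_tmul, _root_.mul_one, _root_.one_mul]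
    exact ⟨(gam (k := k) A).hom a' ⊗ₜ[k] ⟨omg a x r, r, hr, rfl⟩, rfl⟩
  · rw [map_zero]; exact Submodule.zero_mem _
  · intro p q _ _ hp hq
    simp only [map_add]
    exact Submodule.add_mem _ hp hq

/-- **The invariant function**: if `A` is unipotent and some `f` vanishes on `G · Y'` but not
identically on the orbit, some function vanishing on `Y'` is a nonzero constant on the orbit. -/
theorem exists_const (hU : HopfRep.IsUnipotent k A) (f : Γ(X.left, ⊤))
    (hf : ((GA (k := k) A ◁ j) ≫ a.act).left.appTop f = 0)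
    (hne : (a.orbitMap x).left.appTop f ≠ 0) :
    ∃ (f₀ : Γ(X.left, ⊤)) (c₀ : k), c₀ ≠ 0 ∧ j.left.appTop f₀ = 0 ∧
      (a.orbitMap x).left.appTop (f₀ - (strk X).hom c₀) = 0 := by
  have hinj : Function.Injective (gam (k := k) A).hom :=
    (ConcreteCategory.bijective_of_isIso (gam (k := k) A)).1
  have hc : omg a x f ≠ 0 := by
    intro h
    apply hne
    apply hinj
    rw [map_zero]
    exact h
  obtain ⟨c₀, hc₀, r, hr, hrc⟩ := exists_const_mem hU (W0 a x j) (omg a x f) hc
    (comul_omg_mem a x j f hf)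
  refine ⟨r, c₀, hc₀, hr, ?_⟩
  apply hinj
  rw [map_zero]
  have : omg a x (r - (strk X).hom c₀) = 0 := by
    rw [map_sub, omg_strk, hrc, sub_self]
  exact this

end

end Groth.Agent.Lib.Helper7.KoRo
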