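import Groth.Agent.Lib.Helper7.KoRo5
import Groth.Prelude.Def_Mor2

/-!
# Kostant–Rosenlicht: orbits of unipotent groups on quasi-affine schemes are closed (helper7)
-/

set_option autoImplicit false

universe u

open CategoryTheory Limits AlgebraicGeometry MonoidalCategory CartesianMonoidalCategory MonObj
open TensorProduct

namespace Groth.Agent.Lib.Helper7.KoRo

open Groth.Agent.Lib.Helper7.QAG Groth.Agent.Lib.Helper10.ClosedOrb

variable {k : Type u} [Field k] {A : Type u} [CommRing A] [HopfAlgebra k A]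

lemma unit_orbitMap {G X : Over (Spec (CommRingCat.of k))} [GrpObj G] (a : AlgGrp.Action G X)
    (x : 𝟙_ (Over (Spec (CommRingCat.of k))) ⟶ X) : η[G] ≫ a.orbitMap x = x := by
  rw [AlgGrp.Action.comp_orbitMap]
  have hu : toUnit (𝟙_ (Over (Spec (CommRingCat.of k)))) = 𝟙 _ := toUnit_unique _ _
  rw [hu, Category.id_comp]
  have h1 := AlgGrp.Action.lift_one_act a x
  rw [← h1]
  congr 2

theorem isClosed_orbit_aux [Algebra.FiniteType k A] (hU : HopfRep.IsUnipotent k A)
    (X : Over (Spec (CommRingCat.of k))) [LocallyOfFiniteType X.hom] [X.left.IsQuasiAffine]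
    (a : AlgGrp.Action (GA (k := k) A) X) (x : 𝟙_ (Over (Spec (CommRingCat.of k))) ⟶ X) :
    IsClosed (Set.range (a.orbitMap x).left) := by
  classical
  let G := GA (k := k) A
  let pt : ↥(𝟙_ (Over (Spec (CommRingCat.of k)))).left := IsLocalRing.closedPoint k
  haveI : LocallyOfFiniteType G.hom :=
    inferInstanceAs (LocallyOfFiniteType (Spec (CommRingCat.of A) ↘ Spec (CommRingCat.of k)))
  haveI : QuasiCompact G.hom :=
    inferInstanceAs (QuasiCompact (Spec (CommRingCat.of A) ↘ Spec (CommRingCat.of k)))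
  obtain ⟨U, hUo, hUO⟩ := exists_isOpen_closure_inter_eq' a x
  set O := Set.range (a.orbitMap x).left with hO
  rw [← closure_subset_iff_isClosed]
  intro y hy
  by_contra hyO
  -- the boundary
  have hYeq : closure O \ O = closure O ∩ Uᶜ := by
    ext z
    constructor
    · rintro ⟨h1, h2⟩
      exact ⟨h1, fun hz => h2 (hUO ▸ ⟨h1, hz⟩)⟩
    · rintro ⟨h1, h2⟩
      refine ⟨h1, fun hz => h2 ?_⟩
      rw [← hUO] at hz
      exact hz.2
  have hYcl : IsClosed (closure O \ O) := by
    rw [hYeq]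
    exact isClosed_closure.inter hUo.isClosed_compl
  have hYst : Stable a (closure O \ O) :=
    (stable_range_orbitMap a x).closure.diff (stable_range_orbitMap a x)
  -- the closed subscheme
  let Zc : TopologicalSpace.Closeds ↥X.left := ⟨closure O \ O, hYcl⟩
  let I := Scheme.IdealSheafData.vanishingIdeal Zc
  let Y' : Over (Spec (CommRingCat.of k)) :=
    { left := I.subscheme, right := ⟨⟨⟩⟩, hom := I.subschemeι ≫ X.hom }
  let j : Y' ⟶ X := Over.homMk I.subschemeι rfl
  have hjr : Set.range j.left = closure O \ O := by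
    show Set.range I.subschemeι = _
    rw [I.range_subschemeι]
    exact Scheme.IdealSheafData.coe_support_vanishingIdeal Zc
  haveI : CompactSpace ↥Y'.left :=
    QuasiCompact.compactSpace_of_compactSpace I.subschemeι
  haveI : Y'.left.IsQuasiAffine := Scheme.IsQuasiAffine.of_isImmersion I.subschemeι
  haveI : CompactSpace ↥(G ⊗ Y').left :=
    inferInstanceAs (CompactSpace ↥(pullback G.hom Y'.hom))
  -- the point x₀
  have hx₀ : (a.orbitMap x).left (η[G].left pt) = x.left pt := by
    have := congrArg (fun t => t.left pt) (unit_orbitMap a x)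
    simpa only [Over.comp_left, Scheme.Hom.comp_apply] using this
  have hx₀O : x.left pt ∈ O := ⟨_, hx₀⟩
  -- a function
  let V : X.left.Opens := ⟨(closure O \ O)ᶜ, hYcl.isOpen_compl⟩
  have hx₀V : x.left pt ∈ V := fun h => h.2 hx₀O
  obtain ⟨_, ⟨f₁, _, rfl⟩, hx₀f, hfV⟩ :=
    TopologicalSpace.Opens.isBasis_iff_nbhd.mp (Scheme.IsQuasiAffine.isBasis_basicOpen X.left) hx₀V
  -- nilpotency
  let β := (G ◁ j) ≫ a.act
  have hβ : ∀ w : ↥(G ⊗ Y').left, β.left w ∈ closure O \ O := by
    intro w
    have h1 : β.left w = a.act.left ((G ◁ j).left w) := by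
      simp only [β, Over.comp_left, Scheme.Hom.comp_apply]
    rw [h1]
    apply hYst
    have h2 : (snd G X).left ((G ◁ j).left w) = j.left ((snd G Y').left w) := by
      have := congrArg (fun t => t.left w) (whiskerLeft_snd G j)
      simpa only [Over.comp_left, Scheme.Hom.comp_apply] using this
    rw [h2, ← hjr]
    exact ⟨_, rfl⟩
  have hnil : IsNilpotent (β.left.appTop f₁) := by
    rw [Scheme.isNilpotent_iff_basicOpen_eq_bot, ← Scheme.preimage_basicOpen_top]
    ext w
    simp only [TopologicalSpace.Opens.coe_bot, Set.mem_empty_iff_false, iff_false]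
    intro hw
    exact hfV hw (hβ w)
  obtain ⟨N, hN⟩ := hnil
  let f := f₁ ^ (N + 1)
  have hf : β.left.appTop f = 0 := by
    simp only [f]
    rw [map_pow, pow_succ, hN, zero_mul]
  have hfx : X.left.basicOpen f = X.left.basicOpen f₁ := Scheme.basicOpen_pow _ _ (Nat.succ_pos N)
  have hne : (a.orbitMap x).left.appTop f ≠ 0 := by
    intro h0
    have h1 : η[G].left pt ∈ (a.orbitMap x).left ⁻¹ᵁ X.left.basicOpen f := by
      show (a.orbitMap x).left (η[G].left pt) ∈ X.left.basicOpen f
      rw [hx₀, hfx]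
      exact hx₀f
    rw [Scheme.preimage_basicOpen_top, h0, Scheme.basicOpen_zero] at h1
    exact h1
  obtain ⟨f₀, c₀, hc₀, hf₀, hf₂⟩ := exists_const a x j hU f hf hne
  set f₂ := f₀ - (strk X).hom c₀ with hf₂def
  -- `f₂` vanishes on the orbit closure
  have hOf₂ : O ⊆ ((X.left.basicOpen f₂ : Set ↥X.left))ᶜ := by
    rintro _ ⟨g, rfl⟩ hg
    have h1 : g ∈ (a.orbitMap x).left ⁻¹ᵁ X.left.basicOpen f₂ := hg
    rw [Scheme.preimage_basicOpen_top, hf₂, Scheme.basicOpen_zero] at h1
    exact h1
  have hyf₂ : y ∉ X.left.basicOpen f₂ :=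
    closure_minimal hOf₂ (X.left.basicOpen f₂).isOpen.isClosed_compl hy
  -- but `f₂` is a unit on `Y'`
  obtain ⟨y', hy'⟩ : y ∈ Set.range j.left := by rw [hjr]; exact ⟨hy, hyO⟩
  apply hyf₂
  rw [← hy']
  show y' ∈ j.left ⁻¹ᵁ X.left.basicOpen f₂
  rw [Scheme.preimage_basicOpen_top]
  have hunit : IsUnit (j.left.appTop f₂) := by
    rw [hf₂def, map_sub, hf₀, zero_sub]
    have h1 := congrArg (fun φ => φ.hom c₀) (strk_comp j)
    simp only [CommRingCat.hom_comp, RingHom.comp_apply] at h1
    have h2 : j.left.appTop ((strk X).hom c₀) = (strk Y').hom c₀ := h1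
    rw [h2]
    exact ((isUnit_iff_ne_zero.mpr hc₀).map (strk Y').hom).neg
  rw [Scheme.basicOpen_of_isUnit _ hunit]
  trivial

end Groth.Agent.Lib.Helper7.KoRo
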