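import Groth.Agent.Lib.Helper7.ComodAct
import Groth.Agent.Lib.Helper7.PiZero

/-!
# Lie–Kolchin, part 1: connected sets of points (helper7)

A set `X` of rational points of an affine group `Spec A` is *connected-dense* (`ConnSet`) when every
regular function taking only the values `0` and `1` on `X` is constant on `X`.

* `connSet_univ`: all points of a reduced connected finitely generated Hopf algebra over an
  algebraically closed field.
* `connSet_img`: the image of `X × Y` under a morphism `G × G → G`.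
* `connSet_iUnion`: increasing unions with a common point.
* `eq_of_finite_values`: a regular function with finitely many values on a `ConnSet` is constant.
* `connSet_commutator`: the commutator subgroup of a connected-dense subgroup.
* `connSet_derivedSeries`.
-/

set_option autoImplicit false

universe u v w

open TensorProduct WithConv

open scoped commutatorElement

namespace Groth.Agent.Lib.Helper7.LK

variable {k : Type u} [Field k] {A : Type v} [CommRing A] [HopfAlgebra k A]

/-- postcomposition with an algebra map is a monoid hom for convolution. -/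
noncomputable def postHom {C : Type*} {B : Type*} [CommRing C] [CommRing B] [Algebra k C]
    [Algebra k B] (h : C →ₐ[k] B) : WithConv (A →ₐ[k] C) →* WithConv (A →ₐ[k] B) where
  toFun f := toConv (h.comp f.ofConv)
  map_one' := by
    apply WithConv.ofConv_injective
    apply AlgHom.ext
    intro a
    simp [AlgHom.convOne_def]
  map_mul' f g := by
    apply WithConv.ofConv_injective
    exact AlgHom.comp_convMul_distrib h f g

@[simp] lemma postHom_apply {C : Type*} {B : Type*} [CommRing C] [CommRing B] [Algebra k C]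
    [Algebra k B] (h : C →ₐ[k] B) (f : WithConv (A →ₐ[k] C)) (a : A) :
    (postHom h f).ofConv a = h (f.ofConv a) := rfl

/-- evaluation of a function on `G × G` at a pair of points. -/
noncomputable def ev2 (x y : WithConv (A →ₐ[k] k)) : A ⊗[k] A →ₐ[k] k :=
  (Algebra.TensorProduct.lmul' k).comp (Algebra.TensorProduct.map x.ofConv y.ofConv)

@[simp] lemma ev2_tmul (x y : WithConv (A →ₐ[k] k)) (a b : A) :
    ev2 x y (a ⊗ₜ[k] b) = x.ofConv a * y.ofConv b := by
  simp [ev2]

/-- the slice of a function on `G × G` at a point of the first factor. -/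
noncomputable def sliceL (x : WithConv (A →ₐ[k] k)) : A ⊗[k] A →ₐ[k] A :=
  (Algebra.TensorProduct.lid k A).toAlgHom.comp
    (Algebra.TensorProduct.map x.ofConv (AlgHom.id k A))

/-- the slice of a function on `G × G` at a point of the second factor. -/
noncomputable def sliceR (y : WithConv (A →ₐ[k] k)) : A ⊗[k] A →ₐ[k] A :=
  (Algebra.TensorProduct.rid k k A).toAlgHom.comp
    (Algebra.TensorProduct.map (AlgHom.id k A) y.ofConv)

lemma apply_sliceL (x y : WithConv (A →ₐ[k] k)) (b : A ⊗[k] A) :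
    y.ofConv (sliceL x b) = ev2 x y b := by
  have : y.ofConv.comp (sliceL x) = ev2 x y := by
    apply Algebra.TensorProduct.ext'
    intro a b
    simp [sliceL, ev2_tmul]
  exact AlgHom.congr_fun this b

lemma apply_sliceR (x y : WithConv (A →ₐ[k] k)) (b : A ⊗[k] A) :
    x.ofConv (sliceR y b) = ev2 x y b := by
  have : x.ofConv.comp (sliceR y) = ev2 x y := by
    apply Algebra.TensorProduct.ext'
    intro a b
    simp [sliceR, ev2_tmul, mul_comm]
  exact AlgHom.congr_fun this b

/-- the first inclusion as a point of `G` with values in `A ⊗ A`. -/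
noncomputable def ι₁ : WithConv (A →ₐ[k] A ⊗[k] A) := toConv Algebra.TensorProduct.includeLeft

/-- the second inclusion. -/
noncomputable def ι₂ : WithConv (A →ₐ[k] A ⊗[k] A) := toConv Algebra.TensorProduct.includeRight

lemma postHom_ev2_ι₁ (x y : WithConv (A →ₐ[k] k)) : postHom (ev2 x y) (ι₁ (k := k) (A := A)) = x := by
  apply WithConv.ofConv_injective
  apply AlgHom.ext
  intro a
  simp [ι₁]

lemma postHom_ev2_ι₂ (x y : WithConv (A →ₐ[k] k)) : postHom (ev2 x y) (ι₂ (k := k) (A := A)) = y := by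
  apply WithConv.ofConv_injective
  apply AlgHom.ext
  intro a
  simp [ι₂]

/-- the image of `X × Y` under the morphism `G × G → G` with comorphism `φ`. -/
def img (φ : WithConv (A →ₐ[k] A ⊗[k] A)) (X Y : Set (WithConv (A →ₐ[k] k))) :
    Set (WithConv (A →ₐ[k] k)) :=
  {z | ∃ x ∈ X, ∃ y ∈ Y, z = postHom (ev2 x y) φ}

/-- connected-dense sets of points. -/
def ConnSet (X : Set (WithConv (A →ₐ[k] k))) : Prop :=
  ∀ a : A, (∀ x ∈ X, x.ofConv a = 0 ∨ x.ofConv a = 1) →
    (∀ x ∈ X, x.ofConv a = 0) ∨ (∀ x ∈ X, x.ofConv a = 1)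

lemma eq_of_const {α : Type*} {Y : Set α} {f : α → k}
    (h : (∀ y ∈ Y, f y = 0) ∨ (∀ y ∈ Y, f y = 1)) {y y₀ : α} (hy : y ∈ Y) (hy₀ : y₀ ∈ Y) :
    f y = f y₀ := by
  rcases h with h | h
  · rw [h y hy, h y₀ hy₀]
  · rw [h y hy, h y₀ hy₀]

theorem connSet_img (φ : WithConv (A →ₐ[k] A ⊗[k] A)) {X Y : Set (WithConv (A →ₐ[k] k))}
    (hX : ConnSet X) (hY : ConnSet Y) : ConnSet (img φ X Y) := by
  intro a ha
  set b := φ.ofConv a with hb
  have hval : ∀ x ∈ X, ∀ y ∈ Y, ev2 x y b = 0 ∨ ev2 x y b = 1 := by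
    intro x hx y hy
    exact ha _ ⟨x, hx, y, hy, rfl⟩
  by_cases hXe : X = ∅
  · left
    rintro z ⟨x, hx, -⟩
    rw [hXe] at hx
    exact absurd hx (Set.notMem_empty _)
  by_cases hYe : Y = ∅
  · left
    rintro z ⟨x, -, y, hy, -⟩
    rw [hYe] at hy
    exact absurd hy (Set.notMem_empty _)
  obtain ⟨x₀, hx₀⟩ := Set.nonempty_iff_ne_empty.2 hXe
  obtain ⟨y₀, hy₀⟩ := Set.nonempty_iff_ne_empty.2 hYe
  have h1 : ∀ x ∈ X, ∀ y ∈ Y, ev2 x y b = ev2 x y₀ b := by
    intro x hx y hy
    have := hY (sliceL x b) (fun y hy => by rw [apply_sliceL]; exact hval x hx y hy)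
    have h2 := eq_of_const (f := fun y : WithConv (A →ₐ[k] k) => y.ofConv (sliceL x b)) this hy hy₀
    simpa [apply_sliceL] using h2
  have h2 : ∀ x ∈ X, ev2 x y₀ b = ev2 x₀ y₀ b := by
    intro x hx
    have := hX (sliceR y₀ b) (fun x hx => by rw [apply_sliceR]; exact hval x hx y₀ hy₀)
    have h2 := eq_of_const (f := fun x : WithConv (A →ₐ[k] k) => x.ofConv (sliceR y₀ b)) this hx hx₀
    simpa [apply_sliceR] using h2
  have h3 : ∀ z ∈ img φ X Y, z.ofConv a = ev2 x₀ y₀ b := by
    rintro z ⟨x, hx, y, hy, rfl⟩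
    rw [postHom_apply, ← hb, h1 x hx y hy, h2 x hx]
  rcases hval x₀ hx₀ y₀ hy₀ with h | h
  · left
    intro z hz
    rw [h3 z hz, h]
  · right
    intro z hz
    rw [h3 z hz, h]

lemma connSet_singleton (x : WithConv (A →ₐ[k] k)) : ConnSet ({x} : Set (WithConv (A →ₐ[k] k))) := by
  intro a ha
  rcases ha x rfl with h | h
  · left
    rintro _ rfl
    exact h
  · right
    rintro _ rfl
    exact h

theorem connSet_iUnion (S : ℕ → Set (WithConv (A →ₐ[k] k))) (hS : ∀ n, ConnSet (S n))
    (p : WithConv (A →ₐ[k] k)) (hp : ∀ n, p ∈ S n) : ConnSet (⋃ n, S n) := by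
  intro a ha
  have hc : ∀ n, ∀ x ∈ S n, x.ofConv a = p.ofConv a := by
    intro n x hx
    have := hS n a (fun x hx => ha x (Set.mem_iUnion.2 ⟨n, hx⟩))
    exact eq_of_const (f := fun x : WithConv (A →ₐ[k] k) => x.ofConv a) this hx (hp n)
  rcases ha p (Set.mem_iUnion.2 ⟨0, hp 0⟩) with h | h
  · left
    intro x hx
    obtain ⟨n, hn⟩ := Set.mem_iUnion.1 hx
    rw [hc n x hn, h]
  · right
    intro x hx
    obtain ⟨n, hn⟩ := Set.mem_iUnion.1 hx
    rw [hc n x hn, h]

/-- all points of a reduced connected group form a connected-dense set. -/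
theorem connSet_univ [IsAlgClosed k] [Algebra.FiniteType k A] [IsReduced A]
    (hconn : ∀ e : A, IsIdempotentElem e → e = 0 ∨ e = 1) :
    ConnSet (Set.univ : Set (WithConv (A →ₐ[k] k))) := by
  intro a ha
  have hid : IsIdempotentElem a := by
    have hnil : IsNilpotent (a * a - a) := by
      apply PiZero.isNilpotent_of_forall_point (k := k)
      intro x
      rcases ha (toConv x) trivial with h | h
      · have h' : x a = 0 := h
        simp [h']
      · have h' : x a = 1 := h
        simp [h']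
    exact sub_eq_zero.1 hnil.eq_zero
  rcases hconn a hid with h | h
  · left
    intro x _
    rw [h, map_zero]
  · right
    intro x _
    rw [h, map_one]

/-- a regular function with finitely many values on a connected-dense set is constant. -/
theorem eq_of_finite_values {X : Set (WithConv (A →ₐ[k] k))} (hX : ConnSet X) (a : A)
    (E : Finset k) (hE : ∀ x ∈ X, x.ofConv a ∈ E) {x x₀ : WithConv (A →ₐ[k] k)} (hx : x ∈ X)
    (hx₀ : x₀ ∈ X) : x.ofConv a = x₀.ofConv a := by
  classical
  set μ₀ := x₀.ofConv a with hμ₀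
  let q : Polynomial k := Lagrange.basis E id μ₀
  let e : A := Polynomial.aeval a q
  have he : ∀ y : WithConv (A →ₐ[k] k), y.ofConv e = q.eval (y.ofConv a) := by
    intro y
    simp only [e]
    rw [← Polynomial.aeval_algHom_apply, Polynomial.coe_aeval_eq_eval]
  have hinj : Set.InjOn (id : k → k) E := Function.injective_id.injOn
  have hval : ∀ y ∈ X, y.ofConv e = if y.ofConv a = μ₀ then 1 else 0 := by
    intro y hy
    rw [he]
    split_ifs with h
    · rw [h]
      exact Lagrange.eval_basis_self (v := id) (s := E) (i := μ₀) hinj (hE x₀ hx₀)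
    · exact Lagrange.eval_basis_of_ne (v := id) (s := E) (i := μ₀) (j := y.ofConv a)
        (Ne.symm h) (hE y hy)
  have h01 := hX e (fun y hy => by rw [hval y hy]; split_ifs <;> simp)
  have h1 : x.ofConv e = x₀.ofConv e :=
    eq_of_const (k := k) (f := fun y : WithConv (A →ₐ[k] k) => y.ofConv e) h01 hx hx₀
  rw [hval x hx, hval x₀ hx₀, if_pos rfl] at h1
  by_contra hne
  rw [if_neg hne] at h1
  exact zero_ne_one h1

section Commutator

open Pointwise

/-- the comorphism of the commutator morphism `G × G → G`. -/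
noncomputable def κ : WithConv (A →ₐ[k] A ⊗[k] A) :=
  ⁅(ι₁ : WithConv (A →ₐ[k] A ⊗[k] A)), (ι₂ : WithConv (A →ₐ[k] A ⊗[k] A))⁆

/-- the comorphism of the multiplication `G × G → G`. -/
noncomputable def μ : WithConv (A →ₐ[k] A ⊗[k] A) :=
  (ι₁ : WithConv (A →ₐ[k] A ⊗[k] A)) * (ι₂ : WithConv (A →ₐ[k] A ⊗[k] A))

lemma postHom_κ (x y : WithConv (A →ₐ[k] k)) : postHom (ev2 x y) (κ (k := k) (A := A)) = ⁅x, y⁆ := by
  unfold κ
  rw [map_commutatorElement, postHom_ev2_ι₁, postHom_ev2_ι₂]

lemma postHom_μ (x y : WithConv (A →ₐ[k] k)) : postHom (ev2 x y) (μ (k := k) (A := A)) = x * y := by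
  unfold μ
  rw [map_mul, postHom_ev2_ι₁, postHom_ev2_ι₂]

lemma img_μ (X Y : Set (WithConv (A →ₐ[k] k))) : img μ X Y = X * Y := by
  ext z
  constructor
  · rintro ⟨x, hx, y, hy, rfl⟩
    rw [postHom_μ]
    exact Set.mul_mem_mul hx hy
  · intro hz
    obtain ⟨x, hx, y, hy, rfl⟩ := Set.mem_mul.1 hz
    exact ⟨x, hx, y, hy, (postHom_μ x y).symm⟩

theorem connSet_mul {X Y : Set (WithConv (A →ₐ[k] k))} (hX : ConnSet X) (hY : ConnSet Y) :
    ConnSet (X * Y) := by
  rw [← img_μ]
  exact connSet_img μ hX hY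

/-- the set of commutators of elements of a subgroup. -/
def commSet (H : Subgroup (WithConv (A →ₐ[k] k))) : Set (WithConv (A →ₐ[k] k)) :=
  {g | ∃ a ∈ H, ∃ b ∈ H, ⁅a, b⁆ = g}

lemma commSet_eq_img (H : Subgroup (WithConv (A →ₐ[k] k))) :
    commSet H = img κ (H : Set (WithConv (A →ₐ[k] k))) H := by
  ext z
  constructor
  · rintro ⟨a, ha, b, hb, rfl⟩
    exact ⟨a, ha, b, hb, (postHom_κ a b).symm⟩
  · rintro ⟨a, ha, b, hb, rfl⟩
    exact ⟨a, ha, b, hb, (postHom_κ a b).symm⟩

theorem connSet_commSet {H : Subgroup (WithConv (A →ₐ[k] k))}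
    (hH : ConnSet (H : Set (WithConv (A →ₐ[k] k)))) : ConnSet (commSet H) := by
  rw [commSet_eq_img]
  exact connSet_img κ hH hH

theorem connSet_pow {C : Set (WithConv (A →ₐ[k] k))} (hC : ConnSet C) : ∀ n : ℕ, ConnSet (C ^ n)
  | 0 => by
    rw [pow_zero, ← Set.singleton_one]
    exact connSet_singleton 1
  | n + 1 => by
    rw [pow_succ]
    exact connSet_mul (connSet_pow hC n) hC

lemma one_mem_commSet (H : Subgroup (WithConv (A →ₐ[k] k))) : (1 : WithConv (A →ₐ[k] k)) ∈ commSet H :=
  ⟨1, H.one_mem, 1, H.one_mem, commutatorElement_one_right 1⟩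

lemma inv_mem_commSet {H : Subgroup (WithConv (A →ₐ[k] k))} {g : WithConv (A →ₐ[k] k)}
    (hg : g ∈ commSet H) : g⁻¹ ∈ commSet H := by
  obtain ⟨a, ha, b, hb, rfl⟩ := hg
  exact ⟨b, hb, a, ha, (commutatorElement_inv a b).symm⟩

theorem commutator_eq_iUnion (H : Subgroup (WithConv (A →ₐ[k] k))) :
    ((⁅H, H⁆ : Subgroup (WithConv (A →ₐ[k] k))) : Set (WithConv (A →ₐ[k] k))) =
      ⋃ n : ℕ, commSet H ^ n := by
  apply Set.Subset.antisymm
  · intro g hg
    rw [SetLike.mem_coe, Subgroup.commutator_def] at hg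
    induction hg using Subgroup.closure_induction with
    | mem x hx =>
      exact Set.mem_iUnion.2 ⟨1, by rw [pow_one]; exact hx⟩
    | one =>
      exact Set.mem_iUnion.2 ⟨0, by rw [pow_zero]; exact Set.mem_one.2 rfl⟩
    | mul x y _ _ hx hy =>
      obtain ⟨n, hn⟩ := Set.mem_iUnion.1 hx
      obtain ⟨m, hm⟩ := Set.mem_iUnion.1 hy
      exact Set.mem_iUnion.2 ⟨n + m, by rw [pow_add]; exact Set.mul_mem_mul hn hm⟩
    | inv x _ hx =>
      obtain ⟨n, hn⟩ := Set.mem_iUnion.1 hx
      refine Set.mem_iUnion.2 ⟨n, ?_⟩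
      have h1 : (commSet H)⁻¹ = commSet H := by
        ext g
        constructor
        · intro hg
          have := inv_mem_commSet (Set.mem_inv.1 hg)
          simpa using this
        · intro hg
          exact Set.mem_inv.2 (inv_mem_commSet hg)
      have h2 : x⁻¹ ∈ (commSet H ^ n)⁻¹ := Set.inv_mem_inv.2 hn
      rw [← inv_pow, h1] at h2
      exact h2
  · intro g hg
    obtain ⟨n, hn⟩ := Set.mem_iUnion.1 hg
    rw [SetLike.mem_coe, Subgroup.commutator_def]
    have hsub : commSet H ⊆ (Subgroup.closure {g | ∃ g₁ ∈ H, ∃ g₂ ∈ H, ⁅g₁, g₂⁆ = g} :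
        Set (WithConv (A →ₐ[k] k))) := Subgroup.subset_closure
    have : ∀ n : ℕ, commSet H ^ n ⊆ (Subgroup.closure {g | ∃ g₁ ∈ H, ∃ g₂ ∈ H, ⁅g₁, g₂⁆ = g} :
        Set (WithConv (A →ₐ[k] k))) := by
      intro n
      induction n with
      | zero =>
        rw [pow_zero]
        intro x hx
        rw [Set.mem_one.1 hx]
        exact Subgroup.one_mem _
      | succ n ih =>
        rw [pow_succ]
        intro x hx
        obtain ⟨a, ha, b, hb, rfl⟩ := Set.mem_mul.1 hx
        exact Subgroup.mul_mem _ (ih ha) (hsub hb)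
    exact this n hn

theorem connSet_commutator {H : Subgroup (WithConv (A →ₐ[k] k))}
    (hH : ConnSet (H : Set (WithConv (A →ₐ[k] k)))) :
    ConnSet ((⁅H, H⁆ : Subgroup (WithConv (A →ₐ[k] k))) : Set (WithConv (A →ₐ[k] k))) := by
  rw [commutator_eq_iUnion]
  apply connSet_iUnion _ (fun n => connSet_pow (connSet_commSet hH) n) 1
  intro n
  exact Set.one_mem_pow (one_mem_commSet H)

theorem connSet_derivedSeries [IsAlgClosed k] [Algebra.FiniteType k A] [IsReduced A]
    (hconn : ∀ e : A, IsIdempotentElem e → e = 0 ∨ e = 1) (n : ℕ) :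
    ConnSet ((derivedSeries (WithConv (A →ₐ[k] k)) n : Subgroup (WithConv (A →ₐ[k] k))) :
      Set (WithConv (A →ₐ[k] k))) := by
  induction n with
  | zero =>
    rw [derivedSeries_zero, Subgroup.coe_top]
    exact connSet_univ hconn
  | succ n ih =>
    rw [derivedSeries_succ]
    exact connSet_commutator ih

end Commutator

end Groth.Agent.Lib.Helper7.LK
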