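import Groth.Agent.Lib.Helper7.LK1
import Groth.Agent.Lib.Helper7.CoeffSpace

/-!
# Lie–Kolchin, part 2: common eigenvectors (helper7)
-/

set_option autoImplicit false

universe u v w

open TensorProduct WithConv

open scoped commutatorElement

namespace Groth.Agent.Lib.Helper7.LK

open HopfRep Groth.Agent.Lib.Helper7.Comod

section Conj

variable {k : Type u} [Field k] {A : Type v} [CommRing A] [HopfAlgebra k A]

/-- the comorphism of `g ↦ g⁻¹ h' g`. -/
noncomputable def Ψ (h' : WithConv (A →ₐ[k] k)) : WithConv (A →ₐ[k] A) :=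
  (toConv (AlgHom.id k A))⁻¹ * toConv ((Algebra.ofId k A).comp h'.ofConv) * toConv (AlgHom.id k A)

lemma postHom_Ψ (g h' : WithConv (A →ₐ[k] k)) :
    postHom g.ofConv (Ψ h') = g⁻¹ * h' * g := by
  have h1 : postHom g.ofConv (toConv (AlgHom.id k A)) = g := by
    apply WithConv.ofConv_injective
    apply AlgHom.ext
    intro a
    simp
  have h2 : postHom g.ofConv (toConv ((Algebra.ofId k A).comp h'.ofConv)) = h' := by
    apply WithConv.ofConv_injective
    apply AlgHom.ext
    intro a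
    simp [Algebra.ofId_apply]
  unfold Ψ
  rw [map_mul, map_mul, map_inv, h1, h2]

lemma apply_Ψ (g h' : WithConv (A →ₐ[k] k)) (a : A) :
    g.ofConv ((Ψ h').ofConv a) = (g⁻¹ * h' * g).ofConv a := by
  rw [← postHom_Ψ]
  rfl

variable {V : Type w} [AddCommGroup V] [Module k V] [Comod k A V]

lemma apply_coeffMap (g : WithConv (A →ₐ[k] k)) (lam : V →ₗ[k] k) (v : V) :
    g.ofConv (coeffMap (C := A) lam v) = lam (actHom k A V g v) := by
  rw [coeffMap_apply]
  exact apply_contrL_eq lam g.ofConv.toLinearMap _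

lemma act_conj (g h' : WithConv (A →ₐ[k] k)) (v : V) :
    actHom k A V h' (actHom k A V g v) = actHom k A V g (actHom k A V (g⁻¹ * h' * g) v) := by
  rw [← Module.End.mul_apply, ← Module.End.mul_apply, ← map_mul, ← map_mul]
  congr 2
  group

lemma act_inv_act (g : WithConv (A →ₐ[k] k)) (v : V) :
    actHom k A V g⁻¹ (actHom k A V g v) = v := by
  rw [← Module.End.mul_apply, ← map_mul, inv_mul_cancel, map_one]
  rfl

lemma act_ne_zero (g : WithConv (A →ₐ[k] k)) {v : V} (hv : v ≠ 0) : actHom k A V g v ≠ 0 := by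
  intro h0
  apply hv
  rw [← act_inv_act g v, h0, map_zero]

end Conj

section Step

variable {k : Type u} [Field k] [IsAlgClosed k] {A : Type v} [CommRing A] [HopfAlgebra k A]
variable {V : Type w} [AddCommGroup V] [Module k V] [Comod k A V] [Module.Finite k V]

theorem step (H : Subgroup (WithConv (A →ₐ[k] k))) [H.Normal]
    (hH : ConnSet (H : Set (WithConv (A →ₐ[k] k))))
    (hH' : ConnSet ((⁅H, H⁆ : Subgroup (WithConv (A →ₐ[k] k))) : Set (WithConv (A →ₐ[k] k))))
    (ih : ∀ U : Submodule k V, U ≠ ⊥ → (∀ h ∈ ⁅H, H⁆, ∀ u ∈ U, actHom k A V h u ∈ U) →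
      ∃ v ∈ U, v ≠ 0 ∧ ∀ h ∈ ⁅H, H⁆, ∃ c : k, actHom k A V h v = c • v)
    (U : Submodule k V) (hU : U ≠ ⊥) (hst : ∀ h ∈ H, ∀ u ∈ U, actHom k A V h u ∈ U) :
    ∃ v ∈ U, v ≠ 0 ∧ ∀ h ∈ H, ∃ c : k, actHom k A V h v = c • v := by
  classical
  have hle : ⁅H, H⁆ ≤ H := Subgroup.commutator_le_right H H
  -- a minimal stable subspace
  let S : Set (Submodule k V) := {W | W ≠ ⊥ ∧ W ≤ U ∧ ∀ h ∈ H, ∀ u ∈ W, actHom k A V h u ∈ W}
  have hSne : S.Nonempty := ⟨U, hU, le_rfl, hst⟩
  obtain ⟨W₀, hW₀S, hmin⟩ := WellFounded.has_min (wellFounded_lt (α := Submodule k V)) S hSne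
  obtain ⟨hW₀ne, hW₀U, hW₀st⟩ := hW₀S
  have hminimal : ∀ W : Submodule k V, W ≠ ⊥ → W ≤ W₀ →
      (∀ h ∈ H, ∀ u ∈ W, actHom k A V h u ∈ W) → W = W₀ := by
    intro W h1 h2 h3
    by_contra hne
    exact hmin W ⟨h1, h2.trans hW₀U, h3⟩ (lt_of_le_of_ne h2 hne)
  obtain ⟨v, hvW, hv0, hveig⟩ := ih W₀ hW₀ne (fun h hh u hu => hW₀st h (hle hh) u hu)
  choose! χ hχ using hveig
  obtain ⟨lam, hlam⟩ := Module.Projective.exists_dual_eq_one k hv0
  have hconjmem : ∀ g : WithConv (A →ₐ[k] k), ∀ h' ∈ ⁅H, H⁆, g⁻¹ * h' * g ∈ ⁅H, H⁆ := by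
    intro g h' hh'
    exact Subgroup.Normal.conj_mem' inferInstance h' hh' g
  -- Claim A
  have hA : ∀ h ∈ H, ∀ h' ∈ ⁅H, H⁆, χ (h⁻¹ * h' * h) = χ h' := by
    intro h hh h' hh'
    let F : A := (Ψ h').ofConv (coeffMap (C := A) lam v)
    have hF : ∀ g : WithConv (A →ₐ[k] k),
        g.ofConv F = lam (actHom k A V (g⁻¹ * h' * g) v) := by
      intro g
      simp only [F]
      rw [apply_Ψ, apply_coeffMap]
    have hFH : ∀ g : WithConv (A →ₐ[k] k), g.ofConv F = χ (g⁻¹ * h' * g) := by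
      intro g
      rw [hF, hχ _ (hconjmem g h' hh'), map_smul, hlam, smul_eq_mul, mul_one]
    let E : Finset k := (Module.End.finite_hasEigenvalue (actHom k A V h')).toFinset
    have hE : ∀ g ∈ (H : Set (WithConv (A →ₐ[k] k))), g.ofConv F ∈ E := by
      intro g _
      rw [hFH g, Set.Finite.mem_toFinset]
      apply Module.End.hasEigenvalue_of_hasEigenvector (x := actHom k A V g v)
      refine ⟨Module.End.mem_eigenspace_iff.2 ?_, act_ne_zero g hv0⟩
      rw [act_conj g h' v, hχ _ (hconjmem g h' hh'), map_smul]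
    have h1 := eq_of_finite_values hH F E hE (x := h) (x₀ := 1) hh H.one_mem
    rw [hFH h, hFH 1] at h1
    simpa using h1
  -- Claim B
  let Wχ : Submodule k V := W₀ ⊓ ⨅ h' : (⁅H, H⁆ : Subgroup (WithConv (A →ₐ[k] k))),
    Module.End.eigenspace (actHom k A V h'.1) (χ h'.1)
  have hmemWχ : ∀ w : V, w ∈ Wχ ↔ w ∈ W₀ ∧ ∀ h' ∈ ⁅H, H⁆, actHom k A V h' w = χ h' • w := by
    intro w
    simp only [Wχ, Submodule.mem_inf, Submodule.mem_iInf, Module.End.mem_eigenspace_iff,
      Subtype.forall]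
  have hWχ : Wχ = W₀ := by
    apply hminimal Wχ
    · intro h0
      have : v ∈ Wχ := (hmemWχ v).2 ⟨hvW, hχ⟩
      rw [h0, Submodule.mem_bot] at this
      exact hv0 this
    · exact inf_le_left
    · intro h hh w hw
      rw [hmemWχ] at hw ⊢
      refine ⟨hW₀st h hh w hw.1, fun h' hh' => ?_⟩
      rw [act_conj h h' w, hw.2 _ (hconjmem h h' hh'), map_smul, hA h hh h' hh']
  have hscal : ∀ h' ∈ ⁅H, H⁆, ∀ w ∈ W₀, actHom k A V h' w = χ h' • w := by
    intro h' hh' w hw
    rw [← hWχ] at hw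
    exact ((hmemWχ w).1 hw).2 h' hh'
  -- χ is multiplicative
  have hmul : ∀ x ∈ ⁅H, H⁆, ∀ y ∈ ⁅H, H⁆, χ (x * y) = χ x * χ y := by
    intro x hx y hy
    have h1 : actHom k A V (x * y) v = χ (x * y) • v := hχ _ (Subgroup.mul_mem _ hx hy)
    rw [map_mul, Module.End.mul_apply, hχ y hy, map_smul, hχ x hx, smul_smul] at h1
    have := smul_left_injective k hv0 h1
    rw [← this, mul_comm]
  have hone : χ 1 = 1 := by
    have h1 : actHom k A V 1 v = χ 1 • v := hχ _ (Subgroup.one_mem _)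
    rw [map_one, Module.End.one_apply] at h1
    have h2 : (1 : k) • v = χ 1 • v := by rw [one_smul]; exact h1
    exact (smul_left_injective k hv0 h2).symm
  -- Claim C
  haveI : Nontrivial W₀ := (Submodule.nontrivial_iff_ne_bot).2 hW₀ne
  set d := Module.finrank k W₀ with hd
  have hdpos : 0 < d := Module.finrank_pos
  have hC : ∀ a ∈ H, ∀ b ∈ H, χ ⁅a, b⁆ ^ d = 1 := by
    intro a ha b hb
    have hab : ⁅a, b⁆ ∈ ⁅H, H⁆ := Subgroup.commutator_mem_commutator ha hb
    let Ra : Module.End k W₀ := (actHom k A V a).restrict (hW₀st a ha)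
    let Rb : Module.End k W₀ := (actHom k A V b).restrict (hW₀st b hb)
    let Ra' : Module.End k W₀ := (actHom k A V a⁻¹).restrict (hW₀st a⁻¹ (H.inv_mem ha))
    let Rb' : Module.End k W₀ := (actHom k A V b⁻¹).restrict (hW₀st b⁻¹ (H.inv_mem hb))
    have hRa : Ra' * Ra = 1 := by
      ext w
      simp only [Ra, Ra', Module.End.mul_apply, LinearMap.restrict_coe_apply, Module.End.one_apply]
      exact act_inv_act a w.1
    have hRb : Rb' * Rb = 1 := by
      ext w
      simp only [Rb, Rb', Module.End.mul_apply, LinearMap.restrict_coe_apply, Module.End.one_apply]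
      exact act_inv_act b w.1
    have hdetA : LinearMap.det Ra ≠ 0 := by
      intro h0
      have := congrArg LinearMap.det hRa
      rw [map_mul, h0, mul_zero, map_one] at this
      exact zero_ne_one this
    have hdetB : LinearMap.det Rb ≠ 0 := by
      intro h0
      have := congrArg LinearMap.det hRb
      rw [map_mul, h0, mul_zero, map_one] at this
      exact zero_ne_one this
    have hrel : Ra * Rb = χ ⁅a, b⁆ • (Rb * Ra) := by
      ext w
      simp only [Ra, Rb, Module.End.mul_apply, LinearMap.restrict_coe_apply, LinearMap.smul_apply,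
        Submodule.coe_smul]
      have hw' : actHom k A V b (actHom k A V a w.1) ∈ W₀ :=
        hW₀st b hb _ (hW₀st a ha _ w.2)
      rw [← hscal _ hab _ hw', ← Module.End.mul_apply, ← Module.End.mul_apply,
        ← Module.End.mul_apply, ← map_mul, ← map_mul, ← map_mul]
      congr 2
      rw [commutatorElement_def]
      group
    have hdet := congrArg LinearMap.det hrel
    rw [map_mul, LinearMap.det_smul, map_mul, ← hd] at hdet
    have h2 : (χ ⁅a, b⁆ ^ d - 1) * (LinearMap.det Rb * LinearMap.det Ra) = 0 := by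
      rw [sub_mul, one_mul, ← hdet]
      ring
    rcases mul_eq_zero.1 h2 with h3 | h3
    · exact sub_eq_zero.1 h3
    · exact absurd h3 (mul_ne_zero hdetB hdetA)
  -- Claim D
  have hD : ∀ h' ∈ ⁅H, H⁆, χ h' ^ d = 1 := by
    intro h' hh'
    have hh'' := hh'
    rw [Subgroup.commutator_def] at hh''
    have hcl : ∀ x, x ∈ Subgroup.closure {g | ∃ g₁ ∈ H, ∃ g₂ ∈ H, ⁅g₁, g₂⁆ = g} → x ∈ ⁅H, H⁆ := by
      intro x hx
      rw [Subgroup.commutator_def]
      exact hx
    induction hh'' using Subgroup.closure_induction with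
    | mem x hx =>
      obtain ⟨a, ha, b, hb, rfl⟩ := hx
      exact hC a ha b hb
    | one => rw [hone, one_pow]
    | mul x y hx hy ihx ihy =>
      rw [hmul x (hcl x hx) y (hcl y hy), mul_pow, ihx (hcl x hx), ihy (hcl y hy), one_mul]
    | inv x hx ihx =>
      have h1 := hmul x⁻¹ (Subgroup.inv_mem _ (hcl x hx)) x (hcl x hx)
      rw [inv_mul_cancel, hone] at h1
      have h2 := congrArg (· ^ d) h1
      simp only [one_pow, mul_pow, ihx (hcl x hx), mul_one] at h2
      exact h2.symm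
  -- Claim E
  have hE : ∀ h' ∈ ⁅H, H⁆, χ h' = 1 := by
    intro h' hh'
    let a : A := coeffMap (C := A) lam v
    have ha : ∀ g ∈ ⁅H, H⁆, g.ofConv a = χ g := by
      intro g hg
      simp only [a]
      rw [apply_coeffMap, hχ g hg, map_smul, hlam, smul_eq_mul, mul_one]
    let E : Finset k := (Polynomial.nthRoots d (1 : k)).toFinset
    have hEm : ∀ g ∈ ((⁅H, H⁆ : Subgroup (WithConv (A →ₐ[k] k))) : Set (WithConv (A →ₐ[k] k))),
        g.ofConv a ∈ E := by
      intro g hg
      rw [ha g hg, Multiset.mem_toFinset, Polynomial.mem_nthRoots hdpos]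
      exact hD g hg
    have h1 := eq_of_finite_values hH' a E hEm (x := h') (x₀ := 1) hh' (Subgroup.one_mem _)
    rw [ha h' hh', ha 1 (Subgroup.one_mem _), hone] at h1
    exact h1
  -- Claim F
  have hcommW : ∀ a ∈ H, ∀ b ∈ H, ∀ w ∈ W₀,
      actHom k A V a (actHom k A V b w) = actHom k A V b (actHom k A V a w) := by
    intro a ha b hb w hw
    have hab : ⁅a, b⁆ ∈ ⁅H, H⁆ := Subgroup.commutator_mem_commutator ha hb
    have hw' : actHom k A V b (actHom k A V a w) ∈ W₀ := hW₀st b hb _ (hW₀st a ha _ hw)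
    have h1 := hscal _ hab _ hw'
    rw [hE _ hab, one_smul] at h1
    rw [← h1, ← Module.End.mul_apply, ← Module.End.mul_apply,
      ← Module.End.mul_apply, ← map_mul, ← map_mul, ← map_mul]
    congr 2
    rw [commutatorElement_def]
    group
  -- Claim G
  refine ⟨v, hW₀U hvW, hv0, fun a ha => ?_⟩
  let Ra : Module.End k W₀ := (actHom k A V a).restrict (hW₀st a ha)
  obtain ⟨μ, hμ⟩ := Module.End.exists_eigenvalue Ra
  obtain ⟨w, hw⟩ := hμ.exists_hasEigenvector
  let Eμ : Submodule k V := W₀ ⊓ Module.End.eigenspace (actHom k A V a) μ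
  have hEμ : Eμ = W₀ := by
    apply hminimal Eμ
    · intro h0
      have hwE : (w : V) ∈ Eμ := by
        refine ⟨w.2, Module.End.mem_eigenspace_iff.2 ?_⟩
        have := Module.End.mem_eigenspace_iff.1 hw.1
        have h2 := congrArg Subtype.val this
        simpa [Ra, LinearMap.restrict_coe_apply] using h2
      rw [h0, Submodule.mem_bot] at hwE
      exact hw.2 (Subtype.ext hwE)
    · exact inf_le_left
    · intro b hb u hu
      refine ⟨hW₀st b hb u hu.1, Module.End.mem_eigenspace_iff.2 ?_⟩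
      rw [hcommW a ha b hb u hu.1, Module.End.mem_eigenspace_iff.1 hu.2, map_smul]
  refine ⟨μ, ?_⟩
  have : v ∈ Eμ := by rw [hEμ]; exact hvW
  exact Module.End.mem_eigenspace_iff.1 this.2

end Step

end Groth.Agent.Lib.Helper7.LK
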