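import Groth.Agent.Lib.Helper7.InvFrac1
import Groth.Agent.Lib.Helper7.HopfCartier

/-!
# Linearizations of the trivial line bundle are given by characters (helper7)
-/

universe u v w

open TensorProduct

namespace Groth.Agent.Lib.Helper7.Lin

open HopfRep Groth.Agent.Lib.Helper7.GenSubgp Groth.Agent.Lib.Helper7.Comod
  Groth.Agent.Lib.Helper7.Rosen Groth.Agent.Lib.Helper7.HopfDomain
  Groth.Agent.Lib.Helper7.InvFrac

section Dense

variable {k : Type u} [Field k] [IsAlgClosed k] {R : Type v} [CommRing R] [Algebra k R]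
  {S : Type w} [CommRing S] [Algebra k S]

/-- an element of `R ⊗ S` vanishing on all fibres over points of the reduced algebra of finite
type `S` is zero. -/
lemma eq_zero_of_forall_evR_red [Algebra.FiniteType k S] [IsReduced S] (z : R ⊗[k] S)
    (h : ∀ y : S →ₐ[k] k, evR y z = 0) : z = 0 := by
  apply eq_zero_of_forall_contr_eq_zero_of_dense
    (Set.range fun y : S →ₐ[k] k => y.toLinearMap)
  · intro t ht
    have h1 := mem_nilradical_of_forall_algHom (k := k) t (fun y => ht _ ⟨y, rfl⟩)
    exact (mem_nilradical.1 h1).eq_zero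
  · rintro _ ⟨y, rfl⟩
    rw [contr_eq_evR, h]

omit [IsAlgClosed k] in
/-- an element of `R ⊗ S` all of whose right contractions vanish is zero. -/
lemma eq_zero_of_forall_contr_eq_zero (z : R ⊗[k] S)
    (h : ∀ l : S →ₗ[k] k, contr R l z = 0) : z = 0 := by
  classical
  let b := Module.Basis.ofVectorSpace k S
  apply (TensorProduct.equivFinsuppOfBasisRight b).injective
  rw [map_zero]
  ext i
  rw [TensorProduct.equivFinsuppOfBasisRight_apply]
  exact h (b.coord i)

/-- an element of `R ⊗ S` vanishing on all fibres over points of the reduced algebra of finite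
type `R` is zero. -/
lemma eq_zero_of_forall_evL_red [Algebra.FiniteType k R] [IsReduced R] (z : R ⊗[k] S)
    (h : ∀ x : R →ₐ[k] k, evL x z = 0) : z = 0 := by
  apply eq_zero_of_forall_contr_eq_zero
  intro l
  have h1 := mem_nilradical_of_forall_algHom (k := k) (contr R l z) (fun x => by
    rw [apply_contr, h x, map_zero])
  exact (mem_nilradical.1 h1).eq_zero

/-- an element of an algebra of finite type not vanishing at any point is a unit. -/
lemma isUnit_of_forall_ne_zero [Algebra.FiniteType k R] (a : R)
    (h : ∀ x : R →ₐ[k] k, x a ≠ 0) : IsUnit a := by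
  by_contra hu
  have hne : Ideal.span {a} ≠ ⊤ := by
    rwa [Ne, Ideal.span_singleton_eq_top]
  obtain ⟨x, hx⟩ := exists_point_le_ker (k := k) _ hne
  exact h x (RingHom.mem_ker.1 (hx (Ideal.mem_span_singleton_self a)))

end Dense

section Dual

variable {k : Type u} [Field k] {V : Type v} [AddCommGroup V] [Module k V]

/-- a functional dual to a member of a linearly independent set. -/
lemma exists_dual_of_linearIndepOn {s : Set V} (hs : LinearIndepOn k id s) {v : V} (hv : v ∈ s) :
    ∃ l : V →ₗ[k] k, l v = 1 ∧ ∀ w ∈ s, w ≠ v → l w = 0 := by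
  classical
  let b := Module.Basis.extend hs
  have hsub := Module.Basis.subset_extend hs
  refine ⟨b.coord ⟨v, hsub hv⟩, ?_, ?_⟩
  · have h1 : b ⟨v, hsub hv⟩ = v := Module.Basis.extend_apply_self hs _
    have h2 : b.coord ⟨v, hsub hv⟩ (b ⟨v, hsub hv⟩) = 1 := by
      rw [Module.Basis.coord_apply, Module.Basis.repr_self, Finsupp.single_eq_same]
    rwa [h1] at h2
  · intro w hw hne
    have h1 : b ⟨w, hsub hw⟩ = w := Module.Basis.extend_apply_self hs _
    have h2 : b.coord ⟨v, hsub hv⟩ (b ⟨w, hsub hw⟩) = 0 := by
      rw [Module.Basis.coord_apply, Module.Basis.repr_self, Finsupp.single_eq_of_ne]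
      intro h
      apply hne
      have := congrArg Subtype.val h
      exact this.symm
    rwa [h1] at h2

end Dual

section Conn

lemma idem_of_connectedSpace {R : Type*} [CommRing R] [h : ConnectedSpace (PrimeSpectrum R)]
    (e : R) (he : IsIdempotentElem e) : e = 0 ∨ e = 1 := by
  have hpre := preconnectedSpace_iff_clopen.1 h.toPreconnectedSpace
  set s : TopologicalSpace.Clopens (PrimeSpectrum R) :=
    PrimeSpectrum.isIdempotentElemEquivClopens ⟨e, he⟩ with hs
  rcases hpre (s : Set (PrimeSpectrum R)) s.isClopen with h0 | h1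
  · left
    have : s = ⊥ := by
      apply SetLike.coe_injective
      rw [h0]
      rfl
    have h2 : PrimeSpectrum.isIdempotentElemEquivClopens.symm s = ⟨(0 : R), .zero⟩ := by
      rw [this]
      exact PrimeSpectrum.isIdempotentElemEquivClopens_symm_bot
    rw [hs, OrderIso.symm_apply_apply] at h2
    exact congrArg Subtype.val h2
  · right
    have : s = ⊤ := by
      apply SetLike.coe_injective
      rw [h1]
      rfl
    have h2 : PrimeSpectrum.isIdempotentElemEquivClopens.symm s = ⟨(1 : R), .one⟩ := by
      rw [this]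
      exact PrimeSpectrum.isIdempotentElemEquivClopens_symm_top
    rw [hs, OrderIso.symm_apply_apply] at h2
    exact congrArg Subtype.val h2

end Conn

section Cocycle

variable {k : Type u} [Field k] {A : Type v} [CommRing A] [HopfAlgebra k A]
  {R : Type w} [CommRing R] [Algebra k R] [HopfRep.Comod k A R] [GLin.IsCoactAlg k A R]
  (θ : R ⊗[k] A)

/-- the twisted coaction `r ↦ ρ(r)·θ`. -/
noncomputable def tw : R →ₗ[k] R ⊗[k] A :=
  (LinearMap.mulRight k θ) ∘ₗ HopfRep.Comod.coact (k := k) (A := A) (V := R)

lemma tw_apply (r : R) : tw θ r = GLin.coactAlgHom k A R r * θ := rfl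

lemma tw_one : tw θ (1 : R) = θ := by rw [tw_apply, map_one, one_mul]

lemma act_one (g : A →ₐ[k] k) : Comod.act k A R g 1 = 1 := by
  rw [act_eq_evR, map_one, map_one]

lemma evR_counit_eq (z : R ⊗[k] A) : evR (R := R) (Bialgebra.counitAlgHom k A) z =
    TensorProduct.rid k R ((Coalgebra.counit (R := k) (A := A)).lTensor R z) := by
  induction z using TensorProduct.induction_on with
  | zero => simp
  | tmul x y => simp
  | add x y hx hy => simp only [map_add, hx, hy]

lemma convOne_eq : (WithConv.ofConv (1 : WithConv (A →ₐ[k] k))) = Bialgebra.counitAlgHom k A := by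
  apply AlgHom.ext
  intro a
  simp [AlgHom.convOne_def]

variable
  (hassoc : (TensorProduct.assoc k R A A).toLinearMap ∘ₗ (tw θ).rTensor A ∘ₗ tw θ =
    (CoalgebraStruct.comul (R := k) (A := A)).lTensor R ∘ₗ tw θ)
  (hcounit : (CoalgebraStruct.counit (R := k) (A := A)).lTensor R ∘ₗ tw θ =
    (TensorProduct.mk k R k).flip 1)

include hcounit in
lemma evR_counit : evR (R := R) (Bialgebra.counitAlgHom k A) θ = 1 := by
  have h := LinearMap.congr_fun hcounit 1
  simp only [LinearMap.comp_apply, tw_one] at h
  rw [evR_counit_eq, h]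
  simp

include hassoc in
lemma assoc_eq : (TensorProduct.assoc k R A A) ((tw θ).rTensor A θ) =
    (CoalgebraStruct.comul (R := k) (A := A)).lTensor R θ := by
  have h1 := LinearMap.congr_fun hassoc 1
  simp only [LinearMap.comp_apply, tw_one, LinearEquiv.coe_coe] at h1
  exact h1

include hassoc in
lemma cocycle (g h : A →ₐ[k] k) :
    evR (R := R) (WithConv.toConv g * WithConv.toConv h).ofConv θ =
      Comod.act k A R g (evR h θ) * evR g θ := by
  have h1 := assoc_eq θ hassoc
  have h2 := contr_contr_assoc_symm (V := R) (WithConv.toConv g) (WithConv.toConv h) θ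
  rw [← h1, LinearEquiv.symm_apply_apply, contr_rTensor] at h2
  rw [← contr_eq_evR, ← h2]
  change contr R g.toLinearMap (tw θ (contr R h.toLinearMap θ)) = _
  rw [contr_eq_evR, contr_eq_evR, tw_apply, map_mul, ← act_eq_evR]

include hassoc hcounit in
lemma isUnit_evR (g : A →ₐ[k] k) : IsUnit (evR (R := R) g θ) := by
  have h := cocycle θ hassoc g ((WithConv.toConv g)⁻¹).ofConv
  rw [WithConv.toConv_ofConv, mul_inv_cancel, convOne_eq, evR_counit θ hcounit] at h
  exact IsUnit.of_mul_eq_one _ (by rw [mul_comm]; exact h.symm)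

end Cocycle

end Groth.Agent.Lib.Helper7.Lin
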