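import Groth.Agent.Lib.Helper7.Lin1

/-!
# Linearizations of the trivial line bundle are given by characters: the two cases (helper7)
-/

universe u v w

open TensorProduct

namespace Groth.Agent.Lib.Helper7.Lin

open HopfRep Groth.Agent.Lib.Helper7.GenSubgp Groth.Agent.Lib.Helper7.Comod
  Groth.Agent.Lib.Helper7.Rosen Groth.Agent.Lib.Helper7.HopfDomain
  Groth.Agent.Lib.Helper7.InvFrac

section Main

variable {k : Type u} [Field k] [IsAlgClosed k] {A : Type v} [CommRing A] [HopfAlgebra k A]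
  [Algebra.FiniteType k A]
  {R : Type w} [CommRing R] [Algebra k R] [Algebra.FiniteType k R] [HopfRep.Comod k A R]
  [GLin.IsCoactAlg k A R]

omit [IsAlgClosed k] [Algebra.FiniteType k A] [Algebra.FiniteType k R] in
/-- if `θ = 1 ⊗ χ` is a cocycle then `χ` is group-like (given a point of `R`). -/
lemma comul_of_eq_one_tmul (θ : R ⊗[k] A)
    (hassoc : (TensorProduct.assoc k R A A).toLinearMap ∘ₗ (tw θ).rTensor A ∘ₗ tw θ =
      (CoalgebraStruct.comul (R := k) (A := A)).lTensor R ∘ₗ tw θ)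
    (χ : A) (hθ : θ = (1 : R) ⊗ₜ[k] χ) (x₀ : R →ₐ[k] k) :
    Coalgebra.comul (R := k) χ = χ ⊗ₜ[k] χ := by
  have h1 := assoc_eq θ hassoc
  subst hθ
  rw [LinearMap.rTensor_tmul, tw_one, TensorProduct.assoc_tmul, LinearMap.lTensor_tmul] at h1
  have h2 := congrArg (evL (S := A ⊗[k] A) x₀) h1
  rw [evL_tmul, evL_tmul, map_one, one_smul, one_smul] at h2
  exact h2.symm

variable (θ : R ⊗[k] A)
  (hassoc : (TensorProduct.assoc k R A A).toLinearMap ∘ₗ (tw θ).rTensor A ∘ₗ tw θ =
    (CoalgebraStruct.comul (R := k) (A := A)).lTensor R ∘ₗ tw θ)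
  (hcounit : (CoalgebraStruct.counit (R := k) (A := A)).lTensor R ∘ₗ tw θ =
    (TensorProduct.mk k R k).flip 1)

include hassoc hcounit in
/-- the case where all units of `R` are scalars. -/
theorem case_units_R [IsReduced A] [Nontrivial R]
    (hR : ∀ u : Rˣ, (u : R) ∈ Set.range (algebraMap k R)) :
    ∃ χ : A, IsGroupLikeElem k χ ∧ θ = (1 : R) ⊗ₜ[k] χ := by
  obtain ⟨x₀, -⟩ := exists_point_le_ker (k := k) (⊥ : Ideal R) bot_ne_top
  obtain ⟨χ, hχ⟩ : ∃ χ : A, χ = evL (S := A) x₀ θ := ⟨_, rfl⟩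
  have hθ : θ = (1 : R) ⊗ₜ[k] χ := by
    rw [← sub_eq_zero]
    apply eq_zero_of_forall_evR_red (k := k)
    intro g
    rw [map_sub, evR_tmul, sub_eq_zero]
    obtain ⟨u, hu⟩ := isUnit_evR θ hassoc hcounit g
    obtain ⟨c, hc⟩ := hR u
    rw [hu] at hc
    have h1 : g χ = c := by
      rw [hχ, ← apply_evR, ← hc, AlgHom.commutes]
      rfl
    rw [h1, ← hc, Algebra.algebraMap_eq_smul_one]
  refine ⟨χ, ⟨?_, comul_of_eq_one_tmul θ hassoc χ hθ x₀⟩, hθ⟩
  have h := apply_evR x₀ (Bialgebra.counitAlgHom k A) θ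
  rw [evR_counit θ hcounit, map_one] at h
  rw [hχ]
  exact h.symm

include hassoc hcounit in
/-- the case where all units of `A` are scalar multiples of group-likes. -/
theorem case_units_A [IsReduced R] [Nontrivial R]
    (hconn : ∀ e : R, IsIdempotentElem e → e = 0 ∨ e = 1)
    (hA : ∀ u : Aˣ, ∃ (c : k) (χ : A), IsGroupLikeElem k χ ∧ (u : A) = c • χ) :
    ∃ χ : A, IsGroupLikeElem k χ ∧ θ = (1 : R) ⊗ₜ[k] χ := by
  have hgl : ∀ x : R →ₐ[k] k, IsGroupLikeElem k (evL (S := A) x θ) := by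
    intro x
    have hu : IsUnit (evL (S := A) x θ) := by
      apply isUnit_of_forall_ne_zero (k := k)
      intro g
      rw [← apply_evR]
      exact ((isUnit_evR θ hassoc hcounit g).map x).ne_zero
    obtain ⟨u, hu'⟩ := hu
    obtain ⟨c, χ, hχ, hcχ⟩ := hA u
    rw [hu'] at hcχ
    have hε : Coalgebra.counit (R := k) (evL (S := A) x θ) = 1 := by
      have h := apply_evR x (Bialgebra.counitAlgHom k A) θ
      rw [evR_counit θ hcounit, map_one] at h
      exact h.symm
    have hc : c = 1 := by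
      rw [hcχ, map_smul, hχ.counit_eq_one, smul_eq_mul, mul_one] at hε
      exact hε
    rw [hcχ, hc, one_smul]
    exact hχ
  obtain ⟨x₁, -⟩ := exists_point_le_ker (k := k) (⊥ : Ideal R) bot_ne_top
  obtain ⟨l, hl1, hl0⟩ := exists_dual_of_linearIndepOn (k := k)
    (linearIndepOn_isGroupLikeElem (R := k) (A := A)) (v := evL (S := A) x₁ θ) (hgl x₁)
  have hc01 : ∀ x : R →ₐ[k] k, x (contr R l θ) = 1 ∨ x (contr R l θ) = 0 := by
    intro x
    rw [apply_contr]
    by_cases h : evL (S := A) x θ = evL (S := A) x₁ θ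
    · left
      rw [h, hl1]
    · right
      exact hl0 _ (hgl x) h
  have hidem : IsIdempotentElem (contr R l θ) := by
    have h1 := mem_nilradical_of_forall_algHom (k := k)
      (contr R l θ * contr R l θ - contr R l θ) (fun x => by
        rw [map_sub, map_mul]
        rcases hc01 x with h | h <;> rw [h] <;> ring)
    have h2 := (mem_nilradical.1 h1).eq_zero
    exact sub_eq_zero.1 h2
  have hc1 : contr R l θ = 1 := by
    rcases hconn _ hidem with h | h
    · exfalso
      have h3 := apply_contr x₁ l θ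
      rw [h, map_zero, hl1] at h3
      exact zero_ne_one h3
    · exact h
  refine ⟨evL (S := A) x₁ θ, hgl x₁, ?_⟩
  rw [← sub_eq_zero]
  apply eq_zero_of_forall_evL_red (k := k)
  intro x
  rw [map_sub, evL_tmul, map_one, one_smul, sub_eq_zero]
  by_contra hne
  have h1 := apply_contr x l θ
  rw [hc1, map_one, hl0 _ (hgl x) hne] at h1
  exact one_ne_zero h1

end Main

end Groth.Agent.Lib.Helper7.Lin
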