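import Groth.Agent.Lib.Helper7.AdicLC2
import Groth.Agent.Lib.Helper7.HopfModLR

/-!
# Adic completeness of invariants of a Hopf module (helper7)

`A` a Noetherian comodule algebra over a linearly reductive group with `A^G` complete local,
`m` an invariant maximal ideal, `M` a finite Hopf module: `M^G` is separated and complete for the
filtration `(m^n M)^G`.
-/

universe u v w w'

open TensorProduct

namespace Groth.Agent.Lib.Helper7.LunaAdic

open HopfRep Groth.Agent.Lib.Helper7.Comod IsLocalRing

section Setup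

variable {k : Type u} [Field k] {H : Type v} [CommRing H] [Bialgebra k H]
variable {A : Type w} [CommRing A] [Algebra k A] [Comod k H A] [GLin.IsCoactAlg k H A]
variable {M : Type w'} [AddCommGroup M] [Module k M] [Module A M] [IsScalarTower k A M]
  [Comod k H M] [TameAct.IsHopfMod k H A M]

variable (k H A M) in
/-- The invariants of a Hopf module, as a module over the invariant ring. -/
def fixedSub : Submodule (GLin.invariants k H A) M where
  carrier := {x | x ∈ fixedPts k H M}
  add_mem' := fun {a b} ha hb => (fixedPts k H M).add_mem ha hb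
  zero_mem' := (fixedPts k H M).zero_mem
  smul_mem' := fun c x hx => by
    have hc : Comod.coact (k := k) (A := H) (c : A) = (c : A) ⊗ₜ[k] (1 : H) := c.2
    have hx' : Comod.coact (k := k) (A := H) x = x ⊗ₜ[k] (1 : H) := hx
    change Comod.coact (k := k) (A := H) ((c : A) • x) = ((c : A) • x) ⊗ₜ[k] (1 : H)
    rw [TameAct.IsHopfMod.coact_smul (k := k) (A := H) (B := A), hc, hx',
      TameAct.hmSMul_tmul, one_mul]

lemma mem_fixedSub {x : M} : x ∈ fixedSub k H A M ↔ x ∈ fixedPts k H M := Iff.rfl

theorem finite_fixedSub (hR : IsSemisimpleComod k H A) (hM : IsSemisimpleComod k H M)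
    [IsNoetherian A M] : Module.Finite (GLin.invariants k H A) (fixedSub k H A M) := by
  classical
  obtain ⟨s, hs, h⟩ := exists_finset_fixedPts_generating hR hM
  rw [Module.Finite.iff_fg]
  refine ⟨s, le_antisymm (Submodule.span_le.2 fun y hy => hs hy) fun m hm => ?_⟩
  obtain ⟨c, hc, hm'⟩ := h m hm
  rw [hm']
  refine Submodule.sum_mem _ fun y hy => ?_
  have : c y • y = (⟨c y, hc y⟩ : GLin.invariants k H A) • y := rfl
  rw [this]
  exact Submodule.smul_mem _ _ (Submodule.subset_span hy)

variable [IsLocalRing ↥(GLin.invariants k H A)]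

/-- An invariant element of a proper ideal is a non-unit of the invariant ring. -/
lemma mem_maximalIdeal_of_coe_mem {m : Ideal A} (hm : m ≠ ⊤) (r : GLin.invariants k H A)
    (hr : (r : A) ∈ m) : r ∈ maximalIdeal (GLin.invariants k H A) := by
  rw [mem_maximalIdeal, mem_nonunits_iff]
  intro hu
  apply hm
  rw [Ideal.eq_top_iff_one]
  obtain ⟨u, hu'⟩ := hu.exists_right_inv
  have : (r : A) * (u : A) = 1 := congrArg Subtype.val hu'
  rw [← this]
  exact m.mul_mem_right _ hr

/-- The maximal ideal of the invariants lies in every invariant maximal ideal. -/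
theorem coe_mem_of_mem_maximalIdeal (hR : IsSemisimpleComod k H A) (m : Ideal A) [m.IsMaximal]
    (hm : IsSubcomod (k := k) (A := H) (m.restrictScalars k))
    (r : GLin.invariants k H A) (hr : r ∈ maximalIdeal (GLin.invariants k H A)) :
    (r : A) ∈ m := by
  by_contra hrm
  obtain ⟨E, hE⟩ := exists_isReynolds hR
  obtain ⟨y, i, hi, hyi⟩ := Ideal.IsMaximal.exists_inv (inferInstance : m.IsMaximal) hrm
  have h1 : E (y * (r : A)) + E i = 1 := by
    rw [← map_add, hyi]
    exact (hE.2.2 1).2 (GLin.invariants k H A).one_mem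
  rw [IsReynolds.map_mul hR hE y r.2] at h1
  have hEi : E i ∈ m := IsReynolds.apply_mem_of_mem hR hE hm hi
  have hEi' : (⟨E i, hE.apply_mem i⟩ : GLin.invariants k H A) ∈
      maximalIdeal (GLin.invariants k H A) :=
    mem_maximalIdeal_of_coe_mem (Ideal.IsMaximal.ne_top inferInstance) _ hEi
  have hEy : (⟨E y, hE.apply_mem y⟩ : GLin.invariants k H A) * r ∈
      maximalIdeal (GLin.invariants k H A) := Ideal.mul_mem_left _ _ hr
  have h2 : (⟨E y, hE.apply_mem y⟩ : GLin.invariants k H A) * r + ⟨E i, hE.apply_mem i⟩ = 1 :=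
    Subtype.ext h1
  have h3 : (1 : GLin.invariants k H A) ∈ maximalIdeal (GLin.invariants k H A) := by
    rw [← h2]; exact Ideal.add_mem _ hEy hEi'
  exact (Ideal.ne_top_iff_one _).1 (Ideal.IsMaximal.ne_top inferInstance) h3

/-- (i): separatedness. -/
theorem eq_zero_of_forall_mem (hR : IsSemisimpleComod k H A) (hM : IsSemisimpleComod k H M)
    [IsNoetherianRing A] [Module.Finite A M] (m : Ideal A) [m.IsMaximal]
    (hm : IsSubcomod (k := k) (A := H) (m.restrictScalars k))
    {x : M} (hx : x ∈ fixedPts k H M) (h : ∀ n : ℕ, x ∈ (m ^ n • ⊤ : Submodule A M)) : x = 0 := by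
  obtain ⟨E, hE⟩ := exists_isReynolds hR
  obtain ⟨E', hE'⟩ := exists_isReynolds hM
  have h1 : x ∈ (⨅ n : ℕ, m ^ n • ⊤ : Submodule A M) := (Submodule.mem_iInf _).2 h
  obtain ⟨a, ha⟩ := (Ideal.mem_iInf_smul_pow_eq_bot_iff m x).1 h1
  have h2 : E' ((a : A) • x) = E (a : A) • x := IsReynolds.map_smul_of_mem hR hE hE' (a : A) hx
  rw [ha, (hE'.2.2 x).2 hx] at h2
  set e : GLin.invariants k H A := ⟨E (a : A), hE.apply_mem _⟩ with he
  have hem : e ∈ maximalIdeal (GLin.invariants k H A) :=
    mem_maximalIdeal_of_coe_mem (Ideal.IsMaximal.ne_top inferInstance) _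
      (IsReynolds.apply_mem_of_mem hR hE hm a.2)
  have hu : IsUnit (1 - e) := by
    by_contra hnu
    have : 1 - e ∈ maximalIdeal (GLin.invariants k H A) := (mem_maximalIdeal _).2 hnu
    have h1 : (1 : GLin.invariants k H A) ∈ maximalIdeal (GLin.invariants k H A) := by
      have := Ideal.add_mem _ this hem
      rwa [sub_add_cancel] at this
    exact (Ideal.ne_top_iff_one _).1 (Ideal.IsMaximal.ne_top inferInstance) h1
  obtain ⟨u, hu'⟩ := hu.exists_left_inv
  have h3 : ((1 - e : GLin.invariants k H A) : A) • x = 0 := by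
    change ((1 : A) - E (a : A)) • x = 0
    rw [sub_smul, one_smul, ← h2, sub_self]
  have h4 : (u : A) * ((1 - e : GLin.invariants k H A) : A) = 1 := congrArg Subtype.val hu'
  calc x = ((u : A) * ((1 - e : GLin.invariants k H A) : A)) • x := by rw [h4, one_smul]
    _ = 0 := by rw [mul_smul, h3, smul_zero]

end Setup

end Groth.Agent.Lib.Helper7.LunaAdic
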