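import Groth.Agent.Lib.Helper7.LunaAdic

universe u v w w'

open TensorProduct

namespace Groth.Agent.Lib.Helper7.LunaAdic

open HopfRep Groth.Agent.Lib.Helper7.Comod IsLocalRing

section Complete

variable {k : Type u} [Field k] {H : Type v} [CommRing H] [Bialgebra k H]
variable {A : Type w} [CommRing A] [Algebra k A] [Comod k H A] [GLin.IsCoactAlg k H A]
variable {M : Type w'} [AddCommGroup M] [Module k M] [Module A M] [IsScalarTower k A M]
  [Comod k H M] [TameAct.IsHopfMod k H A M]
variable [IsLocalRing ↥(GLin.invariants k H A)]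

/-- The filtration `(m^j M)^G` of the invariants. -/
def filt (m : Ideal A) (j : ℕ) : Submodule (GLin.invariants k H A) (fixedSub k H A M) :=
  Submodule.comap (fixedSub k H A M).subtype
    ((m ^ j • ⊤ : Submodule A M).restrictScalars (GLin.invariants k H A))

omit [IsLocalRing ↥(GLin.invariants k H A)] in
lemma mem_filt (m : Ideal A) (j : ℕ) (x : fixedSub k H A M) :
    x ∈ filt (k := k) (H := H) m j ↔ (x : M) ∈ (m ^ j • ⊤ : Submodule A M) := Iff.rfl

omit [IsLocalRing ↥(GLin.invariants k H A)] in
lemma antitone_filt (m : Ideal A) : Antitone (filt (k := k) (H := H) (M := M) m) := by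
  intro i j hij x hx
  rw [mem_filt] at hx ⊢
  exact Submodule.smul_mono_left (Ideal.pow_le_pow_right hij) hx

lemma pow_smul_le_filt (hR : IsSemisimpleComod k H A) (m : Ideal A) [m.IsMaximal]
    (hm : IsSubcomod (k := k) (A := H) (m.restrictScalars k)) (i : ℕ) :
    (maximalIdeal (GLin.invariants k H A) ^ i • ⊤ :
      Submodule (GLin.invariants k H A) (fixedSub k H A M)) ≤ filt (k := k) (H := H) m i := by
  have hmap : Ideal.map (GLin.invariants k H A).val.toRingHom
      (maximalIdeal (GLin.invariants k H A)) ≤ m := by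
    rw [Ideal.map_le_iff_le_comap]
    intro r hr
    exact coe_mem_of_mem_maximalIdeal hR m hm r hr
  rw [Submodule.smul_le]
  intro r hr n _
  rw [mem_filt]
  have h1 : (r : A) ∈ m ^ i := by
    have h2 : (GLin.invariants k H A).val.toRingHom r ∈
        Ideal.map (GLin.invariants k H A).val.toRingHom
          (maximalIdeal (GLin.invariants k H A) ^ i) := Ideal.mem_map_of_mem _ hr
    rw [Ideal.map_pow] at h2
    exact Ideal.pow_right_mono hmap i h2
  change (r : A) • (n : M) ∈ _
  exact Submodule.smul_mem_smul h1 Submodule.mem_top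

/-- (ii): completeness. -/
theorem exists_limit (hR : IsSemisimpleComod k H A) (hM : IsSemisimpleComod k H M)
    [IsNoetherianRing A] [Module.Finite A M]
    [IsNoetherianRing ↥(GLin.invariants k H A)]
    [IsPrecomplete (maximalIdeal ↥(GLin.invariants k H A)) ↥(GLin.invariants k H A)]
    (m : Ideal A) [m.IsMaximal]
    (hm : IsSubcomod (k := k) (A := H) (m.restrictScalars k))
    (x : ℕ → M) (hx : ∀ n, x n ∈ fixedPts k H M)
    (hc : ∀ n, x (n + 1) - x n ∈ (m ^ n • ⊤ : Submodule A M)) :
    ∃ y ∈ fixedPts k H M, ∀ n, y - x n ∈ (m ^ n • ⊤ : Submodule A M) := by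
  haveI : IsNoetherian A M := isNoetherian_of_isNoetherianRing_of_finite A M
  haveI : Module.Finite (GLin.invariants k H A) (fixedSub k H A M) := finite_fixedSub hR hM
  let x' : ℕ → fixedSub k H A M := fun n => ⟨x n, hx n⟩
  obtain ⟨y, hy⟩ := AdicLC.exists_limit_of_filtration (R := GLin.invariants k H A)
    (N := fixedSub k H A M) (filt (k := k) (H := H) m) (antitone_filt m)
    (pow_smul_le_filt hR m hm) x' (fun j => (mem_filt m j _).2 (hc j))
  exact ⟨y.1, y.2, fun n => (mem_filt m n _).1 (hy n)⟩

end Complete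

end Groth.Agent.Lib.Helper7.LunaAdic
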