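import Groth.Agent.Lib.Helper7.ComodCocomm
import Groth.Agent.Lib.Helper7.ComodExtSimple
import Groth.Agent.Lib.Helper7.ComodIsotypic
import Groth.Agent.Lib.Helper7.ChevalleyChar
import Groth.Agent.Lib.Helper7.UnipPart
import Groth.Agent.Lib.Helper7.HopfCoinv

/-!
# Lifting group-like elements along a surjection onto a diagonalizable Hopf algebra (helper7)
-/

set_option autoImplicit false

namespace Groth.Agent.Lib.Helper7.MT

open TensorProduct HopfRep Groth.Agent.Lib.Helper7.Comod Groth.Agent.Lib.Helper7.Chevalley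
  Groth.Agent.Lib.Helper7.UnipPart Groth.Agent.Lib.Helper7.HopfCoinv
  Groth.Agent.Lib.Helper7.HopfSub

universe u v w

section GLsec

variable {k : Type u} [Field k] {A : Type v} [AddCommGroup A] [Module k A] [Coalgebra k A]

/-- a nonzero eigenvector of the regular comodule is a nonzero multiple of a group-like. -/
lemma groupLike_of_comul_eq {w a : A} (hw : w ≠ 0)
    (h : Coalgebra.comul (R := k) w = w ⊗ₜ[k] a) :
    IsGroupLikeElem k a ∧ w = Coalgebra.counit (R := k) w • a ∧ Coalgebra.counit (R := k) w ≠ 0 := by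
  have h1 : w = Coalgebra.counit (R := k) w • a := by
    have := Coalgebra.rTensor_counit_comul (R := k) w
    rw [h, LinearMap.rTensor_tmul] at this
    have h' := congrArg (TensorProduct.lid k A) this
    simpa using h'.symm
  have hε : Coalgebra.counit (R := k) w ≠ 0 := by
    intro h0
    rw [h0, zero_smul] at h1
    exact hw h1
  have h2 : Coalgebra.counit (R := k) a = 1 := by
    have := Coalgebra.lTensor_counit_comul (R := k) w
    rw [h, LinearMap.lTensor_tmul] at this
    have h' := congrArg (TensorProduct.rid k A) this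
    rw [TensorProduct.rid_tmul, TensorProduct.rid_tmul, one_smul] at h'
    have h3 : (Coalgebra.counit (R := k) a - 1) • w = 0 := by rw [sub_smul, h', one_smul, sub_self]
    rcases smul_eq_zero.1 h3 with h4 | h4
    · exact sub_eq_zero.1 h4
    · exact absurd h4 hw
  have h3 : Coalgebra.comul (R := k) a = a ⊗ₜ[k] a := by
    have hc := Coalgebra.coassoc_apply (R := k) w
    rw [h, LinearMap.rTensor_tmul, LinearMap.lTensor_tmul, h, TensorProduct.assoc_tmul] at hc
    have h4 := congrArg (TensorProduct.lid k (A ⊗[k] A) ∘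
      (Coalgebra.counit (R := k) (A := A)).rTensor (A ⊗[k] A)) hc
    simp only [Function.comp_apply, LinearMap.rTensor_tmul, TensorProduct.lid_tmul] at h4
    have h5 := congrArg (fun z => (Coalgebra.counit (R := k) w)⁻¹ • z) h4
    simp only [smul_smul, inv_mul_cancel₀ hε, one_smul] at h5
    exact h5.symm
  exact ⟨⟨h2, h3⟩, h1, hε⟩

/-- the coordinate functional of a group-like element in a diagonalizable coalgebra. -/
lemma exists_coord_groupLike (hA : Submodule.span k {a : A | IsGroupLikeElem k a} = ⊤)
    {γ : A} (hγ : IsGroupLikeElem k γ) :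
    ∃ e : A →ₗ[k] k, e γ = 1 ∧
      CoalgDecomp.ctr A e ∘ₗ Coalgebra.comul (R := k) (A := A) = e.smulRight γ := by
  classical
  have hli : LinearIndependent k (fun g : {a : A | IsGroupLikeElem k a} => (g : A)) :=
    linearIndepOn_isGroupLikeElem (R := k) (A := A)
  have hsp : ⊤ ≤ Submodule.span k (Set.range (fun g : {a : A | IsGroupLikeElem k a} => (g : A))) := by
    rw [Subtype.range_coe_subtype]
    exact hA.ge
  let b : Module.Basis {a : A | IsGroupLikeElem k a} k A := Module.Basis.mk hli hsp
  have hb : ∀ g, b g = (g : A) := fun g => Module.Basis.mk_apply hli hsp g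
  let g : {a : A | IsGroupLikeElem k a} := ⟨γ, hγ⟩
  refine ⟨b.coord g, ?_, ?_⟩
  · have : γ = b g := (hb g).symm
    rw [this, Module.Basis.coord_apply, Module.Basis.repr_self, Finsupp.single_eq_same]
  · apply b.ext
    intro h
    have hh : IsGroupLikeElem k (h : A) := h.2
    rw [LinearMap.comp_apply, hb, hh.comul_eq_tmul_self, CoalgDecomp.ctr_tmul,
      LinearMap.smulRight_apply, ← hb h, Module.Basis.coord_apply, Module.Basis.repr_self]
    by_cases hgh : h = g
    · subst hgh; simp [hb, g]
    · rw [Finsupp.single_eq_of_ne (Ne.symm hgh), zero_smul, zero_smul]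

variable {V : Type w} [AddCommGroup V] [Module k V] [Comod k A V]

/-- the weight component of a vector. -/
lemma coact_ctr_coact_eq {γ : A} {e : A →ₗ[k] k}
    (he : CoalgDecomp.ctr A e ∘ₗ Coalgebra.comul (R := k) (A := A) = e.smulRight γ) (v : V) :
    Comod.coact (k := k) (A := A) (CoalgDecomp.ctr V e (Comod.coact (k := k) (A := A) v)) =
      CoalgDecomp.ctr V e (Comod.coact (k := k) (A := A) v) ⊗ₜ[k] γ := by
  have h1 := CoalgDecomp.coact_ctr_coact (R := k) (C := A) (V := V) e v
  have h3 : ∀ x : V ⊗[k] A, LinearMap.lTensor V (e.smulRight γ) x =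
      CoalgDecomp.ctr V e x ⊗ₜ[k] γ := by
    intro x
    induction x using TensorProduct.induction_on with
    | zero => simp
    | tmul u a => simp [TensorProduct.smul_tmul]
    | add a b ha hb => simp only [map_add, ha, hb, TensorProduct.add_tmul]
  rw [h1, he, h3]

end GLsec

section Lift

variable {K : Type u} [Field K] [IsAlgClosed K] {H : Type v} [CommRing H] [HopfAlgebra K H]
  [Coalgebra.IsCocomm K H] {C' : Type v} [CommRing C'] [Bialgebra K C']

/-- **Characters of a diagonalizable closed subgroup of a commutative affine group extend**: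
group-like elements lift along a surjection from a cocommutative Hopf algebra over an
algebraically closed field onto a diagonalizable bialgebra. -/
theorem exists_groupLike_lift (p : H →ₐc[K] C') (hp : Function.Surjective p)
    (hdiag : IsDiagonalizable K C') {γ : C'} (hγ : IsGroupLikeElem K γ) :
    ∃ χ : H, IsGroupLikeElem K χ ∧ p χ = γ := by
  obtain ⟨e, heγ, he⟩ := exists_coord_groupLike hdiag hγ
  obtain ⟨a, ha⟩ := hp γ
  let pc : H →ₗc[K] C' := (p : H →ₗc[K] C')
  let cH' : Comod K C' H := push pc (Comod.regular K H)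
  set v : H := CoalgDecomp.ctr H e (cH'.coact a) with hv
  have hv1 : cH'.coact v = v ⊗ₜ[K] γ := @coact_ctr_coact_eq K _ C' _ _ _ H _ _ cH' γ e he a
  -- `p v = γ`
  have hpv : p v = γ := by
    have h1 : cH'.coact a = (pc : H →ₗ[K] C').lTensor H (Coalgebra.comul (R := K) a) := rfl
    have h2 : ∀ z : H ⊗[K] H, p (CoalgDecomp.ctr H e ((pc : H →ₗ[K] C').lTensor H z)) =
        CoalgDecomp.ctr C' e (TensorProduct.map (p : H →ₗ[K] C') (p : H →ₗ[K] C') z) := by
      intro z
      induction z using TensorProduct.induction_on with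
      | zero => simp
      | tmul x y => simp [pc]
      | add x y hx hy => simp only [map_add, hx, hy]
    rw [hv, h1, h2, CoalgHomClass.map_comp_comul_apply p a]
    change CoalgDecomp.ctr C' e (Coalgebra.comul (R := K) (p a)) = γ
    rw [ha, hγ.comul_eq_tmul_self, CoalgDecomp.ctr_tmul, heγ, one_smul]
  have hγ0 : γ ≠ 0 := by
    intro h0
    have := hγ.counit_eq_one
    rw [h0, map_zero] at this
    exact zero_ne_one this
  have hv0 : v ≠ 0 := by
    intro h0
    rw [h0, map_zero] at hpv
    exact hγ0 hpv.symm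
  -- the weight space
  let W : Submodule K H := @eigenspace K C' _ _ _ H _ _ cH' γ
  have hW : ∀ w : H, w ∈ W ↔ cH'.coact w = w ⊗ₜ[K] γ := fun w => Iff.rfl
  have hWsub : IsSubcomod (k := K) (A := H) W := by
    rw [isSubcomod_iff_forall_fact]
    intro f w hw
    rw [hW] at hw ⊢
    have hcom := isComodHom_contr_coact_of_isCocomm (k := K) (C := H) (V := H) f
    have h1 := isComodHom_apply hcom w
    change Coalgebra.comul (R := K) (fact H f w) =
      (fact H f).rTensor H (Coalgebra.comul (R := K) w) at h1
    change (pc : H →ₗ[K] C').lTensor H (Coalgebra.comul (R := K) (fact H f w)) = _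
    rw [h1]
    have h2 : ∀ z : H ⊗[K] H, (pc : H →ₗ[K] C').lTensor H ((fact H f).rTensor H z) =
        (fact H f).rTensor C' ((pc : H →ₗ[K] C').lTensor H z) := by
      intro z
      induction z using TensorProduct.induction_on with
      | zero => simp
      | tmul x y => simp
      | add x y hx hy => simp only [map_add, hx, hy]
    rw [h2]
    have h3 : (pc : H →ₗ[K] C').lTensor H (Coalgebra.comul (R := K) w) = w ⊗ₜ[K] γ := hw
    rw [h3, LinearMap.rTensor_tmul]
  have hWne : W ≠ ⊥ := by
    intro h
    have : v ∈ W := (hW v).2 hv1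
    rw [h, Submodule.mem_bot] at this
    exact hv0 this
  obtain ⟨T, hTW, hT'⟩ := exists_isSimpleSub_le (k := K) (C := H) (V := H) hWsub hWne
  have hTs := isSimpleComod_restr hT'
  have hT1 : Module.finrank K ↥T = 1 :=
    @finrank_eq_one_of_isSimpleComod_of_isCocomm K _ H _ _ _ _ ↥T _ _
      (ComodSub.Comod.restr (Comod.regular K H) T hT'.1) _ hTs
  obtain ⟨t, ht0, htT⟩ := finrank_eq_one_iff'.1 hT1
  have hTspan : T = Submodule.span K {(t : H)} := by
    apply le_antisymm
    · intro x hx
      obtain ⟨c, hc⟩ := htT ⟨x, hx⟩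
      rw [Submodule.mem_span_singleton]
      exact ⟨c, congrArg Subtype.val hc⟩
    · rw [Submodule.span_singleton_le_iff_mem]
      exact t.2
  have htV : (t : H) ≠ 0 := fun h => ht0 (Subtype.ext h)
  obtain ⟨χ, hχ⟩ := exists_eq_tmul_of_mem_range (t : H) (Coalgebra.comul (R := K) (t : H))
    (hTspan ▸ hT'.1 (t : H) t.2)
  obtain ⟨hgl, ht1, hε⟩ := groupLike_of_comul_eq htV hχ
  refine ⟨χ, hgl, ?_⟩
  have hχW : χ ∈ W := by
    have h5 := congrArg (fun z => (Coalgebra.counit (R := K) (t : H))⁻¹ • z) ht1
    simp only [smul_smul, inv_mul_cancel₀ hε, one_smul] at h5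
    rw [← h5]
    exact W.smul_mem _ (hTW t.2)
  have h4 : (pc : H →ₗ[K] C').lTensor H (Coalgebra.comul (R := K) χ) = χ ⊗ₜ[K] γ := (hW χ).1 hχW
  rw [hgl.comul_eq_tmul_self, LinearMap.lTensor_tmul] at h4
  have hχ0 : χ ≠ 0 := by
    intro h0
    have := hgl.counit_eq_one
    rw [h0, map_zero] at this
    exact zero_ne_one this
  exact tmul_left_cancel hχ0 h4

end Lift

section Unique

variable {K : Type u} [Field K] {H : Type v} [CommRing H] [HopfAlgebra K H]

/-- a group-like element of the unipotent part is trivial. -/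
lemma eq_one_of_isGroupLikeElem_of_mem_fixFilt {χ : H} (hχ : IsGroupLikeElem K χ) :
    ∀ n : ℕ, χ ∈ fixFilt K H H n → χ = 1 := by
  have hχ0 : χ ≠ 0 := by
    intro h0
    have := hχ.counit_eq_one
    rw [h0, map_zero] at this
    exact zero_ne_one this
  intro n
  induction n with
  | zero =>
    intro h
    rw [fixFilt_zero, Submodule.mem_bot] at h
    exact absurd h hχ0
  | succ n ih =>
    intro h
    by_contra hne
    rw [fixFilt_succ, mem_nextFix] at h
    change Coalgebra.comul (R := K) χ - χ ⊗ₜ[K] (1 : H) ∈ _ at h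
    rw [hχ.comul_eq_tmul_self, ← TensorProduct.tmul_sub, mem_range_rTensor_iff_contr] at h
    obtain ⟨φ, hφ⟩ := exists_dual_eq_one (k := K) (sub_ne_zero.2 hne)
    have := h φ
    rw [contr_tmul, hφ, one_smul] at this
    exact hne (ih this)

/-- **No nontrivial character is trivial on the largest multiplicative subgroup**: a group-like
element congruent to `1` modulo an ideal contained in `B⁺H`, `B` the unipotent part, is `1`. -/
theorem eq_one_of_isGroupLikeElem_of_sub_mem [Coalgebra.IsCocomm K H] {χ : H}
    (hχ : IsGroupLikeElem K χ)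
    (h : χ - 1 ∈ augSpan (unipSub K H)) : χ = 1 := by
  have hmem : χ ∈ unipSub K H := by
    apply mem_of_comul_sub_mem (isHopfSub_unipSub (k := K) (A := H))
    rw [hχ.comul_eq_tmul_self, ← TensorProduct.tmul_sub]
    exact ⟨χ ⊗ₜ[K] ⟨χ - 1, h⟩, rfl⟩
  obtain ⟨n, hn⟩ := mem_unipSub.1 hmem
  exact eq_one_of_isGroupLikeElem_of_mem_fixFilt hχ n hn

end Unique

end Groth.Agent.Lib.Helper7.MT
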