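import Groth.Agent.Lib.Helper7.MT3

/-!
# A coalgebra section of a surjection onto a diagonalizable Hopf algebra (helper7)

`K` algebraically closed, `H` commutative cocommutative Hopf, `p : H → C'` surjective bialgebra
map onto a diagonalizable bialgebra, with `ker p ⊆ B⁺H` for the unipotent part `B`. Then `p`
restricted to the span of the group-like elements is bijective.
-/

set_option autoImplicit false

namespace Groth.Agent.Lib.Helper7.MT

open TensorProduct HopfRep Groth.Agent.Lib.Helper7.Comod Groth.Agent.Lib.Helper7.Chevalley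
  Groth.Agent.Lib.Helper7.UnipPart Groth.Agent.Lib.Helper7.HopfCoinv
  Groth.Agent.Lib.Helper7.HopfSub

universe u v w

section KLevel

variable {K : Type u} [Field K] {H : Type v} [CommRing H] [HopfAlgebra K H]
  [Coalgebra.IsCocomm K H] {C' : Type v} [CommRing C'] [Bialgebra K C']

variable (K H) in
/-- the span of the group-like elements. -/
def glSpan : Submodule K H := Submodule.span K {a : H | IsGroupLikeElem K a}

lemma groupLike_inj (p : H →ₐc[K] C')
    (hker : RingHom.ker (p : H →+* C') ≤ augSpan (unipSub K H))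
    {χ₁ χ₂ : H} (h₁ : IsGroupLikeElem K χ₁) (h₂ : IsGroupLikeElem K χ₂) (h : p χ₁ = p χ₂) :
    χ₁ = χ₂ := by
  have hgl : IsGroupLikeElem K (χ₁ * HopfAlgebra.antipode K χ₂) :=
    h₁.mul (IsGroupLikeElem.antipode h₂)
  have h1 : p (χ₁ * HopfAlgebra.antipode K χ₂) = 1 := by
    rw [map_mul, h, ← map_mul, h₂.mul_antipode_cancel, map_one]
  have h2 : χ₁ * HopfAlgebra.antipode K χ₂ - 1 ∈ augSpan (unipSub K H) := by
    apply hker
    rw [RingHom.mem_ker]
    change p (χ₁ * HopfAlgebra.antipode K χ₂ - 1) = 0
    rw [map_sub, h1, map_one, sub_self]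
  have h3 := eq_one_of_isGroupLikeElem_of_sub_mem hgl h2
  calc χ₁ = χ₁ * (HopfAlgebra.antipode K χ₂ * χ₂) := by
        rw [h₂.antipode_mul_cancel, mul_one]
    _ = (χ₁ * HopfAlgebra.antipode K χ₂) * χ₂ := by ring
    _ = χ₂ := by rw [h3, one_mul]

lemma eq_zero_of_mem_glSpan (p : H →ₐc[K] C')
    (hker : RingHom.ker (p : H →+* C') ≤ augSpan (unipSub K H))
    {z : H} (hz : z ∈ glSpan K H) (hpz : p z = 0) : z = 0 := by
  classical
  rw [glSpan, Finsupp.mem_span_iff_linearCombination] at hz
  obtain ⟨l, rfl⟩ := hz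
  have hli' : LinearIndependent K (fun g : {a : C' | IsGroupLikeElem K a} => (g : C')) :=
    linearIndepOn_isGroupLikeElem (R := K) (A := C')
  let φ : {a : H | IsGroupLikeElem K a} → {a : C' | IsGroupLikeElem K a} :=
    fun χ => ⟨p χ.1, χ.2.map p⟩
  have hφ : Function.Injective φ := by
    intro χ₁ χ₂ h
    apply Subtype.ext
    exact groupLike_inj p hker χ₁.2 χ₂.2 (congrArg Subtype.val h)
  have hli := hli'.comp φ hφ
  have h1 : Finsupp.linearCombination K
      ((fun g : {a : C' | IsGroupLikeElem K a} => (g : C')) ∘ φ) l = 0 := by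
    rw [← hpz, Finsupp.linearCombination_apply, Finsupp.linearCombination_apply, Finsupp.sum,
      Finsupp.sum, map_sum]
    apply Finset.sum_congr rfl
    intro χ _
    rw [map_smul]
    rfl
  have h2 := linearIndependent_iff.1 hli l h1
  rw [h2, map_zero]

variable [IsAlgClosed K]

theorem exists_section (p : H →ₐc[K] C') (hp : Function.Surjective p)
    (hdiag : IsDiagonalizable K C') :
    ∃ sK : C' →ₗ[K] H, (∀ y, p (sK y) = y) ∧ (∀ y, sK y ∈ glSpan K H) ∧
      (∀ y, Coalgebra.comul (R := K) (sK y) = TensorProduct.map sK sK (Coalgebra.comul (R := K) y)) ∧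
      (∀ y, Coalgebra.counit (R := K) (sK y) = Coalgebra.counit (R := K) y) := by
  classical
  have hli : LinearIndependent K (fun g : {a : C' | IsGroupLikeElem K a} => (g : C')) :=
    linearIndepOn_isGroupLikeElem (R := K) (A := C')
  have hsp : ⊤ ≤ Submodule.span K (Set.range (fun g : {a : C' | IsGroupLikeElem K a} => (g : C'))) := by
    rw [Subtype.range_coe_subtype]
    exact (show Submodule.span K {a : C' | IsGroupLikeElem K a} = ⊤ from hdiag).ge
  let b : Module.Basis {a : C' | IsGroupLikeElem K a} K C' := Module.Basis.mk hli hsp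
  have hb : ∀ g, b g = (g : C') := fun g => Module.Basis.mk_apply hli hsp g
  have hl : ∀ g : {a : C' | IsGroupLikeElem K a}, ∃ χ : H, IsGroupLikeElem K χ ∧ p χ = (g : C') :=
    fun g => exists_groupLike_lift p hp hdiag g.2
  choose lift hlgl hlp using hl
  let sK : C' →ₗ[K] H := b.constr K lift
  have hsb : ∀ g, sK (b g) = lift g := fun g => b.constr_basis K lift g
  refine ⟨sK, ?_, ?_, ?_, ?_⟩
  · intro y
    have : (p : H →ₗ[K] C') ∘ₗ sK = LinearMap.id := by
      apply b.ext
      intro g
      rw [LinearMap.comp_apply, hsb, LinearMap.id_apply, hb]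
      exact hlp g
    exact LinearMap.congr_fun this y
  · intro y
    have : LinearMap.range sK ≤ glSpan K H := by
      rw [b.constr_range, glSpan]
      apply Submodule.span_mono
      rintro _ ⟨g, rfl⟩
      exact hlgl g
    exact this ⟨y, rfl⟩
  · intro y
    have : Coalgebra.comul (R := K) ∘ₗ sK =
        TensorProduct.map sK sK ∘ₗ Coalgebra.comul (R := K) := by
      apply b.ext
      intro g
      have hg : IsGroupLikeElem K (g : C') := g.2
      rw [LinearMap.comp_apply, LinearMap.comp_apply, hsb, (hlgl g).comul_eq_tmul_self, hb,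
        hg.comul_eq_tmul_self, TensorProduct.map_tmul, ← hb, hsb]
    exact LinearMap.congr_fun this y
  · intro y
    have : Coalgebra.counit (R := K) ∘ₗ sK = Coalgebra.counit (R := K) := by
      apply b.ext
      intro g
      have hg : IsGroupLikeElem K (g : C') := g.2
      rw [LinearMap.comp_apply, hsb, (hlgl g).counit_eq_one, hb, hg.counit_eq_one]
    exact LinearMap.congr_fun this y

end KLevel

end Groth.Agent.Lib.Helper7.MT
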