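import Groth.Agent.Lib.Helper7.MT5
import Groth.Agent.Lib.Helper7.HopfRetract
import Groth.Agent.Lib.Helper7.UE2
import Groth.Agent.Lib.Helper7.TS1

/-!
# Complements: the kernel of a retraction onto the multiplicative part is unipotent (helper7)
-/

set_option autoImplicit false

namespace Groth.Agent.Lib.Helper7.MT

open TensorProduct HopfRep WithConv Bialgebra Groth.Agent.Lib.Helper7.Comod
  Groth.Agent.Lib.Helper7.UnipPart Groth.Agent.Lib.Helper7.HopfCoinv
  Groth.Agent.Lib.Helper7.HopfSub Groth.Agent.Lib.Helper7.BCR Groth.Agent.Lib.Helper7.DiagCocomm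
  Groth.Agent.Lib.Helper7.UnipQuot Groth.Agent.Lib.Helper7.UnipBC
  Groth.Agent.Lib.Helper7.HopfRetract Groth.Agent.Lib.Helper7.UnipExt
  Groth.Agent.Lib.Helper7.TS

universe u v

section Trivial

variable {k : Type u} {K : Type u} [Field k] [Field K] [Algebra k K]
  {P Q : Type u} [CommRing P] [Bialgebra k P] [CommRing Q] [Bialgebra k Q]

/-- a bialgebra map from a (potentially) diagonalizable bialgebra to a unipotent one is trivial. -/
theorem bialgHom_trivial_of_diag_unip (hdiag : IsDiagonalizable K (K ⊗[k] P))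
    (hQ : IsUnipotent k Q) (φ : P →ₐc[k] Q) (x : P) :
    φ x = algebraMap k Q (Coalgebra.counit (R := k) x) := by
  let φK : K ⊗[k] P →ₐc[K] K ⊗[k] Q := Bialgebra.TensorProduct.map (BialgHom.id K K) φ
  have hφK : ∀ (c : K) (a : P), φK (c ⊗ₜ[k] a) = c ⊗ₜ[k] φ a := fun _ _ => rfl
  have hQK : IsUnipotent K (K ⊗[k] Q) := isUnipotent_baseChange hQ
  have h1 : ∀ y : K ⊗[k] P, φK y = Coalgebra.counit (R := K) y • (1 : K ⊗[k] Q) := by
    intro y
    have hy : y ∈ Submodule.span K {a : K ⊗[k] P | IsGroupLikeElem K a} := by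
      rw [show Submodule.span K {a : K ⊗[k] P | IsGroupLikeElem K a} = ⊤ from hdiag]; trivial
    induction hy using Submodule.span_induction with
    | mem γ hγ =>
      have hγ' : IsGroupLikeElem K γ := hγ
      rw [groupLike_eq_one_of_isUnipotent hQK (hγ'.map φK), hγ'.counit_eq_one, one_smul]
    | zero => simp
    | add y z _ _ hy hz => rw [map_add, hy, hz, map_add, add_smul]
    | smul c y _ hy => rw [map_smul, hy, map_smul, smul_assoc]
  have h2 := h1 ((1 : K) ⊗ₜ[k] x)
  rw [hφK, TensorProduct.counit_tmul] at h2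
  simp only [CommSemiring.counit_apply] at h2
  apply one_tmul_injective (k := k) (K := K) Q
  change (1 : K) ⊗ₜ[k] φ x = (1 : K) ⊗ₜ[k] algebraMap k Q (Coalgebra.counit (R := k) x)
  rw [h2, Algebra.TensorProduct.one_def, TensorProduct.smul_tmul', smul_assoc, one_smul,
    Algebra.algebraMap_eq_smul_one, TensorProduct.tmul_smul, TensorProduct.smul_tmul']

end Trivial

section Tau

variable {k : Type u} [Field k] {E R : Type u} [CommRing E] [HopfAlgebra k E]
  [Coalgebra.IsCocomm k E] [CommRing R] [Bialgebra k R]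
  (σ : R →ₐc[k] E) (π : E →ₐc[k] R) (hπσ : ∀ x, π (σ x) = x)

omit [Coalgebra.IsCocomm k E] in
/-- `q ∘ τ = q` for the quotient by the kernel ideal. -/
theorem mk_comp_tau :
    (Ideal.Quotient.mkₐ k (kerIdeal σ)).comp (tau σ π) = Ideal.Quotient.mkₐ k (kerIdeal σ) := by
  rw [tau, AlgHom.comp_convMul_distrib, AlgHom.comp_id]
  have h1 : (Ideal.Quotient.mkₐ k (kerIdeal σ)).comp
      ((gHom σ π).comp (HopfAlgebra.antipodeAlgHom k E)) =
      (1 : WithConv (E →ₐ[k] E ⧸ kerIdeal σ)).ofConv := by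
    have h2 : (Ideal.Quotient.mkₐ k (kerIdeal σ)).comp (gHom σ π) =
        (1 : WithConv (E →ₐ[k] E ⧸ kerIdeal σ)).ofConv := by
      rw [gHom, ← AlgHom.comp_assoc, mk_comp_section, HopfConv.convOne_comp_bialgHom]
    rw [← AlgHom.comp_assoc, h2]
    ext x
    simp [AlgHom.convOne_def]
  rw [h1, toConv_ofConv, one_mul, ofConv_toConv]

include hπσ in
/-- `τ` lands in the coinvariants of `π`. -/
theorem map_comul_tau :
    ((Algebra.TensorProduct.map (AlgHom.id k E) (π : E →ₐ[k] R)).comp (comulAlgHom k E)).comp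
      (tau σ π) = (Algebra.TensorProduct.includeLeft : E →ₐ[k] E ⊗[k] R).comp (tau σ π) := by
  let gB : E →ₐc[k] E := σ.comp π
  have hg : (gB : E →ₐ[k] E) = gHom σ π := rfl
  set ι₁ : E →ₐ[k] E ⊗[k] R := Algebra.TensorProduct.includeLeft with hι₁
  set ι₂ : R →ₐ[k] E ⊗[k] R := Algebra.TensorProduct.includeRight with hι₂
  set S := HopfAlgebra.antipodeAlgHom k E with hS
  set u : E →ₐ[k] E ⊗[k] R :=
    (Algebra.TensorProduct.map (AlgHom.id k E) (π : E →ₐ[k] R)).comp (comulAlgHom k E) with hu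
  have hu' : u = (toConv (ι₁.comp (AlgHom.id k E)) * toConv (ι₂.comp (π : E →ₐ[k] R))).ofConv :=
    map_comp_comul_eq _ _
  rw [AlgHom.comp_id] at hu'
  have hπg : (π : E →ₐ[k] R).comp (gHom σ π) = (π : E →ₐ[k] R) := by
    ext x
    simp [gHom, hπσ]
  have hug : u.comp (gHom σ π) =
      (toConv (ι₁.comp (gHom σ π)) * toConv (ι₂.comp (π : E →ₐ[k] R))).ofConv := by
    rw [hu', ← hg, AlgHom.convMul_comp_bialgHom_distrib, hg, AlgHom.comp_assoc, hπg]
  -- both sides as convolution products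
  have hdist : ∀ v : E →ₐ[k] E ⊗[k] R, v.comp (tau σ π) =
      (toConv ((v.comp (gHom σ π)).comp S) * toConv v).ofConv := by
    intro v
    rw [tau, AlgHom.comp_convMul_distrib, AlgHom.comp_id, ← AlgHom.comp_assoc]
  have hL := hdist u
  have hR := hdist ι₁
  rw [hL, hR]
  congr 1
  set a := toConv (ι₁.comp (gHom σ π)) with ha
  set a' := toConv ((ι₁.comp (gHom σ π)).comp S) with ha'
  set p := toConv (ι₂.comp (π : E →ₐ[k] R)) with hp
  set i := toConv ι₁ with hi
  set w' := toConv ((u.comp (gHom σ π)).comp S) with hw'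
  have hw : toConv (u.comp (gHom σ π)) = a * p := by rw [hug, toConv_ofConv]
  have hui : toConv u = i * p := by rw [hu', toConv_ofConv]
  have h1 : w' * (a * p) = 1 := by
    rw [← hw]; exact HopfConv.antipode_mul_self _
  have h2 : a * a' = 1 := HopfConv.self_mul_antipode _
  rw [hui]
  calc w' * (i * p) = w' * (i * p) * (a * a') := by rw [h2, mul_one]
    _ = (w' * (a * p)) * (a' * i) := by ac_rfl
    _ = a' * i := by rw [h1, one_mul]

end Tau

end Groth.Agent.Lib.Helper7.MT
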