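import Mathlib

/-!
# From an idempotent-twisted multiplicative matrix to a matrix corepresentation (helper7)
-/

set_option autoImplicit false
universe u v
open TensorProduct

namespace Groth.Agent.Lib.Helper7.MultMat

variable {R : Type u} [CommRing R] {A : Type v} [CommRing A] [HopfAlgebra R A] {n : ℕ}

theorem exists_corep (M : Matrix (Fin n) (Fin n) A) (p : Matrix (Fin n) (Fin n) R)
    (h1 : ∀ k j, Coalgebra.comul (R := R) (M k j) = ∑ l, M l j ⊗ₜ[R] M k l)
    (h2 : ∀ k j, Coalgebra.counit (R := R) (M k j) = p k j)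
    (h3 : ∀ k j, ∑ i, p k i • M i j = M k j)
    (h4 : ∀ k j, ∑ l, p l j • M k l = M k j) :
    ∃ a : Matrix (Fin n) (Fin n) A,
      (∀ i j, Coalgebra.comul (R := R) (a i j) = ∑ l, a i l ⊗ₜ[R] a l j) ∧
      (∀ i j, Coalgebra.counit (R := R) (a i j) = if i = j then 1 else 0) ∧
      (∃ u : A, u * a.det = 1) ∧
      ∀ k j, M k j ∈ Algebra.adjoin R (Set.range (fun q : Fin n × Fin n => a q.1 q.2)) := by
  classical
  set P' : Matrix (Fin n) (Fin n) A := p.map (algebraMap R A) with hP'
  set a' : Matrix (Fin n) (Fin n) A := M + 1 - P' with ha'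
  -- ring homs
  set D : A →+* A ⊗[R] A := (Bialgebra.comulAlgHom R A).toRingHom with hD
  set i₁ : A →+* A ⊗[R] A := (Algebra.TensorProduct.includeLeft : A →ₐ[R] A ⊗[R] A).toRingHom with hi₁
  set i₂ : A →+* A ⊗[R] A := (Algebra.TensorProduct.includeRight : A →ₐ[R] A ⊗[R] A).toRingHom with hi₂
  set P₂ : Matrix (Fin n) (Fin n) (A ⊗[R] A) := p.map (algebraMap R (A ⊗[R] A)) with hP₂
  have hPD : P'.map D = P₂ := by
    ext i j
    simp only [hP', hP₂, Matrix.map_apply, hD]
    exact (Bialgebra.comulAlgHom R A).commutes _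
  have hP1 : P'.map i₁ = P₂ := by
    ext i j
    simp only [hP', hP₂, Matrix.map_apply, hi₁]
    exact (Algebra.TensorProduct.includeLeft : A →ₐ[R] A ⊗[R] A).commutes _
  have hP2 : P'.map i₂ = P₂ := by
    ext i j
    simp only [hP', hP₂, Matrix.map_apply, hi₂]
    exact (Algebra.TensorProduct.includeRight : A →ₐ[R] A ⊗[R] A).commutes _
  have H3 : P' * M = M := by
    ext k j
    rw [Matrix.mul_apply, ← h3 k j]
    refine Finset.sum_congr rfl (fun i _ => ?_)
    rw [hP', Matrix.map_apply, Algebra.smul_def]
  have H4 : M * P' = M := by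
    ext k j
    rw [Matrix.mul_apply, ← h4 k j]
    refine Finset.sum_congr rfl (fun i _ => ?_)
    rw [hP', Matrix.map_apply, Algebra.smul_def, mul_comm]
  have H5 : P' * P' = P' := by
    ext k j
    rw [Matrix.mul_apply]
    simp only [hP', Matrix.map_apply]
    rw [← h2 k j, ← h3 k j, map_sum, map_sum]
    refine Finset.sum_congr rfl (fun i _ => ?_)
    rw [map_smul, h2, smul_eq_mul, map_mul]
  have H1 : M.map D = M.map i₂ * M.map i₁ := by
    ext k j
    rw [Matrix.map_apply, Matrix.mul_apply]
    change Coalgebra.comul (R := R) (M k j) = _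
    rw [h1]
    refine Finset.sum_congr rfl (fun l _ => ?_)
    simp only [Matrix.map_apply, hi₁, hi₂]
    change _ = ((1 : A) ⊗ₜ[R] M k l) * (M l j ⊗ₜ[R] (1 : A))
    rw [Algebra.TensorProduct.tmul_mul_tmul, one_mul, mul_one]
  have Ha : a'.map D = a'.map i₂ * a'.map i₁ := by
    have e1 : a'.map D = M.map D + 1 - P₂ := by
      rw [ha', Matrix.map_sub, Matrix.map_add, Matrix.map_one, hPD]
      · exact map_zero D
      · exact map_one D
      · exact fun x y => map_add D x y
      · exact fun x y => map_sub D x y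
    have e2 : a'.map i₂ = M.map i₂ + 1 - P₂ := by
      rw [ha', Matrix.map_sub, Matrix.map_add, Matrix.map_one, hP2]
      · exact map_zero i₂
      · exact map_one i₂
      · exact fun x y => map_add i₂ x y
      · exact fun x y => map_sub i₂ x y
    have e3 : a'.map i₁ = M.map i₁ + 1 - P₂ := by
      rw [ha', Matrix.map_sub, Matrix.map_add, Matrix.map_one, hP1]
      · exact map_zero i₁
      · exact map_one i₁
      · exact fun x y => map_add i₁ x y
      · exact fun x y => map_sub i₁ x y
    have f1 : M.map i₂ * P₂ = M.map i₂ := by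
      rw [← hP2, ← Matrix.map_mul, H4]
    have f2 : P₂ * M.map i₁ = M.map i₁ := by
      rw [← hP1, ← Matrix.map_mul, H3]
    have f3 : P₂ * P₂ = P₂ := by
      rw [← hP1, ← Matrix.map_mul, H5]
    rw [e1, e2, e3, H1]
    simp only [add_mul, sub_mul, mul_add, mul_sub, mul_one, one_mul, f1, f2, f3]
    abel
  have Hent : ∀ i j, Coalgebra.comul (R := R) (a' i j) = ∑ l, a' l j ⊗ₜ[R] a' i l := by
    intro i j
    have := congrFun (congrFun Ha i) j
    rw [Matrix.map_apply, Matrix.mul_apply] at this
    change Coalgebra.comul (R := R) (a' i j) = _ at this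
    rw [this]
    refine Finset.sum_congr rfl (fun l _ => ?_)
    simp only [Matrix.map_apply, hi₁, hi₂]
    change ((1 : A) ⊗ₜ[R] a' i l) * (a' l j ⊗ₜ[R] (1 : A)) = _
    rw [Algebra.TensorProduct.tmul_mul_tmul, one_mul, mul_one]
  have Hcounit : ∀ i j, Coalgebra.counit (R := R) (a' i j) = if i = j then 1 else 0 := by
    intro i j
    rw [ha', Matrix.sub_apply, Matrix.add_apply, map_sub, map_add, h2, hP', Matrix.map_apply,
      Matrix.one_apply]
    have : Coalgebra.counit (R := R) (algebraMap R A (p i j)) = p i j := by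
      have := (Bialgebra.counitAlgHom R A).commutes (p i j)
      simpa using this
    rw [this]
    split_ifs
    · simp
    · simp
  refine ⟨a'.transpose, ?_, ?_, ?_, ?_⟩
  · intro i j
    simp only [Matrix.transpose_apply]
    exact Hent j i
  · intro i j
    simp only [Matrix.transpose_apply]
    rw [Hcounit j i]
    simp only [eq_comm]
  · refine ⟨(a'.map (HopfAlgebra.antipode R (A := A))).det, ?_⟩
    rw [Matrix.det_transpose, ← Matrix.det_mul]
    have : a'.map (HopfAlgebra.antipode R (A := A)) * a' = 1 := by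
      ext k j
      rw [Matrix.mul_apply, Matrix.one_apply]
      have h := HopfAlgebra.mul_antipode_lTensor_comul_apply (R := R) (a' k j)
      rw [Hent, map_sum, map_sum] at h
      simp only [LinearMap.lTensor_tmul, LinearMap.mul'_apply] at h
      rw [Hcounit] at h
      simp only [Matrix.map_apply]
      rw [← Finset.sum_congr rfl (fun l _ => mul_comm (a' l j) _), h]
      split_ifs <;> simp
    rw [this, Matrix.det_one]
  · intro k j
    have e : M k j = a'.transpose j k - (1 : Matrix (Fin n) (Fin n) A) k j +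
        algebraMap R A (p k j) := by
      rw [Matrix.transpose_apply, ha', Matrix.sub_apply, Matrix.add_apply, hP', Matrix.map_apply]
      abel
    rw [e]
    refine Subalgebra.add_mem _ (Subalgebra.sub_mem _ (Algebra.subset_adjoin ⟨(j, k), rfl⟩) ?_)
      (Subalgebra.algebraMap_mem _ _)
    rw [Matrix.one_apply]
    split_ifs
    · exact Subalgebra.one_mem _
    · exact Subalgebra.zero_mem _

end Groth.Agent.Lib.Helper7.MultMat
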