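import Groth.Agent.Lib.Helper7.NQ2
import Groth.Agent.Lib.Helper7.HopfGLn

set_option autoImplicit false

namespace Groth.Agent.Lib.Helper7.NormalQuot

open TensorProduct WithConv HopfRep Groth.Agent.Lib.Helper7.HopfConv
  Groth.Agent.Lib.Helper7.HopfSub Groth.Agent.Lib.Helper7.NormalKer
  Groth.Agent.Lib.Helper7.NormalFix Groth.Agent.Lib.Helper7.HopfMap
  Groth.Agent.Lib.Helper7.HopfCoinv Groth.Agent.Lib.Helper7.HopfSubGen
  Groth.Agent.Lib.Helper7.HopfGLn

universe u v

section Aug

variable {k : Type u} [Field k] {A : Type v} [CommRing A] [HopfAlgebra k A]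

/-- the subalgebra `k + I`. -/
def augSubalgebra (I : Ideal A) : Subalgebra k A where
  carrier := {x | x - algebraMap k A (Coalgebra.counit (R := k) x) ∈ I}
  mul_mem' {x y} hx hy := by
    have : x * y - algebraMap k A (Coalgebra.counit (R := k) (x * y)) =
        (x - algebraMap k A (Coalgebra.counit (R := k) x)) * y +
          algebraMap k A (Coalgebra.counit (R := k) x) *
            (y - algebraMap k A (Coalgebra.counit (R := k) y)) := by
      rw [Bialgebra.counit_mul, map_mul]; ring
    change x * y - algebraMap k A (Coalgebra.counit (R := k) (x * y)) ∈ I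
    rw [this]
    exact I.add_mem (I.mul_mem_right _ hx) (I.mul_mem_left _ hy)
  add_mem' {x y} hx hy := by
    have : x + y - algebraMap k A (Coalgebra.counit (R := k) (x + y)) =
        (x - algebraMap k A (Coalgebra.counit (R := k) x)) +
            (y - algebraMap k A (Coalgebra.counit (R := k) y)) := by
      rw [map_add, map_add]; ring
    change x + y - algebraMap k A (Coalgebra.counit (R := k) (x + y)) ∈ I
    rw [this]
    exact I.add_mem hx hy
  algebraMap_mem' c := by
    change algebraMap k A c - algebraMap k A (Coalgebra.counit (R := k) (algebraMap k A c)) ∈ I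
    rw [Bialgebra.counit_algebraMap, sub_self]
    exact I.zero_mem

lemma mem_augSubalgebra {I : Ideal A} {x : A} :
    x ∈ augSubalgebra (k := k) I ↔ x - algebraMap k A (Coalgebra.counit (R := k) x) ∈ I :=
  Iff.rfl

lemma mem_of_mem_augSubalgebra {I : Ideal A} {x : A} (hx : x ∈ augSubalgebra (k := k) I)
    (hε : Coalgebra.counit (R := k) x = 0) : x ∈ I := by
  have := mem_augSubalgebra.1 hx
  rwa [hε, map_zero, sub_zero] at this

end Aug

section FT

variable {k : Type u} [Field k] {A : Type u} [CommRing A] [HopfAlgebra k A]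
  [Algebra.FiniteType k A] (I : Ideal A) [I.IsHopfIdeal k] (hI : SGA3.IsNormalHopfIdeal k A I)

include hI in
/-- finite type case: a normal Hopf ideal is generated by the augmentation ideal of a Hopf
subalgebra. -/
theorem exists_hopfSub_ft :
    ∃ B : Subalgebra k A, IsHopfSub B ∧
      (∀ b ∈ B, Coalgebra.counit (R := k) b = 0 → b ∈ I) ∧ I ≤ augSpan B := by
  classical
  obtain ⟨V, i1, i2, cV, hfin, hV⟩ := exists_comod_kernel I hI
  letI := cV
  haveI := hfin
  haveI : Module.Free k V := Module.Free.of_divisionRing k V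
  let b := Module.finBasis k V
  set n := Module.finrank k V with hn
  let t : Matrix (Fin n) (Fin n) A := mc A b
  let δ : Fin n → Fin n → A := fun i j => if i = j then 1 else 0
  let J₀ : Ideal A := Ideal.span (Set.range fun p : Fin n × Fin n => t p.1 p.2 - δ p.1 p.2)
  have hgen : ∀ i j, t i j - δ i j ∈ J₀ := fun i j => Ideal.subset_span ⟨(i, j), rfl⟩
  -- I ≤ J₀
  have h1 : I ≤ J₀ := by
    rw [hV J₀]
    have hL : LinearMap.lTensor V (Ideal.Quotient.mkₐ k J₀).toLinearMap ∘ₗ
        Comod.coact (k := k) (A := A) (V := V) = (TensorProduct.mk k V (A ⧸ J₀)).flip 1 := by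
      apply b.ext
      intro j
      rw [LinearMap.comp_apply, coact_basis, map_sum, LinearMap.flip_apply,
        TensorProduct.mk_apply]
      simp only [LinearMap.lTensor_tmul, AlgHom.toLinearMap_apply, Ideal.Quotient.mkₐ_eq_mk]
      have : ∀ i, Ideal.Quotient.mk J₀ (mc A b i j) = if i = j then 1 else 0 := by
        intro i
        have := Ideal.Quotient.eq.2 (hgen i j)
        rw [this]
        simp only [δ]
        split_ifs <;> simp
      simp only [this, TensorProduct.tmul_ite, Finset.sum_ite_eq',
        Finset.mem_univ, if_true]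
    intro v
    exact LinearMap.congr_fun hL v
  -- J₀ ≤ I
  have h2 : J₀ ≤ I := by
    apply Ideal.span_le.2
    rintro _ ⟨⟨i, j⟩, rfl⟩
    have h := (hV I).1 le_rfl (b j)
    rw [coact_basis, map_sum] at h
    simp only [LinearMap.lTensor_tmul, AlgHom.toLinearMap_apply, Ideal.Quotient.mkₐ_eq_mk] at h
    have h' := congrArg (fun z => TensorProduct.lid k (A ⧸ I)
      (LinearMap.rTensor (A ⧸ I) (b.coord i) z)) h
    simp only [map_sum, LinearMap.rTensor_tmul, TensorProduct.lid_tmul, Module.Basis.coord_apply,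
      Module.Basis.repr_self, Finsupp.single_apply] at h'
    simp only [ite_smul, one_smul, zero_smul, Finset.sum_ite_eq', Finset.mem_univ,
      if_true] at h'
    rw [SetLike.mem_coe, ← Ideal.Quotient.eq_zero_iff_mem, map_sub, h']
    simp only [δ]
    by_cases hij : i = j
    · simp [hij]
    · simp [hij, Ne.symm hij]
  have hIJ : I = J₀ := le_antisymm h1 h2
  -- the Hopf subalgebra
  let s : Set A := Set.range (fun p : Fin n × Fin n => t p.1 p.2) ∪
    Set.range (fun p : Fin n × Fin n => HopfAlgebra.antipode k (t p.1 p.2))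
  have hts : ∀ i j, t i j ∈ Algebra.adjoin k s := fun i j =>
    Algebra.subset_adjoin (Or.inl ⟨(i, j), rfl⟩)
  have hSts : ∀ i j, HopfAlgebra.antipode k (t i j) ∈ Algebra.adjoin k s := fun i j =>
    Algebra.subset_adjoin (Or.inr ⟨(i, j), rfl⟩)
  have hB : IsHopfSub (Algebra.adjoin k s) := by
    apply isHopfSub_adjoin
    · rintro x (⟨⟨i, j⟩, rfl⟩ | ⟨⟨i, j⟩, rfl⟩)
      · refine ⟨∑ l, (⟨t i l, hts i l⟩ : Algebra.adjoin k s) ⊗ₜ[k] ⟨t l j, hts l j⟩, ?_⟩
        rw [map_sum]
        simp only [TensorProduct.map_tmul, AlgHom.toLinearMap_apply, Subalgebra.coe_val]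
        exact (comul_mc b i j).symm
      · refine ⟨∑ l, (⟨HopfAlgebra.antipode k (t l j), hSts l j⟩ : Algebra.adjoin k s) ⊗ₜ[k]
          ⟨HopfAlgebra.antipode k (t i l), hSts i l⟩, ?_⟩
        rw [map_sum]
        simp only [TensorProduct.map_tmul, AlgHom.toLinearMap_apply, Subalgebra.coe_val]
        change _ = Coalgebra.comul (R := k) (HopfAlgebra.antipode k (mc A b i j))
        rw [Groth.Agent.Lib.Helper7.HopfConv.comul_antipode, comul_mc, map_sum, map_sum]
        simp only [TensorProduct.comm_tmul, TensorProduct.map_tmul]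
        rfl
    · rintro x (⟨⟨i, j⟩, rfl⟩ | ⟨⟨i, j⟩, rfl⟩)
      · exact hSts i j
      · rw [antipode_antipode]
        exact hts i j
  have hεt : ∀ i j, algebraMap k A (Coalgebra.counit (R := k) (t i j)) = δ i j := by
    intro i j
    change algebraMap k A (Coalgebra.counit (R := k) (mc A b i j)) = _
    rw [counit_mc]
    simp only [δ]
    split_ifs <;> simp
  have hBaug : Algebra.adjoin k s ≤ augSubalgebra (k := k) I := by
    apply Algebra.adjoin_le
    rintro x (⟨⟨i, j⟩, rfl⟩ | ⟨⟨i, j⟩, rfl⟩)
    · rw [SetLike.mem_coe, mem_augSubalgebra, hεt]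
      exact h2 (hgen i j)
    · rw [SetLike.mem_coe, mem_augSubalgebra, HopfAlgebra.counit_antipode, hεt]
      have h3 : HopfAlgebra.antipode k (t i j) - δ i j =
          HopfAlgebra.antipode k (t i j - δ i j) := by
        rw [map_sub]
        congr 1
        simp only [δ]
        split_ifs
        · exact (HopfAlgebra.antipode_one (R := k) (A := A)).symm
        · exact (map_zero _).symm
      rw [h3]
      exact Ideal.IsHopfIdeal.antipode_mem (R := k) (h2 (hgen i j))
  refine ⟨Algebra.adjoin k s, hB, fun b' hb' hε => mem_of_mem_augSubalgebra (hBaug hb') hε, ?_⟩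
  rw [hIJ]
  apply Ideal.span_le.2
  rintro _ ⟨⟨i, j⟩, rfl⟩
  apply Ideal.subset_span
  refine ⟨Subalgebra.sub_mem _ (hts i j) ?_, ?_⟩
  · simp only [δ]
    split_ifs
    · exact Subalgebra.one_mem _
    · exact Subalgebra.zero_mem _
  · rw [map_sub]
    have : Coalgebra.counit (R := k) (δ i j) = Coalgebra.counit (R := k) (t i j) := by
      rw [← hεt i j, Bialgebra.counit_algebraMap]
    rw [this, sub_self]

end FT

end Groth.Agent.Lib.Helper7.NormalQuot
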