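import Groth.Agent.Lib.Helper7.HilbertFin
import Groth.Agent.Lib.Helper7.HopfLR
import Groth.Agent.Lib.Helper7.ComodInd

/-!
# A Noetherian comodule algebra over a linearly reductive group is of finite type over its invariants
(helper7)

`C = A ⊗ H` with coaction `id ⊗ Δ` (the induced comodule) has invariants `A ⊗ 1`, contains the
equivariant copy `ρ(A)` of `A`, and is generated over it by `1 ⊗ H` (antipode).  Relative Hilbert
finiteness (`exists_finset_invariants_adjoin`) then gives finite generation of `A ≅ C^G` over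
`A^G = ρ(A)^G`.
-/

universe u v w

open TensorProduct

namespace Groth.Agent.Lib.Helper7.NoethFT

open HopfRep Groth.Agent.Lib.Helper7.Comod

section Ind

variable (k : Type u) [CommRing k] (H : Type v) [CommRing H] [Bialgebra k H]
variable (A : Type w) [CommRing A] [Algebra k A]

/-- The induced coaction `id ⊗ Δ` on `A ⊗ H`, as an algebra map. -/
noncomputable def indAlgHom : A ⊗[k] H →ₐ[k] (A ⊗[k] H) ⊗[k] H :=
  (Algebra.TensorProduct.assoc k k k A H H).symm.toAlgHom.comp
    (Algebra.TensorProduct.map (AlgHom.id k A) (Bialgebra.comulAlgHom k H))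

lemma indAlgHom_tmul (a : A) (h : H) :
    indAlgHom k H A (a ⊗ₜ[k] h) =
      (TensorProduct.assoc k A H H).symm (a ⊗ₜ[k] Coalgebra.comul (R := k) h) := by
  simp only [indAlgHom, AlgHom.comp_apply, Algebra.TensorProduct.map_tmul, AlgHom.id_apply,
    Bialgebra.comulAlgHom_apply]
  rfl

lemma indAlgHom_toLinearMap :
    (indAlgHom k H A).toLinearMap = Hoch.Ind.coactAux k H A := by
  apply TensorProduct.ext'
  intro a h
  rw [AlgHom.toLinearMap_apply, indAlgHom_tmul, Hoch.Ind.coactAux_tmul]

/-- The induced comodule structure on the plain tensor product. -/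
@[reducible] noncomputable def indComod : Comod k H (A ⊗[k] H) := Hoch.Ind.comod k H A

lemma indComod_coact (x : A ⊗[k] H) :
    (indComod k H A).coact x = indAlgHom k H A x := by
  rw [← AlgHom.toLinearMap_apply, indAlgHom_toLinearMap]
  rfl

lemma indCoactAlg : @GLin.IsCoactAlg k _ H _ _ (A ⊗[k] H) _ _ (indComod k H A) := by
  letI := indComod k H A
  refine ⟨?_, fun f g => ?_⟩
  · rw [indComod_coact, map_one]
  · rw [indComod_coact, indComod_coact, indComod_coact, map_mul]

/-- `id ⊗ ε : A ⊗ H → A` as an algebra map. -/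
noncomputable def cAlg : A ⊗[k] H →ₐ[k] A :=
  (Algebra.TensorProduct.rid k k A).toAlgHom.comp
    (Algebra.TensorProduct.map (AlgHom.id k A) (Bialgebra.counitAlgHom k H))

@[simp] lemma cAlg_tmul (a : A) (h : H) :
    cAlg k H A (a ⊗ₜ[k] h) = Coalgebra.counit (R := k) h • a := by
  simp [cAlg]

lemma rTensor_cAlg_indAlgHom (x : A ⊗[k] H) :
    (cAlg k H A).toLinearMap.rTensor H (indAlgHom k H A x) = x := by
  induction x using TensorProduct.induction_on with
  | zero => simp
  | add x y hx hy => rw [map_add, map_add, hx, hy]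
  | tmul a h =>
    rw [indAlgHom_tmul]
    have key : ∀ w : H ⊗[k] H, (cAlg k H A).toLinearMap.rTensor H
        ((TensorProduct.assoc k A H H).symm (a ⊗ₜ[k] w)) =
        a ⊗ₜ[k] (TensorProduct.lid k H) ((Coalgebra.counit (R := k)).rTensor H w) := by
      intro w
      induction w using TensorProduct.induction_on with
      | zero => simp
      | add x y hx hy => simp only [tmul_add, map_add, hx, hy]
      | tmul h1 h2 =>
        simp only [TensorProduct.assoc_symm_tmul, LinearMap.rTensor_tmul, AlgHom.toLinearMap_apply,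
          cAlg_tmul, TensorProduct.lid_tmul]
        rw [TensorProduct.smul_tmul]
    rw [key, Coalgebra.rTensor_counit_comul]
    simp

/-- Invariants of the induced comodule algebra are `A ⊗ 1`. -/
lemma eq_tmul_one_of_mem {x : A ⊗[k] H}
    (hx : (indComod k H A).coact x = x ⊗ₜ[k] (1 : H)) : x = cAlg k H A x ⊗ₜ[k] (1 : H) := by
  rw [indComod_coact] at hx
  have := congrArg ((cAlg k H A).toLinearMap.rTensor H) hx
  rw [rTensor_cAlg_indAlgHom, LinearMap.rTensor_tmul] at this
  exact this

lemma tmul_one_mem (a : A) :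
    (indComod k H A).coact (a ⊗ₜ[k] (1 : H)) = (a ⊗ₜ[k] (1 : H)) ⊗ₜ[k] (1 : H) := by
  rw [indComod_coact, indAlgHom_tmul, Bialgebra.comul_one, Algebra.TensorProduct.one_def,
    TensorProduct.assoc_symm_tmul]

end Ind

end Groth.Agent.Lib.Helper7.NoethFT
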