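import Groth.Agent.Lib.Helper7.NoethFT

universe u v w

open TensorProduct

namespace Groth.Agent.Lib.Helper7.NoethFT

open HopfRep Groth.Agent.Lib.Helper7.Comod

section Gen

variable {k : Type u} [CommRing k] {H : Type v} [CommRing H] [HopfAlgebra k H]
variable {A : Type w} [CommRing A] [Algebra k A] [Comod k H A] [GLin.IsCoactAlg k H A]

/-- `x ⊗ h ↦ x * (1 ⊗ S h)`. -/
noncomputable def Phi : (A ⊗[k] H) ⊗[k] H →ₗ[k] A ⊗[k] H :=
  LinearMap.mul' k (A ⊗[k] H) ∘ₗ TensorProduct.map LinearMap.id
    ((Algebra.TensorProduct.includeRight (R := k) (A := A) (B := H)).toLinearMap ∘ₗ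
      (HopfAlgebraStruct.antipode (R := k) (A := H)))

omit [Comod k H A] [GLin.IsCoactAlg k H A] in
@[simp] lemma Phi_tmul (x : A ⊗[k] H) (h : H) :
    Phi (k := k) (x ⊗ₜ[k] h) = x * ((1 : A) ⊗ₜ[k] HopfAlgebraStruct.antipode (R := k) h) := by
  simp [Phi]

omit [Comod k H A] [GLin.IsCoactAlg k H A] in
lemma Phi_assoc_symm_lTensor_comul (y : A ⊗[k] H) :
    Phi (k := k) ((TensorProduct.assoc k A H H).symm
      ((Coalgebra.comul (R := k) (A := H)).lTensor A y)) =
      cAlg k H A y ⊗ₜ[k] (1 : H) := by
  induction y using TensorProduct.induction_on with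
  | zero => simp
  | add x y hx hy => simp only [map_add, hx, hy, add_tmul]
  | tmul a h =>
    rw [LinearMap.lTensor_tmul]
    have key : ∀ w : H ⊗[k] H, Phi (k := k) ((TensorProduct.assoc k A H H).symm (a ⊗ₜ[k] w)) =
        a ⊗ₜ[k] (LinearMap.mul' k H)
          ((HopfAlgebraStruct.antipode (R := k) (A := H)).lTensor H w) := by
      intro w
      induction w using TensorProduct.induction_on with
      | zero => simp
      | add x y hx hy => simp only [tmul_add, map_add, hx, hy]
      | tmul h1 h2 =>
        simp only [TensorProduct.assoc_symm_tmul, Phi_tmul, Algebra.TensorProduct.tmul_mul_tmul,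
          mul_one, LinearMap.lTensor_tmul, LinearMap.mul'_apply]
    rw [key, HopfAlgebra.mul_antipode_lTensor_comul_apply, cAlg_tmul,
      Algebra.algebraMap_eq_smul_one, TensorProduct.tmul_smul, TensorProduct.smul_tmul']

omit [GLin.IsCoactAlg k H A] in
lemma Phi_rTensor_coact (a : A) :
    Phi (k := k) ((Comod.coact (k := k) (A := H) (V := A)).rTensor H
      (Comod.coact (k := k) (A := H) a)) = a ⊗ₜ[k] (1 : H) := by
  have h := LinearMap.congr_fun (Comod.coassoc (k := k) (A := H) (V := A)) a
  simp only [LinearMap.comp_apply, LinearEquiv.coe_coe] at h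
  have h2 : (Comod.coact (k := k) (A := H) (V := A)).rTensor H (Comod.coact (k := k) (A := H) a) =
      (TensorProduct.assoc k A H H).symm ((Coalgebra.comul (R := k) (A := H)).lTensor A
        (Comod.coact (k := k) (A := H) a)) := by
    rw [← h, LinearEquiv.symm_apply_apply]
  rw [h2, Phi_assoc_symm_lTensor_comul]
  congr 1
  have hc := LinearMap.congr_fun (Comod.counit_comp (k := k) (A := H) (V := A)) a
  simp only [LinearMap.comp_apply, LinearMap.flip_apply, TensorProduct.mk_apply] at hc
  have : ∀ y : A ⊗[k] H, cAlg k H A y =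
      TensorProduct.rid k A ((Coalgebra.counit (R := k) (A := H)).lTensor A y) := by
    intro y
    induction y using TensorProduct.induction_on with
    | zero => simp
    | add x y hx hy => simp only [map_add, hx, hy]
    | tmul a h => simp
  rw [this, hc]
  simp

/-- `a ⊗ 1` lies in any subalgebra containing `ρ(A)` and `1 ⊗ H`. -/
lemma tmul_one_mem_of_le (T : Subalgebra k (A ⊗[k] H))
    (h1 : ∀ a : A, Comod.coact (k := k) (A := H) a ∈ T) (h2 : ∀ h : H, (1 : A) ⊗ₜ[k] h ∈ T)
    (a : A) : a ⊗ₜ[k] (1 : H) ∈ T := by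
  rw [← Phi_rTensor_coact (k := k) (H := H) a]
  have : ∀ z : A ⊗[k] H,
      Phi (k := k) ((Comod.coact (k := k) (A := H) (V := A)).rTensor H z) ∈ T := by
    intro z
    induction z using TensorProduct.induction_on with
    | zero => simp
    | add x y hx hy => rw [map_add, map_add]; exact T.add_mem hx hy
    | tmul b h =>
      rw [LinearMap.rTensor_tmul, Phi_tmul]
      exact T.mul_mem (h1 b) (h2 _)
  exact this _

end Gen

end Groth.Agent.Lib.Helper7.NoethFT
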