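import Groth.Agent.Lib.Helper7.NoethFT2

universe u v w

open TensorProduct

namespace Groth.Agent.Lib.Helper7.NoethFT

open HopfRep Groth.Agent.Lib.Helper7.Comod

section Main

variable {k : Type u} [Field k] {H : Type v} [CommRing H] [HopfAlgebra k H]
variable {A : Type w} [CommRing A] [Algebra k A] [Comod k H A] [GLin.IsCoactAlg k H A]

omit [GLin.IsCoactAlg k H A] in
lemma cAlg_coact (a : A) : cAlg k H A (Comod.coact (k := k) (A := H) a) = a := by
  have hc := LinearMap.congr_fun (Comod.counit_comp (k := k) (A := H) (V := A)) a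
  simp only [LinearMap.comp_apply, LinearMap.flip_apply, TensorProduct.mk_apply] at hc
  have : ∀ y : A ⊗[k] H, cAlg k H A y =
      TensorProduct.rid k A ((Coalgebra.counit (R := k) (A := H)).lTensor A y) := by
    intro y
    induction y using TensorProduct.induction_on with
    | zero => simp
    | add x y hx hy => simp only [map_add, hx, hy]
    | tmul a h => simp
  rw [this, hc]
  simp

/-- A Noetherian comodule algebra over a linearly reductive Hopf algebra of finite type is generated
over `k` by its invariants and finitely many elements. -/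
theorem exists_finset_adjoin_invariants [Algebra.FiniteType k H] (hG : IsLinearlyReductive k H)
    [IsNoetherianRing A] :
    ∃ s : Finset A, ∀ a : A,
      a ∈ Algebra.adjoin k (((GLin.invariants k H A : Subalgebra k A) : Set A) ∪ (s : Set A)) := by
  classical
  letI cC : Comod k H (A ⊗[k] H) := indComod k H A
  haveI : GLin.IsCoactAlg k H (A ⊗[k] H) := indCoactAlg k H A
  have hC : IsSemisimpleComod k H (A ⊗[k] H) := isSemisimpleComod_of_isLinearlyReductive' hG _
  let A₁ : Subalgebra k (A ⊗[k] H) := (GLin.coactAlgHom k H A).range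
  haveI : IsNoetherianRing A₁ :=
    isNoetherianRing_of_surjective A A₁ (GLin.coactAlgHom k H A).rangeRestrict.toRingHom
      (GLin.coactAlgHom k H A).rangeRestrict_surjective
  have hA₁ : IsSubcomod (k := k) (A := H) (Subalgebra.toSubmodule A₁) := by
    have h := isSubcomod_range (isComodHom_toInd (k := k) (A := H) (V := A))
    intro w hw
    exact h w hw
  obtain ⟨t, ht⟩ := (Algebra.FiniteType.out : (⊤ : Subalgebra k H).FG)
  let t' : Finset (A ⊗[k] H) := t.image (fun h => (1 : A) ⊗ₜ[k] h)
  have htop : Algebra.adjoin k ((A₁ : Set (A ⊗[k] H)) ∪ t') = ⊤ := by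
    set T := Algebra.adjoin k ((A₁ : Set (A ⊗[k] H)) ∪ t') with hT
    have h1 : ∀ a : A, Comod.coact (k := k) (A := H) a ∈ T := fun a =>
      Algebra.subset_adjoin (Or.inl ⟨a, rfl⟩)
    have h2 : ∀ h : H, (1 : A) ⊗ₜ[k] h ∈ T := by
      intro h
      have hh : h ∈ Algebra.adjoin k (t : Set H) := by rw [ht]; trivial
      have hmap : (Algebra.adjoin k (t : Set H)).map
          (Algebra.TensorProduct.includeRight (R := k) (A := A) (B := H)) ≤ T := by
        rw [AlgHom.map_adjoin]
        apply Algebra.adjoin_mono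
        rintro _ ⟨h', hh', rfl⟩
        refine Or.inr ?_
        rw [Finset.mem_coe, Finset.mem_image]
        exact ⟨h', hh', rfl⟩
      exact hmap ⟨h, hh, rfl⟩
    rw [eq_top_iff]
    rintro x -
    induction x using TensorProduct.induction_on with
    | zero => exact T.zero_mem
    | add x y hx hy => exact T.add_mem hx hy
    | tmul a h =>
      have : a ⊗ₜ[k] h = (a ⊗ₜ[k] (1 : H)) * ((1 : A) ⊗ₜ[k] h) := by
        rw [Algebra.TensorProduct.tmul_mul_tmul, mul_one, one_mul]
      rw [this]
      exact T.mul_mem (tmul_one_mem_of_le T h1 h2 a) (h2 h)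
  obtain ⟨s, _, hs⟩ := exists_finset_invariants_adjoin hC A₁ hA₁ t' htop
  refine ⟨s.image (cAlg k H A), fun a => ?_⟩
  have hf : a ⊗ₜ[k] (1 : H) ∈ GLin.invariants k H (A ⊗[k] H) := tmul_one_mem k H A a
  have h3 := hs _ hf
  have h4 : cAlg k H A (a ⊗ₜ[k] (1 : H)) ∈ (Algebra.adjoin k
      ({c | c ∈ A₁ ∧ c ∈ GLin.invariants k H (A ⊗[k] H)} ∪ (s : Set (A ⊗[k] H)))).map
        (cAlg k H A) := ⟨_, h3, rfl⟩
  rw [cAlg_tmul, Bialgebra.counit_one, one_smul, AlgHom.map_adjoin] at h4
  refine Algebra.adjoin_mono ?_ h4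
  rintro _ ⟨c, hc | hc, rfl⟩
  · left
    obtain ⟨⟨a', rfl⟩, hinv⟩ := hc
    have h5 := eq_tmul_one_of_mem k H A hinv
    change cAlg k H A (Comod.coact (k := k) (A := H) a') ∈ GLin.invariants k H A
    rw [cAlg_coact]
    change Comod.coact (k := k) (A := H) a' = a' ⊗ₜ[k] (1 : H)
    change Comod.coact (k := k) (A := H) a' =
      cAlg k H A (Comod.coact (k := k) (A := H) a') ⊗ₜ[k] (1 : H) at h5
    rw [cAlg_coact] at h5
    exact h5
  · right
    rw [Finset.coe_image]
    exact ⟨c, hc, rfl⟩

/-- **Finite type over the invariants.** -/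
theorem finiteType_invariants [Algebra.FiniteType k H] (hG : IsLinearlyReductive k H)
    [IsNoetherianRing A] : Algebra.FiniteType (GLin.invariants k H A) A := by
  classical
  obtain ⟨s, hs⟩ := exists_finset_adjoin_invariants (k := k) (H := H) (A := A) hG
  refine ⟨⟨s, ?_⟩⟩
  rw [eq_top_iff]
  rintro a -
  have ha := hs a
  induction ha using Algebra.adjoin_induction with
  | mem x hx =>
    rcases hx with hx | hx
    · exact Subalgebra.algebraMap_mem _ (⟨x, hx⟩ : GLin.invariants k H A)
    · exact Algebra.subset_adjoin hx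
  | algebraMap r =>
    exact Subalgebra.algebraMap_mem _ (algebraMap k (GLin.invariants k H A) r)
  | add x y _ _ hx hy => exact Subalgebra.add_mem _ hx hy
  | mul x y _ _ hx hy => exact Subalgebra.mul_mem _ hx hy

end Main

end Groth.Agent.Lib.Helper7.NoethFT
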