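import Groth.Prelude.Def_Disc
import Mathlib.LinearAlgebra.Contraction
import Mathlib.RingTheory.Kaehler.Basic
import Mathlib.LinearAlgebra.Dual.Lemmas
import Mathlib.LinearAlgebra.FreeModule.Finite.Basic

/-!
# The Noether different of a finite free algebra: `Ann(ker μ) ≃ Hom_B(ω, B)`
-/

set_option autoImplicit false
universe u
open TensorProduct

namespace Groth.Agent.Lib.Helper7.ND

variable {A B : Type*} [CommRing A] [CommRing B] [Algebra A B]

/-- `θ : B ⊗ B → Hom_A(B^*, B)`, `b ⊗ c ↦ (l ↦ l b • c)`. -/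
noncomputable def theta : B ⊗[A] B →ₗ[A] (Module.Dual A B →ₗ[A] B) :=
  dualTensorHom A (Module.Dual A B) B ∘ₗ LinearMap.rTensor B (Module.Dual.eval A B)

@[simp]
theorem theta_tmul (b c : B) (l : Module.Dual A B) :
    theta (A := A) (b ⊗ₜ[A] c) l = l b • c := by
  simp [theta]

theorem theta_apply (ξ : B ⊗[A] B) (l : Module.Dual A B) :
    theta ξ l = TensorProduct.lift ((LinearMap.lsmul A B).comp l) ξ := by
  induction ξ using TensorProduct.induction_on with
  | zero => simp
  | tmul b c => simp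
  | add x y hx hy => simp only [map_add, LinearMap.add_apply, hx, hy]

theorem theta_bijective [Module.Finite A B] [Module.Free A B] :
    Function.Bijective (theta (A := A) (B := B)) := by
  have h1 : Function.Bijective (dualTensorHom A (Module.Dual A B) B) := dualTensorHom_bijective
  have h2 : Function.Bijective (LinearMap.rTensor B (Module.Dual.eval A B)) := by
    have : LinearMap.rTensor B (Module.Dual.eval A B) =
        (TensorProduct.congr (Module.evalEquiv A B) (LinearEquiv.refl A B)).toLinearMap := by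
      ext; simp
    rw [this]
    exact LinearEquiv.bijective _
  exact h1.comp h2

theorem theta_tmul_one_mul (b : B) (ξ : B ⊗[A] B) (l : Module.Dual A B) :
    theta ((b ⊗ₜ[A] (1 : B)) * ξ) l = theta ξ (l ∘ₗ LinearMap.mulLeft A b) := by
  induction ξ using TensorProduct.induction_on with
  | zero => simp
  | tmul x y => simp
  | add x y hx hy => simp only [mul_add, map_add, LinearMap.add_apply, hx, hy]

theorem theta_one_tmul_mul (b : B) (ξ : B ⊗[A] B) (l : Module.Dual A B) :
    theta (((1 : B) ⊗ₜ[A] b) * ξ) l = b * theta ξ l := by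
  induction ξ using TensorProduct.induction_on with
  | zero => simp
  | tmul x y => simp
  | add x y hx hy => simp only [mul_add, map_add, LinearMap.add_apply, hx, hy]

theorem mem_annihilator_ker_iff [Module.Finite A B] [Module.Free A B] (ξ : B ⊗[A] B) :
    ξ ∈ Submodule.annihilator (RingHom.ker (Algebra.TensorProduct.lmul' (S := B) A)) ↔
      ∀ (b : B) (l : Module.Dual A B), theta ξ (l ∘ₗ LinearMap.mulLeft A b) = b * theta ξ l := by
  have hker : RingHom.ker (Algebra.TensorProduct.lmul' (S := B) A) =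
      Ideal.span (Set.range fun s : B => (1 : B) ⊗ₜ[A] s - s ⊗ₜ[A] (1 : B)) :=
    (KaehlerDifferential.span_range_eq_ideal A B).symm
  rw [hker, Submodule.mem_annihilator_span]
  constructor
  · intro h b l
    have h1 := h ⟨_, b, rfl⟩
    simp only [smul_eq_mul] at h1
    rw [mul_sub, sub_eq_zero, mul_comm, mul_comm ξ] at h1
    rw [← theta_tmul_one_mul, ← theta_one_tmul_mul, h1]
  · rintro h ⟨_, b, rfl⟩
    simp only [smul_eq_mul]
    rw [mul_sub, sub_eq_zero, mul_comm, mul_comm ξ]
    apply theta_bijective.1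
    ext l
    rw [theta_tmul_one_mul, theta_one_tmul_mul, h]

theorem omega_mk_smul (a : A) (l : Module.Dual A B) :
    (⟨a • l⟩ : Disc.Omega A B) = (algebraMap A B a) • (⟨l⟩ : Disc.Omega A B) := by
  ext x
  change (a • l) x = l (algebraMap A B a * x)
  rw [← Algebra.smul_def, map_smul, LinearMap.smul_apply]

/-- The `A`-linear map `B^* → B` underlying a `B`-linear map `ω → B`. -/
noncomputable def ofOmegaHom (Φ : Disc.Omega A B →ₗ[B] B) : Module.Dual A B →ₗ[A] B where
  toFun l := Φ ⟨l⟩
  map_add' l l' := by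
    change Φ ((⟨l⟩ : Disc.Omega A B) + ⟨l'⟩) = _
    rw [map_add]
  map_smul' a l := by
    rw [omega_mk_smul, map_smul, RingHom.id_apply, smul_eq_mul, Algebra.smul_def]

@[simp]
theorem ofOmegaHom_apply (Φ : Disc.Omega A B →ₗ[B] B) (l : Module.Dual A B) :
    ofOmegaHom Φ l = Φ ⟨l⟩ := rfl

theorem ofOmegaHom_comp_mulLeft (Φ : Disc.Omega A B →ₗ[B] B) (b : B) (l : Module.Dual A B) :
    ofOmegaHom Φ (l ∘ₗ LinearMap.mulLeft A b) = b * ofOmegaHom Φ l := by
  have : (⟨l ∘ₗ LinearMap.mulLeft A b⟩ : Disc.Omega A B) = b • (⟨l⟩ : Disc.Omega A B) := rfl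
  rw [ofOmegaHom_apply, this, map_smul, smul_eq_mul, ofOmegaHom_apply]

/-- The element of `Ann(I)` corresponding to a `B`-linear map `ω → B`. -/
theorem exists_unique_of_omegaHom [Module.Finite A B] [Module.Free A B]
    (Φ : Disc.Omega A B →ₗ[B] B) :
    ∃! ξ : B ⊗[A] B,
      ξ ∈ Submodule.annihilator (RingHom.ker (Algebra.TensorProduct.lmul' (S := B) A)) ∧
        ∀ l : Disc.Omega A B, Φ l = theta ξ l.toLinearMap := by
  obtain ⟨ξ, hξ⟩ := theta_bijective.2 (ofOmegaHom Φ)
  refine ⟨ξ, ⟨?_, fun l => ?_⟩, ?_⟩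
  · rw [mem_annihilator_ker_iff, hξ]
    exact fun b l => ofOmegaHom_comp_mulLeft Φ b l
  · rw [hξ]; rfl
  · rintro ξ' ⟨-, h'⟩
    apply theta_bijective.1
    rw [hξ]
    ext l
    exact (h' ⟨l⟩).symm

end Groth.Agent.Lib.Helper7.ND
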