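import Groth.Agent.Lib.Helper7.NormalFix
import Groth.Agent.Lib.Helper7.ChevalleyChar
import Groth.Agent.Lib.Helper7.CommEigen
import Groth.Agent.Lib.Helper7.HopfAntipode

/-!
# A normal subgroup is the kernel of a representation (helper7)
-/

universe u

open TensorProduct

namespace Groth.Agent.Lib.Helper7.NormalKer

open HopfRep WithConv Groth.Agent.Lib.Helper7.Comod Groth.Agent.Lib.Helper7.StabLine
  Groth.Agent.Lib.Helper7.HopfConv Groth.Agent.Lib.Helper7.NormalFix
  Groth.Agent.Lib.Helper7.Chevalley Groth.Agent.Lib.Helper7.StabTensor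

section Conj

variable {k : Type u} [Field k] {A : Type u} [CommRing A] [HopfAlgebra k A]
  (I : Ideal A) (hI : SGA3.IsNormalHopfIdeal k A I)

include hI in
lemma conj_kills {R : Type u} [CommRing R] [Algebra k R] (g h : A →ₐ[k] R)
    (hh : ∀ a ∈ I, h a = 0) :
    ∀ a ∈ I, (toConv (g.comp (HopfAlgebra.antipodeAlgHom k A)) * toConv h *
      toConv g).ofConv a = 0 := by
  intro a ha
  have hinv : toConv ((g.comp (HopfAlgebra.antipodeAlgHom k A)).comp
      (HopfAlgebra.antipodeAlgHom k A)) = toConv g :=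
    left_inv_eq_right_inv (antipode_mul_self (g.comp (HopfAlgebra.antipodeAlgHom k A)))
      (antipode_mul_self g)
  have := hI R (g.comp (HopfAlgebra.antipodeAlgHom k A)) h hh a ha
  rwa [conv3_eq, hinv] at this

variable (k) in
/-- the universal point of `G` over `(A ⧸ I) ⊗ A`. -/
noncomputable abbrev gR : A →ₐ[k] (A ⧸ I) ⊗[k] A := Algebra.TensorProduct.includeRight

variable (k) in
/-- the universal point of `N` over `(A ⧸ I) ⊗ A`. -/
noncomputable abbrev hR : A →ₐ[k] (A ⧸ I) ⊗[k] A :=
  (Algebra.TensorProduct.includeLeft (R := k) (S := k) (A := A ⧸ I) (B := A)).comp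
    (Ideal.Quotient.mkₐ k I)

lemma hR_kills : ∀ a ∈ I, hR k I a = 0 := by
  intro a ha
  simp only [hR, AlgHom.comp_apply, Ideal.Quotient.mkₐ_eq_mk]
  rw [Ideal.Quotient.eq_zero_iff_mem.2 ha, map_zero]

lemma hg_apply (a : A) : (toConv (hR k I) * toConv (gR k I)).ofConv a =
    (Ideal.Quotient.mkₐ k I).toLinearMap.rTensor A (Coalgebra.comul (R := k) a) := by
  rw [AlgHom.convMul_def]
  change (Algebra.TensorProduct.lmul' k) ((Algebra.TensorProduct.map (hR k I) (gR k I))
    (Coalgebra.comul (R := k) a)) = _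
  generalize Coalgebra.comul (R := k) a = y
  induction y using TensorProduct.induction_on with
  | zero => simp
  | add y z hy hz => simp only [map_add, hy, hz]
  | tmul a b => simp [hR, gR]

lemma contrL_gR_mul (z : Module.Dual k (A ⧸ I)) (a : A) (x : (A ⧸ I) ⊗[k] A) :
    contrL A z (gR k I a * x) = a * contrL A z x := by
  induction x using TensorProduct.induction_on with
  | zero => simp
  | add y z hy hz => simp only [mul_add, map_add, hy, hz]
  | tmul d b => simp [gR, Algebra.TensorProduct.tmul_mul_tmul]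

end Conj

section Main

variable {k : Type u} [Field k] {A : Type u} [CommRing A] [HopfAlgebra k A]
  (I : Ideal A) (hI : SGA3.IsNormalHopfIdeal k A I)
  {V : Type u} [AddCommGroup V] [Module k V] [Comod k A V]
  {v : V}
  (hrep : Dyn.Represents k A I (fun R _ _ g => SGA3.StabilizesLine k A v R g))

include hI hrep in
/-- normality: left translation by `N` acts on right coefficients of `v` by a unit. -/
lemma exists_conj_factor : ∃ c : (A ⧸ I) ⊗[k] A, ∀ φ : V →ₗ[k] k,
    (Ideal.Quotient.mkₐ k I).toLinearMap.rTensor A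
      (Coalgebra.comul (R := k) (coeffMap (C := A) φ v)) =
      gR k I (coeffMap (C := A) φ v) * c := by
  have hh'' := conj_kills I hI (gR k I) (hR k I) (hR_kills I)
  obtain ⟨c, hc⟩ := (hrep _ _).1 hh''
  refine ⟨c, fun φ => ?_⟩
  have hgrp : toConv (hR k I) * toConv (gR k I) = toConv (gR k I) *
      (toConv ((gR k I).comp (HopfAlgebra.antipodeAlgHom k A)) * toConv (hR k I) * toConv (gR k I)) :=
    monoid_conj_aux (M := WithConv (A →ₐ[k] (A ⧸ I) ⊗[k] A)) (toConv (gR k I))
      (toConv ((gR k I).comp (HopfAlgebra.antipodeAlgHom k A))) (toConv (hR k I))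
      (self_mul_antipode (gR k I))
  have h1 : LinearMap.lTensor V (toConv (hR k I) * toConv (gR k I)).ofConv.toLinearMap
      (Comod.coact (k := k) (A := A) v) =
      rmul V c (LinearMap.lTensor V (gR k I).toLinearMap (Comod.coact (k := k) (A := A) v)) := by
    rw [hgrp, lTensor_convMul, hc, extR_tmul]
  have h2 := congrArg (contrL ((A ⧸ I) ⊗[k] A) φ) h1
  rw [contrL_lTensor, contrL_rmul, contrL_lTensor] at h2
  rw [← hg_apply]
  exact h2

/-- `φ ↦ (φ ⊗ id)ρ(v)`. -/
noncomputable def genMap (v : V) : Module.Dual k V →ₗ[k] A where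
  toFun φ := coeffMap (C := A) φ v
  map_add' φ ψ := by
    simp only [coeffMap_apply, contrL, LinearMap.rTensor_add, LinearMap.comp_apply,
      LinearMap.add_apply, map_add]
  map_smul' c φ := by
    simp only [coeffMap_apply, contrL, LinearMap.rTensor_smul, LinearMap.comp_apply,
      LinearMap.smul_apply, map_smul, RingHom.id_apply]

lemma genMap_apply (v : V) (φ : Module.Dual k V) : genMap (A := A) v φ = coeffMap (C := A) φ v :=
  rfl

omit [Comod k A V] in
lemma counit_contrL_comul (f : A →ₗ[k] k) (b : A) :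
    Coalgebra.counit (R := k) (contrL A f (Coalgebra.comul (R := k) b)) = f b := by
  rw [apply_contrL_eq]
  congr 1
  unfold contr
  rw [LinearMap.comp_apply, Coalgebra.lTensor_counit_comul]
  simp

include hI hrep in
/-- a nonzero left eigenfunction of `N` for the character `χ`. -/
theorem exists_left_eigen [Module.Finite k V] (hv : v ≠ 0) {χ : A ⧸ I}
    (hχ : LinearMap.lTensor V (Ideal.Quotient.mkₐ k I).toLinearMap
      (Comod.coact (k := k) (A := A) v) = v ⊗ₜ[k] χ) :
    ∃ b : A, b ≠ 0 ∧ (Ideal.Quotient.mkₐ k I).toLinearMap.rTensor A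
      (Coalgebra.comul (R := k) b) = χ ⊗ₜ[k] b := by
  classical
  obtain ⟨c, hc⟩ := exists_conj_factor I hI hrep
  let γ : Module.Dual k (A ⧸ I) → A := fun z => contrL A z c
  set C : Submodule k A := LinearMap.range (genMap (A := A) v) with hC
  -- multiplication by `γ z` on `C`
  have hmul : ∀ (z : Module.Dual k (A ⧸ I)) (φ : Module.Dual k V),
      γ z * coeffMap (C := A) φ v =
        contrL A (z ∘ₗ (Ideal.Quotient.mkₐ k I).toLinearMap)
          (Coalgebra.comul (R := k) (coeffMap (C := A) φ v)) := by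
    intro z φ
    have h1 := congrArg (contrL A z) (hc φ)
    rw [contrL_rTensor, contrL_gR_mul] at h1
    rw [h1, mul_comm]
  have hmem : ∀ (z : Module.Dual k (A ⧸ I)), ∀ b ∈ C, γ z * b ∈ C := by
    rintro z _ ⟨φ, rfl⟩
    rw [genMap_apply, hmul, comul_coeffMap, contrL_rTensor]
    exact ⟨(z ∘ₗ (Ideal.Quotient.mkₐ k I).toLinearMap) ∘ₗ coeffMap (C := A) φ, rfl⟩
  -- the value of the counit on `γ z`
  obtain ⟨φ₀, hφ₀⟩ := exists_dual_eq_one (k := k) hv
  have hb₀ : Coalgebra.counit (R := k) (coeffMap (C := A) φ₀ v) = 1 := by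
    rw [counit_coeffMap, hφ₀]
  have hmkb₀ : (Ideal.Quotient.mkₐ k I) (coeffMap (C := A) φ₀ v) = χ := by
    have h1 := congrArg (contrL (A ⧸ I) φ₀) hχ
    rw [contrL_lTensor, contrL_tmul, hφ₀, one_smul] at h1
    exact h1
  have hεγ : ∀ z : Module.Dual k (A ⧸ I), Coalgebra.counit (R := k) (γ z) = z χ := by
    intro z
    have h1 := congrArg (Coalgebra.counit (R := k)) (hmul z φ₀)
    rw [Bialgebra.counit_mul, hb₀, mul_one, counit_contrL_comul, LinearMap.comp_apply] at h1
    rw [h1]
    exact congrArg z hmkb₀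
  -- the commuting operators on `C`
  have hmaps : ∀ z : Module.Dual k (A ⧸ I), ∀ b ∈ C,
      (LinearMap.mulLeft k (γ z) - z χ • LinearMap.id : A →ₗ[k] A) b ∈ C := by
    intro z b hb
    rw [LinearMap.sub_apply, LinearMap.mulLeft_apply, LinearMap.smul_apply, LinearMap.id_apply]
    exact C.sub_mem (hmem z b hb) (C.smul_mem _ hb)
  let S : Module.Dual k (A ⧸ I) → Module.End k ↥C := fun z =>
    (LinearMap.mulLeft k (γ z) - z χ • LinearMap.id : A →ₗ[k] A).restrict (hmaps z)
  have hSval : ∀ z (b : ↥C), ((S z b : ↥C) : A) = γ z * (b : A) - z χ • (b : A) := by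
    intro z b
    rfl
  haveI : Module.Finite k ↥C := Module.Finite.range _
  obtain ⟨b, hb0, hb⟩ := CommEigen.exists_ne_zero_forall_eq_zero S
    (by
      intro z z'
      apply LinearMap.ext
      intro b
      apply Subtype.ext
      rw [Module.End.mul_apply, Module.End.mul_apply, hSval, hSval, hSval, hSval]
      simp only [mul_sub, mul_smul_comm, smul_sub, smul_smul]
      ring_nf)
    ((Coalgebra.counit (R := k) (A := A)) ∘ₗ C.subtype)
    (by
      intro h0
      have h1 := LinearMap.congr_fun h0 ⟨coeffMap (C := A) φ₀ v, ⟨φ₀, rfl⟩⟩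
      rw [LinearMap.comp_apply, Submodule.subtype_apply, hb₀, LinearMap.zero_apply] at h1
      exact one_ne_zero h1)
    (by
      intro z
      apply LinearMap.ext
      intro b
      rw [LinearMap.comp_apply, LinearMap.comp_apply, Submodule.subtype_apply, hSval, map_sub,
        Bialgebra.counit_mul, hεγ, map_smul, smul_eq_mul, sub_self, LinearMap.zero_apply])
  refine ⟨(b : A), fun h => hb0 (Subtype.ext h), ?_⟩
  have hbeq : ∀ z, γ z * (b : A) = z χ • (b : A) := by
    intro z
    have h1 := congrArg (fun x : ↥C => (x : A)) (hb z)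
    simp only [hSval, ZeroMemClass.coe_zero] at h1
    exact sub_eq_zero.1 h1
  obtain ⟨φ, hφ⟩ := b.2
  rw [← sub_eq_zero]
  apply eq_zero_of_forall_contrL_eq_zero
  intro z
  rw [map_sub, contrL_tmul, ← hbeq z, ← hφ, genMap_apply, hc φ, contrL_gR_mul, mul_comm, sub_self]

end Main

section Restr

variable {k : Type u} [Field k] {A : Type u} [CommRing A] [HopfAlgebra k A]
  {V : Type u} [AddCommGroup V] [Module k V]

lemma rTensor_subtype_lTensor_restr (c : Comod k A V) (W : Submodule k V)
    (hW : @HopfRep.IsSubcomod k A _ _ _ _ V _ _ c W) {R : Type u} [CommRing R] [Algebra k R]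
    (g : A →ₐ[k] R) (w : ↥W) :
    W.subtype.rTensor R (LinearMap.lTensor ↥W g.toLinearMap
      ((ComodSub.Comod.restr c W hW).coact w)) =
      LinearMap.lTensor V g.toLinearMap (c.coact (w : V)) := by
  rw [← ComodTens.lTensor_rTensor_comm, ComodSub.restr_coact_coe]

lemma rTensor_subtype_injective (W : Submodule k V) (R : Type u) [AddCommGroup R] [Module k R] :
    Function.Injective (W.subtype.rTensor R) :=
  Module.Flat.rTensor_preserves_injective_linearMap _ W.injective_subtype

end Restr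

section Dual

variable {k : Type u} [Field k] {A : Type u} [CommRing A] [HopfAlgebra k A]
  (I : Ideal A) [I.IsHopfIdeal k]

/-- the antipode turns a left eigenfunction for `χ` into a right eigenfunction for `χ⁻¹`. -/
lemma lTensor_comul_antipode {b : A} {χ : A ⧸ I}
    (hb : (Ideal.Quotient.mkₐ k I).toLinearMap.rTensor A (Coalgebra.comul (R := k) b) =
      χ ⊗ₜ[k] b) :
    LinearMap.lTensor A (Ideal.Quotient.mkₐ k I).toLinearMap
      (Coalgebra.comul (R := k) (HopfAlgebra.antipode k b)) =
      HopfAlgebra.antipode k b ⊗ₜ[k] HopfAlgebra.antipode k χ := by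
  rw [comul_antipode]
  have h1 : ∀ y : A ⊗[k] A, LinearMap.lTensor A (Ideal.Quotient.mkₐ k I).toLinearMap
      (TensorProduct.map (HopfAlgebra.antipode k) (HopfAlgebra.antipode k)
        (TensorProduct.comm k A A y)) =
      TensorProduct.map (HopfAlgebra.antipode k) (HopfAlgebra.antipode k)
        (TensorProduct.comm k (A ⧸ I) A
          ((Ideal.Quotient.mkₐ k I).toLinearMap.rTensor A y)) := by
    intro y
    induction y using TensorProduct.induction_on with
    | zero => simp
    | add y z hy hz => simp only [map_add, hy, hz]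
    | tmul a a' =>
      simp only [TensorProduct.comm_tmul, TensorProduct.map_tmul, LinearMap.lTensor_tmul,
        LinearMap.rTensor_tmul, AlgHom.toLinearMap_apply, Ideal.Quotient.mkₐ_eq_mk]
      rfl
  rw [h1, hb, TensorProduct.comm_tmul, TensorProduct.map_tmul]

end Dual

section Final

variable {k : Type u} [Field k] {A : Type u} [CommRing A] [HopfAlgebra k A]
  [Algebra.FiniteType k A] (I : Ideal A) [I.IsHopfIdeal k] (hI : SGA3.IsNormalHopfIdeal k A I)

include hI in
/-- a normal subgroup is the stabilizer of a line on which it acts trivially. -/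
theorem exists_trivial_line :
    ∃ (V : Type u) (_ : AddCommGroup V) (_ : Module k V) (c : Comod k A V)
      (_ : Module.Finite k V) (v : V), v ≠ 0 ∧
      (∀ (R : Type u) [CommRing R] [Algebra k R] (g : A →ₐ[k] R), (∀ a ∈ I, g a = 0) ↔
        ∃ r : R, LinearMap.lTensor V g.toLinearMap (c.coact v) = v ⊗ₜ[k] r) ∧
      LinearMap.lTensor V (Ideal.Quotient.mkₐ k I).toLinearMap (c.coact v) =
        v ⊗ₜ[k] (1 : A ⧸ I) := by
  obtain ⟨V₁, i1, i2, c₁, fin₁, v₁, hv₁, hrep₁⟩ :=
    Groth.Agent.Lib.Helper7.Chevalley.exists_comod_line (k := k) I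
      (fun x hx => Submodule.IsCoideal.counit_eq_zero (I := I.restrictScalars k) hx)
      (fun x hx => Submodule.IsCoideal.map_mkQ_comul_eq_zero (I := I.restrictScalars k) hx)
  let π : A →ₐc[k] A ⧸ I := Bialgebra.Quotient.mkBialgHom I
  have hπkills : ∀ a ∈ I, (Ideal.Quotient.mkₐ k I) a = 0 := fun a ha =>
    Ideal.Quotient.eq_zero_iff_mem.2 ha
  obtain ⟨χ, hχ⟩ := (hrep₁ (A ⧸ I) (Ideal.Quotient.mkₐ k I)).1 hπkills
  have hχ' : LinearMap.lTensor V₁ π.toLinearMap (c₁.coact v₁) = v₁ ⊗ₜ[k] χ := hχ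
  have hχgl : IsGroupLikeElem k χ := isGroupLikeElem_of_eigen π c₁ hv₁ hχ'
  -- a left eigenfunction, and its antipode
  obtain ⟨b, hb0, hb⟩ := @exists_left_eigen k _ A _ _ I hI V₁ _ _ c₁ v₁ hrep₁ fin₁ hv₁ χ hχ
  have hSb := lTensor_comul_antipode I hb
  have hSb0 : HopfAlgebra.antipode k b ≠ 0 := by
    intro h0
    apply hb0
    have h1 := congrArg (HopfAlgebra.antipodeAlgHom k A) h0
    have h2 : (toConv ((HopfAlgebra.antipodeAlgHom k A).comp (HopfAlgebra.antipodeAlgHom k A))) =
        toConv (AlgHom.id k A) :=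
      left_inv_eq_right_inv (antipode_mul_self (HopfAlgebra.antipodeAlgHom k A))
        (antipode_mul_self (AlgHom.id k A))
    have h3 := congrArg (fun f : WithConv (A →ₐ[k] A) => f.ofConv b) h2
    simp only [ofConv_toConv, AlgHom.comp_apply, AlgHom.id_apply] at h3
    rw [← h3]
    rw [map_zero] at h1
    exact h1
  obtain ⟨U, hUfin, hSbU, hU⟩ := exists_finite_subcomod_mem (k := k) (C := A) (V := A)
    (HopfAlgebra.antipode k b)
  haveI := hUfin
  let c₂ : Comod k A ↥U := ComodSub.Comod.restr (Comod.regular k A) U hU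
  let v₂ : ↥U := ⟨HopfAlgebra.antipode k b, hSbU⟩
  have hv₂ : v₂ ≠ 0 := fun h => hSb0 (congrArg Subtype.val h)
  have h₂ : LinearMap.lTensor ↥U π.toLinearMap (c₂.coact v₂) =
      v₂ ⊗ₜ[k] HopfAlgebra.antipode k χ := by
    apply rTensor_subtype_injective U (A ⧸ I)
    have := rTensor_subtype_lTensor_restr (Comod.regular k A) U hU (Ideal.Quotient.mkₐ k I) v₂
    rw [LinearMap.rTensor_tmul]
    exact this.trans hSb
  obtain ⟨V, l1, l2, c, fin, v, hv, hvπ, hstab⟩ :=
    exists_tensor_pow.{u, u, u, u, u} π c₁ c₂ hv₁ hχ' hv₂ h₂ 1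
  have hvπ1 : LinearMap.lTensor V (Ideal.Quotient.mkₐ k I).toLinearMap (c.coact v) =
      v ⊗ₜ[k] (1 : A ⧸ I) := by
    have : LinearMap.lTensor V π.toLinearMap (c.coact v) =
      v ⊗ₜ[k] (χ ^ 1 * HopfAlgebra.antipode k χ) := hvπ
    rw [pow_one, hχgl.mul_antipode_cancel] at this
    exact this
  refine ⟨V, l1, l2, c, fin, v, hv, ?_, hvπ1⟩
  intro R _ _ g
  constructor
  · intro hg
    refine ⟨1, ?_⟩
    letI := c
    exact lTensor_eq_of_kills I g hg ((mem_ker_fixMap I v).2 hvπ1)
  · intro hs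
    exact (hrep₁ R g).2 (hstab Nat.one_pos R g hs)

include hI in
/-- **S7969**: a normal subgroup is the kernel of a finite-dimensional representation. -/
theorem exists_comod_kernel :
    ∃ (V : Type u) (_ : AddCommGroup V) (_ : Module k V) (_ : HopfRep.Comod k A V),
      Module.Finite k V ∧
      ∀ J : Ideal A, I ≤ J ↔ ∀ v : V,
        LinearMap.lTensor V (Ideal.Quotient.mkₐ k J).toLinearMap
          (HopfRep.Comod.coact (k := k) (A := A) v) = v ⊗ₜ[k] (1 : A ⧸ J) := by
  obtain ⟨V', l1, l2, c', fin', v', hv', hrep', hπ'⟩ := exists_trivial_line I hI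
  letI := c'
  set W : Submodule k V' := LinearMap.ker (fixMap (k := k) I (V := V')) with hWdef
  have hW : IsSubcomod (k := k) (A := A) W := isSubcomod_ker_fixMap I hI
  have hv'W : v' ∈ W := (mem_ker_fixMap I v').2 hπ'
  refine ⟨↥W, inferInstance, inferInstance, ComodSub.Comod.restr c' W hW, inferInstance, ?_⟩
  intro J
  constructor
  · intro hIJ w
    apply rTensor_subtype_injective W (A ⧸ J)
    rw [rTensor_subtype_lTensor_restr, LinearMap.rTensor_tmul]
    exact lTensor_eq_of_kills I (Ideal.Quotient.mkₐ k J)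
      (fun a ha => Ideal.Quotient.eq_zero_iff_mem.2 (hIJ ha)) w.2
  · intro h a ha
    have h1 := h ⟨v', hv'W⟩
    have h2 := congrArg (W.subtype.rTensor (A ⧸ J)) h1
    rw [rTensor_subtype_lTensor_restr, LinearMap.rTensor_tmul] at h2
    have h3 := (hrep' (A ⧸ J) (Ideal.Quotient.mkₐ k J)).2 ⟨1, h2⟩ a ha
    exact Ideal.Quotient.eq_zero_iff_mem.1 h3

end Final

end Groth.Agent.Lib.Helper7.NormalKer
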