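import Groth.Agent.Lib.Helper7.PrimeOrder

/-!
# Oort–Tate 1 (helper7): over an algebraically closed field the dual algebra of a group scheme of
prime order is generated, as a vector space, by the powers of one element.
-/

universe u v w

open TensorProduct

namespace Groth.Agent.Lib.Helper7.OT

open Groth.Agent.Lib.Helper7.HopfCot Groth.Agent.Lib.Helper7.FrobKer
  Groth.Agent.Lib.Helper7.HopfSub Groth.Agent.Lib.Helper7.HopfConv WithConv
  Groth.Agent.Lib.Helper7.FinOrder Groth.Agent.Lib.Helper7.PrimeOrder
  Groth.Agent.Lib.Helper7.Comod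

section Etale

variable {k : Type u} [Field k] {A : Type v} [CommRing A] [HopfAlgebra k A] [Module.Finite k A]

/-- if the number of points is the (prime) order, the dual algebra is spanned by the powers of a
generator of the (cyclic) group of points. -/
theorem exists_gen_of_card_eq (p : ℕ) (hp : p.Prime) (hA : Module.finrank k A = p)
    (hcard : Nat.card (A →ₐ[k] k) = p) :
    ∃ d : WithConv (A →ₗ[k] k),
      Submodule.span k (Set.range (fun i : Fin p => d ^ (i : ℕ))) = ⊤ := by
  classical
  haveI : Fact p.Prime := ⟨hp⟩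
  have hcardΓ : Nat.card (WithConv (A →ₐ[k] k)) = p := by
    rw [Nat.card_congr (WithConv.equiv (A →ₐ[k] k)), hcard]
  haveI : IsCyclic (WithConv (A →ₐ[k] k)) := isCyclic_of_prime_card hcardΓ
  haveI : Finite (A →ₐ[k] k) := Nat.finite_of_card_ne_zero (hcard ▸ hp.ne_zero)
  haveI : Finite (WithConv (A →ₐ[k] k)) := Nat.finite_of_card_ne_zero (hcardΓ ▸ hp.ne_zero)
  haveI := Fintype.ofFinite (A →ₐ[k] k)
  let v : (A →ₐ[k] k) → WithConv (A →ₗ[k] k) := fun χ => toConv χ.toLinearMap
  have hli : LinearIndependent k v := by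
    have h0 := linearIndependent_toLinearMap k A k
    have := h0.map' (WithConv.linearEquiv k (A →ₗ[k] k)).symm.toLinearMap
      (LinearEquiv.ker _)
    exact this
  haveI : Module.Finite k (WithConv (A →ₗ[k] k)) :=
    Module.Finite.equiv (WithConv.linearEquiv k (A →ₗ[k] k)).symm
  have hfin : Module.finrank k (WithConv (A →ₗ[k] k)) = p := by
    rw [(WithConv.linearEquiv k (A →ₗ[k] k)).finrank_eq]
    exact (Subspace.dual_finrank_eq (K := k) (V := A)).trans hA
  have hsp : Submodule.span k (Set.range v) = ⊤ := by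
    apply hli.span_eq_top_of_card_eq_finrank'
    rw [hfin, ← hcard, Nat.card_eq_fintype_card]
  obtain ⟨g, hg⟩ := IsCyclic.exists_generator (α := WithConv (A →ₐ[k] k))
  -- the multiplicative embedding of points into the dual algebra
  let emb : WithConv (A →ₐ[k] k) → WithConv (A →ₗ[k] k) := fun ψ => toConv ψ.ofConv.toLinearMap
  have hemb_mul : ∀ a b : WithConv (A →ₐ[k] k), emb (a * b) = emb a * emb b := fun a b => rfl
  have hemb_one : emb 1 = 1 := rfl
  have hemb_pow : ∀ (a : WithConv (A →ₐ[k] k)) (n : ℕ), emb (a ^ n) = emb a ^ n := by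
    intro a n
    induction n with
    | zero => rw [pow_zero, pow_zero, hemb_one]
    | succ n ih => rw [pow_succ, pow_succ, hemb_mul, ih]
  refine ⟨emb g, ?_⟩
  rw [eq_top_iff, ← hsp]
  apply Submodule.span_mono
  rintro _ ⟨χ, rfl⟩
  have hmem : (toConv χ : WithConv (A →ₐ[k] k)) ∈ Subgroup.zpowers g := hg _
  rw [← mem_powers_iff_mem_zpowers] at hmem
  obtain ⟨n, hn⟩ := hmem
  have hn' : g ^ (n % p) = toConv χ := by
    have := pow_mod_natCard g n
    rw [hcardΓ] at this
    rw [this]
    exact hn
  refine ⟨⟨n % p, Nat.mod_lt _ hp.pos⟩, ?_⟩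
  change emb g ^ (n % p) = v χ
  rw [← hemb_pow, hn']

end Etale

section InfMain

variable {k : Type u} [Field k] {A : Type v} [CommRing A] [HopfAlgebra k A] [Module.Finite k A]

/-- an infinitesimal group scheme of prime order: the dual algebra is spanned by the powers of an
invariant derivation. -/
theorem exists_gen_of_nilpotent (p : ℕ) (hp : p.Prime) (hA : Module.finrank k A = p)
    (N : ℕ) (hIN : augI k A ^ N = ⊥) :
    ∃ d : WithConv (A →ₗ[k] k),
      Submodule.span k (Set.range (fun i : Fin p => d ^ (i : ℕ))) = ⊤ := by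
  classical
  haveI : IsLocalRing A := isLocalRing_of_augmentation (Bialgebra.counitAlgHom k A)
    (fun x hx => ⟨N, by
      have := Ideal.pow_mem_pow ((mem_augI x).2 hx) N
      rwa [hIN, Ideal.mem_bot] at this⟩)
  haveI : CharP k p := by
    obtain ⟨q, hq⟩ := ExpChar.exists k
    cases hq with
    | zero =>
      exfalso
      have := finrank_eq_one_of_charZero k A
      rw [hA] at this
      exact hp.one_lt.ne' this
    | prime hq' =>
      haveI : Fact q.Prime := ⟨hq'⟩
      obtain ⟨r, hr⟩ := exists_finrank_eq_pow_of_charP k A q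
      rw [hA] at hr
      have hr0 : r ≠ 0 := by
        rintro rfl
        rw [pow_zero] at hr
        exact hp.one_lt.ne' hr
      have hqp : q ∣ p := by
        rw [hr]
        exact dvd_pow_self q hr0
      have : q = p := (Nat.prime_dvd_prime_iff_eq hq' hp).1 hqp
      rw [← this]
      infer_instance
  haveI := HopfSub.finite_cotangent (k := k) (A := A)
  have hd : Module.finrank k (augI k A).Cotangent ≠ 0 := by
    intro hd
    have := finrank_eq_one_of_cotangent (k := k) (A := A) hd
    rw [hA] at this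
    exact hp.one_lt.ne' this
  haveI : Nontrivial (augI k A).Cotangent := Module.finrank_pos_iff.1 (Nat.pos_of_ne_zero hd)
  obtain ⟨c, hc⟩ := exists_ne (0 : (augI k A).Cotangent)
  obtain ⟨l₀, hl₀⟩ : ∃ l₀ : (augI k A).Cotangent →ₗ[k] k, l₀ c ≠ 0 := by
    by_contra hcon
    push Not at hcon
    exact hc ((Module.forall_dual_apply_eq_zero_iff k c).1 hcon)
  obtain ⟨x₀, rfl⟩ := Ideal.toCotangent_surjective _ c
  set l : (augI k A).Cotangent →ₗ[k] k := (l₀ ((augI k A).toCotangent x₀))⁻¹ • l₀ with hl
  have hδ : dOf l (x₀ : A) = 1 := by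
    rw [dOf_of_mem l x₀.2, hl, LinearMap.smul_apply, smul_eq_mul]
    exact inv_mul_cancel₀ hl₀
  have hli := linearIndependent_pow l p hp (x₀ : A) x₀.2 hδ
  haveI : Module.Finite k (WithConv (A →ₗ[k] k)) :=
    Module.Finite.equiv (WithConv.linearEquiv k (A →ₗ[k] k)).symm
  have hfin : Module.finrank k (WithConv (A →ₗ[k] k)) = p := by
    rw [(WithConv.linearEquiv k (A →ₗ[k] k)).finrank_eq]
    exact (Subspace.dual_finrank_eq (K := k) (V := A)).trans hA
  refine ⟨toConv (dOf l), ?_⟩
  apply hli.span_eq_top_of_card_eq_finrank'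
  rw [hfin, Fintype.card_fin]

end InfMain

section Main

variable {k : Type u} [Field k] [IsAlgClosed k] {A : Type v} [CommRing A] [HopfAlgebra k A]
  [Module.Finite k A]

/-- over an algebraically closed field, the dual algebra of a group scheme of prime order is
spanned by the powers of a single element. -/
theorem exists_gen (p : ℕ) (hp : p.Prime) (hA : Module.finrank k A = p) :
    ∃ d : WithConv (A →ₗ[k] k),
      Submodule.span k (Set.range (fun i : Fin p => d ^ (i : ℕ))) = ⊤ := by
  obtain ⟨N, m, hN, hinf, hdim⟩ := exists_decomp (k := k) (A := A)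
  rw [hA] at hdim
  rcases hp.eq_one_or_self_of_dvd _ ⟨m, hdim⟩ with h1 | h1
  · have huniq : ∀ χ : A →ₐ[k] k, χ = Bialgebra.counitAlgHom k A := by
      haveI : Subsingleton (A →ₐ[k] k) := (Nat.card_eq_one_iff_unique.1 h1).1
      intro χ
      exact Subsingleton.elim _ _
    have hIN : augI k A ^ N = ⊥ := by
      rw [eq_bot_iff, ← hinf]
      refine le_iInf (fun χ => ?_)
      rw [huniq χ]
    exact exists_gen_of_nilpotent p hp hA N hIN
  · exact exists_gen_of_card_eq p hp hA h1

end Main

end Groth.Agent.Lib.Helper7.OT
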