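import Groth.Agent.Lib.Helper7.OT9

/-!
# Oort–Tate 10 (helper7): the presentation `T(I_1) / (x_1 ⋯ x_p - g) ≅ A` (S18474)
-/

universe u v w

open TensorProduct

namespace Groth.Agent.Lib.Helper7.OT

open WithConv Groth.Agent.S18468

lemma mod_inj {k n j : ℕ} (hn1 : 1 ≤ n) (hnk : n ≤ k) (hj1 : 1 ≤ j) (hjk : j ≤ k)
    (h : n % k = j % k) : n = j := by
  rcases Nat.lt_or_ge n k with hn | hn
  · rw [Nat.mod_eq_of_lt hn] at h
    rcases Nat.lt_or_ge j k with hj | hj
    · rw [Nat.mod_eq_of_lt hj] at h; exact h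
    · have : j = k := le_antisymm hjk hj
      subst this; rw [Nat.mod_self] at h; omega
  · have : n = k := le_antisymm hnk hn
    subst this
    rw [Nat.mod_self] at h
    rcases Nat.lt_or_ge j n with hj | hj
    · rw [Nat.mod_eq_of_lt hj] at h; omega
    · omega

section Setup

variable {p : ℕ} [Fact p.Prime] {R : Type u} [CommRing R] (u : R)
  (hu : u * ((p - 1 : ℕ) : R) = 1) (χ : (ZMod p)ˣ →* Rˣ)
  (hχ : ∀ m : (ZMod p)ˣ, m ≠ 1 → IsUnit ((χ m : R) - 1))
  (hχp : ∀ m : (ZMod p)ˣ, ((χ m : Rˣ) : R) - (((m : ZMod p).val : ℕ) : R) ∈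
    Ideal.span ({(p : R)} : Set R))
  {A : Type u} [CommRing A] [HopfAlgebra R A]

lemma list_prod_mem_eigenAug (l : List A) (hl : ∀ a ∈ l, a ∈ OortTate.eigenAug R A p χ 1)
    (hne : l ≠ []) : l.prod ∈ OortTate.eigenAug R A p χ l.length := by
  induction l with
  | nil => exact absurd rfl hne
  | cons a l ih =>
    rcases l with _ | ⟨b, l⟩
    · rw [List.prod_singleton, List.length_singleton]
      exact hl a List.mem_cons_self
    · have h1 := ih (fun c hc => hl c (List.mem_cons_of_mem _ hc)) (List.cons_ne_nil _ _)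
      have h2 := mul_mem_eigenAug χ (hl a List.mem_cons_self) h1
      rw [List.prod_cons, List.length_cons]
      rwa [add_comm] at h2

lemma prod_fin_mem_eigenAug (f : Fin p → OortTate.eigenAug R A p χ 1) :
    ∏ i, (f i : A) ∈ OortTate.eigenAug R A p χ 1 := by
  have hpp : p.Prime := Fact.out
  have h1 := list_prod_mem_eigenAug χ (List.ofFn fun i => (f i : A)) (by
    intro a ha
    rw [List.mem_ofFn] at ha
    obtain ⟨i, rfl⟩ := ha
    exact (f i).2) (by
    intro h
    have := congrArg List.length h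
    rw [List.length_ofFn, List.length_nil] at this
    exact hpp.ne_zero this)
  rw [List.prod_ofFn, List.length_ofFn] at h1
  have h := Nat.add_mod_left (p - 1) 1
  rw [Nat.sub_add_cancel hpp.one_le] at h
  rwa [eigenAug_congr χ h] at h1

include hu hχ in
lemma coeff_indep {x : A} (hx : x ∈ OortTate.eigenAug R A p χ 1) (d : ℕ → R)
    (hsum : ∑ n ∈ Finset.range p, d n • x ^ n = 0) :
    d 0 = 0 ∧ ∀ n, 1 ≤ n → n < p → d n • x ^ n = 0 := by
  have hpp : p.Prime := Fact.out
  have hpos : 0 < p - 1 := by have := hpp.one_lt; omega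
  have hεx : (Bialgebra.counitAlgHom R A) x = 0 := ((mem_eigenAug χ).1 hx).1
  have hd0 : d 0 = 0 := by
    have h := congrArg (Bialgebra.counitAlgHom R A) hsum
    rw [map_sum, map_zero, Finset.sum_eq_single 0] at h
    · rw [map_smul, pow_zero, map_one, smul_eq_mul, mul_one] at h
      exact h
    · intro n _ hn
      rw [map_smul, map_pow, hεx, zero_pow hn, smul_zero]
    · intro h0
      exact absurd (Finset.mem_range.2 hpp.pos) h0
  refine ⟨hd0, fun j hj1 hjp => ?_⟩
  have hproj : ∀ n, 1 ≤ n → n < p →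
      OortTate.proj R A p u χ (j % (p - 1)) (x ^ n) = if n = j then x ^ n else 0 := by
    intro n hn1 hnp
    have hmem : x ^ n ∈ OortTate.eigenAug R A p χ (n % (p - 1)) := by
      rw [← eigenAug_congr χ (Nat.mod_mod n (p - 1)).symm]
      exact pow_mem_eigenAug χ hx n hn1
    rw [proj_of_mem u hu χ hχ (Nat.mod_lt _ hpos) (Nat.mod_lt _ hpos) hmem]
    by_cases hnj : n = j
    · subst hnj; rw [if_pos rfl, if_pos rfl]
    · rw [if_neg hnj, if_neg]
      intro h
      exact hnj (mod_inj hn1 (by omega) hj1 (by omega) h.symm)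
  have h := congrArg (OortTate.proj R A p u χ (j % (p - 1))) hsum
  rw [map_sum, map_zero, Finset.sum_eq_single j] at h
  · rwa [map_smul, hproj j hj1 hjp, if_pos rfl] at h
  · intro n hn hnj
    rw [map_smul]
    rcases Nat.eq_zero_or_pos n with h0 | h0
    · subst h0; rw [hd0, zero_smul]
    · rw [hproj n h0 (Finset.mem_range.1 hn), if_neg hnj, smul_zero]
  · intro hj
    exact absurd (Finset.mem_range.2 hjp) hj

variable [Module.Finite R A] [Module.Projective R A]
  (hrk : ∀ q : PrimeSpectrum R, Module.rankAtStalk A q = p)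

include hu hχ hχp hrk in
/-- **the presentation** (S18474). -/
theorem presentation :
    Function.Surjective (TensorAlgebra.lift R (OortTate.eigenAug R A p χ 1).subtype) ∧
      RingHom.ker (TensorAlgebra.lift R (OortTate.eigenAug R A p χ 1).subtype) =
        Ideal.span (relSet (OortTate.eigenAug R A p χ 1) p) := by
  classical
  have hpp : p.Prime := Fact.out
  have hp2 : 2 ≤ p := hpp.two_le
  have hpos : 0 < p - 1 := by omega
  haveI : Coalgebra.IsCocomm R A := isCocomm_of_rank_prime R p Fact.out A hrk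
  have hp : (WithConv.toConv (AlgHom.id R A)) ^ p = 1 := Groth.Agent.S15048.result R A p hrk
  obtain ⟨hfin, hpow⟩ := main_of_killed u hu χ hχ hχp hp hrk
  set M := OortTate.eigenAug R A p χ 1 with hM
  refine ⟨?_, ?_⟩
  · intro a
    set S := (TensorAlgebra.lift R M.subtype).range with hS
    have hMS : M ≤ Subalgebra.toSubmodule S := by
      intro m hm
      exact ⟨TensorAlgebra.ι R ⟨m, hm⟩, TensorAlgebra.lift_ι_apply _ _⟩
    have hI : ∀ i, i < p - 1 → OortTate.eigenAug R A p χ i ≤ Subalgebra.toSubmodule S := by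
      intro i hi
      rcases Nat.eq_zero_or_pos i with h0 | h0
      · subst h0
        rw [eigenAug_congr χ (show 0 % (p - 1) = (p - 1) % (p - 1) by
          rw [Nat.mod_self, Nat.zero_mod]), ← hpow (p - 1) hpos le_rfl]
        exact pow_le_toSubmodule M S hMS _
      · rw [← hpow i h0 hi.le]
        exact pow_le_toSubmodule M S hMS _
    have ha : a ∈ S := by
      have h1 : a = algebraMap R A (Coalgebra.counit (R := R) a) + augPi R A a := by
        rw [augPi_apply]; ring
      rw [h1]
      refine S.add_mem (S.algebraMap_mem _) ?_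
      rw [← sum_proj u hu χ hχ (augPi R A a)]
      refine S.sum_mem fun i hi => ?_
      exact hI i (Finset.mem_range.1 hi) (proj_mem_eigenAug u χ hp i (counit_augPi a))
    exact ha
  · haveI := (hfin 1).1
    haveI := (hfin 1).2.1
    apply ker_lift_eq_span hp2 (prod_fin_mem_eigenAug χ)
    · intro q hq
      haveI := hq.isPrime
      exact exists_local_generator (↥M) q ((hfin 1).2.2 ⟨q, hq.isPrime⟩)
    · intro x d hsum
      exact coeff_indep u hu χ hχ x.2 d hsum
    · intro n hn1 hnp d hd
      haveI := (hfin n).1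
      haveI := (hfin n).2.1
      apply eq_zero_of_forall_smul_eq_zero (↥(OortTate.eigenAug R A p χ n)) (hfin n).2.2 d
      intro m
      apply Subtype.ext
      rw [Submodule.coe_smul, Submodule.coe_zero]
      apply hd
      rw [hpow n hn1 (by omega)]
      exact m.2

end Setup

end Groth.Agent.Lib.Helper7.OT
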