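import Groth.Agent.Lib.Helper7.OT10

/-!
# Oort–Tate 11 (helper7): the case of `μ_p` (S18473)
-/

universe u v w

open TensorProduct

namespace Groth.Agent.Lib.Helper7.OT

open WithConv Groth.Agent.S18468

section Cyclic

variable {p : ℕ} [Fact p.Prime] {R : Type u} [CommRing R] (u : R)
  (hu : u * ((p - 1 : ℕ) : R) = 1) (χ : (ZMod p)ˣ →* Rˣ)
  (hχ : ∀ m : (ZMod p)ˣ, m ≠ 1 → IsUnit ((χ m : R) - 1))
  {A : Type u} [CommRing A] [HopfAlgebra R A]
  (hp : (WithConv.toConv (AlgHom.id R A)) ^ p = 1)

include hp in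
lemma proj_rho (i : ℕ) (m : (ZMod p)ˣ) (v : A) :
    OortTate.proj R A p u χ i (SGA3b.powConv R A (m : ZMod p).val v) =
      (((χ m : Rˣ) : R) ^ i) • OortTate.proj R A p u χ i v := by
  have h1 : OortTate.proj R A p u χ i (rho p R A m v) = rho p R A m (OortTate.proj R A p u χ i v) := by
    rw [proj_eq, P_apply, P_apply, map_smul, map_sum]
    congr 1
    refine Finset.sum_congr rfl fun m' _ => ?_
    rw [map_smul]
    congr 1
    have e1 : rho p R A m' (rho p R A m v) = (rho p R A (m' * m)) v := by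
      rw [rho_mul hp]; rfl
    have e2 : rho p R A m (rho p R A m' v) = (rho p R A (m * m')) v := by
      rw [rho_mul hp]; rfl
    rw [e1, e2, mul_comm]
  have h2 := rho_P u χ (rho p R A) (rho_mul hp) i m v
  rw [← proj_eq] at h2
  rw [← h2]
  exact h1

lemma proj_congr {i j : ℕ} (h : i % (p - 1) = j % (p - 1)) :
    OortTate.proj R A p u χ i = OortTate.proj R A p u χ j := by
  unfold OortTate.proj
  congr 1
  refine Finset.sum_congr rfl fun m _ => ?_
  rw [pow_eq_pow_mod i (chi_pow_card χ m⁻¹), pow_eq_pow_mod j (chi_pow_card χ m⁻¹), h]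

include hu hχ hp in
/-- if the augmentation ideal is spanned by the `[m] e`, then `I_i` is spanned by `proj_i e`. -/
theorem eigenAug_eq_span_proj (e : A) (he0 : Coalgebra.counit (R := R) e = 0)
    (he : ∀ v : A, Coalgebra.counit (R := R) v = 0 →
      v ∈ Submodule.span R (Set.range fun m : (ZMod p)ˣ => SGA3b.powConv R A (m : ZMod p).val e))
    (i : ℕ) :
    OortTate.eigenAug R A p χ i = Submodule.span R {OortTate.proj R A p u χ i e} := by
  have hpp : p.Prime := Fact.out
  have hpos : 0 < p - 1 := by have := hpp.one_lt; omega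
  apply le_antisymm
  · intro v hv
    have hv' : v ∈ OortTate.eigenAug R A p χ (i % (p - 1)) := by
      rw [← eigenAug_congr χ (Nat.mod_mod i (p - 1)).symm]; exact hv
    have h1 : OortTate.proj R A p u χ i v = v := by
      rw [proj_congr u χ (Nat.mod_mod i (p - 1)).symm,
        proj_of_mem u hu χ hχ (Nat.mod_lt _ hpos) (Nat.mod_lt _ hpos) hv', if_pos rfl]
    have h2 := he v ((mem_eigenAug χ).1 hv).1
    rw [Submodule.mem_span_range_iff_exists_fun] at h2
    obtain ⟨c, hc⟩ := h2
    rw [← h1, ← hc, map_sum]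
    refine Submodule.sum_mem _ fun m _ => ?_
    rw [map_smul, proj_rho u χ hp, smul_smul]
    exact Submodule.smul_mem _ _ (Submodule.mem_span_singleton_self _)
  · rw [Submodule.span_le, Set.singleton_subset_iff]
    exact proj_mem_eigenAug u χ hp i he0

end Cyclic

section MuP

open MonoidAlgebra

variable (p : ℕ) [Fact p.Prime] (R : Type u) [CommRing R]

lemma powConv_single_one' (n : ℕ) (m : Multiplicative (ZMod p)) :
    SGA3b.powConv R (MonoidAlgebra R (Multiplicative (ZMod p))) n (single m 1) =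
      single (m ^ n) 1 := by
  induction n with
  | zero =>
    change (1 : WithConv (MonoidAlgebra R (Multiplicative (ZMod p)) →ₐ[R]
      MonoidAlgebra R (Multiplicative (ZMod p)))) (single m 1) = _
    rw [AlgHom.convOne_apply, MonoidAlgebra.counit_single, pow_zero]
    rfl
  | succ n ih =>
    change ((toConv (AlgHom.id R (MonoidAlgebra R (Multiplicative (ZMod p))))) ^ (n + 1))
      (single m 1) = _
    rw [pow_succ, MonoidAlgebra.convMul_algHom_single_one]
    change SGA3b.powConv R (MonoidAlgebra R (Multiplicative (ZMod p))) n (single m 1) *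
      single m 1 = _
    rw [ih, MonoidAlgebra.single_mul_single, one_mul, pow_succ]

lemma powConv_muT_sub_one (m : (ZMod p)ˣ) :
    SGA3b.powConv R (MonoidAlgebra R (Multiplicative (ZMod p))) (m : ZMod p).val
      (OortTate.muT R p - 1) = single (Multiplicative.ofAdd (m : ZMod p)) 1 - 1 := by
  haveI : NeZero p := ⟨(Fact.out : p.Prime).ne_zero⟩
  rw [map_sub, map_one]
  congr 1
  change SGA3b.powConv R _ _ (single (Multiplicative.ofAdd (1 : ZMod p)) 1) = _
  rw [powConv_single_one', ← ofAdd_nsmul, nsmul_one, ZMod.natCast_zmod_val]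

lemma counit_muT_sub_one :
    Coalgebra.counit (R := R) (OortTate.muT R p - 1 : MonoidAlgebra R (Multiplicative (ZMod p)))
      = 0 := by
  rw [map_sub, Bialgebra.counit_one]
  change Coalgebra.counit (R := R) (single (Multiplicative.ofAdd (1 : ZMod p)) (1 : R)) - 1 = 0
  rw [MonoidAlgebra.counit_single]
  simp

lemma mem_span_powConv_muT (v : MonoidAlgebra R (Multiplicative (ZMod p)))
    (hv : Coalgebra.counit (R := R) v = 0) :
    v ∈ Submodule.span R (Set.range fun m : (ZMod p)ˣ =>
      SGA3b.powConv R (MonoidAlgebra R (Multiplicative (ZMod p))) (m : ZMod p).val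
        (OortTate.muT R p - 1)) := by
  classical
  set b := MonoidAlgebra.basis (Multiplicative (ZMod p)) R with hb
  have h1 : v = ∑ g, b.repr v g • (single g (1 : R) - 1) := by
    have h2 := b.sum_repr v
    have h3 : ∑ g, b.repr v g = 0 := by
      have := congrArg (Coalgebra.counit (R := R)) h2
      rw [map_sum, hv] at this
      rw [← this]
      refine Finset.sum_congr rfl fun g _ => ?_
      rw [map_smul, hb, MonoidAlgebra.basis_apply, MonoidAlgebra.counit_single]
      simp
    conv_lhs => rw [← h2]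
    simp only [smul_sub]
    rw [Finset.sum_sub_distrib, ← Finset.sum_smul, h3, zero_smul, sub_zero]
    refine Finset.sum_congr rfl fun g _ => ?_
    rw [hb, MonoidAlgebra.basis_apply]
  rw [h1]
  refine Submodule.sum_mem _ fun g _ => Submodule.smul_mem _ _ ?_
  by_cases hg : Multiplicative.toAdd g = 0
  · have : g = 1 := by
      apply Multiplicative.toAdd.injective
      rw [hg]; rfl
    rw [this, ← MonoidAlgebra.one_def, sub_self]
    exact Submodule.zero_mem _
  · refine Submodule.subset_span ⟨Units.mk0 (Multiplicative.toAdd g) hg, ?_⟩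
    dsimp only
    rw [powConv_muT_sub_one]
    rfl

instance : Module.Free R (MonoidAlgebra R (Multiplicative (ZMod p))) :=
  Module.Free.of_basis (MonoidAlgebra.basis (Multiplicative (ZMod p)) R)

instance : Module.Finite R (MonoidAlgebra R (Multiplicative (ZMod p))) :=
  haveI : NeZero p := ⟨(Fact.out : p.Prime).ne_zero⟩
  Module.Finite.of_basis (MonoidAlgebra.basis (Multiplicative (ZMod p)) R)

lemma rankAtStalk_muP (q : PrimeSpectrum R) :
    Module.rankAtStalk (MonoidAlgebra R (Multiplicative (ZMod p))) q = p := by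
  haveI : NeZero p := ⟨(Fact.out : p.Prime).ne_zero⟩
  haveI : Nontrivial R := PrimeSpectrum.nonempty_iff_nontrivial.1 ⟨q⟩
  rw [Module.rankAtStalk_eq_finrank_of_free, Pi.natCast_apply,
    Module.finrank_eq_card_basis (MonoidAlgebra.basis (Multiplicative (ZMod p)) R),
    Fintype.card_multiplicative, ZMod.card]
  rfl

end MuP

section Gen

variable {p : ℕ} [Fact p.Prime] {R : Type u} [CommRing R] (u : R)
  (hu : u * ((p - 1 : ℕ) : R) = 1) (χ : (ZMod p)ˣ →* Rˣ)
  (hχ : ∀ m : (ZMod p)ˣ, m ≠ 1 → IsUnit ((χ m : R) - 1))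
  (hχp : ∀ m : (ZMod p)ˣ, ((χ m : Rˣ) : R) - (((m : ZMod p).val : ℕ) : R) ∈
    Ideal.span ({(p : R)} : Set R))
  {A : Type u} [CommRing A] [HopfAlgebra R A] [Module.Finite R A] [Module.Projective R A]
  (hp : (WithConv.toConv (AlgHom.id R A)) ^ p = 1)
  (hrk : ∀ q : PrimeSpectrum R, Module.rankAtStalk A q = p)

include hu hχ hχp hp hrk in
/-- a subalgebra containing `I_1` is everything. -/
lemma subalgebra_eq_top_of_le (S : Subalgebra R A)
    (hMS : OortTate.eigenAug R A p χ 1 ≤ Subalgebra.toSubmodule S) : S = ⊤ := by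
  have hpp : p.Prime := Fact.out
  have hpos : 0 < p - 1 := by have := hpp.one_lt; omega
  obtain ⟨hfin, hpow⟩ := main_of_killed u hu χ hχ hχp hp hrk
  have hI : ∀ i, i < p - 1 → OortTate.eigenAug R A p χ i ≤ Subalgebra.toSubmodule S := by
    intro i hi
    rcases Nat.eq_zero_or_pos i with h0 | h0
    · subst h0
      rw [eigenAug_congr χ (show 0 % (p - 1) = (p - 1) % (p - 1) by
        rw [Nat.mod_self, Nat.zero_mod]), ← hpow (p - 1) hpos le_rfl]
      exact pow_le_toSubmodule _ S hMS _
    · rw [← hpow i h0 hi.le]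
      exact pow_le_toSubmodule _ S hMS _
  rw [eq_top_iff]
  rintro a -
  have h1 : a = algebraMap R A (Coalgebra.counit (R := R) a) + augPi R A a := by
    rw [augPi_apply]; ring
  rw [h1]
  refine S.add_mem (S.algebraMap_mem _) ?_
  rw [← sum_proj u hu χ hχ (augPi R A a)]
  refine S.sum_mem fun i hi => ?_
  exact hI i (Finset.mem_range.1 hi) (proj_mem_eigenAug u χ hp i (counit_augPi a))

end Gen

section MuPMain

variable {p : ℕ} [Fact p.Prime] {R : Type u} [CommRing R] (u : R)
  (hu : u * ((p - 1 : ℕ) : R) = 1) (χ : (ZMod p)ˣ →* Rˣ)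
  (hχ : ∀ m : (ZMod p)ˣ, m ≠ 1 → IsUnit ((χ m : R) - 1))
  (hχp : ∀ m : (ZMod p)ˣ, ((χ m : Rˣ) : R) - (((m : ZMod p).val : ℕ) : R) ∈
    Ideal.span ({(p : R)} : Set R))

include hu hχ hχp in
/-- the facts on `μ_p` needed below. -/
theorem muP_facts :
    (∀ i, OortTate.eigenAug R (MonoidAlgebra R (Multiplicative (ZMod p))) p χ i =
      Submodule.span R {OortTate.ygen R p u χ i}) ∧
    (∀ i (c : R), c • OortTate.ygen R p u χ i = 0 → c = 0) := by
  classical
  set A := MonoidAlgebra R (Multiplicative (ZMod p)) with hA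
  have hrk := rankAtStalk_muP p R
  have hp : (WithConv.toConv (AlgHom.id R A)) ^ p = 1 := Groth.Agent.S15048.result R A p hrk
  obtain ⟨hfin, hpow⟩ := main_of_killed u hu χ hχ hχp hp hrk
  have hspan : ∀ i, OortTate.eigenAug R A p χ i = Submodule.span R {OortTate.ygen R p u χ i} :=
    fun i => eigenAug_eq_span_proj u hu χ hχ hp _ (counit_muT_sub_one p R)
      (mem_span_powConv_muT p R) i
  refine ⟨hspan, ?_⟩
  intro i c hc
  haveI := (hfin i).1
  haveI := (hfin i).2.1
  apply eq_zero_of_forall_smul_eq_zero (↥(OortTate.eigenAug R A p χ i)) (hfin i).2.2 c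
  intro m
  apply Subtype.ext
  rw [Submodule.coe_smul, Submodule.coe_zero]
  have hm : (m : A) ∈ Submodule.span R {OortTate.ygen R p u χ i} := by
    rw [← hspan i]; exact m.2
  rw [Submodule.mem_span_singleton] at hm
  obtain ⟨a, ha⟩ := hm
  rw [← ha, smul_comm, hc, smul_zero]

include hu hχ hχp in
/-- **the case of `μ_p`** (S18473). -/
theorem muP_main :
    LinearIndependent R (fun i : Fin (p - 1) => OortTate.ygen R p u χ (i : ℕ)) ∧
      Submodule.span R (Set.range (fun i : Fin (p - 1) => OortTate.ygen R p u χ (i : ℕ))) =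
        LinearMap.ker (Bialgebra.counitAlgHom R
          (MonoidAlgebra R (Multiplicative (ZMod p)))).toLinearMap ∧
      Algebra.adjoin R ({OortTate.ygen R p u χ 1} :
        Set (MonoidAlgebra R (Multiplicative (ZMod p)))) = ⊤ ∧
      ∃! w : R, OortTate.ygen R p u χ 1 ^ p = w • OortTate.ygen R p u χ 1 := by
  classical
  set A := MonoidAlgebra R (Multiplicative (ZMod p)) with hA
  have hrk := rankAtStalk_muP p R
  have hp : (WithConv.toConv (AlgHom.id R A)) ^ p = 1 := Groth.Agent.S15048.result R A p hrk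
  obtain ⟨hspan, hfree⟩ := muP_facts u hu χ hχ hχp
  have hymem : ∀ i, OortTate.ygen R p u χ i ∈ OortTate.eigenAug R A p χ i := fun i => by
    rw [hspan i]; exact Submodule.mem_span_singleton_self _
  refine ⟨?_, ?_, ?_, ?_⟩
  · rw [Fintype.linearIndependent_iff]
    intro g hg j
    apply hfree (j : ℕ)
    have h := congrArg (OortTate.proj R A p u χ (j : ℕ)) hg
    rw [map_sum, map_zero, Finset.sum_eq_single j] at h
    · rwa [map_smul, proj_of_mem u hu χ hχ j.2 j.2 (hymem j), if_pos rfl] at h
    · intro i _ hij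
      rw [map_smul, proj_of_mem u hu χ hχ j.2 i.2 (hymem i), if_neg, smul_zero]
      intro h
      exact hij (Fin.ext h.symm)
    · intro h
      exact absurd (Finset.mem_univ _) h
  · apply le_antisymm
    · rw [Submodule.span_le]
      rintro _ ⟨i, rfl⟩
      exact (mem_augW).2 ((mem_eigenAug χ).1 (hymem i)).1
    · intro v hv
      have hv0 : Coalgebra.counit (R := R) v = 0 := mem_augW.1 hv
      rw [← sum_proj u hu χ hχ v]
      refine Submodule.sum_mem _ fun i hi => ?_
      have h1 := proj_mem_eigenAug u χ hp i hv0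
      rw [hspan i, Submodule.mem_span_singleton] at h1
      obtain ⟨a, ha⟩ := h1
      rw [← ha]
      exact Submodule.smul_mem _ _ (Submodule.subset_span ⟨⟨i, Finset.mem_range.1 hi⟩, rfl⟩)
  · apply subalgebra_eq_top_of_le u hu χ hχ hχp hp hrk
    rw [hspan 1, Submodule.span_le, Set.singleton_subset_iff]
    exact Algebra.subset_adjoin (Set.mem_singleton _)
  · have h1 : OortTate.ygen R p u χ 1 ^ p ∈ OortTate.eigenAug R A p χ 1 := by
      have := prod_fin_mem_eigenAug χ (fun _ : Fin p =>
        (⟨OortTate.ygen R p u χ 1, hymem 1⟩ : OortTate.eigenAug R A p χ 1))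
      rw [Finset.prod_const, Finset.card_univ, Fintype.card_fin] at this
      exact this
    rw [hspan 1, Submodule.mem_span_singleton] at h1
    obtain ⟨w, hw⟩ := h1
    refine ⟨w, hw.symm, fun w' hw' => ?_⟩
    have : (w' - w) • OortTate.ygen R p u χ 1 = 0 := by
      rw [sub_smul, ← hw', hw, sub_self]
    exact sub_eq_zero.1 (hfree 1 _ this)

end MuPMain

end Groth.Agent.Lib.Helper7.OT
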