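import Groth.Agent.Lib.Helper7.OT11
import Groth.Agent.S18471

/-!
# Oort–Tate 12 (helper7): the identification `A ⊗ A^D ≅ End(A)` and the Cartier pairing
-/

universe u v w

open TensorProduct

namespace Groth.Agent.Lib.Helper7.OT

open WithConv Groth.Agent.S18468

section EvE

variable {R : Type u} [CommRing R] {A : Type u} [CommRing A] [HopfAlgebra R A]
  [Coalgebra.IsCocomm R A] [Module.Finite R A] [Module.Projective R A]

variable (R A) in
/-- `A ⊗ A^D ≅ End(A)`, `b ⊗ f ↦ (a ↦ f(a) b)`. -/
noncomputable def evEquiv : A ⊗[R] CartDual.D R A ≃ₗ[R] (A →ₗ[R] A) :=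
  (LinearEquiv.lTensor A (CartDual.toDual R A)) ≪≫ₗ
    (TensorProduct.comm R A (Module.Dual R A)) ≪≫ₗ (dualTensorHomEquiv R A A)

lemma evEquiv_tmul (b : A) (f : CartDual.D R A) (a : A) :
    evEquiv R A (b ⊗ₜ[R] f) a = (f a) • b := by
  simp only [evEquiv, LinearEquiv.trans_apply, LinearEquiv.lTensor_tmul, TensorProduct.comm_tmul,
    dualTensorHomEquiv, LinearEquiv.ofBijective_apply, dualTensorHom_apply]
  rfl

lemma evEquiv_eq (w : A ⊗[R] CartDual.D R A) (a : A) :
    TensorProduct.rid R A (LinearMap.lTensor A
      ((Module.Dual.eval R A a) ∘ₗ (CartDual.toDual R A).toLinearMap) w) = evEquiv R A w a := by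
  induction w using TensorProduct.induction_on with
  | zero => simp
  | add x y hx hy => rw [map_add, map_add, hx, hy, map_add, LinearMap.add_apply]
  | tmul b f =>
    rw [evEquiv_tmul, LinearMap.lTensor_tmul, TensorProduct.rid_tmul]
    rfl

/-- search shortcut (compare `CartDual.instRightDistribClassTensor`). -/
noncomputable instance instNUNASemiringTensorAD : NonUnitalNonAssocSemiring (A ⊗[R] CartDual.D R A) := by
  let _ : Semiring (A ⊗[R] CartDual.D R A) := inferInstance
  infer_instance

lemma evEquiv_mul (w w' : A ⊗[R] CartDual.D R A) :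
    toConv (evEquiv R A (w * w')) = toConv (evEquiv R A w) * toConv (evEquiv R A w') := by
  induction w using TensorProduct.induction_on with
  | zero => rw [zero_mul, map_zero, toConv_zero, zero_mul]
  | add x y hx hy => rw [add_mul, map_add, toConv_add, hx, hy, map_add, toConv_add, add_mul]
  | tmul b f =>
    induction w' using TensorProduct.induction_on with
    | zero => rw [mul_zero, map_zero, toConv_zero, mul_zero]
    | add x y hx hy => rw [mul_add, map_add, toConv_add, hx, hy, map_add, toConv_add, mul_add]
    | tmul b' f' =>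
      rw [Algebra.TensorProduct.tmul_mul_tmul]
      apply WithConv.ext
      apply LinearMap.ext
      intro a
      change evEquiv R A ((b * b') ⊗ₜ[R] (f * f')) a =
        (toConv (evEquiv R A (b ⊗ₜ[R] f)) * toConv (evEquiv R A (b' ⊗ₜ[R] f'))) a
      rw [evEquiv_tmul, LinearMap.convMul_apply, LinearMap.convMul_apply]
      generalize Coalgebra.comul (R := R) a = t
      induction t using TensorProduct.induction_on with
      | zero => simp only [map_zero, zero_smul]
      | add x y hx hy => simp only [map_add, add_smul, hx, hy]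
      | tmul a₁ a₂ =>
        simp only [TensorProduct.map_tmul, LinearMap.mul'_apply]
        rw [evEquiv_tmul, evEquiv_tmul, smul_mul_smul_comm]

lemma evEquiv_one :
    toConv (evEquiv R A (1 : A ⊗[R] CartDual.D R A)) = 1 := by
  apply WithConv.ext
  apply LinearMap.ext
  intro a
  change evEquiv R A (1 : A ⊗[R] CartDual.D R A) a = algebraMap R A (Coalgebra.counit (R := R) a)
  rw [Algebra.TensorProduct.one_def, evEquiv_tmul, Algebra.algebraMap_eq_smul_one]
  rfl

lemma evEquiv_pow (w : A ⊗[R] CartDual.D R A) (n : ℕ) :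
    toConv (evEquiv R A (w ^ n)) = (toConv (evEquiv R A w)) ^ n := by
  induction n with
  | zero => rw [pow_zero, pow_zero, evEquiv_one]
  | succ n ih => rw [pow_succ, pow_succ, evEquiv_mul, ih]

/-- if `δ` is the canonical element then `ev(δ^n) = [n]`. -/
lemma evEquiv_delta_pow (δ : A ⊗[R] CartDual.D R A)
    (hδ : ∀ a : A, TensorProduct.rid R A (LinearMap.lTensor A
      ((Module.Dual.eval R A a) ∘ₗ (CartDual.toDual R A).toLinearMap) δ) = a) (n : ℕ) :
    evEquiv R A (δ ^ n) = (SGA3b.powConv R A n).toLinearMap := by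
  have h1 : evEquiv R A δ = (AlgHom.id R A).toLinearMap := by
    apply LinearMap.ext
    intro a
    rw [← evEquiv_eq, hδ]
    rfl
  have h2 := evEquiv_pow δ n
  rw [h1] at h2
  have h3 := AlgHom.toLinearMap_convPow (toConv (AlgHom.id R A)) n
  rw [WithConv.ofConv_toConv] at h3
  rw [← h3] at h2
  exact WithConv.toConv_injective h2

end EvE

end Groth.Agent.Lib.Helper7.OT
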