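import Groth.Agent.Lib.Helper7.OT12

/-!
# Oort–Tate 13 (helper7): the projectors onto the eigenspaces, their transposes, and the image of
`y_i` under the Cartier pairing
-/

universe u v w

open TensorProduct

namespace Groth.Agent.Lib.Helper7.OT

open WithConv Groth.Agent.S18468

section ProjI

variable {p : ℕ} [Fact p.Prime] {R : Type u} [CommRing R] (u : R)
  (hu : u * ((p - 1 : ℕ) : R) = 1) (χ : (ZMod p)ˣ →* Rˣ)
  (hχ : ∀ m : (ZMod p)ˣ, m ≠ 1 → IsUnit ((χ m : R) - 1))
  {A : Type u} [CommRing A] [HopfAlgebra R A]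
  (hp : (WithConv.toConv (AlgHom.id R A)) ^ p = 1)

/-- the projector of `A` onto `I_i`. -/
noncomputable def projI (i : ℕ) : A →ₗ[R] A := OortTate.proj R A p u χ i ∘ₗ augPi R A

lemma projI_apply (i : ℕ) (a : A) :
    projI u χ i a = OortTate.proj R A p u χ i (augPi R A a) := rfl

include hp in
lemma projI_mem (i : ℕ) (a : A) : projI u χ i a ∈ OortTate.eigenAug R A p χ i :=
  proj_mem_eigenAug u χ hp i (counit_augPi a)

include hu hχ in
lemma proj_of_mem_gen {i j : ℕ} {v : A} (hv : v ∈ OortTate.eigenAug R A p χ j) :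
    OortTate.proj R A p u χ i v = if i % (p - 1) = j % (p - 1) then v else 0 := by
  have hpp : p.Prime := Fact.out
  have hpos : 0 < p - 1 := by have := hpp.one_lt; omega
  have hv' : v ∈ OortTate.eigenAug R A p χ (j % (p - 1)) := by
    rw [← eigenAug_congr χ (Nat.mod_mod j (p - 1)).symm]; exact hv
  rw [proj_congr u χ (Nat.mod_mod i (p - 1)).symm,
    proj_of_mem u hu χ hχ (Nat.mod_lt _ hpos) (Nat.mod_lt _ hpos) hv']

include hu hχ in
lemma projI_of_mem_gen {i j : ℕ} {v : A} (hv : v ∈ OortTate.eigenAug R A p χ j) :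
    projI u χ i v = if i % (p - 1) = j % (p - 1) then v else 0 := by
  rw [projI_apply, augPi_of_mem ((mem_eigenAug χ).1 hv).1, proj_of_mem_gen u hu χ hχ hv]

include hu hχ in
lemma projI_of_mem {i : ℕ} {v : A} (hv : v ∈ OortTate.eigenAug R A p χ i) :
    projI u χ i v = v := by
  rw [projI_of_mem_gen u hu χ hχ hv, if_pos rfl]

lemma projI_one (i : ℕ) : projI u χ i (1 : A) = 0 := by
  rw [projI_apply, augPi_apply, Bialgebra.counit_one, map_one, sub_self, map_zero]

lemma projI_algebraMap (i : ℕ) (r : R) : projI u χ i (algebraMap R A r) = 0 := by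
  rw [Algebra.algebraMap_eq_smul_one, map_smul, projI_one, smul_zero]

lemma augPi_proj_comm (i : ℕ) (a : A) :
    augPi R A (OortTate.proj R A p u χ i a) = OortTate.proj R A p u χ i (augPi R A a) := by
  have h1 : ∀ b : A, Coalgebra.counit (R := R) (OortTate.proj R A p u χ i b) =
      (u * ∑ m : (ZMod p)ˣ, ((χ m⁻¹ : Rˣ) : R) ^ i) * Coalgebra.counit (R := R) b := by
    intro b
    rw [proj_eq, P_apply, map_smul, map_sum, smul_eq_mul, mul_assoc, Finset.sum_mul]
    congr 1
    refine Finset.sum_congr rfl fun m _ => ?_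
    rw [map_smul, rho_apply, counit_powConv, smul_eq_mul]
  have h2 : OortTate.proj R A p u χ i (1 : A) =
      (u * ∑ m : (ZMod p)ˣ, ((χ m⁻¹ : Rˣ) : R) ^ i) • (1 : A) := by
    rw [proj_eq, P_apply, mul_smul, Finset.sum_smul]
    congr 1
    refine Finset.sum_congr rfl fun m _ => ?_
    rw [rho_apply, map_one]
  rw [augPi_apply, augPi_apply, map_sub]
  congr 1
  rw [h1, Algebra.algebraMap_eq_smul_one, Algebra.algebraMap_eq_smul_one, map_smul, h2, smul_smul,
    mul_comm]

end ProjI

section Transp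

variable {p : ℕ} [Fact p.Prime] {R : Type u} [CommRing R] (u : R)
  (hu : u * ((p - 1 : ℕ) : R) = 1) (χ : (ZMod p)ˣ →* Rˣ)
  (hχ : ∀ m : (ZMod p)ˣ, m ≠ 1 → IsUnit ((χ m : R) - 1))
  {A : Type u} [CommRing A] [HopfAlgebra R A] [Coalgebra.IsCocomm R A]
  [Module.Finite R A] [Module.Projective R A]
  (hp : (WithConv.toConv (AlgHom.id R A)) ^ p = 1)

lemma augPi_dual (f : CartDual.D R A) (a : A) :
    (augPi R (CartDual.D R A) f) a = f (augPi R A a) := by
  rw [augPi_apply, augPi_apply]
  change f a - (algebraMap R (CartDual.D R A) (f 1)) a = f.ofConv (a - _)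
  rw [map_sub, Algebra.algebraMap_eq_smul_one, Algebra.algebraMap_eq_smul_one, map_smul]
  change f a - (f 1) • ((1 : CartDual.D R A) a) = f a - _ • f 1
  rw [LinearMap.convOne_apply]
  simp [mul_comm]

lemma proj_dual (i : ℕ) (f : CartDual.D R A) (a : A) :
    (OortTate.proj R (CartDual.D R A) p u χ i f) a = f (OortTate.proj R A p u χ i a) :=
  Groth.Agent.S18471.PD_apply p R u χ A i f a

lemma projI_dual (i : ℕ) (f : CartDual.D R A) (a : A) :
    (projI u χ i f) a = f (projI u χ i a) := by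
  rw [projI_apply, proj_dual, augPi_dual, augPi_proj_comm]
  rfl

include hu hχ in
/-- elements of `I_i(A^D)` only see the `I_i(A)`-component. -/
lemma eigenAug_dual_apply {i : ℕ} {f : CartDual.D R A}
    (hf : f ∈ OortTate.eigenAug R (CartDual.D R A) p χ i) (a : A) :
    f a = f (projI u χ i a) := by
  rw [← projI_dual, projI_of_mem u hu χ hχ hf]

include hp in
/-- a form with `f = f ∘ π_i` lies in `I_i(A^D)`. -/
lemma mem_eigenAug_dual_of_apply {i : ℕ} {f : CartDual.D R A}
    (hf : ∀ a : A, f a = f (projI u χ i a)) :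
    f ∈ OortTate.eigenAug R (CartDual.D R A) p χ i := by
  have h : projI u χ i f = f := by
    apply WithConv.ext
    apply LinearMap.ext
    intro a
    change (projI u χ i f) a = f a
    rw [projI_dual, ← hf]
  rw [← h]
  exact projI_mem u χ (Groth.Agent.S18471.hpD p R A hp) i f

end Transp

section Phi

open MonoidAlgebra

variable {p : ℕ} [Fact p.Prime] {R : Type u} [CommRing R] (u : R)
  (hu : u * ((p - 1 : ℕ) : R) = 1) (χ : (ZMod p)ˣ →* Rˣ)
  (hχ : ∀ m : (ZMod p)ˣ, m ≠ 1 → IsUnit ((χ m : R) - 1))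
  {A : Type u} [CommRing A] [HopfAlgebra R A] [Coalgebra.IsCocomm R A]
  [Module.Finite R A] [Module.Projective R A]

lemma powConv_muT_sub_one' (n : ℕ) :
    SGA3b.powConv R (MonoidAlgebra R (Multiplicative (ZMod p))) n (OortTate.muT R p - 1) =
      (OortTate.muT R p) ^ n - 1 := by
  rw [map_sub, map_one]
  congr 1
  change SGA3b.powConv R _ n (single (Multiplicative.ofAdd (1 : ZMod p)) 1) =
    (single (Multiplicative.ofAdd (1 : ZMod p)) (1 : R)) ^ n
  rw [powConv_single_one', MonoidAlgebra.single_pow, one_pow]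

lemma ygen_eq (i : ℕ) :
    OortTate.ygen R p u χ i = u • ∑ m : (ZMod p)ˣ, (((χ m⁻¹ : Rˣ) : R) ^ i) •
      ((OortTate.muT R p) ^ (m : ZMod p).val - 1) := by
  change OortTate.proj R _ p u χ i (OortTate.muT R p - 1) = _
  rw [proj_eq, P_apply]
  simp only [rho_apply, powConv_muT_sub_one']

/-- the image of `y_i` under the Cartier pairing is the projector onto `I_i`. -/
lemma evEquiv_phi_ygen (δ : A ⊗[R] CartDual.D R A)
    (hδ : ∀ a : A, TensorProduct.rid R A (LinearMap.lTensor A
      ((Module.Dual.eval R A a) ∘ₗ (CartDual.toDual R A).toLinearMap) δ) = a)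
    (ϕ : MonoidAlgebra R (Multiplicative (ZMod p)) →ₐ[R] A ⊗[R] CartDual.D R A)
    (hϕ : ϕ (OortTate.muT R p) = δ) (i : ℕ) :
    evEquiv R A (ϕ (OortTate.ygen R p u χ i)) = projI u χ i := by
  have h1 : evEquiv R A (1 : A ⊗[R] CartDual.D R A) = (1 : WithConv (A →ₗ[R] A)).ofConv :=
    congrArg WithConv.ofConv evEquiv_one
  have hone : ϕ 1 = 1 := ϕ.map_one'
  have hpow : ∀ n : ℕ, ϕ (OortTate.muT R p ^ n) = δ ^ n := by
    intro n
    induction n with
    | zero => rw [pow_zero, pow_zero]; exact hone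
    | succ n ih => rw [pow_succ, pow_succ, map_mul, ih, hϕ]
  apply LinearMap.ext
  intro a
  rw [ygen_eq, projI_apply, proj_eq, P_apply, map_smul, map_smul, LinearMap.smul_apply, map_sum,
    map_sum, LinearMap.sum_apply]
  congr 1
  refine Finset.sum_congr rfl fun m _ => ?_
  rw [map_smul, map_smul, LinearMap.smul_apply, map_sub, hpow, hone, map_sub,
    evEquiv_delta_pow δ hδ, h1, rho_apply, augPi_apply, map_sub, AlgHom.commutes]
  rfl

end Phi

end Groth.Agent.Lib.Helper7.OT
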