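import Groth.Agent.Lib.Helper7.OT13

/-!
# Oort–Tate 14 (helper7): the Cartier pairing on `I_1(A) ⊗ I_1(A^D)` (S18477)
-/

universe u v w

open TensorProduct

namespace Groth.Agent.Lib.Helper7.OT

open WithConv Groth.Agent.S18468

/-- local-to-global principle for inclusions of submodules. -/
lemma le_of_forall_maximal_smul {R : Type*} [CommRing R] {V : Type*} [AddCommGroup V] [Module R V]
    {N N' : Submodule R V}
    (h : ∀ q : Ideal R, q.IsMaximal → ∃ s : R, s ∉ q ∧ ∀ w ∈ N, s • w ∈ N') : N ≤ N' := by
  intro w hw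
  set J : Ideal R := N'.comap (LinearMap.toSpanSingleton R V w) with hJ
  have hmem : ∀ r, r ∈ J ↔ r • w ∈ N' := fun r => by
    rw [hJ, Submodule.mem_comap, LinearMap.toSpanSingleton_apply]
  by_contra hne
  have hJtop : J ≠ ⊤ := by
    intro htop
    apply hne
    have : (1 : R) ∈ J := by rw [htop]; trivial
    rw [hmem, one_smul] at this
    exact this
  obtain ⟨q, hq, hJq⟩ := Ideal.exists_le_maximal J hJtop
  obtain ⟨s, hsq, hs⟩ := h q hq
  exact hsq (hJq ((hmem s).2 (hs w hw)))

section Pairing

variable {p : ℕ} [Fact p.Prime] {R : Type u} [CommRing R] (u : R)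
  (hu : u * ((p - 1 : ℕ) : R) = 1) (χ : (ZMod p)ˣ →* Rˣ)
  (hχ : ∀ m : (ZMod p)ˣ, m ≠ 1 → IsUnit ((χ m : R) - 1))
  (hχp : ∀ m : (ZMod p)ˣ, ((χ m : Rˣ) : R) - (((m : ZMod p).val : ℕ) : R) ∈
    Ideal.span ({(p : R)} : Set R))
  {A : Type u} [CommRing A] [HopfAlgebra R A] [Coalgebra.IsCocomm R A]
  [Module.Finite R A] [Module.Projective R A]
  (hp : (WithConv.toConv (AlgHom.id R A)) ^ p = 1)
  (hrk : ∀ q : PrimeSpectrum R, Module.rankAtStalk A q = p)

/-- the projector of `A ⊗ A^D` onto `I_i(A) ⊗ I_i(A^D)`. -/
noncomputable def projT (i : ℕ) : A ⊗[R] CartDual.D R A →ₗ[R] A ⊗[R] CartDual.D R A :=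
  TensorProduct.map (projI u χ i) (projI (A := CartDual.D R A) u χ i)

include hp in
lemma projT_mem_range (i : ℕ) (w : A ⊗[R] CartDual.D R A) :
    projT u χ i w ∈ LinearMap.range (TensorProduct.map (OortTate.eigenAug R A p χ i).subtype
      (OortTate.eigenAug R (CartDual.D R A) p χ i).subtype) := by
  induction w using TensorProduct.induction_on with
  | zero => rw [map_zero]; exact Submodule.zero_mem _
  | add x y hx hy => rw [map_add]; exact Submodule.add_mem _ hx hy
  | tmul b f =>
    refine ⟨(⟨projI u χ i b, projI_mem u χ hp i b⟩ : OortTate.eigenAug R A p χ i) ⊗ₜ[R]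
      (⟨projI u χ i f, projI_mem u χ (Groth.Agent.S18471.hpD p R A hp) i f⟩ :
        OortTate.eigenAug R (CartDual.D R A) p χ i), ?_⟩
    rw [TensorProduct.map_tmul]
    rfl

lemma evEquiv_projT (i : ℕ) (w : A ⊗[R] CartDual.D R A) :
    evEquiv R A (projT u χ i w) = projI u χ i ∘ₗ evEquiv R A w ∘ₗ projI u χ i := by
  induction w using TensorProduct.induction_on with
  | zero => simp
  | add x y hx hy => rw [map_add, map_add, hx, hy, map_add, LinearMap.add_comp, LinearMap.comp_add]
  | tmul b f =>
    apply LinearMap.ext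
    intro a
    change evEquiv R A ((projI u χ i b) ⊗ₜ[R] (projI u χ i f)) a =
      projI u χ i (evEquiv R A (b ⊗ₜ[R] f) (projI u χ i a))
    rw [evEquiv_tmul, evEquiv_tmul, projI_dual, map_smul]

include hu hχ hχp hp hrk in
/-- **the Cartier pairing** (S18477). -/
theorem pairing_main (δ : A ⊗[R] CartDual.D R A)
    (hδ : ∀ a : A, TensorProduct.rid R A (LinearMap.lTensor A
      ((Module.Dual.eval R A a) ∘ₗ (CartDual.toDual R A).toLinearMap) δ) = a)
    (ϕ : MonoidAlgebra R (Multiplicative (ZMod p)) →ₐ[R] A ⊗[R] CartDual.D R A)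
    (hϕ : ϕ (OortTate.muT R p) = δ) :
    Submodule.span R {ϕ (OortTate.ygen R p u χ 1)} =
        LinearMap.range (TensorProduct.map (OortTate.eigenAug R A p χ 1).subtype
          (OortTate.eigenAug R (CartDual.D R A) p χ 1).subtype) ∧
      ∀ r : R, r • ϕ (OortTate.ygen R p u χ 1) = 0 → r = 0 := by
  classical
  obtain ⟨hfin, hpow⟩ := main_of_killed u hu χ hχ hχp hp hrk
  haveI := (hfin 1).1
  haveI := (hfin 1).2.1
  set z := ϕ (OortTate.ygen R p u χ 1) with hz
  have hev : evEquiv R A z = projI u χ 1 := evEquiv_phi_ygen u χ δ hδ ϕ hϕ 1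
  refine ⟨?_, ?_⟩
  · apply le_antisymm
    · rw [Submodule.span_le, Set.singleton_subset_iff]
      have h1 : projT u χ 1 z = z := by
        apply (evEquiv R A).injective
        rw [evEquiv_projT, hev]
        apply LinearMap.ext
        intro a
        change projI u χ 1 (projI u χ 1 (projI u χ 1 a)) = projI u χ 1 a
        rw [projI_of_mem u hu χ hχ (projI_mem u χ hp 1 _),
          projI_of_mem u hu χ hχ (projI_mem u χ hp 1 _)]
      rw [SetLike.mem_coe, ← h1]
      exact projT_mem_range u χ hp 1 z
    · apply le_of_forall_maximal_smul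
      intro q hq
      haveI := hq.isPrime
      obtain ⟨x, s, hsq, hs⟩ := exists_local_generator (↥(OortTate.eigenAug R A p χ 1)) q
        ((hfin 1).2.2 ⟨q, hq.isPrime⟩)
      refine ⟨s * s, fun h => (hq.isPrime.mem_or_mem h).elim hsq hsq, ?_⟩
      rintro _ ⟨t, rfl⟩
      induction t using TensorProduct.induction_on with
      | zero => rw [map_zero, smul_zero]; exact Submodule.zero_mem _
      | add t1 t2 h1 h2 => rw [map_add, smul_add]; exact Submodule.add_mem _ h1 h2
      | tmul b f =>
        obtain ⟨c, hc⟩ := hs b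
        have hc' : s • (b : A) = c • (x : A) := congrArg Subtype.val hc
        have key : (s * s) • ((b : A) ⊗ₜ[R] (f : CartDual.D R A)) =
            (s * c * (f : CartDual.D R A) (x : A)) • z := by
          apply (evEquiv R A).injective
          apply LinearMap.ext
          intro a
          rw [map_smul, map_smul, LinearMap.smul_apply, LinearMap.smul_apply, evEquiv_tmul, hev,
            eigenAug_dual_apply u hu χ hχ f.2 a]
          obtain ⟨c', hc''⟩ := hs ⟨projI u χ 1 a, projI_mem u χ hp 1 a⟩
          have hc3 : s • projI u χ 1 a = c' • (x : A) := congrArg Subtype.val hc''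
          have e1 : (s * s) • ((f : CartDual.D R A) (projI u χ 1 a) • (b : A)) =
              ((f : CartDual.D R A) (s • projI u χ 1 a)) • (s • (b : A)) := by
            have : (f : CartDual.D R A) (s • projI u χ 1 a) =
                s • (f : CartDual.D R A) (projI u χ 1 a) :=
              map_smul (f : CartDual.D R A).ofConv s _
            rw [this, smul_smul, smul_smul, smul_eq_mul]
            congr 1
            ring
          have e2 : (f : CartDual.D R A) (c' • (x : A)) = c' • (f : CartDual.D R A) (x : A) :=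
            map_smul (f : CartDual.D R A).ofConv c' _
          have e3 : (s * c * (f : CartDual.D R A) (x : A)) • projI u χ 1 a =
              (c * (f : CartDual.D R A) (x : A)) • (s • projI u χ 1 a) := by
            rw [smul_smul]
            congr 1
            ring
          rw [e1, hc3, hc', e2, e3, hc3, smul_smul, smul_smul, smul_eq_mul]
          congr 1
          ring
        rw [TensorProduct.map_tmul]
        change (s * s) • ((b : A) ⊗ₜ[R] (f : CartDual.D R A)) ∈ _
        rw [key]
        exact Submodule.smul_mem _ _ (Submodule.mem_span_singleton_self _)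
  · intro r hr
    apply eq_zero_of_forall_smul_eq_zero (↥(OortTate.eigenAug R A p χ 1)) (hfin 1).2.2 r
    intro m
    apply Subtype.ext
    rw [Submodule.coe_smul, Submodule.coe_zero]
    have h1 := congrArg (fun w => evEquiv R A w (m : A)) hr
    simp only [map_smul, LinearMap.smul_apply, map_zero, LinearMap.zero_apply] at h1
    rw [hev, projI_of_mem u hu χ hχ m.2] at h1
    exact h1

end Pairing

end Groth.Agent.Lib.Helper7.OT
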