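import Groth.Agent.Lib.Helper7.OT14

/-!
# Oort–Tate 15 (helper7): the rank of the dual; the canonical element and the Cartier pairing map
-/

universe u v w

open TensorProduct

namespace Groth.Agent.Lib.Helper7.OT

open WithConv Groth.Agent.S18468

section RankDual

variable {R : Type u} [CommRing R] (M : Type u) [AddCommGroup M] [Module R M]
  [Module.Finite R M] [Module.Projective R M]

lemma isBaseChange_dual (S : Type u) [CommRing S] [Algebra R S] [Module.Flat R S] :
    IsBaseChange S (LinearMap.baseChangeHom R S M R) := by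
  haveI : Module.FinitePresentation R M := Module.finitePresentation_of_projective R M
  exact Module.FinitePresentation.isBaseChange_map R M R S

set_option maxHeartbeats 1000000 in
lemma rankAtStalk_dual_aux1 (S : Type u) [CommRing S] [Algebra R S] [Module.Flat R S]
    (pt : PrimeSpectrum S) :
    Module.rankAtStalk (S ⊗[R] M →ₗ[S] S ⊗[R] R) pt =
      Module.rankAtStalk (M →ₗ[R] R) (pt.comap (algebraMap R S)) := by
  exact Module.rankAtStalk_isBaseChange (isBaseChange_dual M S) pt

lemma rankAtStalk_dual_aux2 (S : Type u) [CommRing S] [Algebra R S] [Module.Flat R S]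
    [IsLocalRing S] (pt : PrimeSpectrum S) :
    Module.rankAtStalk (Module.Dual R M) (pt.comap (algebraMap R S)) =
      Module.rankAtStalk M (pt.comap (algebraMap R S)) := by
  change Module.rankAtStalk (M →ₗ[R] R) _ = _
  rw [← rankAtStalk_dual_aux1 M S pt, ← Module.rankAtStalk_baseChange (M := M) pt]
  haveI : Module.Free S (S ⊗[R] M) := Module.free_of_flat_of_isLocalRing
  have h3 := congrFun (Module.rankAtStalk_eq_finrank_of_free (R := S)
    (M := (S ⊗[R] M →ₗ[S] S ⊗[R] R))) pt
  have h5 := congrFun (Module.rankAtStalk_eq_finrank_of_free (R := S)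
    (M := (S ⊗[R] M))) pt
  rw [h3, h5, Pi.natCast_apply, Nat.cast_id, Pi.natCast_apply, Nat.cast_id,
    Module.finrank_linearMap]
  have h4 : Module.finrank S (S ⊗[R] R) = 1 := by
    rw [(TensorProduct.AlgebraTensorModule.rid R S S).finrank_eq, Module.finrank_self]
  rw [h4, mul_one]

/-- the dual of a finite projective module has the same rank. -/
lemma rankAtStalk_dual (q : PrimeSpectrum R) :
    Module.rankAtStalk (Module.Dual R M) q = Module.rankAtStalk M q := by
  have h2 : (IsLocalRing.closedPoint (Localization.AtPrime q.asIdeal)).comap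
      (algebraMap R (Localization.AtPrime q.asIdeal)) = q := by
    apply PrimeSpectrum.ext
    exact Localization.AtPrime.under_maximalIdeal (I := q.asIdeal)
  have := rankAtStalk_dual_aux2 (R := R) M (Localization.AtPrime q.asIdeal)
    (IsLocalRing.closedPoint (Localization.AtPrime q.asIdeal))
  rw [h2] at this
  exact this

end RankDual

section DualRank

variable {p : ℕ} {R : Type u} [CommRing R] {A : Type u} [CommRing A] [HopfAlgebra R A]
  [Module.Finite R A] [Module.Projective R A]

lemma rankAtStalk_cartDual (hrk : ∀ q : PrimeSpectrum R, Module.rankAtStalk A q = p)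
    (q : PrimeSpectrum R) : Module.rankAtStalk (CartDual.D R A) q = p := by
  have h1 := congrFun (Module.rankAtStalk_eq_of_equiv (CartDual.toDual R A)) q
  rw [h1, rankAtStalk_dual, hrk]

end DualRank

section Canon

variable {p : ℕ} [Fact p.Prime] {R : Type u} [CommRing R] {A : Type u} [CommRing A]
  [HopfAlgebra R A] [Coalgebra.IsCocomm R A] [Module.Finite R A] [Module.Projective R A]
  (hp : (WithConv.toConv (AlgHom.id R A)) ^ p = 1)

variable (R A) in
/-- the canonical element of `A ⊗ A^D`. -/
noncomputable def canon : A ⊗[R] CartDual.D R A := (evEquiv R A).symm LinearMap.id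

lemma canon_spec (a : A) : TensorProduct.rid R A (LinearMap.lTensor A
    ((Module.Dual.eval R A a) ∘ₗ (CartDual.toDual R A).toLinearMap) (canon R A)) = a := by
  rw [evEquiv_eq, canon, LinearEquiv.apply_symm_apply]
  rfl

include hp in
lemma canon_pow_p : (canon R A) ^ p = 1 := by
  apply (evEquiv R A).injective
  rw [evEquiv_delta_pow _ canon_spec]
  have h1 : evEquiv R A (1 : A ⊗[R] CartDual.D R A) = (1 : WithConv (A →ₗ[R] A)).ofConv :=
    congrArg WithConv.ofConv evEquiv_one
  rw [h1]
  unfold SGA3b.powConv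
  rw [hp]
  rfl

/-- powers of an element of order dividing `p`, as a monoid homomorphism. -/
noncomputable def powHom {B : Type*} [Monoid B] (δ : B) (hδ : δ ^ p = 1) :
    Multiplicative (ZMod p) →* B where
  toFun g := δ ^ (Multiplicative.toAdd g).val
  map_one' := by
    haveI : NeZero p := ⟨(Fact.out : p.Prime).ne_zero⟩
    change δ ^ ((0 : ZMod p)).val = 1
    rw [ZMod.val_zero, pow_zero]
  map_mul' g h := by
    haveI : NeZero p := ⟨(Fact.out : p.Prime).ne_zero⟩
    change δ ^ (Multiplicative.toAdd g + Multiplicative.toAdd h).val = _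
    rw [← pow_add, ZMod.val_add, ← pow_eq_pow_mod _ hδ]

/-- the Cartier pairing map `R[μ_p] → A ⊗ A^D`. -/
noncomputable def cartPhi :
    MonoidAlgebra R (Multiplicative (ZMod p)) →ₐ[R] A ⊗[R] CartDual.D R A :=
  MonoidAlgebra.lift R (A ⊗[R] CartDual.D R A) (Multiplicative (ZMod p))
    (powHom (canon R A) (canon_pow_p hp))

lemma cartPhi_muT : cartPhi hp (OortTate.muT R p) = canon R A := by
  haveI : Fact (1 < p) := ⟨(Fact.out : p.Prime).one_lt⟩
  change MonoidAlgebra.lift R (A ⊗[R] CartDual.D R A) (Multiplicative (ZMod p)) _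
    (MonoidAlgebra.of R _ (Multiplicative.ofAdd (1 : ZMod p))) = _
  rw [MonoidAlgebra.lift_of]
  change (canon R A) ^ ((1 : ZMod p)).val = _
  rw [ZMod.val_one, pow_one]

end Canon

section W

variable {p : ℕ} [Fact p.Prime] {R : Type u} [CommRing R] (u : R)
  (hu : u * ((p - 1 : ℕ) : R) = 1) (χ : (ZMod p)ˣ →* Rˣ)
  (hχ : ∀ m : (ZMod p)ˣ, m ≠ 1 → IsUnit ((χ m : R) - 1))
  (hχp : ∀ m : (ZMod p)ˣ, ((χ m : Rˣ) : R) - (((m : ZMod p).val : ℕ) : R) ∈
    Ideal.span ({(p : R)} : Set R))

include hu hχ hχp in
/-- the universal constants `w_i`: `y_1^i = w_i y_i`. -/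
lemma exists_w (i : ℕ) (hi : 1 ≤ i) :
    ∃ w : R, OortTate.ygen R p u χ 1 ^ i = w • OortTate.ygen R p u χ i := by
  obtain ⟨hspan, -⟩ := muP_facts u hu χ hχ hχp
  have h1 : OortTate.ygen R p u χ 1 ∈
      OortTate.eigenAug R (MonoidAlgebra R (Multiplicative (ZMod p))) p χ 1 := by
    rw [hspan 1]; exact Submodule.mem_span_singleton_self _
  have h2 := pow_mem_eigenAug χ h1 i hi
  rw [hspan i, Submodule.mem_span_singleton] at h2
  obtain ⟨w, hw⟩ := h2
  exact ⟨w, hw.symm⟩

end W

end Groth.Agent.Lib.Helper7.OT
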