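import Groth.Agent.Lib.Helper7.OT15

/-!
# Oort–Tate 16 (helper7): the universal pairing formula
`⟨a_1 ⋯ a_i, f_1 ⋯ f_i⟩ = w_i ∏ ⟨a_k, f_k⟩` for `a_k ∈ I_1(A)`, `f_k ∈ I_1(A^D)`.
-/

universe u v w

open TensorProduct

namespace Groth.Agent.Lib.Helper7.OT

open WithConv Groth.Agent.S18468

lemma eq_of_forall_maximal {R : Type*} [CommRing R] {r r' : R}
    (h : ∀ q : Ideal R, q.IsMaximal → ∃ s : R, s ∉ q ∧ s * r = s * r') : r = r' := by
  have h1 : Submodule.span R {r - r'} ≤ (⊥ : Submodule R R) := by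
    apply le_of_forall_maximal_smul
    intro q hq
    obtain ⟨s, hsq, hs⟩ := h q hq
    refine ⟨s, hsq, ?_⟩
    intro w hw
    rw [Submodule.mem_span_singleton] at hw
    obtain ⟨c, rfl⟩ := hw
    rw [Submodule.mem_bot, smul_eq_mul, smul_eq_mul]
    have : s * (c * (r - r')) = c * (s * r - s * r') := by ring
    rw [this, hs, sub_self, mul_zero]
  have h2 := h1 (Submodule.mem_span_singleton_self _)
  rwa [Submodule.mem_bot, sub_eq_zero] at h2

section U

variable {p : ℕ} [Fact p.Prime] {R : Type u} [CommRing R] (u : R)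
  (hu : u * ((p - 1 : ℕ) : R) = 1) (χ : (ZMod p)ˣ →* Rˣ)
  (hχ : ∀ m : (ZMod p)ˣ, m ≠ 1 → IsUnit ((χ m : R) - 1))
  (hχp : ∀ m : (ZMod p)ˣ, ((χ m : Rˣ) : R) - (((m : ZMod p).val : ℕ) : R) ∈
    Ideal.span ({(p : R)} : Set R))
  {A : Type u} [CommRing A] [HopfAlgebra R A] [Coalgebra.IsCocomm R A]
  [Module.Finite R A] [Module.Projective R A]
  (hp : (WithConv.toConv (AlgHom.id R A)) ^ p = 1)
  (hrk : ∀ q : PrimeSpectrum R, Module.rankAtStalk A q = p)

include hu hχ hχp hp hrk in
/-- **the universal pairing formula.** -/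
theorem pairing_prod (w : R) (i : ℕ) (hi1 : 1 ≤ i) (hip : i ≤ p - 1)
    (hw : OortTate.ygen R p u χ 1 ^ i = w • OortTate.ygen R p u χ i)
    (a : Fin i → OortTate.eigenAug R A p χ 1)
    (f : Fin i → OortTate.eigenAug R (CartDual.D R A) p χ 1) :
    (∏ k, (f k : CartDual.D R A)) (∏ k, (a k : A)) =
      w * ∏ k, (f k : CartDual.D R A) (a k : A) := by
  classical
  obtain ⟨hfin, hpow⟩ := main_of_killed u hu χ hχ hχp hp hrk
  haveI := (hfin 1).1
  haveI := (hfin 1).2.1
  set ϕ : MonoidAlgebra R (Multiplicative (ZMod p)) →ₐ[R] A ⊗[R] CartDual.D R A :=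
    cartPhi hp with hϕdef
  have hϕT : ϕ (OortTate.muT R p) = canon R A := cartPhi_muT hp
  set z := ϕ (OortTate.ygen R p u χ 1) with hz
  have hev1 : evEquiv R A z = projI u χ 1 := evEquiv_phi_ygen u χ _ canon_spec ϕ hϕT 1
  have hevi : evEquiv R A (z ^ i) = w • projI u χ i := by
    have hpw : ∀ n : ℕ, ϕ (OortTate.ygen R p u χ 1 ^ n) = z ^ n := by
      intro n
      induction n with
      | zero => rw [pow_zero, pow_zero]; exact ϕ.map_one'
      | succ n ih => rw [pow_succ, pow_succ, map_mul, ih]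
    rw [← hpw, hw, map_smul, map_smul, evEquiv_phi_ygen u χ _ canon_spec ϕ hϕT i]
  have hzr : z ∈ LinearMap.range (TensorProduct.map (OortTate.eigenAug R A p χ 1).subtype
      (OortTate.eigenAug R (CartDual.D R A) p χ 1).subtype) := by
    have := (pairing_main u hu χ hχ hχp hp hrk _ canon_spec ϕ hϕT).1
    rw [← this]
    exact Submodule.mem_span_singleton_self _
  apply eq_of_forall_maximal
  intro q hq
  haveI := hq.isPrime
  obtain ⟨x, s, hsq, hs⟩ := exists_local_generator (↥(OortTate.eigenAug R A p χ 1)) q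
    ((hfin 1).2.2 ⟨q, hq.isPrime⟩)
  have hA : ∀ t : (OortTate.eigenAug R A p χ 1) ⊗[R] (OortTate.eigenAug R (CartDual.D R A) p χ 1),
      ∃ ξ : OortTate.eigenAug R (CartDual.D R A) p χ 1,
        s • TensorProduct.map (OortTate.eigenAug R A p χ 1).subtype
          (OortTate.eigenAug R (CartDual.D R A) p χ 1).subtype t =
          (x : A) ⊗ₜ[R] (ξ : CartDual.D R A) := by
    intro t
    induction t using TensorProduct.induction_on with
    | zero => exact ⟨0, by rw [map_zero, smul_zero, Submodule.coe_zero, TensorProduct.tmul_zero]⟩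
    | add t1 t2 h1 h2 =>
      obtain ⟨ξ1, e1⟩ := h1
      obtain ⟨ξ2, e2⟩ := h2
      exact ⟨ξ1 + ξ2, by
        rw [map_add, smul_add, e1, e2, Submodule.coe_add, TensorProduct.tmul_add]⟩
    | tmul b g =>
      obtain ⟨c, hc⟩ := hs b
      have hc' : s • (b : A) = c • (x : A) := congrArg Subtype.val hc
      refine ⟨c • g, ?_⟩
      rw [TensorProduct.map_tmul]
      change s • ((b : A) ⊗ₜ[R] (g : CartDual.D R A)) = _
      rw [TensorProduct.smul_tmul', hc', Submodule.coe_smul, TensorProduct.smul_tmul]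
  obtain ⟨t, ht⟩ := hzr
  obtain ⟨ξ, hξ⟩ := hA t
  rw [ht] at hξ
  -- `ξ(b) x = s π_1(b)`
  have h1 : ∀ b : A, (ξ : CartDual.D R A) b • (x : A) = s • projI u χ 1 b := by
    intro b
    have := congrArg (fun v => evEquiv R A v b) hξ
    simp only [map_smul, LinearMap.smul_apply] at this
    rw [hev1, evEquiv_tmul] at this
    exact this.symm
  have h2 : ∀ m : OortTate.eigenAug R A p χ 1,
      s • (m : A) = (ξ : CartDual.D R A) (m : A) • (x : A) := by
    intro m
    rw [h1, projI_of_mem u hu χ hχ m.2]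
  have hlin : ∀ (g : CartDual.D R A) (c : R) (b : A), g (c • b) = c * g b := fun g c b =>
    map_smul g.ofConv c b
  have h3 : ∀ g : OortTate.eigenAug R (CartDual.D R A) p χ 1,
      s • (g : CartDual.D R A) = ((g : CartDual.D R A) (x : A)) • (ξ : CartDual.D R A) := by
    intro g
    apply WithConv.ext
    apply LinearMap.ext
    intro b
    change s * (g : CartDual.D R A) b = (g : CartDual.D R A) (x : A) * (ξ : CartDual.D R A) b
    rw [eigenAug_dual_apply u hu χ hχ g.2 b, ← hlin, ← h1, hlin, mul_comm]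
  -- the `i`-th powers
  have h4 : (s • z) ^ i = ((x : A) ^ i) ⊗ₜ[R] ((ξ : CartDual.D R A) ^ i) := by
    rw [hξ, Algebra.TensorProduct.tmul_pow]
  have h5 : ∀ b : A, ((ξ : CartDual.D R A) ^ i) b • (x : A) ^ i = (s ^ i * w) • projI u χ i b := by
    intro b
    have : evEquiv R A ((s • z) ^ i) b =
        evEquiv R A (((x : A) ^ i) ⊗ₜ[R] ((ξ : CartDual.D R A) ^ i)) b := by rw [h4]
    rw [smul_pow, map_smul, LinearMap.smul_apply, hevi, evEquiv_tmul, LinearMap.smul_apply,
      smul_smul] at this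
    exact this.symm
  have hxi : (x : A) ^ i ∈ OortTate.eigenAug R A p χ i := pow_mem_eigenAug χ x.2 i hi1
  have h6 : ((ξ : CartDual.D R A) ^ i) ((x : A) ^ i) • (x : A) ^ i = (s ^ i * w) • (x : A) ^ i := by
    rw [h5, projI_of_mem u hu χ hχ hxi]
  have hcancel : ∀ c c' : R, c • (x : A) ^ i = c' • (x : A) ^ i → c * s ^ i = c' * s ^ i := by
    intro c c' hcc
    have hz0 : (c - c') * s ^ i = 0 := by
      haveI := (hfin i).1
      haveI := (hfin i).2.1
      apply eq_zero_of_forall_smul_eq_zero (↥(OortTate.eigenAug R A p χ i)) (hfin i).2.2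
      intro m
      apply Subtype.ext
      rw [Submodule.coe_smul, Submodule.coe_zero]
      have hm : (m : A) ∈ (OortTate.eigenAug R A p χ 1) ^ i := by
        rw [hpow i hi1 hip]; exact m.2
      obtain ⟨cm, hcm⟩ := smul_pow_mem x s hs i (m : A) hm
      rw [mul_smul, hcm, smul_comm, sub_smul, hcc, sub_self, smul_zero]
    have := sub_mul c c' (s ^ i)
    rw [hz0] at this
    exact (sub_eq_zero.1 this.symm)
  have h7 := hcancel _ _ h6
  -- products
  have h8 : s ^ i • ∏ k, (a k : A) = (∏ k, (ξ : CartDual.D R A) (a k : A)) • (x : A) ^ i := by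
    have e := Finset.smul_prod (Finset.univ : Finset (Fin i)) s (fun k => (a k : A))
    rw [Finset.card_univ, Fintype.card_fin] at e
    rw [e, Finset.prod_congr rfl (fun k _ => h2 (a k)), Finset.prod_smul, Finset.prod_const,
      Finset.card_univ, Fintype.card_fin]
  have h9 : s ^ i • ∏ k, (f k : CartDual.D R A) =
      (∏ k, (f k : CartDual.D R A) (x : A)) • (ξ : CartDual.D R A) ^ i := by
    have e := Finset.smul_prod (Finset.univ : Finset (Fin i)) s (fun k => (f k : CartDual.D R A))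
    rw [Finset.card_univ, Fintype.card_fin] at e
    rw [e, Finset.prod_congr rfl (fun k _ => h3 (f k)), Finset.prod_smul, Finset.prod_const,
      Finset.card_univ, Fintype.card_fin]
  set P := (∏ k, (f k : CartDual.D R A)) (∏ k, (a k : A)) with hP
  set Q := ∏ k, (f k : CartDual.D R A) (a k : A) with hQ
  set Fx := ∏ k, (f k : CartDual.D R A) (x : A) with hFx
  set Ξa := ∏ k, (ξ : CartDual.D R A) (a k : A) with hΞa
  set E := ((ξ : CartDual.D R A) ^ i) ((x : A) ^ i) with hE
  have e1 : s ^ i * (s ^ i * P) = Fx * (Ξa * E) := by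
    have : (s ^ i • ∏ k, (f k : CartDual.D R A)) (s ^ i • ∏ k, (a k : A)) =
        s ^ i * (s ^ i * P) := by
      rw [hlin]
      rfl
    rw [← this, h8, h9, hlin]
    change Ξa * (Fx * E) = _
    ring
  have e2 : s ^ i * Q = Ξa * Fx := by
    rw [hQ, hΞa, hFx, ← Finset.prod_mul_distrib]
    have : s ^ i = ∏ _k : Fin i, s := by
      rw [Finset.prod_const, Finset.card_univ, Fintype.card_fin]
    rw [this, ← Finset.prod_mul_distrib]
    refine Finset.prod_congr rfl fun k _ => ?_
    rw [← hlin, h2, hlin]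
  refine ⟨s ^ i * s ^ i * s ^ i, ?_, ?_⟩
  · intro hmem
    have hpr := hq.isPrime
    rcases hpr.mem_or_mem hmem with h | h
    · rcases hpr.mem_or_mem h with h | h <;> exact hsq (hpr.mem_of_pow_mem _ h)
    · exact hsq (hpr.mem_of_pow_mem _ h)
  · linear_combination (s ^ i) * e1 + (Fx * Ξa) * h7 - (s ^ i * w * s ^ i) * e2

end U

end Groth.Agent.Lib.Helper7.OT
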