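import Groth.Agent.Lib.Helper7.OT16

/-!
# Oort–Tate 17 (helper7): extending an isomorphism of `I_1` to an algebra isomorphism
-/

universe u v w

open TensorProduct

namespace Groth.Agent.Lib.Helper7.OT

open WithConv Groth.Agent.S18468

section Ext

variable {R : Type u} [CommRing R] {A : Type u} [CommRing A] [Algebra R A] (M : Submodule R A)

/-- extension of a linear map on `M` compatible with `p`-fold products to an algebra map. -/
lemma exists_algHom_of_presentation {p : ℕ}
    (hsurj : Function.Surjective (TensorAlgebra.lift R M.subtype))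
    (hker : RingHom.ker (TensorAlgebra.lift R M.subtype) = Ideal.span (relSet M p))
    {A' : Type u} [CommRing A'] [Algebra R A'] (g : M →ₗ[R] A')
    (hg : ∀ (f : Fin p → M) (m : M), (m : A) = ∏ i, (f i : A) → g m = ∏ i, g (f i)) :
    ∃ Θ : A →ₐ[R] A', ∀ m : M, Θ (m : A) = g m := by
  set L := TensorAlgebra.lift R M.subtype with hL
  set Φ := TensorAlgebra.lift R g with hΦ
  have hgen : relSet M p ⊆ (RingHom.ker (Φ : TensorAlgebra R M →+* A') : Set _) := by
    rintro _ ⟨f, m, hm, rfl⟩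
    rw [SetLike.mem_coe, RingHom.mem_ker]
    change Φ _ = 0
    rw [map_sub, map_list_prod, List.map_ofFn, List.prod_ofFn, hΦ, TensorAlgebra.lift_ι_apply,
      hg f m hm, sub_eq_zero]
    refine Finset.prod_congr rfl fun i _ => ?_
    rw [Function.comp_apply, TensorAlgebra.lift_ι_apply]
  have hle : RingHom.ker (L : TensorAlgebra R M →+* A) ≤
      RingHom.ker (Φ : TensorAlgebra R M →+* A') := by
    intro t ht
    have ht' : t ∈ RingHom.ker L := ht
    rw [hker] at ht'
    exact (Ideal.span_le.2 hgen) ht'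
  have hsurj' : Function.Surjective (L : TensorAlgebra R M →+* A) := hsurj
  set Θ₀ : A →+* A' :=
    (L : TensorAlgebra R M →+* A).liftOfSurjective hsurj' ⟨(Φ : TensorAlgebra R M →+* A'), hle⟩
    with hΘ₀
  have hΘL : ∀ t, Θ₀ (L t) = Φ t := fun t =>
    RingHom.liftOfRightInverse_comp_apply (L : TensorAlgebra R M →+* A) _
      (Function.rightInverse_surjInv hsurj') ⟨(Φ : TensorAlgebra R M →+* A'), hle⟩ t
  refine ⟨{ Θ₀ with
    commutes' := fun r => by
      have := hΘL (algebraMap R _ r)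
      rwa [AlgHom.commutes, AlgHom.commutes] at this }, ?_⟩
  intro m
  have := hΘL (TensorAlgebra.ι R m)
  rw [hL, hΦ, TensorAlgebra.lift_ι_apply, TensorAlgebra.lift_ι_apply] at this
  exact this

lemma pow_eq_span_prod (n : ℕ) :
    M ^ n = Submodule.span R {y : A | ∃ a : Fin n → M, y = ∏ k, (a k : A)} := by
  rw [Submodule.pow_eq_span_pow_set]
  congr 1
  ext y
  rw [Set.mem_pow]
  constructor
  · rintro ⟨f, rfl⟩
    exact ⟨fun k => ⟨(f k : A), (f k).2⟩, by rw [List.prod_ofFn]⟩
  · rintro ⟨a, rfl⟩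
    exact ⟨fun k => ⟨(a k : A), (a k).2⟩, by rw [List.prod_ofFn]⟩

end Ext

section Decomp

variable {p : ℕ} [Fact p.Prime] {R : Type u} [CommRing R] (u : R)
  (hu : u * ((p - 1 : ℕ) : R) = 1) (χ : (ZMod p)ˣ →* Rˣ)
  (hχ : ∀ m : (ZMod p)ˣ, m ≠ 1 → IsUnit ((χ m : R) - 1))
  (hχp : ∀ m : (ZMod p)ˣ, ((χ m : Rˣ) : R) - (((m : ZMod p).val : ℕ) : R) ∈
    Ideal.span ({(p : R)} : Set R))
  {A : Type u} [CommRing A] [HopfAlgebra R A]
  (hp : (WithConv.toConv (AlgHom.id R A)) ^ p = 1)

include hu hχ hp in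
/-- linear maps on `A` are determined by their values on `1` and on the eigenspaces. -/
lemma linearMap_ext_eigen {V : Type*} [AddCommGroup V] [Module R V] (F G : A →ₗ[R] V)
    (h1 : F 1 = G 1)
    (h : ∀ i, i < p - 1 → ∀ a ∈ OortTate.eigenAug R A p χ i, F a = G a) : F = G := by
  apply LinearMap.ext
  intro a
  have ha : a = Coalgebra.counit (R := R) a • (1 : A) + augPi R A a := by
    rw [augPi_apply, Algebra.algebraMap_eq_smul_one]; ring
  rw [ha, map_add, map_add, map_smul, map_smul, h1]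
  congr 1
  rw [← sum_proj u hu χ hχ (augPi R A a), map_sum, map_sum]
  refine Finset.sum_congr rfl fun i hi => ?_
  exact h i (Finset.mem_range.1 hi) _ (proj_mem_eigenAug u χ hp i (counit_augPi _))

variable [Module.Finite R A] [Module.Projective R A]
  (hrk : ∀ q : PrimeSpectrum R, Module.rankAtStalk A q = p)

include hu hχ hχp hp hrk in
/-- each eigenspace `I_i`, `i < p - 1`, is a power `I_1^t` with `1 ≤ t ≤ p - 1`. -/
lemma eigenAug_lt_eq_pow {i : ℕ} (hi : i < p - 1) :
    ∃ t : ℕ, 1 ≤ t ∧ t ≤ p - 1 ∧ t % (p - 1) = i % (p - 1) ∧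
      OortTate.eigenAug R A p χ i = (OortTate.eigenAug R A p χ 1) ^ t ∧
      OortTate.eigenAug R A p χ i = OortTate.eigenAug R A p χ t := by
  have hpp : p.Prime := Fact.out
  have hpos : 0 < p - 1 := by have := hpp.one_lt; omega
  obtain ⟨hfin, hpow⟩ := main_of_killed u hu χ hχ hχp hp hrk
  rcases Nat.eq_zero_or_pos i with h0 | h0
  · subst h0
    have hc : OortTate.eigenAug R A p χ 0 = OortTate.eigenAug R A p χ (p - 1) :=
      eigenAug_congr χ (by rw [Nat.mod_self, Nat.zero_mod])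
    refine ⟨p - 1, hpos, le_rfl, by rw [Nat.mod_self, Nat.zero_mod], ?_, hc⟩
    rw [hc, hpow (p - 1) hpos le_rfl]
  · exact ⟨i, h0, hi.le, rfl, (hpow i h0 hi.le).symm, rfl⟩

end Decomp

end Groth.Agent.Lib.Helper7.OT
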