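import Groth.Agent.Lib.Helper7.OT17

/-!
# Oort–Tate 18 (helper7): the algebra isomorphism extending `θ : I_1(A) ≅ I_1(A')`
-/

universe u v w

open TensorProduct

namespace Groth.Agent.Lib.Helper7.OT

open WithConv Groth.Agent.S18468

/-- the exponent `t` with `I_i = I_1^t`. -/
def tOf (p i : ℕ) : ℕ := if i = 0 then p - 1 else i

lemma tOf_pos {p i : ℕ} (hp : 0 < p - 1) : 1 ≤ tOf p i := by
  unfold tOf; split_ifs <;> omega

lemma tOf_le {p i : ℕ} (hi : i < p - 1) : tOf p i ≤ p - 1 := by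
  unfold tOf; split_ifs <;> omega

lemma tOf_mod {p i : ℕ} : tOf p i % (p - 1) = i % (p - 1) := by
  unfold tOf
  split_ifs with h
  · rw [h, Nat.mod_self, Nat.zero_mod]
  · rfl

section One

variable {p : ℕ} [Fact p.Prime] {R : Type u} [CommRing R] (u : R)
  (hu : u * ((p - 1 : ℕ) : R) = 1) (χ : (ZMod p)ˣ →* Rˣ)
  (hχ : ∀ m : (ZMod p)ˣ, m ≠ 1 → IsUnit ((χ m : R) - 1))
  (hχp : ∀ m : (ZMod p)ˣ, ((χ m : Rˣ) : R) - (((m : ZMod p).val : ℕ) : R) ∈
    Ideal.span ({(p : R)} : Set R))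
  {A : Type u} [CommRing A] [HopfAlgebra R A]

lemma prod_fin_mem_eigenAug' {n : ℕ} (hn : 1 ≤ n) (f : Fin n → OortTate.eigenAug R A p χ 1) :
    ∏ i, (f i : A) ∈ OortTate.eigenAug R A p χ n := by
  have h1 := list_prod_mem_eigenAug χ (List.ofFn fun i => (f i : A)) (by
    intro a ha
    rw [List.mem_ofFn] at ha
    obtain ⟨i, rfl⟩ := ha
    exact (f i).2) (by
    intro h
    have := congrArg List.length h
    rw [List.length_ofFn, List.length_nil] at this
    omega)
  rwa [List.prod_ofFn, List.length_ofFn] at h1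

variable [Module.Finite R A] [Module.Projective R A]
  (hp : (WithConv.toConv (AlgHom.id R A)) ^ p = 1)
  (hrk : ∀ q : PrimeSpectrum R, Module.rankAtStalk A q = p)

include hu hχ hχp hp hrk in
lemma eigenAug_lt_eq_pow' {i : ℕ} (hi : i < p - 1) :
    OortTate.eigenAug R A p χ i = (OortTate.eigenAug R A p χ 1) ^ (tOf p i) ∧
      OortTate.eigenAug R A p χ i = OortTate.eigenAug R A p χ (tOf p i) := by
  have hpp : p.Prime := Fact.out
  have hpos : 0 < p - 1 := by have := hpp.one_lt; omega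
  obtain ⟨hfin, hpow⟩ := main_of_killed u hu χ hχ hχp hp hrk
  have hc : OortTate.eigenAug R A p χ i = OortTate.eigenAug R A p χ (tOf p i) :=
    eigenAug_congr χ tOf_mod.symm
  refine ⟨?_, hc⟩
  rw [hc, hpow _ (tOf_pos hpos) (tOf_le hi)]

end One

section Two

variable {p : ℕ} [Fact p.Prime] {R : Type u} [CommRing R] (u : R)
  (hu : u * ((p - 1 : ℕ) : R) = 1) (χ : (ZMod p)ˣ →* Rˣ)
  (hχ : ∀ m : (ZMod p)ˣ, m ≠ 1 → IsUnit ((χ m : R) - 1))
  (hχp : ∀ m : (ZMod p)ˣ, ((χ m : Rˣ) : R) - (((m : ZMod p).val : ℕ) : R) ∈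
    Ideal.span ({(p : R)} : Set R))
  {A : Type u} [CommRing A] [HopfAlgebra R A] [Module.Finite R A] [Module.Projective R A]
  (hp : (WithConv.toConv (AlgHom.id R A)) ^ p = 1)
  (hrk : ∀ q : PrimeSpectrum R, Module.rankAtStalk A q = p)
  {A' : Type u} [CommRing A'] [HopfAlgebra R A'] [Module.Finite R A'] [Module.Projective R A']
  (hp' : (WithConv.toConv (AlgHom.id R A')) ^ p = 1)
  (hrk' : ∀ q : PrimeSpectrum R, Module.rankAtStalk A' q = p)

include hu hχ hχp hp hrk hp' hrk' in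
/-- an isomorphism `θ : I_1(A) ≅ I_1(A')` compatible with `p`-fold products extends to an
isomorphism of algebras. -/
lemma exists_algEquiv (θ : OortTate.eigenAug R A p χ 1 ≃ₗ[R] OortTate.eigenAug R A' p χ 1)
    (hθ : ∀ (f : Fin p → OortTate.eigenAug R A p χ 1) (g : OortTate.eigenAug R A p χ 1),
      (g : A) = ∏ i, (f i : A) →
        ((θ g : OortTate.eigenAug R A' p χ 1) : A') = ∏ i, ((θ (f i)) : A')) :
    ∃ e : A ≃ₐ[R] A', ∀ m : OortTate.eigenAug R A p χ 1, e (m : A) = (θ m : A') := by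
  haveI : Coalgebra.IsCocomm R A := isCocomm_of_rank_prime R p Fact.out A hrk
  haveI : Coalgebra.IsCocomm R A' := isCocomm_of_rank_prime R p Fact.out A' hrk'
  obtain ⟨hsurj, hker⟩ := presentation u hu χ hχ hχp hrk (A := A)
  obtain ⟨hsurj', hker'⟩ := presentation u hu χ hχ hχp hrk' (A := A')
  obtain ⟨Θ, hΘ⟩ := exists_algHom_of_presentation (OortTate.eigenAug R A p χ 1) hsurj hker
    ((OortTate.eigenAug R A' p χ 1).subtype ∘ₗ θ.toLinearMap) (fun f g hg => hθ f g hg)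
  obtain ⟨Θ', hΘ'⟩ := exists_algHom_of_presentation (OortTate.eigenAug R A' p χ 1) hsurj' hker'
    ((OortTate.eigenAug R A p χ 1).subtype ∘ₗ θ.symm.toLinearMap) (by
      intro f' m' hm'
      set g₀ : OortTate.eigenAug R A p χ 1 :=
        ⟨∏ i, ((θ.symm (f' i) : OortTate.eigenAug R A p χ 1) : A),
          prod_fin_mem_eigenAug χ (fun i => θ.symm (f' i))⟩ with hg₀
      have h1 := hθ (fun i => θ.symm (f' i)) g₀ rfl
      simp only [LinearEquiv.apply_symm_apply] at h1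
      have h2 : θ g₀ = m' := Subtype.ext (h1.trans hm'.symm)
      have h3 : θ.symm m' = g₀ := by rw [← h2, LinearEquiv.symm_apply_apply]
      change ((θ.symm m' : OortTate.eigenAug R A p χ 1) : A) = ∏ i, ((θ.symm (f' i) :
        OortTate.eigenAug R A p χ 1) : A)
      rw [h3])
  have hΘm : ∀ m : OortTate.eigenAug R A p χ 1, Θ (m : A) = (θ m : A') := hΘ
  have hΘm' : ∀ m' : OortTate.eigenAug R A' p χ 1, Θ' (m' : A') = (θ.symm m' : A) := hΘ'
  have h2 : Θ'.comp Θ = AlgHom.id R A := by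
    have hS : AlgHom.equalizer (Θ'.comp Θ) (AlgHom.id R A) = ⊤ := by
      apply subalgebra_eq_top_of_le u hu χ hχ hχp hp hrk
      intro m hm
      change (Θ'.comp Θ) m = (AlgHom.id R A) m
      rw [AlgHom.comp_apply, hΘm ⟨m, hm⟩, hΘm', LinearEquiv.symm_apply_apply]
      rfl
    apply AlgHom.ext
    intro a
    have : a ∈ AlgHom.equalizer (Θ'.comp Θ) (AlgHom.id R A) := by rw [hS]; trivial
    exact this
  have h1 : Θ.comp Θ' = AlgHom.id R A' := by
    have hS : AlgHom.equalizer (Θ.comp Θ') (AlgHom.id R A') = ⊤ := by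
      apply subalgebra_eq_top_of_le u hu χ hχ hχp hp' hrk'
      intro m hm
      change (Θ.comp Θ') m = (AlgHom.id R A') m
      rw [AlgHom.comp_apply, hΘm' ⟨m, hm⟩, hΘm, LinearEquiv.apply_symm_apply]
      rfl
    apply AlgHom.ext
    intro a
    have : a ∈ AlgHom.equalizer (Θ.comp Θ') (AlgHom.id R A') := by rw [hS]; trivial
    exact this
  exact ⟨AlgEquiv.ofAlgHom Θ Θ' h1 h2, hΘm⟩

end Two

end Groth.Agent.Lib.Helper7.OT
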