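import Groth.Agent.Lib.Helper7.OT18
import Groth.Prelude.Def_CartDual2

/-!
# Oort–Tate 19 (helper7): the extended isomorphism is an isomorphism of bialgebras (S18478)
-/

universe u v w

open TensorProduct

namespace Groth.Agent.Lib.Helper7.OT

open WithConv Groth.Agent.S18468

section Three

variable {p : ℕ} [Fact p.Prime] {R : Type u} [CommRing R] (u : R)
  (hu : u * ((p - 1 : ℕ) : R) = 1) (χ : (ZMod p)ˣ →* Rˣ)
  (hχ : ∀ m : (ZMod p)ˣ, m ≠ 1 → IsUnit ((χ m : R) - 1))
  (hχp : ∀ m : (ZMod p)ˣ, ((χ m : Rˣ) : R) - (((m : ZMod p).val : ℕ) : R) ∈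
    Ideal.span ({(p : R)} : Set R))
  {A : Type u} [CommRing A] [HopfAlgebra R A] [Coalgebra.IsCocomm R A]
  [Module.Finite R A] [Module.Projective R A]
  (hp : (WithConv.toConv (AlgHom.id R A)) ^ p = 1)
  (hrk : ∀ q : PrimeSpectrum R, Module.rankAtStalk A q = p)
  {A' : Type u} [CommRing A'] [HopfAlgebra R A'] [Coalgebra.IsCocomm R A']
  [Module.Finite R A'] [Module.Projective R A']
  (hp' : (WithConv.toConv (AlgHom.id R A')) ^ p = 1)
  (hrk' : ∀ q : PrimeSpectrum R, Module.rankAtStalk A' q = p)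
  (θ : OortTate.eigenAug R A p χ 1 ≃ₗ[R] OortTate.eigenAug R A' p χ 1)
  (e : A ≃ₐ[R] A')
  (he : ∀ m : OortTate.eigenAug R A p χ 1, e (m : A) = (θ m : A'))

include hu hχ hχp hp hrk hp' hrk' he in
lemma map_eigenAug_lt {i : ℕ} (hi : i < p - 1) {a : A} (ha : a ∈ OortTate.eigenAug R A p χ i) :
    e a ∈ OortTate.eigenAug R A' p χ i := by
  obtain ⟨h1, -⟩ := eigenAug_lt_eq_pow' u hu χ hχ hχp hp hrk hi
  obtain ⟨h1', -⟩ := eigenAug_lt_eq_pow' u hu χ hχ hχp hp' hrk' hi
  rw [h1, pow_eq_span_prod] at ha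
  rw [h1', pow_eq_span_prod]
  induction ha using Submodule.span_induction with
  | mem y hy =>
    obtain ⟨b, rfl⟩ := hy
    refine Submodule.subset_span ⟨fun k => θ (b k), ?_⟩
    rw [map_prod]
    exact Finset.prod_congr rfl fun k _ => he (b k)
  | zero => rw [map_zero]; exact Submodule.zero_mem _
  | add x y _ _ hx hy => rw [map_add]; exact Submodule.add_mem _ hx hy
  | smul c x _ hx => rw [map_smul]; exact Submodule.smul_mem _ _ hx

include hu hχ hχp hp hrk he in
lemma counit_e (a : A) : Coalgebra.counit (R := R) (e a) = Coalgebra.counit (R := R) a := by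
  have hS : AlgHom.equalizer ((Bialgebra.counitAlgHom R A').comp (e : A →ₐ[R] A'))
      (Bialgebra.counitAlgHom R A) = ⊤ := by
    apply subalgebra_eq_top_of_le u hu χ hχ hχp hp hrk
    intro m hm
    change Coalgebra.counit (R := R) (e m) = Coalgebra.counit (R := R) m
    rw [he ⟨m, hm⟩, ((mem_eigenAug χ).1 hm).1, ((mem_eigenAug χ).1 (θ ⟨m, hm⟩).2).1]
  have : a ∈ AlgHom.equalizer ((Bialgebra.counitAlgHom R A').comp (e : A →ₐ[R] A'))
      (Bialgebra.counitAlgHom R A) := by rw [hS]; trivial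
  exact this

include hu hχ hχp hp hrk hp' hrk' he in
lemma projI_e (j : ℕ) (a : A) : projI u χ j (e a) = e (projI u χ j a) := by
  have h := linearMap_ext_eigen u hu χ hχ hp
    ((projI (A := A') u χ j) ∘ₗ e.toLinearMap) (e.toLinearMap ∘ₗ (projI (A := A) u χ j)) (by
      change projI u χ j (e 1) = e (projI u χ j 1)
      rw [map_one, projI_one, projI_one, map_zero]) (by
      intro i hi b hb
      change projI u χ j (e b) = e (projI u χ j b)
      rw [projI_of_mem_gen u hu χ hχ hb,
        projI_of_mem_gen u hu χ hχ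
          (map_eigenAug_lt u hu χ hχ hχp hp hrk hp' hrk' θ e he hi hb)]
      split_ifs
      · rfl
      · rw [map_zero])
  exact LinearMap.congr_fun h a

/-- the transpose of `e`. -/
noncomputable def trE : CartDual.D R A' →ₗ[R] CartDual.D R A :=
  CartDual.transposeLin R e.toLinearMap

omit [Coalgebra.IsCocomm R A] [Module.Finite R A] [Module.Projective R A]
  [Coalgebra.IsCocomm R A'] [Module.Finite R A'] [Module.Projective R A'] [Fact p.Prime] in
lemma trE_apply (f' : CartDual.D R A') (a : A) : trE e f' a = f' (e a) := rfl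

include hu hχ hχp hp hrk hp' hrk' he in
lemma trE_mem {j : ℕ} {f' : CartDual.D R A'}
    (hf : f' ∈ OortTate.eigenAug R (CartDual.D R A') p χ j) :
    trE e f' ∈ OortTate.eigenAug R (CartDual.D R A) p χ j := by
  apply mem_eigenAug_dual_of_apply u χ hp
  intro a
  rw [trE_apply, trE_apply, eigenAug_dual_apply u hu χ hχ hf (e a),
    projI_e u hu χ hχ hχp hp hrk hp' hrk' θ e he]

include hu hχ hχp hp hrk he in
lemma trE_one : trE e (1 : CartDual.D R A') = 1 := by
  apply WithConv.ext
  apply LinearMap.ext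
  intro a
  change (1 : CartDual.D R A') (e a) = (1 : CartDual.D R A) a
  rw [LinearMap.convOne_apply, LinearMap.convOne_apply,
    counit_e u hu χ hχ hχp hp hrk θ e he]

end Three

end Groth.Agent.Lib.Helper7.OT
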