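import Groth.Agent.Lib.Helper7.OT1
import Groth.Agent.S15897

/-!
# Oort–Tate 2 (helper7): a group scheme of prime order over a local ring with algebraically
closed residue field is commutative (Nakayama + monogenic dual algebra).
-/

universe u v w

open TensorProduct

namespace Groth.Agent.Lib.Helper7.OT

open WithConv

section Span

variable {S : Type*} [CommRing S] {D : Type*} [Ring D] [Algebra S D]

/-- an algebra over a commutative ring spanned by pairwise commuting elements is commutative. -/
lemma mul_comm_of_span' {ι : Type*} (v : ι → D) (hv : ⊤ ≤ Submodule.span S (Set.range v))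
    (hc : ∀ i j, Commute (v i) (v j)) (f g : D) : f * g = g * f := by
  have h1 : ∀ (g : D) (i : ι), Commute (v i) g := by
    intro g i
    have hg : g ∈ Submodule.span S (Set.range v) := hv trivial
    induction hg using Submodule.span_induction with
    | mem x hx =>
      obtain ⟨j, rfl⟩ := hx
      exact hc i j
    | zero => exact Commute.zero_right _
    | add x y _ _ hx hy => exact hx.add_right hy
    | smul c x _ hx => exact hx.smul_right c
  have hf : f ∈ Submodule.span S (Set.range v) := hv trivial
  induction hf using Submodule.span_induction with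
  | mem x hx =>
    obtain ⟨j, rfl⟩ := hx
    exact h1 g j
  | zero => simp
  | add x y _ _ hx hy => rw [add_mul, mul_add, hx, hy]
  | smul c x _ hx => rw [smul_mul_assoc, mul_smul_comm, hx]

end Span

section Red

variable {S : Type u} [CommRing S] [IsLocalRing S] {B : Type v} [CommRing B] [HopfAlgebra S B]

local notation "K" => IsLocalRing.ResidueField S

/-- reduction of a linear functional modulo the maximal ideal. -/
noncomputable def red (f : WithConv (B →ₗ[S] S)) : WithConv (K ⊗[S] B →ₗ[K] K) :=
  toConv (LinearMap.liftBaseChange K ((Algebra.linearMap S K) ∘ₗ f.ofConv))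

lemma red_tmul (f : WithConv (B →ₗ[S] S)) (c : K) (b : B) :
    (red f).ofConv (c ⊗ₜ[S] b) = c * algebraMap S K (f.ofConv b) := by
  rw [red, WithConv.ofConv_toConv, LinearMap.liftBaseChange_tmul]
  rfl

lemma red_one_tmul (f : WithConv (B →ₗ[S] S)) (b : B) :
    (red f).ofConv ((1 : K) ⊗ₜ[S] b) = algebraMap S K (f.ofConv b) := by
  rw [red_tmul, one_mul]

/-- two `K`-linear functionals on `K ⊗ B` agreeing on `1 ⊗ b` are equal. -/
lemma ext_one_tmul {φ ψ : K ⊗[S] B →ₗ[K] K}
    (h : ∀ b : B, φ ((1 : K) ⊗ₜ[S] b) = ψ ((1 : K) ⊗ₜ[S] b)) : φ = ψ := by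
  apply LinearMap.ext
  intro z
  induction z using TensorProduct.induction_on with
  | zero => simp
  | add x y hx hy => rw [map_add, map_add, hx, hy]
  | tmul c b =>
    have hs : c ⊗ₜ[S] b = c • ((1 : K) ⊗ₜ[S] b) := by
      rw [TensorProduct.smul_tmul', smul_eq_mul, mul_one]
    rw [hs, map_smul, map_smul, h]

lemma red_mul (f g : WithConv (B →ₗ[S] S)) : red (f * g) = red f * red g := by
  apply WithConv.ext
  apply ext_one_tmul
  intro b
  have key : ∀ w : B ⊗[S] B,
      LinearMap.mul' K K (TensorProduct.map (red f).ofConv (red g).ofConv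
        (AlgebraTensorModule.tensorTensorTensorComm S K S K K K B B
          (((1 : K) ⊗ₜ[K] (1 : K)) ⊗ₜ[S] w))) =
      algebraMap S K (LinearMap.mul' S S (TensorProduct.map f.ofConv g.ofConv w)) := by
    intro w
    induction w using TensorProduct.induction_on with
    | zero => simp
    | add x y hx hy =>
      rw [TensorProduct.tmul_add, map_add, map_add, map_add, hx, hy, map_add, map_add, map_add]
    | tmul x y =>
      rw [AlgebraTensorModule.tensorTensorTensorComm_tmul, TensorProduct.map_tmul,
        LinearMap.mul'_apply, red_one_tmul, red_one_tmul, TensorProduct.map_tmul,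
        LinearMap.mul'_apply, map_mul]
  rw [red_one_tmul]
  change _ = LinearMap.mul' K K (TensorProduct.map (red f).ofConv (red g).ofConv
    (Coalgebra.comul (R := K) ((1 : K) ⊗ₜ[S] b)))
  rw [TensorProduct.comul_tmul, CommSemiring.comul_apply, key]
  rfl

lemma red_one : red (1 : WithConv (B →ₗ[S] S)) = 1 := by
  apply WithConv.ext
  apply ext_one_tmul
  intro b
  rw [red_one_tmul]
  change _ = algebraMap K K (Coalgebra.counit (R := K) ((1 : K) ⊗ₜ[S] b))
  rw [TensorProduct.counit_tmul, CommSemiring.counit_apply, Algebra.algebraMap_self_apply,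
    Algebra.smul_def, mul_one]
  rfl

lemma red_pow (f : WithConv (B →ₗ[S] S)) (n : ℕ) : red (f ^ n) = red f ^ n := by
  induction n with
  | zero => rw [pow_zero, pow_zero, red_one]
  | succ n ih => rw [pow_succ, pow_succ, red_mul, ih]

lemma red_add (f g : WithConv (B →ₗ[S] S)) : red (f + g) = red f + red g := by
  apply WithConv.ext
  apply ext_one_tmul
  intro b
  rw [red_one_tmul, WithConv.ofConv_add, WithConv.ofConv_add, LinearMap.add_apply,
    LinearMap.add_apply, red_one_tmul, red_one_tmul, map_add]

lemma red_smul (r : S) (f : WithConv (B →ₗ[S] S)) :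
    red (r • f) = algebraMap S K r • red f := by
  apply WithConv.ext
  apply ext_one_tmul
  intro b
  rw [red_one_tmul, WithConv.ofConv_smul, WithConv.ofConv_smul, LinearMap.smul_apply,
    LinearMap.smul_apply, red_one_tmul, smul_eq_mul, smul_eq_mul, map_mul]

lemma red_zero : red (0 : WithConv (B →ₗ[S] S)) = 0 := by
  apply WithConv.ext
  apply ext_one_tmul
  intro b
  rw [red_one_tmul]
  simp

lemma red_sum {ι : Type*} (s : Finset ι) (f : ι → WithConv (B →ₗ[S] S)) :
    red (∑ i ∈ s, f i) = ∑ i ∈ s, red (f i) := by
  classical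
  induction s using Finset.induction_on with
  | empty => rw [Finset.sum_empty, Finset.sum_empty, red_zero]
  | insert a s ha ih => rw [Finset.sum_insert ha, Finset.sum_insert ha, red_add, ih]

variable [Module.Finite S B] [Module.Free S B]

lemma red_surjective : Function.Surjective (red (S := S) (B := B)) := by
  classical
  intro φ
  let b := Module.Free.chooseBasis S B
  have hsurj : Function.Surjective (algebraMap S K) := IsLocalRing.residue_surjective
  choose r hr using fun i => hsurj (φ.ofConv ((1 : K) ⊗ₜ[S] b i))
  refine ⟨toConv (b.constr S r), ?_⟩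
  apply WithConv.ext
  apply ext_one_tmul
  -- both sides are `S`-linear in `b`
  let L₁ : B →ₗ[S] K := (Algebra.linearMap S K) ∘ₗ (b.constr S r)
  let L₂ : B →ₗ[S] K :=
    (φ.ofConv.restrictScalars S) ∘ₗ (TensorProduct.mk S K B 1)
  have hL : L₁ = L₂ := by
    apply b.ext
    intro i
    change algebraMap S K (b.constr S r (b i)) = φ.ofConv ((1 : K) ⊗ₜ[S] b i)
    rw [Module.Basis.constr_basis, hr]
  intro x
  rw [red_one_tmul, WithConv.ofConv_toConv]
  exact LinearMap.congr_fun hL x

lemma mem_smul_top_of_red_eq_zero (f : WithConv (B →ₗ[S] S)) (hf : red f = 0) :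
    f ∈ (IsLocalRing.maximalIdeal S) • (⊤ : Submodule S (WithConv (B →ₗ[S] S))) := by
  classical
  let b := Module.Free.chooseBasis S B
  haveI : Fintype (Module.Free.ChooseBasisIndex S B) := inferInstance
  have hmem : ∀ x : B, f.ofConv x ∈ IsLocalRing.maximalIdeal S := by
    intro x
    have h1 := red_one_tmul f x
    rw [hf] at h1
    have h2 : algebraMap S K (f.ofConv x) = 0 := by
      rw [← h1]
      rfl
    exact (IsLocalRing.residue_eq_zero_iff _).1 h2
  have hsum : f = ∑ i, (f.ofConv (b i)) • (toConv (b.coord i) : WithConv (B →ₗ[S] S)) := by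
    apply WithConv.ext
    rw [WithConv.ofConv_sum]
    simp only [WithConv.ofConv_smul, WithConv.ofConv_toConv]
    exact (b.sum_dual_apply_smul_coord f.ofConv).symm
  rw [hsum]
  exact Submodule.sum_mem _ (fun i _ => Submodule.smul_mem_smul (hmem _) trivial)

end Red

section Main

variable {S : Type u} [CommRing S] [IsLocalRing S] [IsAlgClosed (IsLocalRing.ResidueField S)]
  {B : Type v} [CommRing B] [HopfAlgebra S B] [Module.Finite S B] [Module.Projective S B]

local notation "K" => IsLocalRing.ResidueField S

/-- over a local ring with algebraically closed residue field, the dual algebra of a group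
scheme of prime order is spanned by the powers of one element. -/
theorem exists_gen_local (p : ℕ) (hp : p.Prime)
    (hrk : ∀ q : PrimeSpectrum S, Module.rankAtStalk B q = p) :
    ∃ d : WithConv (B →ₗ[S] S),
      Submodule.span S (Set.range (fun i : Fin p => d ^ (i : ℕ))) = ⊤ := by
  classical
  haveI : Module.Free S B := Module.free_of_flat_of_isLocalRing
  have hfr : Module.finrank S B = p := by
    have h1 := congrFun (Module.rankAtStalk_eq_finrank_of_free (R := S) (M := B))
      (IsLocalRing.closedPoint S)
    rw [hrk] at h1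
    exact h1.symm
  have hfK : Module.finrank K (K ⊗[S] B) = p := by
    rw [Module.finrank_baseChange, hfr]
  obtain ⟨d₀, hd₀⟩ := exists_gen (k := K) (A := K ⊗[S] B) p hp hfK
  obtain ⟨d, rfl⟩ := red_surjective (S := S) (B := B) d₀
  refine ⟨d, ?_⟩
  set N : Submodule S (WithConv (B →ₗ[S] S)) :=
    Submodule.span S (Set.range (fun i : Fin p => d ^ (i : ℕ))) with hN
  haveI : Module.Finite S (WithConv (B →ₗ[S] S)) :=
    Module.Finite.equiv (WithConv.linearEquiv S (B →ₗ[S] S)).symm
  have hle : (⊤ : Submodule S (WithConv (B →ₗ[S] S))) ≤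
      N ⊔ (IsLocalRing.maximalIdeal S) • (⊤ : Submodule S (WithConv (B →ₗ[S] S))) := by
    intro f _
    have hf : red f ∈ Submodule.span K (Set.range (fun i : Fin p => (red d) ^ (i : ℕ))) := by
      rw [hd₀]
      trivial
    rw [Submodule.mem_span_range_iff_exists_fun] at hf
    obtain ⟨c, hc⟩ := hf
    have hsurj : Function.Surjective (algebraMap S K) := IsLocalRing.residue_surjective
    choose r hr using fun i => hsurj (c i)
    set g : WithConv (B →ₗ[S] S) := ∑ i : Fin p, r i • d ^ (i : ℕ) with hg
    have hgN : g ∈ N := by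
      refine Submodule.sum_mem _ (fun i _ => Submodule.smul_mem _ _ (Submodule.subset_span ⟨i, rfl⟩))
    have hred : red (f - g) = 0 := by
      have h1 : f = (f - g) + g := by abel
      have h2 : red f = red (f - g) + red g := by
        conv_lhs => rw [h1]
        rw [red_add]
      have h3 : red g = red f := by
        rw [hg, red_sum, ← hc]
        refine Finset.sum_congr rfl (fun i _ => ?_)
        rw [red_smul, red_pow, hr]
      rw [h3] at h2
      exact (add_eq_right.1 h2.symm)
    have h4 := mem_smul_top_of_red_eq_zero (f - g) hred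
    have h5 : f = g + (f - g) := by abel
    rw [h5]
    exact Submodule.add_mem_sup hgN h4
  have hjac : IsLocalRing.maximalIdeal S ≤ Ideal.jacobson ⊥ := by
    rw [IsLocalRing.jacobson_eq_maximalIdeal ⊥ bot_ne_top]
  have := Submodule.le_of_le_smul_of_le_jacobson_bot (Module.Finite.fg_top) hjac hle
  exact eq_top_iff.2 this

/-- a group scheme of prime order over a local ring with algebraically closed residue field is
commutative. -/
theorem isCocomm_of_local (p : ℕ) (hp : p.Prime)
    (hrk : ∀ q : PrimeSpectrum S, Module.rankAtStalk B q = p) : Coalgebra.IsCocomm S B := by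
  obtain ⟨d, hd⟩ := exists_gen_local (S := S) (B := B) p hp hrk
  apply Groth.Agent.S15897.result S B
  intro x y
  exact mul_comm_of_span' (S := S) (fun i : Fin p => d ^ (i : ℕ)) hd.ge
    (fun i j => (Commute.refl _).pow_pow _ _) x y

end Main

end Groth.Agent.Lib.Helper7.OT
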