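import Groth.Agent.Lib.Helper7.OT19

/-!
# Oort–Tate 20 (helper7): the transpose of the extended isomorphism is multiplicative; S18478
-/

universe u v w

open TensorProduct

namespace Groth.Agent.Lib.Helper7.OT

open WithConv Groth.Agent.S18468

section DLin

variable {R : Type u} [CommRing R] {A : Type u} [AddCommGroup A] [Module R A]

lemma D_add (g : CartDual.D R A) (x y : A) : g (x + y) = g x + g y := map_add g.ofConv x y
lemma D_smul (g : CartDual.D R A) (c : R) (x : A) : g (c • x) = c * g x := map_smul g.ofConv c x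
lemma D_zero (g : CartDual.D R A) : g (0 : A) = 0 := map_zero g.ofConv

end DLin

section Sep

variable {R : Type u} [CommRing R] {A : Type u} [CommRing A] [Bialgebra R A]
  [Module.Finite R A] [Module.Projective R A]

lemma eq_of_ev₂ (z z' : A ⊗[R] A)
    (h : ∀ f g : CartDual.D R A,
      CartDual.ev₂ R A (f ⊗ₜ[R] g) z = CartDual.ev₂ R A (f ⊗ₜ[R] g) z') : z = z' := by
  have h1 : ∀ y : CartDual.D R A ⊗[R] CartDual.D R A,
      CartDual.ev₂ R A y z = CartDual.ev₂ R A y z' := by
    intro y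
    induction y using TensorProduct.induction_on with
    | zero => rw [map_zero, LinearMap.zero_apply, LinearMap.zero_apply]
    | tmul f g => exact h f g
    | add y1 y2 h1 h2 => rw [map_add, LinearMap.add_apply, LinearMap.add_apply, h1, h2]
  apply (Module.bijective_dual_eval R (A ⊗[R] A)).injective
  apply LinearMap.ext
  intro φ
  obtain ⟨y, rfl⟩ := (CartDual.ev₂ R A).surjective φ
  exact h1 y

end Sep

section Four

variable {p : ℕ} [Fact p.Prime] {R : Type u} [CommRing R] (u : R)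
  (hu : u * ((p - 1 : ℕ) : R) = 1) (χ : (ZMod p)ˣ →* Rˣ)
  (hχ : ∀ m : (ZMod p)ˣ, m ≠ 1 → IsUnit ((χ m : R) - 1))
  (hχp : ∀ m : (ZMod p)ˣ, ((χ m : Rˣ) : R) - (((m : ZMod p).val : ℕ) : R) ∈
    Ideal.span ({(p : R)} : Set R))
  {A : Type u} [CommRing A] [HopfAlgebra R A] [Coalgebra.IsCocomm R A]
  [Module.Finite R A] [Module.Projective R A]
  (hp : (WithConv.toConv (AlgHom.id R A)) ^ p = 1)
  (hrk : ∀ q : PrimeSpectrum R, Module.rankAtStalk A q = p)
  {A' : Type u} [CommRing A'] [HopfAlgebra R A'] [Coalgebra.IsCocomm R A']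
  [Module.Finite R A'] [Module.Projective R A']
  (hp' : (WithConv.toConv (AlgHom.id R A')) ^ p = 1)
  (hrk' : ∀ q : PrimeSpectrum R, Module.rankAtStalk A' q = p)
  (θ : OortTate.eigenAug R A p χ 1 ≃ₗ[R] OortTate.eigenAug R A' p χ 1)
  (e : A ≃ₐ[R] A')
  (he : ∀ m : OortTate.eigenAug R A p χ 1, e (m : A) = (θ m : A'))

include hu hχ hχp hp hrk hp' hrk' he in
lemma trE_prod_lt (n : ℕ) (hn1 : 1 ≤ n) (hnp : n ≤ p - 1)
    (φ' : Fin n → OortTate.eigenAug R (CartDual.D R A') p χ 1) :
    trE e (∏ k, (φ' k : CartDual.D R A')) = ∏ k, trE e (φ' k : CartDual.D R A') := by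
  classical
  have hpp : p.Prime := Fact.out
  have hpos : 0 < p - 1 := by have := hpp.one_lt; omega
  obtain ⟨w, hw⟩ := exists_w u hu χ hχ hχp n hn1
  have hN' : ∏ k, (φ' k : CartDual.D R A') ∈ OortTate.eigenAug R (CartDual.D R A') p χ n :=
    prod_fin_mem_eigenAug' χ hn1 φ'
  set φ : Fin n → OortTate.eigenAug R (CartDual.D R A) p χ 1 := fun k =>
    ⟨trE e (φ' k : CartDual.D R A'),
      trE_mem u hu χ hχ hχp hp hrk hp' hrk' θ e he (φ' k).2⟩ with hφ
  have hN : ∏ k, (φ k : CartDual.D R A) ∈ OortTate.eigenAug R (CartDual.D R A) p χ n :=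
    prod_fin_mem_eigenAug' χ hn1 φ
  change trE e (∏ k, (φ' k : CartDual.D R A')) = ∏ k, (φ k : CartDual.D R A)
  apply WithConv.ext
  apply linearMap_ext_eigen u hu χ hχ hp
  · change (∏ k, (φ' k : CartDual.D R A')) (e 1) = (∏ k, (φ k : CartDual.D R A)) 1
    rw [map_one]
    have h1 : (∏ k, (φ' k : CartDual.D R A')) (1 : A') = 0 := ((mem_eigenAug χ).1 hN').1
    have h2 : (∏ k, (φ k : CartDual.D R A)) (1 : A) = 0 := ((mem_eigenAug χ).1 hN).1
    rw [h1, h2]
  · intro i hi a ha
    change (∏ k, (φ' k : CartDual.D R A')) (e a) = (∏ k, (φ k : CartDual.D R A)) a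
    by_cases hti : tOf p i = n
    · obtain ⟨h1, -⟩ := eigenAug_lt_eq_pow' u hu χ hχ hχp hp hrk hi
      rw [h1, hti, pow_eq_span_prod] at ha
      induction ha using Submodule.span_induction with
      | mem y hy =>
        obtain ⟨b, rfl⟩ := hy
        rw [map_prod]
        have e1 := pairing_prod u hu χ hχ hχp hp' hrk' w n hn1 hnp hw (fun k => θ (b k)) φ'
        have e2 := pairing_prod u hu χ hχ hχp hp hrk w n hn1 hnp hw b φ
        rw [Finset.prod_congr rfl (fun k _ => he (b k)), e1, e2]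
        congr 1
        refine Finset.prod_congr rfl fun k _ => ?_
        change (φ' k : CartDual.D R A') ((θ (b k) : A')) = (φ' k : CartDual.D R A') (e (b k))
        rw [he]
      | zero => rw [map_zero, D_zero, D_zero]
      | add x y _ _ hx hy => rw [map_add, D_add, D_add, hx, hy]
      | smul c x _ hx => rw [map_smul, D_smul, D_smul, hx]
    · have hne : n % (p - 1) ≠ i % (p - 1) := by
        intro h
        apply hti
        rw [← tOf_mod (p := p) (i := i)] at h
        exact (mod_inj hn1 hnp (tOf_pos hpos) (tOf_le hi) h).symm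
      rw [eigenAug_dual_apply u hu χ hχ hN' (e a), eigenAug_dual_apply u hu χ hχ hN a,
        projI_of_mem_gen u hu χ hχ
          (map_eigenAug_lt u hu χ hχ hχp hp hrk hp' hrk' θ e he hi ha),
        projI_of_mem_gen u hu χ hχ ha, if_neg hne, if_neg hne, D_zero, D_zero]

include hu hχ hχp hp hrk hp' hrk' he in
lemma trE_prod_p
    (hθD : ∀ (φ : Fin p → OortTate.eigenAug R (CartDual.D R A) p χ 1)
      (φ' : Fin p → OortTate.eigenAug R (CartDual.D R A') p χ 1)
      (ψ : OortTate.eigenAug R (CartDual.D R A) p χ 1)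
      (ψ' : OortTate.eigenAug R (CartDual.D R A') p χ 1),
      (∀ i, ∀ x : OortTate.eigenAug R A p χ 1,
        CartDual.toDual R A (φ i : CartDual.D R A) (x : A) =
          CartDual.toDual R A' (φ' i : CartDual.D R A')
            ((θ x : OortTate.eigenAug R A' p χ 1) : A')) →
      (ψ : CartDual.D R A) = ∏ i, (φ i : CartDual.D R A) →
      (ψ' : CartDual.D R A') = ∏ i, (φ' i : CartDual.D R A') →
      ∀ x : OortTate.eigenAug R A p χ 1,
        CartDual.toDual R A (ψ : CartDual.D R A) (x : A) =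
          CartDual.toDual R A' (ψ' : CartDual.D R A')
            ((θ x : OortTate.eigenAug R A' p χ 1) : A'))
    (φ' : Fin p → OortTate.eigenAug R (CartDual.D R A') p χ 1) :
    trE e (∏ k, (φ' k : CartDual.D R A')) = ∏ k, trE e (φ' k : CartDual.D R A') := by
  classical
  set φ : Fin p → OortTate.eigenAug R (CartDual.D R A) p χ 1 := fun k =>
    ⟨trE e (φ' k : CartDual.D R A'),
      trE_mem u hu χ hχ hχp hp hrk hp' hrk' θ e he (φ' k).2⟩ with hφ
  set ψ : OortTate.eigenAug R (CartDual.D R A) p χ 1 :=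
    ⟨∏ k, (φ k : CartDual.D R A), prod_fin_mem_eigenAug χ φ⟩ with hψ
  set ψ' : OortTate.eigenAug R (CartDual.D R A') p χ 1 :=
    ⟨∏ k, (φ' k : CartDual.D R A'), prod_fin_mem_eigenAug χ φ'⟩ with hψ'
  have key := hθD φ φ' ψ ψ' (by
    intro i x
    change (φ' i : CartDual.D R A') (e (x : A)) = (φ' i : CartDual.D R A') ((θ x : A'))
    rw [he]) rfl rfl
  have hmem : trE e (ψ' : CartDual.D R A') ∈ OortTate.eigenAug R (CartDual.D R A) p χ 1 :=
    trE_mem u hu χ hχ hχp hp hrk hp' hrk' θ e he ψ'.2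
  change trE e (ψ' : CartDual.D R A') = (ψ : CartDual.D R A)
  apply WithConv.ext
  apply LinearMap.ext
  intro a
  change trE e (ψ' : CartDual.D R A') a = (ψ : CartDual.D R A) a
  rw [eigenAug_dual_apply u hu χ hχ hmem a, eigenAug_dual_apply u hu χ hχ ψ.2 a]
  have := key ⟨projI u χ 1 a, projI_mem u χ hp 1 a⟩
  change (ψ : CartDual.D R A) (projI u χ 1 a) =
    (ψ' : CartDual.D R A') ((θ ⟨projI u χ 1 a, projI_mem u χ hp 1 a⟩ : A')) at this
  rw [this, trE_apply, he ⟨projI u χ 1 a, projI_mem u χ hp 1 a⟩]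

end Four

end Groth.Agent.Lib.Helper7.OT
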