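import Groth.Agent.Lib.Helper7.OT20

/-!
# Oort–Tate 21 (helper7): injectivity of the classification map (S18478)
-/

universe u v w

open TensorProduct

namespace Groth.Agent.Lib.Helper7.OT

open WithConv Groth.Agent.S18468

section Five

variable {p : ℕ} [Fact p.Prime] {R : Type u} [CommRing R] (u : R)
  (hu : u * ((p - 1 : ℕ) : R) = 1) (χ : (ZMod p)ˣ →* Rˣ)
  (hχ : ∀ m : (ZMod p)ˣ, m ≠ 1 → IsUnit ((χ m : R) - 1))
  (hχp : ∀ m : (ZMod p)ˣ, ((χ m : Rˣ) : R) - (((m : ZMod p).val : ℕ) : R) ∈
    Ideal.span ({(p : R)} : Set R))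
  {A : Type u} [CommRing A] [HopfAlgebra R A] [Coalgebra.IsCocomm R A]
  [Module.Finite R A] [Module.Projective R A]
  (hp : (WithConv.toConv (AlgHom.id R A)) ^ p = 1)
  (hrk : ∀ q : PrimeSpectrum R, Module.rankAtStalk A q = p)
  {A' : Type u} [CommRing A'] [HopfAlgebra R A'] [Coalgebra.IsCocomm R A']
  [Module.Finite R A'] [Module.Projective R A']
  (hp' : (WithConv.toConv (AlgHom.id R A')) ^ p = 1)
  (hrk' : ∀ q : PrimeSpectrum R, Module.rankAtStalk A' q = p)
  (θ : OortTate.eigenAug R A p χ 1 ≃ₗ[R] OortTate.eigenAug R A' p χ 1)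
  (e : A ≃ₐ[R] A')
  (he : ∀ m : OortTate.eigenAug R A p χ 1, e (m : A) = (θ m : A'))
  (hθD : ∀ (φ : Fin p → OortTate.eigenAug R (CartDual.D R A) p χ 1)
      (φ' : Fin p → OortTate.eigenAug R (CartDual.D R A') p χ 1)
      (ψ : OortTate.eigenAug R (CartDual.D R A) p χ 1)
      (ψ' : OortTate.eigenAug R (CartDual.D R A') p χ 1),
      (∀ i, ∀ x : OortTate.eigenAug R A p χ 1,
        CartDual.toDual R A (φ i : CartDual.D R A) (x : A) =
          CartDual.toDual R A' (φ' i : CartDual.D R A')
            ((θ x : OortTate.eigenAug R A' p χ 1) : A')) →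
      (ψ : CartDual.D R A) = ∏ i, (φ i : CartDual.D R A) →
      (ψ' : CartDual.D R A') = ∏ i, (φ' i : CartDual.D R A') →
      ∀ x : OortTate.eigenAug R A p χ 1,
        CartDual.toDual R A (ψ : CartDual.D R A) (x : A) =
          CartDual.toDual R A' (ψ' : CartDual.D R A')
            ((θ x : OortTate.eigenAug R A' p χ 1) : A'))

include hu hχ hχp hp hrk hp' hrk' he hθD in
lemma trE_prod (n : ℕ) (hn1 : 1 ≤ n) (hnp : n ≤ p)
    (φ' : Fin n → OortTate.eigenAug R (CartDual.D R A') p χ 1) :
    trE e (∏ k, (φ' k : CartDual.D R A')) = ∏ k, trE e (φ' k : CartDual.D R A') := by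
  rcases Nat.lt_or_ge n p with hlt | hge
  · exact trE_prod_lt u hu χ hχ hχp hp hrk hp' hrk' θ e he n hn1 (by omega) φ'
  · have hn : n = p := le_antisymm hnp hge
    subst hn
    exact trE_prod_p u hu χ hχ hχp hp hrk hp' hrk' θ e he hθD φ'

include hu hχ hχp hp hrk hp' hrk' he hθD in
/-- multiplicativity of the transpose against elements of `I_1`. -/
lemma trE_mul_of_mem (f' : OortTate.eigenAug R (CartDual.D R A') p χ 1)
    (g' : CartDual.D R A') :
    trE e ((f' : CartDual.D R A') * g') = trE e (f' : CartDual.D R A') * trE e g' := by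
  classical
  have hpp : p.Prime := Fact.out
  have hpos : 0 < p - 1 := by have := hpp.one_lt; omega
  have hpD' := Groth.Agent.S18471.hpD p R A' hp'
  have hrkD' := rankAtStalk_cartDual (R := R) (A := A') hrk'
  have h := linearMap_ext_eigen u hu χ hχ hpD'
    ((trE e) ∘ₗ (LinearMap.mulLeft R (f' : CartDual.D R A')))
    ((LinearMap.mulLeft R (trE e (f' : CartDual.D R A'))) ∘ₗ (trE e)) (by
      change trE e ((f' : CartDual.D R A') * 1) = trE e (f' : CartDual.D R A') * trE e 1
      rw [mul_one, trE_one u hu χ hχ hχp hp hrk θ e he, mul_one]) (by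
      intro i hi b hb
      change trE e ((f' : CartDual.D R A') * b) = trE e (f' : CartDual.D R A') * trE e b
      obtain ⟨h1, -⟩ := eigenAug_lt_eq_pow' u hu χ hχ hχp hpD' hrkD' hi
      rw [h1, pow_eq_span_prod] at hb
      induction hb using Submodule.span_induction with
      | mem y hy =>
        obtain ⟨c, rfl⟩ := hy
        have ht1 : 1 ≤ tOf p i := tOf_pos hpos
        have htp : tOf p i ≤ p - 1 := tOf_le hi
        have e1 := trE_prod u hu χ hχ hχp hp hrk hp' hrk' θ e he hθD (tOf p i + 1)
          (by omega) (by omega) (Fin.cons f' c)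
        rw [Fin.prod_univ_succ, Fin.prod_univ_succ] at e1
        simp only [Fin.cons_zero, Fin.cons_succ] at e1
        rw [e1, trE_prod u hu χ hχ hχp hp hrk hp' hrk' θ e he hθD (tOf p i) ht1 (by omega) c]
      | zero => rw [mul_zero, map_zero, mul_zero]
      | add x y _ _ hx hy => rw [mul_add, map_add, map_add, mul_add, hx, hy]
      | smul r x _ hx => rw [mul_smul_comm, map_smul, map_smul, mul_smul_comm, hx])
  exact LinearMap.congr_fun h g'

include hu hχ hχp hp hrk hp' hrk' he hθD in
/-- the transpose of `e` is multiplicative. -/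
lemma trE_mul (f' g' : CartDual.D R A') : trE e (f' * g') = trE e f' * trE e g' := by
  have hpD' := Groth.Agent.S18471.hpD p R A' hp'
  have hrkD' := rankAtStalk_cartDual (R := R) (A := A') hrk'
  have h1' : trE e (1 : CartDual.D R A') = 1 := trE_one u hu χ hχ hχp hp hrk θ e he
  let S : Subalgebra R (CartDual.D R A') :=
    { carrier := {f' | ∀ g', trE e (f' * g') = trE e f' * trE e g'}
      mul_mem' := by
        intro a b ha hb g'
        have hab : trE e (a * b) = trE e a * trE e b := by
          have := ha (b * 1)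
          rwa [mul_one] at this
        rw [mul_assoc, ha, hb, hab, mul_assoc]
      one_mem' := by
        intro g'
        rw [one_mul, h1', one_mul]
      add_mem' := by
        intro a b ha hb g'
        rw [add_mul, map_add, map_add, add_mul, ha, hb]
      zero_mem' := by
        intro g'
        rw [zero_mul, map_zero, zero_mul]
      algebraMap_mem' := by
        intro r g'
        rw [Algebra.algebraMap_eq_smul_one, smul_mul_assoc, one_mul, map_smul, map_smul, h1',
          smul_mul_assoc, one_mul] }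
  have hS : S = ⊤ := by
    apply subalgebra_eq_top_of_le u hu χ hχ hχp hpD' hrkD'
    intro m hm g'
    exact trE_mul_of_mem u hu χ hχ hχp hp hrk hp' hrk' θ e he hθD ⟨m, hm⟩ g'
  have : f' ∈ S := by rw [hS]; trivial
  exact this g'

include hu hχ hχp hp hrk hp' hrk' he hθD in
/-- **injectivity of the classification** (S18478). -/
theorem nonempty_bialgEquiv : Nonempty (A ≃ₐc[R] A') := by
  refine ⟨BialgEquiv.ofAlgEquiv e ?_ ?_⟩
  · apply AlgHom.ext
    intro a
    exact counit_e u hu χ hχ hχp hp hrk θ e he a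
  · apply AlgHom.ext
    intro a
    change Algebra.TensorProduct.map (e : A →ₐ[R] A') (e : A →ₐ[R] A')
      (Coalgebra.comul (R := R) a) = Coalgebra.comul (R := R) (e a)
    apply eq_of_ev₂
    intro f' g'
    have hgen : ∀ t : A ⊗[R] A,
        CartDual.ev₂ R A' (f' ⊗ₜ[R] g')
          (Algebra.TensorProduct.map (e : A →ₐ[R] A') (e : A →ₐ[R] A') t) =
        CartDual.ev₂ R A ((trE e f') ⊗ₜ[R] (trE e g')) t := by
      intro t
      induction t using TensorProduct.induction_on with
      | zero => rw [map_zero, map_zero, map_zero]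
      | tmul a b =>
        rw [Algebra.TensorProduct.map_tmul, CartDual.ev₂_tmul, CartDual.ev₂_tmul]
        rfl
      | add x y hx hy => rw [map_add, map_add, map_add, hx, hy]
    rw [hgen, CartDual.ev₂_tmul_eq', CartDual.ev₂_tmul_eq']
    have hm := trE_mul u hu χ hχ hχp hp hrk hp' hrk' θ e he hθD f' g'
    have : (trE e (f' * g')) a = (trE e f' * trE e g') a := by rw [hm]
    rw [trE_apply, LinearMap.convMul_apply, LinearMap.convMul_apply] at this
    exact this.symm

end Five

end Groth.Agent.Lib.Helper7.OT
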