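import Groth.Agent.Lib.Helper7.OT21

/-!
# Oort–Tate 22 (helper7): injectivity of the classification for free `I_1` (S18475)
-/

universe u v w

open TensorProduct

namespace Groth.Agent.Lib.Helper7.OT

open WithConv Groth.Agent.S18468

section S75

variable {p : ℕ} [Fact p.Prime] {R : Type u} [CommRing R] (u : R)
  (hu : u * ((p - 1 : ℕ) : R) = 1) (χ : (ZMod p)ˣ →* Rˣ)
  (hχ : ∀ m : (ZMod p)ˣ, m ≠ 1 → IsUnit ((χ m : R) - 1))
  (hχp : ∀ m : (ZMod p)ˣ, ((χ m : Rˣ) : R) - (((m : ZMod p).val : ℕ) : R) ∈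
    Ideal.span ({(p : R)} : Set R))
  {A : Type u} [CommRing A] [HopfAlgebra R A] [Coalgebra.IsCocomm R A]
  [Module.Finite R A] [Module.Projective R A]
  (hp : (WithConv.toConv (AlgHom.id R A)) ^ p = 1)
  (hrk : ∀ q : PrimeSpectrum R, Module.rankAtStalk A q = p)
  {A' : Type u} [CommRing A'] [HopfAlgebra R A'] [Coalgebra.IsCocomm R A']
  [Module.Finite R A'] [Module.Projective R A']
  (hp' : (WithConv.toConv (AlgHom.id R A')) ^ p = 1)
  (hrk' : ∀ q : PrimeSpectrum R, Module.rankAtStalk A' q = p)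

omit [Fact p.Prime] [Coalgebra.IsCocomm R A] [Module.Finite R A] [Module.Projective R A] in
/-- coordinates in a module spanned by `x` with a form `ξ`, `ξ(x) = 1`. -/
lemma eq_smul_of_span {M : Submodule R A} {x : A} (hx : Submodule.span R {x} = M)
    (ξ : CartDual.D R A) (hxξ : ξ x = 1) {m : A} (hm : m ∈ M) : m = ξ m • x := by
  rw [← hx, Submodule.mem_span_singleton] at hm
  obtain ⟨c, rfl⟩ := hm
  rw [D_smul, hxξ, mul_one]

omit [Fact p.Prime] [Module.Finite R A] [Module.Projective R A] in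
lemma eq_smul_of_span_dual {N : Submodule R (CartDual.D R A)} {ξ : CartDual.D R A}
    (hξ : Submodule.span R {ξ} = N) (x : A) (hxξ : ξ x = 1) {φ : CartDual.D R A} (hφ : φ ∈ N) :
    φ = φ x • ξ := by
  rw [← hξ, Submodule.mem_span_singleton] at hφ
  obtain ⟨c, rfl⟩ := hφ
  have : (c • ξ) x = c * ξ x := rfl
  rw [this, hxξ, mul_one]

include hu hχ hχp hp hrk hp' hrk' in
/-- **injectivity of the classification for free `I_1`** (S18475). -/
theorem nonempty_bialgEquiv_of_gen
    (x : A) (hx : Submodule.span R {x} = OortTate.eigenAug R A p χ 1)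
    (ξ : CartDual.D R A)
    (hξ : Submodule.span R {ξ} = OortTate.eigenAug R (CartDual.D R A) p χ 1)
    (hxξ : CartDual.toDual R A ξ x = 1)
    (x' : A') (hx' : Submodule.span R {x'} = OortTate.eigenAug R A' p χ 1)
    (ξ' : CartDual.D R A')
    (hξ' : Submodule.span R {ξ'} = OortTate.eigenAug R (CartDual.D R A') p χ 1)
    (hxξ' : CartDual.toDual R A' ξ' x' = 1)
    (α β α' β' : R) (hα : x ^ p = α • x) (hβ : ξ ^ p = β • ξ) (hα' : x' ^ p = α' • x')
    (hβ' : ξ' ^ p = β' • ξ')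
    (v : Rˣ) (hαv : α' = ((v ^ (p - 1) : Rˣ) : R) * α)
    (hβv : β' = ((v⁻¹ ^ (p - 1) : Rˣ) : R) * β) :
    Nonempty (A ≃ₐc[R] A') := by
  classical
  have hpp : p.Prime := Fact.out
  have hp1 : p - 1 + 1 = p := Nat.sub_add_cancel hpp.one_le
  have hξx : ξ x = 1 := hxξ
  have hξx' : ξ' x' = 1 := hxξ'
  set V : R := (v : R) with hV
  set V' : R := ((v⁻¹ : Rˣ) : R) with hV'
  have hVV' : V * V' = 1 := by rw [hV, hV', ← Units.val_mul, mul_inv_cancel, Units.val_one]
  have hαv' : α' = V ^ (p - 1) * α := by rw [hαv, Units.val_pow_eq_pow_val]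
  have hβv' : β' = V' ^ (p - 1) * β := by rw [hβv, Units.val_pow_eq_pow_val]
  have hxM : x ∈ OortTate.eigenAug R A p χ 1 := by
    rw [← hx]; exact Submodule.mem_span_singleton_self _
  have hxM' : x' ∈ OortTate.eigenAug R A' p χ 1 := by
    rw [← hx']; exact Submodule.mem_span_singleton_self _
  have hm := fun (m : A) (h : m ∈ OortTate.eigenAug R A p χ 1) =>
    eq_smul_of_span (R := R) hx ξ hξx h
  have hm' := fun (m : A') (h : m ∈ OortTate.eigenAug R A' p χ 1) =>
    eq_smul_of_span (R := R) hx' ξ' hξx' h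
  have hφ := fun (φ : CartDual.D R A) (h : φ ∈ OortTate.eigenAug R (CartDual.D R A) p χ 1) =>
    eq_smul_of_span_dual (R := R) hξ x hξx h
  have hφ' := fun (φ : CartDual.D R A')
      (h : φ ∈ OortTate.eigenAug R (CartDual.D R A') p χ 1) =>
    eq_smul_of_span_dual (R := R) hξ' x' hξx' h
  -- the isomorphism `θ`
  let f : OortTate.eigenAug R A p χ 1 →ₗ[R] OortTate.eigenAug R A' p χ 1 :=
    LinearMap.codRestrict _ ((LinearMap.toSpanSingleton R A' x') ∘ₗ
      (V' • (ξ.ofConv ∘ₗ (OortTate.eigenAug R A p χ 1).subtype)))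
      (fun m => Submodule.smul_mem _ _ hxM')
  let g : OortTate.eigenAug R A' p χ 1 →ₗ[R] OortTate.eigenAug R A p χ 1 :=
    LinearMap.codRestrict _ ((LinearMap.toSpanSingleton R A x) ∘ₗ
      (V • (ξ'.ofConv ∘ₗ (OortTate.eigenAug R A' p χ 1).subtype)))
      (fun m => Submodule.smul_mem _ _ hxM)
  have hf : ∀ m : OortTate.eigenAug R A p χ 1, ((f m : OortTate.eigenAug R A' p χ 1) : A') =
      (V' * ξ (m : A)) • x' := fun m => rfl
  have hg : ∀ m : OortTate.eigenAug R A' p χ 1, ((g m : OortTate.eigenAug R A p χ 1) : A) =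
      (V * ξ' (m : A')) • x := fun m => rfl
  have hgf : g ∘ₗ f = LinearMap.id := by
    apply LinearMap.ext
    intro m
    apply Subtype.ext
    change ((g (f m) : OortTate.eigenAug R A p χ 1) : A) = (m : A)
    rw [hg, hf, D_smul, hξx', mul_one, ← mul_assoc, hVV', one_mul]
    exact (hm m m.2).symm
  have hfg : f ∘ₗ g = LinearMap.id := by
    apply LinearMap.ext
    intro m
    apply Subtype.ext
    change ((f (g m) : OortTate.eigenAug R A' p χ 1) : A') = (m : A')
    rw [hf, hg, D_smul, hξx, mul_one, ← mul_assoc, mul_comm V' V, hVV', one_mul]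
    exact (hm' m m.2).symm
  let θ : OortTate.eigenAug R A p χ 1 ≃ₗ[R] OortTate.eigenAug R A' p χ 1 :=
    LinearEquiv.ofLinear f g hfg hgf
  have hθ_apply : ∀ m : OortTate.eigenAug R A p χ 1,
      ((θ m : OortTate.eigenAug R A' p χ 1) : A') = (V' * ξ (m : A)) • x' := hf
  have hθ : ∀ (F : Fin p → OortTate.eigenAug R A p χ 1) (G : OortTate.eigenAug R A p χ 1),
      (G : A) = ∏ i, (F i : A) →
        ((θ G : OortTate.eigenAug R A' p χ 1) : A') = ∏ i, ((θ (F i)) : A') := by
    intro F G hG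
    have h1 : (G : A) = ((∏ i, ξ (F i : A)) * α) • x := by
      rw [hG, Finset.prod_congr rfl (fun i _ => hm (F i) (F i).2), Finset.prod_smul,
        Finset.prod_const, Finset.card_univ, Fintype.card_fin, hα, smul_smul]
    have h2 : ξ (G : A) = (∏ i, ξ (F i : A)) * α := by
      rw [h1, D_smul, hξx, mul_one]
    rw [hθ_apply, h2, Finset.prod_congr rfl (fun i _ => hθ_apply (F i)), Finset.prod_smul,
      Finset.prod_const, Finset.card_univ, Fintype.card_fin, hα', smul_smul,
      Finset.prod_mul_distrib, Finset.prod_const, Finset.card_univ, Fintype.card_fin, hαv']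
    congr 1
    have : V' ^ p * V ^ (p - 1) = V' := by
      conv_lhs => rw [← hp1]
      rw [Nat.add_sub_cancel, pow_succ, mul_comm (V' ^ (p - 1)), mul_assoc, ← mul_pow,
        mul_comm V' V, hVV', one_pow, mul_one]
    calc V' * ((∏ i, ξ (F i : A)) * α)
        = (V' ^ p * V ^ (p - 1)) * ((∏ i, ξ (F i : A)) * α) := by rw [this]
      _ = V' ^ p * (∏ i, ξ (F i : A)) * (V ^ (p - 1) * α) := by ring
  obtain ⟨e, he⟩ := exists_algEquiv u hu χ hχ hχp hp hrk hp' hrk' θ hθ
  apply nonempty_bialgEquiv u hu χ hχ hχp hp hrk hp' hrk' θ e he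
  intro φ φ' ψ ψ' hcompat hψ hψ' m
  change (ψ : CartDual.D R A) (m : A) = (ψ' : CartDual.D R A') ((θ m : A'))
  -- coordinates
  have hd : ∀ i, (φ' i : CartDual.D R A') x' = V * (φ i : CartDual.D R A) x := by
    intro i
    have h1 := hcompat i ⟨x, hxM⟩
    change (φ i : CartDual.D R A) x = (φ' i : CartDual.D R A') ((θ ⟨x, hxM⟩ : A')) at h1
    rw [hθ_apply, D_smul, hξx, mul_one] at h1
    rw [h1, ← mul_assoc, hVV', one_mul]
  have e1 : (ψ : CartDual.D R A) = ((∏ i, (φ i : CartDual.D R A) x) * β) • ξ := by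
    rw [hψ, Finset.prod_congr rfl (fun i _ => hφ (φ i) (φ i).2), Finset.prod_smul,
      Finset.prod_const, Finset.card_univ, Fintype.card_fin, hβ, smul_smul]
  have e2 : (ψ' : CartDual.D R A') = ((∏ i, (φ' i : CartDual.D R A') x') * β') • ξ' := by
    rw [hψ', Finset.prod_congr rfl (fun i _ => hφ' (φ' i) (φ' i).2), Finset.prod_smul,
      Finset.prod_const, Finset.card_univ, Fintype.card_fin, hβ', smul_smul]
  rw [e1, e2, hθ_apply]
  change ((∏ i, (φ i : CartDual.D R A) x) * β) * ξ (m : A) =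
    ((∏ i, (φ' i : CartDual.D R A') x') * β') * ξ' ((V' * ξ (m : A)) • x')
  rw [D_smul, hξx', mul_one, Finset.prod_congr rfl (fun i _ => hd i), Finset.prod_mul_distrib,
    Finset.prod_const, Finset.card_univ, Fintype.card_fin, hβv']
  have : V ^ p * V' ^ (p - 1) * V' = 1 := by
    rw [mul_assoc, ← pow_succ, hp1, ← mul_pow, hVV', one_pow]
  calc (∏ i, (φ i : CartDual.D R A) x) * β * ξ (m : A)
      = (V ^ p * V' ^ (p - 1) * V') * ((∏ i, (φ i : CartDual.D R A) x) * β * ξ (m : A)) := by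
        rw [this, one_mul]
    _ = V ^ p * (∏ i, (φ i : CartDual.D R A) x) * (V' ^ (p - 1) * β) * (V' * ξ (m : A)) := by
        ring

end S75

end Groth.Agent.Lib.Helper7.OT
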