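import Groth.Agent.Lib.Helper7.OT2
import Groth.Agent.Lib.Helper12.AlgCl2

/-!
# Oort–Tate 3 (helper7): a finite locally free group scheme of prime order over any ring is
commutative.
-/

universe u v w

open TensorProduct

namespace Groth.Agent.Lib.Helper7.OT

section Inj

open Polynomial

/-- the ideal generated by finitely many monic polynomials of positive degree, each in its own
variable, contains no nonzero constant. -/
theorem eq_zero_of_C_mem_span {σ : Type w} (F : Finset σ) :
    ∀ (S : Type u) [CommRing S] (P : σ → S[X])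
      (_ : ∀ i ∈ F, (P i).Monic ∧ 0 < (P i).natDegree) (r : S),
      MvPolynomial.C r ∈ Ideal.span
        ((fun i => Polynomial.aeval (MvPolynomial.X (R := S) i) (P i)) '' (F : Set σ)) → r = 0 := by
  classical
  induction F using Finset.induction_on with
  | empty =>
    intro S _ P _ r hr
    rw [Finset.coe_empty, Set.image_empty, Ideal.span_empty, Ideal.mem_bot] at hr
    exact (MvPolynomial.C_eq_zero).1 hr
  | insert j F hj ih =>
    intro S _ P hP r hr
    rcases subsingleton_or_nontrivial S with hS | hS
    · exact Subsingleton.elim _ _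
    have hPj := hP j (Finset.mem_insert_self j F)
    have hinj : Function.Injective (AdjoinRoot.of (P j)) := by
      rw [injective_iff_map_eq_zero]
      intro a ha
      by_contra hne
      rw [← AdjoinRoot.mk_C, AdjoinRoot.mk_eq_zero] at ha
      refine hPj.1.not_dvd_of_natDegree_lt ?_ ?_ ha
      · rwa [Ne, Polynomial.C_eq_zero]
      · rw [Polynomial.natDegree_C]
        exact hPj.2
    haveI : Nontrivial (AdjoinRoot (P j)) := hinj.nontrivial
    set φ : MvPolynomial σ S →+* MvPolynomial σ (AdjoinRoot (P j)) :=
      MvPolynomial.eval₂Hom (MvPolynomial.C.comp (AdjoinRoot.of (P j)))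
        (fun i => if i = j then MvPolynomial.C (AdjoinRoot.root (P j)) else MvPolynomial.X i)
      with hφ
    have hφC : ∀ a : S, φ (MvPolynomial.C a) = MvPolynomial.C (AdjoinRoot.of (P j) a) := by
      intro a
      rw [hφ, MvPolynomial.coe_eval₂Hom, MvPolynomial.eval₂_C]
      rfl
    have hφX : ∀ i, φ (MvPolynomial.X i) =
        if i = j then MvPolynomial.C (AdjoinRoot.root (P j)) else MvPolynomial.X i := by
      intro i
      rw [hφ, MvPolynomial.coe_eval₂Hom, MvPolynomial.eval₂_X]
    have hcomp : φ.comp (algebraMap S (MvPolynomial σ S)) =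
        (MvPolynomial.C).comp (AdjoinRoot.of (P j)) := by
      ext a
      rw [RingHom.comp_apply, MvPolynomial.algebraMap_eq, hφC]
      rfl
    have hgen : ∀ i, φ (Polynomial.aeval (MvPolynomial.X (R := S) i) (P i)) =
        ((P i).map (AdjoinRoot.of (P j))).eval₂ MvPolynomial.C (φ (MvPolynomial.X i)) := by
      intro i
      rw [Polynomial.aeval_def, Polynomial.hom_eval₂, hcomp, Polynomial.eval₂_map]
    set P' : σ → (AdjoinRoot (P j))[X] := fun i => (P i).map (AdjoinRoot.of (P j)) with hP'
    have hP'F : ∀ i ∈ F, (P' i).Monic ∧ 0 < (P' i).natDegree := by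
      intro i hi
      have := hP i (Finset.mem_insert_of_mem hi)
      refine ⟨this.1.map _, ?_⟩
      rw [hP', this.1.natDegree_map]
      exact this.2
    have hmem : MvPolynomial.C (AdjoinRoot.of (P j) r) ∈ Ideal.span
        ((fun i => Polynomial.aeval (MvPolynomial.X (R := AdjoinRoot (P j)) i) (P' i)) ''
          (F : Set σ)) := by
      have h1 := Ideal.mem_map_of_mem φ hr
      rw [hφC, Ideal.map_span] at h1
      refine (Ideal.span_le.2 ?_) h1
      rintro _ ⟨_, ⟨i, hi, rfl⟩, rfl⟩
      rw [hgen, hφX]
      rw [Finset.coe_insert, Set.mem_insert_iff] at hi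
      by_cases hij : i = j
      · subst hij
        rw [if_pos rfl]
        have h2 : ((P i).map (AdjoinRoot.of (P i))).eval₂ MvPolynomial.C
            (MvPolynomial.C (AdjoinRoot.root (P i)) : MvPolynomial σ (AdjoinRoot (P i))) =
            MvPolynomial.C ((P i).eval₂ (AdjoinRoot.of (P i)) (AdjoinRoot.root (P i))) := by
          rw [Polynomial.eval₂_map, Polynomial.hom_eval₂]
        rw [h2, AdjoinRoot.eval₂_root, map_zero]
        exact Ideal.zero_mem _
      · rw [if_neg hij]
        have hiF : i ∈ (F : Set σ) := hi.resolve_left hij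
        apply Ideal.subset_span
        refine ⟨i, hiF, ?_⟩
        change Polynomial.aeval (MvPolynomial.X i) (P' i) = _
        rw [Polynomial.aeval_def, MvPolynomial.algebraMap_eq]
    have := ih (AdjoinRoot (P j)) P' hP'F _ hmem
    exact (injective_iff_map_eq_zero _).1 hinj r this

/-- the base ring injects into helper12's ring with algebraically closed residue fields. -/
theorem algebraMap_T_injective (R : Type u) [CommRing R] :
    Function.Injective (algebraMap R (H12AlgCl.T R)) := by
  classical
  rw [injective_iff_map_eq_zero]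
  intro r hr
  have h1 : MvPolynomial.C r ∈ H12AlgCl.J R := by
    rw [← Ideal.Quotient.eq_zero_iff_mem]
    exact hr
  obtain ⟨T', hT', hmem⟩ := Submodule.mem_span_finite_of_mem_span h1
  rw [← Set.image_univ, Finset.subset_set_image_iff] at hT'
  obtain ⟨F, -, hF⟩ := hT'
  rw [← hF, Finset.coe_image] at hmem
  exact eq_zero_of_C_mem_span F R (fun i => i.1) (fun i _ => i.2) r hmem

end Inj

section Descent

variable (R : Type u) [CommRing R] (A : Type v) [CommRing A] [HopfAlgebra R A]

/-- step A: cocommutativity after base change kills the base change of the defect. -/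
lemma one_tmul_comm_comul (S : Type w) [CommRing S] [Algebra R S]
    [Coalgebra.IsCocomm S (S ⊗[R] A)] (a : A) :
    (1 : S) ⊗ₜ[R] (TensorProduct.comm R A A (Coalgebra.comul (R := R) a)) =
      (1 : S) ⊗ₜ[R] (Coalgebra.comul (R := R) a) := by
  set e := AlgebraTensorModule.distribBaseChange R S A A with he
  have h1 : ∀ w : A ⊗[R] A, e ((1 : S) ⊗ₜ[R] w) =
      AlgebraTensorModule.tensorTensorTensorComm R S R S S S A A
        (((1 : S) ⊗ₜ[S] (1 : S)) ⊗ₜ[R] w) := by
    intro w
    induction w using TensorProduct.induction_on with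
    | zero => simp
    | add x y hx hy => rw [TensorProduct.tmul_add, map_add, hx, hy, TensorProduct.tmul_add, map_add]
    | tmul x y =>
      rw [he, AlgebraTensorModule.distribBaseChange_tmul,
        AlgebraTensorModule.tensorTensorTensorComm_tmul]
  have h2 : ∀ w : A ⊗[R] A, TensorProduct.comm S (S ⊗[R] A) (S ⊗[R] A) (e ((1 : S) ⊗ₜ[R] w)) =
      e ((1 : S) ⊗ₜ[R] (TensorProduct.comm R A A w)) := by
    intro w
    induction w using TensorProduct.induction_on with
    | zero => simp
    | add x y hx hy =>
      rw [TensorProduct.tmul_add, map_add, map_add, hx, hy, map_add, TensorProduct.tmul_add,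
        map_add]
    | tmul x y =>
      rw [he, AlgebraTensorModule.distribBaseChange_tmul, TensorProduct.comm_tmul,
        TensorProduct.comm_tmul, AlgebraTensorModule.distribBaseChange_tmul]
  have h3 : Coalgebra.comul (R := S) ((1 : S) ⊗ₜ[R] a) =
      e ((1 : S) ⊗ₜ[R] (Coalgebra.comul (R := R) a)) := by
    rw [h1, TensorProduct.comul_tmul, CommSemiring.comul_apply]
  have h4 := Coalgebra.comm_comul S ((1 : S) ⊗ₜ[R] a)
  rw [h3, h2] at h4
  exact e.injective h4

variable [Module.Finite R A] [Module.Projective R A]

/-- cocommutativity descends along an injective ring map, checking at all primes of the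
extension. -/
theorem isCocomm_of_forall_prime (T : Type w) [CommRing T] [Algebra R T]
    (hT : Function.Injective (algebraMap R T))
    (h : ∀ (Q : Ideal T) [Q.IsPrime],
      Coalgebra.IsCocomm (Localization.AtPrime Q) (Localization.AtPrime Q ⊗[R] A)) :
    Coalgebra.IsCocomm R A := by
  refine ⟨LinearMap.ext fun a => ?_⟩
  rw [LinearMap.comp_apply, LinearEquiv.coe_coe]
  set z := TensorProduct.comm R A A (Coalgebra.comul (R := R) a) - Coalgebra.comul (R := R) a
    with hz
  suffices hz0 : z = 0 from sub_eq_zero.1 hz0
  -- the image of `z` in `T ⊗ (A ⊗ A)` vanishes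
  have hy : (1 : T) ⊗ₜ[R] z = (0 : T ⊗[R] (A ⊗[R] A)) := by
    apply Module.eq_zero_of_localization_maximal
      (fun (P : Ideal T) [P.IsMaximal] => Localization.AtPrime P ⊗[T] (T ⊗[R] (A ⊗[R] A)))
      (fun (P : Ideal T) [P.IsMaximal] =>
        TensorProduct.mk T (Localization.AtPrime P) (T ⊗[R] (A ⊗[R] A)) 1)
    intro P hP
    haveI : P.IsPrime := hP.isPrime
    haveI := h P
    have h1 := one_tmul_comm_comul R A (Localization.AtPrime P) a
    have h2 : (1 : Localization.AtPrime P) ⊗ₜ[R] z = 0 := by
      rw [hz, TensorProduct.tmul_sub, h1, sub_self]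
    apply (AlgebraTensorModule.cancelBaseChange R T (Localization.AtPrime P)
      (Localization.AtPrime P) (A ⊗[R] A)).injective
    rw [TensorProduct.mk_apply, AlgebraTensorModule.cancelBaseChange_tmul, one_smul, h2, map_zero]
  -- `A ⊗ A` is flat and `R → T` is injective
  have hinj : Function.Injective ((Algebra.linearMap R T).rTensor (A ⊗[R] A)) :=
    Module.Flat.rTensor_preserves_injective_linearMap _ hT
  have h3 : (Algebra.linearMap R T).rTensor (A ⊗[R] A) ((1 : R) ⊗ₜ[R] z) = 0 := by
    rw [LinearMap.rTensor_tmul, Algebra.linearMap_apply, map_one, hy]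
  have h4 := hinj (h3.trans (map_zero _).symm)
  have h5 := congrArg (TensorProduct.lid R (A ⊗[R] A)) h4
  rwa [TensorProduct.lid_tmul, one_smul, map_zero] at h5

end Descent

section Main

/-- **Tate–Oort, Theorem 1 (commutativity).** A finite locally free group scheme of prime order
over any commutative ring is commutative. -/
theorem isCocomm_of_rank_prime (R : Type u) [CommRing R] (p : ℕ) (hp : p.Prime) (A : Type v)
    [CommRing A] [HopfAlgebra R A] [Module.Finite R A] [Module.Projective R A]
    (hrk : ∀ q : PrimeSpectrum R, Module.rankAtStalk A q = p) :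
    Coalgebra.IsCocomm R A := by
  apply isCocomm_of_forall_prime R A (H12AlgCl.T R) (algebraMap_T_injective R)
  intro Q _
  haveI : IsAlgClosed (IsLocalRing.ResidueField (Localization.AtPrime Q)) :=
    H12AlgCl.isAlgClosed R Q
  apply isCocomm_of_local p hp
  intro q
  rw [Module.rankAtStalk_baseChange]
  exact hrk _

end Main

end Groth.Agent.Lib.Helper7.OT
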