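import Groth.Agent.Lib.Helper7.OT3
import Groth.Agent.Lib.Helper7.Deligne
import Groth.Agent.S18468

/-!
# Oort–Tate 4 (helper7): the eigenspaces of the augmentation ideal — general framework
-/

universe u v w

open TensorProduct

namespace Groth.Agent.Lib.Helper7.OT

open WithConv Groth.Agent.S18468

section Setup

variable {p : ℕ} [Fact p.Prime] {R : Type u} [CommRing R] (u : R)
  (hu : u * ((p - 1 : ℕ) : R) = 1) (χ : (ZMod p)ˣ →* Rˣ)
  (hχ : ∀ m : (ZMod p)ˣ, m ≠ 1 → IsUnit ((χ m : R) - 1))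
  {A : Type u} [CommRing A] [HopfAlgebra R A]
  (hp : (WithConv.toConv (AlgHom.id R A)) ^ p = 1)

variable (p R A) in
/-- the power maps `[m]` as linear endomorphisms. -/
noncomputable def rho (m : (ZMod p)ˣ) : A →ₗ[R] A :=
  (SGA3b.powConv R A (m : ZMod p).val).toLinearMap

variable (R A) in
/-- the augmentation ideal as a submodule. -/
abbrev augW : Submodule R A := LinearMap.ker (Bialgebra.counitAlgHom R A).toLinearMap

lemma mem_augW {a : A} : a ∈ augW R A ↔ Coalgebra.counit (R := R) a = 0 := by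
  rw [LinearMap.mem_ker]
  rfl

lemma rho_apply (m : (ZMod p)ˣ) (a : A) :
    rho p R A m a = SGA3b.powConv R A (m : ZMod p).val a := rfl

lemma rho_one : rho p R A 1 = LinearMap.id := by
  haveI : Fact (1 < p) := ⟨(Fact.out : p.Prime).one_lt⟩
  change (SGA3b.powConv R A ((1 : (ZMod p)ˣ) : ZMod p).val).toLinearMap = LinearMap.id
  rw [Units.val_one, ZMod.val_one]
  unfold SGA3b.powConv
  rw [pow_one]
  rfl

include hp in
lemma rho_mul (a b : (ZMod p)ˣ) : rho p R A (a * b) = rho p R A a ∘ₗ rho p R A b := by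
  change (SGA3b.powConv R A ((a * b : (ZMod p)ˣ) : ZMod p).val).toLinearMap =
    (SGA3b.powConv R A (a : ZMod p).val).toLinearMap ∘ₗ
      (SGA3b.powConv R A (b : ZMod p).val).toLinearMap
  rw [Units.val_mul, ZMod.val_mul, ← powConv_mod hp, ← powConv_comp]
  rfl

lemma rho_augW (m : (ZMod p)ˣ) : ∀ v ∈ augW R A, rho p R A m v ∈ augW R A := by
  intro v hv
  rw [mem_augW] at hv ⊢
  rw [rho_apply, counit_powConv]
  exact hv

lemma eigenAug_eq (i : ℕ) :
    OortTate.eigenAug R A p χ i = E χ (rho p R A) (augW R A) i := rfl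

lemma proj_eq (i : ℕ) : OortTate.proj R A p u χ i = P u χ (rho p R A) i := rfl

lemma mem_eigenAug {i : ℕ} {v : A} :
    v ∈ OortTate.eigenAug R A p χ i ↔ Coalgebra.counit (R := R) v = 0 ∧
      ∀ m : (ZMod p)ˣ, SGA3b.powConv R A (m : ZMod p).val v = (((χ m : Rˣ) : R) ^ i) • v := by
  rw [eigenAug_eq, mem_E, mem_augW]
  rfl

include hp in
lemma proj_mem_eigenAug (i : ℕ) {v : A} (hv : Coalgebra.counit (R := R) v = 0) :
    OortTate.proj R A p u χ i v ∈ OortTate.eigenAug R A p χ i := by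
  rw [eigenAug_eq, proj_eq, mem_E]
  exact ⟨P_mem_W u χ (rho p R A) (augW R A) rho_augW i (mem_augW.2 hv),
    fun m => rho_P u χ (rho p R A) (rho_mul hp) i m v⟩

include hu hχ in
lemma proj_of_mem {i j : ℕ} (hi : i < p - 1) (hj : j < p - 1) {v : A}
    (hv : v ∈ OortTate.eigenAug R A p χ j) :
    OortTate.proj R A p u χ i v = if i = j then v else 0 := by
  rw [proj_eq]
  exact P_on_E u hu χ hχ (rho p R A) (augW R A) hi hj hv

include hu hχ in
lemma sum_proj (v : A) : ∑ i ∈ Finset.range (p - 1), OortTate.proj R A p u χ i v = v := by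
  simp only [proj_eq]
  exact sum_P u hu χ hχ (rho p R A) rho_one v

lemma chi_pow_card (m : (ZMod p)ˣ) : ((χ m : Rˣ) : R) ^ (p - 1) = 1 := by
  rw [← Units.val_pow_eq_pow_val, ← map_pow, ZMod.units_pow_card_sub_one_eq_one, map_one,
    Units.val_one]

lemma eigenAug_congr {i j : ℕ} (h : i % (p - 1) = j % (p - 1)) :
    OortTate.eigenAug R A p χ i = OortTate.eigenAug R A p χ j := by
  ext v
  rw [mem_eigenAug, mem_eigenAug]
  have : ∀ m : (ZMod p)ˣ, ((χ m : Rˣ) : R) ^ i = ((χ m : Rˣ) : R) ^ j := by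
    intro m
    rw [pow_eq_pow_mod i (chi_pow_card χ m), pow_eq_pow_mod j (chi_pow_card χ m), h]
  simp only [this]

lemma mul_mem_eigenAug {i j : ℕ} {x y : A} (hx : x ∈ OortTate.eigenAug R A p χ i)
    (hy : y ∈ OortTate.eigenAug R A p χ j) : x * y ∈ OortTate.eigenAug R A p χ (i + j) := by
  rw [mem_eigenAug] at hx hy ⊢
  refine ⟨?_, fun m => ?_⟩
  · rw [Bialgebra.counit_mul, hx.1, zero_mul]
  · rw [map_mul, hx.2, hy.2, smul_mul_smul_comm, pow_add]

lemma pow_mem_eigenAug {x : A} (hx : x ∈ OortTate.eigenAug R A p χ 1) :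
    ∀ t : ℕ, 1 ≤ t → x ^ t ∈ OortTate.eigenAug R A p χ t := by
  intro t ht
  induction t with
  | zero => omega
  | succ t ih =>
    rcases Nat.eq_zero_or_pos t with h0 | h0
    · subst h0
      rwa [zero_add, pow_one]
    · rw [pow_succ]
      exact mul_mem_eigenAug χ (ih h0) hx

lemma eigenAug_one_pow_le (t : ℕ) (ht : 1 ≤ t) :
    (OortTate.eigenAug R A p χ 1) ^ t ≤ OortTate.eigenAug R A p χ t := by
  induction t with
  | zero => omega
  | succ t ih =>
    rcases Nat.eq_zero_or_pos t with h0 | h0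
    · subst h0
      rw [zero_add, pow_one]
    · rw [pow_succ, Submodule.mul_le]
      intro x hx y hy
      exact mul_mem_eigenAug χ (ih h0 hx) hy

end Setup

section Retract

variable {p : ℕ} [Fact p.Prime] {R : Type u} [CommRing R] (u : R)
  (hu : u * ((p - 1 : ℕ) : R) = 1) (χ : (ZMod p)ˣ →* Rˣ)
  (hχ : ∀ m : (ZMod p)ˣ, m ≠ 1 → IsUnit ((χ m : R) - 1))
  {A : Type u} [CommRing A] [HopfAlgebra R A]
  (hp : (WithConv.toConv (AlgHom.id R A)) ^ p = 1)

variable (R A) in
/-- the projection `a ↦ a - ε(a)` onto the augmentation ideal. -/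
noncomputable def augPi : A →ₗ[R] A :=
  LinearMap.id - (Algebra.linearMap R A) ∘ₗ (Bialgebra.counitAlgHom R A).toLinearMap

lemma augPi_apply (a : A) :
    augPi R A a = a - algebraMap R A (Coalgebra.counit (R := R) a) := rfl

lemma counit_augPi (a : A) : Coalgebra.counit (R := R) (augPi R A a) = 0 := by
  rw [augPi_apply, map_sub, Bialgebra.counit_algebraMap, sub_self]

lemma augPi_of_mem {a : A} (ha : Coalgebra.counit (R := R) a = 0) : augPi R A a = a := by
  rw [augPi_apply, ha, map_zero, sub_zero]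

/-- the retraction of `A` onto the `i`-th eigenspace. -/
noncomputable def sec (i : ℕ) : A →ₗ[R] OortTate.eigenAug R A p χ i :=
  LinearMap.codRestrict _ ((OortTate.proj R A p u χ i) ∘ₗ augPi R A)
    (fun a => proj_mem_eigenAug u χ hp i (counit_augPi a))

lemma sec_coe (i : ℕ) (a : A) :
    ((sec u χ hp i a : OortTate.eigenAug R A p χ i) : A) =
      OortTate.proj R A p u χ i (augPi R A a) := rfl

include hu hχ in
lemma sec_of_mem {i : ℕ} (hi : i < p - 1) (v : OortTate.eigenAug R A p χ i) :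
    sec u χ hp i (v : A) = v := by
  apply Subtype.ext
  rw [sec_coe, augPi_of_mem ((mem_eigenAug χ).1 v.2).1, proj_of_mem u hu χ hχ hi hi v.2,
    if_pos rfl]

include hu hχ hp in
lemma projective_eigenAug_lt [Module.Projective R A] {i : ℕ} (hi : i < p - 1) :
    Module.Projective R (OortTate.eigenAug R A p χ i) :=
  Module.Projective.of_split (OortTate.eigenAug R A p χ i).subtype (sec u χ hp i)
    (LinearMap.ext fun v => sec_of_mem u hu χ hχ hp hi v)

include hu hχ hp in
lemma finite_eigenAug_lt [Module.Finite R A] {i : ℕ} (hi : i < p - 1) :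
    Module.Finite R (OortTate.eigenAug R A p χ i) :=
  Module.Finite.of_surjective (sec u χ hp i)
    (fun v => ⟨(v : A), sec_of_mem u hu χ hχ hp hi v⟩)

include hu hχ hp in
/-- `qA ∩ I_i = q I_i`. -/
lemma mem_smul_eigenAug {i : ℕ} (hi : i < p - 1) (q : Ideal R) {v : A}
    (hv : v ∈ OortTate.eigenAug R A p χ i) (hq : v ∈ q • (⊤ : Submodule R A)) :
    v ∈ q • OortTate.eigenAug R A p χ i := by
  have h1 : (sec u χ hp i v : A) = v := congrArg Subtype.val (sec_of_mem u hu χ hχ hp hi ⟨v, hv⟩)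
  rw [← h1]
  have h2 : ∀ w ∈ q • (⊤ : Submodule R A),
      ((sec u χ hp i w : OortTate.eigenAug R A p χ i) : A) ∈
        q • OortTate.eigenAug R A p χ i := by
    intro w hw
    refine Submodule.smul_induction_on hw ?_ ?_
    · intro r hr n _
      rw [map_smul, Submodule.coe_smul]
      exact Submodule.smul_mem_smul hr (sec u χ hp i n).2
    · intro x y hx hy
      rw [map_add, Submodule.coe_add]
      exact Submodule.add_mem _ hx hy
  exact h2 v hq

end Retract

end Groth.Agent.Lib.Helper7.OT
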