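import Groth.Agent.Lib.Helper7.OT4

/-!
# Oort–Tate 5 (helper7): over an algebraically closed field, the `χ`-eigenspace of the
augmentation ideal of a group of order `p` contains an element whose `(p-1)`-st power is nonzero.
-/

universe u v w

open TensorProduct

namespace Groth.Agent.Lib.Helper7.OT

open Groth.Agent.Lib.Helper7.HopfCot Groth.Agent.Lib.Helper7.FrobKer
  Groth.Agent.Lib.Helper7.HopfSub Groth.Agent.Lib.Helper7.HopfConv WithConv
  Groth.Agent.Lib.Helper7.FinOrder Groth.Agent.Lib.Helper7.PrimeOrder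
  Groth.Agent.Lib.Helper7.Comod Groth.Agent.S18468

section DerPow

variable {k : Type u} [Field k] {A : Type u} [CommRing A] [HopfAlgebra k A]
  (l : (augI k A).Cotangent →ₗ[k] k)

/-- an `ε`-derivation is additive on convolution products of counit-preserving maps. -/
lemma dOf_convMul (f g : WithConv (A →ₐ[k] A))
    (hf : ∀ a, Coalgebra.counit (R := k) (f.ofConv a) = Coalgebra.counit (R := k) a)
    (hg : ∀ a, Coalgebra.counit (R := k) (g.ofConv a) = Coalgebra.counit (R := k) a) (a : A) :
    dOf l ((f * g).ofConv a) = dOf l (f.ofConv a) + dOf l (g.ofConv a) := by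
  have key : ∀ z : A ⊗[k] A,
      dOf l (Algebra.TensorProduct.lift f.ofConv g.ofConv (fun _ _ => Commute.all _ _) z) =
        dOf l (g.ofConv (TensorProduct.lid k A ((Coalgebra.counit (R := k)).rTensor A z))) +
        dOf l (f.ofConv (TensorProduct.rid k A ((Coalgebra.counit (R := k)).lTensor A z))) := by
    intro z
    induction z using TensorProduct.induction_on with
    | zero => simp
    | add x y hx hy =>
      simp only [map_add, hx, hy]
      ring
    | tmul x y =>
      rw [Algebra.TensorProduct.lift_tmul, dOf_mul, hf, hg, LinearMap.rTensor_tmul,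
        LinearMap.lTensor_tmul, TensorProduct.lid_tmul, TensorProduct.rid_tmul, map_smul,
        map_smul, map_smul, map_smul, smul_eq_mul, smul_eq_mul]
      ring
  have h1 : (f * g).ofConv a =
      Algebra.TensorProduct.lift f.ofConv g.ofConv (fun _ _ => Commute.all _ _)
        (Coalgebra.comul (R := k) a) := AlgHom.convMul_apply f g a
  rw [h1, key, Coalgebra.rTensor_counit_comul, Coalgebra.lTensor_counit_comul,
    TensorProduct.lid_tmul, TensorProduct.rid_tmul, one_smul, add_comm]

lemma dOf_powConv (n : ℕ) (a : A) :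
    dOf l (SGA3b.powConv k A n a) = (n : k) * dOf l a := by
  induction n with
  | zero =>
    have h0 : SGA3b.powConv k A 0 a = algebraMap k A (Coalgebra.counit (R := k) a) := by
      unfold SGA3b.powConv
      rw [pow_zero]
      rfl
    rw [h0, Algebra.algebraMap_eq_smul_one, map_smul, dOf_one, smul_zero, Nat.cast_zero, zero_mul]
  | succ n ih =>
    have h1 : SGA3b.powConv k A (n + 1) a =
        ((toConv (AlgHom.id k A)) ^ n * toConv (AlgHom.id k A)).ofConv a := by
      unfold SGA3b.powConv
      rw [pow_succ]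
    rw [h1, dOf_convMul l _ _ (fun b => counit_powConv n b) (fun b => rfl)]
    have h2 : ((toConv (AlgHom.id k A)) ^ n).ofConv a = SGA3b.powConv k A n a := rfl
    rw [h2, ih, WithConv.ofConv_toConv, AlgHom.id_apply]
    push_cast
    ring

end DerPow

section Etale

variable {p : ℕ} [Fact p.Prime] {K : Type u} [Field K] (u : K)
  (hu : u * ((p - 1 : ℕ) : K) = 1) (χ : (ZMod p)ˣ →* Kˣ)
  {H : Type u} [CommRing H] [HopfAlgebra K H] [Module.Finite K H]
  (hp : (WithConv.toConv (AlgHom.id K H)) ^ p = 1)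

include hu hp in
/-- étale case. -/
theorem exists_x_of_card_eq (hcard : Nat.card (H →ₐ[K] K) = p) :
    ∃ x ∈ OortTate.eigenAug K H p χ 1, x ^ (p - 1) ≠ 0 := by
  classical
  have hpp : p.Prime := Fact.out
  haveI : Fact (1 < p) := ⟨hpp.one_lt⟩
  have hcardΓ : Nat.card (WithConv (H →ₐ[K] K)) = p := by
    rw [Nat.card_congr (WithConv.equiv (H →ₐ[K] K)), hcard]
  haveI : IsCyclic (WithConv (H →ₐ[K] K)) := isCyclic_of_prime_card hcardΓ
  haveI : Finite (H →ₐ[K] K) := Nat.finite_of_card_ne_zero (hcard ▸ hpp.ne_zero)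
  obtain ⟨g, hg⟩ := IsCyclic.exists_generator (α := WithConv (H →ₐ[K] K))
  have hord : orderOf g = p := by
    rw [orderOf_eq_card_of_forall_mem_zpowers hg, hcardΓ]
  set γ₀ : H →ₐ[K] K := g.ofConv with hγ₀
  -- the Chinese remainder theorem
  have hcop : Pairwise (Function.onFun IsCoprime (fun γ : H →ₐ[K] K => RingHom.ker γ)) := by
    intro γ γ' hne
    change IsCoprime (RingHom.ker γ) (RingHom.ker γ')
    rw [Ideal.isCoprime_iff_sup_eq]
    have hs : ∀ δ : H →ₐ[K] K, Function.Surjective δ := fun δ c =>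
      ⟨algebraMap K H c, by simp⟩
    refine Ideal.IsMaximal.coprime_of_ne (RingHom.ker_isMaximal_of_surjective _ (hs γ))
      (RingHom.ker_isMaximal_of_surjective _ (hs γ')) ?_
    intro hker
    exact hne (ker_injective γ γ' hker)
  obtain ⟨h, hh⟩ := Ideal.exists_forall_sub_mem_ideal hcop
    (fun γ => if γ = γ₀ then (1 : H) else 0)
  have hval : ∀ γ : H →ₐ[K] K, γ h = if γ = γ₀ then 1 else 0 := by
    intro γ
    have := hh γ
    rw [RingHom.mem_ker, map_sub, sub_eq_zero] at this
    rw [this]
    split_ifs <;> simp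
  -- the counit is not the generator
  have hε : Bialgebra.counitAlgHom K H ≠ γ₀ := by
    intro heq
    have h1 : g = 1 := by
      apply WithConv.ext
      rw [← hγ₀, ← heq, AlgHom.convOne_def, WithConv.ofConv_toConv]
      ext a
      simp
    rw [h1, orderOf_one] at hord
    exact hpp.one_lt.ne hord
  have hcounit : Coalgebra.counit (R := K) h = 0 := by
    have := hval (Bialgebra.counitAlgHom K H)
    rwa [if_neg hε] at this
  refine ⟨OortTate.proj K H p u χ 1 h, proj_mem_eigenAug u χ hp 1 hcounit, ?_⟩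
  -- evaluate at the generator
  have hpow : ∀ n : ℕ, γ₀ (SGA3b.powConv K H n h) = if g ^ n = g then 1 else 0 := by
    intro n
    have h1 := Groth.Agent.Lib.Helper7.HopfConv.comp_convPow γ₀ (toConv (AlgHom.id K H)) n
    have h2 : γ₀ (SGA3b.powConv K H n h) = (γ₀.comp ((toConv (AlgHom.id K H)) ^ n).ofConv) h :=
      rfl
    rw [h2, h1, WithConv.ofConv_toConv, AlgHom.comp_id]
    have h3 : (toConv γ₀ : WithConv (H →ₐ[K] K)) = g := rfl
    rw [h3, hval]
    by_cases hgn : g ^ n = g
    · rw [if_pos hgn, if_pos (by rw [hgn])]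
    · rw [if_neg hgn, if_neg]
      intro hc
      apply hgn
      apply WithConv.ext
      exact hc
  have hm1 : ∀ m : (ZMod p)ˣ, g ^ (m : ZMod p).val = g ↔ m = 1 := by
    intro m
    constructor
    · intro hgm
      have h1 : g ^ (m : ZMod p).val = g ^ 1 := by rw [hgm, pow_one]
      rw [pow_eq_pow_iff_modEq, hord] at h1
      have h2 : (m : ZMod p).val < p := ZMod.val_lt _
      have h3 : (m : ZMod p).val % p = 1 % p := h1
      rw [Nat.mod_eq_of_lt h2, Nat.mod_eq_of_lt hpp.one_lt] at h3
      apply Units.ext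
      apply ZMod.val_injective
      rw [h3, Units.val_one, ZMod.val_one]
    · rintro rfl
      rw [Units.val_one, ZMod.val_one, pow_one]
  have hγx : γ₀ (OortTate.proj K H p u χ 1 h) = u := by
    unfold OortTate.proj
    rw [LinearMap.smul_apply, LinearMap.sum_apply, map_smul, map_sum]
    rw [Finset.sum_eq_single (1 : (ZMod p)ˣ)]
    · rw [LinearMap.smul_apply, map_smul, AlgHom.toLinearMap_apply, hpow, if_pos ((hm1 1).2 rfl)]
      simp
    · intro m _ hm
      rw [LinearMap.smul_apply, map_smul, AlgHom.toLinearMap_apply, hpow,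
        if_neg (fun hc => hm ((hm1 m).1 hc)), smul_zero]
    · intro hc
      exact absurd (Finset.mem_univ _) hc
  intro hzero
  have h4 := congrArg γ₀ hzero
  rw [map_pow, hγx, map_zero] at h4
  have hu0 : u ≠ 0 := by
    rintro rfl
    rw [zero_mul] at hu
    exact zero_ne_one hu
  exact hu0 (pow_eq_zero_iff (by have := hpp.two_le; omega) |>.1 h4)

end Etale

section Inf

variable {p : ℕ} [Fact p.Prime] {K : Type u} [Field K] (u : K)
  (hu : u * ((p - 1 : ℕ) : K) = 1) (χ : (ZMod p)ˣ →* Kˣ)
  (hχp : ∀ m : (ZMod p)ˣ, ((χ m : Kˣ) : K) - (((m : ZMod p).val : ℕ) : K) ∈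
    Ideal.span ({(p : K)} : Set K))
  {H : Type u} [CommRing H] [HopfAlgebra K H] [Module.Finite K H]
  (hp : (WithConv.toConv (AlgHom.id K H)) ^ p = 1)

include hu hχp hp in
/-- infinitesimal case. -/
theorem exists_x_of_nilpotent (hA : Module.finrank K H = p) (N : ℕ) (hIN : augI K H ^ N = ⊥) :
    ∃ x ∈ OortTate.eigenAug K H p χ 1, x ^ (p - 1) ≠ 0 := by
  classical
  have hpp : p.Prime := Fact.out
  haveI : IsLocalRing H := isLocalRing_of_augmentation (Bialgebra.counitAlgHom K H)
    (fun x hx => ⟨N, by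
      have := Ideal.pow_mem_pow ((mem_augI x).2 hx) N
      rwa [hIN, Ideal.mem_bot] at this⟩)
  haveI : CharP K p := by
    obtain ⟨q, hq⟩ := ExpChar.exists K
    cases hq with
    | zero =>
      exfalso
      have := finrank_eq_one_of_charZero K H
      rw [hA] at this
      exact hpp.one_lt.ne' this
    | prime hq' =>
      haveI : Fact q.Prime := ⟨hq'⟩
      obtain ⟨r, hr⟩ := exists_finrank_eq_pow_of_charP K H q
      rw [hA] at hr
      have hr0 : r ≠ 0 := by
        rintro rfl
        rw [pow_zero] at hr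
        exact hpp.one_lt.ne' hr
      have hqp : q ∣ p := by
        rw [hr]
        exact dvd_pow_self q hr0
      have : q = p := (Nat.prime_dvd_prime_iff_eq hq' hpp).1 hqp
      rw [← this]
      infer_instance
  haveI := HopfSub.finite_cotangent (k := K) (A := H)
  have hd : Module.finrank K (augI K H).Cotangent ≠ 0 := by
    intro hd
    have := finrank_eq_one_of_cotangent (k := K) (A := H) hd
    rw [hA] at this
    exact hpp.one_lt.ne' this
  haveI : Nontrivial (augI K H).Cotangent := Module.finrank_pos_iff.1 (Nat.pos_of_ne_zero hd)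
  obtain ⟨c, hc⟩ := exists_ne (0 : (augI K H).Cotangent)
  obtain ⟨l₀, hl₀⟩ : ∃ l₀ : (augI K H).Cotangent →ₗ[K] K, l₀ c ≠ 0 := by
    by_contra hcon
    push Not at hcon
    exact hc ((Module.forall_dual_apply_eq_zero_iff K c).1 hcon)
  obtain ⟨x₀, rfl⟩ := Ideal.toCotangent_surjective _ c
  set l : (augI K H).Cotangent →ₗ[K] K := (l₀ ((augI K H).toCotangent x₀))⁻¹ • l₀ with hl
  have hδ : dOf l (x₀ : H) = 1 := by
    rw [dOf_of_mem l x₀.2, hl, LinearMap.smul_apply, smul_eq_mul]
    exact inv_mul_cancel₀ hl₀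
  have hx₀ : Coalgebra.counit (R := K) (x₀ : H) = 0 := (mem_augI _).1 x₀.2
  -- `χ m = m` in characteristic `p`
  have hχm : ∀ m : (ZMod p)ˣ, ((χ m : Kˣ) : K) = (((m : ZMod p).val : ℕ) : K) := by
    intro m
    have := hχp m
    rw [CharP.cast_eq_zero K p, Ideal.span_singleton_eq_bot.2 rfl, Ideal.mem_bot, sub_eq_zero]
      at this
    exact this
  set x := OortTate.proj K H p u χ 1 (x₀ : H) with hxdef
  have hxmem : x ∈ OortTate.eigenAug K H p χ 1 := proj_mem_eigenAug u χ hp 1 hx₀
  have hxI : x ∈ augI K H := (mem_augI _).2 ((mem_eigenAug χ).1 hxmem).1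
  have hdx : dOf l x = 1 := by
    rw [hxdef]
    unfold OortTate.proj
    rw [LinearMap.smul_apply, LinearMap.sum_apply, map_smul, map_sum]
    have : ∀ m : (ZMod p)ˣ, dOf l (((((χ m⁻¹ : Kˣ) : K) ^ 1) •
        (SGA3b.powConv K H (m : ZMod p).val).toLinearMap) (x₀ : H)) = 1 := by
      intro m
      rw [LinearMap.smul_apply, map_smul, AlgHom.toLinearMap_apply, dOf_powConv, hδ, mul_one,
        ← hχm, pow_one, smul_eq_mul, ← Units.val_mul, ← map_mul, inv_mul_cancel, map_one,
        Units.val_one]
    rw [Finset.sum_congr rfl (fun m _ => this m), Finset.sum_const, Finset.card_univ,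
      ZMod.card_units, smul_eq_mul, nsmul_eq_mul, mul_one]
    exact hu
  refine ⟨x, hxmem, ?_⟩
  intro hzero
  have h1 := counit_DOf_pow_self l x hxI (p - 1)
  rw [hzero, map_zero, map_zero, hdx, one_pow, mul_one] at h1
  have hne : (((p - 1).factorial : ℕ) : K) ≠ 0 := by
    rw [Ne, CharP.cast_eq_zero_iff K p, hpp.dvd_factorial]
    have := hpp.one_lt
    omega
  exact hne h1.symm

end Inf

section Main

variable {p : ℕ} [Fact p.Prime] {K : Type u} [Field K] [IsAlgClosed K] (u : K)
  (hu : u * ((p - 1 : ℕ) : K) = 1) (χ : (ZMod p)ˣ →* Kˣ)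
  (hχp : ∀ m : (ZMod p)ˣ, ((χ m : Kˣ) : K) - (((m : ZMod p).val : ℕ) : K) ∈
    Ideal.span ({(p : K)} : Set K))
  {H : Type u} [CommRing H] [HopfAlgebra K H] [Module.Finite K H]

include hu hχp in
/-- over an algebraically closed field, `I_1` of a group of order `p` contains an element whose
`(p-1)`-st power is nonzero. -/
theorem exists_x (hA : Module.finrank K H = p) :
    ∃ x ∈ OortTate.eigenAug K H p χ 1, x ^ (p - 1) ≠ 0 := by
  have hpp : p.Prime := Fact.out
  have hp : (WithConv.toConv (AlgHom.id K H)) ^ p = 1 := by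
    have := convPow_id_finrank K H
    rwa [hA] at this
  obtain ⟨N, m, hN, hinf, hdim⟩ := exists_decomp (k := K) (A := H)
  rw [hA] at hdim
  rcases hpp.eq_one_or_self_of_dvd _ ⟨m, hdim⟩ with h1 | h1
  · have huniq : ∀ γ : H →ₐ[K] K, γ = Bialgebra.counitAlgHom K H := by
      haveI : Subsingleton (H →ₐ[K] K) := (Nat.card_eq_one_iff_unique.1 h1).1
      intro γ
      exact Subsingleton.elim _ _
    have hIN : augI K H ^ N = ⊥ := by
      rw [eq_bot_iff, ← hinf]
      refine le_iInf (fun γ => ?_)
      rw [huniq γ]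
    exact exists_x_of_nilpotent u hu χ hχp hp hA N hIN
  · exact exists_x_of_card_eq u hu χ hp h1

end Main

end Groth.Agent.Lib.Helper7.OT
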