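import Groth.Agent.Lib.Helper7.OT5

/-!
# Oort–Tate 6 (helper7): over a field, the eigenspaces are lines spanned by the powers of a
generator of `I_1`.
-/

universe u v w

open TensorProduct

namespace Groth.Agent.Lib.Helper7.OT

open WithConv Groth.Agent.S18468

section LinAlg

variable {K : Type*} [Field K] {M : Type*} [AddCommGroup M] [Module K M] [Module.Finite K M]
  {ι : Type*}

/-- the dimension of an independent supremum is the sum of the dimensions. -/
lemma finrank_biSup (V : ι → Submodule K M) (hV : iSupIndep V) (s : Finset ι) :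
    Module.finrank K ↥(⨆ i ∈ s, V i) = ∑ i ∈ s, Module.finrank K ↥(V i) := by
  classical
  induction s using Finset.induction_on with
  | empty => simp
  | insert a s ha ih =>
    rw [Finset.iSup_insert, Finset.sum_insert ha, ← ih]
    have hdis : V a ⊓ (⨆ i ∈ s, V i) = ⊥ := by
      have := hV.disjoint_biSup (x := a) (y := (s : Set ι)) (by simpa using ha)
      exact disjoint_iff.1 this
    have h1 := Submodule.finrank_sup_add_finrank_inf_eq (V a) (⨆ i ∈ s, V i)
    rw [hdis, finrank_bot, add_zero] at h1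
    exact h1

end LinAlg

section Field

variable {p : ℕ} [Fact p.Prime] {K : Type u} [Field K] (u : K)
  (hu : u * ((p - 1 : ℕ) : K) = 1) (χ : (ZMod p)ˣ →* Kˣ)
  (hχ : ∀ m : (ZMod p)ˣ, m ≠ 1 → IsUnit ((χ m : K) - 1))
  {H : Type u} [CommRing H] [HopfAlgebra K H] [Module.Finite K H]
  (hp : (WithConv.toConv (AlgHom.id K H)) ^ p = 1)
  (hA : Module.finrank K H = p)
  {x : H} (hx : x ∈ OortTate.eigenAug K H p χ 1) (hxp : x ^ (p - 1) ≠ 0)

include hA in
lemma finrank_augW : Module.finrank K ↥(augW K H) = p - 1 := by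
  have h1 := LinearMap.finrank_range_add_finrank_ker (Bialgebra.counitAlgHom K H).toLinearMap
  have h2 : LinearMap.range (Bialgebra.counitAlgHom K H).toLinearMap = ⊤ := by
    rw [LinearMap.range_eq_top]
    intro c
    exact ⟨algebraMap K H c, by simp⟩
  rw [h2, finrank_top, Module.finrank_self, hA] at h1
  change Module.finrank K ↥(LinearMap.ker (Bialgebra.counitAlgHom K H).toLinearMap) = p - 1
  omega

include hxp in
lemma pow_ne_zero_of_le {t : ℕ} (ht : t ≤ p - 1) : x ^ t ≠ 0 := by
  intro h0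
  apply hxp
  have : x ^ (p - 1) = x ^ t * x ^ (p - 1 - t) := by
    rw [← pow_add]
    congr 1
    omega
  rw [this, h0, zero_mul]

include hu hχ hp hA hx hxp in
/-- every eigenspace is a line. -/
theorem finrank_eigenAug_lt (i : Fin (p - 1)) :
    Module.finrank K ↥(OortTate.eigenAug K H p χ (i : ℕ)) = 1 := by
  classical
  have hpp : p.Prime := Fact.out
  obtain ⟨hind, hsup, -⟩ := Groth.Agent.S18468.result p K u hu χ hχ H hp
  have hsum : ∑ i : Fin (p - 1), Module.finrank K ↥(OortTate.eigenAug K H p χ (i : ℕ)) = p - 1 := by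
    have h1 := finrank_biSup (fun i : Fin (p - 1) => OortTate.eigenAug K H p χ (i : ℕ)) hind
      Finset.univ
    have h2 : (⨆ i ∈ (Finset.univ : Finset (Fin (p - 1))), OortTate.eigenAug K H p χ (i : ℕ)) =
        augW K H := by
      change _ = LinearMap.ker (Bialgebra.counitAlgHom K H).toLinearMap
      rw [← hsup]
      simp
    rw [h2] at h1
    rw [← h1]
    exact finrank_augW hA
  have hpos : ∀ j : Fin (p - 1), 1 ≤ Module.finrank K ↥(OortTate.eigenAug K H p χ (j : ℕ)) := by
    intro j
    rw [Nat.succ_le_iff, Module.finrank_pos_iff]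
    -- a nonzero element
    set t : ℕ := if (j : ℕ) = 0 then p - 1 else (j : ℕ) with ht
    have ht1 : 1 ≤ t := by
      rw [ht]
      split_ifs with h
      · have := j.2
        omega
      · omega
    have htp : t ≤ p - 1 := by
      rw [ht]
      split_ifs with h
      · exact le_rfl
      · exact j.2.le
    have hcongr : OortTate.eigenAug K H p χ t = OortTate.eigenAug K H p χ (j : ℕ) := by
      apply eigenAug_congr
      rw [ht]
      split_ifs with h
      · rw [h, Nat.mod_self, Nat.zero_mod]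
      · rfl
    have hmem : x ^ t ∈ OortTate.eigenAug K H p χ (j : ℕ) := by
      rw [← hcongr]
      exact pow_mem_eigenAug χ hx t ht1
    exact ⟨⟨⟨x ^ t, hmem⟩, 0, fun h0 => pow_ne_zero_of_le hxp htp (congrArg Subtype.val h0)⟩⟩
  by_contra hne
  have hlt : 1 < Module.finrank K ↥(OortTate.eigenAug K H p χ (i : ℕ)) :=
    lt_of_le_of_ne (hpos i) (Ne.symm hne)
  have h3 : ∑ _j : Fin (p - 1), 1 <
      ∑ j : Fin (p - 1), Module.finrank K ↥(OortTate.eigenAug K H p χ (j : ℕ)) :=
    Finset.sum_lt_sum (fun j _ => hpos j) ⟨i, Finset.mem_univ _, hlt⟩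
  rw [hsum] at h3
  simp at h3

include hu hχ hp hA hx hxp in
theorem finrank_eigenAug (i : ℕ) : Module.finrank K ↥(OortTate.eigenAug K H p χ i) = 1 := by
  have hpp : p.Prime := Fact.out
  have hlt : i % (p - 1) < p - 1 := Nat.mod_lt _ (by have := hpp.one_lt; omega)
  have hc : OortTate.eigenAug K H p χ i = OortTate.eigenAug K H p χ (i % (p - 1)) :=
    eigenAug_congr χ (Nat.mod_mod _ _).symm
  rw [hc]
  exact finrank_eigenAug_lt u hu χ hχ hp hA hx hxp ⟨i % (p - 1), hlt⟩

include hu hχ hp hA hx hxp in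
/-- `I_t = K x^t`. -/
theorem eigenAug_eq_span {t : ℕ} (ht1 : 1 ≤ t) (htp : t ≤ p - 1) :
    OortTate.eigenAug K H p χ t = Submodule.span K {x ^ t} := by
  have hfr := finrank_eigenAug u hu χ hχ hp hA hx hxp t
  have hmem : x ^ t ∈ OortTate.eigenAug K H p χ t := pow_mem_eigenAug χ hx t ht1
  have hne : (⟨x ^ t, hmem⟩ : ↥(OortTate.eigenAug K H p χ t)) ≠ 0 :=
    fun h0 => pow_ne_zero_of_le hxp htp (congrArg Subtype.val h0)
  apply le_antisymm
  · intro v hv
    obtain ⟨c, hc⟩ := (finrank_eq_one_iff_of_nonzero' _ hne).1 hfr ⟨v, hv⟩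
    rw [Submodule.mem_span_singleton]
    exact ⟨c, congrArg Subtype.val hc⟩
  · rw [Submodule.span_singleton_le_iff_mem]
    exact hmem

end Field

end Groth.Agent.Lib.Helper7.OT
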