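import Groth.Agent.Lib.Helper7.OT6
import Groth.Agent.Lib.Helper7.Versch1

/-!
# Oort–Tate 7 (helper7): base change of the eigenspaces and their ranks
-/

universe u v w

open TensorProduct

namespace Groth.Agent.Lib.Helper7.OT

open WithConv Groth.Agent.S18468

section BC

variable {p : ℕ} [Fact p.Prime] {R : Type u} [CommRing R] (u : R)
  (hu : u * ((p - 1 : ℕ) : R) = 1) (χ : (ZMod p)ˣ →* Rˣ)
  (hχ : ∀ m : (ZMod p)ˣ, m ≠ 1 → IsUnit ((χ m : R) - 1))
  (hχp : ∀ m : (ZMod p)ˣ, ((χ m : Rˣ) : R) - (((m : ZMod p).val : ℕ) : R) ∈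
    Ideal.span ({(p : R)} : Set R))
  {A : Type u} [CommRing A] [HopfAlgebra R A]
  (hp : (WithConv.toConv (AlgHom.id R A)) ^ p = 1)
  (S : Type u) [CommRing S] [Algebra R S]

/-- the base change of the character. -/
def chiBC : (ZMod p)ˣ →* Sˣ := (Units.map (algebraMap R S : R →* S)).comp χ

lemma chiBC_coe (m : (ZMod p)ˣ) : ((chiBC χ S m : Sˣ) : S) = algebraMap R S ((χ m : Rˣ) : R) := rfl

include hu in
lemma hu_BC : algebraMap R S u * ((p - 1 : ℕ) : S) = 1 := by
  rw [← map_natCast (algebraMap R S), ← map_mul, hu, map_one]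

include hχ in
lemma hchi_BC : ∀ m : (ZMod p)ˣ, m ≠ 1 → IsUnit (((chiBC χ S m : Sˣ) : S) - 1) := by
  intro m hm
  rw [chiBC_coe, ← map_one (algebraMap R S), ← map_sub]
  exact (hχ m hm).map _

include hχp in
lemma hchip_BC : ∀ m : (ZMod p)ˣ, ((chiBC χ S m : Sˣ) : S) - (((m : ZMod p).val : ℕ) : S) ∈
    Ideal.span ({(p : S)} : Set S) := by
  intro m
  obtain ⟨c, hc⟩ := Ideal.mem_span_singleton'.1 (hχp m)
  have e1 : (((m : ZMod p).val : ℕ) : S) = algebraMap R S (((m : ZMod p).val : ℕ) : R) :=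
    (map_natCast _ _).symm
  have e2 : ((p : ℕ) : S) = algebraMap R S ((p : ℕ) : R) := (map_natCast _ _).symm
  rw [chiBC_coe, e1, ← map_sub, ← hc, map_mul, ← e2]
  exact Ideal.mem_span_singleton'.2 ⟨_, rfl⟩

lemma algebraMap_smul_one_tmul (r : R) (a : A) :
    (algebraMap R S r) • ((1 : S) ⊗ₜ[R] a) = (1 : S) ⊗ₜ[R] (r • a) := by
  rw [TensorProduct.smul_tmul', smul_eq_mul, mul_one, Algebra.algebraMap_eq_smul_one,
    TensorProduct.smul_tmul]

lemma powConv_one_tmul (n : ℕ) (a : A) :
    SGA3b.powConv S (S ⊗[R] A) n ((1 : S) ⊗ₜ[R] a) = (1 : S) ⊗ₜ[R] (SGA3b.powConv R A n a) := by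
  rw [Groth.Agent.Lib.Helper7.Versch.powConv_baseChange, Algebra.TensorProduct.map_tmul,
    AlgHom.id_apply]

lemma proj_one_tmul (i : ℕ) (a : A) :
    OortTate.proj S (S ⊗[R] A) p (algebraMap R S u) (chiBC χ S) i ((1 : S) ⊗ₜ[R] a) =
      (1 : S) ⊗ₜ[R] (OortTate.proj R A p u χ i a) := by
  unfold OortTate.proj
  rw [LinearMap.smul_apply, LinearMap.sum_apply, LinearMap.smul_apply, LinearMap.sum_apply,
    ← algebraMap_smul_one_tmul, TensorProduct.tmul_sum, Finset.smul_sum, Finset.smul_sum]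
  refine Finset.sum_congr rfl (fun m _ => ?_)
  rw [LinearMap.smul_apply, LinearMap.smul_apply, AlgHom.toLinearMap_apply,
    AlgHom.toLinearMap_apply, powConv_one_tmul, chiBC_coe, ← map_pow, algebraMap_smul_one_tmul]

lemma counit_tmul' (s : S) (a : A) :
    Coalgebra.counit (R := S) (s ⊗ₜ[R] a) = Coalgebra.counit (R := R) a • s := by
  rw [TensorProduct.counit_tmul, CommSemiring.counit_apply]

lemma augPi_tmul (s : S) (a : A) :
    augPi S (S ⊗[R] A) (s ⊗ₜ[R] a) = s ⊗ₜ[R] (augPi R A a) := by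
  rw [augPi_apply, augPi_apply, counit_tmul', Algebra.TensorProduct.algebraMap_apply,
    Algebra.algebraMap_self_apply, TensorProduct.tmul_sub, TensorProduct.smul_tmul,
    Algebra.algebraMap_eq_smul_one]

/-- the `S`-span of the image of a submodule of `A` in `S ⊗ A`. -/
def spanBC (X : Submodule R A) : Submodule S (S ⊗[R] A) :=
  Submodule.span S ((fun a => (1 : S) ⊗ₜ[R] a) '' (X : Set A))

lemma one_tmul_mem_spanBC {X : Submodule R A} {a : A} (ha : a ∈ X) :
    (1 : S) ⊗ₜ[R] a ∈ spanBC S X := Submodule.subset_span ⟨a, ha, rfl⟩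

lemma tmul_mem_spanBC {X : Submodule R A} {a : A} (ha : a ∈ X) (s : S) :
    s ⊗ₜ[R] a ∈ spanBC S X := by
  have : s ⊗ₜ[R] a = s • ((1 : S) ⊗ₜ[R] a) := by
    rw [TensorProduct.smul_tmul', smul_eq_mul, mul_one]
  rw [this]
  exact Submodule.smul_mem _ _ (one_tmul_mem_spanBC S ha)

lemma spanBC_mul_le (X Y : Submodule R A) : spanBC S X * spanBC S Y ≤ spanBC S (X * Y) := by
  rw [Submodule.mul_le]
  intro m hm n hn
  induction hm using Submodule.span_induction with
  | mem m hm =>
    obtain ⟨a, ha, rfl⟩ := hm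
    induction hn using Submodule.span_induction with
    | mem n hn =>
      obtain ⟨b, hb, rfl⟩ := hn
      rw [Algebra.TensorProduct.tmul_mul_tmul, mul_one]
      exact one_tmul_mem_spanBC S (Submodule.mul_mem_mul ha hb)
    | zero => rw [mul_zero]; exact Submodule.zero_mem _
    | add x y _ _ hx hy => rw [mul_add]; exact Submodule.add_mem _ hx hy
    | smul c x _ hx => rw [mul_smul_comm]; exact Submodule.smul_mem _ _ hx
  | zero => rw [zero_mul]; exact Submodule.zero_mem _
  | add x y _ _ hx hy => rw [add_mul]; exact Submodule.add_mem _ hx hy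
  | smul c x _ hx => rw [smul_mul_assoc]; exact Submodule.smul_mem _ _ hx

lemma spanBC_pow_le (X : Submodule R A) (t : ℕ) (ht : 1 ≤ t) :
    spanBC S X ^ t ≤ spanBC S (X ^ t) := by
  induction t with
  | zero => omega
  | succ t ih =>
    rcases Nat.eq_zero_or_pos t with h0 | h0
    · subst h0
      rw [zero_add, pow_one, pow_one]
    · rw [pow_succ, pow_succ]
      exact (mul_le_mul' (ih h0) le_rfl).trans (spanBC_mul_le S _ _)

include hu hχ hp in
/-- **base change of the eigenspaces.** -/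
theorem eigenAug_BC {i : ℕ} (hi : i < p - 1) :
    OortTate.eigenAug S (S ⊗[R] A) p (chiBC χ S) i = spanBC S (OortTate.eigenAug R A p χ i) := by
  apply le_antisymm
  · intro w hw
    have h1 := proj_of_mem (algebraMap R S u) (hu_BC u hu S) (chiBC χ S) (hchi_BC χ hχ S) hi hi hw
    rw [if_pos rfl] at h1
    have h2 : augPi S (S ⊗[R] A) w = w := augPi_of_mem ((mem_eigenAug _).1 hw).1
    rw [← h1, ← h2]
    have key : ∀ z : S ⊗[R] A,
        OortTate.proj S (S ⊗[R] A) p (algebraMap R S u) (chiBC χ S) i (augPi S (S ⊗[R] A) z) ∈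
          spanBC S (OortTate.eigenAug R A p χ i) := by
      intro z
      induction z using TensorProduct.induction_on with
      | zero => rw [map_zero, map_zero]; exact Submodule.zero_mem _
      | add x y hx hy => rw [map_add, map_add]; exact Submodule.add_mem _ hx hy
      | tmul s a =>
        rw [augPi_tmul]
        have : s ⊗ₜ[R] (augPi R A a) = s • ((1 : S) ⊗ₜ[R] (augPi R A a)) := by
          rw [TensorProduct.smul_tmul', smul_eq_mul, mul_one]
        rw [this, map_smul, proj_one_tmul]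
        exact Submodule.smul_mem _ _
          (one_tmul_mem_spanBC S (proj_mem_eigenAug u χ hp i (counit_augPi a)))
    exact key w
  · rw [spanBC, Submodule.span_le]
    rintro _ ⟨v, hv, rfl⟩
    have hv' := (mem_eigenAug χ).1 hv
    rw [SetLike.mem_coe, mem_eigenAug]
    refine ⟨?_, fun m => ?_⟩
    · rw [counit_tmul', hv'.1, zero_smul]
    · rw [powConv_one_tmul, hv'.2, chiBC_coe, ← map_pow, algebraMap_smul_one_tmul]

end BC

section Rank

variable {R : Type u} [CommRing R] (q : PrimeSpectrum R)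

/-- the rank at a prime is the dimension of the geometric fibre. -/
lemma rankAtStalk_eq_finrank_algClosure (M : Type u) [AddCommGroup M] [Module R M]
    [Module.Finite R M] [Module.Projective R M] :
    Module.rankAtStalk M q = Module.finrank (AlgebraicClosure q.asIdeal.ResidueField)
      (AlgebraicClosure q.asIdeal.ResidueField ⊗[R] M) := by
  set Kb := AlgebraicClosure q.asIdeal.ResidueField
  let pt : PrimeSpectrum Kb := ⟨⊥, Ideal.isPrime_bot⟩
  have h1 := Module.rankAtStalk_baseChange (R := R) (M := M) (S := Kb) pt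
  have h2 : pt.comap (algebraMap R Kb) = q := by
    apply PrimeSpectrum.ext
    ext a
    change algebraMap R Kb a ∈ (⊥ : Ideal Kb) ↔ a ∈ q.asIdeal
    rw [Ideal.mem_bot, IsScalarTower.algebraMap_apply R q.asIdeal.ResidueField Kb,
      map_eq_zero_iff _ (algebraMap q.asIdeal.ResidueField Kb).injective]
    exact Ideal.algebraMap_residueField_eq_zero
  rw [h2] at h1
  rw [← h1]
  exact congrFun (Module.rankAtStalk_eq_finrank_of_free (R := Kb) (M := Kb ⊗[R] M)) pt

end Rank

section RankEigen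

variable {p : ℕ} [Fact p.Prime] {R : Type u} [CommRing R] (u : R)
  (hu : u * ((p - 1 : ℕ) : R) = 1) (χ : (ZMod p)ˣ →* Rˣ)
  (hχ : ∀ m : (ZMod p)ˣ, m ≠ 1 → IsUnit ((χ m : R) - 1))
  (hχp : ∀ m : (ZMod p)ˣ, ((χ m : Rˣ) : R) - (((m : ZMod p).val : ℕ) : R) ∈
    Ideal.span ({(p : R)} : Set R))
  {A : Type u} [CommRing A] [HopfAlgebra R A] [Module.Finite R A] [Module.Projective R A]
  (hp : (WithConv.toConv (AlgHom.id R A)) ^ p = 1)
  (hrk : ∀ q : PrimeSpectrum R, Module.rankAtStalk A q = p)

omit [Module.Finite R A] [Module.Projective R A] in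
include hu hχ hp in
/-- the base change of `I_i` to a field is the span of its image. -/
lemma finrank_tensor_eigenAug (S : Type u) [Field S] [Algebra R S] {i : ℕ} (hi : i < p - 1) :
    Module.finrank S (S ⊗[R] ↥(OortTate.eigenAug R A p χ i)) =
      Module.finrank S ↥(OortTate.eigenAug S (S ⊗[R] A) p (chiBC χ S) i) := by
  set f : S ⊗[R] ↥(OortTate.eigenAug R A p χ i) →ₗ[S] S ⊗[R] A :=
    (OortTate.eigenAug R A p χ i).subtype.baseChange S with hf
  have hinj : Function.Injective f := by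
    have hleft : ((sec u χ hp i).baseChange S).comp f = LinearMap.id := by
      rw [hf, ← LinearMap.baseChange_comp]
      have : (sec u χ hp i).comp (OortTate.eigenAug R A p χ i).subtype = LinearMap.id :=
        LinearMap.ext fun v => sec_of_mem u hu χ hχ hp hi v
      rw [this, LinearMap.baseChange_id]
    exact Function.LeftInverse.injective (g := (sec u χ hp i).baseChange S)
      (fun z => LinearMap.congr_fun hleft z)
  have hrange : LinearMap.range f = spanBC S (OortTate.eigenAug R A p χ i) := by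
    apply le_antisymm
    · rintro _ ⟨z, rfl⟩
      induction z using TensorProduct.induction_on with
      | zero => rw [map_zero]; exact Submodule.zero_mem _
      | add x y hx hy => rw [map_add]; exact Submodule.add_mem _ hx hy
      | tmul s v =>
        rw [hf, LinearMap.baseChange_tmul]
        exact tmul_mem_spanBC S v.2 s
    · rw [spanBC, Submodule.span_le]
      rintro _ ⟨v, hv, rfl⟩
      exact ⟨(1 : S) ⊗ₜ[R] ⟨v, hv⟩, by rw [hf, LinearMap.baseChange_tmul]; rfl⟩
  rw [eigenAug_BC u hu χ hχ hp S hi, ← hrange]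
  exact (LinearMap.finrank_range_of_inj hinj).symm

include hu hχ hχp hp hrk in
/-- **each eigenspace has rank one.** -/
theorem rankAtStalk_eigenAug_lt {i : ℕ} (hi : i < p - 1) (q : PrimeSpectrum R)
    [Module.Finite R ↥(OortTate.eigenAug R A p χ i)]
    [Module.Projective R ↥(OortTate.eigenAug R A p χ i)] :
    Module.rankAtStalk ↥(OortTate.eigenAug R A p χ i) q = 1 := by
  set Kb := AlgebraicClosure q.asIdeal.ResidueField
  rw [rankAtStalk_eq_finrank_algClosure q, finrank_tensor_eigenAug u hu χ hχ hp Kb hi]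
  have hfr : Module.finrank Kb (Kb ⊗[R] A) = p := by
    rw [← rankAtStalk_eq_finrank_algClosure q, hrk]
  have hpK : (WithConv.toConv (AlgHom.id Kb (Kb ⊗[R] A))) ^ p = 1 := by
    have := Groth.Agent.Lib.Helper7.FinOrder.convPow_id_finrank Kb (Kb ⊗[R] A)
    rwa [hfr] at this
  obtain ⟨x, hx, hxp⟩ := exists_x (algebraMap R Kb u) (hu_BC u hu Kb) (chiBC χ Kb)
    (hchip_BC χ hχp Kb) hfr
  exact finrank_eigenAug (algebraMap R Kb u) (hu_BC u hu Kb) (chiBC χ Kb) (hchi_BC χ hχ Kb)
    hpK hfr hx hxp i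

end RankEigen

end Groth.Agent.Lib.Helper7.OT
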