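import Groth.Agent.Lib.Helper7.OT7
import Groth.Agent.Lib.Helper7.MultDesc
import Groth.Agent.S15048

/-!
# Oort–Tate 8 (helper7): `I_1^t = I_t`, and the rank one theorem (S18469)
-/

universe u v w

open TensorProduct

namespace Groth.Agent.Lib.Helper7.OT

open WithConv Groth.Agent.S18468

section Nak

variable {R : Type*} [CommRing R] {A : Type*} [AddCommGroup A] [Module R A]

/-- a global form of Nakayama's lemma for submodules. -/
lemma le_of_forall_maximal {N M : Submodule R A} (hM : M.FG)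
    (h : ∀ q : Ideal R, q.IsMaximal → M ≤ N ⊔ q • M) : M ≤ N := by
  set M' : Submodule R (A ⧸ N) := M.map N.mkQ with hM'
  have hfg : M'.FG := hM.map _
  have hle : ∀ q : Ideal R, q.IsMaximal → M' ≤ q • M' := by
    intro q hq
    rw [hM']
    have h1 := Submodule.map_mono (f := N.mkQ) (h q hq)
    rw [Submodule.map_sup, Submodule.map_smul'', Submodule.mkQ_map_self, bot_sup_eq] at h1
    exact h1
  have hbot : M' = ⊥ := by
    by_contra hne
    have hann : M'.annihilator ≠ ⊤ := by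
      intro htop
      apply hne
      rw [eq_bot_iff]
      intro x hx
      have : (1 : R) ∈ M'.annihilator := by rw [htop]; trivial
      have h2 := Submodule.mem_annihilator.1 this x hx
      rwa [one_smul] at h2
    obtain ⟨q, hq, hqle⟩ := Ideal.exists_le_maximal _ hann
    obtain ⟨r, hr1, hr2⟩ :=
      Submodule.exists_sub_one_mem_and_smul_eq_zero_of_fg_of_le_smul q M' hfg (hle q hq)
    have hrq : r ∈ q := hqle (Submodule.mem_annihilator.2 hr2)
    have h1q : (1 : R) ∈ q := by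
      have := q.sub_mem hrq hr1
      rwa [sub_sub_cancel] at this
    exact hq.ne_top ((Ideal.eq_top_iff_one q).2 h1q)
  intro v hv
  have : N.mkQ v ∈ M' := ⟨v, hv, rfl⟩
  rw [hbot, Submodule.mem_bot, Submodule.mkQ_apply, Submodule.Quotient.mk_eq_zero] at this
  exact this

end Nak

section Descent

variable {R : Type u} [CommRing R] {A : Type u} [AddCommGroup A] [Module R A]

/-- `S`-span of the image of a submodule (module version). -/
def spanM (S : Type u) [CommRing S] [Algebra R S] (X : Submodule R A) : Submodule S (S ⊗[R] A) :=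
  Submodule.span S ((fun a => (1 : S) ⊗ₜ[R] a) '' (X : Set A))

/-- descent of span membership from the geometric point to the residue field. -/
lemma mem_sup_smul_top_of_one_tmul_mem (q : Ideal R) [hq : q.IsMaximal] (N : Submodule R A)
    (v : A)
    (hv : (1 : AlgebraicClosure q.ResidueField) ⊗ₜ[R] v ∈
      spanM (AlgebraicClosure q.ResidueField) N) :
    v ∈ N ⊔ q • (⊤ : Submodule R A) := by
  classical
  set Kb := AlgebraicClosure q.ResidueField
  letI : Field (R ⧸ q) := Ideal.Quotient.field q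
  -- the image of `N` in `F ⊗ A`
  set NF : Submodule (R ⧸ q) ((R ⧸ q) ⊗[R] A) := spanM (R ⧸ q) N with hNF
  by_cases hmem : (1 : R ⧸ q) ⊗ₜ[R] v ∈ NF
  · -- then `v ∈ N + qA`
    have himg : ∀ z ∈ NF, ∃ y ∈ N, z = (1 : R ⧸ q) ⊗ₜ[R] y := by
      intro z hz
      induction hz using Submodule.span_induction with
      | mem z hz =>
        obtain ⟨y, hy, rfl⟩ := hz
        exact ⟨y, hy, rfl⟩
      | zero => exact ⟨0, N.zero_mem, by rw [TensorProduct.tmul_zero]⟩
      | add x y _ _ hx hy =>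
        obtain ⟨a, ha, rfl⟩ := hx
        obtain ⟨b, hb, rfl⟩ := hy
        exact ⟨a + b, N.add_mem ha hb, by rw [TensorProduct.tmul_add]⟩
      | smul c x _ hx =>
        obtain ⟨a, ha, rfl⟩ := hx
        obtain ⟨r, rfl⟩ := Ideal.Quotient.mk_surjective c
        refine ⟨r • a, N.smul_mem r ha, ?_⟩
        rw [TensorProduct.smul_tmul', smul_eq_mul, mul_one, TensorProduct.tmul_smul,
          TensorProduct.smul_tmul', ← Algebra.algebraMap_eq_smul_one]
        rfl
    obtain ⟨y, hy, hvy⟩ := himg _ hmem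
    have h0 : (1 : R ⧸ q) ⊗ₜ[R] (v - y) = 0 := by
      rw [TensorProduct.tmul_sub, hvy, sub_self]
    have h1 := Groth.Agent.Lib.Helper7.MultDesc.mem_smul_top_of_one_tmul_eq_zero q h0
    have h2 : v = y + (v - y) := by abel
    rw [h2]
    exact Submodule.add_mem_sup hy h1
  · exfalso
    obtain ⟨φ, hφv, hφN⟩ := Submodule.exists_le_ker_of_notMem hmem
    -- the embedding of the residue field into the geometric point
    let ι : (R ⧸ q) →ₐ[R] Kb := Ideal.Quotient.liftₐ q (Algebra.ofId R Kb) (by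
      intro a ha
      change algebraMap R Kb a = 0
      rw [IsScalarTower.algebraMap_apply R q.ResidueField Kb,
        map_eq_zero_iff _ (algebraMap q.ResidueField Kb).injective]
      exact Ideal.algebraMap_residueField_eq_zero.2 ha)
    let ψ : A →ₗ[R] Kb :=
      ι.toLinearMap ∘ₗ (φ.restrictScalars R) ∘ₗ (TensorProduct.mk R (R ⧸ q) A 1)
    have hψ : ∀ a, ψ a = ι (φ ((1 : R ⧸ q) ⊗ₜ[R] a)) := fun a => rfl
    let Ψ : Kb ⊗[R] A →ₗ[Kb] Kb := LinearMap.liftBaseChange Kb ψ
    have hΨN : spanM Kb N ≤ LinearMap.ker Ψ := by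
      rw [spanM, Submodule.span_le]
      rintro _ ⟨y, hy, rfl⟩
      rw [SetLike.mem_coe, LinearMap.mem_ker, LinearMap.liftBaseChange_tmul, one_smul, hψ]
      have : φ ((1 : R ⧸ q) ⊗ₜ[R] y) = 0 := hφN (Submodule.subset_span ⟨y, hy, rfl⟩)
      rw [this, map_zero]
    have h1 := hΨN hv
    rw [LinearMap.mem_ker, LinearMap.liftBaseChange_tmul, one_smul, hψ] at h1
    exact hφv ((map_eq_zero_iff ι ι.toRingHom.injective).1 h1)

end Descent

section Main

variable {p : ℕ} [Fact p.Prime] {R : Type u} [CommRing R] (u : R)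
  (hu : u * ((p - 1 : ℕ) : R) = 1) (χ : (ZMod p)ˣ →* Rˣ)
  (hχ : ∀ m : (ZMod p)ˣ, m ≠ 1 → IsUnit ((χ m : R) - 1))
  (hχp : ∀ m : (ZMod p)ˣ, ((χ m : Rˣ) : R) - (((m : ZMod p).val : ℕ) : R) ∈
    Ideal.span ({(p : R)} : Set R))
  {A : Type u} [CommRing A] [HopfAlgebra R A] [Module.Finite R A] [Module.Projective R A]
  (hp : (WithConv.toConv (AlgHom.id R A)) ^ p = 1)
  (hrk : ∀ q : PrimeSpectrum R, Module.rankAtStalk A q = p)

include hu hχ hχp hp hrk in
/-- `I_t ≤ I_1^t`. -/
theorem eigenAug_le_pow {t : ℕ} (ht1 : 1 ≤ t) (htp : t ≤ p - 1) :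
    OortTate.eigenAug R A p χ t ≤ (OortTate.eigenAug R A p χ 1) ^ t := by
  have hpp : p.Prime := Fact.out
  have hpos : 0 < p - 1 := by have := hpp.one_lt; omega
  set i := t % (p - 1) with hi
  have hilt : i < p - 1 := Nat.mod_lt _ hpos
  have hti : OortTate.eigenAug R A p χ t = OortTate.eigenAug R A p χ i :=
    eigenAug_congr χ (Nat.mod_mod _ _).symm
  set j := 1 % (p - 1) with hj
  have hjlt : j < p - 1 := Nat.mod_lt _ hpos
  have h1j : OortTate.eigenAug R A p χ 1 = OortTate.eigenAug R A p χ j :=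
    eigenAug_congr χ (Nat.mod_mod _ _).symm
  have hfg : (OortTate.eigenAug R A p χ t).FG := by
    rw [hti]
    haveI := finite_eigenAug_lt u hu χ hχ hp hilt
    exact Module.Finite.iff_fg.1 inferInstance
  apply le_of_forall_maximal hfg
  intro q hq
  haveI := hq
  intro v hv
  set Kb := AlgebraicClosure q.ResidueField
  let qs : PrimeSpectrum R := ⟨q, hq.isPrime⟩
  have hfr : Module.finrank Kb (Kb ⊗[R] A) = p := by
    have := rankAtStalk_eq_finrank_algClosure qs A
    rw [hrk] at this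
    exact this.symm
  have hpK : (WithConv.toConv (AlgHom.id Kb (Kb ⊗[R] A))) ^ p = 1 := by
    have := Groth.Agent.Lib.Helper7.FinOrder.convPow_id_finrank Kb (Kb ⊗[R] A)
    rwa [hfr] at this
  obtain ⟨x, hx, hxp⟩ := exists_x (algebraMap R Kb u) (hu_BC u hu Kb) (chiBC χ Kb)
    (hchip_BC χ hχp Kb) hfr
  have hspan := eigenAug_eq_span (algebraMap R Kb u) (hu_BC u hu Kb) (chiBC χ Kb)
    (hchi_BC χ hχ Kb) hpK hfr hx hxp ht1 htp
  -- `1 ⊗ v` lies in `I_t` of the geometric fibre
  have hv1 : (1 : Kb) ⊗ₜ[R] v ∈ OortTate.eigenAug Kb (Kb ⊗[R] A) p (chiBC χ Kb) t := by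
    have hc : OortTate.eigenAug Kb (Kb ⊗[R] A) p (chiBC χ Kb) t =
        OortTate.eigenAug Kb (Kb ⊗[R] A) p (chiBC χ Kb) i :=
      eigenAug_congr _ (Nat.mod_mod _ _).symm
    rw [hc, eigenAug_BC u hu χ hχ hp Kb hilt]
    rw [hti] at hv
    exact one_tmul_mem_spanBC Kb hv
  -- `x ∈ spanBC I_1`
  have hx1 : x ∈ spanBC Kb (OortTate.eigenAug R A p χ 1) := by
    have hc : OortTate.eigenAug Kb (Kb ⊗[R] A) p (chiBC χ Kb) 1 =
        OortTate.eigenAug Kb (Kb ⊗[R] A) p (chiBC χ Kb) j :=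
      eigenAug_congr _ (Nat.mod_mod _ _).symm
    rw [hc, eigenAug_BC u hu χ hχ hp Kb hjlt, ← h1j] at hx
    exact hx
  have hxt : x ^ t ∈ spanBC Kb ((OortTate.eigenAug R A p χ 1) ^ t) :=
    spanBC_pow_le Kb _ t ht1 (Submodule.pow_mem_pow _ hx1 t)
  have hv2 : (1 : Kb) ⊗ₜ[R] v ∈ spanBC Kb ((OortTate.eigenAug R A p χ 1) ^ t) := by
    rw [hspan, Submodule.mem_span_singleton] at hv1
    obtain ⟨c, hc⟩ := hv1
    rw [← hc]
    exact Submodule.smul_mem _ _ hxt
  have hv3 := mem_sup_smul_top_of_one_tmul_mem q ((OortTate.eigenAug R A p χ 1) ^ t) v hv2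
  obtain ⟨n, hn, z, hz, rfl⟩ := Submodule.mem_sup.1 hv3
  refine Submodule.add_mem_sup hn ?_
  have hnM : n ∈ OortTate.eigenAug R A p χ t := eigenAug_one_pow_le χ t ht1 hn
  have hzM : z ∈ OortTate.eigenAug R A p χ t := by
    have := Submodule.sub_mem _ hv hnM
    rwa [add_sub_cancel_left] at this
  rw [hti] at hzM ⊢
  exact mem_smul_eigenAug u hu χ hχ hp hilt q hzM hz

include hu hχ hχp hp hrk in
/-- **the rank one theorem**, given that the group is killed by `p`. -/
theorem main_of_killed :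
    (∀ i : ℕ, Module.Finite R (OortTate.eigenAug R A p χ i) ∧
        Module.Projective R (OortTate.eigenAug R A p χ i) ∧
        ∀ q : PrimeSpectrum R, Module.rankAtStalk (↥(OortTate.eigenAug R A p χ i)) q = 1) ∧
      ∀ t : ℕ, 1 ≤ t → t ≤ p - 1 →
        (OortTate.eigenAug R A p χ 1) ^ t = OortTate.eigenAug R A p χ t := by
  have hpp : p.Prime := Fact.out
  have hpos : 0 < p - 1 := by have := hpp.one_lt; omega
  refine ⟨fun i => ?_, fun t ht1 htp => ?_⟩
  · have hilt : i % (p - 1) < p - 1 := Nat.mod_lt _ hpos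
    rw [eigenAug_congr χ (Nat.mod_mod i (p - 1)).symm]
    haveI := finite_eigenAug_lt u hu χ hχ hp hilt
    haveI := projective_eigenAug_lt u hu χ hχ hp hilt
    exact ⟨inferInstance, inferInstance,
      fun q => rankAtStalk_eigenAug_lt u hu χ hχ hχp hp hrk hilt q⟩
  · exact le_antisymm (eigenAug_one_pow_le χ t ht1)
      (eigenAug_le_pow u hu χ hχ hχp hp hrk ht1 htp)

include hu hχ hχp hrk in
/-- **the rank one theorem** (S18469). -/
theorem main :
    (∀ i : ℕ, Module.Finite R (OortTate.eigenAug R A p χ i) ∧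
        Module.Projective R (OortTate.eigenAug R A p χ i) ∧
        ∀ q : PrimeSpectrum R, Module.rankAtStalk (↥(OortTate.eigenAug R A p χ i)) q = 1) ∧
      ∀ t : ℕ, 1 ≤ t → t ≤ p - 1 →
        (OortTate.eigenAug R A p χ 1) ^ t = OortTate.eigenAug R A p χ t := by
  haveI : Coalgebra.IsCocomm R A := isCocomm_of_rank_prime R p Fact.out A hrk
  have hp : (WithConv.toConv (AlgHom.id R A)) ^ p = 1 := Groth.Agent.S15048.result R A p hrk
  exact main_of_killed u hu χ hχ hχp hp hrk

end Main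

end Groth.Agent.Lib.Helper7.OT
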