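import Groth.Agent.Lib.Helper7.OT8

/-!
# Oort–Tate 9 (helper7): rank one projective modules (local generators, faithfulness) and the
presentation of an algebra by the tensor algebra of a rank one submodule
-/

universe u v w

open TensorProduct

namespace Groth.Agent.Lib.Helper7.OT

section RankOne

variable {R : Type u} [CommRing R] (M : Type u) [AddCommGroup M] [Module R M]

/-- Nakayama at a prime (after helper25's `exists_notMem_smul_mem_span`). -/
theorem exists_notMem_smul_mem_span' [Module.Finite R M] (q : Ideal R) [q.IsPrime]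
    {ι : Type*} (v : ι → M)
    (hsp : Submodule.span q.ResidueField
      (Set.range fun i => (1 : q.ResidueField) ⊗ₜ[R] v i) = ⊤) :
    ∃ s : R, s ∉ q ∧ ∀ m : M, s • m ∈ Submodule.span R (Set.range v) := by
  set N := Submodule.span R (Set.range v) with hN
  have hsurj : Function.Surjective (N.mkQ.baseChange q.ResidueField) :=
    LinearMap.lTensor_surjective _ N.mkQ_surjective
  have hzero : ∀ x, N.mkQ.baseChange q.ResidueField x = 0 := by
    intro x
    have hx : x ∈ Submodule.span q.ResidueField
        (Set.range fun i => (1 : q.ResidueField) ⊗ₜ[R] v i) := hsp ▸ Submodule.mem_top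
    induction hx using Submodule.span_induction with
    | mem w hw =>
      obtain ⟨i, rfl⟩ := hw
      rw [LinearMap.baseChange_tmul]
      have : N.mkQ (v i) = 0 := by
        rw [Submodule.mkQ_apply, Submodule.Quotient.mk_eq_zero]
        exact Submodule.subset_span ⟨i, rfl⟩
      rw [this, TensorProduct.tmul_zero]
    | zero => exact map_zero _
    | add x y _ _ hx hy => rw [map_add, hx, hy, add_zero]
    | smul a x _ hx => rw [map_smul, hx, smul_zero]
  have hsub : Subsingleton (q.ResidueField ⊗[R] (M ⧸ N)) := by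
    refine ⟨fun a b => ?_⟩
    obtain ⟨a', rfl⟩ := hsurj a
    obtain ⟨b', rfl⟩ := hsurj b
    rw [hzero, hzero]
  have hns : (⟨q, inferInstance⟩ : PrimeSpectrum R) ∉ Module.support R (M ⧸ N) := by
    rw [Module.mem_support_iff_nontrivial_residueField_tensorProduct]
    exact not_nontrivial_iff_subsingleton.mpr hsub
  rw [Module.mem_support_iff_of_finite] at hns
  obtain ⟨s, hs, hsq⟩ := SetLike.not_le_iff_exists.mp hns
  refine ⟨s, hsq, fun m => ?_⟩
  have h1 := Module.mem_annihilator.mp hs (N.mkQ m)
  rw [← map_smul, Submodule.mkQ_apply, Submodule.Quotient.mk_eq_zero] at h1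
  exact h1

variable [Module.Finite R M] [Module.Projective R M]

/-- a rank one projective module is locally generated by one element. -/
lemma exists_local_generator (q : Ideal R) [hq : q.IsPrime]
    (hrk : Module.rankAtStalk M ⟨q, hq⟩ = 1) :
    ∃ x : M, ∃ s : R, s ∉ q ∧ ∀ m : M, ∃ c : R, s • m = c • x := by
  set K := q.ResidueField
  have hfr : Module.finrank K (K ⊗[R] M) = 1 := by
    rw [← hrk]
    exact (Module.rankAtStalk_eq (M := M) ⟨q, hq⟩).symm
  have hex : ∃ x : M, (1 : K) ⊗ₜ[R] x ≠ 0 := by
    by_contra hcon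
    push Not at hcon
    have hz : ∀ z : K ⊗[R] M, z = 0 := by
      intro z
      induction z using TensorProduct.induction_on with
      | zero => rfl
      | tmul k m =>
        have : k ⊗ₜ[R] m = k • ((1 : K) ⊗ₜ[R] m) := by
          rw [TensorProduct.smul_tmul', smul_eq_mul, mul_one]
        rw [this, hcon, smul_zero]
      | add x y hx hy => rw [hx, hy, add_zero]
    haveI : Subsingleton (K ⊗[R] M) := ⟨fun a b => by rw [hz a, hz b]⟩
    have := Module.finrank_zero_of_subsingleton (R := K) (M := K ⊗[R] M)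
    omega
  obtain ⟨x, hx⟩ := hex
  have hsp : Submodule.span K {(1 : K) ⊗ₜ[R] x} = ⊤ :=
    (finrank_eq_one_iff_of_nonzero _ hx).1 hfr
  obtain ⟨s, hsq, hs⟩ := exists_notMem_smul_mem_span' M q (fun _ : Unit => x)
    (by rw [Set.range_const]; exact hsp)
  refine ⟨x, s, hsq, fun m => ?_⟩
  have := hs m
  rw [Set.range_const, Submodule.mem_span_singleton] at this
  obtain ⟨c, hc⟩ := this
  exact ⟨c, hc.symm⟩

/-- a projective module of rank one everywhere is faithful. -/
lemma eq_zero_of_forall_smul_eq_zero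
    (hrk : ∀ q : PrimeSpectrum R, Module.rankAtStalk M q = 1) (d : R)
    (hd : ∀ m : M, d • m = 0) : d = 0 := by
  apply eq_zero_of_localization
  intro J hJ
  haveI := hJ.isPrime
  haveI : Module.Free (Localization.AtPrime J) (LocalizedModule J.primeCompl M) :=
    Module.free_of_flat_of_isLocalRing
  have hfr : Module.finrank (Localization.AtPrime J) (LocalizedModule J.primeCompl M) = 1 :=
    hrk ⟨J, hJ.isPrime⟩
  let b := Module.finBasisOfFinrankEq (Localization.AtPrime J)
    (LocalizedModule J.primeCompl M) hfr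
  have h0 : ∀ z : LocalizedModule J.primeCompl M,
      (algebraMap R (Localization.AtPrime J) d) • z = 0 := by
    intro z
    induction z using LocalizedModule.induction_on with
    | h m s => rw [algebraMap_smul, LocalizedModule.smul'_mk, hd, LocalizedModule.zero_mk]
  have h1 : b.repr ((algebraMap R (Localization.AtPrime J) d) • b 0) 0 = 0 := by
    rw [h0]; simp
  rwa [map_smul, Module.Basis.repr_self, Finsupp.smul_apply, Finsupp.single_eq_same, smul_eq_mul,
    mul_one] at h1

end RankOne

section Pres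

variable {R : Type u} [CommRing R] {A : Type u} [CommRing A] [Algebra R A] (M : Submodule R A)

/-- products of generators of the tensor algebra. -/
noncomputable def iprod (l : List M) : TensorAlgebra R M := (l.map (TensorAlgebra.ι R)).prod

lemma iprod_nil : iprod M [] = 1 := rfl

lemma iprod_cons (x : M) (l : List M) : iprod M (x :: l) = TensorAlgebra.ι R x * iprod M l := by
  rw [iprod, List.map_cons, List.prod_cons]
  rfl

lemma iprod_append (l1 l2 : List M) : iprod M (l1 ++ l2) = iprod M l1 * iprod M l2 := by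
  rw [iprod, List.map_append, List.prod_append]
  rfl

lemma iprod_singleton (x : M) : iprod M [x] = TensorAlgebra.ι R x := by
  rw [iprod_cons, iprod_nil, mul_one]

lemma iprod_ofFn {n : ℕ} (f : Fin n → M) :
    iprod M (List.ofFn f) = (List.ofFn fun i => TensorAlgebra.ι R (f i)).prod := by
  rw [iprod, List.map_ofFn]
  rfl

lemma span_iprod : Submodule.span R (Set.range (iprod M)) = ⊤ := by
  rw [eq_top_iff]
  rintro a -
  induction a using TensorAlgebra.induction with
  | algebraMap r =>
    rw [Algebra.algebraMap_eq_smul_one]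
    exact Submodule.smul_mem _ _ (Submodule.subset_span ⟨[], rfl⟩)
  | ι x => exact Submodule.subset_span ⟨[x], iprod_singleton M x⟩
  | mul a b ha hb =>
    have h := Submodule.mul_mem_mul ha hb
    rw [Submodule.span_mul_span] at h
    refine Submodule.span_mono ?_ h
    rintro _ ⟨_, ⟨l1, rfl⟩, _, ⟨l2, rfl⟩, rfl⟩
    exact ⟨l1 ++ l2, iprod_append M l1 l2⟩
  | add a b ha hb => exact Submodule.add_mem _ ha hb

/-- the low degree part of the tensor algebra. -/
noncomputable def low (p : ℕ) : Submodule R (TensorAlgebra R M) :=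
  Submodule.span R (iprod M '' {l | l.length < p})

/-- the relation set. -/
def relSet (p : ℕ) : Set (TensorAlgebra R M) :=
  {x | ∃ (f : Fin p → M) (g : M), (g : A) = ∏ i, (f i : A) ∧
    x = (List.ofFn fun i => TensorAlgebra.ι R (f i)).prod - TensorAlgebra.ι R g}

lemma exists_ofFn_eq {α : Type*} {p : ℕ} (l : List α) (hl : l.length = p) :
    ∃ f : Fin p → α, List.ofFn f = l := by
  subst hl
  exact ⟨l.get, List.ofFn_get l⟩

variable {M} in
lemma iprod_mem_sup {p : ℕ} (hp2 : 2 ≤ p) (hMp : ∀ f : Fin p → M, ∏ i, (f i : A) ∈ M)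
    (l : List M) :
    iprod M l ∈ low M p ⊔ (Ideal.span (relSet M p)).restrictScalars R := by
  induction' hn : l.length using Nat.strong_induction_on with n ih generalizing l
  by_cases hlt : l.length < p
  · exact Submodule.mem_sup_left (Submodule.subset_span ⟨l, hlt, rfl⟩)
  · push Not at hlt
    set l1 := l.take (l.length - p) with hl1
    set l2 := l.drop (l.length - p) with hl2
    have hl : l = l1 ++ l2 := (List.take_append_drop _ _).symm
    have hlen2 : l2.length = p := by
      rw [hl2, List.length_drop]; omega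
    have hlen1 : l1.length = l.length - p := by
      rw [hl1, List.length_take]; omega
    obtain ⟨f, hf⟩ := exists_ofFn_eq l2 hlen2
    set g : M := ⟨∏ i, (f i : A), hMp f⟩ with hg
    have hx : (List.ofFn fun i => TensorAlgebra.ι R (f i)).prod - TensorAlgebra.ι R g ∈
        Ideal.span (relSet M p) := Ideal.subset_span ⟨f, g, rfl, rfl⟩
    have hsplit : iprod M l = iprod M l1 *
        ((List.ofFn fun i => TensorAlgebra.ι R (f i)).prod - TensorAlgebra.ι R g) +
        iprod M (l1 ++ [g]) := by
      rw [iprod_append, iprod_singleton, mul_sub, sub_add_cancel, ← iprod_ofFn, hf,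
        ← iprod_append, ← hl]
    rw [hsplit]
    refine Submodule.add_mem _ (Submodule.mem_sup_right ?_) ?_
    · exact Ideal.mul_mem_left _ _ hx
    · apply ih (l1 ++ [g]).length _ _ rfl
      rw [List.length_append, hlen1, List.length_singleton, ← hn]
      omega

variable {M} in
lemma mem_low_sup {p : ℕ} (hp2 : 2 ≤ p) (hMp : ∀ f : Fin p → M, ∏ i, (f i : A) ∈ M)
    (y : TensorAlgebra R M) :
    y ∈ low M p ⊔ (Ideal.span (relSet M p)).restrictScalars R := by
  have hy : y ∈ Submodule.span R (Set.range (iprod M)) := by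
    rw [span_iprod]; trivial
  refine Submodule.span_le.2 ?_ hy
  rintro _ ⟨l, rfl⟩
  exact iprod_mem_sup hp2 hMp l

lemma lift_iprod (l : List M) :
    TensorAlgebra.lift R M.subtype (iprod M l) = (l.map fun x : M => (x : A)).prod := by
  induction l with
  | nil => rw [iprod_nil, map_one, List.map_nil, List.prod_nil]
  | cons x l ih =>
    rw [iprod_cons, map_mul, ih, TensorAlgebra.lift_ι_apply, List.map_cons, List.prod_cons]
    rfl

variable {M} in
/-- with a local generator, products of generators become powers. -/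
lemma smul_iprod (x : M) (s : R) (hs : ∀ m : M, ∃ c : R, s • m = c • x) (l : List M) :
    ∃ c : R, s ^ l.length • iprod M l = c • (TensorAlgebra.ι R x) ^ l.length := by
  induction l with
  | nil => exact ⟨1, by rw [List.length_nil, pow_zero, pow_zero, iprod_nil]⟩
  | cons m l ih =>
    obtain ⟨c', hc'⟩ := ih
    obtain ⟨c, hc⟩ := hs m
    refine ⟨c * c', ?_⟩
    rw [List.length_cons, iprod_cons, pow_succ', ← smul_mul_smul_comm, hc',
      ← (TensorAlgebra.ι R).map_smul s m, hc, (TensorAlgebra.ι R).map_smul, smul_mul_smul_comm,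
      ← pow_succ']

variable {M} in
lemma smul_low (x : M) (s : R) (hs : ∀ m : M, ∃ c : R, s • m = c • x) {p : ℕ}
    {y : TensorAlgebra R M} (hy : y ∈ low M p) :
    ∃ d : ℕ → R, s ^ (p - 1) • y = ∑ n ∈ Finset.range p, d n • (TensorAlgebra.ι R x) ^ n := by
  classical
  induction hy using Submodule.span_induction with
  | mem y hy =>
    obtain ⟨l, hl, rfl⟩ := hy
    obtain ⟨c, hc⟩ := smul_iprod x s hs l
    have hl' : l.length < p := hl
    refine ⟨fun k => if k = l.length then s ^ (p - 1 - l.length) * c else 0, ?_⟩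
    rw [Finset.sum_eq_single l.length]
    · dsimp only
      rw [if_pos rfl, mul_smul, ← hc, ← mul_smul, ← pow_add]
      congr 2
      omega
    · intro b _ hb
      dsimp only
      rw [if_neg hb, zero_smul]
    · intro hn
      exact absurd (Finset.mem_range.2 hl') hn
  | zero => exact ⟨fun _ => 0, by simp⟩
  | add y z _ _ hy hz =>
    obtain ⟨d1, h1⟩ := hy
    obtain ⟨d2, h2⟩ := hz
    refine ⟨fun k => d1 k + d2 k, ?_⟩
    rw [smul_add, h1, h2, ← Finset.sum_add_distrib]
    exact Finset.sum_congr rfl fun k _ => (add_smul _ _ _).symm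
  | smul r y _ hy =>
    obtain ⟨d1, h1⟩ := hy
    refine ⟨fun k => r * d1 k, ?_⟩
    rw [smul_comm, h1, Finset.smul_sum]
    exact Finset.sum_congr rfl fun k _ => (mul_smul _ _ _).symm

variable {M} in
lemma smul_pow_mem (x : M) (s : R) (hs : ∀ m : M, ∃ c : R, s • m = c • x) (n : ℕ) :
    ∀ m ∈ M ^ n, ∃ c : R, s ^ n • m = c • (x : A) ^ n := by
  induction n with
  | zero =>
    intro m hm
    rw [pow_zero, Submodule.mem_one] at hm
    obtain ⟨r, rfl⟩ := hm
    exact ⟨r, by rw [pow_zero, one_smul, pow_zero, Algebra.algebraMap_eq_smul_one]⟩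
  | succ n ih =>
    intro m hm
    rw [pow_succ] at hm
    refine Submodule.mul_induction_on hm ?_ ?_
    · intro a ha b hb
      obtain ⟨c1, h1⟩ := ih a ha
      obtain ⟨c2, h2⟩ := hs ⟨b, hb⟩
      have h2' : s • b = c2 • (x : A) := congrArg Subtype.val h2
      refine ⟨c1 * c2, ?_⟩
      rw [pow_succ, ← smul_mul_smul_comm, h1, h2', smul_mul_smul_comm, pow_succ]
    · intro a b ha hb
      obtain ⟨c1, h1⟩ := ha
      obtain ⟨c2, h2⟩ := hb
      exact ⟨c1 + c2, by rw [smul_add, h1, h2, add_smul]⟩

variable {M} in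
/-- the map to `A` is injective on the low degree part. -/
theorem low_injective {p : ℕ} (hp2 : 2 ≤ p)
    (hloc : ∀ q : Ideal R, q.IsMaximal →
      ∃ x : M, ∃ s : R, s ∉ q ∧ ∀ m : M, ∃ c : R, s • m = c • x)
    (hind : ∀ (x : M) (d : ℕ → R), ∑ n ∈ Finset.range p, d n • (x : A) ^ n = 0 →
      d 0 = 0 ∧ ∀ n, 1 ≤ n → n < p → d n • (x : A) ^ n = 0)
    (hfaith : ∀ n, 1 ≤ n → n < p → ∀ d : R, (∀ m ∈ M ^ n, d • m = 0) → d = 0)
    {y : TensorAlgebra R M} (hy : y ∈ low M p)
    (hy0 : TensorAlgebra.lift R M.subtype y = 0) : y = 0 := by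
  classical
  set I : Ideal R := LinearMap.ker (LinearMap.toSpanSingleton R (TensorAlgebra R M) y) with hI
  have hmemI : ∀ r : R, r ∈ I ↔ r • y = 0 := by
    intro r
    rw [hI, LinearMap.mem_ker, LinearMap.toSpanSingleton_apply]
  by_contra hne
  have hItop : I ≠ ⊤ := by
    intro htop
    apply hne
    have : (1 : R) ∈ I := by rw [htop]; trivial
    rw [hmemI, one_smul] at this
    exact this
  obtain ⟨q, hq, hIq⟩ := Ideal.exists_le_maximal I hItop
  obtain ⟨x, s, hsq, hs⟩ := hloc q hq
  obtain ⟨d, hd⟩ := smul_low x s hs hy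
  have hφ : ∑ n ∈ Finset.range p, d n • (x : A) ^ n = 0 := by
    have := congrArg (TensorAlgebra.lift R M.subtype) hd
    rw [map_smul, hy0, smul_zero, map_sum] at this
    rw [this]
    refine Finset.sum_congr rfl fun n _ => ?_
    rw [map_smul, map_pow, TensorAlgebra.lift_ι_apply]
    rfl
  obtain ⟨hd0, hdn⟩ := hind x d hφ
  have hkill : ∀ n, n < p → (s ^ (p - 1) * d n) = 0 ∨ n = 0 := by
    intro n hn
    rcases Nat.eq_zero_or_pos n with h0 | h0
    · exact Or.inr h0
    · left
      have h1 : d n * s ^ n = 0 := by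
        apply hfaith n h0 hn
        intro m hm
        obtain ⟨c, hc⟩ := smul_pow_mem x s hs n m hm
        rw [mul_smul, hc, smul_comm, hdn n h0 hn, smul_zero]
      have : s ^ (p - 1) = s ^ (p - 1 - n) * s ^ n := by
        rw [← pow_add]; congr 1; omega
      rw [this, mul_assoc, mul_comm (s ^ n), h1, mul_zero]
  have hzero : (s ^ (p - 1) * s ^ (p - 1)) • y = 0 := by
    rw [mul_smul, hd, Finset.smul_sum]
    apply Finset.sum_eq_zero
    intro n hn
    rw [← mul_smul]
    rcases hkill n (Finset.mem_range.1 hn) with h | h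
    · rw [h, zero_smul]
    · subst h
      rw [hd0, mul_zero, zero_smul]
  have hmem : s ^ (p - 1) * s ^ (p - 1) ∈ q := hIq ((hmemI _).2 hzero)
  have hprime := hq.isPrime
  rcases hprime.mem_or_mem hmem with h | h <;> exact hsq (hprime.mem_of_pow_mem _ h)

variable {M} in
/-- the presentation of `A` by the tensor algebra of `M`. -/
theorem ker_lift_eq_span {p : ℕ} (hp2 : 2 ≤ p)
    (hMp : ∀ f : Fin p → M, ∏ i, (f i : A) ∈ M)
    (hloc : ∀ q : Ideal R, q.IsMaximal →
      ∃ x : M, ∃ s : R, s ∉ q ∧ ∀ m : M, ∃ c : R, s • m = c • x)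
    (hind : ∀ (x : M) (d : ℕ → R), ∑ n ∈ Finset.range p, d n • (x : A) ^ n = 0 →
      d 0 = 0 ∧ ∀ n, 1 ≤ n → n < p → d n • (x : A) ^ n = 0)
    (hfaith : ∀ n, 1 ≤ n → n < p → ∀ d : R, (∀ m ∈ M ^ n, d • m = 0) → d = 0) :
    RingHom.ker (TensorAlgebra.lift R M.subtype) = Ideal.span (relSet M p) := by
  have hle : Ideal.span (relSet M p) ≤ RingHom.ker (TensorAlgebra.lift R M.subtype) := by
    rw [Ideal.span_le]
    rintro _ ⟨f, g, hg, rfl⟩
    rw [SetLike.mem_coe, RingHom.mem_ker, map_sub, ← iprod_ofFn, lift_iprod,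
      TensorAlgebra.lift_ι_apply, List.map_ofFn, List.prod_ofFn]
    change ∏ i, (f i : A) - (g : A) = 0
    rw [hg, sub_self]
  apply le_antisymm _ hle
  intro y hy
  rw [RingHom.mem_ker] at hy
  obtain ⟨y', hy', ℓ, hℓ, rfl⟩ := Submodule.mem_sup.1 (mem_low_sup hp2 hMp y)
  have hℓ' : ℓ ∈ Ideal.span (relSet M p) := hℓ
  have hℓ0 : TensorAlgebra.lift R M.subtype ℓ = 0 := (RingHom.mem_ker).1 (hle hℓ')
  have hy'0 : TensorAlgebra.lift R M.subtype y' = 0 := by
    rw [map_add, hℓ0, add_zero] at hy
    exact hy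
  rw [low_injective hp2 hloc hind hfaith hy' hy'0, zero_add]
  exact hℓ'

/-- powers of a submodule contained in a subalgebra stay inside. -/
lemma pow_le_toSubmodule (S : Subalgebra R A) (h : M ≤ Subalgebra.toSubmodule S) (t : ℕ) :
    M ^ t ≤ Subalgebra.toSubmodule S := by
  induction t with
  | zero =>
    rw [pow_zero, Submodule.one_le]
    exact S.one_mem
  | succ t ih =>
    rw [pow_succ, Submodule.mul_le]
    intro a ha b hb
    exact S.mul_mem (ih ha) (h hb)

end Pres

end Groth.Agent.Lib.Helper7.OT
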