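import Mathlib.Algebra.Lie.UniversalEnveloping
import Mathlib.Algebra.MvPolynomial.Degrees
import Mathlib.Algebra.MvPolynomial.CommRing
import Mathlib.RingTheory.MvPolynomial.Basic
import Mathlib.LinearAlgebra.Basis.Defs

/-!
# PBW: the representation of a Lie algebra with an ordered basis on the polynomial ring
-/

universe u v w

namespace Groth.Agent.Lib.Helper7.PBWR

open MvPolynomial

section comb

variable {ι : Type w} [LinearOrder ι]

/-- `i` is at most every variable occurring in the monomial `s`. -/
def Le (i : ι) (s : ι →₀ ℕ) : Prop := ∀ l ∈ s.support, i ≤ l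

instance (i : ι) (s : ι →₀ ℕ) : Decidable (Le i s) := Finset.decidableDforallFinset

/-- the total degree of a monomial -/
def deg (s : ι →₀ ℕ) : ℕ := s.sum fun _ e => e

lemma deg_add (s t : ι →₀ ℕ) : deg (s + t) = deg s + deg t :=
  Finsupp.sum_add_index' (fun _ => rfl) (fun _ _ _ => rfl)

lemma deg_single (i : ι) (n : ℕ) : deg (Finsupp.single i n) = n :=
  Finsupp.sum_single_index rfl

/-- the smallest variable of `s` (or `i` if there is none) -/
noncomputable def mn (i : ι) (s : ι →₀ ℕ) : ι :=
  if hs : s.support.Nonempty then s.support.min' hs else i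

/-- the monomial `s` divided by its smallest variable -/
noncomputable def tl (i : ι) (s : ι →₀ ℕ) : ι →₀ ℕ := s - Finsupp.single (mn i s) 1

variable {i : ι} {s : ι →₀ ℕ}

lemma nonempty_of_not_le (h : ¬ Le i s) : s.support.Nonempty := by
  by_contra hs
  rw [Finset.not_nonempty_iff_eq_empty] at hs
  exact h (fun l hl => by rw [hs] at hl; simp at hl)

lemma mn_eq (h : ¬ Le i s) : mn i s = s.support.min' (nonempty_of_not_le h) := by
  rw [mn, dif_pos (nonempty_of_not_le h)]

lemma mn_mem (h : ¬ Le i s) : mn i s ∈ s.support := by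
  rw [mn_eq h]
  exact Finset.min'_mem _ _

lemma mn_le (h : ¬ Le i s) : Le (mn i s) s := by
  intro l hl
  rw [mn_eq h]
  exact Finset.min'_le _ _ hl

lemma mn_lt (h : ¬ Le i s) : mn i s < i := by
  unfold Le at h
  push_neg at h
  obtain ⟨l, hl, hli⟩ := h
  exact lt_of_le_of_lt (mn_le (i := i) (by unfold Le; push_neg; exact ⟨l, hl, hli⟩) l hl) hli

lemma tl_add (h : ¬ Le i s) : tl i s + Finsupp.single (mn i s) 1 = s := by
  have hm := mn_mem h
  rw [Finsupp.mem_support_iff] at hm
  ext a
  simp only [tl, Finsupp.coe_add, Finsupp.coe_tsub, Pi.add_apply, Pi.sub_apply]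
  by_cases ha : a = mn i s
  · subst ha
    rw [Finsupp.single_eq_same]
    omega
  · rw [Finsupp.single_eq_of_ne (by exact ha)]
    omega

lemma deg_tl (h : ¬ Le i s) : deg (tl i s) + 1 = deg s := by
  conv_rhs => rw [← tl_add h, deg_add, deg_single]

lemma deg_tl_lt (h : ¬ Le i s) : deg (tl i s) < deg s := by
  have := deg_tl h
  omega

lemma le_tl (h : ¬ Le i s) : Le (mn i s) (tl i s) := by
  intro l hl
  apply mn_le h l
  rw [Finsupp.mem_support_iff] at hl ⊢
  intro h0
  apply hl
  simp [tl, h0]

lemma le_add_single {j l : ι} {t : ι →₀ ℕ} (h : Le l t) (hlj : l ≤ j) :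
    Le l (t + Finsupp.single j 1) := by
  intro a ha
  rw [Finsupp.mem_support_iff, Finsupp.add_apply] at ha
  by_cases haj : a = j
  · subst haj; exact hlj
  · rw [Finsupp.single_eq_of_ne (by exact haj), add_zero] at ha
    exact h a (Finsupp.mem_support_iff.2 ha)

lemma not_le_add_single {j : ι} {t : ι →₀ ℕ} (hji : j < i) : ¬ Le i (t + Finsupp.single j 1) := by
  intro h
  have := h j (by simp)
  exact absurd hji (not_lt.2 this)

lemma mn_add_single {j : ι} {t : ι →₀ ℕ} (h : Le j t) (hji : j < i) :
    mn i (t + Finsupp.single j 1) = j := by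
  have hn : ¬ Le i (t + Finsupp.single j 1) := not_le_add_single hji
  apply le_antisymm
  · exact mn_le hn j (by simp)
  · exact le_add_single h le_rfl _ (mn_mem hn)

lemma tl_add_single {j : ι} {t : ι →₀ ℕ} (h : Le j t) (hji : j < i) :
    tl i (t + Finsupp.single j 1) = t := by
  rw [tl, mn_add_single h hji, add_tsub_cancel_right]

end comb

section filtration

variable {ι : Type w} (k : Type u) [CommRing k]

/-- the filtration of the polynomial ring by total degree -/
noncomputable abbrev Rn (n : ℕ) : Submodule k (MvPolynomial ι k) := restrictTotalDegree ι k n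

variable {k}

lemma monomial_mem_Rn {s : ι →₀ ℕ} {n : ℕ} (h : deg s ≤ n) (c : k) :
    monomial s c ∈ Rn (ι := ι) k n := by
  rw [mem_restrictTotalDegree]
  exact (totalDegree_monomial_le s c).trans h

lemma Rn_mono {n m : ℕ} (h : n ≤ m) : Rn (ι := ι) k n ≤ Rn k m := by
  intro p hp
  rw [mem_restrictTotalDegree] at hp ⊢
  exact hp.trans h

lemma X_mul_mem_Rn {p : MvPolynomial ι k} {n : ℕ} (hp : p ∈ Rn k n) (i : ι) :
    X i * p ∈ Rn k (n + 1) := by
  rw [mem_restrictTotalDegree] at hp ⊢
  refine (totalDegree_mul _ _).trans ?_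
  have hX : (X i : MvPolynomial ι k).totalDegree ≤ 1 := by
    refine (totalDegree_monomial_le (Finsupp.single i 1) (1 : k)).trans ?_
    rw [Finsupp.sum_single_index] <;> rfl
  omega

lemma deg_le_of_mem_support {p : MvPolynomial ι k} {n : ℕ} (hp : p ∈ Rn k n) {t : ι →₀ ℕ}
    (ht : t ∈ p.support) : deg t ≤ n := by
  rw [mem_restrictTotalDegree] at hp
  exact (le_totalDegree ht).trans hp

lemma Rn_le_of_monomials (N : Submodule k (MvPolynomial ι k)) (n : ℕ)
    (h : ∀ s : ι →₀ ℕ, deg s ≤ n → monomial s (1 : k) ∈ N) : Rn k n ≤ N := by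
  intro p hp
  rw [← support_sum_monomial_coeff p]
  refine Submodule.sum_mem _ (fun t ht => ?_)
  have : monomial t (coeff t p) = coeff t p • monomial t (1 : k) := by
    rw [smul_monomial, smul_eq_mul, mul_one]
  rw [this]
  exact N.smul_mem _ (h t (deg_le_of_mem_support hp ht))

lemma mem_Rn_self (p : MvPolynomial ι k) : p ∈ Rn k p.totalDegree := by
  rw [mem_restrictTotalDegree]

end filtration

section action

variable {k : Type u} [CommRing k] {L : Type v} [LieRing L] [LieAlgebra k L]
  {ι : Type w} [LinearOrder ι] (b : Module.Basis ι k L)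

/-- the action of the basis vector `b i` on the monomial `s` -/
noncomputable def act (i : ι) (s : ι →₀ ℕ) : MvPolynomial ι k :=
  if h : Le i s then X i * monomial s 1
  else
    X (mn i s) * (X i * monomial (tl i s) 1)
      + ∑ t ∈ (act i (tl i s) - X i * monomial (tl i s) 1).support,
          (if ht : deg t < deg s then
            coeff t (act i (tl i s) - X i * monomial (tl i s) 1) • act (mn i s) t else 0)
      + (b.repr ⁅b i, b (mn i s)⁆).sum (fun l c => c • act l (tl i s))
termination_by deg s
decreasing_by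
  all_goals first
    | exact deg_tl_lt h
    | exact ht

lemma act_of_le {i : ι} {s : ι →₀ ℕ} (h : Le i s) : act b i s = X i * monomial s 1 := by
  rw [act, dif_pos h]

lemma act_of_not_le {i : ι} {s : ι →₀ ℕ} (h : ¬ Le i s) : act b i s =
    X (mn i s) * (X i * monomial (tl i s) 1)
      + ∑ t ∈ (act b i (tl i s) - X i * monomial (tl i s) 1).support,
          (if deg t < deg s then
            coeff t (act b i (tl i s) - X i * monomial (tl i s) 1) • act b (mn i s) t else 0)
      + (b.repr ⁅b i, b (mn i s)⁆).sum (fun l c => c • act b l (tl i s)) := by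
  rw [act, dif_neg h]
  simp only [dite_eq_ite]

/-- the operator of the basis vector `b i` -/
noncomputable def Xop (i : ι) : MvPolynomial ι k →ₗ[k] MvPolynomial ι k :=
  (basisMonomials ι k).constr k (act b i)

lemma Xop_monomial (i : ι) (s : ι →₀ ℕ) : Xop b i (monomial s 1) = act b i s := by
  have := (basisMonomials ι k).constr_basis k (act b i) s
  rwa [coe_basisMonomials] at this

lemma Xop_eq_sum (i : ι) (y : MvPolynomial ι k) :
    Xop b i y = ∑ t ∈ y.support, coeff t y • act b i t := by
  conv_lhs => rw [← support_sum_monomial_coeff y]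
  rw [map_sum]
  apply Finset.sum_congr rfl
  intro t _
  have : monomial t (coeff t y) = coeff t y • monomial t (1 : k) := by
    rw [smul_monomial, smul_eq_mul, mul_one]
  rw [this, map_smul, Xop_monomial]

/-- the operators of all elements of the Lie algebra -/
noncomputable def Xl : L →ₗ[k] Module.End k (MvPolynomial ι k) := b.constr k (Xop b)

lemma Xl_basis (i : ι) : Xl b (b i) = Xop b i := b.constr_basis k _ i

lemma Xl_apply (x : L) (v : MvPolynomial ι k) :
    Xl b x v = (b.repr x).sum (fun l c => c • Xop b l v) := by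
  rw [Xl, Module.Basis.constr_apply, Finsupp.sum, LinearMap.sum_apply, Finsupp.sum]
  rfl

lemma monomial_tl {i : ι} {s : ι →₀ ℕ} (h : ¬ Le i s) :
    (monomial s (1 : k)) = X (mn i s) * monomial (tl i s) 1 := by
  conv_lhs => rw [← tl_add h, monomial_add_single, pow_one, mul_comm]

theorem act_sub_mem : ∀ (n : ℕ) (s : ι →₀ ℕ), deg s = n → ∀ i : ι,
    act b i s - X i * monomial s 1 ∈ Rn k n := by
  intro n
  induction n using Nat.strong_induction_on with
  | _ n ih =>
    intro s hs i
    by_cases h : Le i s
    · rw [act_of_le b h, sub_self]; exact zero_mem _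
    · rw [act_of_not_le b h, monomial_tl h]
      have e : X (mn i s) * (X i * monomial (tl i s) 1) =
          X i * (X (mn i s) * monomial (tl i s) (1 : k)) := by ring
      rw [e, add_assoc, add_sub_cancel_left]
      have hd := deg_tl h
      have hact : ∀ (j : ι) (t : ι →₀ ℕ), deg t < n → act b j t ∈ Rn k n := by
        intro j t ht
        have h1 := ih (deg t) ht t rfl j
        have h2 : X j * monomial t (1 : k) ∈ Rn k (deg t + 1) :=
          X_mul_mem_Rn (monomial_mem_Rn le_rfl 1) j
        have : act b j t = (act b j t - X j * monomial t 1) + X j * monomial t 1 := by abel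
        rw [this]
        exact (Rn k n).add_mem (Rn_mono (by omega) h1) (Rn_mono (by omega) h2)
      refine (Rn k n).add_mem (Submodule.sum_mem _ fun t _ => ?_) ?_
      · split_ifs with ht
        · exact (Rn k n).smul_mem _ (hact _ t (by omega))
        · exact zero_mem _
      · rw [Finsupp.sum]
        exact Submodule.sum_mem _ fun l _ => (Rn k n).smul_mem _ (hact l _ (by omega))

lemma act_mem (i : ι) (s : ι →₀ ℕ) : act b i s ∈ Rn k (deg s + 1) := by
  have h1 := act_sub_mem b (deg s) s rfl i
  have h2 : X i * monomial s (1 : k) ∈ Rn k (deg s + 1) :=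
    X_mul_mem_Rn (monomial_mem_Rn le_rfl 1) i
  have : act b i s = (act b i s - X i * monomial s 1) + X i * monomial s 1 := by abel
  rw [this]
  exact (Rn k _).add_mem (Rn_mono (by omega) h1) h2

lemma Xop_sub_mem (i : ι) {n : ℕ} {v : MvPolynomial ι k} (hv : v ∈ Rn k n) :
    Xop b i v - X i * v ∈ Rn k n := by
  have key : Rn k n ≤ (Rn k n).comap (Xop b i - LinearMap.mulLeft k (X i)) := by
    apply Rn_le_of_monomials
    intro s hs
    rw [Submodule.mem_comap, LinearMap.sub_apply, Xop_monomial, LinearMap.mulLeft_apply]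
    exact Rn_mono hs (act_sub_mem b (deg s) s rfl i)
  have := key hv
  rwa [Submodule.mem_comap, LinearMap.sub_apply, LinearMap.mulLeft_apply] at this

lemma Xop_mem (i : ι) {n : ℕ} {v : MvPolynomial ι k} (hv : v ∈ Rn k n) :
    Xop b i v ∈ Rn k (n + 1) := by
  have : Xop b i v = (Xop b i v - X i * v) + X i * v := by abel
  rw [this]
  exact (Rn k _).add_mem (Rn_mono (by omega) (Xop_sub_mem b i hv)) (X_mul_mem_Rn hv i)

lemma Xl_mem (x : L) {n : ℕ} {v : MvPolynomial ι k} (hv : v ∈ Rn k n) :
    Xl b x v ∈ Rn k (n + 1) := by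
  rw [Xl_apply, Finsupp.sum]
  exact Submodule.sum_mem _ fun l _ => (Rn k _).smul_mem _ (Xop_mem b l hv)

lemma act_rec {i : ι} {s : ι →₀ ℕ} (h : ¬ Le i s) : act b i s =
    Xop b (mn i s) (act b i (tl i s)) + Xl b ⁅b i, b (mn i s)⁆ (monomial (tl i s) 1) := by
  rw [act_of_not_le b h]
  have hyR : act b i (tl i s) - X i * monomial (tl i s) 1 ∈ Rn k (deg (tl i s)) :=
    act_sub_mem b (deg (tl i s)) (tl i s) rfl i
  generalize hy : act b i (tl i s) - X i * monomial (tl i s) 1 = y at hyR ⊢
  have e1 : act b i (tl i s) = X i * monomial (tl i s) 1 + y := by rw [← hy]; abel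
  have e2 : X i * monomial (tl i s) (1 : k) = monomial (tl i s + Finsupp.single i 1) 1 := by
    rw [monomial_add_single, pow_one, mul_comm]
  have hle : Le (mn i s) (tl i s + Finsupp.single i 1) := le_add_single (le_tl h) (mn_lt h).le
  have e3 : Xop b (mn i s) (X i * monomial (tl i s) 1) = X (mn i s) * (X i * monomial (tl i s) 1) := by
    rw [e2, Xop_monomial, act_of_le b hle]
  have e4 : Xop b (mn i s) y =
      ∑ t ∈ y.support, (if deg t < deg s then coeff t y • act b (mn i s) t else 0) := by
    rw [Xop_eq_sum]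
    apply Finset.sum_congr rfl
    intro t ht
    rw [if_pos]
    have := deg_le_of_mem_support hyR ht
    have := deg_tl h
    omega
  have e5 : Xl b ⁅b i, b (mn i s)⁆ (monomial (tl i s) 1) =
      (b.repr ⁅b i, b (mn i s)⁆).sum (fun l c => c • act b l (tl i s)) := by
    rw [Xl_apply]
    simp only [Xop_monomial]
  rw [e5, ← e4, ← e3, ← map_add, ← e1]

lemma comm_of_le {i j : ι} {s : ι →₀ ℕ} (hj : Le j s) (hji : j < i) :
    Xop b i (Xop b j (monomial s 1)) =
      Xop b j (Xop b i (monomial s 1)) + Xl b ⁅b i, b j⁆ (monomial s 1) := by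
  have e1 : Xop b j (monomial s 1) = monomial (s + Finsupp.single j 1) 1 := by
    rw [Xop_monomial, act_of_le b hj, monomial_add_single, pow_one, mul_comm]
  rw [e1, Xop_monomial, act_rec b (not_le_add_single hji), mn_add_single hj hji,
    tl_add_single hj hji, Xop_monomial]

end action

end Groth.Agent.Lib.Helper7.PBWR
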