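import Groth.Agent.Lib.Helper7.PBWR1

/-!
# PBW: the operators define a representation
-/

universe u v w

namespace Groth.Agent.Lib.Helper7.PBWR

open MvPolynomial

variable {k : Type u} [CommRing k] {L : Type v} [LieRing L] [LieAlgebra k L]
  {ι : Type w} [LinearOrder ι] (b : Module.Basis ι k L)

/-- defect of the Lie module identity -/
noncomputable def Phi : L →ₗ[k] L →ₗ[k] Module.End k (MvPolynomial ι k) :=
  LinearMap.mk₂ k (fun x y => Xl b x * Xl b y - Xl b y * Xl b x - Xl b ⁅x, y⁆)
    (fun x x' y => by simp only [map_add, add_lie, add_mul, mul_add]; abel)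
    (fun c x y => by
      simp only [map_smul, smul_lie, smul_mul_assoc, mul_smul_comm, smul_sub])
    (fun x y y' => by simp only [map_add, lie_add, add_mul, mul_add]; abel)
    (fun c x y => by
      simp only [map_smul, lie_smul, smul_mul_assoc, mul_smul_comm, smul_sub])

lemma Phi_apply (x y : L) (v : MvPolynomial ι k) :
    Phi b x y v = Xl b x (Xl b y v) - Xl b y (Xl b x v) - Xl b ⁅x, y⁆ v := rfl

lemma Phi_eq_zero_of_basis (v : MvPolynomial ι k) (h : ∀ i j, Phi b (b i) (b j) v = 0) (x y : L) :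
    Phi b x y v = 0 := by
  have h0 : (Phi b).compr₂ (LinearMap.applyₗ v) = 0 :=
    b.ext fun i => b.ext fun j => by simpa using h i j
  have := LinearMap.congr_fun₂ h0 x y
  simpa using this

lemma Phi_skew (x y : L) (v : MvPolynomial ι k) : Phi b x y v = - Phi b y x v := by
  rw [Phi_apply, Phi_apply, ← lie_skew x y, map_neg, LinearMap.neg_apply]
  abel

lemma Phi_self (x : L) (v : MvPolynomial ι k) : Phi b x x v = 0 := by
  rw [Phi_apply, lie_self, map_zero]
  simp

/-- the Lie module identity holds in filtration degree `n` -/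
def P (n : ℕ) : Prop := ∀ (x y : L) (v : MvPolynomial ι k), v ∈ Rn k n → Phi b x y v = 0

variable {b} in
lemma comm_of_P {n : ℕ} (hP : P b n) (x y : L) {v : MvPolynomial ι k} (hv : v ∈ Rn k n) :
    Xl b x (Xl b y v) = Xl b y (Xl b x v) + Xl b ⁅x, y⁆ v := by
  have := hP x y v hv
  rw [Phi_apply, sub_sub, sub_eq_zero] at this
  exact this

lemma star {i j l : ι} {s' : ι →₀ ℕ} (hl : Le l s') (hlj : l ≤ j) (hli : l < i)
    (hP : P b (deg s')) :
    Xop b i (Xop b l (Xop b j (monomial s' 1))) =
      Xop b l (Xop b i (Xop b j (monomial s' 1))) + Xl b ⁅b i, b l⁆ (Xop b j (monomial s' 1)) := by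
  have hy : act b j s' - X j * monomial s' 1 ∈ Rn k (deg s') := act_sub_mem b _ s' rfl j
  generalize hyy : act b j s' - X j * monomial s' 1 = y at hy
  have e1 : Xop b j (monomial s' 1) = monomial (s' + Finsupp.single j 1) 1 + y := by
    rw [Xop_monomial, monomial_add_single, pow_one, ← hyy]
    ring
  have h1 := comm_of_le b (le_add_single hl hlj) hli
  have h2 := comm_of_P hP (b i) (b l) hy
  rw [Xl_basis, Xl_basis] at h2
  rw [e1, map_add, map_add, map_add, map_add, map_add, h1, h2]
  abel

lemma key {i j : ι} (s : ι →₀ ℕ) (ih : ∀ m < deg s, P b m) (hji : j < i) :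
    Phi b (b i) (b j) (monomial s 1) = 0 := by
  rw [Phi_apply, Xl_basis, Xl_basis]
  by_cases hj : Le j s
  · rw [comm_of_le b hj hji]
    abel
  · have hlj := mn_lt hj
    have hl := le_tl hj
    have hd := deg_tl hj
    have hP : P b (deg (tl j s)) := ih _ (by omega)
    have hw : monomial (tl j s) (1 : k) ∈ Rn k (deg (tl j s)) := monomial_mem_Rn le_rfl 1
    have ems : monomial s (1 : k) = Xop b (mn j s) (monomial (tl j s) 1) := by
      rw [Xop_monomial, act_of_le b hl, monomial_tl hj]
    have H1 := comm_of_P hP (b j) (b (mn j s)) hw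
    have H2 := comm_of_P hP (b i) (b (mn j s)) hw
    have H3 := comm_of_P hP (b i) (b j) hw
    have H4 := comm_of_P hP ⁅b i, b j⁆ (b (mn j s)) hw
    have H5 := comm_of_P hP (b i) ⁅b j, b (mn j s)⁆ hw
    have H6 := comm_of_P hP ⁅b i, b (mn j s)⁆ (b j) hw
    have S1 := star b (i := i) (j := j) hl hlj.le (hlj.trans hji) hP
    have S2 := star b (i := j) (j := i) hl (hlj.trans hji).le hlj hP
    simp only [Xl_basis] at H1 H2 H3 H4 H5 H6
    have e3 : Xop b (mn j s) (Xop b i (Xop b j (monomial (tl j s) 1))) =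
        Xop b (mn j s) (Xop b j (Xop b i (monomial (tl j s) 1))) +
          Xop b (mn j s) (Xl b ⁅b i, b j⁆ (monomial (tl j s) 1)) := by
      rw [← map_add, ← H3]
    have jac : Xl b ⁅⁅b i, b j⁆, b (mn j s)⁆ =
        Xl b ⁅⁅b i, b (mn j s)⁆, b j⁆ + Xl b ⁅b i, ⁅b j, b (mn j s)⁆⁆ := by
      rw [← map_add]
      congr 1
      rw [lie_lie, ← lie_skew ⁅b i, b (mn j s)⁆ (b j)]
      abel
    rw [ems, H1, H2, map_add, map_add, S1, S2, H5, H6, H4, e3, jac, LinearMap.add_apply]
    abel

theorem P_all : ∀ n, P b n := by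
  intro n
  induction n using Nat.strong_induction_on with
  | _ n ih =>
    intro x y v hv
    apply Phi_eq_zero_of_basis
    intro i j
    have key' : Rn k n ≤ LinearMap.ker (Phi b (b i) (b j)) := by
      apply Rn_le_of_monomials
      intro s hs
      rw [LinearMap.mem_ker]
      rcases lt_trichotomy j i with h | h | h
      · exact key b s (fun m hm => ih m (by omega)) h
      · rw [h]; exact Phi_self b _ _
      · rw [Phi_skew, key b s (fun m hm => ih m (by omega)) h, neg_zero]
    exact LinearMap.mem_ker.1 (key' hv)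

theorem Xl_lie (x y : L) (v : MvPolynomial ι k) :
    Xl b ⁅x, y⁆ v = Xl b x (Xl b y v) - Xl b y (Xl b x v) := by
  have := P_all b _ x y v (mem_Rn_self v)
  rw [Phi_apply, sub_eq_zero] at this
  exact this.symm

end Groth.Agent.Lib.Helper7.PBWR
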