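import Groth.Agent.Lib.Helper7.PBWR2
import Mathlib.Data.List.Sort
import Mathlib.LinearAlgebra.Basis.Basic

/-!
# PBW: ordered monomials form a basis of the universal enveloping algebra
-/

universe u v w

namespace Groth.Agent.Lib.Helper7.PBWR

open MvPolynomial

attribute [local instance] LieRing.ofAssociativeRing LieAlgebra.ofAssociativeAlgebra

variable {k : Type u} [CommRing k] {L : Type v} [LieRing L] [LieAlgebra k L]
  {ι : Type w} [LinearOrder ι] (b : Module.Basis ι k L)

/-- the representation on the polynomial ring -/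
noncomputable def rep : L →ₗ⁅k⁆ Module.End k (MvPolynomial ι k) :=
  { Xl b with
    map_lie' := by
      intro x y
      show Xl b ⁅x, y⁆ = ⁅Xl b x, Xl b y⁆
      refine LinearMap.ext fun v => ?_
      rw [LieRing.of_associative_ring_bracket]
      exact Xl_lie b x y v }

lemma rep_apply (x : L) : rep b x = Xl b x := rfl

/-- the induced representation of the enveloping algebra -/
noncomputable def rho : UniversalEnvelopingAlgebra k L →ₐ[k] Module.End k (MvPolynomial ι k) :=
  UniversalEnvelopingAlgebra.lift k (rep b)

lemma rho_ι (x : L) : rho b (UniversalEnvelopingAlgebra.ι k x) = Xl b x :=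
  UniversalEnvelopingAlgebra.lift_ι_apply k (rep b) x

/-- the monomial of a word -/
noncomputable def mon (w : List ι) : UniversalEnvelopingAlgebra k L :=
  (w.map fun i => UniversalEnvelopingAlgebra.ι k (b i)).prod

@[simp] lemma mon_nil : mon b [] = 1 := rfl

@[simp] lemma mon_cons (i : ι) (w : List ι) :
    mon b (i :: w) = UniversalEnvelopingAlgebra.ι k (b i) * mon b w := by
  simp [mon]

lemma mon_append (w w' : List ι) : mon b (w ++ w') = mon b w * mon b w' := by
  simp [mon]

/-- the exponent vector of a word -/
noncomputable def sw (w : List ι) : ι →₀ ℕ := (w.map fun i => Finsupp.single i 1).sum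

@[simp] lemma sw_nil : sw ([] : List ι) = 0 := rfl

@[simp] lemma sw_cons (i : ι) (w : List ι) : sw (i :: w) = Finsupp.single i 1 + sw w := by
  simp [sw]

lemma sw_apply (w : List ι) (a : ι) : sw w a = w.count a := by
  induction w with
  | nil => simp
  | cons j w ih =>
    rw [sw_cons, Finsupp.add_apply, ih, List.count_cons, Finsupp.single_apply]
    by_cases h : j = a
    · simp [h]; omega
    · simp [h]

lemma prod_X_eq (w : List ι) : (w.map (X : ι → MvPolynomial ι k)).prod = monomial (sw w) 1 := by
  induction w with
  | nil => simp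
  | cons j w ih =>
    rw [List.map_cons, List.prod_cons, ih, sw_cons, monomial_single_add, pow_one]

lemma le_sw {i : ι} {w : List ι} (h : ∀ a ∈ w, i ≤ a) : Le i (sw w) := by
  intro a ha
  rw [Finsupp.mem_support_iff, sw_apply] at ha
  exact h a (List.count_pos_iff.1 (Nat.pos_of_ne_zero ha))

lemma rho_mon_one : ∀ w : List ι, w.Pairwise (· ≤ ·) →
    rho b (mon b w) 1 = (w.map (X : ι → MvPolynomial ι k)).prod := by
  intro w
  induction w with
  | nil => intro _; simp
  | cons i w ih =>
    intro hw
    rw [List.pairwise_cons] at hw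
    rw [mon_cons, map_mul, Module.End.mul_apply, ih hw.2, rho_ι, Xl_basis, prod_X_eq,
      Xop_monomial, act_of_le b (le_sw hw.1), List.map_cons, List.prod_cons, prod_X_eq]

lemma sw_injOn {w₁ w₂ : List ι} (h₁ : w₁.SortedLE) (h₂ : w₂.SortedLE) (h : sw w₁ = sw w₂) :
    w₁ = w₂ := by
  apply List.Perm.eq_of_sortedLE h₁ h₂
  rw [List.perm_iff_count]
  intro a
  rw [← sw_apply, ← sw_apply, h]

theorem linearIndependent_mon :
    LinearIndependent k (fun l : {l : List ι // l.SortedLE} => mon b l.1) := by
  let ev : UniversalEnvelopingAlgebra k L →ₗ[k] MvPolynomial ι k :=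
    (LinearMap.applyₗ (1 : MvPolynomial ι k)).comp (rho b).toLinearMap
  apply LinearIndependent.of_comp ev
  have hinj : Function.Injective (fun l : {l : List ι // l.SortedLE} => sw l.1) :=
    fun l₁ l₂ h => Subtype.ext (sw_injOn l₁.2 l₂.2 h)
  have h1 : LinearIndependent k
      (fun l : {l : List ι // l.SortedLE} => (monomial (sw l.1) (1 : k) : MvPolynomial ι k)) :=
    (basisMonomials ι k).linearIndependent.comp _ hinj
  have e : (ev ∘ fun l : {l : List ι // l.SortedLE} => mon b l.1) =
      fun l : {l : List ι // l.SortedLE} => (monomial (sw l.1) (1 : k) : MvPolynomial ι k) := by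
    funext l
    show rho b (mon b l.1) 1 = _
    rw [rho_mon_one b l.1 l.2.pairwise, prod_X_eq]
  rw [e]
  exact h1

section span

/-- span of the monomials of words of length `< n` -/
noncomputable def Dn (n : ℕ) : Submodule k (UniversalEnvelopingAlgebra k L) :=
  Submodule.span k ((mon b) '' {w : List ι | w.length < n})

lemma mon_mem_Dn {w : List ι} {n : ℕ} (h : w.length < n) : mon b w ∈ Dn b n :=
  Submodule.subset_span ⟨w, h, rfl⟩

lemma ι_mul_mem (x : L) {n : ℕ} {u : UniversalEnvelopingAlgebra k L} (hu : u ∈ Dn b n) :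
    UniversalEnvelopingAlgebra.ι k x * u ∈ Dn b (n + 1) := by
  induction hu using Submodule.span_induction with
  | mem u hu =>
    obtain ⟨w, hw, rfl⟩ := hu
    have hx : x = ∑ i ∈ (b.repr x).support, (b.repr x) i • b i := by
      conv_lhs => rw [← b.linearCombination_repr x, Finsupp.linearCombination_apply, Finsupp.sum]
    rw [hx, map_sum, Finset.sum_mul]
    refine Submodule.sum_mem _ fun i _ => ?_
    rw [map_smul, smul_mul_assoc, ← mon_cons]
    exact Submodule.smul_mem _ _ (mon_mem_Dn b (by
      have : w.length < n := hw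
      simpa using this))
  | zero => simp
  | add u v _ _ hu hv => rw [mul_add]; exact add_mem hu hv
  | smul c u _ hu => rw [mul_smul_comm]; exact Submodule.smul_mem _ _ hu

lemma perm_sub_mem {l₁ l₂ : List ι} (h : l₁.Perm l₂) : mon b l₁ - mon b l₂ ∈ Dn b l₁.length := by
  induction h with
  | nil => simp
  | cons x h ih =>
    rw [mon_cons, mon_cons, ← mul_sub, List.length_cons]
    exact ι_mul_mem b (b x) ih
  | swap x y l =>
    have e : mon b (y :: x :: l) - mon b (x :: y :: l) =
        UniversalEnvelopingAlgebra.ι k ⁅b y, b x⁆ * mon b l := by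
      rw [mon_cons, mon_cons, mon_cons, mon_cons, LieHom.map_lie,
        LieRing.of_associative_ring_bracket, sub_mul, mul_assoc, mul_assoc]
    rw [e]
    have := ι_mul_mem b ⁅b y, b x⁆ (mon_mem_Dn b (w := l) (n := l.length + 1) (by omega))
    simpa using this
  | trans h₁ h₂ ih₁ ih₂ =>
    rename_i l₁ l₂ l₃
    have e : mon b l₁ - mon b l₃ = (mon b l₁ - mon b l₂) + (mon b l₂ - mon b l₃) := by abel
    rw [e]
    exact add_mem ih₁ (h₁.length_eq ▸ ih₂)

lemma mon_mem_span : ∀ (n : ℕ) (w : List ι), w.length = n → mon b w ∈
    Submodule.span k (Set.range fun l : {l : List ι // l.SortedLE} => mon b l.1) := by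
  intro n
  induction n using Nat.strong_induction_on with
  | _ n ih =>
    intro w hw
    have hperm : w.Perm (w.insertionSort (· ≤ ·)) := (List.perm_insertionSort _ w).symm
    have h1 := perm_sub_mem b hperm
    have h2 : Dn b w.length ≤
        Submodule.span k (Set.range fun l : {l : List ι // l.SortedLE} => mon b l.1) := by
      apply Submodule.span_le.2
      rintro _ ⟨w', hw', rfl⟩
      exact ih w'.length (by rw [← hw]; exact hw') w' rfl
    have h3 : mon b (w.insertionSort (· ≤ ·)) ∈
        Submodule.span k (Set.range fun l : {l : List ι // l.SortedLE} => mon b l.1) :=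
      Submodule.subset_span ⟨⟨_, List.sortedLE_insertionSort⟩, rfl⟩
    have e : mon b w = (mon b w - mon b (w.insertionSort (· ≤ ·))) +
        mon b (w.insertionSort (· ≤ ·)) := by abel
    rw [e]
    exact add_mem (h2 h1) h3

theorem span_mon_eq_top :
    Submodule.span k (Set.range fun l : {l : List ι // l.SortedLE} => mon b l.1) = ⊤ := by
  rw [eq_top_iff]
  have hW' : Submodule.span k (Set.range (mon b)) ≤
      Submodule.span k (Set.range fun l : {l : List ι // l.SortedLE} => mon b l.1) := by
    apply Submodule.span_le.2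
    rintro _ ⟨w, rfl⟩
    exact mon_mem_span b _ w rfl
  have hmul : ∀ u v : UniversalEnvelopingAlgebra k L, u ∈ Submodule.span k (Set.range (mon b)) →
      v ∈ Submodule.span k (Set.range (mon b)) → u * v ∈ Submodule.span k (Set.range (mon b)) := by
    intro u v hu hv
    have h := Submodule.mul_mem_mul hu hv
    rw [Submodule.span_mul_span] at h
    refine (Submodule.span_le.2 ?_) h
    rintro _ ⟨_, ⟨w, rfl⟩, _, ⟨w', rfl⟩, rfl⟩
    exact Submodule.subset_span ⟨w ++ w', mon_append b w w'⟩
  have hsurj : Function.Surjective (UniversalEnvelopingAlgebra.mkAlgHom k L) :=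
    RingCon.mkₐ_surjective _
  intro u hu
  clear hu
  obtain ⟨a, rfl⟩ := hsurj u
  apply hW'
  induction a using TensorAlgebra.induction with
  | algebraMap r =>
    rw [AlgHom.commutes, Algebra.algebraMap_eq_smul_one]
    exact Submodule.smul_mem _ _ (Submodule.subset_span ⟨[], rfl⟩)
  | ι x =>
    have hx : x = ∑ i ∈ (b.repr x).support, (b.repr x) i • b i := by
      conv_lhs => rw [← b.linearCombination_repr x, Finsupp.linearCombination_apply, Finsupp.sum]
    have e : UniversalEnvelopingAlgebra.mkAlgHom k L (TensorAlgebra.ι k x) =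
        UniversalEnvelopingAlgebra.ι k x := rfl
    rw [e, hx, map_sum]
    refine Submodule.sum_mem _ fun i _ => ?_
    rw [map_smul]
    exact Submodule.smul_mem _ _ (Submodule.subset_span ⟨[i], by simp [mon]⟩)
  | mul a a' ha ha' => rw [map_mul]; exact hmul _ _ ha ha'
  | add a a' ha ha' => rw [map_add]; exact add_mem ha ha'

end span

/-- **PBW**: the ordered monomials form a basis of the universal enveloping algebra. -/
theorem exists_basis : ∃ B : Module.Basis {l : List ι // l.SortedLE} k (UniversalEnvelopingAlgebra k L),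
    ∀ l, B l = (l.1.map fun i => UniversalEnvelopingAlgebra.ι k (b i)).prod :=
  ⟨Module.Basis.mk (linearIndependent_mon b) (span_mon_eq_top b).ge, fun l => by
    rw [Module.Basis.mk_apply]
    rfl⟩

end Groth.Agent.Lib.Helper7.PBWR
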