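import Groth.Agent.Lib.Helper7.Comod
import Groth.Agent.Lib.Helper7.HopfSub

/-!
# Pro-unipotent closed orbits, I: linear algebra and coideal subalgebras (helper7)
-/

set_option autoImplicit false

universe u v

open TensorProduct

namespace Groth.Agent.Lib.Helper7.PU

open HopfRep Groth.Agent.Lib.Helper7.Comod

section Lin

variable {k : Type u} [Field k] {B H : Type v} [AddCommGroup B] [Module k B] [AddCommGroup H]
  [Module k H]

/-- corestriction of membership in `W ⊗ H` along an injection. -/
theorem mem_range_rTensor_of_map (ι : B →ₗ[k] H) (hι : Function.Injective ι) (W : Submodule k H)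
    (z : B ⊗[k] B)
    (hz : TensorProduct.map ι ι z ∈ LinearMap.range (W.subtype.rTensor H)) :
    z ∈ LinearMap.range ((W.comap ι).subtype.rTensor B) := by
  set W' := W.comap ι with hW'
  let ιq : (B ⧸ W') →ₗ[k] (H ⧸ W) := Submodule.mapQ W' W ι le_rfl
  have hιq : Function.Injective ιq := by
    rw [← LinearMap.ker_eq_bot, eq_bot_iff]
    intro y hy
    obtain ⟨b, rfl⟩ := Submodule.mkQ_surjective W' y
    rw [LinearMap.mem_ker] at hy
    have h1 : ιq (W'.mkQ b) = W.mkQ (ι b) := rfl
    rw [h1, Submodule.mkQ_apply, Submodule.Quotient.mk_eq_zero] at hy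
    rw [Submodule.mem_bot, Submodule.mkQ_apply, Submodule.Quotient.mk_eq_zero]
    exact hy
  have hex' : Function.Exact (W'.subtype.rTensor B) (W'.mkQ.rTensor B) :=
    rTensor_exact B (LinearMap.exact_subtype_mkQ W') (Submodule.mkQ_surjective W')
  have hex : Function.Exact (W.subtype.rTensor H) (W.mkQ.rTensor H) :=
    rTensor_exact H (LinearMap.exact_subtype_mkQ W) (Submodule.mkQ_surjective W)
  apply (hex' z).1
  have hinj : Function.Injective (TensorProduct.map ιq ι) :=
    TensorProduct.map_injective_of_flat_flat _ _ hιq hι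
  apply hinj
  rw [map_zero]
  have h2 : TensorProduct.map ιq ι (W'.mkQ.rTensor B z) =
      W.mkQ.rTensor H (TensorProduct.map ι ι z) := by
    generalize z = z'
    induction z' using TensorProduct.induction_on with
    | zero => simp
    | tmul a b => rfl
    | add x y hx hy => simp only [map_add, hx, hy]
  rw [h2]
  exact (hex _).2 hz

end Lin

section Coideal

variable {k : Type u} [Field k] {B : Type v} [CommRing B] [Bialgebra k B]

/-- the subalgebra generated by a right coideal is a right coideal. -/
theorem isSubcomod_adjoin (S : Submodule k B) (hS : IsSubcomod (k := k) (A := B) S) :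
    IsSubcomod (k := k) (A := B) (Subalgebra.toSubmodule (Algebra.adjoin k (S : Set B))) := by
  set C := Algebra.adjoin k (S : Set B) with hC
  let F : ↥C ⊗[k] B →ₐ[k] B ⊗[k] B := Algebra.TensorProduct.map C.val (AlgHom.id k B)
  have hF : ∀ y, F y = (Subalgebra.toSubmodule C).subtype.rTensor B y := by
    intro y
    induction y using TensorProduct.induction_on with
    | zero => simp
    | tmul a b => rfl
    | add x y hx hy => simp only [map_add, hx, hy]
  have hle : C ≤ (F.range).comap (Bialgebra.comulAlgHom k B) := by
    apply Algebra.adjoin_le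
    intro s hs
    have h1 := hS s hs
    have h2 : S ≤ Subalgebra.toSubmodule C := fun t ht => Algebra.subset_adjoin ht
    obtain ⟨y, hy⟩ := range_rTensor_mono (k := k) (A := B) h2 h1
    exact ⟨y, (hF y).trans hy⟩
  intro c hc
  obtain ⟨y, hy⟩ := hle hc
  exact ⟨y, (hF y).symm.trans hy⟩

end Coideal

end Groth.Agent.Lib.Helper7.PU
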