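import Groth.Agent.Lib.Helper7.PU1
import Groth.Prelude.Def_GLin
import Groth.Prelude.Def_ComodSub

/-!
# Pro-unipotent closed orbits, II: right coideal subalgebras as comodule algebras (helper7)
-/

set_option autoImplicit false

universe u v

open TensorProduct

namespace Groth.Agent.Lib.Helper7.PU

open HopfRep Groth.Agent.Lib.Helper7.Comod

section

variable {k : Type u} [Field k] {B : Type u} [CommRing B] [HopfAlgebra k B] (C : Subalgebra k B)
  (hC : IsSubcomod (k := k) (A := B) (Subalgebra.toSubmodule C))

/-- the comodule structure on a right coideal subalgebra. -/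
@[reducible] noncomputable def comodC : Comod k B ↥C :=
  ComodSub.Comod.restr (Comod.regular k B) (Subalgebra.toSubmodule C) hC

/-- `C ⊗ B → B ⊗ B` as an algebra map. -/
noncomputable def FC : ↥C ⊗[k] B →ₐ[k] B ⊗[k] B := Algebra.TensorProduct.map C.val (AlgHom.id k B)

lemma FC_apply (y : ↥C ⊗[k] B) : FC C y = (Subalgebra.toSubmodule C).subtype.rTensor B y := by
  induction y using TensorProduct.induction_on with
  | zero => simp
  | tmul a b => rfl
  | add x y hx hy => simp only [map_add, hx, hy]

lemma FC_injective : Function.Injective (FC C) := by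
  intro y y' h
  rw [FC_apply, FC_apply] at h
  exact ComodSub.rTensor_subtype_injective (Subalgebra.toSubmodule C) h

lemma FC_coact (c : ↥C) :
    FC C ((comodC C hC).coact c) = Coalgebra.comul (R := k) (c : B) := by
  rw [FC_apply]
  exact ComodSub.rTensor_subtype_restrCoact (Comod.regular k B) (Subalgebra.toSubmodule C) hC c

theorem isCoactAlgC : @GLin.IsCoactAlg k _ B _ _ ↥C _ _ (comodC C hC) := by
  letI := comodC C hC
  constructor
  · apply FC_injective C
    rw [FC_coact, map_one]
    exact Bialgebra.comul_one
  · intro f g
    apply FC_injective C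
    rw [FC_coact, map_mul, FC_coact, FC_coact]
    exact Bialgebra.comul_mul _ _

/-- the base point: the counit restricted to `C`. -/
noncomputable def xC : ↥C →ₐ[k] k := (Bialgebra.counitAlgHom k B).comp C.val

theorem orbitHom_xC :
    letI := comodC C hC
    haveI := isCoactAlgC C hC
    GLin.orbitHom k B (xC C) = C.val := by
  letI := comodC C hC
  haveI := isCoactAlgC C hC
  apply AlgHom.ext
  intro c
  simp only [GLin.orbitHom, AlgHom.comp_apply, GLin.coactAlgHom_apply]
  have h1 : Algebra.TensorProduct.map (xC C) (AlgHom.id k B) (Comod.coact (k := k) (A := B) c) =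
      Algebra.TensorProduct.map (Bialgebra.counitAlgHom k B) (AlgHom.id k B)
        (FC C (Comod.coact (k := k) (A := B) c)) := by
    generalize Comod.coact (k := k) (A := B) c = y
    induction y using TensorProduct.induction_on with
    | zero => simp
    | tmul a b => simp [FC, xC]
    | add x y hx hy => simp only [map_add, hx, hy]
  rw [h1, FC_coact]
  have h2 := LinearMap.congr_fun (Coalgebra.rTensor_counit_comp_comul (R := k) (A := B)) (c : B)
  simp only [LinearMap.comp_apply] at h2
  have h3 : Algebra.TensorProduct.map (Bialgebra.counitAlgHom k B) (AlgHom.id k B)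
      (Coalgebra.comul (R := k) (c : B)) =
      LinearMap.rTensor B (Coalgebra.counit (R := k)) (Coalgebra.comul (R := k) (c : B)) := by
    generalize Coalgebra.comul (R := k) (c : B) = y
    induction y using TensorProduct.induction_on with
    | zero => simp
    | tmul a b => simp
    | add x y hx hy => simp only [map_add, hx, hy]
  rw [h3, h2]
  simp

end

end Groth.Agent.Lib.Helper7.PU
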