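import Groth.Agent.Lib.Helper10.HopfOrb2
import Groth.Agent.Lib.Helper7.KoRo6

/-!
# Kostant–Rosenlicht in coaction form (helper7)
-/

set_option autoImplicit false

universe u

open CategoryTheory AlgebraicGeometry

namespace Groth.Agent.Lib.Helper7.PU

open HopfRep CoactBr Groth.Agent.Lib.Helper10.HopfOrb

variable {k : Type u} [Field k] {B : Type u} [CommRing B] [HopfAlgebra k B]
  [Algebra.FiniteType k B] {R : Type u} [CommRing R] [Algebra k R] [Algebra.FiniteType k R]
  [HopfRep.Comod k B R] [GLin.IsCoactAlg k B R]

/-- **Kostant–Rosenlicht, coaction form**: orbits of a unipotent algebraic group on an affine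
scheme of finite type are closed. -/
theorem isClosedOrbit_of_fg (hU : IsUnipotent k B) (x : R →ₐ[k] k) : GLin.IsClosedOrbit k B x := by
  haveI : LocallyOfFiniteType (sp k R).hom := by
    change LocallyOfFiniteType (Spec.map (CommRingCat.ofHom (algebraMap k R)))
    rw [HasRingHomProperty.Spec_iff (P := @LocallyOfFiniteType)]
    exact (RingHom.finiteType_algebraMap (A := k) (B := R)).mpr inferInstance
  haveI : (sp k R).left.IsQuasiAffine :=
    inferInstanceAs (Spec (CommRingCat.of R)).IsQuasiAffine
  have h := Groth.Agent.Lib.Helper7.KoRo.isClosed_orbit_aux hU (sp k R) (action k B R) (kpt x)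
  have h2 := Orb_eq (A := B) x
  unfold Orb at h2
  rw [h2] at h
  exact h

end Groth.Agent.Lib.Helper7.PU
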