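import Groth.Agent.Lib.Helper7.PU2
import Groth.Agent.Lib.Helper7.UE2
import Groth.Agent.Lib.Helper7.GITBasic
import Mathlib

/-!
# Pro-unipotent closed orbits, IV: lifting primes (helper7)
-/

set_option autoImplicit false

universe u

open TensorProduct

namespace Groth.Agent.Lib.Helper7.PU

open HopfRep Groth.Agent.Lib.Helper7.Comod

section LiftB

variable {k : Type u} [Field k] {A H Bt : Type u} [CommRing A] [Algebra k A] [CommRing H]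
  [Algebra k H] [CommRing Bt] [Algebra k Bt]

/-- abstract prime lifting through a tower `A_T ↠ C ⊆ Bt → H`. -/
theorem lift_prime (ω : A →ₐ[k] H) (ι : Bt →ₐ[k] H) (hι : Function.Injective ι)
    (hιs : Function.Surjective (PrimeSpectrum.comap ι.toRingHom))
    (C : Subalgebra k Bt) (hCs : Function.Surjective (PrimeSpectrum.comap C.val.toRingHom))
    (AT : Subalgebra k A) (hmap : AT.map ω = C.map ι)
    (𝔭 : PrimeSpectrum A) (h𝔭 : RingHom.ker ω.toRingHom ≤ 𝔭.asIdeal) :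
    ∃ 𝔮 : PrimeSpectrum H, ∀ y ∈ AT, (ω y ∈ 𝔮.asIdeal ↔ y ∈ 𝔭.asIdeal) := by
  let e : ↥C ≃ₐ[k] ↥(C.map ι) := Subalgebra.equivMapOfInjective C ι hι
  let ω₁ : ↥AT →ₐ[k] ↥(C.map ι) := (ω.comp AT.val).codRestrict (C.map ι) (fun y => by
    rw [← hmap]
    exact ⟨y.1, y.2, rfl⟩)
  let ωT : ↥AT →ₐ[k] ↥C := (e.symm : ↥(C.map ι) →ₐ[k] ↥C).comp ω₁
  have key : ∀ y : ↥AT, ι ((ωT y : ↥C) : Bt) = ω (y : A) := by
    intro y
    have h1 : e (ωT y) = ω₁ y := by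
      change e (e.symm (ω₁ y)) = ω₁ y
      exact e.apply_symm_apply _
    have h2 : ((e (ωT y) : ↥(C.map ι)) : H) = ι ((ωT y : ↥C) : Bt) :=
      Subalgebra.coe_equivMapOfInjective_apply C ι hι (ωT y)
    rw [← h2, h1]
    rfl
  have hsurj : Function.Surjective ωT := by
    intro c
    have h1 : ι (c : Bt) ∈ C.map ι := ⟨c.1, c.2, rfl⟩
    rw [← hmap] at h1
    obtain ⟨y, hy, hy2⟩ := h1
    refine ⟨⟨y, hy⟩, ?_⟩
    apply Subtype.ext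
    apply hι
    rw [key]
    exact hy2
  let 𝔭T : PrimeSpectrum ↥AT := PrimeSpectrum.comap AT.val.toRingHom 𝔭
  have h𝔭T : 𝔭T ∈ Set.range (PrimeSpectrum.comap ωT.toRingHom) := by
    rw [_root_.range_comap_of_surjective _ _ hsurj, PrimeSpectrum.mem_zeroLocus]
    intro y hy
    have hy' : ωT y = 0 := hy
    have h1 : ω (y : A) = 0 := by rw [← key, hy']; simp
    exact h𝔭 h1
  obtain ⟨𝔠, h𝔠⟩ := h𝔭T
  obtain ⟨𝔟, h𝔟⟩ := hCs 𝔠
  obtain ⟨𝔮, h𝔮⟩ := hιs 𝔟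
  refine ⟨𝔮, fun y hy => ?_⟩
  have e1 : (⟨y, hy⟩ : ↥AT) ∈ 𝔭T.asIdeal ↔ y ∈ 𝔭.asIdeal := Iff.rfl
  rw [← e1, ← h𝔠, ← h𝔟, ← h𝔮]
  change _ ↔ ι ((ωT ⟨y, hy⟩ : ↥C) : Bt) ∈ 𝔮.asIdeal
  rw [key]

end LiftB

end Groth.Agent.Lib.Helper7.PU
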