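import Groth.Agent.Lib.Helper7.PU4
import Groth.Agent.Lib.Helper7.PU3

/-!
# Pro-unipotent closed orbits, V: the main theorem (helper7)
-/

set_option autoImplicit false

universe u

open TensorProduct

namespace Groth.Agent.Lib.Helper7.PU

open HopfRep Groth.Agent.Lib.Helper7.Comod

section Main

variable {k : Type u} [Field k] {H : Type u} [CommRing H] [HopfAlgebra k H]

/-- a finitely generated right coideal subalgebra of the coordinate ring of a unipotent algebraic
group: every prime lifts (the homogeneous space `U → U/K` is surjective). -/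
theorem comap_val_surjective {B : Type u} [CommRing B] [HopfAlgebra k B] [Algebra.FiniteType k B]
    (hU : IsUnipotent k B) (C : Subalgebra k B)
    (hC : IsSubcomod (k := k) (A := B) (Subalgebra.toSubmodule C)) (hfg : C.FG) :
    Function.Surjective (PrimeSpectrum.comap C.val.toRingHom) := by
  letI := comodC C hC
  haveI := isCoactAlgC C hC
  haveI : Algebra.FiniteType k ↥C := (Subalgebra.fg_iff_finiteType C).1 hfg
  have h : GLin.IsClosedOrbit k B (xC C) := isClosedOrbit_of_fg hU (xC C)
  unfold GLin.IsClosedOrbit at h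
  have h0 : GLin.orbitHom k B (xC C) = C.val := orbitHom_xC C hC
  rw [h0] at h
  have h2 := PrimeSpectrum.closure_range_comap C.val.toRingHom
  rw [h.closure_eq] at h2
  have h3 : RingHom.ker C.val.toRingHom = ⊥ :=
    (RingHom.injective_iff_ker_eq_bot _).1 Subtype.val_injective
  rw [h3] at h2
  have h4 : PrimeSpectrum.zeroLocus ((⊥ : Ideal ↥C) : Set ↥C) = Set.univ := by
    simp
  rw [h4] at h2
  exact Set.range_eq_univ.1 h2

theorem exists_finite_subcomod_finset {A : Type u} [AddCommGroup A] [Module k A] [Comod k H A]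
    (T : Finset A) :
    ∃ V : Submodule k A, Module.Finite k V ∧ (↑T : Set A) ⊆ V ∧
      IsSubcomod (k := k) (A := H) V := by
  classical
  induction T using Finset.induction_on with
  | empty => exact ⟨⊥, inferInstance, by simp, isSubcomod_bot⟩
  | insert t T _ ih =>
    obtain ⟨V, hf, hT, hV⟩ := ih
    obtain ⟨V', hf', ht, hV'⟩ := exists_finite_subcomod_mem (k := k) (C := H) t
    refine ⟨V ⊔ V', inferInstance, ?_, isSubcomod_sup hV hV'⟩
    intro y hy
    rw [Finset.coe_insert, Set.mem_insert_iff] at hy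
    rcases hy with rfl | hy
    · exact (le_sup_right : V' ≤ V ⊔ V') ht
    · exact (le_sup_left : V ≤ V ⊔ V') (hT hy)

theorem exists_index_le (B : ℕ → Subalgebra k H) (hmono : Monotone B)
    (hcov : ∀ h : H, ∃ i, h ∈ B i) (W : Submodule k H) [Module.Finite k W] :
    ∃ i, W ≤ Subalgebra.toSubmodule (B i) := by
  classical
  obtain ⟨s, rfl⟩ := (Module.Finite.iff_fg.1 inferInstance : W.FG)
  choose idx hidx using hcov
  refine ⟨s.sup idx, ?_⟩
  rw [Submodule.span_le]
  intro h hh
  exact hmono (Finset.le_sup hh) (hidx h)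

theorem isClosedOrbit_of_union (hU : IsUnipotent k H) (B : ℕ → Subalgebra k H)
    (hmono : Monotone B) (hcov : ∀ h : H, ∃ i, h ∈ B i) (hfg : ∀ i, (B i).FG)
    (hB : ∀ i, HopfSub.IsHopfSub (B i)) (hfree : ∀ i, Module.Free (B i) H)
    {A : Type u} [CommRing A] [Algebra k A] [Comod k H A] [GLin.IsCoactAlg k H A]
    (x : A →ₐ[k] k) : GLin.IsClosedOrbit k H x := by
  classical
  set ω := GLin.orbitHom k H x with hω
  unfold GLin.IsClosedOrbit
  rw [← closure_subset_iff_isClosed, PrimeSpectrum.closure_range_comap]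
  intro 𝔭 h𝔭
  rw [PrimeSpectrum.mem_zeroLocus] at h𝔭
  rw [PrimeSpectrum.mem_range_comap_iff]
  refine le_antisymm ?_ Ideal.le_comap_map
  intro a ha
  rw [Ideal.mem_comap] at ha
  have ha' : ω a ∈ Submodule.span H (ω '' (𝔭.asIdeal : Set A)) := ha
  obtain ⟨t, ht, c, hc⟩ := (Submodule.mem_span_image_iff_exists_fun H).1 ha'
  obtain ⟨V, hVf, hTV, hV⟩ := exists_finite_subcomod_finset (k := k) (H := H) (insert a t)
  let W : Submodule k H := V.map ω.toLinearMap
  have hW : IsSubcomod (k := k) (A := H) W :=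
    isSubcomod_map (isComodHom_orbitHom x) hV
  haveI : Module.Finite k W := Module.Finite.map V ω.toLinearMap
  obtain ⟨i, hi⟩ := exists_index_le B hmono hcov W
  letI : HopfAlgebra k ↥(B i) := HopfSub.hopfAlgebra (hB i)
  haveI : Algebra.FiniteType k ↥(B i) := (Subalgebra.fg_iff_finiteType (B i)).1 (hfg i)
  have hUi : IsUnipotent k ↥(B i) :=
    UnipExt.isUnipotent_of_injective (HopfSub.valBialgHom (hB i)) Subtype.val_injective hU
  let ι : ↥(B i) →ₐ[k] H := (B i).val
  let W' : Submodule k ↥(B i) := W.comap ι.toLinearMap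
  have hW' : IsSubcomod (k := k) (A := ↥(B i)) W' := by
    intro w hw
    apply mem_range_rTensor_of_map ι.toLinearMap Subtype.val_injective W
    change TensorProduct.map (B i).val.toLinearMap (B i).val.toLinearMap
      (Coalgebra.comul (R := k) w) ∈ _
    rw [HopfSub.map_val_comul (hB i) w]
    exact hW (w : H) hw
  let C : Subalgebra k ↥(B i) := Algebra.adjoin k (W' : Set ↥(B i))
  have hC : IsSubcomod (k := k) (A := ↥(B i)) (Subalgebra.toSubmodule C) :=
    isSubcomod_adjoin W' hW'
  have hCfg : C.FG := by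
    let g : ↥W' →ₗ[k] ↥W := (ι.toLinearMap.domRestrict W').codRestrict W (fun w => w.2)
    have hg : Function.Injective g := by
      intro w w' h
      apply Subtype.ext
      apply Subtype.ext
      exact congrArg (fun z : ↥W => (z : H)) h
    haveI : Module.Finite k ↥W' := Module.Finite.of_injective g hg
    obtain ⟨s, hs⟩ := (Module.Finite.iff_fg.1 inferInstance : W'.FG)
    refine ⟨s, ?_⟩
    change _ = Algebra.adjoin k (W' : Set ↥(B i))
    rw [← hs, Algebra.adjoin_span]
  have hCs := comap_val_surjective hUi C hC hCfg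
  haveI : Nontrivial H := RingHom.domain_nontrivial (Bialgebra.counitAlgHom k H).toRingHom
  haveI := hfree i
  have hιs : Function.Surjective (PrimeSpectrum.comap ι.toRingHom) :=
    PrimeSpectrum.comap_surjective_of_faithfullyFlat (A := ↥(B i)) (B := H)
  let AT := Algebra.adjoin k (V : Set A)
  have hmap : AT.map ω = C.map ι := by
    rw [AlgHom.map_adjoin, AlgHom.map_adjoin]
    congr 1
    have h1 : (ι '' (W' : Set ↥(B i)) : Set H) = (W : Set H) := by
      change ι '' (ι ⁻¹' (W : Set H)) = _
      rw [Set.image_preimage_eq_inter_range, Set.inter_eq_left]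
      intro h hh
      exact ⟨⟨h, hi hh⟩, rfl⟩
    rw [h1]
    rfl
  obtain ⟨𝔮, h𝔮⟩ := lift_prime ω ι Subtype.val_injective hιs C hCs AT hmap 𝔭 h𝔭
  have haT : a ∈ AT := Algebra.subset_adjoin (hTV (by simp))
  rw [← h𝔮 a haT, ← hc]
  apply Ideal.sum_mem
  intro j _
  apply Ideal.mul_mem_left
  have hj : (j : A) ∈ AT := Algebra.subset_adjoin (hTV (by simp))
  rw [h𝔮 _ hj]
  exact ht j.2

end Main

end Groth.Agent.Lib.Helper7.PU
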