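import Groth.Agent.Lib.Helper7.UFG7

/-!
# The character group of a linear algebraic group is finitely generated (helper7)
-/

universe u

open TensorProduct

namespace Groth.Agent.Lib.Helper7.PV

open Groth.Agent.Lib.Helper7.UFG

lemma subgroup_fg_of_map_fg {G T : Type*} [CommGroup G] [CommGroup T] (Ψ : G →* T)
    (hT : ∀ H : Subgroup T, H.FG) (hker : ((Ψ.ker : Subgroup G) : Set G).Finite)
    (Λ : Subgroup G) : Λ.FG := by
  classical
  obtain ⟨S₁, hS₁⟩ := hT (Λ.map Ψ)
  have hpre : ∀ t ∈ S₁, ∃ g ∈ Λ, Ψ g = t := fun t ht => by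
    have : t ∈ Λ.map Ψ := hS₁ ▸ Subgroup.subset_closure ht
    exact Subgroup.mem_map.mp this
  choose! pre hpreΛ hpreΨ using hpre
  have hfin2 : ((Λ : Set G) ∩ (Ψ.ker : Subgroup G)).Finite := hker.subset Set.inter_subset_right
  refine ⟨S₁.image pre ∪ hfin2.toFinset, ?_⟩
  apply le_antisymm
  · rw [Subgroup.closure_le]
    intro g hg
    rw [Finset.coe_union, Finset.coe_image] at hg
    rcases hg with ⟨t, ht, rfl⟩ | hg
    · exact hpreΛ t ht
    · exact ((Set.Finite.mem_toFinset hfin2).mp hg).1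
  · intro l hl
    have h1 : Ψ l ∈ Subgroup.closure (S₁ : Set T) := by
      rw [hS₁]
      exact Subgroup.mem_map_of_mem Ψ hl
    have h2 : (S₁ : Set T) = Ψ '' (pre '' (S₁ : Set T)) := by
      ext t
      constructor
      · intro ht
        exact ⟨pre t, ⟨t, ht, rfl⟩, hpreΨ t ht⟩
      · rintro ⟨_, ⟨t', ht', rfl⟩, rfl⟩
        rw [hpreΨ t' ht']
        exact ht'
    rw [h2, ← MonoidHom.map_closure] at h1
    obtain ⟨m, hm, hmΨ⟩ := Subgroup.mem_map.mp h1
    have hmΛ : m ∈ Λ := by
      have : Subgroup.closure (pre '' (S₁ : Set T)) ≤ Λ := by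
        rw [Subgroup.closure_le]
        rintro _ ⟨t, ht, rfl⟩
        exact hpreΛ t ht
      exact this hm
    have h3 : m⁻¹ * l ∈ (Λ : Set G) ∩ (Ψ.ker : Subgroup G) := by
      refine ⟨Λ.mul_mem (Λ.inv_mem hmΛ) hl, ?_⟩
      change m⁻¹ * l ∈ Ψ.ker
      rw [MonoidHom.mem_ker, map_mul, map_inv, hmΨ, inv_mul_cancel]
    have h4 : l = m * (m⁻¹ * l) := by rw [mul_inv_cancel_left]
    rw [h4]
    apply Subgroup.mul_mem
    · apply Subgroup.closure_mono _ hm
      rw [Finset.coe_union, Finset.coe_image]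
      exact Set.subset_union_left
    · apply Subgroup.subset_closure
      rw [Finset.coe_union]
      right
      exact (Set.Finite.mem_toFinset hfin2).mpr h3

lemma mem_range_of_isIntegral_of_isAlgClosed (k : Type*) [Field k] [IsAlgClosed k] (D : Type*)
    [CommRing D] [IsDomain D] [Algebra k D] (x : D) (hx : IsIntegral k x) :
    x ∈ Set.range (algebraMap k D) := by
  have hirr := minpoly.irreducible hx
  have hdeg := IsAlgClosed.degree_eq_one_of_irreducible k hirr
  exact minpoly.mem_range_of_degree_eq_one k x hdeg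

end Groth.Agent.Lib.Helper7.PV
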