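import Groth.Agent.Lib.Helper7.PV1

/-!
# The character group of a linear algebraic group is finitely generated, II (helper7)
-/

universe u

open TensorProduct

namespace Groth.Agent.Lib.Helper7.PV

open Groth.Agent.Lib.Helper7.UFG

variable (k : Type u) [Field k] [IsAlgClosed k] (A : Type u) [CommRing A] [HopfAlgebra k A]
  [Algebra.FiniteType k A] [IsReduced A]

/-- elements of `A` which are constant modulo every minimal prime. -/
noncomputable def constMod : Submodule k A :=
  ⨅ p : ↥(minimalPrimes A), Submodule.comap (Ideal.Quotient.mkₐ k p.1).toLinearMap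
    (LinearMap.range (Algebra.linearMap k (A ⧸ p.1)))

lemma mem_constMod (x : A) : x ∈ constMod k A ↔
    ∀ p : ↥(minimalPrimes A), ∃ c : k, algebraMap k (A ⧸ p.1) c = Ideal.Quotient.mk p.1 x := by
  simp only [constMod, Submodule.mem_iInf, Submodule.mem_comap, LinearMap.mem_range]
  rfl

instance finite_constMod : Module.Finite k (constMod k A) := by
  haveI : IsNoetherianRing A := Algebra.FiniteType.isNoetherianRing k A
  haveI : Finite ↥(minimalPrimes A) := (minimalPrimes.finite_of_isNoetherianRing A)
  let f : constMod k A →ₗ[k] ((p : ↥(minimalPrimes A)) →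
      LinearMap.range (Algebra.linearMap k (A ⧸ p.1))) :=
    LinearMap.pi (fun p => LinearMap.codRestrict _
      ((Ideal.Quotient.mkₐ k p.1).toLinearMap ∘ₗ (constMod k A).subtype) (fun x => by
        have := (Submodule.mem_iInf _).mp x.2 p
        exact this))
  apply Module.Finite.of_injective f
  intro x y hxy
  apply Subtype.ext
  rw [← sub_eq_zero]
  have h0 : (x : A) - y ∈ nilradical A := by
    rw [nilradical, ← Ideal.sInf_minimalPrimes, Ideal.mem_sInf]
    intro p hp
    have h1 := congrFun hxy ⟨p, hp⟩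
    have h2 := congrArg Subtype.val h1
    change Ideal.Quotient.mk p (x : A) = Ideal.Quotient.mk p (y : A) at h2
    rw [← Ideal.Quotient.eq]
    exact h2
  exact (nilradical_eq_zero A ▸ h0 : (x : A) - y ∈ (0 : Ideal A))

/-- every subgroup of the character group is finitely generated. -/
theorem subgroup_groupLike_fg (Λ : Subgroup (GroupLike k A)) : Λ.FG := by
  classical
  haveI : IsNoetherianRing A := Algebra.FiniteType.isNoetherianRing k A
  haveI : Finite ↥(minimalPrimes A) := (minimalPrimes.finite_of_isNoetherianRing A)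
  have hU : ∀ p : ↥(minimalPrimes A),
      ∃ (ι : Type u) (_ : Finite ι) (v : (A ⧸ p.1)ˣ →* (ι → Multiplicative ℤ)),
        ∀ u : (A ⧸ p.1)ˣ, v u = 1 → ∃ c : k, algebraMap k (A ⧸ p.1) c = (u : A ⧸ p.1) := by
    intro p
    haveI : p.1.IsPrime := p.2.1.1
    obtain ⟨ι, hι, v, hv⟩ := exists_unitsHom k (A ⧸ p.1)
    exact ⟨ι, hι, v, fun u hu => mem_range_of_isIntegral_of_isAlgClosed k _ _ (hv u hu)⟩
  choose ι hι v hv using hU
  haveI : ∀ p, Finite (ι p) := hι
  let Ψ : GroupLike k A →* ((j : Σ p, ι p) → Multiplicative ℤ) :=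
    MonoidHom.pi (fun j => (Pi.evalMonoidHom _ j.2).comp ((v j.1).comp
      ((Units.map ((Ideal.Quotient.mk j.1.1 : A →+* A ⧸ j.1.1) : A →* A ⧸ j.1.1)).comp
        (GroupLike.toUnits k))))
  apply subgroup_fg_of_map_fg Ψ (subgroup_fg_pi_mult _)
  -- the kernel is finite
  have hmem : ∀ g : GroupLike k A, g ∈ Ψ.ker → (g : A) ∈ constMod k A := by
    intro g hg
    rw [MonoidHom.mem_ker] at hg
    rw [mem_constMod]
    intro p
    have h1 : v p (Units.map ((Ideal.Quotient.mk p.1 : A →+* A ⧸ p.1) : A →* A ⧸ p.1)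
        (GroupLike.toUnits k g)) = 1 := by
      funext i
      exact congrFun hg ⟨p, i⟩
    obtain ⟨c, hc⟩ := hv p _ h1
    exact ⟨c, hc⟩
  let w : ↥(Ψ.ker : Subgroup (GroupLike k A)) → constMod k A := fun g => ⟨(g.1 : A), hmem g.1 g.2⟩
  have hw : LinearIndependent k w := by
    apply LinearIndependent.of_comp (constMod k A).subtype
    have : (constMod k A).subtype ∘ w = (GroupLike.val (R := k) (A := A)) ∘ Subtype.val := rfl
    rw [this]
    exact (_root_.linearIndep_groupLikeVal (R := k) (A := A)).comp _ Subtype.val_injective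
  haveI := hw.finite
  exact Set.toFinite _

end Groth.Agent.Lib.Helper7.PV
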