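import Groth.Agent.Lib.Helper7.PV2
import Groth.Agent.Lib.Helper7.ChevalleyChar
import Groth.Agent.Lib.Helper7.Lin1

/-!
# Pointwise semi-invariants and their weights (helper7)
-/

universe u

open TensorProduct

namespace Groth.Agent.Lib.Helper7.PV

open HopfRep Groth.Agent.Lib.Helper7.GenSubgp Groth.Agent.Lib.Helper7.Comod
  Groth.Agent.Lib.Helper7.Rosen Groth.Agent.Lib.Helper7.InvFrac Groth.Agent.Lib.Helper7.Lin

section Weight

variable {k : Type u} [Field k] {A : Type u} [CommRing A] [HopfAlgebra k A]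

/-- evaluation of a character at a point. -/
noncomputable def evG (φ : A →ₐ[k] k) : GroupLike k A →* kˣ :=
  (Units.map (φ : A →* k)).comp (GroupLike.toUnits k)

lemma evG_val (φ : A →ₐ[k] k) (w : GroupLike k A) : ((evG φ w : kˣ) : k) = φ (w : A) := rfl

variable {B : Type u} [CommRing B] [Algebra k B] [HopfRep.Comod k A B] [GLin.IsCoactAlg k A B]

/-- `s` is a (pointwise) semi-invariant of weight `w`. -/
def IsSemi (s : B) (w : GroupLike k A) : Prop :=
  ∀ φ : A →ₐ[k] k, Comod.act k A B φ s = ((evG φ w : kˣ) : k) • s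

lemma IsSemi.one : IsSemi (k := k) (A := A) (1 : B) 1 := by
  intro φ
  rw [act_one, map_one, Units.val_one, one_smul]

lemma IsSemi.mul {s t : B} {w v : GroupLike k A} (hs : IsSemi s w) (ht : IsSemi t v) :
    IsSemi (s * t) (w * v) := by
  intro φ
  rw [act_mul, hs φ, ht φ, map_mul, Units.val_mul, smul_mul_smul_comm]

lemma IsSemi.pow {s : B} {w : GroupLike k A} (hs : IsSemi s w) (n : ℕ) :
    IsSemi (s ^ n) (w ^ n) := by
  induction n with
  | zero => simpa using IsSemi.one (k := k) (A := A) (B := B)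
  | succ n ih => rw [pow_succ, pow_succ]; exact ih.mul hs

lemma IsSemi.prod {ι : Type*} (F : Finset ι) (s : ι → B) (w : ι → GroupLike k A)
    (h : ∀ i ∈ F, IsSemi (s i) (w i)) : IsSemi (∏ i ∈ F, s i) (∏ i ∈ F, w i) := by
  classical
  induction F using Finset.induction_on with
  | empty => simpa using IsSemi.one (k := k) (A := A) (B := B)
  | insert a F ha ih =>
    rw [Finset.prod_insert ha, Finset.prod_insert ha]
    exact (h a (Finset.mem_insert_self a F)).mul
      (ih (fun i hi => h i (Finset.mem_insert_of_mem hi)))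

end Weight

section Exists

variable {k : Type u} [Field k] [IsAlgClosed k] {A : Type u} [CommRing A] [HopfAlgebra k A]
  [Algebra.FiniteType k A] [IsReduced A]
  {B : Type u} [CommRing B] [Algebra k B] [HopfRep.Comod k A B] [GLin.IsCoactAlg k A B]

/-- a pointwise eigenvector has a group-like weight. -/
theorem exists_weight (s : B) (hs : s ≠ 0) (c : (A →ₐ[k] k) → k)
    (h : ∀ φ : A →ₐ[k] k, Comod.act k A B φ s = c φ • s) :
    ∃ w : GroupLike k A, ∀ φ : A →ₐ[k] k, φ (w : A) = c φ := by
  obtain ⟨ℓ, hℓ⟩ := Groth.Agent.Lib.Helper7.Chevalley.exists_dual_eq_one (k := k) hs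
  set α : A := contrL A ℓ (GLin.coactAlgHom k A B s) with hα
  have hφα : ∀ φ : A →ₐ[k] k, φ α = c φ := by
    intro φ
    rw [hα, apply_contrL_evR, ← act_eq_evR, h φ, map_smul, hℓ, smul_eq_mul, mul_one]
  have hρ : GLin.coactAlgHom k A B s = s ⊗ₜ[k] α := by
    rw [← sub_eq_zero]
    apply eq_zero_of_forall_evR_red (k := k)
    intro φ
    rw [map_sub, ← act_eq_evR, evR_tmul, h φ, hφα, sub_self]
  have hgl : IsGroupLikeElem k α := by
    apply Groth.Agent.Lib.Helper7.Chevalley.isGroupLikeElem_of_eigen (BialgHom.id k A)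
      (inferInstance : HopfRep.Comod k A B) hs
    have : (BialgHom.id k A).toLinearMap = LinearMap.id := rfl
    rw [this, LinearMap.lTensor_id, LinearMap.id_apply]
    exact hρ
  exact ⟨⟨α, hgl⟩, hφα⟩

end Exists

end Groth.Agent.Lib.Helper7.PV
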