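import Groth.Agent.Lib.Helper7.PV3

/-!
# Invariant fractions on factorial G-varieties (Popov–Vinberg) (helper7)
-/

universe u

open TensorProduct

namespace Groth.Agent.Lib.Helper7.PV

open HopfRep Groth.Agent.Lib.Helper7.GenSubgp Groth.Agent.Lib.Helper7.Comod
  Groth.Agent.Lib.Helper7.Rosen Groth.Agent.Lib.Helper7.InvFrac Groth.Agent.Lib.Helper7.Lin

section Group

variable {G : Type*} [CommGroup G]

lemma exists_finset_subset_of_mem_closure (W : Set G) (x : G) (hx : x ∈ Subgroup.closure W) :
    ∃ T : Finset G, (T : Set G) ⊆ W ∧ x ∈ Subgroup.closure (T : Set G) := by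
  classical
  induction hx using Subgroup.closure_induction with
  | mem y hy =>
    exact ⟨{y}, by simpa using hy, Subgroup.subset_closure (by simp)⟩
  | one => exact ⟨∅, by simp, Subgroup.one_mem _⟩
  | mul y z _ _ hy hz =>
    obtain ⟨T₁, h1, h1'⟩ := hy
    obtain ⟨T₂, h2, h2'⟩ := hz
    refine ⟨T₁ ∪ T₂, by rw [Finset.coe_union]; exact Set.union_subset h1 h2, ?_⟩
    apply Subgroup.mul_mem
    · exact Subgroup.closure_mono (by rw [Finset.coe_union]; exact Set.subset_union_left) h1'
    · exact Subgroup.closure_mono (by rw [Finset.coe_union]; exact Set.subset_union_right) h2'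
  | inv y _ hy =>
    obtain ⟨T, h1, h1'⟩ := hy
    exact ⟨T, h1, Subgroup.inv_mem _ h1'⟩

lemma exists_finset_subset_closure_eq (W : Set G) (hfg : (Subgroup.closure W).FG) :
    ∃ F : Finset G, (F : Set G) ⊆ W ∧ Subgroup.closure (F : Set G) = Subgroup.closure W := by
  classical
  obtain ⟨S, hS⟩ := hfg
  have h : ∀ x ∈ S, ∃ T : Finset G, (T : Set G) ⊆ W ∧ x ∈ Subgroup.closure (T : Set G) := by
    intro x hx
    apply exists_finset_subset_of_mem_closure
    rw [← hS]
    exact Subgroup.subset_closure hx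
  choose! T hT1 hT2 using h
  refine ⟨S.biUnion T, ?_, ?_⟩
  · intro y hy
    rw [Finset.mem_coe, Finset.mem_biUnion] at hy
    obtain ⟨x, hx, hyx⟩ := hy
    exact hT1 x hx hyx
  · apply le_antisymm
    · rw [Subgroup.closure_le]
      intro y hy
      rw [Finset.mem_coe, Finset.mem_biUnion] at hy
      obtain ⟨x, hx, hyx⟩ := hy
      exact Subgroup.subset_closure (hT1 x hx hyx)
    · rw [← hS, Subgroup.closure_le]
      intro x hx
      refine Subgroup.closure_mono ?_ (hT2 x hx)
      intro y hy
      rw [Finset.mem_coe, Finset.mem_biUnion]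
      exact ⟨x, hx, hy⟩

lemma exists_zpow_of_mem_closure (F : Finset G) (x : G) (hx : x ∈ Subgroup.closure (F : Set G)) :
    ∃ n : G → ℤ, x = ∏ w ∈ F, w ^ n w := by
  classical
  induction hx using Subgroup.closure_induction with
  | mem y hy =>
    refine ⟨fun w => if w = y then 1 else 0, ?_⟩
    rw [Finset.prod_eq_single y]
    · simp
    · intro b _ hb
      simp [hb]
    · intro h
      exact absurd hy h
  | one => exact ⟨fun _ => 0, by simp⟩
  | mul y z _ _ hy hz =>
    obtain ⟨n₁, h1⟩ := hy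
    obtain ⟨n₂, h2⟩ := hz
    refine ⟨fun w => n₁ w + n₂ w, ?_⟩
    rw [h1, h2, ← Finset.prod_mul_distrib]
    apply Finset.prod_congr rfl
    intro w _
    rw [zpow_add]
  | inv y _ hy =>
    obtain ⟨n, h1⟩ := hy
    refine ⟨fun w => - n w, ?_⟩
    rw [h1, ← Finset.prod_inv_distrib]
    apply Finset.prod_congr rfl
    intro w _
    rw [zpow_neg]

end Group

end Groth.Agent.Lib.Helper7.PV
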