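import Groth.Agent.Lib.Helper7.PV4

/-!
# Invariant fractions on factorial G-varieties (Popov–Vinberg), main theorem (helper7)
-/

universe u

open TensorProduct

namespace Groth.Agent.Lib.Helper7.PV

open HopfRep Groth.Agent.Lib.Helper7.GenSubgp Groth.Agent.Lib.Helper7.Comod
  Groth.Agent.Lib.Helper7.Rosen Groth.Agent.Lib.Helper7.InvFrac Groth.Agent.Lib.Helper7.Lin

variable {k : Type u} [Field k] [IsAlgClosed k] {A : Type u} [CommRing A] [HopfAlgebra k A]
  [Algebra.FiniteType k A] [IsReduced A]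
  {B : Type u} [CommRing B] [Algebra k B] [IsDomain B] [HopfRep.Comod k A B] [GLin.IsCoactAlg k A B]

omit [IsAlgClosed k] [Algebra.FiniteType k A] [IsReduced A] [IsDomain B] in
lemma act_act_inv (φ : A →ₐ[k] k) (x : B) :
    Comod.act k A B φ (Comod.act k A B ((WithConv.toConv φ)⁻¹).ofConv x) = x := by
  have h := act_inv_act (B := B) ((WithConv.toConv φ)⁻¹).ofConv x
  rw [WithConv.toConv_ofConv, inv_inv, WithConv.ofConv_toConv] at h
  exact h

omit [IsAlgClosed k] [Algebra.FiniteType k A] [IsReduced A] [IsDomain B] in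
lemma act_ne_zero (φ : A →ₐ[k] k) (x : B) (hx : x ≠ 0) : Comod.act k A B φ x ≠ 0 := by
  intro h
  have := act_inv_act (B := B) φ x
  rw [h, map_zero] at this
  exact hx this.symm

omit [IsAlgClosed k] [Algebra.FiniteType k A] [IsReduced A] [IsDomain B] in
lemma isUnit_act (φ : A →ₐ[k] k) (x : B) (hx : IsUnit x) : IsUnit (Comod.act k A B φ x) := by
  obtain ⟨u, rfl⟩ := hx
  apply IsUnit.of_mul_eq_one (Comod.act k A B φ (↑u⁻¹ : B))
  rw [← act_mul, Units.mul_inv, act_one]

/-- coprime numerator and denominator of an invariant fraction are semi-invariants of the same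
weight. -/
theorem exists_semi_of_relPrime [UniqueFactorizationMonoid B] (hunits : ∀ u : Bˣ, ∃ c : k, algebraMap k B c = u)
    (a b : B) (ha : a ≠ 0) (hrel : IsRelPrime a b)
    (hinv : ∀ φ : A →ₐ[k] k, Comod.act k A B φ a * b = a * Comod.act k A B φ b) :
    ∃ w : GroupLike k A, IsSemi a w ∧ IsSemi b w := by
  have hdiv : ∀ φ : A →ₐ[k] k, a ∣ Comod.act k A B φ a := fun φ =>
    hrel.dvd_of_dvd_mul_right ⟨Comod.act k A B φ b, hinv φ⟩
  choose cφ hcφ using hdiv
  have hunit : ∀ φ : A →ₐ[k] k, IsUnit (cφ φ) := by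
    intro φ
    set ψ : A →ₐ[k] k := ((WithConv.toConv φ)⁻¹).ofConv with hψ
    have h1 : a = a * (cφ ψ * Comod.act k A B ψ (cφ φ)) := by
      have h := act_inv_act (B := B) φ a
      rw [hcφ φ, act_mul, hcφ ψ] at h
      rw [← mul_assoc]
      exact h.symm
    have h2 : cφ ψ * Comod.act k A B ψ (cφ φ) = 1 := by
      apply mul_left_cancel₀ ha
      rw [← h1, mul_one]
    have h3 : IsUnit (Comod.act k A B ψ (cφ φ)) := IsUnit.of_mul_eq_one _ (by rw [mul_comm]; exact h2)
    have h4 := isUnit_act φ _ h3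
    rwa [hψ, act_act_inv] at h4
  have hκ : ∀ φ : A →ₐ[k] k, ∃ c : k, algebraMap k B c = cφ φ := fun φ => by
    obtain ⟨c, hc⟩ := hunits (hunit φ).unit
    exact ⟨c, hc⟩
  choose κ hκ' using hκ
  have hsa : ∀ φ : A →ₐ[k] k, Comod.act k A B φ a = κ φ • a := by
    intro φ
    rw [hcφ φ, ← hκ' φ, Algebra.smul_def, mul_comm]
  have hsb : ∀ φ : A →ₐ[k] k, Comod.act k A B φ b = κ φ • b := by
    intro φ
    have h := hinv φ
    rw [hsa φ, smul_mul_assoc, ← mul_smul_comm] at h
    exact (mul_left_cancel₀ ha h).symm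
  obtain ⟨w, hw⟩ := exists_weight a ha κ hsa
  exact ⟨w, fun φ => by rw [hsa, evG_val, hw], fun φ => by rw [hsb, evG_val, hw]⟩

end Groth.Agent.Lib.Helper7.PV
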