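import Groth.Agent.Lib.Helper7.PV5

/-!
# Invariant fractions on factorial G-varieties (Popov–Vinberg), main theorem (helper7)
-/

universe u

open TensorProduct

namespace Groth.Agent.Lib.Helper7.PV

open HopfRep Groth.Agent.Lib.Helper7.GenSubgp Groth.Agent.Lib.Helper7.Comod
  Groth.Agent.Lib.Helper7.Rosen Groth.Agent.Lib.Helper7.InvFrac Groth.Agent.Lib.Helper7.Lin

section Frac

variable {k : Type u} [Field k] {A : Type u} [CommRing A] [HopfAlgebra k A]
  {B : Type u} [CommRing B] [Algebra k B] [HopfRep.Comod k A B] [GLin.IsCoactAlg k A B]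

lemma semi_fraction {c h : B} {w W0 : GroupLike k A} {N : ℕ} (hc : IsSemi c w) (hh : IsSemi h W0)
    (hw : w = W0 ^ N) (φ : A →ₐ[k] k) :
    Comod.act k A B φ c * h ^ N = c * (Comod.act k A B φ h) ^ N := by
  rw [hc φ, hh φ, hw, map_pow, Units.val_pow_eq_pow_val, smul_pow, smul_mul_assoc, mul_smul_comm]

end Frac

section Grp

variable {G : Type*} [CommGroup G]

lemma key_identity (F : Finset G) (w : G) (n : G → ℤ) (hn : w⁻¹ = ∏ v ∈ F, v ^ n v) :
    ∃ (N : ℕ) (e : G → ℕ), w * ∏ v ∈ F, v ^ e v = (∏ v ∈ F, v) ^ N := by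
  classical
  refine ⟨∑ v ∈ F, (n v).natAbs, fun v => (n v + ((∑ v ∈ F, (n v).natAbs : ℕ) : ℤ)).toNat, ?_⟩
  set N : ℕ := ∑ v ∈ F, (n v).natAbs with hN
  have he : ∀ v ∈ F, ((n v + (N : ℤ)).toNat : ℤ) = n v + N := by
    intro v hv
    apply Int.toNat_of_nonneg
    have h1 : (n v).natAbs ≤ N := Finset.single_le_sum (f := fun v => (n v).natAbs)
      (fun _ _ => Nat.zero_le _) hv
    have h2 : -(n v) ≤ ((n v).natAbs : ℤ) := by
      rw [Int.natCast_natAbs]; exact neg_le_abs (n v)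
    have h3 : ((n v).natAbs : ℤ) ≤ (N : ℤ) := by exact_mod_cast h1
    linarith
  have h1 : ∏ v ∈ F, v ^ (n v + (N : ℤ)).toNat = ∏ v ∈ F, (v ^ n v * v ^ N) := by
    apply Finset.prod_congr rfl
    intro v hv
    rw [← zpow_natCast v (n v + (N : ℤ)).toNat, he v hv, zpow_add, zpow_natCast]
  rw [h1, Finset.prod_mul_distrib, ← hn, Finset.prod_pow, ← mul_assoc, mul_inv_cancel, one_mul]

end Grp

variable {k : Type u} [Field k] [IsAlgClosed k] {A : Type u} [CommRing A] [HopfAlgebra k A]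
  [Algebra.FiniteType k A] [IsReduced A]
  {B : Type u} [CommRing B] [Algebra k B] [IsDomain B] [HopfRep.Comod k A B] [GLin.IsCoactAlg k A B]

/-- Popov–Vinberg: invariant fractions on a factorial `G`-variety with only constant units are
quotients of semi-invariants of the same weight, hence invariant fractions with denominator a
power of one fixed semi-invariant. -/
theorem main [UniqueFactorizationMonoid B] (hunits : ∀ u : Bˣ, ∃ c : k, algebraMap k B c = u) :
    ∃ h : B, h ≠ 0 ∧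
      (∀ φ : A →ₐ[k] k, ∃ (N : ℕ) (u : B), Comod.act k A B φ h * u = h ^ N) ∧
      ∀ a b : B, b ≠ 0 →
        (∀ φ : A →ₐ[k] k, Comod.act k A B φ a * b = a * Comod.act k A B φ b) →
        ∃ (c d : B) (r t : ℕ), d ≠ 0 ∧
          (∀ φ : A →ₐ[k] k, Comod.act k A B φ c * h ^ r = c * (Comod.act k A B φ h) ^ r) ∧
          (∀ φ : A →ₐ[k] k, Comod.act k A B φ d * h ^ t = d * (Comod.act k A B φ h) ^ t) ∧
          a * d * h ^ r = b * c * h ^ t := by
  classical
  set W : Set (GroupLike k A) := {w | ∃ s : B, s ≠ 0 ∧ IsSemi s w} with hW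
  obtain ⟨F, hFW, hFcl⟩ := exists_finset_subset_closure_eq W (subgroup_groupLike_fg k A _)
  have hF : ∀ w ∈ F, ∃ s : B, s ≠ 0 ∧ IsSemi s w := fun w hw => hFW hw
  choose! s hs0 hsw using hF
  set h : B := ∏ w ∈ F, s w with hh
  set W0 : GroupLike k A := ∏ w ∈ F, w with hW0
  have hhs : IsSemi h W0 := IsSemi.prod F s (fun w => w) hsw
  have hh0 : h ≠ 0 := Finset.prod_ne_zero_iff.mpr hs0
  refine ⟨h, hh0, ?_, ?_⟩
  · intro φ
    refine ⟨1, algebraMap k B (((evG φ W0)⁻¹ : kˣ) : k), ?_⟩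
    rw [hhs φ, pow_one, Algebra.smul_def, mul_comm (algebraMap k B _) h, mul_assoc, ← map_mul,
      Units.mul_inv, map_one, _root_.mul_one]
  · intro a b hb hinv
    by_cases ha : a = 0
    · refine ⟨0, 1, 0, 0, one_ne_zero, ?_, ?_, ?_⟩
      · intro φ; simp
      · intro φ; rw [act_one]; simp
      · simp [ha]
    · obtain ⟨a₀, b₀, d', hrel, hda, hdb⟩ := UniqueFactorizationMonoid.exists_reduced_factors a ha b
      have hd' : d' ≠ 0 := by rintro rfl; exact ha (by rw [← hda, zero_mul])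
      have ha₀ : a₀ ≠ 0 := by rintro rfl; exact ha (by rw [← hda, mul_zero])
      have hb₀ : b₀ ≠ 0 := by rintro rfl; exact hb (by rw [← hdb, mul_zero])
      have hred : ∀ φ : A →ₐ[k] k, Comod.act k A B φ a₀ * b₀ = a₀ * Comod.act k A B φ b₀ := by
        intro φ
        have h1 := hinv φ
        rw [← hda, ← hdb, act_mul, act_mul] at h1
        have h2 : Comod.act k A B φ d' * d' ≠ 0 := mul_ne_zero (act_ne_zero φ d' hd') hd'
        apply mul_left_cancel₀ h2
        linear_combination h1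
      obtain ⟨w, hwa, hwb⟩ := exists_semi_of_relPrime hunits a₀ b₀ ha₀ hrel hred
      have hwW : w⁻¹ ∈ Subgroup.closure (F : Set (GroupLike k A)) := by
        rw [hFcl]
        exact Subgroup.inv_mem _ (Subgroup.subset_closure ⟨a₀, ha₀, hwa⟩)
      obtain ⟨n, hn⟩ := exists_zpow_of_mem_closure F w⁻¹ hwW
      obtain ⟨N, e, hkey⟩ := key_identity F w n hn
      set m : B := ∏ v ∈ F, s v ^ e v with hm
      have hms : IsSemi m (∏ v ∈ F, v ^ e v) :=
        IsSemi.prod F (fun v => s v ^ e v) (fun v => v ^ e v) (fun v hv => (hsw v hv).pow (e v))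
      have hm0 : m ≠ 0 := Finset.prod_ne_zero_iff.mpr (fun v hv => pow_ne_zero _ (hs0 v hv))
      refine ⟨a₀ * m, b₀ * m, N, N, mul_ne_zero hb₀ hm0, ?_, ?_, ?_⟩
      · exact semi_fraction (hwa.mul hms) hhs hkey
      · exact semi_fraction (hwb.mul hms) hhs hkey
      · rw [← hda, ← hdb]; ring

end Groth.Agent.Lib.Helper7.PV
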