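import Mathlib

/-!
# Padded characteristic polynomial for a finite projective algebra (helper7)

For a finite projective `R`-algebra `A` and any commutative `R`-algebra `T`, multiplication by
`y ∈ T ⊗ A` is conjugated into an endomorphism of the free module `T^n` through a dual basis; its
characteristic polynomial `cpP` is monic, compatible with base change, invariant under `T`-algebra
automorphisms of `T ⊗ A`, and kills `y`.
-/

set_option autoImplicit false

namespace Groth.Agent.Lib.Helper7.PadCP

open TensorProduct Module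

universe u v w w'

section Pad

variable (R : Type u) [CommRing R] (A : Type v) [CommRing A] [Algebra R A]
  [Module.Finite R A] [Module.Projective R A]

noncomputable def padN : ℕ := (Module.Finite.exists_comp_eq_id_of_projective R A).choose

noncomputable def padP : (Fin (padN R A) → R) →ₗ[R] A :=
  (Module.Finite.exists_comp_eq_id_of_projective R A).choose_spec.choose

noncomputable def padI : A →ₗ[R] (Fin (padN R A) → R) :=
  (Module.Finite.exists_comp_eq_id_of_projective R A).choose_spec.choose_spec.choose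

lemma padP_comp_padI : padP R A ∘ₗ padI R A = LinearMap.id :=
  (Module.Finite.exists_comp_eq_id_of_projective R A).choose_spec.choose_spec.choose_spec.2.2

/-- dual basis vectors. -/
noncomputable def pu (j : Fin (padN R A)) : A := padP R A (fun l => if j = l then 1 else 0)

/-- dual basis functionals. -/
noncomputable def pc (j : Fin (padN R A)) : A →ₗ[R] R := LinearMap.proj j ∘ₗ padI R A

lemma sum_pc_smul_pu (a : A) : ∑ j, pc R A j a • pu R A j = a := by
  have h := LinearMap.congr_fun (padP_comp_padI R A) a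
  simp only [LinearMap.comp_apply, LinearMap.id_apply] at h
  conv_rhs => rw [← h]
  rw [LinearMap.pi_apply_eq_sum_univ (padP R A) (padI R A a)]
  rfl

variable (T : Type w) [CommRing T] [Algebra R T]

/-- coordinate functionals on `T ⊗ A`. -/
noncomputable def cT (j : Fin (padN R A)) : T ⊗[R] A →ₗ[T] T :=
  (TensorProduct.AlgebraTensorModule.rid R T T).toLinearMap ∘ₗ (pc R A j).baseChange T

lemma cT_tmul (j : Fin (padN R A)) (t : T) (a : A) :
    cT R A T j (t ⊗ₜ[R] a) = pc R A j a • t := by
  simp [cT]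

/-- coordinates. -/
noncomputable def JT : T ⊗[R] A →ₗ[T] (Fin (padN R A) → T) := LinearMap.pi (cT R A T)

lemma JT_apply (z : T ⊗[R] A) (j : Fin (padN R A)) : JT R A T z j = cT R A T j z := rfl

/-- reconstruction. -/
noncomputable def PT : (Fin (padN R A) → T) →ₗ[T] T ⊗[R] A :=
  Fintype.linearCombination T (fun j => (1 : T) ⊗ₜ[R] pu R A j)

lemma PT_apply (v : Fin (padN R A) → T) :
    PT R A T v = ∑ j, v j • ((1 : T) ⊗ₜ[R] pu R A j) := by
  simp [PT, Fintype.linearCombination_apply]

lemma PT_JT (z : T ⊗[R] A) : PT R A T (JT R A T z) = z := by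
  induction z using TensorProduct.induction_on with
  | zero => simp
  | tmul t a =>
    rw [PT_apply]
    simp only [JT_apply, cT_tmul]
    conv_rhs => rw [← sum_pc_smul_pu R A a, TensorProduct.tmul_sum]
    refine Finset.sum_congr rfl (fun j _ => ?_)
    rw [TensorProduct.smul_tmul', smul_eq_mul, mul_one, TensorProduct.smul_tmul]
  | add y z hy hz => simp only [map_add, hy, hz]

/-- the padded multiplication endomorphism. -/
noncomputable def Phi (y : T ⊗[R] A) : Module.End T (Fin (padN R A) → T) :=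
  JT R A T ∘ₗ LinearMap.mulLeft T y ∘ₗ PT R A T

lemma Phi_apply (y : T ⊗[R] A) (v : Fin (padN R A) → T) :
    Phi R A T y v = JT R A T (y * PT R A T v) := rfl

/-- the padded characteristic polynomial. -/
noncomputable def cpP (y : T ⊗[R] A) : Polynomial T := (Phi R A T y).charpoly

lemma cpP_monic (y : T ⊗[R] A) : (cpP R A T y).Monic := LinearMap.charpoly_monic _

variable {T} {T' : Type w'} [CommRing T'] [Algebra R T']

lemma cT_map (φ : T →ₐ[R] T') (j : Fin (padN R A)) (z : T ⊗[R] A) :
    cT R A T' j (Algebra.TensorProduct.map φ (AlgHom.id R A) z) = φ (cT R A T j z) := by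
  induction z using TensorProduct.induction_on with
  | zero => simp
  | tmul t a =>
    rw [Algebra.TensorProduct.map_tmul, cT_tmul, cT_tmul, AlgHom.id_apply, map_smul]
  | add y z hy hz => simp only [map_add, hy, hz]

lemma PT_map (φ : T →ₐ[R] T') (v : Fin (padN R A) → T) :
    Algebra.TensorProduct.map φ (AlgHom.id R A) (PT R A T v) = PT R A T' (fun j => φ (v j)) := by
  rw [PT_apply, PT_apply, map_sum]
  refine Finset.sum_congr rfl (fun j _ => ?_)
  rw [TensorProduct.smul_tmul', TensorProduct.smul_tmul', Algebra.TensorProduct.map_tmul]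
  simp

lemma Phi_map (φ : T →ₐ[R] T') (y : T ⊗[R] A) (v : Fin (padN R A) → T) (j : Fin (padN R A)) :
    Phi R A T' (Algebra.TensorProduct.map φ (AlgHom.id R A) y) (fun l => φ (v l)) j =
      φ (Phi R A T y v j) := by
  rw [Phi_apply, Phi_apply, JT_apply, JT_apply, ← PT_map, ← map_mul, cT_map]

lemma cpP_map (φ : T →ₐ[R] T') (y : T ⊗[R] A) :
    (cpP R A T y).map (φ : T →+* T') =
      cpP R A T' (Algebra.TensorProduct.map φ (AlgHom.id R A) y) := by
  classical
  unfold cpP
  rw [← LinearMap.charpoly_toMatrix (Phi R A T y) (Pi.basisFun T _),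
    ← LinearMap.charpoly_toMatrix (Phi R A T' _) (Pi.basisFun T' _),
    LinearMap.toMatrix_eq_toMatrix', LinearMap.toMatrix_eq_toMatrix', ← Matrix.charpoly_map]
  congr 1
  ext j l
  rw [Matrix.map_apply, LinearMap.toMatrix'_apply, LinearMap.toMatrix'_apply]
  have := Phi_map R A φ y (Pi.single l 1) j
  refine Eq.trans this.symm ?_
  have h2 : (fun l' => φ ((Pi.single l (1 : T) : Fin (padN R A) → T) l')) =
      (Pi.single l (1 : T') : Fin (padN R A) → T') := by
    funext l'
    rw [Pi.single_apply, Pi.single_apply]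
    split_ifs <;> simp
  rw [h2]

variable (T)

lemma Phi_comp_JT (y : T ⊗[R] A) :
    (Phi R A T y).comp (JT R A T) = (JT R A T).comp (LinearMap.mulLeft T y) := by
  apply LinearMap.ext
  intro z
  simp only [LinearMap.comp_apply, Phi_apply, PT_JT, LinearMap.mulLeft_apply]

lemma aeval_Phi_JT (y : T ⊗[R] A) (q : Polynomial T) (z : T ⊗[R] A) :
    Polynomial.aeval (Phi R A T y) q (JT R A T z) =
      JT R A T (Polynomial.aeval (LinearMap.mulLeft T y) q z) := by
  induction q using Polynomial.induction_on generalizing z with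
  | C a => simp [Polynomial.aeval_C, Module.algebraMap_end_apply]
  | add p q hp hq => simp only [map_add, LinearMap.add_apply, hp, hq]
  | monomial n a h =>
    rw [show Polynomial.C a * Polynomial.X ^ (n + 1) =
      (Polynomial.C a * Polynomial.X ^ n) * Polynomial.X by rw [pow_succ, mul_assoc]]
    rw [map_mul (Polynomial.aeval (Phi R A T y)), map_mul (Polynomial.aeval (LinearMap.mulLeft T y)),
      Polynomial.aeval_X, Polynomial.aeval_X, Module.End.mul_apply, Module.End.mul_apply]
    have h1 := LinearMap.congr_fun (Phi_comp_JT R A T y) z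
    simp only [LinearMap.comp_apply] at h1
    rw [h1, h]

lemma aeval_cpP (y : T ⊗[R] A) : Polynomial.aeval y (cpP R A T y) = 0 := by
  have h := LinearMap.aeval_self_charpoly (Phi R A T y)
  have h1 := aeval_Phi_JT R A T y (cpP R A T y) 1
  unfold cpP at h1
  rw [h, LinearMap.zero_apply] at h1
  have h2 : Polynomial.aeval (Algebra.lmul T (T ⊗[R] A) y) (cpP R A T y) =
      Algebra.lmul T (T ⊗[R] A) (Polynomial.aeval y (cpP R A T y)) :=
    Polynomial.aeval_algHom_apply (Algebra.lmul T (T ⊗[R] A)) y _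
  have h3 : Algebra.lmul T (T ⊗[R] A) y = LinearMap.mulLeft T y := rfl
  rw [h3] at h2
  unfold cpP at h2
  rw [h2] at h1
  have h4 := congrArg (PT R A T) h1
  rw [PT_JT, map_zero] at h4
  have h5 : Algebra.lmul T (T ⊗[R] A) (Polynomial.aeval y (Phi R A T y).charpoly) 1 =
      Polynomial.aeval y (Phi R A T y).charpoly := by
    simp
  unfold cpP
  rw [← h5, ← h4]

/-- invariance under linear automorphisms which are multiplicative. -/
lemma cpP_conj (θ : (T ⊗[R] A) ≃ₐ[T] (T ⊗[R] A)) (y : T ⊗[R] A) :
    cpP R A T (θ y) = cpP R A T y := by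
  set J := JT R A T with hJ
  set P := PT R A T with hP
  have h0 : ∀ z, P (J z) = z := PT_JT R A T
  let Θ₁ : Module.End T (Fin (padN R A) → T) :=
    J ∘ₗ θ.toLinearMap ∘ₗ P + (LinearMap.id - J ∘ₗ P)
  let Θ₂ : Module.End T (Fin (padN R A) → T) :=
    J ∘ₗ θ.symm.toLinearMap ∘ₗ P + (LinearMap.id - J ∘ₗ P)
  have e1 : ∀ v, Θ₁ v = J (θ (P v)) + (v - J (P v)) := fun v => rfl
  have e2 : ∀ v, Θ₂ v = J (θ.symm (P v)) + (v - J (P v)) := fun v => rfl
  have p1 : ∀ v, P (Θ₁ v) = θ (P v) := by
    intro v
    rw [e1, map_add, map_sub, h0, h0, sub_self, add_zero]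
  have p2 : ∀ v, P (Θ₂ v) = θ.symm (P v) := by
    intro v
    rw [e2, map_add, map_sub, h0, h0, sub_self, add_zero]
  have h12 : Θ₁ ∘ₗ Θ₂ = LinearMap.id := by
    apply LinearMap.ext
    intro v
    rw [LinearMap.comp_apply, LinearMap.id_apply, e1, p2, AlgEquiv.apply_symm_apply, e2]
    abel
  have h21 : Θ₂ ∘ₗ Θ₁ = LinearMap.id := by
    apply LinearMap.ext
    intro v
    rw [LinearMap.comp_apply, LinearMap.id_apply, e2, p1, AlgEquiv.symm_apply_apply, e1]
    abel
  let e : (Fin (padN R A) → T) ≃ₗ[T] (Fin (padN R A) → T) := LinearEquiv.ofLinearMap Θ₁ Θ₂ h12 h21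
  have h := LinearEquiv.charpoly_conj e (Phi R A T y)
  have h2 : e.conj (Phi R A T y) = Phi R A T (θ y) := by
    apply LinearMap.ext
    intro v
    rw [LinearEquiv.conj_apply]
    change Θ₁ (Phi R A T y (Θ₂ v)) = _
    rw [Phi_apply, Phi_apply, p2, e1, h0, map_mul, AlgEquiv.apply_symm_apply]
    change J (θ y * P v) + (J (y * θ.symm (P v)) - J (y * θ.symm (P v))) = _
    rw [sub_self, add_zero]
  unfold cpP
  rw [← h2, h]

end Pad

section Roots

variable (R : Type u) [CommRing R] (A : Type v) [CommRing A] [Algebra R A]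
  [Module.Finite R A] [Module.Projective R A]
variable (K : Type w) [Field K] [IsAlgClosed K] [Algebra R K]

/-- nonzero roots of the padded characteristic polynomial over an algebraically closed field are
values of points. -/
theorem exists_algHom_of_isRoot (y : K ⊗[R] A) (c : K) (hc : c ≠ 0)
    (h : (cpP R A K y).IsRoot c) :
    ∃ γ : A →ₐ[R] K,
      Algebra.TensorProduct.lift (AlgHom.id R K) γ (fun _ _ => Commute.all _ _) y = c := by
  have hev := (Module.End.hasEigenvalue_iff_isRoot_charpoly (Phi R A K y) c).2 h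
  obtain ⟨v, hv⟩ := hev.exists_hasEigenvector
  have hv1 : Phi R A K y v = c • v := hv.apply_eq_smul
  have hv2 : v ≠ 0 := hv.2
  set w := PT R A K v with hw
  have hyw : y * w = c • w := by
    have := congrArg (PT R A K) hv1
    rwa [Phi_apply, PT_JT, map_smul] at this
  have hw0 : w ≠ 0 := by
    intro h0
    rw [Phi_apply, ← hw, h0, mul_zero, map_zero] at hv1
    exact hv2 ((smul_eq_zero.1 hv1.symm).resolve_left hc)
  have hnu : (y - algebraMap K (K ⊗[R] A) c) ∈ nonunits (K ⊗[R] A) := by
    intro hu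
    apply hw0
    have h1 : (y - algebraMap K (K ⊗[R] A) c) * w = 0 := by
      rw [sub_mul, hyw, Algebra.smul_def, sub_self]
    exact (hu.mul_right_eq_zero).1 h1
  obtain ⟨𝔐, hmax, hmem⟩ := exists_max_ideal_of_mem_nonunits hnu
  letI : Field ((K ⊗[R] A) ⧸ 𝔐) := Ideal.Quotient.field 𝔐
  haveI : Module.Finite K ((K ⊗[R] A) ⧸ 𝔐) :=
    Module.Finite.of_surjective (Ideal.Quotient.mkₐ K 𝔐).toLinearMap
      (Ideal.Quotient.mkₐ_surjective K 𝔐)
  haveI : Algebra.IsIntegral K ((K ⊗[R] A) ⧸ 𝔐) := Algebra.IsIntegral.of_finite K _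
  have hbij : Function.Bijective (algebraMap K ((K ⊗[R] A) ⧸ 𝔐)) :=
    IsAlgClosed.algebraMap_bijective_of_isIntegral
  let e : K ≃ₐ[K] ((K ⊗[R] A) ⧸ 𝔐) := AlgEquiv.ofBijective (Algebra.ofId K _) hbij
  let g : K ⊗[R] A →ₐ[K] K := (e.symm : _ →ₐ[K] K).comp (Ideal.Quotient.mkₐ K 𝔐)
  have hg : g y = c := by
    have h1 : g (y - algebraMap K (K ⊗[R] A) c) = 0 := by
      change e.symm (Ideal.Quotient.mk 𝔐 (y - algebraMap K (K ⊗[R] A) c)) = 0
      rw [Ideal.Quotient.eq_zero_iff_mem.2 hmem, map_zero]
    rw [map_sub, AlgHom.commutes, sub_eq_zero] at h1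
    exact h1
  refine ⟨(g.restrictScalars R).comp Algebra.TensorProduct.includeRight, ?_⟩
  rw [← hg]
  generalize y = z
  induction z using TensorProduct.induction_on with
  | zero => simp
  | tmul t a =>
    rw [Algebra.TensorProduct.lift_tmul]
    change t * g ((1 : K) ⊗ₜ[R] a) = g (t ⊗ₜ[R] a)
    have : t ⊗ₜ[R] a = t • ((1 : K) ⊗ₜ[R] a) := by
      rw [TensorProduct.smul_tmul', smul_eq_mul, mul_one]
    rw [this, map_smul, smul_eq_mul]
  | add y z hy hz => simp only [map_add, hy, hz]

end Roots

end Groth.Agent.Lib.Helper7.PadCP
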