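import Mathlib
import Groth.Agent.Lib.Helper7.PiZero
import Groth.Agent.Lib.Helper7.HopfSubGen

/-!
# The separable elements of a commutative Hopf algebra over an algebraically closed field form a
Hopf subalgebra (helper7)
-/

universe u v

open TensorProduct

namespace Groth.Agent.Lib.Helper7.PiZero

open Groth.Agent.Lib.Helper7.HopfSub Groth.Agent.Lib.Helper7.HopfSubGen
  Groth.Agent.Lib.Helper7.Comod

section Sep

variable {k : Type u} [Field k] {B : Type v} {B' : Type*} [CommRing B] [CommRing B'] [Algebra k B]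
  [Algebra k B']

lemma isSeparable_map (f : B →ₐ[k] B') {b : B} (hb : IsSeparable k b) : IsSeparable k (f b) := by
  have h0 : Polynomial.aeval (f b) (minpoly k b) = 0 := by
    rw [Polynomial.aeval_algHom_apply, minpoly.aeval, map_zero]
  exact Polynomial.Separable.of_dvd hb (minpoly.dvd k (f b) h0)

lemma isSeparable_of_isIdempotentElem {e : B} (he : IsIdempotentElem e) : IsSeparable k e := by
  have h0 : Polynomial.aeval e ((Polynomial.X : Polynomial k) * (Polynomial.X - Polynomial.C 1)) = 0 := by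
    rw [map_mul, map_sub, Polynomial.aeval_X, Polynomial.aeval_C, map_one, mul_sub, mul_one, he.eq,
      sub_self]
  have hsep : ((Polynomial.X : Polynomial k) * (Polynomial.X - Polynomial.C 1)).Separable := by
    apply Polynomial.Separable.mul Polynomial.separable_X (Polynomial.separable_X_sub_C)
    exact ⟨1, -1, by simp⟩
  exact Polynomial.Separable.of_dvd hsep (minpoly.dvd k e h0)

end Sep

section Hopf

variable {k : Type u} [Field k] [IsAlgClosed k] {A : Type v} [CommRing A] [HopfAlgebra k A]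

/-- the comultiplication of a separable element is a combination of products of idempotents. -/
theorem comul_mem_span_of_isSeparable {a : A} (ha : IsSeparable k a) :
    Coalgebra.comul (R := k) a ∈ Submodule.span k (idemTensors k A A) := by
  obtain ⟨B', haB', hfg, hB'⟩ := exists_fg_hopfSub_mem (k := k) a
  haveI : Algebra.FiniteType k ↥B' := (Subalgebra.fg_iff_finiteType B').1 hfg
  obtain ⟨u', hu'⟩ := hB'.comul_mem a haB'
  have hsep : IsSeparable k (Coalgebra.comul (R := k) a) :=
    isSeparable_map (Bialgebra.comulAlgHom k A) ha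
  have hu'sep : IsSeparable k u' := by
    rw [← isSeparable_map_iff (ιι B') (ιι_injective B'), ιι_apply, hu']
    exact hsep
  have h1 := separable_mem_span (k := k) hu'sep
  have h2 : (Submodule.span k (idemTensors k ↥B' ↥B')).map (ιι B').toLinearMap ≤
      Submodule.span k (idemTensors k A A) := by
    rw [Submodule.map_span, Submodule.span_le]
    rintro _ ⟨_, ⟨ε, η, hε, hη, rfl⟩, rfl⟩
    exact Submodule.subset_span ⟨(ε : A), (η : A), hε.map B'.val, hη.map B'.val, rfl⟩
  have h3 := h2 ⟨u', h1, rfl⟩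
  change ιι B' u' ∈ _ at h3
  rwa [ιι_apply, hu'] at h3

/-- the subalgebra of separable elements is a Hopf subalgebra. -/
theorem isHopfSub_of_separable (B₀ : Subalgebra k A) (hB₀ : ∀ a : A, a ∈ B₀ ↔ IsSeparable k a) :
    IsHopfSub B₀ := by
  refine ⟨fun b hb => ?_, fun b hb => ?_⟩
  · have h1 := comul_mem_span_of_isSeparable ((hB₀ b).1 hb)
    have h2 : Submodule.span k (idemTensors k A A) ≤
        LinearMap.range (TensorProduct.map B₀.val.toLinearMap B₀.val.toLinearMap) := by
      rw [Submodule.span_le]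
      rintro _ ⟨ε, η, hε, hη, rfl⟩
      refine ⟨(⟨ε, (hB₀ ε).2 (isSeparable_of_isIdempotentElem hε)⟩ : ↥B₀) ⊗ₜ[k]
        (⟨η, (hB₀ η).2 (isSeparable_of_isIdempotentElem hη)⟩ : ↥B₀), ?_⟩
      rw [TensorProduct.map_tmul]
      rfl
    exact h2 h1
  · rw [hB₀]
    exact isSeparable_map (HopfAlgebra.antipodeAlgHom k A) ((hB₀ b).1 hb)

omit [IsAlgClosed k] in
/-- the intersection of two Hopf subalgebras is a Hopf subalgebra. -/
theorem isHopfSub_inf {B C : Subalgebra k A} (hB : IsHopfSub B) (hC : IsHopfSub C) :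
    IsHopfSub (B ⊓ C) := by
  refine ⟨fun b hb => ?_, fun b hb => ⟨hB.antipode_mem b hb.1, hC.antipode_mem b hb.2⟩⟩
  have h1 : IsSubcoalg (Subalgebra.toSubmodule B) := fun x hx => hB.comul_mem x hx
  have h2 : IsSubcoalg (Subalgebra.toSubmodule C) := fun x hx => hC.comul_mem x hx
  exact isSubcoalg_inf h1 h2 b hb

/-- `B₀ ⊓ C` is the largest cocommutative Hopf subalgebra contained in the separable elements. -/
theorem isGreatest_inf (B₀ : Subalgebra k A) (hB₀ : ∀ a : A, a ∈ B₀ ↔ IsSeparable k a)
    (C : Subalgebra k A) (hC : IsHopfSub C)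
    (hCc : ∀ c ∈ C, TensorProduct.comm k A A (Coalgebra.comul c) = Coalgebra.comul c)
    (hCmax : ∀ D : Subalgebra k A, IsHopfSub D →
      (∀ d ∈ D, TensorProduct.comm k A A (Coalgebra.comul d) = Coalgebra.comul d) → D ≤ C) :
    IsGreatest {D : Subalgebra k A | IsHopfSub D ∧
      (∀ d ∈ D, TensorProduct.comm k A A (Coalgebra.comul d) = Coalgebra.comul d) ∧ D ≤ B₀}
      (B₀ ⊓ C) := by
  refine ⟨⟨isHopfSub_inf (isHopfSub_of_separable B₀ hB₀) hC, fun d hd => hCc d hd.2,
    inf_le_left⟩, ?_⟩
  rintro D ⟨hD, hDc, hDB⟩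
  exact le_inf hDB (hCmax D hD hDc)

end Hopf

end Groth.Agent.Lib.Helper7.PiZero
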