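import Groth.Agent.Lib.Helper7.Shear

/-!
# The coaction on the polynomial ring `B[X]` of a comodule algebra `B` (helper7)
-/

set_option autoImplicit false

namespace Groth.Agent.Lib.Helper7.PolyCoact

open TensorProduct HopfRep Module Polynomial Groth.Agent.Lib.Helper7.PadCP
  Groth.Agent.Lib.Helper7.Shear

universe u v w w'

section CoF

variable (k : Type u) [CommRing k] (A : Type v) [CommRing A] [HopfAlgebra k A]
variable (T : Type w) [CommRing T] [Algebra k T]

/-- `t ⊗ a ↦ Σ (t ⊗ a₁) ⊗ a₂` as an algebra map. -/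
noncomputable def coF : T ⊗[k] A →ₐ[k] (T ⊗[k] A) ⊗[k] A :=
  (Algebra.TensorProduct.assoc k k k T A A).symm.toAlgHom.comp
    (Algebra.TensorProduct.map (AlgHom.id k T) (Bialgebra.comulAlgHom k A))

lemma coF_apply (z : T ⊗[k] A) :
    coF k A T z = (TensorProduct.assoc k T A A).symm
      (LinearMap.lTensor T (Coalgebra.comul (R := k)) z) := by
  induction z using TensorProduct.induction_on with
  | zero => simp
  | tmul t a =>
    unfold coF
    rw [AlgHom.comp_apply, Algebra.TensorProduct.map_tmul, LinearMap.lTensor_tmul]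
    change (Algebra.TensorProduct.assoc k k k T A A).symm (t ⊗ₜ[k] Coalgebra.comul (R := k) a) = _
    generalize Coalgebra.comul (R := k) a = d
    induction d using TensorProduct.induction_on with
    | zero => simp
    | tmul a' a'' => rfl
    | add y z hy hz => simp only [map_add, TensorProduct.tmul_add, hy, hz]
  | add y z hy hz => simp only [map_add, hy, hz]

variable {T} {T' : Type w'} [CommRing T'] [Algebra k T']

lemma coF_map (φ : T →ₐ[k] T') (z : T ⊗[k] A) :
    coF k A T' (Algebra.TensorProduct.map φ (AlgHom.id k A) z) =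
      Algebra.TensorProduct.map (Algebra.TensorProduct.map φ (AlgHom.id k A)) (AlgHom.id k A)
        (coF k A T z) := by
  induction z using TensorProduct.induction_on with
  | zero => simp
  | tmul t a =>
    rw [Algebra.TensorProduct.map_tmul, coF_apply, coF_apply, LinearMap.lTensor_tmul,
      LinearMap.lTensor_tmul, AlgHom.id_apply]
    generalize Coalgebra.comul (R := k) a = d
    induction d using TensorProduct.induction_on with
    | zero => simp
    | tmul a' a'' =>
      rw [TensorProduct.assoc_symm_tmul, TensorProduct.assoc_symm_tmul,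
        Algebra.TensorProduct.map_tmul, Algebra.TensorProduct.map_tmul]
      rfl
    | add y z hy hz => simp only [map_add, TensorProduct.tmul_add, hy, hz]
  | add y z hy hz => simp only [map_add, hy, hz]

end CoF

section Poly

variable {k : Type u} [CommRing k] {A : Type v} [CommRing A] [HopfAlgebra k A]
variable {B : Type w} [CommRing B] [Algebra k B] [Comod k A B] [GLin.IsCoactAlg k A B]

/-- `C ⊗ id : B ⊗ A → B[X] ⊗ A`. -/
noncomputable abbrev CA : B ⊗[k] A →ₐ[k] B[X] ⊗[k] A :=
  Algebra.TensorProduct.map (CAlgHom (R := k) (A := B)) (AlgHom.id k A)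

variable (k A B) in
/-- the coaction on `B[X]`. -/
noncomputable def rhoT : B[X] →ₐ[k] B[X] ⊗[k] A :=
  aevalTower ((CA (k := k) (A := A) (B := B)).comp (GLin.coactAlgHom k A B)) ((X : B[X]) ⊗ₜ[k] (1 : A))

lemma rhoT_C (b : B) : rhoT k A B (C b) = CA (GLin.coactAlgHom k A B b) := by
  unfold rhoT
  rw [aevalTower_C]
  rfl

lemma rhoT_X : rhoT k A B X = (X : B[X]) ⊗ₜ[k] (1 : A) := by
  unfold rhoT
  rw [aevalTower_X]

lemma map_rhoT_CA (y : B ⊗[k] A) :
    Algebra.TensorProduct.map (rhoT k A B) (AlgHom.id k A) (CA y) =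
      Algebra.TensorProduct.map (CA (k := k) (A := A) (B := B)) (AlgHom.id k A)
        (Algebra.TensorProduct.map (GLin.coactAlgHom k A B) (AlgHom.id k A) y) := by
  induction y using TensorProduct.induction_on with
  | zero => simp
  | tmul t a =>
    simp only [Algebra.TensorProduct.map_tmul, AlgHom.id_apply]
    rw [show (CAlgHom (R := k) (A := B)) t = C t from rfl, rhoT_C]
  | add y z hy hz => simp only [map_add, hy, hz]

theorem rhoT_coassoc (β : B[X]) :
    Algebra.TensorProduct.map (rhoT k A B) (AlgHom.id k A) (rhoT k A B β) =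
      (TensorProduct.assoc k B[X] A A).symm
        (LinearMap.lTensor B[X] (Coalgebra.comul (R := k)) (rhoT k A B β)) := by
  rw [← coF_apply]
  have h : (Algebra.TensorProduct.map (rhoT k A B) (AlgHom.id k A)).comp (rhoT k A B) =
      (coF k A B[X]).comp (rhoT k A B) := by
    apply Polynomial.algHom_ext'
    · apply AlgHom.ext
      intro b
      simp only [AlgHom.comp_apply]
      rw [show (CAlgHom (R := k) (A := B)) b = C b from rfl, rhoT_C, map_rhoT_CA, coF_map,
        coassoc_apply, ← coF_apply]
    · simp only [AlgHom.comp_apply]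
      rw [rhoT_X, Algebra.TensorProduct.map_tmul, rhoT_X, coF_apply, LinearMap.lTensor_tmul,
        AlgHom.id_apply]
      have : Coalgebra.comul (R := k) (1 : A) = (1 : A) ⊗ₜ[k] (1 : A) := Bialgebra.comul_one
      rw [this, TensorProduct.assoc_symm_tmul]
  exact AlgHom.congr_fun h β

lemma epsT_CA (y : B ⊗[k] A) : epsT k A B[X] (CA y) = C (epsT k A B y) := by
  induction y using TensorProduct.induction_on with
  | zero => simp
  | tmul t a =>
    rw [Algebra.TensorProduct.map_tmul, epsT_tmul, epsT_tmul, AlgHom.id_apply, C_mul]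
    rfl
  | add y z hy hz => simp only [map_add, hy, hz]

theorem rhoT_counit (β : B[X]) : epsT k A B[X] (rhoT k A B β) = β := by
  have h : ((epsT k A B[X]).restrictScalars k).comp (rhoT k A B) = AlgHom.id k B[X] := by
    apply Polynomial.algHom_ext'
    · apply AlgHom.ext
      intro b
      simp only [AlgHom.comp_apply, AlgHom.id_apply, AlgHom.restrictScalars_apply]
      rw [show (CAlgHom (R := k) (A := B)) b = C b from rfl, rhoT_C, epsT_CA, epsT_coact]
    · simp only [AlgHom.comp_apply, AlgHom.id_apply, AlgHom.restrictScalars_apply]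
      rw [rhoT_X, epsT_tmul]
      simp
  exact AlgHom.congr_fun h β

/-- the `j`-th coefficient `B[X] ⊗ A → B ⊗ A`. -/
noncomputable def coeA (j : ℕ) : B[X] ⊗[k] A →ₗ[k] B ⊗[k] A :=
  LinearMap.rTensor A ((Polynomial.lcoeff B j).restrictScalars k)

lemma coeA_tmul (j : ℕ) (p : B[X]) (a : A) :
    coeA (k := k) j (p ⊗ₜ[k] a) = p.coeff j ⊗ₜ[k] a := rfl

lemma coeA_CA_mul (j n : ℕ) (y : B ⊗[k] A) :
    coeA (k := k) j (CA y * (((X : B[X]) ^ n) ⊗ₜ[k] (1 : A))) = if n = j then y else 0 := by
  induction y using TensorProduct.induction_on with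
  | zero => simp
  | tmul t a =>
    rw [Algebra.TensorProduct.map_tmul, Algebra.TensorProduct.tmul_mul_tmul, coeA_tmul,
      AlgHom.id_apply, mul_one]
    rw [show (CAlgHom (R := k) (A := B)) t = C t from rfl, Polynomial.coeff_C_mul_X_pow]
    split_ifs with h1 h2 h2
    · rfl
    · exact absurd h1.symm h2
    · exact absurd h2.symm h1
    · rw [TensorProduct.zero_tmul]
  | add y z hy hz =>
    rw [map_add, add_mul, map_add, hy, hz]
    split_ifs <;> simp

lemma coeA_rhoT (j : ℕ) (p : B[X]) :
    coeA (k := k) j (rhoT k A B p) = GLin.coactAlgHom k A B (p.coeff j) := by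
  induction p using Polynomial.induction_on' with
  | add p q hp hq => simp only [map_add, Polynomial.coeff_add, hp, hq]
  | monomial n b =>
    rw [← Polynomial.C_mul_X_pow_eq_monomial, map_mul, map_pow, rhoT_C, rhoT_X,
      Algebra.TensorProduct.tmul_pow, one_pow, coeA_CA_mul, Polynomial.coeff_C_mul_X_pow]
    split_ifs with h1 h2 h2
    · rfl
    · exact absurd h1.symm h2
    · exact absurd h2.symm h1
    · rw [map_zero]

theorem coeff_mem_invariants_of_rhoT {p : B[X]}
    (h : rhoT k A B p = p ⊗ₜ[k] (1 : A)) (j : ℕ) : p.coeff j ∈ GLin.invariants k A B := by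
  have h1 := congrArg (coeA (k := k) j) h
  rw [coeA_rhoT, coeA_tmul] at h1
  exact h1

variable {L : Type w'} [CommRing L] [Algebra k L]

lemma lift_aevalTower_CA (ξ : B →ₐ[k] L) (γ : A →ₐ[k] L) (l : L) (y : B ⊗[k] A) :
    Algebra.TensorProduct.lift (aevalTower ξ l) γ (fun _ _ => Commute.all _ _) (CA y) =
      Algebra.TensorProduct.lift ξ γ (fun _ _ => Commute.all _ _) y := by
  induction y using TensorProduct.induction_on with
  | zero => simp
  | tmul t a =>
    rw [Algebra.TensorProduct.map_tmul, Algebra.TensorProduct.lift_tmul,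
      Algebra.TensorProduct.lift_tmul, AlgHom.id_apply]
    rw [show (CAlgHom (R := k) (A := B)) t = C t from rfl, aevalTower_C]
  | add y z hy hz => simp only [map_add, hy, hz]

/-- acting by a point commutes with evaluation. -/
theorem lift_aevalTower_comp_rhoT (ξ : B →ₐ[k] L) (γ : A →ₐ[k] L) (l : L) :
    (Algebra.TensorProduct.lift (aevalTower ξ l) γ (fun _ _ => Commute.all _ _)).comp (rhoT k A B) =
      aevalTower ((Algebra.TensorProduct.lift ξ γ (fun _ _ => Commute.all _ _)).comp
        (GLin.coactAlgHom k A B)) l := by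
  apply Polynomial.algHom_ext'
  · apply AlgHom.ext
    intro b
    simp only [AlgHom.comp_apply]
    rw [show (CAlgHom (R := k) (A := B)) b = C b from rfl, rhoT_C, lift_aevalTower_CA,
      aevalTower_C]
    rfl
  · simp only [AlgHom.comp_apply]
    rw [rhoT_X, Algebra.TensorProduct.lift_tmul, aevalTower_X, aevalTower_X, map_one, mul_one]

end Poly

end Groth.Agent.Lib.Helper7.PolyCoact
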