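import Mathlib
import Groth.Agent.Lib.Helper7.DualMu
import Groth.Agent.Lib.Helper7.DualPrimExists
import Groth.Agent.Lib.Helper7.EtConst
import Groth.Agent.Lib.Helper7.HopfEtale

/-!
# Classification of finite group schemes of prime order over an algebraically closed field (helper7)
-/

universe u v

open TensorProduct WithConv

namespace Groth.Agent.Lib.Helper7.PrimeOrderClass

section Reduced

variable (k : Type u) [Field k] [IsAlgClosed k] (A : Type v) [CommRing A] [HopfAlgebra k A]

theorem const_of_isReduced (ℓ : ℕ) [Fact ℓ.Prime] [IsReduced A] (hA : Module.finrank k A = ℓ) :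
    Nonempty (A ≃ₐc[k] ConstGrp.F k (Multiplicative (ZMod ℓ))) := by
  have hℓ : ℓ.Prime := Fact.out
  haveI : Module.Finite k A := Module.finite_of_finrank_pos (by rw [hA]; exact hℓ.pos)
  haveI : Finite (WithConv (A →ₐ[k] k)) := Finite.of_equiv _ (WithConv.equiv (A →ₐ[k] k)).symm
  letI : Fintype (WithConv (A →ₐ[k] k)) := Fintype.ofFinite _
  letI : DecidableEq (WithConv (A →ₐ[k] k)) := Classical.decEq _
  have hcard : Nat.card (WithConv (A →ₐ[k] k)) = ℓ := by
    rw [Nat.card_eq_fintype_card, EtConst.card_points_eq, hA]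
  have hcard' : Nat.card (Multiplicative (ZMod ℓ)) = ℓ := by
    rw [Nat.card_eq_fintype_card, Fintype.card_multiplicative, ZMod.card]
  let ψ : Multiplicative (ZMod ℓ) ≃* WithConv (A →ₐ[k] k) := mulEquivOfPrimeCardEq hcard' hcard
  have hΦ : Function.Bijective (EtConst.compBialgHom k ψ.toMonoidHom) := by
    constructor
    · intro u v huv
      funext γ
      have h1 : u (ψ (ψ.symm γ)) = v (ψ (ψ.symm γ)) := congrFun huv (ψ.symm γ)
      rwa [ψ.apply_symm_apply] at h1
    · intro v
      refine ⟨fun γ => v (ψ.symm γ), ?_⟩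
      funext g
      change v (ψ.symm (ψ g)) = v g
      rw [ψ.symm_apply_apply]
  exact ⟨(EtConst.phiEquiv k A).trans (BialgEquiv.ofBijective _ hΦ)⟩

end Reduced

section Main

variable (k : Type u) [Field k] [IsAlgClosed k] (p : ℕ) [Fact p.Prime] [CharP k p]
  (A : Type v) [CommRing A] [HopfAlgebra k A]

omit [IsAlgClosed k] [CharP k p] in
lemma finrank_monoidAlgebra :
    Module.finrank k (MonoidAlgebra k (Multiplicative (ZMod p))) = p := by
  rw [(MonoidAlgebra.coeffLinearEquiv k).finrank_eq, Module.finrank_finsupp_self,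
    Fintype.card_multiplicative, ZMod.card]

omit [IsAlgClosed k] [CharP k p] in
lemma finite_monoidAlgebra : Module.Finite k (MonoidAlgebra k (Multiplicative (ZMod p))) :=
  Module.Finite.equiv (MonoidAlgebra.coeffLinearEquiv k).symm

theorem main (ℓ : ℕ) [Fact ℓ.Prime] (hA : Module.finrank k A = ℓ) :
    (ℓ ≠ p → Nonempty (A ≃ₐc[k] ConstGrp.F k (Multiplicative (ZMod ℓ)))) ∧
      (ℓ = p → Nonempty (A ≃ₐc[k] ConstGrp.F k (Multiplicative (ZMod p))) ∨
        Nonempty (A ≃ₐc[k] MonoidAlgebra k (Multiplicative (ZMod p))) ∨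
        Nonempty (A ≃ₐc[k] AlphaP.A p k)) := by
  have hℓ : ℓ.Prime := Fact.out
  have hp : p.Prime := Fact.out
  haveI : Module.Finite k A := Module.finite_of_finrank_pos (by rw [hA]; exact hℓ.pos)
  constructor
  · intro hne
    have h1 : (Module.finrank k A : k) ≠ 0 := by
      rw [hA, Ne, CharP.cast_eq_zero_iff k p]
      intro hdvd
      exact hne ((Nat.prime_dvd_prime_iff_eq hp hℓ).1 hdvd).symm
    haveI : Algebra.Etale k A := FinOrder.etale_of_finrank_ne_zero h1
    haveI : IsReduced A := Algebra.FormallyUnramified.isReduced_of_field k A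
    exact const_of_isReduced k A ℓ hA
  · intro hlp
    subst hlp
    by_cases hred : IsReduced A
    · exact Or.inl (const_of_isReduced k A ℓ hA)
    · right
      obtain ⟨u, h0, hu, h | h⟩ := DualPrim.exists_prim k ℓ A hred
      · right
        obtain ⟨f, hf⟩ := DualPrim.alpha_case ℓ hu h0 h
        have hinj : Function.Injective f := by
          have h2 : Function.Injective (f : A →ₗc[k] AlphaP.A ℓ k).toLinearMap :=
            (LinearMap.injective_iff_surjective_of_finrank_eq_finrank
              (by rw [hA, AlphaP.finrank_eq])).2 hf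
          exact h2
        exact ⟨BialgEquiv.ofBijective f ⟨hinj, hf⟩⟩
      · left
        obtain ⟨f, hf⟩ := DualPrim.mu_case ℓ hu h0 h
        haveI := finite_monoidAlgebra k ℓ
        have hinj : Function.Injective f := by
          have h2 : Function.Injective
              (f : A →ₗc[k] MonoidAlgebra k (Multiplicative (ZMod ℓ))).toLinearMap :=
            (LinearMap.injective_iff_surjective_of_finrank_eq_finrank
              (by rw [hA, finrank_monoidAlgebra])).2 hf
          exact h2
        exact ⟨BialgEquiv.ofBijective f ⟨hinj, hf⟩⟩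

end Main

end Groth.Agent.Lib.Helper7.PrimeOrderClass
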