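import Mathlib.RingTheory.GradedAlgebra.HomogeneousLocalization
import Mathlib.RingTheory.GradedAlgebra.RingHom
import Mathlib.RingTheory.Localization.Away.Basic
import Mathlib.RingTheory.Invariant.Basic
import Mathlib.RingTheory.GradedAlgebra.Basic
import Mathlib.Algebra.Polynomial.BigOperators

set_option autoImplicit false
set_option linter.unusedSectionVars false

universe u

open HomogeneousLocalization Polynomial

namespace Groth.Agent.Lib.Helper7.ProjQuot

section General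

variable {A B σA σB : Type*} [CommRing A] [CommRing B] [SetLike σA A] [SetLike σB B]
  [AddSubgroupClass σA A] [AddSubgroupClass σB B]
  {𝒜 : ℕ → σA} {ℬ : ℕ → σB} [GradedRing 𝒜] [GradedRing ℬ]

/-- the map of homogeneous localizations induced by a graded ring hom is compatible with the map of
localizations -/
theorem algebraMap_comp_map (g : 𝒜 →+*ᵍ ℬ) (f : A)
    (h : Submonoid.powers f ≤ (Submonoid.powers (g.toRingHom f)).comap g) :
    (algebraMap (Away ℬ (g.toRingHom f)) (Localization.Away (g.toRingHom f))).comp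
        (HomogeneousLocalization.map g h) =
      (Localization.awayMap g.toRingHom f).comp
        (algebraMap (Away 𝒜 f) (Localization.Away f)) := by
  ext x
  obtain ⟨y, rfl⟩ := mk_surjective x
  simp only [RingHom.comp_apply, HomogeneousLocalization.algebraMap_apply, map_mk, val_mk]
  rw [Localization.mk_eq_mk', Localization.mk_eq_mk', Localization.awayMap,
    IsLocalization.Away.map, IsLocalization.map_mk']
  rfl

/-- uniqueness: a map compatible with the map of localizations is the induced map -/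
theorem eq_map_of_algebraMap_comp (g : 𝒜 →+*ᵍ ℬ) (f : A)
    (h : Submonoid.powers f ≤ (Submonoid.powers (g.toRingHom f)).comap g)
    (θ : Away 𝒜 f →+* Away ℬ (g.toRingHom f))
    (hθ : (algebraMap (Away ℬ (g.toRingHom f)) (Localization.Away (g.toRingHom f))).comp θ =
      (Localization.awayMap g.toRingHom f).comp (algebraMap (Away 𝒜 f) (Localization.Away f))) :
    θ = HomogeneousLocalization.map g h := by
  ext x
  have h1 := congrArg (fun φ => φ x) hθ
  have h2 := congrArg (fun φ => φ x) (algebraMap_comp_map g f h)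
  simp only [RingHom.comp_apply, HomogeneousLocalization.algebraMap_apply] at h1 h2
  rw [h1, h2]

end General

section Action

variable {R A : Type u} [CommRing R] [CommRing A] [Algebra R A] (𝒜 : ℕ → Submodule R A)
  [GradedAlgebra 𝒜] {G : Type u} [Group G] [MulSemiringAction G A]
  (hGdeg : ∀ (σ : G) (i : ℕ) (a : A), a ∈ 𝒜 i → σ • a ∈ 𝒜 i)
  {C : Type u} [CommRing C] [Algebra R C] (𝒞 : ℕ → Submodule R C) [GradedAlgebra 𝒞]
  (ι : C →ₐ[R] A)
  (hιdeg : ∀ (i : ℕ) (a : A), a ∈ (𝒞 i).map ι.toLinearMap ↔ (a ∈ 𝒜 i ∧ ∀ σ : G, σ • a = a))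

/-- the graded ring hom given by a group element -/
def σgr (σ : G) : 𝒜 →+*ᵍ 𝒜 where
  toRingHom := MulSemiringAction.toRingHom G A σ
  map_mem := fun {i x} hx => hGdeg σ i x hx

include hιdeg in
theorem ι_mem {i : ℕ} {c : C} (hc : c ∈ 𝒞 i) : ι c ∈ 𝒜 i :=
  ((hιdeg i (ι c)).mp (Submodule.mem_map_of_mem hc)).1

include hιdeg in
theorem ι_fixed (σ : G) (c : C) : σ • ι c = ι c := by
  classical
  rw [← DirectSum.sum_support_decompose 𝒞 c, map_sum, Finset.smul_sum]
  refine Finset.sum_congr rfl fun i _ => ?_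
  exact ((hιdeg i (ι _)).mp (Submodule.mem_map_of_mem (SetLike.coe_mem _))).2 σ

/-- the graded ring hom given by the inclusion of invariants -/
def ιgr : 𝒞 →+*ᵍ 𝒜 where
  toRingHom := ι.toRingHom
  map_mem := fun {_ _} hx => ι_mem 𝒜 𝒞 ι hιdeg hx

/-- the map `C_(c) → A_(ι c)` -/
def θπ (c : C) : Away 𝒞 c →+* Away 𝒜 (ι c) :=
  HomogeneousLocalization.map (ιgr 𝒜 𝒞 ι hιdeg) (by
    rintro _ ⟨n, rfl⟩
    exact ⟨n, (map_pow ι c n).symm⟩)

/-- the map `A_(f) → A_(σ f)` -/
def θσ (σ : G) (f : A) : Away 𝒜 f →+* Away 𝒜 (σ • f) :=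
  HomogeneousLocalization.map (σgr 𝒜 hGdeg σ) (by
    rintro _ ⟨n, rfl⟩
    exact ⟨n, (smul_pow' σ f n).symm⟩)

/-- the map `A_(f) → A_(f)` for invariant `f` -/
def θσ' (σ : G) (f : A) (hf : σ • f = f) : Away 𝒜 f →+* Away 𝒜 f :=
  HomogeneousLocalization.map (σgr 𝒜 hGdeg σ) (by
    rintro _ ⟨n, rfl⟩
    refine ⟨n, ?_⟩
    change f ^ n = σ • f ^ n
    rw [smul_pow', hf])

theorem θπ_compat (c : C) :
    (algebraMap (Away 𝒜 (ι c)) (Localization.Away (ι c))).comp (θπ 𝒜 𝒞 ι hιdeg c) =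
      (Localization.awayMap ι.toRingHom c).comp
        (algebraMap (Away 𝒞 c) (Localization.Away c)) :=
  algebraMap_comp_map (ιgr 𝒜 𝒞 ι hιdeg) c _

theorem θσ_compat (σ : G) (f : A) :
    (algebraMap (Away 𝒜 (σ • f)) (Localization.Away (σ • f))).comp (θσ 𝒜 hGdeg σ f) =
      (Localization.awayMap (MulSemiringAction.toRingHom G A σ) f).comp
        (algebraMap (Away 𝒜 f) (Localization.Away f)) :=
  algebraMap_comp_map (σgr 𝒜 hGdeg σ) f _

theorem val_θσ'_mk (σ : G) (f : A) (hfix : σ • f = f) {d : ℕ} (hf : f ∈ 𝒜 d) (k : ℕ) (a : A)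
    (ha : a ∈ 𝒜 (k • d)) :
    (θσ' 𝒜 hGdeg σ f hfix (Away.mk 𝒜 hf k a ha)).val =
      Localization.mk (σ • a) (⟨f ^ k, ⟨k, rfl⟩⟩ : Submonoid.powers f) := by
  unfold θσ' Away.mk
  rw [map_mk, val_mk]
  congr 1
  apply Subtype.ext
  change σ • f ^ k = f ^ k
  rw [smul_pow', hfix]

theorem val_θπ_mk (c : C) {d : ℕ} (hc : c ∈ 𝒞 d) (k : ℕ) (z : C) (hz : z ∈ 𝒞 (k • d)) :
    (θπ 𝒜 𝒞 ι hιdeg c (Away.mk 𝒞 hc k z hz)).val =
      Localization.mk (ι z) (⟨ι c ^ k, ⟨k, rfl⟩⟩ : Submonoid.powers (ι c)) := by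
  unfold θπ Away.mk
  rw [map_mk, val_mk]
  congr 1
  apply Subtype.ext
  change ι (c ^ k) = ι c ^ k
  rw [map_pow]

theorem θσ'_θπ (σ : G) (c : C) (x : Away 𝒞 c) :
    θσ' 𝒜 hGdeg σ (ι c) (ι_fixed 𝒜 𝒞 ι hιdeg σ c) (θπ 𝒜 𝒞 ι hιdeg c x) = θπ 𝒜 𝒞 ι hιdeg c x := by
  obtain ⟨y, rfl⟩ := mk_surjective x
  unfold θσ' θπ
  rw [map_mk, map_mk]
  rw [HomogeneousLocalization.ext_iff_val, val_mk, val_mk]
  congr 1
  · exact ι_fixed 𝒜 𝒞 ι hιdeg σ _
  · apply Subtype.ext
    exact ι_fixed 𝒜 𝒞 ι hιdeg σ _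

theorem θπ_injective (hι : Function.Injective ι) (c : C) {d : ℕ} (hc : c ∈ 𝒞 d) :
    Function.Injective (θπ 𝒜 𝒞 ι hιdeg c) := by
  rw [injective_iff_map_eq_zero]
  intro x hx
  obtain ⟨k, z, hz, rfl⟩ := Away.mk_surjective 𝒞 hc x
  rw [HomogeneousLocalization.ext_iff_val, val_θπ_mk, val_zero, Localization.mk_eq_mk',
    IsLocalization.mk'_eq_zero_iff] at hx
  obtain ⟨⟨_, m, rfl⟩, hm⟩ := hx
  rw [HomogeneousLocalization.ext_iff_val, Away.val_mk, val_zero, Localization.mk_eq_mk',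
    IsLocalization.mk'_eq_zero_iff]
  refine ⟨⟨c ^ m, m, rfl⟩, ?_⟩
  apply hι
  rw [map_mul, map_pow, map_zero]
  exact hm

theorem mem_range_θπ [Finite G] (c : C) {d : ℕ} (hc : c ∈ 𝒞 d) (x : Away 𝒜 (ι c))
    (hx : ∀ σ : G, θσ' 𝒜 hGdeg σ (ι c) (ι_fixed 𝒜 𝒞 ι hιdeg σ c) x = x) :
    x ∈ Set.range (θπ 𝒜 𝒞 ι hιdeg c) := by
  classical
  cases nonempty_fintype G
  have hf : ι c ∈ 𝒜 d := ι_mem 𝒜 𝒞 ι hιdeg hc
  have hfix : ∀ σ : G, σ • ι c = ι c := fun σ => ι_fixed 𝒜 𝒞 ι hιdeg σ c
  obtain ⟨k, a, ha, rfl⟩ := Away.mk_surjective 𝒜 hf x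
  have h1 : ∀ σ : G, ∃ m : ℕ, ι c ^ m * (ι c ^ k * (σ • a)) = ι c ^ m * (ι c ^ k * a) := by
    intro σ
    have := hx σ
    rw [HomogeneousLocalization.ext_iff_val, val_θσ'_mk, Away.val_mk, Localization.mk_eq_mk_iff,
      Localization.r_iff_exists] at this
    obtain ⟨⟨_, m, rfl⟩, hm⟩ := this
    exact ⟨m, hm⟩
  choose m hm using h1
  set M := ∑ σ, m σ with hM
  have h2 : ∀ σ : G, ι c ^ M * (ι c ^ k * (σ • a)) = ι c ^ M * (ι c ^ k * a) := by
    intro σ
    have : M = (M - m σ) + m σ := by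
      have : m σ ≤ M := Finset.single_le_sum (fun _ _ => Nat.zero_le _) (Finset.mem_univ σ)
      omega
    rw [this, pow_add, mul_assoc, mul_assoc, hm σ]
  set y := ι c ^ M * (ι c ^ k * a) with hy
  have hyfix : ∀ σ : G, σ • y = y := by
    intro σ
    rw [hy, smul_mul', smul_mul', smul_pow', smul_pow', hfix σ, h2 σ]
  have hydeg : y ∈ 𝒜 ((M + k + k) • d) := by
    have h3 : y ∈ 𝒜 (M • d + (k • d + k • d)) :=
      SetLike.mul_mem_graded (SetLike.pow_mem_graded M hf)
        (SetLike.mul_mem_graded (SetLike.pow_mem_graded k hf) ha)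
    have : (M + k + k) • d = M • d + (k • d + k • d) := by
      simp only [smul_eq_mul]; ring
    rw [this]; exact h3
  obtain ⟨z, hz, hzy⟩ := (hιdeg ((M + k + k) • d) y).mpr ⟨hydeg, hyfix⟩
  refine ⟨Away.mk 𝒞 hc (M + k + k) z hz, ?_⟩
  rw [HomogeneousLocalization.ext_iff_val, val_θπ_mk, Away.val_mk, Localization.mk_eq_mk_iff,
    Localization.r_iff_exists]
  refine ⟨1, ?_⟩
  have hzy' : ι z = y := hzy
  simp only [OneMemClass.coe_one, one_mul]
  rw [hzy', hy]
  ring

end Action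


section Homog

variable {A σA : Type*} [CommRing A] [SetLike σA A] [AddSubgroupClass σA A]
  (𝒜 : ℕ → σA) [GradedRing 𝒜]

/-- the coefficients of `∏ (X - a i)` with `a i` homogeneous of degree `m` are homogeneous -/
theorem coeff_prod_X_sub_C_mem {κ : Type*} [DecidableEq κ] (s : Finset κ) (a : κ → A) (m : ℕ)
    (ha : ∀ i ∈ s, a i ∈ 𝒜 m) :
    ∀ j k : ℕ, j + k = s.card → (∏ i ∈ s, (X - C (a i))).coeff j ∈ 𝒜 (k • m) := by
  induction s using Finset.induction_on with
  | empty =>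
    intro j k hjk
    simp only [Finset.card_empty, Nat.add_eq_zero_iff] at hjk
    obtain ⟨rfl, rfl⟩ := hjk
    simp only [Finset.prod_empty, coeff_one_zero, zero_smul]
    exact SetLike.GradedOne.one_mem
  | insert i₀ s hi₀ ih =>
    have ih' := ih (fun i hi => ha i (Finset.mem_insert_of_mem hi))
    have ha₀ : a i₀ ∈ 𝒜 m := ha i₀ (Finset.mem_insert_self _ _)
    intro j k hjk
    rw [Finset.card_insert_of_notMem hi₀] at hjk
    rw [Finset.prod_insert hi₀, mul_comm]
    rcases j with _ | j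
    · rw [mul_coeff_zero, coeff_sub, coeff_X_zero, coeff_C_zero, zero_sub, mul_neg]
      apply neg_mem
      have h1 := ih' 0 s.card (zero_add _)
      have : k • m = s.card • m + m := by
        have : k = s.card + 1 := by omega
        rw [this, add_smul, one_smul]
      rw [this]
      exact SetLike.mul_mem_graded h1 ha₀
    · rw [coeff_mul_X_sub_C]
      apply sub_mem
      · exact ih' j k (by omega)
      · rcases k with _ | k
        · have hdeg : (∏ i ∈ s, (X - C (a i))).natDegree < j + 1 := by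
            have h1 : (∏ i ∈ s, (X - C (a i))).natDegree ≤ ∑ i ∈ s, (X - C (a i)).natDegree :=
              natDegree_prod_le _ _
            have h2 : ∑ i ∈ s, (X - C (a i)).natDegree ≤ ∑ _i ∈ s, 1 :=
              Finset.sum_le_sum fun i _ => natDegree_X_sub_C_le _
            rw [Finset.sum_const, smul_eq_mul, mul_one] at h2
            omega
          rw [coeff_eq_zero_of_natDegree_lt hdeg, zero_mul]
          exact zero_mem _
        · have h1 := ih' (j + 1) k (by omega)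
          have : (k + 1) • m = k • m + m := by rw [add_smul, one_smul]
          rw [this]
          exact SetLike.mul_mem_graded h1 ha₀

end Homog

section Cover

variable {A σA : Type*} [CommRing A] [SetLike σA A] [AddSubgroupClass σA A]
  (𝒜 : ℕ → σA) [GradedRing 𝒜] {G : Type*} [Group G] [Finite G] [MulSemiringAction G A]
  (hGdeg : ∀ (σ : G) (i : ℕ) (a : A), a ∈ 𝒜 i → σ • a ∈ 𝒜 i)

include hGdeg in
/-- For a prime ideal `P` and homogeneous `f ∉ P` of positive degree there is an invariant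
homogeneous element of positive degree outside `P`. -/
theorem exists_invariant_notMem (P : Ideal A) [P.IsPrime] (f : A) (m : ℕ) (hm : 0 < m)
    (hf : f ∈ 𝒜 m) (hfP : f ∉ P) :
    ∃ (n : ℕ) (a : A), 0 < n ∧ a ∈ 𝒜 n ∧ (∀ σ : G, σ • a = a) ∧ a ∉ P := by
  classical
  cases nonempty_fintype G
  set p := MulSemiringAction.charpoly G f with hp
  have hmonic : p.Monic := MulSemiringAction.monic_charpoly G f
  have : Nontrivial A := nontrivial_of_ne f 0 (fun h => hfP (h ▸ P.zero_mem))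
  have hdeg : p.natDegree = Fintype.card G := by
    rw [hp, MulSemiringAction.charpoly_eq, natDegree_finsetProd_X_sub_C_eq_card]
    rfl
  have heval : p.eval f = 0 := MulSemiringAction.eval_charpoly G f
  by_contra hcon
  push Not at hcon
  have hcoeff : ∀ j, j < Fintype.card G → p.coeff j ∈ P := by
    intro j hj
    have hmem : p.coeff j ∈ 𝒜 ((Fintype.card G - j) • m) := by
      rw [hp, MulSemiringAction.charpoly_eq]
      exact coeff_prod_X_sub_C_mem 𝒜 Finset.univ (fun g : G => g • f) m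
        (fun g _ => hGdeg g m f hf) j (Fintype.card G - j) (by rw [Finset.card_univ]; omega)
    have hpos : 0 < (Fintype.card G - j) • m := by
      rw [smul_eq_mul]; exact Nat.mul_pos (by omega) hm
    exact hcon _ _ hpos hmem (fun σ => MulSemiringAction.smul_coeff_charpoly f j σ)
  rw [eval_eq_sum_range, hdeg, Finset.sum_range_succ] at heval
  have h1 : p.coeff (Fintype.card G) = 1 := by rw [← hdeg]; exact hmonic.coeff_natDegree
  rw [h1, one_mul] at heval
  have h2 : f ^ Fintype.card G ∈ P := by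
    have : f ^ Fintype.card G = -∑ j ∈ Finset.range (Fintype.card G), p.coeff j * f ^ j := by
      rw [eq_neg_iff_add_eq_zero, add_comm]; exact heval
    rw [this]
    apply neg_mem
    apply Ideal.sum_mem
    intro j hj
    exact Ideal.mul_mem_right _ _ (hcoeff j (Finset.mem_range.mp hj))
  exact hfP (Ideal.IsPrime.mem_of_pow_mem inferInstance _ h2)

end Cover

end Groth.Agent.Lib.Helper7.ProjQuot
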