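import Mathlib

/-!
# Quasi-affine group schemes over a field are affine, I: Künneth in pushout form (helper7)
-/

universe u

open CategoryTheory Limits AlgebraicGeometry

namespace Groth.Agent.Lib.Helper7.QAG

/-- Künneth in pushout form: both factors qcqs, the base affine, one structure map flat and the
other inducing a flat map on global sections. -/
lemma isPushout_appTop_of_flat {P X Y Z : Scheme.{u}} {fst : P ⟶ X} {snd : P ⟶ Y}
    {f : X ⟶ Z} {g : Y ⟶ Z} [IsAffine Z] (hf : Flat f) [CompactSpace X] [QuasiSeparatedSpace X]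
    [CompactSpace Y] [QuasiSeparatedSpace Y] (hg : g.appTop.hom.Flat)
    (h : IsPullback fst snd f g) :
    IsPushout f.appTop g.appTop fst.appTop snd.appTop := by
  haveI := hf
  have key := isIso_pushoutSection_of_isCompact_of_flat_right_of_ringHomFlat h.flip
    (US := ⊤) (UT := ⊤) (UX := ⊤) le_top le_top (UY := ⊤) (by simp) (isAffineOpen_top Z)
    isCompact_univ isQuasiSeparated_univ isCompact_univ isQuasiSeparated_univ
    (by convert hg using 2; exact Scheme.Hom.appLE_eq_app g)
  have := ((isIso_pushoutSection_iff h.flip (US := ⊤) (UT := ⊤)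
    (UX := ⊤) le_top le_top (UY := ⊤) (by simp)).1 key).flip
  convert this using 1
  · exact (Scheme.Hom.appLE_eq_app f).symm
  · exact (Scheme.Hom.appLE_eq_app g).symm
  · exact (Scheme.Hom.appLE_eq_app fst).symm
  · exact (Scheme.Hom.appLE_eq_app snd).symm

/-- two morphisms to an affine scheme agree as soon as they agree after a morphism inducing an
injection on global sections. -/
lemma eq_of_comp_eq_of_isAffine {P W Y : Scheme.{u}} [IsAffine Y] (i : P ⟶ W)
    (hi : Mono i.appTop) (u v : W ⟶ Y) (h : i ≫ u = i ≫ v) : u = v := by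
  apply ext_of_isAffine
  have h1 : (i ≫ u).appTop = (i ≫ v).appTop := by rw [h]
  rw [Scheme.Hom.comp_appTop, Scheme.Hom.comp_appTop] at h1
  exact (cancel_mono i.appTop).mp h1

end Groth.Agent.Lib.Helper7.QAG
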