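import Groth.Agent.Lib.Helper7.QAG1

/-!
# Quasi-affine group schemes over a field are affine, II: the affine hull and the action (helper7)
-/

universe u

open CategoryTheory Limits AlgebraicGeometry MonoidalCategory CartesianMonoidalCategory MonObj

namespace Groth.Agent.Lib.Helper7.QAG

variable {k : Type u} [Field k] (G : Over (Spec (CommRingCat.of k)))

/-- structure map of `Spec Γ(G)`. -/
noncomputable def hH : Spec Γ(G.left, ⊤) ⟶ Spec (CommRingCat.of k) :=
  Spec.map G.hom.appTop ≫ (Spec (CommRingCat.of k)).isoSpec.inv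

lemma toSpecΓ_hH : G.left.toSpecΓ ≫ hH G = G.hom := by
  rw [hH, ← Category.assoc, ← Scheme.toSpecΓ_naturality, Category.assoc]
  simp

/-- the affine hull `Spec Γ(G)` over `k`. -/
noncomputable abbrev Hov : Over (Spec (CommRingCat.of k)) :=
  { left := Spec Γ(G.left, ⊤), right := ⟨⟨⟩⟩, hom := hH G }

/-- the canonical map to the affine hull. -/
noncomputable def jov : G ⟶ Hov G := Over.homMk G.left.toSpecΓ (toSpecΓ_hH G)

@[simp] lemma jov_left : (jov G).left = G.left.toSpecΓ := rfl

@[simp] lemma Hov_hom : (Hov G).hom = hH G := rfl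

instance : Flat G.hom := by
  haveI : Subsingleton ↥(Spec (CommRingCat.of k)) :=
    inferInstanceAs (Subsingleton (PrimeSpectrum k))
  infer_instance

instance : Flat (hH G) := by
  haveI : Subsingleton ↥(Spec (CommRingCat.of k)) :=
    inferInstanceAs (Subsingleton (PrimeSpectrum k))
  infer_instance

lemma isPullback_W (Y : Over (Spec (CommRingCat.of k))) :
    IsPullback (fst G Y).left (snd G Y).left G.hom Y.hom :=
  IsPullback.of_hasPullback _ _

lemma isPullback_iY :
    IsPullback (G ◁ jov G).left (snd G G).left (snd G (Hov G)).left G.left.toSpecΓ := by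
  have hbot : IsPullback (snd G (Hov G)).left (fst G (Hov G)).left (hH G) G.hom :=
    (isPullback_W G (Hov G)).flip
  have hbig : IsPullback (snd G G).left ((G ◁ jov G).left ≫ (fst G (Hov G)).left)
      (G.left.toSpecΓ ≫ hH G) G.hom := by
    have h1 : (G ◁ jov G).left ≫ (fst G (Hov G)).left = (fst G G).left := by
      rw [← Over.comp_left, whiskerLeft_fst]
    rw [h1, toSpecΓ_hH]
    exact (isPullback_W G G).flip
  have hp : (snd G G).left ≫ G.left.toSpecΓ = (G ◁ jov G).left ≫ (snd G (Hov G)).left := by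
    have h2 : (snd G G ≫ jov G).left = (G ◁ jov G ≫ snd G (Hov G)).left := by
      rw [whiskerLeft_snd]
    exact h2
  exact (IsPullback.of_bot hbig hp hbot).flip

instance : IsAffine (Hov G).left := inferInstanceAs (IsAffine (Spec Γ(G.left, ⊤)))

instance instFlatSndW : Flat (snd G (Hov G)).left :=
  inferInstanceAs (Flat (pullback.snd G.hom (hH G)))

section QA

variable [QuasiCompact G.hom] [G.left.IsQuasiAffine]

instance : CompactSpace ↥(G ⊗ Hov G).left :=
  inferInstanceAs (CompactSpace ↥(pullback G.hom (hH G)))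

instance : QuasiSeparatedSpace ↥(G ⊗ Hov G).left := by
  haveI : QuasiSeparated (snd G (Hov G)).left :=
    inferInstanceAs (QuasiSeparated (pullback.snd G.hom (hH G)))
  exact quasiSeparatedSpace_of_quasiSeparated (snd G (Hov G)).left

lemma isIso_iY_appTop : IsIso (G ◁ jov G).left.appTop := by
  have hflat : G.left.toSpecΓ.appTop.hom.Flat := by
    rw [Scheme.toSpecΓ_appTop]
    exact RingHom.Flat.of_bijective (ConcreteCategory.bijective_of_isIso _)
  have hpo := isPushout_appTop_of_flat (instFlatSndW G) hflat (isPullback_iY G)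
  haveI : IsIso G.left.toSpecΓ.appTop := by rw [Scheme.toSpecΓ_appTop]; infer_instance
  exact hpo.isIso_inl_of_isIso

variable [GrpObj G]

/-- the extended left translation action `G × H ⟶ H`, on underlying schemes. -/
noncomputable def actLeft : (G ⊗ Hov G).left ⟶ (Hov G).left :=
  haveI := isIso_iY_appTop G
  (G ⊗ Hov G).left.toSpecΓ ≫ Spec.map (μ[G].left.appTop ≫ inv (G ◁ jov G).left.appTop)

lemma iY_actLeft : (G ◁ jov G).left ≫ actLeft G = μ[G].left ≫ (jov G).left := by
  haveI := isIso_iY_appTop G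
  rw [actLeft, ← Category.assoc, Scheme.toSpecΓ_naturality, Category.assoc, ← Spec.map_comp,
    Category.assoc, IsIso.inv_hom_id, Category.comp_id, ← Scheme.toSpecΓ_naturality]
  rfl

/-- density: morphisms from `G × H` to an affine scheme are determined on `G × G`. -/
lemma eq_of_iY_comp_eq {Y : Scheme.{u}} [IsAffine Y] (u v : (G ⊗ Hov G).left ⟶ Y)
    (h : (G ◁ jov G).left ≫ u = (G ◁ jov G).left ≫ v) : u = v := by
  haveI := isIso_iY_appTop G
  exact eq_of_comp_eq_of_isAffine (G ◁ jov G).left inferInstance u v h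

lemma over_eq_of_iY_comp_eq {Y : Over (Spec (CommRingCat.of k))} [IsAffine Y.left]
    (u v : G ⊗ Hov G ⟶ Y) (h : G ◁ jov G ≫ u = G ◁ jov G ≫ v) : u = v := by
  apply Over.OverMorphism.ext
  apply eq_of_iY_comp_eq G
  have := congrArg (fun f => f.left) h
  simpa using this

lemma actLeft_w : actLeft G ≫ (Hov G).hom = (G ⊗ Hov G).hom := by
  apply eq_of_iY_comp_eq G
  rw [← Category.assoc, iY_actLeft, Category.assoc, Over.w, Over.w, Over.w]

/-- the extended left translation action `G × H ⟶ H`. -/
noncomputable def act : G ⊗ Hov G ⟶ Hov G := Over.homMk (actLeft G) (actLeft_w G)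

@[simp] lemma act_left : (act G).left = actLeft G := rfl

lemma iY_act : G ◁ jov G ≫ act G = μ[G] ≫ jov G := by
  apply Over.OverMorphism.ext
  rw [Over.comp_left, Over.comp_left, act_left, iY_actLeft]

/-- the shear map on `G × H`. -/
noncomputable def shearW : G ⊗ Hov G ⟶ G ⊗ Hov G := lift (fst G (Hov G)) (act G)

/-- the inverse shear map on `G × H`. -/
noncomputable def shearW' : G ⊗ Hov G ⟶ G ⊗ Hov G :=
  lift (fst G (Hov G)) (lift (fst G (Hov G) ≫ ι[G]) (snd G (Hov G)) ≫ act G)

/-- the shear map on `G × G`. -/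
noncomputable def shearP : G ⊗ G ⟶ G ⊗ G := lift (fst G G) μ[G]

/-- the inverse shear map on `G × G`. -/
noncomputable def shearP' : G ⊗ G ⟶ G ⊗ G :=
  lift (fst G G) (lift (fst G G ≫ ι[G]) (snd G G) ≫ μ[G])

lemma shearP'_shearP : shearP' G ≫ shearP G = 𝟙 _ := by
  rw [shearP', shearP, comp_lift, lift_fst]
  have h1 : lift (fst G G) (lift (fst G G ≫ ι[G]) (snd G G) ≫ μ[G]) ≫ μ[G] = snd G G := by
    rw [← Hom.mul_def, ← Hom.mul_def, ← Hom.inv_def, mul_inv_cancel_left]
  rw [h1, lift_fst_snd]

lemma iY_shearW : G ◁ jov G ≫ shearW G = shearP G ≫ G ◁ jov G := by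
  rw [shearW, shearP, comp_lift, whiskerLeft_fst, iY_act, lift_whiskerLeft]

lemma shearP_inv_mul : shearP G ≫ lift (fst G G ≫ ι[G]) (snd G G) ≫ μ[G] = snd G G := by
  rw [shearP, ← Category.assoc, comp_lift, ← Category.assoc, lift_fst, lift_snd, ← Hom.mul_def,
    ← Hom.inv_def, mul_eq_mul, inv_mul_cancel_left]

lemma shearW_shearW' : shearW G ≫ shearW' G = 𝟙 _ := by
  apply CartesianMonoidalCategory.hom_ext
  · rw [Category.assoc, shearW', lift_fst, shearW, lift_fst, Category.id_comp]
  · rw [Category.assoc, shearW', lift_snd, Category.id_comp]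
    apply over_eq_of_iY_comp_eq G
    rw [← Category.assoc, iY_shearW, Category.assoc, ← Category.assoc (G ◁ jov G), comp_lift,
      ← Category.assoc (G ◁ jov G), whiskerLeft_fst, whiskerLeft_snd, ← lift_whiskerLeft,
      Category.assoc, iY_act, ← Category.assoc, ← Category.assoc, Category.assoc (shearP G),
      shearP_inv_mul]

end QA

end Groth.Agent.Lib.Helper7.QAG
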