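import Groth.Agent.Lib.Helper7.QAG2

/-!
# Quasi-affine group schemes over a field are affine, III: stability of the complement (helper7)
-/

universe u

open CategoryTheory Limits AlgebraicGeometry MonoidalCategory CartesianMonoidalCategory MonObj

namespace Groth.Agent.Lib.Helper7.QAG

lemma range_fst_of_isPullback {P X Y Z : Scheme.{u}} {fst : P ⟶ X} {snd : P ⟶ Y} {f : X ⟶ Z}
    {g : Y ⟶ Z} (h : IsPullback fst snd f g) : Set.range fst = f ⁻¹' Set.range g := by
  rw [← Scheme.Pullback.range_fst, ← h.isoPullback_hom_fst]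
  ext x
  constructor
  · rintro ⟨p, rfl⟩
    exact ⟨h.isoPullback.hom p, rfl⟩
  · rintro ⟨p, rfl⟩
    refine ⟨h.isoPullback.inv p, ?_⟩
    rw [← Scheme.Hom.comp_apply, Iso.inv_hom_id_assoc]

variable {k : Type u} [Field k] (G : Over (Spec (CommRingCat.of k)))
  [QuasiCompact G.hom] [G.left.IsQuasiAffine] [GrpObj G]

/-- the complement of `G` in its affine hull is stable under the extended translation action. -/
lemma snd_mem_range_of_act_mem_range (w : ↥(G ⊗ Hov G).left)
    (hw : (actLeft G) w ∈ Set.range G.left.toSpecΓ) :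
    (snd G (Hov G)).left w ∈ Set.range G.left.toSpecΓ := by
  have hr := range_fst_of_isPullback (isPullback_iY G)
  have h1 : (shearW G).left w ∈ Set.range (G ◁ jov G).left := by
    rw [hr, Set.mem_preimage]
    have h2 : (shearW G ≫ snd G (Hov G)).left = actLeft G := by
      rw [shearW, lift_snd, act_left]
    rw [← Scheme.Hom.comp_apply, ← Over.comp_left, h2]
    exact hw
  obtain ⟨p, hp⟩ := h1
  have h3 : (G ◁ jov G).left ((shearP' G).left p) = w := by
    have h4 : (shearW G).left ((G ◁ jov G).left ((shearP' G).left p)) = (shearW G).left w := by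
      rw [← hp, ← Scheme.Hom.comp_apply, ← Scheme.Hom.comp_apply, ← Over.comp_left,
        ← Over.comp_left, iY_shearW, ← Category.assoc, shearP'_shearP,
        Category.id_comp]
    have h5 : (shearW G ≫ shearW' G).left ((G ◁ jov G).left ((shearP' G).left p)) =
        (shearW G ≫ shearW' G).left w := by
      rw [Over.comp_left, Scheme.Hom.comp_apply, Scheme.Hom.comp_apply, h4]
    rw [shearW_shearW'] at h5
    simpa using h5
  rw [← h3, ← Scheme.Hom.comp_apply, ← Over.comp_left, whiskerLeft_snd, Over.comp_left,
    Scheme.Hom.comp_apply]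
  exact ⟨_, rfl⟩

end Groth.Agent.Lib.Helper7.QAG
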