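import Groth.Agent.Lib.Helper7.QAG3

/-!
# Quasi-affine group schemes over a field are affine, IV: the antipode trick (helper7)
-/

universe u

open CategoryTheory Limits AlgebraicGeometry MonoidalCategory CartesianMonoidalCategory MonObj

namespace Groth.Agent.Lib.Helper7.QAG

variable {k : Type u} [Field k] (G : Over (Spec (CommRingCat.of k)))

lemma appTop_comp_left {A B C : Over (Spec (CommRingCat.of k))} (f : A ⟶ B) (g : B ⟶ C) :
    g.left.appTop ≫ f.left.appTop = (f ≫ g).left.appTop := by
  rw [Over.comp_left, Scheme.Hom.comp_appTop]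

section Kunneth

variable [QuasiCompact G.hom] [G.left.IsQuasiAffine]

lemma isPushout_kunneth (Y : Over (Spec (CommRingCat.of k))) [IsAffine Y.left] :
    IsPushout G.hom.appTop Y.hom.appTop (fst G Y).left.appTop (snd G Y).left.appTop := by
  haveI : Subsingleton ↥(Spec (CommRingCat.of k)) :=
    inferInstanceAs (Subsingleton (PrimeSpectrum k))
  haveI : Flat Y.hom := inferInstance
  exact isPushout_appTop_of_flat (inferInstance : Flat G.hom) (Scheme.Hom.flat_appTop Y.hom)
    (isPullback_W G Y)

end Kunneth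

section Point

variable (z : ↥(Spec Γ(G.left, ⊤)))

/-- the residue field point as an object over `k`. -/
noncomputable abbrev Zov : Over (Spec (CommRingCat.of k)) :=
  { left := Spec ((Spec Γ(G.left, ⊤)).residueField z), right := ⟨⟨⟩⟩,
    hom := (Spec Γ(G.left, ⊤)).fromSpecResidueField z ≫ hH G }

/-- the residue field point as a morphism over `k`. -/
noncomputable def zov : Zov G z ⟶ Hov G :=
  Over.homMk ((Spec Γ(G.left, ⊤)).fromSpecResidueField z) rfl

@[simp] lemma zov_left : (zov G z).left = (Spec Γ(G.left, ⊤)).fromSpecResidueField z := rfl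

instance : IsAffine (Zov G z).left :=
  inferInstanceAs (IsAffine (Spec ((Spec Γ(G.left, ⊤)).residueField z)))

end Point

variable [QuasiCompact G.hom] [G.left.IsQuasiAffine] [GrpObj G]

instance (z : ↥(Spec Γ(G.left, ⊤))) : CompactSpace ↥(G ⊗ Zov G z).left :=
  inferInstanceAs (CompactSpace ↥(pullback G.hom (Zov G z).hom))

theorem surjective_toSpecΓ : Function.Surjective G.left.toSpecΓ := by
  by_contra hns
  rw [Function.Surjective] at hns
  push Not at hns
  obtain ⟨z, hz⟩ := hns
  have hzr : z ∉ Set.range G.left.toSpecΓ := fun ⟨x, hx⟩ => hz x hx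
  -- the identity point
  let pt : ↥(𝟙_ (Over (Spec (CommRingCat.of k)))).left :=
    show ↥(Spec (CommRingCat.of k)) from (⟨⊥, Ideal.isPrime_bot⟩ : PrimeSpectrum k)
  have he' : G.left.toSpecΓ (η[G].left pt) ∈ G.left.toSpecΓ.opensRange := ⟨_, rfl⟩
  obtain ⟨U', ⟨f, rfl⟩, hfe, hfr⟩ :=
    TopologicalSpace.Opens.isBasis_iff_nbhd.mp (isBasis_basicOpen (Spec Γ(G.left, ⊤))) he'
  -- restriction to the fibre over `z` is nilpotent
  have hnil : IsNilpotent (((G ◁ zov G z).left ≫ actLeft G).appTop f) := by
    rw [Scheme.isNilpotent_iff_basicOpen_eq_bot, ← Scheme.preimage_basicOpen_top]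
    ext w
    simp only [TopologicalSpace.Opens.coe_bot, Set.mem_empty_iff_false, iff_false]
    intro hw
    have h1 : ((G ◁ zov G z).left ≫ actLeft G) w ∈ Set.range G.left.toSpecΓ := hfr hw
    rw [Scheme.Hom.comp_apply] at h1
    have h2 := snd_mem_range_of_act_mem_range G _ h1
    have h3 : (snd G (Hov G)).left ((G ◁ zov G z).left w) = z := by
      rw [← Scheme.Hom.comp_apply, ← Over.comp_left, whiskerLeft_snd, Over.comp_left,
        Scheme.Hom.comp_apply, zov_left, Scheme.fromSpecResidueField_apply]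
    rw [h3] at h2
    exact hzr h2
  -- the antipode trick
  have hpoW := isPushout_kunneth G (Hov G)
  have hpoZ := isPushout_kunneth G (Zov G z)
  haveI : IsIso G.left.toSpecΓ.appTop := by rw [Scheme.toSpecΓ_appTop]; infer_instance
  let ev : Γ(G.left, ⊤) ⟶ Γ((Zov G z).left, ⊤) :=
    inv G.left.toSpecΓ.appTop ≫ ((Spec Γ(G.left, ⊤)).fromSpecResidueField z).appTop
  have hjev : (jov G).left.appTop ≫ ev = (zov G z).left.appTop := by
    simp only [ev, jov_left, zov_left, IsIso.hom_inv_id_assoc]
  have hw : G.hom.appTop ≫ (ι[G].left.appTop ≫ ev) = (Zov G z).hom.appTop ≫ 𝟙 _ := by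
    have h1 : G.hom.appTop ≫ ι[G].left.appTop = G.hom.appTop := by
      rw [← Scheme.Hom.comp_appTop, Over.w]
    have h2 : G.hom.appTop = (Hov G).hom.appTop ≫ (jov G).left.appTop := by
      rw [← Scheme.Hom.comp_appTop, Over.w]
    have h3 : (Zov G z).hom.appTop = (Hov G).hom.appTop ≫ (zov G z).left.appTop := by
      rw [← Scheme.Hom.comp_appTop, Over.w]
    rw [← Category.assoc, h1, h2, Category.assoc, hjev, Category.comp_id, h3]
  let θ := hpoZ.desc (ι[G].left.appTop ≫ ev) (𝟙 _) hw
  let d : G ⟶ G ⊗ G := lift ι[G] (𝟙 G)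
  have hkey : (G ◁ zov G z).left.appTop ≫ θ =
      ((G ◁ jov G).left.appTop ≫ d.left.appTop) ≫ ev := by
    apply hpoW.hom_ext
    · have h1 : (fst G (Hov G)).left.appTop ≫ (G ◁ zov G z).left.appTop =
          (fst G (Zov G z)).left.appTop := by
        rw [appTop_comp_left, whiskerLeft_fst]
      have h2 : (fst G (Hov G)).left.appTop ≫ (G ◁ jov G).left.appTop ≫ d.left.appTop =
          ι[G].left.appTop := by
        rw [← Category.assoc, appTop_comp_left, appTop_comp_left, whiskerLeft_fst, lift_fst]
      have h2' : (fst G (Hov G)).left.appTop ≫ ((G ◁ jov G).left.appTop ≫ d.left.appTop) ≫ ev =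
          ι[G].left.appTop ≫ ev := by
        rw [← h2]; simp only [Category.assoc]
      rw [← Category.assoc, h1, hpoZ.inl_desc, h2']
    · have h1 : (snd G (Hov G)).left.appTop ≫ (G ◁ zov G z).left.appTop =
          (zov G z).left.appTop ≫ (snd G (Zov G z)).left.appTop := by
        rw [appTop_comp_left, whiskerLeft_snd, appTop_comp_left]
      have h2 : (snd G (Hov G)).left.appTop ≫ (G ◁ jov G).left.appTop ≫ d.left.appTop =
          (jov G).left.appTop := by
        rw [← Category.assoc, appTop_comp_left, appTop_comp_left, whiskerLeft_snd,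
          ← Category.assoc, lift_snd, Category.id_comp]
      have h2' : (snd G (Hov G)).left.appTop ≫ ((G ◁ jov G).left.appTop ≫ d.left.appTop) ≫ ev =
          (jov G).left.appTop ≫ ev := by
        rw [← h2]; simp only [Category.assoc]
      rw [← Category.assoc, h1, Category.assoc, hpoZ.inr_desc, Category.comp_id, h2', hjev]
  -- the value at the identity is a unit
  have hψ : d.left.appTop ((G ◁ jov G).left.appTop ((actLeft G).appTop f)) =
      G.hom.appTop ((η[G].left ≫ G.left.toSpecΓ).appTop f) := by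
    have h1 : d.left ≫ (G ◁ jov G).left ≫ actLeft G = G.hom ≫ η[G].left ≫ G.left.toSpecΓ := by
      rw [iY_actLeft, ← Category.assoc, ← Over.comp_left, GrpObj.left_inv, Over.comp_left,
        Category.assoc, Over.toUnit_left, jov_left]
    have h2 := congrArg (fun φ => φ.appTop f) h1
    simpa only [Scheme.Hom.comp_appTop, CommRingCat.comp_apply] using h2
  have hc : IsUnit ((η[G].left ≫ G.left.toSpecΓ).appTop f) := by
    have h1 : pt ∈ (η[G].left ≫ G.left.toSpecΓ) ⁻¹ᵁ (Spec Γ(G.left, ⊤)).basicOpen f := by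
      rw [Scheme.Hom.mem_preimage, Scheme.Hom.comp_apply]
      exact hfe
    rw [Scheme.preimage_basicOpen_top] at h1
    have h2 : (η[G].left ≫ G.left.toSpecΓ).appTop f ≠ 0 := by
      intro h0
      rw [h0, Scheme.basicOpen_zero] at h1
      exact h1
    let φ := Scheme.ΓSpecIso (CommRingCat.of k)
    have h3 : φ.hom ((η[G].left ≫ G.left.toSpecΓ).appTop f) ≠ 0 := by
      intro h0
      apply h2
      have := congrArg φ.inv h0
      simpa using this
    have h4 : IsUnit (φ.hom ((η[G].left ≫ G.left.toSpecΓ).appTop f)) :=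
      (isUnit_iff_ne_zero (G₀ := k)).mpr h3
    have h5 := h4.map φ.inv.hom
    simpa using h5
  have hunit : IsUnit (ev (d.left.appTop ((G ◁ jov G).left.appTop ((actLeft G).appTop f)))) := by
    rw [hψ]
    exact (hc.map G.hom.appTop.hom).map ev.hom
  have hnil2 : IsNilpotent (ev (d.left.appTop ((G ◁ jov G).left.appTop ((actLeft G).appTop f)))) := by
    have h1 := congrArg (fun φ => φ ((actLeft G).appTop f)) hkey
    simp only [CommRingCat.comp_apply] at h1
    rw [← h1]
    have h2 : (G ◁ zov G z).left.appTop ((actLeft G).appTop f) =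
        ((G ◁ zov G z).left ≫ actLeft G).appTop f := by
      rw [Scheme.Hom.comp_appTop, CommRingCat.comp_apply]
    rw [h2]
    exact hnil.map θ.hom
  haveI : Nontrivial Γ((Zov G z).left, ⊤) :=
    @Scheme.component_nontrivial (Zov G z).left ⊤
      ⟨⟨show ↥(Spec ((Spec Γ(G.left, ⊤)).residueField z)) from
        (⟨⊥, Ideal.isPrime_bot⟩ : PrimeSpectrum ((Spec Γ(G.left, ⊤)).residueField z)), trivial⟩⟩
  exact hnil2.not_isUnit hunit

/-- a quasi-compact quasi-affine group scheme over a field is affine. -/
theorem isAffine_of_isQuasiAffine : IsAffine G.left := by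
  haveI : Epi G.left.toSpecΓ.base :=
    (TopCat.epi_iff_surjective _).mpr (surjective_toSpecΓ G)
  haveI : IsIso G.left.toSpecΓ := IsOpenImmersion.isIso _
  exact ⟨inferInstance⟩

end Groth.Agent.Lib.Helper7.QAG
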