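import Groth.Agent.Lib.Helper7.QF1

/-!
# Ternary forms: forms whose support has non-negative weights for a one-parameter subgroup are not
stable (helper7)
-/

set_option autoImplicit false

universe u

open TensorProduct

namespace Groth.Agent.Lib.Helper7.QF

open HopfRep CoordGrp Groth.Agent.Lib.Helper7.SLnRed Groth.Agent.Lib.Helper7.GF
open Groth.Agent.Lib.Helper7.WZ (cv)
open Groth.Agent.Lib.Helper7.BF (tau)

section NotStable

variable {k : Type u} [Field k] [CharZero k] [IsAlgClosed k]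

theorem not_stable_of_oneps (d : ℕ) (a : FormIdx 3 d → k) (N : Matrix (Fin 3) (Fin 3) k)
    (hN : N.det = 1) (wa wb wc : ℕ) (hw : wa = wb + wc) (hpos : 1 ≤ wa)
    (hsupp : ∀ m : FormIdx 3 d, Matrix.vecMul a (rep 3 d (SLn.pt 3 k N hN)) m ≠ 0 →
      wa * m.1 0 ≤ wb * m.1 1 + wc * m.1 2) :
    ¬ @GLin.IsStablePt k _ (SLn 3 k) _ _ (FormRing k 3 d) _ _ (formsComod k 3 d)
      (formsComod_isCoactAlg k 3 d) (GLin.vecPt k (FormIdx 3 d) a) := by
  classical
  rintro ⟨hclosed, hfin⟩
  letI := formsComod k 3 d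
  haveI := formsComod_isCoactAlg k 3 d
  set b : FormIdx 3 d → k := Matrix.vecMul a (rep 3 d (SLn.pt 3 k N hN)) with hbdef
  -- the limit point
  let y : FormIdx 3 d → k := fun m => if wb * m.1 1 + wc * m.1 2 = wa * m.1 0 then b m else 0
  -- the one-parameter subgroup
  let K' := FractionRing (Polynomial k)
  let ι' : Polynomial k →ₐ[k] K' := IsScalarTower.toAlgHom k (Polynomial k) K'
  have hι'inj : Function.Injective ι' := IsFractionRing.injective (Polynomial k) K'
  let T : K' := ι' Polynomial.X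
  have hT : T ≠ 0 := by
    intro h0
    have : (Polynomial.X : Polynomial k) = 0 := hι'inj (by rw [map_zero]; exact h0)
    exact Polynomial.X_ne_zero this
  set δ : Fin 3 → K' := ![(T ^ wa)⁻¹, T ^ wb, T ^ wc] with hδ
  have hD : (Matrix.diagonal δ).det = 1 := by
    rw [Matrix.det_diagonal, Fin.prod_univ_three]
    simp only [δ, Matrix.cons_val_zero, Matrix.cons_val_one, Matrix.cons_val_two, Matrix.head_cons,
      Matrix.tail_cons]
    rw [mul_assoc, ← pow_add, ← hw, inv_mul_cancel₀ (pow_ne_zero _ hT)]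
  let pD : SLn 3 k →ₐ[k] K' := SLn.pt 3 k (Matrix.diagonal δ) hD
  have hrepD : ∀ l m : FormIdx 3 d, rep 3 d pD l m = if l = m then ∏ i, δ i ^ (l.1 i) else 0 :=
    fun l m => rep_diag 3 d pD δ (fun i j => by rw [SLn.pt_X, Matrix.diagonal_apply]) l m
  have hvecD : ∀ (v : FormIdx 3 d → K') (m : FormIdx 3 d),
      Matrix.vecMul v (rep 3 d pD) m =
        v m * (((T ^ wa)⁻¹) ^ (m.1 0) * (T ^ wb) ^ (m.1 1) * (T ^ wc) ^ (m.1 2)) := by
    intro v m
    rw [Matrix.vecMul, dotProduct, Finset.sum_eq_single m]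
    · rw [hrepD, if_pos rfl, Fin.prod_univ_three]
      simp [δ]
    · intro l _ hl
      rw [hrepD, if_neg hl, mul_zero]
    · intro h'; exact absurd (Finset.mem_univ m) h'
  have hpow : ∀ m : FormIdx 3 d, wa * m.1 0 ≤ wb * m.1 1 + wc * m.1 2 →
      ((T ^ wa)⁻¹) ^ (m.1 0) * (T ^ wb) ^ (m.1 1) * (T ^ wc) ^ (m.1 2) =
        T ^ (wb * m.1 1 + wc * m.1 2 - wa * m.1 0) := by
    intro m hm
    have h1 : (T ^ wb) ^ (m.1 1) * (T ^ wc) ^ (m.1 2) =
        T ^ (wb * m.1 1 + wc * m.1 2 - wa * m.1 0) * (T ^ wa) ^ (m.1 0) := by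
      rw [← pow_mul, ← pow_mul, ← pow_mul, ← pow_add, ← pow_add, Nat.sub_add_cancel hm]
    have h4 : (T ^ wa) ^ (m.1 0) ≠ 0 := pow_ne_zero _ (pow_ne_zero _ hT)
    rw [mul_assoc, h1, inv_pow,
      mul_comm (T ^ (wb * m.1 1 + wc * m.1 2 - wa * m.1 0)) ((T ^ wa) ^ (m.1 0)),
      ← mul_assoc, inv_mul_cancel₀ h4, one_mul]
  -- step 1: y is in the orbit closure
  have hcl : GLin.InOrbitClosure k (SLn 3 k) (GLin.vecPt k (FormIdx 3 d) a)
      (GLin.vecPt k (FormIdx 3 d) y) := by
    let pN : SLn 3 k →ₐ[k] K' := (Algebra.ofId k K').comp (SLn.pt 3 k N hN)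
    let Ξ : SLn 3 k →ₐ[k] K' := cv pN pD
    let c : FormIdx 3 d → Polynomial k :=
      fun m => Polynomial.C (b m) * Polynomial.X ^ (wb * m.1 1 + wc * m.1 2 - wa * m.1 0)
    have hmoved : Matrix.vecMul (fun l => algebraMap k K' (a l)) (rep 3 d Ξ) = fun m => ι' (c m) := by
      have h1 : rep 3 d Ξ = (rep 3 d (SLn.pt 3 k N hN)).map (Algebra.ofId k K') * rep 3 d pD := by
        rw [GF.rep_cv, GF.rep_comp]
      rw [h1, ← Matrix.vecMul_vecMul]
      have h2 : Matrix.vecMul (fun l => algebraMap k K' (a l))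
          ((rep 3 d (SLn.pt 3 k N hN)).map (Algebra.ofId k K')) = fun m => algebraMap k K' (b m) := by
        funext m
        have := RingHom.map_vecMul (algebraMap k K') (rep 3 d (SLn.pt 3 k N hN)) a m
        change _ = algebraMap k K' (Matrix.vecMul a (rep 3 d (SLn.pt 3 k N hN)) m)
        rw [this]
        rfl
      rw [h2]
      funext m
      rw [hvecD]
      by_cases hbm : b m = 0
      · simp [c, hbm]
      · rw [hpow m (hsupp m hbm)]
        simp only [c, map_mul, map_pow]
        congr 1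
    intro f hf
    rw [RingHom.mem_ker] at hf ⊢
    have h1 : Ξ (GLin.orbitHom k (SLn 3 k) (GLin.vecPt k (FormIdx 3 d) a) f) = 0 := by
      rw [hf, map_zero]
    have h2 := congrArg (fun φ => φ f) (comp_orbitHom k 3 d a Ξ)
    simp only [AlgHom.comp_apply] at h2
    rw [h1, hmoved] at h2
    have h3 : ι' (MvPolynomial.aeval c f) = 0 := by
      have := congrArg (fun φ => φ f) (MvPolynomial.comp_aeval (f := c) ι')
      simp only [AlgHom.comp_apply] at this
      rw [this, ← h2]
    have h4 : MvPolynomial.aeval c f = 0 := hι'inj (by rw [h3, map_zero])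
    have h5 := congrArg (Polynomial.aeval (0 : k)) h4
    have h6 := congrArg (fun φ => φ f)
      (MvPolynomial.comp_aeval (f := c) (Polynomial.aeval (0 : k) : Polynomial k →ₐ[k] k))
    simp only [AlgHom.comp_apply] at h6
    rw [h6, map_zero] at h5
    have h7 : (fun m => Polynomial.aeval (0 : k) (c m)) = y := by
      funext m
      by_cases hbm : b m = 0
      · simp [c, y, hbm]
      · have hle := hsupp m hbm
        by_cases heq : wb * m.1 1 + wc * m.1 2 = wa * m.1 0
        · have h0 : wb * m.1 1 + wc * m.1 2 - wa * m.1 0 = 0 := by rw [heq, Nat.sub_self]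
          simp only [c, y]
          rw [h0, if_pos heq]
          simp
        · have h0 : wb * m.1 1 + wc * m.1 2 - wa * m.1 0 ≠ 0 := by
            intro h0
            exact heq (le_antisymm (Nat.sub_eq_zero_iff_le.mp h0) hle)
          simp only [c, y]
          rw [if_neg heq]
          simp [h0]
    rw [h7] at h5
    exact h5
  -- step 2: y is in the orbit
  obtain ⟨g, hg⟩ := exists_point_of_isClosedOrbit' 3 d a y hclosed hcl
  -- step 3: a point of the stabiliser over `k(T)`
  let Mg : Matrix (Fin 3) (Fin 3) k := matOf g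
  have hMg : Mg.det = 1 := matOf_det g
  have hgpt : g = SLn.pt 3 k Mg hMg := eq_pt_matOf g
  let gi : SLn 3 k →ₐ[k] k := SLn.pt 3 k Mg.adjugate (adj_det 3 Mg hMg)
  let gK : SLn 3 k →ₐ[k] K' := (Algebra.ofId k K').comp g
  let giK : SLn 3 k →ₐ[k] K' := (Algebra.ofId k K').comp gi
  let Ξ : SLn 3 k →ₐ[k] K' := cv (cv gK pD) giK
  have hback : Matrix.vecMul y (rep 3 d gi) = a := by
    rw [← hg, Matrix.vecMul_vecMul]
    have : rep 3 d g * rep 3 d gi = 1 := by
      rw [hgpt]; exact rep_mul_adj 3 d Mg hMg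
    rw [this, Matrix.vecMul_one]
  have hstab : Matrix.vecMul (fun l => algebraMap k K' (a l)) (rep 3 d Ξ) =
      fun m => algebraMap k K' (a m) := by
    have h1 : rep 3 d Ξ = (rep 3 d g).map (Algebra.ofId k K') * rep 3 d pD *
        (rep 3 d gi).map (Algebra.ofId k K') := by
      rw [GF.rep_cv, GF.rep_cv, GF.rep_comp, GF.rep_comp]
    rw [h1, ← Matrix.vecMul_vecMul, ← Matrix.vecMul_vecMul]
    have h2 : Matrix.vecMul (fun l => algebraMap k K' (a l))
        ((rep 3 d g).map (Algebra.ofId k K')) = fun m => algebraMap k K' (y m) := by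
      funext m
      have := RingHom.map_vecMul (algebraMap k K') (rep 3 d g) a m
      rw [← hg]
      change _ = algebraMap k K' (Matrix.vecMul a (rep 3 d g) m)
      rw [this]
      rfl
    rw [h2]
    have h3 : Matrix.vecMul (fun m => algebraMap k K' (y m)) (rep 3 d pD) =
        fun m => algebraMap k K' (y m) := by
      funext m
      rw [hvecD]
      by_cases heq : wb * m.1 1 + wc * m.1 2 = wa * m.1 0
      · rw [hpow m (le_of_eq heq.symm), heq, Nat.sub_self, pow_zero, mul_one]
      · simp [y, heq]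
    rw [h3]
    funext m
    have := RingHom.map_vecMul (algebraMap k K') (rep 3 d gi) y m
    rw [← hback]
    change _ = algebraMap k K' (Matrix.vecMul y (rep 3 d gi) m)
    rw [this]
    rfl
  -- Ξ kills the stabiliser ideal
  set I : Ideal (SLn 3 k) := GLin.stabIdeal k (SLn 3 k) (GLin.vecPt k (FormIdx 3 d) a) with hI
  have hkill : ∀ x ∈ I, Ξ x = 0 := by
    have hle : I ≤ RingHom.ker Ξ := by
      rw [hI]
      unfold GLin.stabIdeal
      rw [Ideal.map_le_iff_le_comap]
      intro f hf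
      rw [Ideal.mem_comap, RingHom.mem_ker]
      have h2 := congrArg (fun φ => φ f) (comp_orbitHom k 3 d a Ξ)
      simp only [AlgHom.comp_apply] at h2
      change Ξ (GLin.orbitHom k (SLn 3 k) (GLin.vecPt k (FormIdx 3 d) a) f) = 0
      rw [h2, hstab]
      have h3 := congrArg (fun φ => φ f)
        (MvPolynomial.comp_aeval (f := a) (Algebra.ofId k K'))
      simp only [AlgHom.comp_apply] at h3
      change MvPolynomial.aeval (fun m => (Algebra.ofId k K') (a m)) f = 0
      rw [← h3]
      have : MvPolynomial.aeval a f = 0 := (RingHom.mem_ker).mp hf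
      rw [this, map_zero]
    intro x hx
    exact (RingHom.mem_ker).mp (hle hx)
  let Ξbar : (SLn 3 k ⧸ I) →ₐ[k] K' := Ideal.Quotient.liftₐ I Ξ hkill
  haveI : Module.Finite k (SLn 3 k ⧸ I) := hfin
  have hint : ∀ x : SLn 3 k, IsIntegral k (Ξ x) := by
    intro x
    have h1 : IsIntegral k (Ideal.Quotient.mk I x) := Algebra.IsIntegral.isIntegral _
    have h2 := h1.map Ξbar
    exact h2
  have htrace : Ξ (SLn.X 0 0 + SLn.X 1 1 + SLn.X 2 2) = (T ^ wa)⁻¹ + T ^ wb + T ^ wc := by
    have hΞpt : ∀ i j, Ξ (SLn.X i j) = ((Mg.map (algebraMap k K')) * Matrix.diagonal δ *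
        (Mg.adjugate.map (algebraMap k K'))) i j := by
      intro i j
      have e1 : gK = SLn.pt 3 k (Mg.map (Algebra.ofId k K')) (by
          have : Mg.map (Algebra.ofId k K') = (algebraMap k K').mapMatrix Mg := rfl
          rw [this, ← RingHom.map_det, hMg, map_one]) := by
        apply GF.pt_eq; intro i j; rfl
      have e2 : giK = SLn.pt 3 k (Mg.adjugate.map (Algebra.ofId k K')) (by
          have : Mg.adjugate.map (Algebra.ofId k K') = (algebraMap k K').mapMatrix Mg.adjugate := rfl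
          rw [this, ← RingHom.map_det, adj_det 3 Mg hMg, map_one]) := by
        apply GF.pt_eq; intro i j
        change (Algebra.ofId k K') (gi (SLn.X i j)) = _
        rw [SLn.pt_X]; rfl
      change cv (cv gK pD) giK (SLn.X i j) = _
      rw [e1, e2, GF.cv_pt, GF.cv_pt, SLn.pt_X]
      rfl
    have hmm : Mg.adjugate.map (algebraMap k K') * Mg.map (algebraMap k K') = 1 := by
      have := congrArg (fun A : Matrix (Fin 3) (Fin 3) k => (algebraMap k K').mapMatrix A)
        (adj_mul 3 Mg hMg)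
      simp only [map_mul, map_one] at this
      exact this
    rw [map_add, map_add, hΞpt, hΞpt, hΞpt]
    have htr : Matrix.trace ((Mg.map (algebraMap k K')) * Matrix.diagonal δ *
        (Mg.adjugate.map (algebraMap k K'))) = (T ^ wa)⁻¹ + T ^ wb + T ^ wc := by
      rw [Matrix.trace_mul_comm, ← Matrix.mul_assoc, hmm, Matrix.one_mul, Matrix.trace_fin_three]
      simp [δ]
    rw [Matrix.trace_fin_three] at htr
    exact htr
  have hI1 := hint (SLn.X 0 0 + SLn.X 1 1 + SLn.X 2 2)
  rw [htrace] at hI1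
  have hdeg1 : (minpoly k ((T ^ wa)⁻¹ + T ^ wb + T ^ wc)).degree = 1 :=
    IsAlgClosed.degree_eq_one_of_irreducible k (minpoly.irreducible hI1)
  obtain ⟨c, hc⟩ := minpoly.mem_range_of_degree_eq_one k ((T ^ wa)⁻¹ + T ^ wb + T ^ wc) hdeg1
  have hpoly : ι' (Polynomial.X ^ (wa + wb) + Polynomial.X ^ (wa + wc) -
      Polynomial.C c * Polynomial.X ^ wa + 1) = 0 := by
    rw [map_add, map_sub, map_add, map_mul, map_pow, map_pow, map_pow, map_one]
    change T ^ (wa + wb) + T ^ (wa + wc) - ι' (Polynomial.C c) * T ^ wa + 1 = 0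
    have : ι' (Polynomial.C c) = algebraMap k K' c := by
      rw [← Polynomial.algebraMap_eq]; exact ι'.commutes c
    rw [this, hc, pow_add, pow_add]
    have h2 : (T ^ wa)⁻¹ * T ^ wa = 1 := inv_mul_cancel₀ (pow_ne_zero _ hT)
    linear_combination (-1 : K') * h2
  have hzero : (Polynomial.X ^ (wa + wb) + Polynomial.X ^ (wa + wc) -
      Polynomial.C c * Polynomial.X ^ wa + 1 : Polynomial k) = 0 :=
    hι'inj (by rw [hpoly, map_zero])
  have hev := congrArg (Polynomial.eval (0 : k)) hzero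
  have e1 : wa + wb ≠ 0 := by omega
  have e2 : wa + wc ≠ 0 := by omega
  have e3 : wa ≠ 0 := by omega
  simp [zero_pow e1, zero_pow e2, zero_pow e3] at hev

end NotStable

end Groth.Agent.Lib.Helper7.QF
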