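import Groth.Agent.Lib.Helper7.QF1
import Groth.Agent.Lib.Helper7.HF3

/-!
# Plane quartics: analysis of a place of `SL₃` moving a quartic into the valuation ring (helper7)
-/

set_option autoImplicit false

universe u

open TensorProduct

namespace Groth.Agent.Lib.Helper7.QF

open HopfRep CoordGrp Groth.Agent.Lib.Helper7.SLnRed Groth.Agent.Lib.Helper7.GF
open Groth.Agent.Lib.Helper7.WZ (cv)

section Defs

variable {k : Type u} [Field k]

/-- the exponent vector of `x₀² x₂²`. -/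
noncomputable def m202 : FormIdx 3 4 :=
  ⟨Finsupp.single 0 2 + Finsupp.single 2 2, by simp [map_add, Finsupp.degree_single]⟩

/-- the exponent vector of `x₀ x₁³`. -/
noncomputable def m130 : FormIdx 3 4 :=
  ⟨Finsupp.single 0 1 + Finsupp.single 1 3, by simp [map_add, Finsupp.degree_single]⟩

/-- the normal form: a triple point at `e₀`, or a tacnode with tangent line `x₂ = 0`. -/
def NF (b : FormIdx 3 4 → k) : Prop :=
  (∀ m : FormIdx 3 4, 2 ≤ m.1 0 → m.1 2 ≤ 1 → b m = 0) ∧ (b m202 = 0 ∨ b m130 = 0)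

lemma deg34 (m : FormIdx 3 4) : m.1 0 + m.1 1 + m.1 2 = 4 := by
  have := m.2
  rw [Finsupp.degree_eq_sum, Fin.sum_univ_three] at this
  exact this

end Defs

section Main

variable {k : Type u} [Field k]

theorem place_analysis_quartic (a : FormIdx 3 4 → k)
    (R : Type u) [CommRing R] [IsDomain R] [ValuationRing R] [Algebra k R] (res : R →ₐ[k] k)
    (hker : RingHom.ker res = IsLocalRing.maximalIdeal R)
    (Ξ : SLn 3 k →ₐ[k] FractionRing R) (hvec : FormIdx 3 4 → R)
    (hmoved : Matrix.vecMul (fun l => algebraMap k (FractionRing R) (a l)) (rep 3 4 Ξ) =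
      fun m => IsScalarTower.toAlgHom k R (FractionRing R) (hvec m)) :
    (∃ ΞR : SLn 3 k →ₐ[k] R, Ξ = (IsScalarTower.toAlgHom k R (FractionRing R)).comp ΞR) ∨
      ∃ (Ub : Matrix (Fin 3) (Fin 3) k) (hUb : Ub.det = 1),
        NF (Matrix.vecMul a (rep 3 4 (SLn.pt 3 k Ub hUb))) := by
  classical
  set K := FractionRing R with hK
  let ι : R →ₐ[k] K := IsScalarTower.toAlgHom k R K
  have hιinj : Function.Injective ι := IsFractionRing.injective R K
  have hιalg : ∀ r : R, algebraMap R K r = ι r := fun _ => rfl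
  let M : Matrix (Fin 3) (Fin 3) K := matOf Ξ
  have hM : M.det = 1 := matOf_det Ξ
  obtain ⟨U, V, p, q, c, hU, hV, hp3, hdec⟩ := exists_cartan3 R K M hM
  rw [hιalg, hιalg] at hp3 hdec
  set δ : Fin 3 → K := ![p, p * ι q, p * ι q * ι c] with hδ
  have hD : (Matrix.diagonal δ).det = 1 := by
    rw [Matrix.det_diagonal, Fin.prod_univ_three]
    simpa [δ] using hp3
  have hq0 : q ≠ 0 := by
    rintro rfl
    rw [map_zero] at hp3
    simp at hp3
  have hc0 : c ≠ 0 := by
    rintro rfl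
    rw [map_zero] at hp3
    simp at hp3
  have hmapU : (algebraMap R K).mapMatrix U = U.map ι := rfl
  have hmapV : (algebraMap R K).mapMatrix V = V.map ι := rfl
  let pU : SLn 3 k →ₐ[k] R := SLn.pt 3 k U hU
  let pV : SLn 3 k →ₐ[k] R := SLn.pt 3 k V hV
  let pVi : SLn 3 k →ₐ[k] R := SLn.pt 3 k V.adjugate (adj_det 3 V hV)
  let pD : SLn 3 k →ₐ[k] K := SLn.pt 3 k (Matrix.diagonal δ) hD
  have hΞ : Ξ = cv (cv (ι.comp pU) pD) (ι.comp pV) := by
    rw [GF.comp_pt ι U hU, GF.comp_pt ι V hV, GF.cv_pt, GF.cv_pt]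
    apply GF.pt_eq
    intro i j
    change M i j = _
    rw [hdec, hmapU, hmapV]
  have hrepΞ : rep 3 4 Ξ = (rep 3 4 pU).map ι * rep 3 4 pD * (rep 3 4 pV).map ι := by
    rw [hΞ, GF.rep_cv, GF.rep_cv, GF.rep_comp, GF.rep_comp]
  let b : FormIdx 3 4 → R := Matrix.vecMul (fun l => algebraMap k R (a l)) (rep 3 4 pU)
  let s : FormIdx 3 4 → R := Matrix.vecMul hvec (rep 3 4 pVi)
  have hb : Matrix.vecMul (fun l => algebraMap k K (a l)) ((rep 3 4 pU).map ι) = fun m => ι (b m) := by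
    funext m
    have := RingHom.map_vecMul (ι : R →+* K) (rep 3 4 pU) (fun l => algebraMap k R (a l)) m
    change _ = (ι : R →+* K) (Matrix.vecMul (fun l => algebraMap k R (a l)) (rep 3 4 pU) m)
    rw [this]
    congr 1
  have hVV : (rep 3 4 pV).map ι * (rep 3 4 pVi).map ι = 1 := by
    have h1 : rep 3 4 pV * rep 3 4 pVi = 1 := rep_mul_adj 3 4 V hV
    have h2 := congrArg (fun N : Matrix (FormIdx 3 4) (FormIdx 3 4) R => N.map ι) h1
    rw [show (rep 3 4 pV * rep 3 4 pVi).map ι = (ι : R →+* K).mapMatrix (rep 3 4 pV * rep 3 4 pVi) from rfl,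
      map_mul] at h2
    rw [show (1 : Matrix (FormIdx 3 4) (FormIdx 3 4) R).map ι =
      (ι : R →+* K).mapMatrix 1 from rfl, map_one] at h2
    exact h2
  have hkey : Matrix.vecMul (fun m => ι (b m)) (rep 3 4 pD) = fun m => ι (s m) := by
    have h1 : Matrix.vecMul (Matrix.vecMul (fun m => ι (b m)) (rep 3 4 pD)) ((rep 3 4 pV).map ι) =
        fun m => ι (hvec m) := by
      rw [← hmoved, hrepΞ, ← hb, Matrix.vecMul_vecMul, Matrix.vecMul_vecMul, Matrix.mul_assoc]
    have h2 := congrArg (fun v => Matrix.vecMul v ((rep 3 4 pVi).map ι)) h1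
    simp only [Matrix.vecMul_vecMul] at h2
    rw [Matrix.mul_assoc, hVV, Matrix.mul_one] at h2
    rw [h2]
    funext m
    have := RingHom.map_vecMul (ι : R →+* K) (rep 3 4 pVi) hvec m
    change _ = (ι : R →+* K) (Matrix.vecMul hvec (rep 3 4 pVi) m)
    rw [this]
    rfl
  have hrepD : ∀ l m : FormIdx 3 4, rep 3 4 pD l m = if l = m then ∏ i, δ i ^ (l.1 i) else 0 :=
    fun l m => rep_diag 3 4 pD δ (fun i j => by rw [SLn.pt_X, Matrix.diagonal_apply]) l m
  have hdiag : ∀ m : FormIdx 3 4, ι (b m) * (p ^ (m.1 0) * (p * ι q) ^ (m.1 1) *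
      (p * ι q * ι c) ^ (m.1 2)) = ι (s m) := by
    intro m
    have h1 := congrFun hkey m
    rw [Matrix.vecMul, dotProduct, Finset.sum_eq_single m] at h1
    · rw [← h1, hrepD, if_pos rfl, Fin.prod_univ_three]
      simp [δ]
    · intro l _ hl
      rw [hrepD, if_neg hl, mul_zero]
    · intro h'; exact absurd (Finset.mem_univ m) h'
  -- the key relation
  have hKR : ∀ m : FormIdx 3 4, (b m) ^ 3 * q ^ (3 * (m.1 1 + m.1 2)) * c ^ (3 * m.1 2) =
      (s m) ^ 3 * q ^ 8 * c ^ 4 := by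
    intro m
    apply hιinj
    have hsum := deg34 m
    have h1 := hdiag m
    have h3 : p ^ 3 * ι q ^ 2 * ι c = 1 := by linear_combination hp3
    have h5 : p ^ 12 * ι q ^ 8 * ι c ^ 4 = 1 := by
      have : (p ^ 3 * ι q ^ 2 * ι c) ^ 4 = 1 := by rw [h3, one_pow]
      linear_combination this
    simp only [map_mul, map_pow]
    rw [← h1]
    have h4 : p ^ (m.1 0) * (p * ι q) ^ (m.1 1) * (p * ι q * ι c) ^ (m.1 2) =
        p ^ (m.1 0 + m.1 1 + m.1 2) * ι q ^ (m.1 1 + m.1 2) * ι c ^ (m.1 2) := by ring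
    rw [h4, hsum]
    linear_combination (-(ι (b m)) ^ 3 * ι q ^ (3 * (m.1 1 + m.1 2)) * ι c ^ (3 * m.1 2)) * h5
  have hdvd : ∀ m : FormIdx 3 4, IsUnit (b m) → q ^ 8 * c ^ 4 ∣
      q ^ (3 * (m.1 1 + m.1 2)) * c ^ (3 * m.1 2) := by
    intro m hu
    obtain ⟨u, hu⟩ := hu
    refine ⟨((u⁻¹ : Rˣ) : R) ^ 3 * (s m) ^ 3, ?_⟩
    have h1 := hKR m
    have h2 : ((u⁻¹ : Rˣ) : R) * b m = 1 := by rw [← hu]; exact Units.inv_mul u
    have h3 : ((u⁻¹ : Rˣ) : R) ^ 3 * (b m) ^ 3 = 1 := by rw [← mul_pow, h2, one_pow]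
    linear_combination (-(q ^ (3 * (m.1 1 + m.1 2)) * c ^ (3 * m.1 2))) * h3 +
      ((u⁻¹ : Rˣ) : R) ^ 3 * h1
  have hcancel : ∀ X Y Z : R, X ≠ 0 → (X * Y ∣ X * Z) → Y ∣ Z :=
    fun X Y Z hX h => (mul_dvd_mul_iff_left hX).mp h
  by_cases hall : IsUnit q ∧ IsUnit c
  · -- the point is integral
    left
    obtain ⟨hq, hc⟩ := hall
    obtain ⟨r, hr⟩ : ∃ r : R, ι r = p := by
      rcases ValuationRing.isInteger_or_isInteger R p with ⟨r, hr⟩ | ⟨r, hr⟩
      · exact ⟨r, hr⟩
      · have hp0 : p ≠ 0 := by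
          rintro rfl
          simp at hp3
        have h3 : p ^ 3 * ι q ^ 2 * ι c = 1 := by linear_combination hp3
        have h4 : ι (r ^ 3) = ι (q ^ 2 * c) := by
          rw [map_pow, map_mul, map_pow]
          change (algebraMap R K r) ^ 3 = _
          rw [hr, inv_pow]
          exact inv_eq_of_mul_eq_one_right (by linear_combination h3)
        have h5 : r ^ 3 = q ^ 2 * c := hιinj h4
        have h6 : IsUnit (r ^ 3) := by rw [h5]; exact (hq.pow 2).mul hc
        have h7 : IsUnit r := (isUnit_pow_iff (by norm_num)).mp h6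
        obtain ⟨u, hu⟩ := h7
        refine ⟨((u⁻¹ : Rˣ) : R), ?_⟩
        have h8 : ι ((u⁻¹ : Rˣ) : R) * ι r = 1 := by
          rw [← map_mul, ← hu, Units.inv_mul, map_one]
        have h9 : ι r = p⁻¹ := hr
        rw [h9] at h8
        exact (mul_inv_eq_one₀ hp0).mp h8
    let DR : Matrix (Fin 3) (Fin 3) R := Matrix.diagonal ![r, r * q, r * q * c]
    have hDRmap : DR.map ι = Matrix.diagonal δ := by
      ext i j
      fin_cases i <;> fin_cases j <;> simp [DR, δ, hr, Matrix.diagonal]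
    have hDR : DR.det = 1 := by
      apply hιinj
      have h1 : ι DR.det = ((ι : R →+* K).mapMatrix DR).det := RingHom.map_det _ _
      rw [h1, show (ι : R →+* K).mapMatrix DR = DR.map ι from rfl, hDRmap, hD, map_one]
    have hdet : (U * DR * V).det = 1 := by rw [Matrix.det_mul, Matrix.det_mul, hU, hDR, hV]; simp
    refine ⟨SLn.pt 3 k (U * DR * V) hdet, ?_⟩
    rw [GF.comp_pt ι (U * DR * V) hdet]
    apply GF.pt_eq
    intro i j
    change M i j = _
    rw [hdec, hmapU, hmapV, ← hDRmap]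
    have : (U * DR * V).map ι = U.map ι * DR.map ι * V.map ι := by
      rw [show (U * DR * V).map ι = (ι : R →+* K).mapMatrix (U * DR * V) from rfl, map_mul, map_mul]
      rfl
    rw [this]
  · right
    let Ub : Matrix (Fin 3) (Fin 3) k := U.map res
    have hUb : Ub.det = 1 := by
      have : Ub = (res : R →+* k).mapMatrix U := rfl
      rw [this, ← RingHom.map_det, hU, map_one]
    let bb : FormIdx 3 4 → k := Matrix.vecMul a (rep 3 4 (SLn.pt 3 k Ub hUb))
    have hbb : ∀ m, res (b m) = bb m := by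
      intro m
      have := RingHom.map_vecMul (res : R →+* k) (rep 3 4 pU) (fun l => algebraMap k R (a l)) m
      rw [show res (b m) = (res : R →+* k) (b m) from rfl, this]
      have h1 : (rep 3 4 pU).map (res : R →+* k) = rep 3 4 (SLn.pt 3 k Ub hUb) := by
        rw [← GF.comp_pt res U hU]
        rfl
      rw [h1]
      congr 1
      funext l
      simp [Function.comp]
    have hunit_of_res : ∀ t : R, res t ≠ 0 → IsUnit t := by
      intro t ht
      by_contra hnu
      have : t ∈ IsLocalRing.maximalIdeal R := (IsLocalRing.mem_maximalIdeal t).mpr hnu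
      rw [← hker] at this
      exact ht ((RingHom.mem_ker).mp this)
    have hnotall : ∀ {i j : ℕ}, i ≠ 0 → j ≠ 0 → ¬ IsUnit (q ^ i * c ^ j) := by
      intro i j hi hj hu
      rw [IsUnit.mul_iff] at hu
      exact hall ⟨(isUnit_pow_iff hi).mp hu.1, (isUnit_pow_iff hj).mp hu.2⟩
    have hkill : ∀ m : FormIdx 3 4, 2 ≤ m.1 0 → m.1 2 ≤ 1 → ¬ IsUnit (b m) := by
      intro m hm0 hm2 hu
      have hd := hdvd m hu
      have hsum := deg34 m
      have hc : (m.1 1 = 0 ∧ m.1 2 = 0) ∨ (m.1 1 = 1 ∧ m.1 2 = 0) ∨ (m.1 1 = 0 ∧ m.1 2 = 1) ∨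
          (m.1 1 = 2 ∧ m.1 2 = 0) ∨ (m.1 1 = 1 ∧ m.1 2 = 1) := by omega
      rcases hc with ⟨a1, a2⟩ | ⟨a1, a2⟩ | ⟨a1, a2⟩ | ⟨a1, a2⟩ | ⟨a1, a2⟩
      · rw [a1, a2] at hd
        simp only [add_zero, mul_zero, pow_zero, mul_one] at hd
        exact hnotall (by norm_num) (by norm_num) (isUnit_of_dvd_one hd)
      · rw [a1, a2] at hd
        norm_num at hd
        have h1 : q ^ 3 * (q ^ 5 * c ^ 4) ∣ q ^ 3 * 1 := by
          rw [mul_one]
          have : q ^ 3 * (q ^ 5 * c ^ 4) = q ^ 8 * c ^ 4 := by ring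
          rw [this]; exact hd
        exact hnotall (by norm_num) (by norm_num)
          (isUnit_of_dvd_one (hcancel _ _ _ (pow_ne_zero _ hq0) h1))
      · rw [a1, a2] at hd
        norm_num at hd
        have h1 : (q ^ 3 * c ^ 3) * (q ^ 5 * c ^ 1) ∣ (q ^ 3 * c ^ 3) * 1 := by
          rw [mul_one]
          have : (q ^ 3 * c ^ 3) * (q ^ 5 * c ^ 1) = q ^ 8 * c ^ 4 := by ring
          rw [this]; exact hd
        exact hnotall (by norm_num) (by norm_num)
          (isUnit_of_dvd_one (hcancel _ _ _ (mul_ne_zero (pow_ne_zero _ hq0) (pow_ne_zero _ hc0)) h1))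
      · rw [a1, a2] at hd
        norm_num at hd
        have h1 : q ^ 6 * (q ^ 2 * c ^ 4) ∣ q ^ 6 * 1 := by
          rw [mul_one]
          have : q ^ 6 * (q ^ 2 * c ^ 4) = q ^ 8 * c ^ 4 := by ring
          rw [this]; exact hd
        exact hnotall (by norm_num) (by norm_num)
          (isUnit_of_dvd_one (hcancel _ _ _ (pow_ne_zero _ hq0) h1))
      · rw [a1, a2] at hd
        norm_num at hd
        have h1 : (q ^ 6 * c ^ 3) * (q ^ 2 * c ^ 1) ∣ (q ^ 6 * c ^ 3) * 1 := by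
          rw [mul_one]
          have : (q ^ 6 * c ^ 3) * (q ^ 2 * c ^ 1) = q ^ 8 * c ^ 4 := by ring
          rw [this]; exact hd
        exact hnotall (by norm_num) (by norm_num)
          (isUnit_of_dvd_one (hcancel _ _ _ (mul_ne_zero (pow_ne_zero _ hq0) (pow_ne_zero _ hc0)) h1))
    have hres0 : ∀ m : FormIdx 3 4, ¬ IsUnit (b m) → bb m = 0 := by
      intro m hnu
      by_contra hne
      rw [← hbb m] at hne
      exact hnu (hunit_of_res _ hne)
    refine ⟨Ub, hUb, fun m h0 h2 => hres0 m (hkill m h0 h2), ?_⟩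
    change bb m202 = 0 ∨ bb m130 = 0
    by_contra hprod
    push Not at hprod
    obtain ⟨hα, hβ⟩ := hprod
    rw [← hbb] at hα hβ
    have hdα := hdvd _ (hunit_of_res _ hα)
    have hdβ := hdvd _ (hunit_of_res _ hβ)
    have ea1 : (m202).1 1 = 0 := by simp [m202]
    have ea2 : (m202).1 2 = 2 := by simp [m202]
    have eb1 : (m130).1 1 = 3 := by simp [m130]
    have eb2 : (m130).1 2 = 0 := by simp [m130]
    rw [ea1, ea2] at hdα
    rw [eb1, eb2] at hdβ
    norm_num at hdα hdβ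
    have h1 : (q ^ 6 * c ^ 4) * q ^ 2 ∣ (q ^ 6 * c ^ 4) * c ^ 2 := by
      have e1 : (q ^ 6 * c ^ 4) * q ^ 2 = q ^ 8 * c ^ 4 := by ring
      have e2 : (q ^ 6 * c ^ 4) * c ^ 2 = q ^ 6 * c ^ 6 := by ring
      rw [e1, e2]; exact hdα
    have h2 : q ^ 8 * c ^ 4 ∣ q ^ 8 * q := by
      have e2 : q ^ 8 * q = q ^ 9 := by ring
      rw [e2]; exact hdβ
    obtain ⟨x, hx⟩ := hcancel _ _ _ (mul_ne_zero (pow_ne_zero _ hq0) (pow_ne_zero _ hc0)) h1
    obtain ⟨y, hy⟩ := hcancel _ _ _ (pow_ne_zero _ hq0) h2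
    -- c² = q² x, q = c⁴ y
    have h3 : q * (1 - q ^ 3 * (x ^ 2 * y)) = 0 := by
      have : q = (q ^ 2 * x) ^ 2 * y := by
        rw [← hx]
        calc q = c ^ 4 * y := hy
          _ = (c ^ 2) ^ 2 * y := by ring
      linear_combination this
    have h4 : q ^ 3 * (x ^ 2 * y) = 1 := by
      rcases mul_eq_zero.mp h3 with h | h
      · exact absurd h hq0
      · exact (sub_eq_zero.mp h).symm
    have huq : IsUnit q := (isUnit_pow_iff (by norm_num)).mp (IsUnit.of_mul_eq_one _ h4)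
    have huc : IsUnit c := by
      have h6 : IsUnit (c ^ 4 * y) := by rw [← hy]; exact huq
      rw [IsUnit.mul_iff] at h6
      exact (isUnit_pow_iff (by norm_num)).mp h6.1
    exact hall ⟨huq, huc⟩

end Main

end Groth.Agent.Lib.Helper7.QF
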