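import Groth.Agent.Lib.Helper7.QF2
import Groth.Agent.Lib.Helper7.QF3

/-!
# Plane quartics: the non-stable quartics (helper7)
-/

set_option autoImplicit false

universe u

open TensorProduct

namespace Groth.Agent.Lib.Helper7.QF

open HopfRep CoordGrp Groth.Agent.Lib.Helper7.SLnRed Groth.Agent.Lib.Helper7.GF
open Groth.Agent.Lib.Helper7.BF (tau)

section Main

variable {k : Type u} [Field k] [CharZero k] [IsAlgClosed k]

lemma eq_m202 (m : FormIdx 3 4) (h0 : m.1 0 = 2) (h2 : m.1 2 = 2) : m = m202 := by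
  have hsum := deg34 m
  apply Subtype.ext
  ext l
  fin_cases l <;> simp [m202] <;> omega

lemma eq_m130 (m : FormIdx 3 4) (h0 : m.1 0 = 1) (h1 : m.1 1 = 3) : m = m130 := by
  have hsum := deg34 m
  apply Subtype.ext
  ext l
  fin_cases l <;> simp [m130] <;> omega

theorem not_stable_of_NF (a : FormIdx 3 4 → k) (N : Matrix (Fin 3) (Fin 3) k) (hN : N.det = 1)
    (hNF : NF (Matrix.vecMul a (rep 3 4 (SLn.pt 3 k N hN)))) :
    ¬ @GLin.IsStablePt k _ (SLn 3 k) _ _ (FormRing k 3 4) _ _ (formsComod k 3 4)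
      (formsComod_isCoactAlg k 3 4) (GLin.vecPt k (FormIdx 3 4) a) := by
  obtain ⟨h5, h | h⟩ := hNF
  · apply not_stable_of_oneps 4 a N hN 2 1 1 rfl (by norm_num)
    intro m hm
    have hsum := deg34 m
    by_contra hlt
    apply hm
    by_cases h2 : m.1 2 ≤ 1
    · exact h5 m (by omega) h2
    · have : m = m202 := eq_m202 m (by omega) (by omega)
      rw [this]; exact h
  · apply not_stable_of_oneps 4 a N hN 1 0 1 rfl (by norm_num)
    intro m hm
    have hsum := deg34 m
    by_contra hlt
    apply hm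
    by_cases h0 : 2 ≤ m.1 0
    · exact h5 m h0 (by omega)
    · have : m = m130 := eq_m130 m (by omega) (by omega)
      rw [this]; exact h

theorem not_stable_iff_NF (a : FormIdx 3 4 → k) :
    ¬ @GLin.IsStableVec k _ (SLn 3 k) _ _ (FormIdx 3 4) (formsComod k 3 4)
      (formsComod_isCoactAlg k 3 4) a ↔
    ∃ (N : Matrix (Fin 3) (Fin 3) k) (hN : N.det = 1),
      NF (Matrix.vecMul a (rep 3 4 (SLn.pt 3 k N hN))) := by
  constructor
  · intro hns
    by_contra hno
    apply hns
    have hdich : Dich 3 4 a (∃ (N : Matrix (Fin 3) (Fin 3) k) (hN : N.det = 1),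
        NF (Matrix.vecMul a (rep 3 4 (SLn.pt 3 k N hN)))) := by
      intro R _ _ _ _ res hker Ξ hvec hmoved
      exact place_analysis_quartic a R res hker Ξ hvec hmoved
    exact ⟨isClosedOrbit_of_dich 3 4 a hdich hno, hasFiniteStab_of_dich 3 4 a hdich hno⟩
  · rintro ⟨N, hN, hNF⟩ hst
    exact not_stable_of_NF a N hN hNF hst

/-- the statement in terms of the coefficients of the substituted form. -/
theorem not_stable_iff_coeffs (a : FormIdx 3 4 → k) :
    ¬ @GLin.IsStableVec k _ (SLn 3 k) _ _ (FormIdx 3 4) (formsComod k 3 4)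
      (formsComod_isCoactAlg k 3 4) a ↔
    ∃ M : Matrix (Fin 3) (Fin 3) k, M.det = 1 ∧
      ∃ F' : MvPolynomial (Fin 3) k,
        F' = MvPolynomial.aeval (fun i : Fin 3 => ∑ j : Fin 3, MvPolynomial.C (M i j) * MvPolynomial.X j)
            (formPoly a) ∧
        (∀ ij : ℕ × ℕ, ij ∈ ({(0, 0), (1, 0), (0, 1), (2, 0), (1, 1)} : Finset (ℕ × ℕ)) →
          F'.coeff (Finsupp.single 0 (4 - ij.1 - ij.2) + Finsupp.single 1 ij.1 + Finsupp.single 2 ij.2) = 0) ∧
        (F'.coeff (Finsupp.single 0 2 + Finsupp.single 2 2) = 0 ∨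
          F'.coeff (Finsupp.single 0 1 + Finsupp.single 1 3) = 0) := by
  rw [not_stable_iff_NF]
  have htau : ∀ M : Matrix (Fin 3) (Fin 3) k,
      MvPolynomial.aeval (fun i : Fin 3 => ∑ j : Fin 3, MvPolynomial.C (M i j) * MvPolynomial.X j) =
        tau M := by
    intro M
    unfold tau
    congr 1
    funext i
    refine Finset.sum_congr rfl fun j _ => ?_
    rw [MvPolynomial.smul_eq_C_mul]
  have hform : ∀ (M : Matrix (Fin 3) (Fin 3) k) (hM : M.det = 1),
      tau M (formPoly a) = formPoly (Matrix.vecMul a (rep 3 4 (SLn.pt 3 k M hM))) := by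
    intro M hM
    exact (formPoly_vecMul 3 4 _ M (fun i j => SLn.pt_X _ _ i j) a).symm
  have hexp : ∀ m : FormIdx 3 4, m.1 = Finsupp.single 0 (4 - m.1 1 - m.1 2) +
      Finsupp.single 1 (m.1 1) + Finsupp.single 2 (m.1 2) := by
    intro m
    have hsum := deg34 m
    ext l
    fin_cases l <;> simp <;> omega
  have hcoef : ∀ (b : FormIdx 3 4 → k) (m : FormIdx 3 4),
      (formPoly b).coeff m.1 = 0 ↔ b m = 0 := by
    intro b m
    rw [coeff_formPoly]
    constructor
    · intro h
      rcases mul_eq_zero.mp h with h1 | h1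
      · exact absurd h1 (multinomial_ne_zero' _)
      · exact h1
    · intro h; rw [h, mul_zero]
  constructor
  · rintro ⟨N, hN, h5, h2⟩
    refine ⟨N, hN, _, rfl, ?_, ?_⟩
    · intro ij hij
      rw [htau, hform N hN]
      simp only [Finset.mem_insert, Finset.mem_singleton] at hij
      have key : ∀ (i j : ℕ), i + j ≤ 2 → j ≤ 1 →
          (formPoly (Matrix.vecMul a (rep 3 4 (SLn.pt 3 k N hN)))).coeff
            (Finsupp.single 0 (4 - i - j) + Finsupp.single 1 i + Finsupp.single 2 j) = 0 := by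
        intro i j hij1 hj
        have hdeg : (Finsupp.single (0 : Fin 3) (4 - i - j) + Finsupp.single 1 i +
            Finsupp.single 2 j : Fin 3 →₀ ℕ).degree = 4 := by
          rw [map_add, map_add, Finsupp.degree_single, Finsupp.degree_single,
            Finsupp.degree_single]
          omega
        have := (hcoef (Matrix.vecMul a (rep 3 4 (SLn.pt 3 k N hN))) ⟨_, hdeg⟩).mpr
          (h5 ⟨_, hdeg⟩ (by simp; omega) (by simp; omega))
        exact this
      rcases hij with rfl | rfl | rfl | rfl | rfl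
      · exact key 0 0 (by norm_num) (by norm_num)
      · exact key 1 0 (by norm_num) (by norm_num)
      · exact key 0 1 (by norm_num) (by norm_num)
      · exact key 2 0 (by norm_num) (by norm_num)
      · exact key 1 1 (by norm_num) (by norm_num)
    · rw [htau, hform N hN]
      rcases h2 with h | h
      · left; exact (hcoef _ m202).mpr h
      · right; exact (hcoef _ m130).mpr h
  · rintro ⟨M, hM, F', rfl, h5, h2⟩
    rw [htau, hform M hM] at h5 h2
    refine ⟨M, hM, ?_, ?_⟩
    · intro m hm0 hm2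
      have hsum := deg34 m
      rw [← hcoef, hexp m]
      have hmem : (m.1 1, m.1 2) ∈ ({(0, 0), (1, 0), (0, 1), (2, 0), (1, 1)} : Finset (ℕ × ℕ)) := by
        simp only [Finset.mem_insert, Finset.mem_singleton, Prod.mk.injEq]
        omega
      exact h5 (m.1 1, m.1 2) hmem
    · rcases h2 with h | h
      · left; exact (hcoef _ m202).mp h
      · right; exact (hcoef _ m130).mp h

end Main

end Groth.Agent.Lib.Helper7.QF
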