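import Mathlib

/-!
# Transitivity of a finite group on geometric points over the invariants (helper7)

`A → B`, `G` finite acting on `B` with `B^G = A`.  Two ring homs `a b : B → L` into a domain that
agree on `A` differ by an element of `G`.
-/

set_option autoImplicit false
set_option linter.unusedSectionVars false
set_option linter.style.haveILetI false

namespace Groth.Agent.Lib.Helper7.QGP

open Polynomial
open scoped Pointwise

universe u v w

variable {A : Type u} {B : Type v} [CommRing A] [CommRing B] [Algebra A B]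
  {G : Type w} [Group G] [Finite G] [MulSemiringAction G B] [SMulCommClass G A B]
  [Algebra.IsInvariant A B G]
  {L : Type*} [CommRing L] [IsDomain L]

/-- pointwise version (characteristic polynomial). -/
lemma exists_apply_eq (a b : B →+* L) (hab : a.comp (algebraMap A B) = b.comp (algebraMap A B))
    (x : B) : ∃ g : G, b x = a (g • x) := by
  cases nonempty_fintype G
  obtain ⟨M, hM⟩ := (mem_lifts _).mp (Algebra.IsInvariant.charpoly_mem_lifts A B G x)
  have h1 : (MulSemiringAction.charpoly G x).map a = (MulSemiringAction.charpoly G x).map b := by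
    rw [← hM, Polynomial.map_map, Polynomial.map_map, hab]
  have h2 : ((MulSemiringAction.charpoly G x).map b).eval (b x) = 0 := by
    rw [Polynomial.eval_map, Polynomial.eval₂_at_apply, MulSemiringAction.eval_charpoly, map_zero]
  rw [← h1, MulSemiringAction.charpoly_eq, Polynomial.map_prod, Polynomial.eval_prod,
    Finset.prod_eq_zero_iff] at h2
  obtain ⟨g, -, hg⟩ := h2
  refine ⟨g, ?_⟩
  simpa [sub_eq_zero] using hg

/-- case of equal kernels. -/
lemma exists_smul_of_ker_eq (a b : B →+* L)
    (hab : a.comp (algebraMap A B) = b.comp (algebraMap A B))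
    (hker : RingHom.ker a = RingHom.ker b) : ∃ g : G, ∀ x, b x = a (g • x) := by
  let Q : Ideal B := RingHom.ker a
  let P : Ideal A := Q.under A
  haveI hQ : Q.IsPrime := RingHom.ker_isPrime a
  haveI : Q.LiesOver P := ⟨rfl⟩
  -- the two embeddings of B ⧸ Q
  let abar : B ⧸ Q →+* L := RingHom.kerLift a
  let bbar : B ⧸ Q →+* L := Ideal.Quotient.lift Q b (fun x hx => by
    have : x ∈ RingHom.ker b := hker ▸ hx
    exact this)
  have habar : Function.Injective abar := RingHom.kerLift_injective a
  have hbbar : Function.Injective bbar := by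
    rw [injective_iff_map_eq_zero]
    intro z hz
    obtain ⟨x, rfl⟩ := Ideal.Quotient.mk_surjective z
    rw [Ideal.Quotient.eq_zero_iff_mem]
    have : x ∈ RingHom.ker b := hz
    change x ∈ RingHom.ker a
    rw [hker]; exact this
  have habarb : ∀ z, ∃ z', abar z' = bbar z := by
    intro z
    obtain ⟨x, rfl⟩ := Ideal.Quotient.mk_surjective z
    obtain ⟨g, hg⟩ := exists_apply_eq (G := G) a b hab x
    exact ⟨Ideal.Quotient.mk Q (g • x), hg.symm⟩
  have hbabar : ∀ z, ∃ z', bbar z' = abar z := by
    intro z
    obtain ⟨x, rfl⟩ := Ideal.Quotient.mk_surjective z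
    obtain ⟨g, hg⟩ := exists_apply_eq (G := G) b a hab.symm x
    exact ⟨Ideal.Quotient.mk Q (g • x), hg.symm⟩
  choose σ hσ using habarb
  choose τ hτ using hbabar
  have hστ : ∀ z, σ (τ z) = z := fun z => habar (by rw [hσ, hτ])
  have hτσ : ∀ z, τ (σ z) = z := fun z => hbbar (by rw [hτ, hσ])
  let e : (B ⧸ Q) ≃ₐ[A ⧸ P] (B ⧸ Q) :=
    { toFun := σ
      invFun := τ
      left_inv := hτσ
      right_inv := hστ
      map_mul' := fun z z' => habar (by rw [map_mul, hσ, hσ, hσ, map_mul])
      map_add' := fun z z' => habar (by rw [map_add, hσ, hσ, hσ, map_add])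
      commutes' := by
        intro r
        obtain ⟨r, rfl⟩ := Ideal.Quotient.mk_surjective r
        apply habar
        rw [hσ]
        change b (algebraMap A B r) = a (algebraMap A B r)
        exact (RingHom.congr_fun hab r).symm }
  obtain ⟨g, hg⟩ := Ideal.Quotient.stabilizerHom_surjective G P Q e
  refine ⟨g.1, fun x => ?_⟩
  have h1 : e (Ideal.Quotient.mk Q x) = Ideal.Quotient.mk Q (g.1 • x) := by
    rw [← hg]; rfl
  have h2 := hσ (Ideal.Quotient.mk Q x)
  change abar (e (Ideal.Quotient.mk Q x)) = b x at h2
  rw [h1] at h2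
  exact h2.symm

/-- **transitivity on geometric points**. -/
theorem exists_smul_of_comp_eq (a b : B →+* L)
    (hab : a.comp (algebraMap A B) = b.comp (algebraMap A B)) :
    ∃ g : G, ∀ x, b x = a (g • x) := by
  haveI : (RingHom.ker a).IsPrime := RingHom.ker_isPrime a
  haveI : (RingHom.ker b).IsPrime := RingHom.ker_isPrime b
  have hunder : (RingHom.ker a).under A = (RingHom.ker b).under A := by
    ext r
    simp only [Ideal.under_def, Ideal.mem_comap, RingHom.mem_ker]
    rw [← RingHom.comp_apply, ← RingHom.comp_apply, hab]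
  obtain ⟨g, hg⟩ := Algebra.IsInvariant.exists_smul_of_under_eq A B G
    (RingHom.ker a) (RingHom.ker b) hunder
  -- a' = a ∘ g⁻¹ has kernel g • ker a = ker b
  let a' : B →+* L := a.comp (MulSemiringAction.toRingHom G B g⁻¹)
  have ha' : a'.comp (algebraMap A B) = b.comp (algebraMap A B) := by
    rw [← hab]
    ext r
    simp [a', smul_algebraMap]
  have hker : RingHom.ker a' = RingHom.ker b := by
    rw [hg]
    ext x
    rw [Ideal.mem_pointwise_smul_iff_inv_smul_mem]
    rfl
  obtain ⟨h, hh⟩ := exists_smul_of_ker_eq (G := G) a' b ha' hker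
  refine ⟨g⁻¹ * h, fun x => ?_⟩
  rw [hh x, mul_smul]
  rfl

end Groth.Agent.Lib.Helper7.QGP
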