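import Mathlib
import Groth.Prelude.Def_SGA1
import Groth.Agent.Lib.Helper7.FiniteQuotient
import Groth.Agent.Lib.Helper7.QuotientAffine
import Groth.Agent.Lib.Helper7.CHR4
import Groth.Agent.Lib.Helper7.QGP1

/-!
# Geometric points of finite quotients (helper7)
-/

set_option autoImplicit false
set_option linter.unusedSectionVars false
set_option linter.style.haveILetI false

namespace Groth.Agent.Lib.Helper7.QGP

open CategoryTheory CategoryTheory.Limits AlgebraicGeometry SGA1
  Groth.Agent.Lib.Helper7.FiniteQuotient Groth.Agent.Lib.Helper7.CHR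

universe u

/-- an integral algebra over (a ring isomorphic to) an algebraically closed field has a retraction. -/
lemma exists_retraction {R S L : Type u} [CommRing R] [CommRing S] [Nontrivial S] [Field L]
    [IsAlgClosed L] (e : R ≃+* L) (φ : R →+* S) (hφ : φ.IsIntegral) :
    ∃ θ : S →+* R, θ.comp φ = RingHom.id R := by
  obtain ⟨m, hm⟩ := Ideal.exists_maximal S
  letI : Field (S ⧸ m) := Ideal.Quotient.field m
  let ψ : L →+* S ⧸ m := ((Ideal.Quotient.mk m).comp φ).comp e.symm.toRingHom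
  have hψ : ψ.IsIntegral := by
    apply RingHom.IsIntegral.trans
    · exact RingHom.isIntegral_of_surjective _ e.symm.surjective
    · apply RingHom.IsIntegral.trans _ _ hφ
      exact RingHom.isIntegral_of_surjective _ Ideal.Quotient.mk_surjective
  letI := ψ.toAlgebra
  haveI : Algebra.IsIntegral L (S ⧸ m) := ⟨hψ⟩
  have hbij : Function.Bijective ψ :=
    IsAlgClosed.algebraMap_bijective_of_isIntegral (k := L) (K := S ⧸ m)
  let ε : L ≃+* (S ⧸ m) := RingEquiv.ofBijective ψ hbij
  refine ⟨(e.symm.toRingHom.comp ε.symm.toRingHom).comp (Ideal.Quotient.mk m), ?_⟩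
  ext r
  simp only [RingHom.comp_apply, RingHom.id_apply, RingEquiv.toRingHom_eq_coe, RingHom.coe_coe]
  have h1 : Ideal.Quotient.mk m (φ r) = ε (e r) := by
    change _ = ψ (e r)
    simp [ψ]
  rw [h1, RingEquiv.symm_apply_apply, RingEquiv.symm_apply_apply]

/-- categorical form. -/
lemma exists_retraction' {R S : CommRingCat.{u}} [Nontrivial S] {L : Type u} [Field L]
    [IsAlgClosed L] (e : R ≃+* L) (φ : R ⟶ S) (hφ : φ.hom.IsIntegral) :
    ∃ θ : S ⟶ R, φ ≫ θ = 𝟙 R := by
  obtain ⟨θ, hθ⟩ := exists_retraction e φ.hom hφ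
  refine ⟨CommRingCat.ofHom θ, ?_⟩
  ext x
  exact RingHom.congr_fun hθ x

/-- an integral morphism from a nonempty scheme to the spectrum of an algebraically closed field
has a section. -/
lemma exists_section_of_integral {L : Type u} [Field L] [IsAlgClosed L] {P : Scheme.{u}}
    (σ : P ⟶ Spec (CommRingCat.of L)) [IsIntegralHom σ] [Nonempty P] :
    ∃ s : Spec (CommRingCat.of L) ⟶ P, s ≫ σ = 𝟙 _ := by
  haveI : IsAffine P := isAffine_of_isAffineHom σ
  let T := Spec (CommRingCat.of L)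
  haveI : Nonempty ((⊤ : P.Opens) : Type u) := by
    obtain ⟨z⟩ := ‹Nonempty P›
    exact ⟨⟨z, trivial⟩⟩
  haveI : Nontrivial Γ(P, ⊤) := inferInstance
  have hint : (σ.appTop).hom.IsIntegral := by
    have := σ.isIntegral_app ⊤ (isAffineOpen_top _)
    exact this
  obtain ⟨θ, hθ'⟩ := exists_retraction' (L := L)
    (Scheme.ΓSpecIso (CommRingCat.of L)).commRingCatIsoToRingEquiv σ.appTop hint
  refine ⟨T.isoSpec.hom ≫ Spec.map θ ≫ P.isoSpec.inv, ?_⟩
  rw [Category.assoc, Category.assoc, ← Scheme.isoSpec_inv_naturality, ← Spec.map_comp_assoc, hθ',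
    Spec.map_id, Category.id_comp, Iso.hom_inv_id]

/-- lifting geometric points along integral surjective morphisms. -/
theorem exists_lift_of_integral_surjective {X Y : Scheme.{u}} (r : X ⟶ Y) [IsIntegralHom r]
    [Surjective r] {L : Type u} [Field L] [IsAlgClosed L] (y : Spec (CommRingCat.of L) ⟶ Y) :
    ∃ x : Spec (CommRingCat.of L) ⟶ X, x ≫ r = y := by
  haveI : Nonempty ↥(pullback r y) := by
    obtain ⟨z, -⟩ := (pullback.snd r y).surjective (IsLocalRing.closedPoint L)
    exact ⟨z⟩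
  obtain ⟨s, hs⟩ := exists_section_of_integral (pullback.snd r y)
  refine ⟨s ≫ pullback.fst r y, ?_⟩
  rw [Category.assoc, pullback.condition, ← Category.assoc, hs, Category.id_comp]

/-- the spectrum of a field extension is an epimorphism of schemes. -/
lemma epi_Spec_map_field {K L : Type u} [Field K] [Field L] (f : K →+* L) :
    Epi (Spec.map (CommRingCat.ofHom f)) := by
  haveI : Flat (Spec.map (CommRingCat.ofHom f)) := by
    rw [HasRingHomProperty.Spec_iff (P := @Flat)]
    letI := f.toAlgebra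
    change Module.Flat K L
    infer_instance
  haveI : Surjective (Spec.map (CommRingCat.ofHom f)) := by
    constructor
    intro x
    refine ⟨IsLocalRing.closedPoint L, Subsingleton.elim _ _⟩
  exact Flat.epi_of_flat_of_surjective _

/-- universal injectivity can be tested on geometric points of an integral surjective cover. -/
theorem universallyInjective_of_geom {X Y Z : Scheme.{u}} (r : X ⟶ Y) [IsIntegralHom r]
    [Surjective r] (m : Y ⟶ Z)
    (h : ∀ (L : Type u) [Field L] [IsAlgClosed L] (x₁ x₂ : Spec (CommRingCat.of L) ⟶ X),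
      x₁ ≫ r ≫ m = x₂ ≫ r ≫ m → x₁ ≫ r = x₂ ≫ r) : UniversallyInjective m := by
  refine ((tfae_universallyInjective m).out 0 1).2 ?_
  intro K _ y₁ y₂ hy
  let L := AlgebraicClosure K
  let ι : Spec (CommRingCat.of L) ⟶ Spec (CommRingCat.of K) :=
    Spec.map (CommRingCat.ofHom (algebraMap K L))
  haveI : Epi ι := epi_Spec_map_field _
  obtain ⟨x₁, hx₁⟩ := exists_lift_of_integral_surjective r (ι ≫ y₁)
  obtain ⟨x₂, hx₂⟩ := exists_lift_of_integral_surjective r (ι ≫ y₂)
  have h1 : x₁ ≫ r ≫ m = x₂ ≫ r ≫ m := by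
    rw [← Category.assoc, hx₁, ← Category.assoc x₂, hx₂, Category.assoc, Category.assoc]
    exact congrArg (ι ≫ ·) hy
  have h2 := h L x₁ x₂ h1
  rw [hx₁, hx₂] at h2
  exact (cancel_epi ι).1 h2

variable {X Y : Scheme.{u}} {G : Type u} [Group G] [Finite G] {ρ : G →* Aut X} {q : X ⟶ Y}
  (hq : IsQuot ρ q)

include hq in
/-- if `r ≫ m` is integral for a finite quotient `r`, then `m` is integral. -/
theorem isIntegralHom_of_comp {Z : Scheme.{u}} (m : Y ⟶ Z) [IsIntegralHom (q ≫ m)] :
    IsIntegralHom m := by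
  have haff : ∀ V : Z.Opens, IsAffineOpen V → IsAffineOpen (m ⁻¹ᵁ V) := by
    intro V hV
    apply isAffineOpen_of_isQuot hq
    have : IsAffineOpen ((q ≫ m) ⁻¹ᵁ V) := hV.preimage (q ≫ m)
    rwa [Scheme.Hom.comp_preimage] at this
  haveI : IsAffineHom m := ⟨haff⟩
  refine ⟨fun V hV => ?_⟩
  have h1 : ((q ≫ m).app V).hom.IsIntegral := (q ≫ m).isIntegral_app V hV
  rw [Scheme.Hom.comp_app] at h1
  exact RingHom.IsIntegral.tower_bot (m.app V).hom (q.app (m ⁻¹ᵁ V)).hom (hq.injective _) h1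

include hq in
/-- `G` acts transitively on the field-valued points of `X` over a point of the quotient. -/
theorem exists_comp_eq {K : Type u} [Field K] (x₁ x₂ : Spec (CommRingCat.of K) ⟶ X)
    (h : x₁ ≫ q = x₂ ≫ q) : ∃ g : G, x₂ = x₁ ≫ (ρ g).hom := by
  let pt : Spec (CommRingCat.of K) := IsLocalRing.closedPoint K
  obtain ⟨_, ⟨V, hV, rfl⟩, hyV, -⟩ :=
    Y.isBasis_affineOpens.exists_subset_of_mem_open (Set.mem_univ ((x₁ ≫ q).base pt)) isOpen_univ
  have : IsAffineHom q := hq.affine
  have hW : IsAffineOpen (q ⁻¹ᵁ V) := hV.preimage q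
  haveI : IsOpenImmersion hW.fromSpec := hW.isOpenImmersion_fromSpec
  haveI : IsOpenImmersion hV.fromSpec := hV.isOpenImmersion_fromSpec
  have hr : ∀ x : Spec (CommRingCat.of K) ⟶ X, (x ≫ q).base pt ∈ V →
      Set.range x.base ⊆ Set.range hW.fromSpec.base := by
    intro x hx
    rintro _ ⟨z, rfl⟩
    rw [hW.range_fromSpec]
    have : z = pt := Subsingleton.elim _ _
    rw [this]
    exact hx
  have hx₁ : (x₁ ≫ q).base pt ∈ V := hyV
  have hx₂ : (x₂ ≫ q).base pt ∈ V := by rw [← h]; exact hyV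
  let m₁ := IsOpenImmersion.lift hW.fromSpec x₁ (hr x₁ hx₁)
  let m₂ := IsOpenImmersion.lift hW.fromSpec x₂ (hr x₂ hx₂)
  have hm₁ : m₁ ≫ hW.fromSpec = x₁ := IsOpenImmersion.lift_fac _ _ _
  have hm₂ : m₂ ≫ hW.fromSpec = x₂ := IsOpenImmersion.lift_fac _ _ _
  let a₁ := Spec.preimage m₁
  let a₂ := Spec.preimage m₂
  have ha₁ : Spec.map a₁ = m₁ := Spec.map_preimage _
  have ha₂ : Spec.map a₂ = m₂ := Spec.map_preimage _
  -- agreement on invariants
  have hagree : q.app V ≫ a₁ = q.app V ≫ a₂ := by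
    apply Spec.map_injective
    rw [Spec.map_comp, Spec.map_comp, ha₁, ha₂]
    rw [← cancel_mono hV.fromSpec, Category.assoc, Category.assoc,
      specMap_app_fromSpec hq V hV hW, ← Category.assoc, ← Category.assoc, hm₁, hm₂, h]
  letI := (q.app V).hom.toAlgebra
  letI := mulSemiringAction ρ q hq.inv V
  haveI := smulCommClass hq V
  haveI := isInvariant hq V
  obtain ⟨g, hg⟩ := exists_smul_of_comp_eq (A := Γ(Y, V)) (B := Γ(X, q ⁻¹ᵁ V)) (G := G)
    a₁.hom a₂.hom (by
      ext b
      exact congrArg (fun f => f.hom b) hagree)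
  refine ⟨g⁻¹, ?_⟩
  have h3 : a₂ = actHom ρ q hq.inv V g⁻¹ ≫ a₁ := by
    ext b
    rw [hg b, smul_def]
    rfl
  rw [← hm₂, ← ha₂, h3, Spec.map_comp, Category.assoc, ← fromSpec_comp_action hq V hW g⁻¹,
    ← Category.assoc, ha₁, hm₁]

end Groth.Agent.Lib.Helper7.QGP
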