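import Mathlib
import Groth.Prelude.Def_SGA1
import Groth.Prelude.Def_Flat
import Groth.Agent.Lib.Helper12.UnivHomeo
import Groth.Agent.Lib.Helper7.QGP2

/-!
# Comparison maps of finite quotients are universal homeomorphisms (helper7)
-/

set_option autoImplicit false
set_option linter.unusedSectionVars false
set_option linter.style.haveILetI false

namespace Groth.Agent.Lib.Helper7.QGP

open CategoryTheory CategoryTheory.Limits AlgebraicGeometry SGA1
  Groth.Agent.Lib.Helper7.FiniteQuotient Groth.Agent.Lib.Helper7.CHR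

universe u

/-- criterion: `r` a finite quotient, `r ≫ m` integral surjective, and geometric points of the
source with the same image under `r ≫ m` have the same image under `r`. -/
theorem isUnivHomeo_of_isQuot {X Y Z : Scheme.{u}} {G : Type u} [Group G] [Finite G]
    {ρ : G →* Aut X} {r : X ⟶ Y} (hr : IsQuot ρ r) (m : Y ⟶ Z) [IsIntegralHom (r ≫ m)]
    [Surjective (r ≫ m)]
    (h : ∀ (L : Type u) [Field L] [IsAlgClosed L] (x₁ x₂ : Spec (CommRingCat.of L) ⟶ X),
      x₁ ≫ r ≫ m = x₂ ≫ r ≫ m → x₁ ≫ r = x₂ ≫ r) : FlatMor.IsUnivHomeo m := by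
  haveI : IsIntegralHom r := isIntegralHom hr
  haveI : Surjective r := ⟨surjective hr⟩
  rw [Groth.Agent.Lib.Helper12.isUnivHomeo_iff]
  exact ⟨isIntegralHom_of_comp hr m, universallyInjective_of_geom r m h, Surjective.of_comp r m⟩

end Groth.Agent.Lib.Helper7.QGP
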