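import Mathlib
import Groth.Agent.Lib.Helper7.QGP3

/-!
# Scheme-theoretic images and finite quotients (helper7)
-/

set_option autoImplicit false
set_option linter.unusedSectionVars false
set_option linter.style.haveILetI false

namespace Groth.Agent.Lib.Helper7.QGP

open CategoryTheory CategoryTheory.Limits AlgebraicGeometry SGA1
  Groth.Agent.Lib.Helper7.FiniteQuotient Groth.Agent.Lib.Helper7.CHR

universe u

/-- the map to the scheme-theoretic image is scheme-theoretically dominant. -/
theorem toImage_ker_eq_bot {X Y : Scheme.{u}} (f : X ⟶ Y) [QuasiCompact f] :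
    f.toImage.ker = ⊥ := by
  refine le_antisymm ?_ bot_le
  refine Scheme.IdealSheafData.le_of_iSup_eq_top
    (fun U : Y.affineOpens => (⟨f.imageι ⁻¹ᵁ U.1, U.2.preimage f.imageι⟩ : f.image.affineOpens))
    ?_ (fun U => ?_)
  · rw [eq_top_iff]
    intro x _
    obtain ⟨_, ⟨V, hV, rfl⟩, hxV, -⟩ :=
      Y.isBasis_affineOpens.exists_subset_of_mem_open (Set.mem_univ (f.imageι.base x)) isOpen_univ
    exact TopologicalSpace.Opens.mem_iSup.mpr ⟨⟨V, hV⟩, hxV⟩
  · rw [Scheme.Hom.ker_apply]
    intro s hs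
    have h1 : (f.toImage.app (f.imageι ⁻¹ᵁ U.1)).hom s = 0 := hs
    have h2 := f.toImage_app_injective U
    have h3 : s = 0 := h2 (by rw [h1, map_zero])
    rw [h3]
    exact Submodule.zero_mem _

/-- a closed surjection criterion -/
lemma surjective_of_dominant_of_isClosedMap {X Y : Scheme.{u}} (f : X ⟶ Y) [IsDominant f]
    (hf : IsClosedMap f.base) : Surjective f := by
  constructor
  have h1 : IsClosed (Set.range f.base) := hf.isClosed_range
  have h2 : DenseRange f.base := f.denseRange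
  rw [← Set.range_eq_univ, ← h1.closure_eq]
  exact h2.closure_range

variable {X Y Z W : Scheme.{u}} {G : Type u} [Group G] [Finite G]

theorem isUnivHomeo_closedSubscheme (ρ : G →* Aut X) (q : X ⟶ Y) (hquot : IsQuot ρ q)
    (i : Z ⟶ X) [IsClosedImmersion i] (ρZ : G →* Aut Z)
    (hρZ : ∀ σ : G, (ρZ σ).hom ≫ i = i ≫ (ρ σ).hom)
    (r : Z ⟶ W) (hr : IsQuot ρZ r)
    (m : W ⟶ (i ≫ q).ker.subscheme) (hm : r ≫ m ≫ (i ≫ q).ker.subschemeι = i ≫ q) :
    FlatMor.IsUnivHomeo m ∧ IsSchemeTheoreticallyDominant m := by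
  haveI : IsIntegralHom q := isIntegralHom hquot
  haveI : IsIntegralHom (i ≫ q) := inferInstance
  have hrm : r ≫ m = (i ≫ q).toImage := by
    rw [← cancel_mono (i ≫ q).imageι, Category.assoc, hm, Scheme.Hom.toImage_imageι]
  -- integrality of `r ≫ m` by base change along the monomorphism `imageι`
  have hsq : IsPullback (𝟙 Z) (r ≫ m) (i ≫ q) (i ≫ q).imageι :=
    IsPullback.of_horiz_isIso_mono ⟨by rw [Category.id_comp, Category.assoc, hm]⟩
  haveI : IsIntegralHom (r ≫ m) :=
    MorphismProperty.of_isPullback (P := @IsIntegralHom) hsq inferInstance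
  haveI : IsDominant (r ≫ m) := by rw [hrm]; infer_instance
  haveI : Surjective (r ≫ m) :=
    surjective_of_dominant_of_isClosedMap _ (r ≫ m).isClosedMap
  refine ⟨isUnivHomeo_of_isQuot hr m ?_, ⟨?_⟩⟩
  · intro L _ _ x₁ x₂ hx
    have h1 : (x₁ ≫ i) ≫ q = (x₂ ≫ i) ≫ q := by
      have := congrArg (· ≫ (i ≫ q).ker.subschemeι) hx
      simp only [Category.assoc] at this
      rw [hm] at this
      simpa only [Category.assoc] using this
    obtain ⟨γ, hγ⟩ := exists_comp_eq hquot _ _ h1
    have h3 : x₂ = x₁ ≫ (ρZ γ).hom := by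
      rw [← cancel_mono i, hγ, Category.assoc, Category.assoc, hρZ γ]
    rw [h3, Category.assoc, hr.inv γ]
  · refine le_antisymm ?_ bot_le
    have h1 := Scheme.Hom.le_ker_comp r m
    rw [hrm, toImage_ker_eq_bot] at h1
    exact h1

end Groth.Agent.Lib.Helper7.QGP
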