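import Mathlib
import Groth.Agent.Lib.Helper7.QuotDiag

set_option autoImplicit false

namespace Groth.Agent.Lib.Helper7.QuotDiag

open TensorProduct MonoidAlgebra Groth.Agent.Lib.Helper7.CancelBC SGA3b

universe u

theorem isMultType_quotient_torsion (R : Type u) [CommRing R] (A : Type u) [CommRing A]
    [HopfAlgebra R A] (h : IsMultType R A) (n : ℕ)
    (J : Ideal A) [J.IsHopfIdeal R] (hJ : J = torsionIdeal R A n) :
    IsMultType R (A ⧸ J) := by
  obtain ⟨s, hs, hs'⟩ := h
  refine ⟨s, hs, ?_⟩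
  intro f hf
  obtain ⟨R', _, _, hff, M, _, ⟨e⟩⟩ := hs' f hf
  refine ⟨R', inferInstance, inferInstance, hff, ?_⟩
  let _ : Algebra R R' := ((algebraMap (Localization.Away f) R').comp
    (algebraMap R (Localization.Away f))).toAlgebra
  have : IsScalarTower R (Localization.Away f) R' := IsScalarTower.of_algebraMap_eq (fun _ => rfl)
  obtain ⟨e'⟩ := nonempty_bialgEquiv_quotient_torsion
    ((cancelBC R (Localization.Away f) R' A).symm.trans e) n J hJ
  exact ⟨M ⧸ (powMonoidHom n : M →* M).range, inferInstance,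
    ⟨(cancelBC R (Localization.Away f) R' (A ⧸ J)).trans e'.symm⟩⟩

theorem finite_quotient_torsion (R : Type u) [CommRing R] (A : Type u) [CommRing A]
    [HopfAlgebra R A] (hft : Algebra.FiniteType R A) (h : IsMultType R A) (n : ℕ) (hn : 0 < n)
    (J : Ideal A) [J.IsHopfIdeal R] (hJ : J = torsionIdeal R A n) :
    Module.Finite R (A ⧸ J) := by
  have hft' : Algebra.FiniteType R (A ⧸ J) :=
    hft.of_surjective (Ideal.Quotient.mkₐ R J) Ideal.Quotient.mk_surjective
  rw [Groth.Agent.Lib.Helper7.TorsFinite.main R (A ⧸ J) hft' (isMultType_quotient_torsion R A h n J hJ)]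
  refine ⟨n, hn, ?_⟩
  rw [Groth.Agent.Lib.Helper7.TorsFinite.torsionIdeal_eq_bot_iff]
  exact killed_quotient n J (le_of_eq hJ.symm)

end Groth.Agent.Lib.Helper7.QuotDiag
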