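import Mathlib.RingTheory.Invariant.Basic
import Mathlib.RingTheory.Invariant.Galois
import Groth.Agent.Lib.Helper7.FiniteQuotient
import Mathlib.AlgebraicGeometry.ResidueField

set_option autoImplicit false

universe u

open CategoryTheory AlgebraicGeometry SGA1

open Pointwise

namespace Groth.Agent.Lib.Helper7.QuotientResidue

section Abstract

variable {A B : Type*} [CommRing A] [CommRing B] [Algebra A B]
  (G : Type*) [Group G] [Finite G] [MulSemiringAction G B] [SMulCommClass G A B]
  [Algebra.IsInvariant A B G]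
  {K L : Type*} [Field K] [Field L] (evA : A →+* K) (evB : B →+* L) (ι : K →+* L)
  (hcomm : ∀ a : A, ι (evA a) = evB (algebraMap A B a))
  (hK : ∀ z : K, ∃ a s : A, z = evA a / evA s)
  (hL : ∀ z : L, ∃ b t : B, z = evB b / evB t)

include hcomm hK hL in
theorem normal_and_stabilizer_surjective :
    (letI := ι.toAlgebra; Normal K L) ∧
    ∀ τ : L ≃+* L, (∀ z : K, τ (ι z) = ι z) →
      ∃ g : G, g • RingHom.ker evB = RingHom.ker evB ∧ ∀ b : B, τ (evB b) = evB (g • b) := by
  let P : Ideal A := RingHom.ker evA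
  let Q : Ideal B := RingHom.ker evB
  have hQ : Q.IsPrime := RingHom.ker_isPrime evB
  have hP : P.IsPrime := RingHom.ker_isPrime evA
  have hPQ : Q.LiesOver P := by
    refine ⟨?_⟩
    ext a
    simp only [P, Q, Ideal.under_def, Ideal.mem_comap, RingHom.mem_ker]
    rw [← hcomm]
    exact (map_eq_zero_iff ι ι.injective).symm
  let _ : Algebra K L := ι.toAlgebra
  let _ : Algebra (A ⧸ P) K := (RingHom.kerLift evA).toAlgebra
  let _ : Algebra (B ⧸ Q) L := (RingHom.kerLift evB).toAlgebra
  let _ : Algebra (A ⧸ P) L := (ι.comp (RingHom.kerLift evA)).toAlgebra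
  have t1 : IsScalarTower (A ⧸ P) K L := IsScalarTower.of_algebraMap_eq' rfl
  have t2 : IsScalarTower (A ⧸ P) (B ⧸ Q) L := by
    refine IsScalarTower.of_algebraMap_eq ?_
    intro a
    obtain ⟨a, rfl⟩ := Ideal.Quotient.mk_surjective a
    change ι (evA a) = evB (algebraMap A B a)
    exact hcomm a
  have f1 : FaithfulSMul (A ⧸ P) K :=
    (faithfulSMul_iff_algebraMap_injective _ _).mpr (RingHom.kerLift_injective evA)
  have f2 : FaithfulSMul (B ⧸ Q) L :=
    (faithfulSMul_iff_algebraMap_injective _ _).mpr (RingHom.kerLift_injective evB)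
  have fr1 : IsFractionRing (A ⧸ P) K := by
    refine IsFractionRing.of_field _ K ?_
    intro z
    obtain ⟨a, s, rfl⟩ := hK z
    exact ⟨Ideal.Quotient.mk P a, Ideal.Quotient.mk P s, rfl⟩
  have fr2 : IsFractionRing (B ⧸ Q) L := by
    refine IsFractionRing.of_field _ L ?_
    intro z
    obtain ⟨b, t, rfl⟩ := hL z
    exact ⟨Ideal.Quotient.mk Q b, Ideal.Quotient.mk Q t, rfl⟩
  refine ⟨Ideal.IsFractionRing.normal G P Q K L, ?_⟩
  intro τ hτ
  let τ' : L ≃ₐ[K] L := AlgEquiv.ofRingEquiv (f := τ) hτ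
  obtain ⟨g, hg⟩ := IsFractionRing.stabilizerHom_surjective G P Q K L τ'
  refine ⟨g.1, g.2, fun b => ?_⟩
  have := IsFractionRing.stabilizerHom_apply_apply_mk G P Q K L g b
  rw [hg] at this
  exact this

end Abstract

/-- every element of the residue field at a point of an affine open is a fraction of values of
sections -/
theorem exists_fraction {X : Scheme.{u}} {U : X.Opens} (hU : IsAffineOpen U) (x : X) (hx : x ∈ U)
    (z : X.residueField x) :
    ∃ a s : Γ(X, U), z = (X.evaluation U x hx).hom a / (X.evaluation U x hx).hom s := by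
  obtain ⟨w, rfl⟩ := X.residue_surjective x z
  let _ := X.presheaf.algebra_section_stalk ⟨x, hx⟩
  have := hU.isLocalization_stalk ⟨x, hx⟩
  obtain ⟨⟨a, s⟩, h⟩ := IsLocalization.surj (hU.primeIdealOf ⟨x, hx⟩).asIdeal.primeCompl w
  refine ⟨a, s.1, ?_⟩
  have hunit : IsUnit (algebraMap Γ(X, U) (X.presheaf.stalk x) s.1) :=
    IsLocalization.map_units (M := (hU.primeIdealOf ⟨x, hx⟩).asIdeal.primeCompl) _ s
  have h2 : IsUnit ((X.evaluation U x hx).hom s.1) := hunit.map (X.residue x).hom
  have h3 : (X.residue x).hom w * (X.evaluation U x hx).hom s.1 = (X.evaluation U x hx).hom a := by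
    have := congrArg (X.residue x).hom h
    rw [map_mul] at this
    exact this
  rw [eq_div_iff h2.ne_zero]
  exact h3

/-- points of an affine open are determined by the kernels of their evaluation maps -/
theorem eq_of_ker_evaluation_eq {X : Scheme.{u}} {U : X.Opens} (hU : IsAffineOpen U) (x x' : X)
    (hx : x ∈ U) (hx' : x' ∈ U)
    (h : RingHom.ker (X.evaluation U x hx).hom = RingHom.ker (X.evaluation U x' hx').hom) :
    x = x' := by
  have key : ∀ s : Γ(X, U), x ∈ X.basicOpen s ↔ x' ∈ X.basicOpen s := by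
    intro s
    rw [← Scheme.evaluation_ne_zero_iff_mem_basicOpen X x hx, ← Scheme.evaluation_ne_zero_iff_mem_basicOpen X x' hx']
    have : s ∈ RingHom.ker (X.evaluation U x hx).hom ↔ s ∈ RingHom.ker (X.evaluation U x' hx').hom := by
      rw [h]
    rw [RingHom.mem_ker, RingHom.mem_ker] at this
    exact not_congr this
  apply Inseparable.eq
  rw [inseparable_iff_forall_isOpen]
  intro O hO
  constructor
  · intro hxO
    obtain ⟨f, hf1, hf2⟩ := hU.exists_basicOpen_le (V := ⟨O, hO⟩) ⟨x, hxO⟩ hx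
    exact hf1 ((key f).mp hf2)
  · intro hxO
    obtain ⟨f, hf1, hf2⟩ := hU.exists_basicOpen_le (V := ⟨O, hO⟩) ⟨x', hxO⟩ hx'
    exact hf1 ((key f).mpr hf2)

end Groth.Agent.Lib.Helper7.QuotientResidue
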