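import Mathlib
import Groth.Prelude.Def_SGA3b
import Groth.Agent.Lib.Helper7.MultDesc

set_option autoImplicit false
universe u
open TensorProduct WithConv
open Groth.Agent.Lib.Helper7.MultDesc

namespace Groth.Agent.Lib.Helper7.Rigid

section Core

variable {S : Type*} [CommRing S] {M : Type*} [CommMonoid M] {C : Type*} [Semiring C] [Bialgebra S C]

/-- elements with all coefficients in `J`. -/
lemma mem_map_of_forall_cf (J : Ideal S) {z : MonoidAlgebra S M} (h : ∀ m, cf m z ∈ J) :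
    z ∈ Ideal.map (algebraMap S (MonoidAlgebra S M)) J := by
  classical
  have hz : z = ∑ m ∈ z.coeff.support, MonoidAlgebra.single m (z.coeff m) := by
    apply MonoidAlgebra.coeff_injective
    rw [MonoidAlgebra.coeff_sum]
    conv_lhs => rw [← Finsupp.sum_single z.coeff]
    rfl
  rw [hz]
  refine Ideal.sum_mem _ (fun m _ => ?_)
  have : MonoidAlgebra.single m (z.coeff m) =
      algebraMap S (MonoidAlgebra S M) (z.coeff m) * MonoidAlgebra.single m 1 := by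
    rw [algebraMap_monoidAlgebra, MonoidAlgebra.single_mul_single, one_mul, mul_one]
  rw [this]
  exact Ideal.mul_mem_right _ _ (Ideal.mem_map_of_mem _ (h m))

lemma cf_mem_of_mem_map (J : Ideal S) {z : MonoidAlgebra S M}
    (h : z ∈ Ideal.map (algebraMap S (MonoidAlgebra S M)) J) (m : M) : cf m z ∈ J := by
  apply cf_mem_of_mem_smul_top J _ m
  rw [Ideal.smul_top_eq_map]
  exact h

/-- the core rigidity statement. -/
theorem eq_of_cube (Φ Ψ : C →ₐc[S] MonoidAlgebra S M) (𝔞 : Ideal S) (h𝔞 : 𝔞 ≤ Ideal.jacobson ⊥)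
    (hcube : ∀ m : M,
      toConv (cf m ∘ₗ ((Φ : C →ₗc[S] MonoidAlgebra S M) : C →ₗ[S] _) -
        cf m ∘ₗ ((Ψ : C →ₗc[S] MonoidAlgebra S M) : C →ₗ[S] _)) *
      toConv (cf m ∘ₗ ((Φ : C →ₗc[S] MonoidAlgebra S M) : C →ₗ[S] _) -
        cf m ∘ₗ ((Ψ : C →ₗc[S] MonoidAlgebra S M) : C →ₗ[S] _)) *
      toConv (cf m ∘ₗ ((Φ : C →ₗc[S] MonoidAlgebra S M) : C →ₗ[S] _) -
        cf m ∘ₗ ((Ψ : C →ₗc[S] MonoidAlgebra S M) : C →ₗ[S] _)) =
      toConv (cf m ∘ₗ ((Φ : C →ₗc[S] MonoidAlgebra S M) : C →ₗ[S] _) -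
        cf m ∘ₗ ((Ψ : C →ₗc[S] MonoidAlgebra S M) : C →ₗ[S] _)))
    (hmem : ∀ (x : C) (m : M), cf m (Φ x - Ψ x) ∈ 𝔞)
    (T : Finset C) (hT : ∀ x : C, Φ x - Ψ x ∈ Ideal.span ((fun t => Φ t - Ψ t) '' (T : Set C))) :
    Φ = Ψ := by
  classical
  -- the coefficient ideal
  let G : Finset S := T.biUnion (fun t => (Φ t - Ψ t).coeff.support.image (fun m => cf m (Φ t - Ψ t)))
  let 𝔍 : Ideal S := Ideal.span (G : Set S)
  have hfg : 𝔍.FG := ⟨G, rfl⟩
  have hgen : ∀ t ∈ T, ∀ m : M, cf m (Φ t - Ψ t) ∈ 𝔍 := by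
    intro t ht m
    by_cases hm : m ∈ (Φ t - Ψ t).coeff.support
    · apply Ideal.subset_span
      rw [Finset.mem_coe, Finset.mem_biUnion]
      exact ⟨t, ht, Finset.mem_image.2 ⟨m, hm, rfl⟩⟩
    · rw [Finsupp.notMem_support_iff] at hm
      rw [cf_apply, hm]
      exact 𝔍.zero_mem
  have hall : ∀ (x : C) (m : M), cf m (Φ x - Ψ x) ∈ 𝔍 := by
    intro x m
    apply cf_mem_of_mem_map
    have hle : Ideal.span ((fun t => Φ t - Ψ t) '' (T : Set C)) ≤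
        Ideal.map (algebraMap S (MonoidAlgebra S M)) 𝔍 := by
      rw [Ideal.span_le]
      rintro _ ⟨t, ht, rfl⟩
      exact mem_map_of_forall_cf 𝔍 (hgen t ht)
    exact hle (hT x)
  have hle𝔞 : 𝔍 ≤ 𝔞 := by
    rw [Ideal.span_le]
    intro r hr
    rw [Finset.mem_coe, Finset.mem_biUnion] at hr
    obtain ⟨t, -, hr⟩ := hr
    obtain ⟨m, -, rfl⟩ := Finset.mem_image.1 hr
    exact hmem t m
  have hsq : 𝔍 ≤ 𝔍 * 𝔍 := by
    rw [Ideal.span_le]
    intro r hr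
    rw [Finset.mem_coe, Finset.mem_biUnion] at hr
    obtain ⟨t, -, hr⟩ := hr
    obtain ⟨m, -, rfl⟩ := Finset.mem_image.1 hr
    set d : C →ₗ[S] S := cf m ∘ₗ ((Φ : C →ₗc[S] MonoidAlgebra S M) : C →ₗ[S] _) -
        cf m ∘ₗ ((Ψ : C →ₗc[S] MonoidAlgebra S M) : C →ₗ[S] _) with hd
    have hdv : ∀ c, d c ∈ 𝔍 := by
      intro c
      have := hall c m
      rw [map_sub] at this
      exact this
    have h0 : ∀ c, (toConv d * toConv d).ofConv c ∈ 𝔍 := by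
      intro c
      exact Ideal.mul_le_right (conv_mem d d _ _ hdv hdv c)
    have h1 := conv_mem (toConv d * toConv d).ofConv d _ _ h0 hdv t
    rw [toConv_ofConv, hcube m] at h1
    have : cf m (Φ t - Ψ t) = d t := by rw [map_sub]; rfl
    rw [SetLike.mem_coe, this]
    exact h1
  have hbot : 𝔍 = ⊥ := by
    apply Submodule.eq_bot_of_le_smul_of_le_jacobson_bot 𝔞 𝔍 hfg _ h𝔞
    calc 𝔍 ≤ 𝔍 * 𝔍 := hsq
      _ ≤ 𝔞 * 𝔍 := Ideal.mul_mono_left hle𝔞
      _ = 𝔞 • 𝔍 := rfl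
  apply BialgHom.ext
  intro c
  apply eq_of_forall_cf
  intro m
  have := hall c m
  rw [hbot, Ideal.mem_bot, map_sub, sub_eq_zero] at this
  exact this

/-- trivial case. -/
theorem trivial_of_jacobson (Φ : C →ₐc[S] MonoidAlgebra S M) (𝔞 : Ideal S)
    (h𝔞 : 𝔞 ≤ Ideal.jacobson ⊥)
    (hmem : ∀ (x : C) (m : M),
      cf m (Φ x - algebraMap S (MonoidAlgebra S M) (Coalgebra.counit (R := S) x)) ∈ 𝔞)
    (T : Finset C)
    (hT : ∀ x : C, Φ x - algebraMap S (MonoidAlgebra S M) (Coalgebra.counit (R := S) x) ∈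
      Ideal.span ((fun t => Φ t - algebraMap S (MonoidAlgebra S M) (Coalgebra.counit (R := S) t)) ''
        (T : Set C))) (x : C) :
    Φ x = algebraMap S (MonoidAlgebra S M) (Coalgebra.counit (R := S) x) := by
  classical
  let Ψ : C →ₐc[S] MonoidAlgebra S M :=
    (Bialgebra.unitBialgHom S (MonoidAlgebra S M)).comp (Bialgebra.counitBialgHom S C)
  have hΨ : ∀ x, Ψ x = algebraMap S (MonoidAlgebra S M) (Coalgebra.counit (R := S) x) := fun _ => rfl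
  suffices h : Φ = Ψ by rw [h, hΨ]
  refine eq_of_cube Φ Ψ 𝔞 h𝔞 ?_ hmem T hT
  intro m
  set e : WithConv (C →ₗ[S] S) := toConv (cf m ∘ₗ ((Φ : C →ₗc[S] MonoidAlgebra S M) : C →ₗ[S] _))
    with he
  have hee : e * e = e := conv_cf_comp (Φ : C →ₗc[S] MonoidAlgebra S M) m
  by_cases hm : m = 1
  · have hf : toConv (cf m ∘ₗ ((Ψ : C →ₗc[S] MonoidAlgebra S M) : C →ₗ[S] _)) =
        (1 : WithConv (C →ₗ[S] S)) := by
      apply WithConv.ofConv_injective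
      ext c
      change cf m (Ψ c) = _
      rw [hΨ, algebraMap_monoidAlgebra, cf_single, if_pos hm.symm]
      simp [LinearMap.convOne_def]
    have hd : toConv (cf m ∘ₗ ((Φ : C →ₗc[S] MonoidAlgebra S M) : C →ₗ[S] _) -
        cf m ∘ₗ ((Ψ : C →ₗc[S] MonoidAlgebra S M) : C →ₗ[S] _)) = e - 1 := by
      rw [← hf]; rfl
    rw [hd]
    have h1 : (e - 1) * (e - 1) = 1 - e := by
      simp only [sub_mul, mul_sub, mul_one, one_mul, hee]; abel
    rw [h1]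
    simp only [sub_mul, mul_sub, mul_one, one_mul, hee]; abel
  · have hf : cf m ∘ₗ ((Ψ : C →ₗc[S] MonoidAlgebra S M) : C →ₗ[S] _) = 0 := by
      ext c
      change cf m (Ψ c) = 0
      rw [hΨ, algebraMap_monoidAlgebra, cf_single, if_neg (Ne.symm hm)]
    rw [hf, sub_zero, ← he, hee, hee]

/-- cocommutative case. -/
theorem eq_of_jacobson_cocomm [Coalgebra.IsCocomm S C] (Φ Ψ : C →ₐc[S] MonoidAlgebra S M)
    (𝔞 : Ideal S) (h𝔞 : 𝔞 ≤ Ideal.jacobson ⊥)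
    (hmem : ∀ (x : C) (m : M), cf m (Φ x - Ψ x) ∈ 𝔞)
    (T : Finset C) (hT : ∀ x : C, Φ x - Ψ x ∈ Ideal.span ((fun t => Φ t - Ψ t) '' (T : Set C))) :
    Φ = Ψ := by
  refine eq_of_cube Φ Ψ 𝔞 h𝔞 ?_ hmem T hT
  intro m
  set e : WithConv (C →ₗ[S] S) := toConv (cf m ∘ₗ ((Φ : C →ₗc[S] MonoidAlgebra S M) : C →ₗ[S] _))
    with he
  set f : WithConv (C →ₗ[S] S) := toConv (cf m ∘ₗ ((Ψ : C →ₗc[S] MonoidAlgebra S M) : C →ₗ[S] _))
    with hf
  have hee : e * e = e := conv_cf_comp (Φ : C →ₗc[S] MonoidAlgebra S M) m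
  have hff : f * f = f := conv_cf_comp (Ψ : C →ₗc[S] MonoidAlgebra S M) m
  have hd : (e - f) * (e - f) * (e - f) = e - f := by
    linear_combination (e + 1 - 3 * f) * hee + (3 * e - f - 1) * hff
  exact hd

end Core

end Groth.Agent.Lib.Helper7.Rigid
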