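import Mathlib
import Groth.Prelude.Def_SGA3b
import Groth.Agent.Lib.Helper7.RG1
import Groth.Agent.Lib.Helper7.CO6

set_option autoImplicit false
universe u
open TensorProduct SGA3b WithConv
open Groth.Agent.Lib.Helper7.MultDesc
open Groth.Agent.Lib.Helper7.Clopen (typed_of_algHom)

namespace Groth.Agent.Lib.Helper7.Rigid

section Chart

variable (R : Type u) [CommRing R] [IsLocalRing R] (A : Type u) [CommRing A] [HopfAlgebra R A]

theorem exists_local_chart (h : IsMultType R A) :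
    ∃ (S : Type u) (_ : CommRing S) (_ : Algebra R S), IsLocalRing S ∧
      IsLocalHom (algebraMap R S) ∧ Module.Flat R S ∧
      ∃ (M : Type u) (_ : CommGroup M), Nonempty (S ⊗[R] A ≃ₐc[S] MonoidAlgebra S M) := by
  obtain ⟨s, hs, hs'⟩ := h
  obtain ⟨f, hfs, hfu⟩ : ∃ f ∈ s, IsUnit f := by
    by_contra hcon
    push Not at hcon
    have h1 : Ideal.span s ≤ IsLocalRing.maximalIdeal R := by
      rw [Ideal.span_le]
      intro x hx
      exact (IsLocalRing.mem_maximalIdeal x).2 (hcon x hx)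
    rw [hs] at h1
    exact (IsLocalRing.maximalIdeal.isMaximal R).ne_top (top_le_iff.1 h1)
  obtain ⟨R₂, _, _, hff, M, _, ⟨e⟩⟩ := hs' f hfs
  -- R₂ as an R-algebra
  let _ : Algebra R R₂ := ((algebraMap (Localization.Away f) R₂).comp
    (algebraMap R (Localization.Away f))).toAlgebra
  have : IsScalarTower R (Localization.Away f) R₂ := IsScalarTower.of_algebraMap_eq (fun _ => rfl)
  have hle : Submonoid.powers f ≤ IsUnit.submonoid R := by
    rintro _ ⟨n, rfl⟩
    exact hfu.pow n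
  have hff₁ : Module.FaithfullyFlat R (Localization.Away f) :=
    Module.FaithfullyFlat.of_linearEquiv R R
      (IsLocalization.atUnits R (Submonoid.powers f) (S := Localization.Away f) hle).toLinearEquiv.symm
  have hff₂ : Module.FaithfullyFlat R R₂ := Module.FaithfullyFlat.trans R (Localization.Away f) R₂
  let e₂ : R₂ ⊗[R] A ≃ₐc[R₂] MonoidAlgebra R₂ M :=
    (Groth.Agent.Lib.Helper7.CancelBC.cancelBC R (Localization.Away f) R₂ A).symm.trans e
  -- a prime above the maximal ideal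
  obtain ⟨𝔭, h𝔭⟩ := PrimeSpectrum.comap_surjective_of_faithfullyFlat (A := R) (B := R₂)
    ⟨IsLocalRing.maximalIdeal R, inferInstance⟩
  have : 𝔭.asIdeal.IsPrime := 𝔭.isPrime
  let S := Localization.AtPrime 𝔭.asIdeal
  have hfl : Module.Flat R S := Module.Flat.trans R R₂ S
  have hloc : IsLocalHom (algebraMap R S) := by
    refine ((IsLocalRing.local_hom_TFAE (algebraMap R S)).out 0 4).2 ?_
    have h1 : Ideal.comap (algebraMap R₂ S) (IsLocalRing.maximalIdeal S) = 𝔭.asIdeal :=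
      IsLocalization.AtPrime.comap_maximalIdeal S 𝔭.asIdeal
    have h2 : Ideal.comap (algebraMap R R₂) 𝔭.asIdeal = IsLocalRing.maximalIdeal R :=
      congrArg PrimeSpectrum.asIdeal h𝔭
    rw [IsScalarTower.algebraMap_eq R R₂ S, ← Ideal.comap_comap, h1, h2]
  refine ⟨S, inferInstance, inferInstance, inferInstance, hloc, hfl, M, inferInstance, ?_⟩
  exact typed_of_algHom (IsScalarTower.toAlgHom R R₂ S) e₂

end Chart

section Transfer

variable {R : Type u} [CommRing R] [IsLocalRing R] {A : Type u} [CommRing A] [HopfAlgebra R A]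
  {C : Type u} [CommRing C] [HopfAlgebra R C]
  {S : Type u} [CommRing S] [Algebra R S] {M : Type u} [CommGroup M]

/-- the base-changed map into `S[M]`. -/
noncomputable def bcTo (e : S ⊗[R] A ≃ₐc[S] MonoidAlgebra S M) (φ : C →ₐc[R] A) :
    S ⊗[R] C →ₐc[S] MonoidAlgebra S M :=
  (e : S ⊗[R] A →ₐc[S] MonoidAlgebra S M).comp
    (Bialgebra.TensorProduct.map (BialgHom.id S S) φ)

@[simp] lemma bcTo_tmul (e : S ⊗[R] A ≃ₐc[S] MonoidAlgebra S M) (φ : C →ₐc[R] A) (s : S) (c : C) :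
    bcTo e φ (s ⊗ₜ[R] c) = e (s ⊗ₜ[R] φ c) := rfl

theorem transfer_mem (e : S ⊗[R] A ≃ₐc[S] MonoidAlgebra S M) (φ ψ : C →ₐc[R] A)
    (hs : ∀ c : C, φ c - ψ c ∈ Ideal.map (algebraMap R A) (IsLocalRing.maximalIdeal R))
    (x : S ⊗[R] C) (m : M) :
    cf m (bcTo e φ x - bcTo e ψ x) ∈ Ideal.map (algebraMap R S) (IsLocalRing.maximalIdeal R) := by
  apply cf_mem_of_mem_smul_top
  induction x using TensorProduct.induction_on with
  | zero => simp
  | add x y hx hy =>
    rw [map_add, map_add, add_sub_add_comm]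
    exact add_mem hx hy
  | tmul s c =>
    rw [bcTo_tmul, bcTo_tmul, ← map_sub, ← TensorProduct.tmul_sub]
    have h1 : φ c - ψ c ∈ (IsLocalRing.maximalIdeal R) • (⊤ : Submodule R A) := by
      rw [Ideal.smul_top_eq_map]
      exact hs c
    have h2 := tmul_mem_map_smul_top S _ h1 s
    exact map_mem_smul_top (e : S ⊗[R] A →ₗ[S] MonoidAlgebra S M) _ h2

theorem transfer_span (e : S ⊗[R] A ≃ₐc[S] MonoidAlgebra S M) (φ ψ : C →ₐc[R] A)
    (T₀ : Finset C)
    (hT₀ : ∀ c : C, φ c - ψ c ∈ Ideal.span ((fun t => φ t - ψ t) '' (T₀ : Set C))) :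
    ∃ T : Finset (S ⊗[R] C), ∀ x : S ⊗[R] C, bcTo e φ x - bcTo e ψ x ∈
      Ideal.span ((fun t => bcTo e φ t - bcTo e ψ t) '' (T : Set (S ⊗[R] C))) := by
  classical
  refine ⟨T₀.image (fun c => (1 : S) ⊗ₜ[R] c), ?_⟩
  intro x
  set K' := Ideal.span ((fun t => bcTo e φ t - bcTo e ψ t) ''
    ((T₀.image (fun c => (1 : S) ⊗ₜ[R] c) : Finset (S ⊗[R] C)) : Set (S ⊗[R] C))) with hK'
  let ρ : A →+* MonoidAlgebra S M := (e : S ⊗[R] A →+* MonoidAlgebra S M).comp
    (Algebra.TensorProduct.includeRight : A →ₐ[R] S ⊗[R] A).toRingHom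
  have hρ : ∀ a, ρ a = e ((1 : S) ⊗ₜ[R] a) := fun _ => rfl
  have hle : Ideal.span ((fun t => φ t - ψ t) '' (T₀ : Set C)) ≤ K'.comap ρ := by
    rw [Ideal.span_le]
    rintro _ ⟨t, ht, rfl⟩
    rw [SetLike.mem_coe, Ideal.mem_comap, hρ, TensorProduct.tmul_sub, map_sub]
    apply Ideal.subset_span
    refine ⟨(1 : S) ⊗ₜ[R] t, ?_, rfl⟩
    rw [Finset.mem_coe, Finset.mem_image]
    exact ⟨t, ht, rfl⟩
  induction x using TensorProduct.induction_on with
  | zero => simp
  | add x y hx hy =>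
    rw [map_add, map_add, add_sub_add_comm]
    exact add_mem hx hy
  | tmul s c =>
    rw [bcTo_tmul, bcTo_tmul, ← map_sub, ← TensorProduct.tmul_sub]
    have h1 : s ⊗ₜ[R] (φ c - ψ c) = (s ⊗ₜ[R] (1 : A)) * ((1 : S) ⊗ₜ[R] (φ c - ψ c)) := by
      rw [Algebra.TensorProduct.tmul_mul_tmul, mul_one, one_mul]
    rw [h1, map_mul]
    exact Ideal.mul_mem_left _ _ (hle (hT₀ c))

theorem eq_of_bcTo_eq [Module.FaithfullyFlat R S] (e : S ⊗[R] A ≃ₐc[S] MonoidAlgebra S M)
    (φ ψ : C →ₐc[R] A) (h : bcTo e φ = bcTo e ψ) : φ = ψ := by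
  apply BialgHom.ext
  intro c
  have h1 := DFunLike.congr_fun h ((1 : S) ⊗ₜ[R] c)
  rw [bcTo_tmul, bcTo_tmul] at h1
  have h2 := e.injective h1
  exact Module.FaithfullyFlat.tensorProduct_mk_injective (A := R) (B := S) A h2

end Transfer

end Groth.Agent.Lib.Helper7.Rigid
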