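import Mathlib
import Groth.Prelude.Def_SGA3b
import Groth.Agent.Lib.Helper7.RG2

set_option autoImplicit false
universe u
open TensorProduct SGA3b WithConv
open Groth.Agent.Lib.Helper7.MultDesc

namespace Groth.Agent.Lib.Helper7.Rigid

section Fin

variable {R : Type u} [CommRing R] {A : Type u} [CommRing A] [Algebra R A]
  {C : Type u} [CommRing C] [Algebra R C]

/-- finite type source: the difference ideal is generated by the generators' differences. -/
theorem exists_finset_of_finiteType (hC : Algebra.FiniteType R C) (φ ψ : C →ₐ[R] A) :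
    ∃ T₀ : Finset C, ∀ c : C, φ c - ψ c ∈ Ideal.span ((fun t => φ t - ψ t) '' (T₀ : Set C)) := by
  obtain ⟨T₀, hT₀⟩ := hC
  refine ⟨T₀, ?_⟩
  set K := Ideal.span ((fun t => φ t - ψ t) '' (T₀ : Set C)) with hK
  intro c
  have hc : c ∈ Algebra.adjoin R (T₀ : Set C) := by rw [hT₀]; trivial
  induction hc using Algebra.adjoin_induction with
  | mem x hx => exact Ideal.subset_span ⟨x, hx, rfl⟩
  | algebraMap r => rw [AlgHom.commutes, AlgHom.commutes, sub_self]; exact K.zero_mem
  | add x y _ _ hx hy =>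
    rw [map_add, map_add, add_sub_add_comm]
    exact K.add_mem hx hy
  | mul x y _ _ hx hy =>
    have : φ (x * y) - ψ (x * y) = φ x * (φ y - ψ y) + (φ x - ψ x) * ψ y := by
      rw [map_mul, map_mul]; ring
    rw [this]
    exact K.add_mem (K.mul_mem_left _ hy) (K.mul_mem_right _ hx)

/-- noetherian target. -/
theorem exists_finset_of_noetherian [IsNoetherianRing A] (φ ψ : C →ₐ[R] A) :
    ∃ T₀ : Finset C, ∀ c : C, φ c - ψ c ∈ Ideal.span ((fun t => φ t - ψ t) '' (T₀ : Set C)) := by
  classical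
  have hfg : (Ideal.span (Set.range (fun c => φ c - ψ c))).FG := IsNoetherian.noetherian _
  obtain ⟨s', hs', hspan⟩ := (Submodule.fg_span_iff_fg_span_finset_subset _).1 hfg
  choose! pre hpre using fun a (ha : a ∈ s') => hs' ha
  refine ⟨s'.image pre, ?_⟩
  intro c
  have h1 : φ c - ψ c ∈ Ideal.span (Set.range (fun c => φ c - ψ c)) :=
    Ideal.subset_span ⟨c, rfl⟩
  have h2 : Ideal.span ((s' : Set A)) ≤
      Ideal.span ((fun t => φ t - ψ t) '' ((s'.image pre : Finset C) : Set C)) := by
    apply Ideal.span_mono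
    intro a ha
    refine ⟨pre a, ?_, hpre a ha⟩
    rw [Finset.mem_coe, Finset.mem_image]
    exact ⟨a, ha, rfl⟩
  apply h2
  have h3 : Ideal.span (Set.range (fun c => φ c - ψ c)) = Ideal.span (s' : Set A) := hspan
  rw [← h3]
  exact h1

end Fin

section Main

variable (R : Type u) [CommRing R] [IsLocalRing R] (A : Type u) [CommRing A] [HopfAlgebra R A]
  (C : Type u) [CommRing C] [HopfAlgebra R C]

theorem eq_of_cocomm [Coalgebra.IsCocomm R C] (hH : IsMultType R A)
    (φ ψ : C →ₐc[R] A)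
    (hT₀ : ∃ T₀ : Finset C, ∀ c : C, φ c - ψ c ∈ Ideal.span ((fun t => φ t - ψ t) '' (T₀ : Set C)))
    (hs : ∀ c : C, φ c - ψ c ∈ Ideal.map (algebraMap R A) (IsLocalRing.maximalIdeal R)) :
    φ = ψ := by
  obtain ⟨S, _, _, hloc, hlh, hfl, M, _, ⟨e⟩⟩ := exists_local_chart R A hH
  have hff : Module.FaithfullyFlat R S := Module.FaithfullyFlat.of_flat_of_isLocalHom
  obtain ⟨T₀, hT₀⟩ := hT₀
  obtain ⟨T, hT⟩ := transfer_span e φ ψ T₀ hT₀
  apply eq_of_bcTo_eq e
  refine eq_of_jacobson_cocomm (bcTo e φ) (bcTo e ψ)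
    (Ideal.map (algebraMap R S) (IsLocalRing.maximalIdeal R)) ?_ (transfer_mem e φ ψ hs) T hT
  rw [IsLocalRing.jacobson_eq_maximalIdeal ⊥ bot_ne_top]
  exact IsLocalRing.map_maximalIdeal_le (algebraMap R S)

theorem trivial_of_local (hH : IsMultType R A) (φ : C →ₐc[R] A)
    (hT₀ : ∃ T₀ : Finset C, ∀ c : C, φ c - algebraMap R A (Coalgebra.counit (R := R) c) ∈
      Ideal.span ((fun t => φ t - algebraMap R A (Coalgebra.counit (R := R) t)) '' (T₀ : Set C)))
    (hs : ∀ c : C, φ c - algebraMap R A (Coalgebra.counit (R := R) c) ∈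
      Ideal.map (algebraMap R A) (IsLocalRing.maximalIdeal R)) (c : C) :
    φ c = algebraMap R A (Coalgebra.counit (R := R) c) := by
  let ψ : C →ₐc[R] A := (Bialgebra.unitBialgHom R A).comp (Bialgebra.counitBialgHom R C)
  have hψ : ∀ c, ψ c = algebraMap R A (Coalgebra.counit (R := R) c) := fun _ => rfl
  suffices h : φ = ψ by rw [h, hψ]
  obtain ⟨S, _, _, hloc, hlh, hfl, M, _, ⟨e⟩⟩ := exists_local_chart R A hH
  have hff : Module.FaithfullyFlat R S := Module.FaithfullyFlat.of_flat_of_isLocalHom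
  obtain ⟨T₀, hT₀⟩ := hT₀
  obtain ⟨T, hT⟩ := transfer_span e φ ψ T₀ hT₀
  apply eq_of_bcTo_eq e
  have hΨ : ∀ x, bcTo e ψ x = algebraMap S (MonoidAlgebra S M) (Coalgebra.counit (R := S) x) := by
    intro x
    induction x using TensorProduct.induction_on with
    | zero => simp
    | add x y hx hy => rw [map_add, map_add, map_add, hx, hy]
    | tmul s c =>
      rw [bcTo_tmul, hψ, TensorProduct.counit_tmul]
      have h1 : s ⊗ₜ[R] algebraMap R A (Coalgebra.counit (R := R) c) =
          algebraMap S (S ⊗[R] A) (Coalgebra.counit (R := R) c • s) := by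
        rw [Algebra.TensorProduct.algebraMap_apply, Algebra.algebraMap_self_apply,
          Algebra.algebraMap_eq_smul_one, TensorProduct.tmul_smul, TensorProduct.smul_tmul']
      rw [h1]
      have h2 := AlgHomClass.commutes e (Coalgebra.counit (R := R) c • s)
      rw [h2]
      simp [CommSemiring.counit_apply]
  have hmem := transfer_mem e φ ψ hs
  simp only [hΨ] at hmem hT
  apply BialgHom.ext
  intro x
  rw [hΨ]
  refine trivial_of_jacobson (bcTo e φ)
    (Ideal.map (algebraMap R S) (IsLocalRing.maximalIdeal R)) ?_ hmem T hT x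
  rw [IsLocalRing.jacobson_eq_maximalIdeal ⊥ bot_ne_top]
  exact IsLocalRing.map_maximalIdeal_le (algebraMap R S)

end Main

end Groth.Agent.Lib.Helper7.Rigid
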