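import Groth.Agent.Lib.Helper7.PBWR3
import Groth.Agent.Lib.Helper2.PLie.Jac4
import Mathlib.Data.Finsupp.Multiset
import Mathlib.Data.Multiset.Sort
import Mathlib.Algebra.Algebra.Subalgebra.Centralizer

/-!
# Restricted PBW, part 1 (helper7): central `p`-elements, the standard filtration and sorted
monomials indexed by exponent vectors.  Works over any commutative ring of characteristic `p`.
-/

universe u v w

namespace Groth.Agent.Lib.Helper7.RPBW

open Groth.Agent.Lib.Helper7.PBWR Groth.Agent.Lib.Helper2.PL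

attribute [local instance] LieRing.ofAssociativeRing LieAlgebra.ofAssociativeAlgebra

section Basic

variable {k : Type u} [CommRing k] {L : Type v} [LieRing L] [LieAlgebra k L]

local notation "UL" => UniversalEnvelopingAlgebra k L

/-- `U(L)` is generated by `L`. -/
lemma adjoin_range_ι :
    Algebra.adjoin k (Set.range (UniversalEnvelopingAlgebra.ι k (L := L))) = ⊤ := by
  set S := Algebra.adjoin k (Set.range (UniversalEnvelopingAlgebra.ι k (L := L))) with hS
  let f : L →ₗ⁅k⁆ S :=
    { toFun := fun x => ⟨UniversalEnvelopingAlgebra.ι k x, Algebra.subset_adjoin ⟨x, rfl⟩⟩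
      map_add' := fun x y => Subtype.ext (map_add _ x y)
      map_smul' := fun c x => Subtype.ext (map_smul _ c x)
      map_lie' := by
        intro x y
        apply Subtype.ext
        change UniversalEnvelopingAlgebra.ι k ⁅x, y⁆ = _
        rw [LieHom.map_lie]
        rfl }
  have h1 : S.val.comp (UniversalEnvelopingAlgebra.lift k f) = AlgHom.id k UL := by
    apply UniversalEnvelopingAlgebra.hom_ext
    ext x
    simp only [LieHom.coe_comp, Function.comp_apply, AlgHom.coe_toLieHom, AlgHom.coe_comp,
      UniversalEnvelopingAlgebra.lift_ι_apply, AlgHom.coe_id, id_eq]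
    rfl
  rw [eq_top_iff]
  intro u _
  have h2 := AlgHom.congr_fun h1 u
  rw [AlgHom.comp_apply, AlgHom.id_apply] at h2
  rw [← h2]
  exact (UniversalEnvelopingAlgebra.lift k f u).2

/-- the linear map underlying `ι`. -/
noncomputable def ιL : L →ₗ[k] UL := (UniversalEnvelopingAlgebra.ι k : L →ₗ⁅k⁆ UL).toLinearMap

lemma ιL_apply (x : L) : ιL (k := k) x = UniversalEnvelopingAlgebra.ι k x := rfl

lemma ιL_lie (x z : L) : ιL (k := k) ⁅x, z⁆ = ιL x * ιL z - ιL z * ιL x := by
  rw [ιL_apply, LieHom.map_lie, LieRing.of_associative_ring_bracket]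
  rfl

end Basic

section Central

variable {k : Type u} [CommRing k] {L : Type v} [LieRing L] [LieAlgebra k L]
  {ι : Type w} (b : ι → L) (p : ℕ) [hpf : Fact p.Prime] [CharP k p] (y : ι → L)

local notation "UL" => UniversalEnvelopingAlgebra k L

/-- the elements `b_i^p - y_i` of `U(L)`. -/
noncomputable def zc (i : ι) : UL :=
  UniversalEnvelopingAlgebra.ι k (b i) ^ p - UniversalEnvelopingAlgebra.ι k (y i)

variable (hy : ∀ i : ι, LieAlgebra.ad k L (b i) ^ p = LieAlgebra.ad k L (y i))

include hpf hy in
lemma zc_comm_ι (i : ι) (x : L) :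
    zc b p y i * UniversalEnvelopingAlgebra.ι k x = UniversalEnvelopingAlgebra.ι k x * zc b p y i := by
  have hpA : ((p : ℕ) : UL) = 0 := natCast_eq_zero_of_algebra k p UL
  have h1 := adA_iterate_char p hpf.out hpA (ιL (k := k) (b i)) (ιL x)
  have h2 := e_ad_pow k (ιL (k := k) (L := L)) ιL_lie (b i) x p
  rw [hy i, LieAlgebra.ad_apply, ιL_lie] at h2
  rw [← h2] at h1
  simp only [ιL_apply] at h1
  unfold zc
  rw [sub_mul, mul_sub]
  rw [← sub_eq_zero]
  have h4 : UniversalEnvelopingAlgebra.ι k (b i) ^ p * UniversalEnvelopingAlgebra.ι k x -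
      UniversalEnvelopingAlgebra.ι k (y i) * UniversalEnvelopingAlgebra.ι k x -
      (UniversalEnvelopingAlgebra.ι k x * UniversalEnvelopingAlgebra.ι k (b i) ^ p -
      UniversalEnvelopingAlgebra.ι k x * UniversalEnvelopingAlgebra.ι k (y i)) =
      (UniversalEnvelopingAlgebra.ι k (b i) ^ p * UniversalEnvelopingAlgebra.ι k x -
      UniversalEnvelopingAlgebra.ι k x * UniversalEnvelopingAlgebra.ι k (b i) ^ p) -
      (UniversalEnvelopingAlgebra.ι k (y i) * UniversalEnvelopingAlgebra.ι k x -
      UniversalEnvelopingAlgebra.ι k x * UniversalEnvelopingAlgebra.ι k (y i)) := by abel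
  rw [h4, h1, sub_self]

include hpf hy in
/-- `b_i^p - y_i` is central. -/
theorem zc_comm (i : ι) (u : UL) : zc b p y i * u = u * zc b p y i := by
  have h : (⊤ : Subalgebra k UL) ≤ Subalgebra.centralizer k {zc b p y i} := by
    rw [← adjoin_range_ι]
    apply Algebra.adjoin_le
    rintro _ ⟨x, rfl⟩
    rw [SetLike.mem_coe, Subalgebra.mem_centralizer_iff]
    intro g hg
    rw [Set.mem_singleton_iff] at hg
    subst hg
    exact zc_comm_ι b p y hy i x
  have h2 := h (show u ∈ (⊤ : Subalgebra k UL) from Algebra.mem_top)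
  rw [Subalgebra.mem_centralizer_iff] at h2
  exact h2 _ rfl

end Central

end Groth.Agent.Lib.Helper7.RPBW
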