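import Groth.Agent.Lib.Helper7.RPBW1

/-!
# Restricted PBW, part 2 (helper7): the filtration, sorted monomials indexed by exponent vectors,
and the abstract "unitriangular change of basis" lemma.
-/

universe u v w

namespace Groth.Agent.Lib.Helper7.RPBW

open Groth.Agent.Lib.Helper7.PBWR

attribute [local instance] LieRing.ofAssociativeRing LieAlgebra.ofAssociativeAlgebra

section Tri

variable {k : Type u} [CommRing k] {σ : Type*} {V : Type*} [AddCommGroup V] [Module k V]

/-- filtration attached to a basis and a degree function. -/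
def Fl (B : Module.Basis σ k V) (deg : σ → ℕ) (n : ℕ) : Submodule k V :=
  Submodule.span k (B '' {t | deg t < n})

lemma Fl_mono (B : Module.Basis σ k V) (deg : σ → ℕ) {n m : ℕ} (h : n ≤ m) :
    Fl B deg n ≤ Fl B deg m :=
  Submodule.span_mono (Set.image_mono fun _ ht => lt_of_lt_of_le ht h)

lemma Fl_zero (B : Module.Basis σ k V) (deg : σ → ℕ) : Fl B deg 0 = ⊥ := by
  unfold Fl
  have : {t | deg t < 0} = (∅ : Set σ) := by
    ext t; simp
  rw [this, Set.image_empty, Submodule.span_empty]

lemma exists_mem_Fl (B : Module.Basis σ k V) (deg : σ → ℕ) (v : V) : ∃ n, v ∈ Fl B deg n := by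
  have hv : v ∈ Submodule.span k (Set.range B) := by rw [B.span_eq]; exact Submodule.mem_top
  induction hv using Submodule.span_induction with
  | mem x hx =>
    obtain ⟨t, rfl⟩ := hx
    exact ⟨deg t + 1, Submodule.subset_span ⟨t, Nat.lt_succ_self _, rfl⟩⟩
  | zero => exact ⟨0, Submodule.zero_mem _⟩
  | add x y _ _ hx hy =>
    obtain ⟨n, hn⟩ := hx
    obtain ⟨m, hm⟩ := hy
    exact ⟨max n m, Submodule.add_mem _ (Fl_mono B deg (le_max_left _ _) hn)
      (Fl_mono B deg (le_max_right _ _) hm)⟩
  | smul c x _ hx =>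
    obtain ⟨n, hn⟩ := hx
    exact ⟨n, Submodule.smul_mem _ c hn⟩

/-- **Unitriangular change of basis.** -/
theorem exists_basis_of_tri (B : Module.Basis σ k V) (deg : σ → ℕ) (E : σ → V)
    (hE : ∀ s, E s - B s ∈ Fl B deg (deg s)) :
    ∃ B' : Module.Basis σ k V, ∀ s, B' s = E s := by
  set Θ : V →ₗ[k] V := B.constr k E with hΘ
  have hΘB : ∀ s, Θ (B s) = E s := fun s => B.constr_basis k E s
  set N : V →ₗ[k] V := Θ - LinearMap.id with hN
  have hNF : ∀ n, ∀ v ∈ Fl B deg (n + 1), N v ∈ Fl B deg n := by
    intro n v hv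
    induction hv using Submodule.span_induction with
    | mem x hx =>
      obtain ⟨t, ht, rfl⟩ := hx
      rw [hN, LinearMap.sub_apply, hΘB, LinearMap.id_apply]
      exact Fl_mono B deg (Nat.lt_succ_iff.1 ht) (hE t)
    | zero => rw [map_zero]; exact Submodule.zero_mem _
    | add x y _ _ hx hy => rw [map_add]; exact Submodule.add_mem _ hx hy
    | smul c x _ hx => rw [map_smul]; exact Submodule.smul_mem _ c hx
  have hNpow : ∀ n, ∀ v ∈ Fl B deg n, (N ^ n) v = 0 := by
    intro n
    induction n with
    | zero =>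
      intro v hv
      rw [Fl_zero] at hv
      rw [(Submodule.mem_bot k).1 hv, map_zero]
    | succ n ih =>
      intro v hv
      rw [pow_succ, Module.End.mul_apply]
      exact ih _ (hNF n v hv)
  have hΘN : Θ = 1 - (-N) := by
    rw [hN]
    ext v
    simp
  have hinj : Function.Injective Θ := by
    rw [injective_iff_map_eq_zero]
    intro v hv
    have h1 : N v = -v := by
      rw [hN, LinearMap.sub_apply, hv, LinearMap.id_apply, zero_sub]
    have h2 : ∀ n : ℕ, (N ^ n) v = (-1 : k) ^ n • v := by
      intro n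
      induction n with
      | zero => simp
      | succ n ih =>
        rw [pow_succ, Module.End.mul_apply, h1, map_neg, ih, pow_succ, mul_neg_one, neg_smul]
    obtain ⟨n, hn⟩ := exists_mem_Fl B deg v
    have h3 := hNpow n v hn
    rw [h2 n] at h3
    have h4 : ((-1 : k) ^ n * (-1 : k) ^ n) • v = 0 := by
      rw [mul_smul, h3, smul_zero]
    rw [← mul_pow] at h4
    simpa using h4
  have hsurj : Function.Surjective Θ := by
    intro v
    obtain ⟨n, hn⟩ := exists_mem_Fl B deg v
    refine ⟨(∑ i ∈ Finset.range n, (-N) ^ i) v, ?_⟩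
    have h1 : Θ * ∑ i ∈ Finset.range n, (-N) ^ i = 1 - (-N) ^ n := by
      rw [hΘN]
      exact mul_neg_geom_sum (-N) n
    have h2 : Θ ((∑ i ∈ Finset.range n, (-N) ^ i) v) = (Θ * ∑ i ∈ Finset.range n, (-N) ^ i) v := rfl
    rw [h2, h1, LinearMap.sub_apply, Module.End.one_apply, neg_pow, Module.End.mul_apply,
      hNpow n v hn, map_zero, sub_zero]
  let e : V ≃ₗ[k] V := LinearEquiv.ofBijective Θ ⟨hinj, hsurj⟩
  refine ⟨B.map e, fun s => ?_⟩
  rw [Module.Basis.map_apply]
  exact hΘB s

end Tri

section Filt

variable {k : Type u} [CommRing k] {L : Type v} [LieRing L] [LieAlgebra k L]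
  {ι : Type w} [LinearOrder ι] (b : Module.Basis ι k L)

local notation "UL" => UniversalEnvelopingAlgebra k L

lemma Dn_mono {n m : ℕ} (h : n ≤ m) : Dn b n ≤ Dn b m :=
  Submodule.span_mono (Set.image_mono fun w hw => by
    have h1 : w.length < n := hw
    exact (lt_of_lt_of_le h1 h : w.length < m))

lemma Dn_mul {m n : ℕ} {u v : UL} (hu : u ∈ Dn b m) (hv : v ∈ Dn b (n + 1)) :
    u * v ∈ Dn b (m + n) := by
  induction hu using Submodule.span_induction with
  | mem u hu =>
    obtain ⟨w, hw, rfl⟩ := hu
    induction hv using Submodule.span_induction with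
    | mem v hv =>
      obtain ⟨w', hw', rfl⟩ := hv
      rw [← mon_append]
      apply mon_mem_Dn
      have h1 : w.length < m := hw
      have h2 : w'.length < n + 1 := hw'
      rw [List.length_append]
      omega
    | zero => rw [mul_zero]; exact Submodule.zero_mem _
    | add x y _ _ hx hy => rw [mul_add]; exact Submodule.add_mem _ hx hy
    | smul c x _ hx => rw [mul_smul_comm]; exact Submodule.smul_mem _ c hx
  | zero => rw [zero_mul]; exact Submodule.zero_mem _
  | add x y _ _ hx hy => rw [add_mul]; exact Submodule.add_mem _ hx hy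
  | smul c x _ hx => rw [smul_mul_assoc]; exact Submodule.smul_mem _ c hx

lemma Dn_mul' {m n : ℕ} {u v : UL} (hu : u ∈ Dn b (m + 1)) (hv : v ∈ Dn b n) :
    u * v ∈ Dn b (m + n) := by
  induction hu using Submodule.span_induction with
  | mem u hu =>
    obtain ⟨w, hw, rfl⟩ := hu
    induction hv using Submodule.span_induction with
    | mem v hv =>
      obtain ⟨w', hw', rfl⟩ := hv
      rw [← mon_append]
      apply mon_mem_Dn
      have h1 : w.length < m + 1 := hw
      have h2 : w'.length < n := hw'
      rw [List.length_append]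
      omega
    | zero => rw [mul_zero]; exact Submodule.zero_mem _
    | add x y _ _ hx hy => rw [mul_add]; exact Submodule.add_mem _ hx hy
    | smul c x _ hx => rw [mul_smul_comm]; exact Submodule.smul_mem _ c hx
  | zero => rw [zero_mul]; exact Submodule.zero_mem _
  | add x y _ _ hx hy => rw [add_mul]; exact Submodule.add_mem _ hx hy
  | smul c x _ hx => rw [smul_mul_assoc]; exact Submodule.smul_mem _ c hx

lemma ι_mem_Dn (x : L) : UniversalEnvelopingAlgebra.ι k x ∈ Dn b 2 := by
  have h := ι_mul_mem b x (mon_mem_Dn b (w := []) (n := 1) (by simp))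
  simpa using h

/-- the sorted word with given exponent vector. -/
noncomputable def SLs (s : ι →₀ ℕ) : List ι := (Finsupp.toMultiset s).sort (· ≤ ·)

lemma SLs_sorted (s : ι →₀ ℕ) : (SLs s).SortedLE :=
  (Multiset.pairwise_sort _ _).sortedLE

lemma count_SLs (s : ι →₀ ℕ) (a : ι) : (SLs s).count a = s a := by
  unfold SLs
  rw [← Multiset.coe_count, Multiset.sort_eq, Finsupp.count_toMultiset]

lemma sw_SLs (s : ι →₀ ℕ) : sw (SLs s) = s := by
  ext a
  rw [sw_apply, count_SLs]

lemma length_SLs (s : ι →₀ ℕ) : (SLs s).length = deg s := by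
  unfold SLs
  rw [Multiset.length_sort, Finsupp.card_toMultiset]
  rfl

lemma SLs_sw {l : List ι} (hl : l.SortedLE) : SLs (sw l) = l :=
  sw_injOn (SLs_sorted _) hl (sw_SLs _)

lemma length_eq_deg_sw (l : List ι) : l.length = deg (sw l) := by
  induction l with
  | nil => simp [deg]
  | cons i l ih => rw [sw_cons, deg_add, deg_single, List.length_cons, ih]; omega

/-- the PBW basis indexed by exponent vectors. -/
noncomputable def BU : Module.Basis (ι →₀ ℕ) k UL := by
  refine Module.Basis.mk (v := fun s : ι →₀ ℕ => mon b (SLs s)) ?_ ?_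
  · have h := linearIndependent_mon b
    have hinj : Function.Injective (fun s : ι →₀ ℕ =>
        (⟨SLs s, SLs_sorted s⟩ : {l : List ι // l.SortedLE})) := by
      intro s t hst
      have := congrArg (fun l : {l : List ι // l.SortedLE} => sw l.1) hst
      simpa [sw_SLs] using this
    exact h.comp _ hinj
  · rw [← span_mon_eq_top b]
    apply Submodule.span_mono
    rintro _ ⟨l, rfl⟩
    exact ⟨sw l.1, by simp only [SLs_sw l.2]⟩

lemma BU_apply (s : ι →₀ ℕ) : BU b s = mon b (SLs s) := by
  unfold BU
  rw [Module.Basis.mk_apply]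

/-- The word filtration is the filtration by degree of sorted monomials. -/
theorem Dn_le_Fl : ∀ n, Dn b n ≤ Fl (BU b) deg n := by
  intro n
  induction n using Nat.strong_induction_on with
  | _ n ih =>
    apply Submodule.span_le.2
    rintro _ ⟨w, hw, rfl⟩
    have hw' : w.length < n := hw
    have hperm : w.Perm (w.insertionSort (· ≤ ·)) := (List.perm_insertionSort _ w).symm
    have h1 := PBWR.perm_sub_mem b hperm
    have h2 : mon b w - mon b (w.insertionSort (· ≤ ·)) ∈ Fl (BU b) deg n :=
      Fl_mono _ _ hw'.le (ih w.length hw' h1)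
    have hsorted : (w.insertionSort (· ≤ ·)).SortedLE := List.sortedLE_insertionSort
    have h3 : mon b (w.insertionSort (· ≤ ·)) ∈ Fl (BU b) deg n := by
      refine Submodule.subset_span ⟨sw (w.insertionSort (· ≤ ·)), ?_, ?_⟩
      · show deg (sw (w.insertionSort (· ≤ ·))) < n
        rw [← length_eq_deg_sw, List.length_insertionSort]
        exact hw'
      · rw [BU_apply, SLs_sw hsorted]
    have e : mon b w = (mon b w - mon b (w.insertionSort (· ≤ ·))) +
        mon b (w.insertionSort (· ≤ ·)) := by abel
    rw [SetLike.mem_coe, e]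
    exact Submodule.add_mem _ h2 h3

end Filt

end Groth.Agent.Lib.Helper7.RPBW
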