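import Groth.Agent.Lib.Helper7.RPBW2

/-!
# Restricted PBW, part 3 (helper7): the basis `z^q x^r` of `U(L)`.
-/

universe u v w

namespace Groth.Agent.Lib.Helper7.RPBW

open Groth.Agent.Lib.Helper7.PBWR

attribute [local instance] LieRing.ofAssociativeRing LieAlgebra.ofAssociativeAlgebra

section Lists

variable {ι : Type w} [DecidableEq ι]

lemma count_flatMap_replicate (p : ℕ) (a : ι) (l : List ι) :
    (l.flatMap (List.replicate p)).count a = p * l.count a := by
  induction l with
  | nil => simp
  | cons i l ih =>
    rw [List.flatMap_cons, List.count_append, ih, List.count_cons, List.count_replicate]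
    by_cases h : i = a
    · subst h; simp; ring
    · have h' : (i == a) = false := by simpa using h
      simp [h']

lemma length_flatMap_replicate (p : ℕ) (l : List ι) :
    (l.flatMap (List.replicate p)).length = p * l.length := by
  induction l with
  | nil => simp
  | cons i l ih =>
    rw [List.flatMap_cons, List.length_append, ih, List.length_replicate, List.length_cons]
    ring

end Lists

section DivMod

variable {ι : Type w} (p : ℕ)

/-- exponentwise quotient by `p`. -/
noncomputable def qd (s : ι →₀ ℕ) : ι →₀ ℕ := s.mapRange (· / p) (Nat.zero_div p)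

/-- exponentwise remainder mod `p`. -/
noncomputable def rm (s : ι →₀ ℕ) : ι →₀ ℕ := s.mapRange (· % p) (Nat.zero_mod p)

lemma qd_apply (s : ι →₀ ℕ) (a : ι) : qd p s a = s a / p := by
  simp [qd]

lemma rm_apply (s : ι →₀ ℕ) (a : ι) : rm p s a = s a % p := by
  simp [rm]

lemma rm_eq_self {s : ι →₀ ℕ} (h : ∀ a, s a < p) : rm p s = s := by
  ext a
  rw [rm_apply, Nat.mod_eq_of_lt (h a)]

lemma qd_eq_zero {s : ι →₀ ℕ} (h : ∀ a, s a < p) : qd p s = 0 := by
  ext a
  rw [qd_apply, Nat.div_eq_of_lt (h a)]
  rfl

end DivMod

section E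

variable {k : Type u} [CommRing k] {L : Type v} [LieRing L] [LieAlgebra k L]
  {ι : Type w} [LinearOrder ι] (b : Module.Basis ι k L)
  (p : ℕ) [hpf : Fact p.Prime] [CharP k p] (y : ι → L)

local notation "UL" => UniversalEnvelopingAlgebra k L

/-- product of the central elements along a word. -/
noncomputable def Zl (l : List ι) : UL := (l.map (zc b p y)).prod

omit [LinearOrder ι] hpf [CharP k p] in
lemma Zl_nil : Zl b p y [] = 1 := rfl

omit [LinearOrder ι] hpf [CharP k p] in
lemma Zl_cons (i : ι) (l : List ι) : Zl b p y (i :: l) = zc b p y i * Zl b p y l := by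
  simp [Zl]

omit [LinearOrder ι] hpf [CharP k p] in
lemma mon_replicate (i : ι) (n : ℕ) :
    mon b (List.replicate n i) = UniversalEnvelopingAlgebra.ι k (b i) ^ n := by
  unfold mon
  rw [List.map_replicate, List.prod_replicate]

include hpf in
lemma zc_mem_Dn (i : ι) : zc b p y i ∈ Dn b (p + 1) := by
  unfold zc
  refine Submodule.sub_mem _ ?_ ?_
  · rw [← mon_replicate]
    exact mon_mem_Dn b (by simp)
  · exact Dn_mono b (by have := hpf.out.two_le; omega) (ι_mem_Dn b (y i))

include hpf in
lemma Zl_sub_mem (l : List ι) :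
    Zl b p y l - mon b (l.flatMap (List.replicate p)) ∈ Dn b (p * l.length) := by
  classical
  induction l with
  | nil =>
    rw [Zl_nil, List.flatMap_nil, mon_nil, sub_self]
    exact Submodule.zero_mem _
  | cons i l ih =>
    rw [Zl_cons, List.flatMap_cons, mon_append, mon_replicate]
    have e : zc b p y i * Zl b p y l - UniversalEnvelopingAlgebra.ι k (b i) ^ p *
        mon b (l.flatMap (List.replicate p)) =
        zc b p y i * (Zl b p y l - mon b (l.flatMap (List.replicate p))) +
        (zc b p y i - UniversalEnvelopingAlgebra.ι k (b i) ^ p) *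
          mon b (l.flatMap (List.replicate p)) := by
      noncomm_ring
    rw [e]
    have hp2 := hpf.out.two_le
    have htarget : p * (i :: l).length = p + p * l.length := by
      rw [List.length_cons]; ring
    rw [htarget]
    refine Submodule.add_mem _ (Dn_mul' b (zc_mem_Dn b p y i) ih) ?_
    have h1 : zc b p y i - UniversalEnvelopingAlgebra.ι k (b i) ^ p ∈ Dn b (1 + 1) := by
      unfold zc
      rw [sub_sub_cancel_left]
      exact Submodule.neg_mem _ (ι_mem_Dn b (y i))
    have h2 : mon b (l.flatMap (List.replicate p)) ∈ Dn b (p * l.length + 1) :=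
      mon_mem_Dn b (by rw [length_flatMap_replicate]; omega)
    exact Dn_mono b (by omega) (Dn_mul' b h1 h2)

/-- the elements `z^q x^r`, indexed by `s = p q + r`. -/
noncomputable def Em (s : ι →₀ ℕ) : UL :=
  Zl b p y (SLs (qd p s)) * mon b (SLs (rm p s))

omit hpf [CharP k p] in
lemma Em_of_lt {s : ι →₀ ℕ} (h : ∀ a, s a < p) : Em b p y s = mon b (SLs s) := by
  unfold Em
  rw [qd_eq_zero p h, rm_eq_self p h]
  have : SLs (0 : ι →₀ ℕ) = [] := by
    apply List.eq_nil_of_length_eq_zero
    rw [length_SLs]
    simp [deg]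
  rw [this, Zl_nil, one_mul]

include hpf in
theorem Em_sub_mem (s : ι →₀ ℕ) : Em b p y s - BU b s ∈ Fl (BU b) deg (deg s) := by
  classical
  apply Dn_le_Fl b (deg s)
  set lq := SLs (qd p s) with hlq
  set lr := SLs (rm p s) with hlr
  set Wq := lq.flatMap (List.replicate p) with hWq
  have hperm : (Wq ++ lr).Perm (SLs s) := by
    rw [List.perm_iff_count]
    intro a
    rw [List.count_append, hWq, count_flatMap_replicate, count_SLs, count_SLs, count_SLs,
      qd_apply, rm_apply]
    exact Nat.div_add_mod (s a) p
  have hlen : (Wq ++ lr).length = deg s := by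
    rw [hperm.length_eq, length_SLs]
  have hlen' : p * lq.length + lr.length = deg s := by
    rw [← hlen, List.length_append, hWq, length_flatMap_replicate]
  have e : Em b p y s - BU b s = (Zl b p y lq - mon b Wq) * mon b lr +
      (mon b (Wq ++ lr) - mon b (SLs s)) := by
    rw [BU_apply, mon_append]
    unfold Em
    noncomm_ring
  rw [e]
  refine Submodule.add_mem _ ?_ ?_
  · rw [← hlen']
    exact Dn_mul b (Zl_sub_mem b p y lq) (mon_mem_Dn b (Nat.lt_succ_self _))
  · have := PBWR.perm_sub_mem b hperm
    rwa [hlen] at this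

include hpf in
/-- **Restricted PBW, first form**: the elements `z^q x^r` form a basis of `U(L)`. -/
theorem exists_EB : ∃ B' : Module.Basis (ι →₀ ℕ) k UL, ∀ s, B' s = Em b p y s :=
  exists_basis_of_tri (BU b) deg (Em b p y) (Em_sub_mem b p y)

/-- the basis `z^q x^r` of `U(L)`. -/
noncomputable def EB : Module.Basis (ι →₀ ℕ) k UL := (exists_EB b p y).choose

lemma EB_apply (s : ι →₀ ℕ) : EB b p y s = Em b p y s := (exists_EB b p y).choose_spec s

end E

end Groth.Agent.Lib.Helper7.RPBW
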