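import Groth.Agent.Lib.Helper7.RPBW3
import Mathlib.RingTheory.TwoSidedIdeal.Basic
import Mathlib.RingTheory.Congruence.Hom

/-!
# Restricted PBW, part 4 (helper7): the quotient `u = U(L)/(b_i^p - y_i)`, its basis of
restricted monomials, injectivity of `L → u`, and the universal property.
-/

universe u v w

namespace Groth.Agent.Lib.Helper7.RPBW

open Groth.Agent.Lib.Helper7.PBWR

attribute [local instance] LieRing.ofAssociativeRing LieAlgebra.ofAssociativeAlgebra

section Quot

variable {k : Type u} [CommRing k] {L : Type v} [LieRing L] [LieAlgebra k L]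
  {ι : Type w} [LinearOrder ι] (b : Module.Basis ι k L)
  (p : ℕ) [hpf : Fact p.Prime] [CharP k p] (y : ι → L)
  (hy : ∀ i : ι, LieAlgebra.ad k L (b i) ^ p = LieAlgebra.ad k L (y i))

local notation "UL" => UniversalEnvelopingAlgebra k L

/-- the ideal `Σ z_i U` as a submodule. -/
def Msub : Submodule k UL := Submodule.span k {m | ∃ (i : ι) (u : UL), m = zc b p y i * u}

omit [LinearOrder ι] hpf [CharP k p] in
lemma Msub_mul_right {m : UL} (hm : m ∈ Msub b p y) (x : UL) : m * x ∈ Msub b p y := by
  induction hm using Submodule.span_induction with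
  | mem m h =>
    obtain ⟨i, u, rfl⟩ := h
    rw [mul_assoc]
    exact Submodule.subset_span ⟨i, _, rfl⟩
  | zero => rw [zero_mul]; exact Submodule.zero_mem _
  | add a c _ _ ha hc => rw [add_mul]; exact Submodule.add_mem _ ha hc
  | smul c a _ ha => rw [smul_mul_assoc]; exact Submodule.smul_mem _ c ha

omit [LinearOrder ι] in
include hpf hy in
lemma Msub_mul_left (x : UL) {m : UL} (hm : m ∈ Msub b p y) : x * m ∈ Msub b p y := by
  induction hm using Submodule.span_induction with
  | mem m h =>
    obtain ⟨i, u, rfl⟩ := h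
    rw [← mul_assoc, ← zc_comm b p y hy i x, mul_assoc]
    exact Submodule.subset_span ⟨i, _, rfl⟩
  | zero => rw [mul_zero]; exact Submodule.zero_mem _
  | add a c _ _ ha hc => rw [mul_add]; exact Submodule.add_mem _ ha hc
  | smul c a _ ha => rw [mul_smul_comm]; exact Submodule.smul_mem _ c ha

/-- the two-sided ideal generated by the central elements `b_i^p - y_i`. -/
def Mideal : TwoSidedIdeal UL :=
  TwoSidedIdeal.mk' (Msub b p y : Set UL) (Submodule.zero_mem _)
    (fun hx hy' => Submodule.add_mem _ hx hy') (fun hx => Submodule.neg_mem _ hx)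
    (fun h => Msub_mul_left b p y hy _ h) (fun h => Msub_mul_right b p y h _)

/-- the restricted quotient `u = U(L)/(b_i^p - y_i)`. -/
abbrev ru : Type (max u v) := (Mideal b p y hy).ringCon.Quotient

/-- the quotient map. -/
def πu : UL →ₐ[k] ru b p y hy := (Mideal b p y hy).ringCon.mkₐ k

omit [LinearOrder ι] in
lemma πu_surjective : Function.Surjective (πu b p y hy) :=
  RingCon.mkₐ_surjective _

omit [LinearOrder ι] in
lemma πu_eq_zero_iff (v : UL) : πu b p y hy v = 0 ↔ v ∈ Msub b p y := by
  have h1 : πu b p y hy v = 0 ↔ (Mideal b p y hy).ringCon v 0 := by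
    change ((v : UL) : (Mideal b p y hy).ringCon.Quotient) = ((0 : UL) : _) ↔ _
    exact RingCon.eq _
  rw [h1, ← TwoSidedIdeal.mem_iff]
  unfold Mideal
  rw [TwoSidedIdeal.mem_mk']
  rfl

omit [LinearOrder ι] in
lemma zc_mem_Msub (i : ι) : zc b p y i ∈ Msub b p y :=
  Submodule.subset_span ⟨i, 1, (mul_one _).symm⟩

omit [LinearOrder ι] in
lemma πu_zc (i : ι) : πu b p y hy (zc b p y i) = 0 :=
  (πu_eq_zero_iff b p y hy _).2 (zc_mem_Msub b p y i)

omit [LinearOrder ι] in
include hpf hy in
lemma Zl_perm {l₁ l₂ : List ι} (h : l₁.Perm l₂) : Zl b p y l₁ = Zl b p y l₂ := by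
  unfold Zl
  apply List.Perm.prod_eq' (h.map _)
  rw [List.pairwise_map]
  apply List.pairwise_of_forall
  intro i j
  exact zc_comm b p y hy i _

/-- exponent vectors with all entries `< p`. -/
def Tp (p : ℕ) (s : ι →₀ ℕ) : Prop := ∀ a, s a < p

include hpf hy in
lemma Em_mem_Msub {s : ι →₀ ℕ} (h : ¬ Tp p s) : Em b p y s ∈ Msub b p y := by
  classical
  unfold Tp at h
  push Not at h
  obtain ⟨a, ha⟩ := h
  have hq : 1 ≤ qd p s a := by
    rw [qd_apply]
    exact (Nat.one_le_div_iff hpf.out.pos).2 ha
  have hmem : a ∈ SLs (qd p s) := by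
    rw [← List.count_pos_iff, count_SLs]
    exact hq
  have hperm := List.perm_cons_erase hmem
  unfold Em
  rw [Zl_perm b p y hy hperm, Zl_cons, mul_assoc]
  exact Submodule.subset_span ⟨a, _, rfl⟩

omit hpf [CharP k p] in
lemma not_Tp_add (s : ι →₀ ℕ) (i : ι) : ¬ Tp p (s + p • Finsupp.single i 1) := by
  intro h
  have := h i
  rw [Finsupp.add_apply, Finsupp.smul_apply, Finsupp.single_eq_same, smul_eq_mul, mul_one] at this
  omega

include hpf hy in
lemma zc_mul_Em (i : ι) (s : ι →₀ ℕ) :
    zc b p y i * Em b p y s = Em b p y (s + p • Finsupp.single i 1) := by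
  classical
  have hp := hpf.out.pos
  have hq : qd p (s + p • Finsupp.single i 1) = qd p s + Finsupp.single i 1 := by
    ext a
    rw [qd_apply, Finsupp.add_apply, Finsupp.add_apply, Finsupp.smul_apply, smul_eq_mul, qd_apply,
      Nat.add_mul_div_left _ _ hp]
  have hr : rm p (s + p • Finsupp.single i 1) = rm p s := by
    ext a
    rw [rm_apply, Finsupp.add_apply, Finsupp.smul_apply, smul_eq_mul, rm_apply,
      Nat.add_mul_mod_self_left]
  have hperm : (i :: SLs (qd p s)).Perm (SLs (qd p s + Finsupp.single i 1)) := by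
    rw [List.perm_iff_count]
    intro a
    rw [List.count_cons, count_SLs, count_SLs, Finsupp.add_apply, Finsupp.single_apply]
    by_cases hia : i = a
    · subst hia; simp
    · have h' : (i == a) = false := by simpa using hia
      simp [h', hia]
  unfold Em
  rw [hq, hr, ← Zl_perm b p y hy hperm, Zl_cons, mul_assoc]

include hpf hy in
lemma Msub_le_span :
    Msub b p y ≤ Submodule.span k ((EB b p y) '' {s | ¬ Tp p s}) := by
  apply Submodule.span_le.2
  rintro _ ⟨i, u, rfl⟩
  have hu : u ∈ Submodule.span k (Set.range (EB b p y)) := by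
    rw [(EB b p y).span_eq]; exact Submodule.mem_top
  rw [SetLike.mem_coe]
  induction hu using Submodule.span_induction with
  | mem x hx =>
    obtain ⟨s, rfl⟩ := hx
    rw [EB_apply, zc_mul_Em b p y hy]
    exact Submodule.subset_span ⟨_, not_Tp_add p s i, EB_apply b p y _⟩
  | zero => rw [mul_zero]; exact Submodule.zero_mem _
  | add a c _ _ ha hc => rw [mul_add]; exact Submodule.add_mem _ ha hc
  | smul c a _ ha => rw [mul_smul_comm]; exact Submodule.smul_mem _ c ha

include hpf hy in
lemma repr_eq_zero_of_mem_Msub {m : UL} (hm : m ∈ Msub b p y) {r : ι →₀ ℕ} (hr : Tp p r) :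
    (EB b p y).repr m r = 0 := by
  classical
  have h := Msub_le_span b p y hy hm
  clear hm
  induction h using Submodule.span_induction with
  | mem x hx =>
    obtain ⟨s, hs, rfl⟩ := hx
    rw [Module.Basis.repr_self, Finsupp.single_apply, if_neg]
    rintro rfl
    exact hs hr
  | zero => simp
  | add a c _ _ ha hc => rw [map_add, Finsupp.add_apply, ha, hc, add_zero]
  | smul c a _ ha => rw [map_smul, Finsupp.smul_apply, ha, smul_zero]

/-- the restricted monomials in `u`. -/
noncomputable def um (s : {s : ι →₀ ℕ // Tp p s}) : ru b p y hy := πu b p y hy (Em b p y s.1)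

include hpf in
lemma linearIndependent_um : LinearIndependent k (um b p y hy) := by
  classical
  rw [linearIndependent_iff]
  intro l hl
  have h1 : Finsupp.linearCombination k (um b p y hy) l =
      πu b p y hy (Finsupp.linearCombination k (EB b p y) (l.mapDomain Subtype.val)) := by
    rw [Finsupp.linearCombination_mapDomain, Finsupp.linearCombination_apply,
      Finsupp.linearCombination_apply, Finsupp.sum, Finsupp.sum, map_sum]
    refine Finset.sum_congr rfl fun s _ => ?_
    rw [map_smul, Function.comp_apply, EB_apply]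
    rfl
  rw [h1, πu_eq_zero_iff] at hl
  ext r
  have h2 := repr_eq_zero_of_mem_Msub b p y hy hl r.2
  rw [Module.Basis.repr_linearCombination,
    Finsupp.mapDomain_apply Subtype.val_injective] at h2
  rw [h2]
  rfl

include hpf in
lemma span_um : ⊤ ≤ Submodule.span k (Set.range (um b p y hy)) := by
  rintro x -
  obtain ⟨v, rfl⟩ := πu_surjective b p y hy x
  have hv : v ∈ Submodule.span k (Set.range (EB b p y)) := by
    rw [(EB b p y).span_eq]; exact Submodule.mem_top
  induction hv using Submodule.span_induction with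
  | mem x hx =>
    obtain ⟨s, rfl⟩ := hx
    by_cases hs : Tp p s
    · exact Submodule.subset_span ⟨⟨s, hs⟩, by rw [EB_apply]; rfl⟩
    · rw [EB_apply, (πu_eq_zero_iff b p y hy _).2 (Em_mem_Msub b p y hy hs)]
      exact Submodule.zero_mem _
  | zero => rw [map_zero]; exact Submodule.zero_mem _
  | add a c _ _ ha hc => rw [map_add]; exact Submodule.add_mem _ ha hc
  | smul c a _ ha => rw [map_smul]; exact Submodule.smul_mem _ c ha

/-- **Restricted PBW**: the restricted monomials form a basis of `u`. -/
noncomputable def uB : Module.Basis {s : ι →₀ ℕ // Tp p s} k (ru b p y hy) :=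
  Module.Basis.mk (linearIndependent_um b p y hy) (span_um b p y hy)

lemma uB_apply (s : {s : ι →₀ ℕ // Tp p s}) :
    uB b p y hy s = πu b p y hy (mon b (SLs s.1)) := by
  unfold uB
  rw [Module.Basis.mk_apply]
  unfold um
  rw [Em_of_lt b p y s.2]

/-- the canonical map `L → u`. -/
noncomputable def ιu : L →ₗ[k] ru b p y hy := (πu b p y hy).toLinearMap ∘ₗ ιL

omit [LinearOrder ι] in
lemma ιu_apply (x : L) : ιu b p y hy x = πu b p y hy (UniversalEnvelopingAlgebra.ι k x) := rfl

omit [LinearOrder ι] in
lemma ιu_lie (x z : L) :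
    ιu b p y hy ⁅x, z⁆ = ιu b p y hy x * ιu b p y hy z - ιu b p y hy z * ιu b p y hy x := by
  rw [ιu_apply, ιu_apply, ιu_apply, LieHom.map_lie, LieRing.of_associative_ring_bracket, map_sub,
    map_mul, map_mul]

omit [LinearOrder ι] in
lemma ιu_pow (i : ι) : ιu b p y hy (b i) ^ p = ιu b p y hy (y i) := by
  have h := πu_zc b p y hy i
  unfold zc at h
  rw [map_sub, map_pow, sub_eq_zero] at h
  exact h

lemma single_Tp (i : ι) : Tp p (Finsupp.single i 1) := by
  classical
  intro a
  rw [Finsupp.single_apply]
  have := hpf.out.two_le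
  split_ifs <;> omega

lemma ιu_basis (i : ι) : ιu b p y hy (b i) = uB b p y hy ⟨Finsupp.single i 1, single_Tp p i⟩ := by
  rw [uB_apply, ιu_apply]
  have h1 : SLs (Finsupp.single i 1) = [i] := by
    have h2 : sw [i] = Finsupp.single i 1 := by simp
    rw [← h2]
    exact SLs_sw (List.pairwise_singleton _ _).sortedLE
  rw [h1]
  simp [mon]

/-- **`L` embeds into `u`.** -/
theorem ιu_injective : Function.Injective (ιu b p y hy) := by
  classical
  have hli : LinearIndependent k (fun i => ιu b p y hy (b i)) := by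
    have h1 : (fun i => ιu b p y hy (b i)) = (uB b p y hy) ∘
        (fun i => (⟨Finsupp.single i 1, single_Tp p i⟩ : {s : ι →₀ ℕ // Tp p s})) := by
      funext i
      exact ιu_basis b p y hy i
    rw [h1]
    apply (uB b p y hy).linearIndependent.comp
    intro i j hij
    have := congrArg Subtype.val hij
    exact Finsupp.single_left_injective one_ne_zero this
  rw [injective_iff_map_eq_zero]
  intro x hx
  have h2 : x = Finsupp.linearCombination k b (b.repr x) := (b.linearCombination_repr x).symm
  rw [h2, LinearMap.map_finsupp_linearCombination] at hx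
  have h3 := (linearIndependent_iff.1 hli) (b.repr x) hx
  rw [h2, h3, map_zero]

omit [LinearOrder ι] in
lemma adjoin_range_ιu : Algebra.adjoin k (Set.range (ιu b p y hy)) = ⊤ := by
  have h1 : Set.range (ιu b p y hy) =
      (πu b p y hy) '' (Set.range (UniversalEnvelopingAlgebra.ι k (L := L))) := by
    ext x
    constructor
    · rintro ⟨z, rfl⟩
      exact ⟨_, ⟨z, rfl⟩, rfl⟩
    · rintro ⟨_, ⟨z, rfl⟩, rfl⟩
      exact ⟨z, rfl⟩
  rw [h1, ← AlgHom.map_adjoin, adjoin_range_ι, Algebra.map_top, AlgHom.range_eq_top]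
  exact πu_surjective b p y hy

omit [LinearOrder ι] in
/-- two algebra maps out of `u` agreeing on `L` are equal. -/
theorem ru_hom_ext {A : Type*} [Ring A] [Algebra k A] {f g : ru b p y hy →ₐ[k] A}
    (h : ∀ x, f (ιu b p y hy x) = g (ιu b p y hy x)) : f = g := by
  have h1 : f.comp (πu b p y hy) = g.comp (πu b p y hy) := by
    apply UniversalEnvelopingAlgebra.hom_ext
    ext x
    exact h x
  refine AlgHom.ext fun x => ?_
  obtain ⟨v, rfl⟩ := πu_surjective b p y hy x
  exact AlgHom.congr_fun h1 v

omit [LinearOrder ι] in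
/-- **Universal property of `u`.** -/
theorem exists_lift {A : Type*} [Ring A] [Algebra k A] (f : L →ₗ[k] A)
    (hf : ∀ x z, f ⁅x, z⁆ = f x * f z - f z * f x) (hfp : ∀ i, f (b i) ^ p = f (y i)) :
    ∃ F : ru b p y hy →ₐ[k] A, ∀ x, F (ιu b p y hy x) = f x := by
  let fl : L →ₗ⁅k⁆ A :=
    { f with
      map_lie' := by
        intro x z
        rw [LieRing.of_associative_ring_bracket]
        exact hf x z }
  have hfl : ∀ x, UniversalEnvelopingAlgebra.lift k fl (UniversalEnvelopingAlgebra.ι k x) = f x :=
    fun x => UniversalEnvelopingAlgebra.lift_ι_apply k fl x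
  have hkill : ∀ m ∈ Msub b p y, UniversalEnvelopingAlgebra.lift k fl m = 0 := by
    intro m hm
    induction hm using Submodule.span_induction with
    | mem m h =>
      obtain ⟨i, u, rfl⟩ := h
      unfold zc
      rw [map_mul, map_sub, map_pow, hfl, hfl, hfp, sub_self, zero_mul]
    | zero => exact map_zero _
    | add a c _ _ ha hc => rw [map_add, ha, hc, add_zero]
    | smul c a _ ha => rw [map_smul, ha, smul_zero]
  have H : (Mideal b p y hy).ringCon ≤
      RingCon.ker (UniversalEnvelopingAlgebra.lift k fl).toRingHom := by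
    intro x z hxz
    rw [RingCon.ker_apply]
    have h1 : x - z ∈ Mideal b p y hy := (TwoSidedIdeal.rel_iff _ x z).1 hxz
    unfold Mideal at h1
    rw [TwoSidedIdeal.mem_mk'] at h1
    have h2 := hkill _ h1
    rw [map_sub, sub_eq_zero] at h2
    exact h2
  refine ⟨RingCon.liftₐ _ (UniversalEnvelopingAlgebra.lift k fl) H, fun x => ?_⟩
  rw [ιu_apply]
  exact hfl x

end Quot

end Groth.Agent.Lib.Helper7.RPBW
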