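import Groth.Agent.Lib.Helper7.RPBW4
import Groth.Agent.Lib.Helper7.HopfGenAntipode

/-!
# The restricted enveloping algebra `u(L)` of a restricted Lie algebra over a field (helper7):
definition, universal property, Hopf algebra structure.
-/

universe u v w

open TensorProduct

namespace Groth.Agent.Lib.Helper7.RPBW

open Groth.Agent.Lib.Helper7.PBWR Groth.Agent.Lib.Helper2.PL

attribute [local instance] LieRing.ofAssociativeRing LieAlgebra.ofAssociativeAlgebra

section Char

/-- Freshman's dream for commuting elements of an algebra over a field of characteristic `p`. -/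
lemma add_pow_char_comm {k : Type u} [Field k] (p : ℕ) [hpf : Fact p.Prime] [CharP k p]
    {A : Type v} [Ring A] [Algebra k A] {a c : A} (h : Commute a c) :
    (a + c) ^ p = a ^ p + c ^ p := by
  rcases subsingleton_or_nontrivial A with hA | hA
  · exact Subsingleton.elim _ _
  · haveI : CharP A p := charP_of_injective_algebraMap' k p
    exact add_pow_char_of_commute p h

lemma neg_pow_char {k : Type u} [Field k] (p : ℕ) [hpf : Fact p.Prime] [CharP k p]
    {A : Type v} [Ring A] [Algebra k A] (a : A) : (-a) ^ p = -(a ^ p) := by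
  have hpA : ((p : ℕ) : A) = 0 := natCast_eq_zero_of_algebra k p A
  have h1 := neg_one_pow_pred p hpf.out hpA
  have hp1 : p - 1 + 1 = p := Nat.succ_pred_eq_of_pos hpf.out.pos
  rw [neg_pow, ← hp1, pow_succ (-1 : A), h1, hp1]
  simp

end Char

section Field

variable {k : Type u} [Field k] {L : Type v} [LieRing L] [LieAlgebra k L]
  {ι : Type w} [LinearOrder ι] (b : Module.Basis ι k L)
  (p : ℕ) [hpf : Fact p.Prime] [CharP k p] (φ : PLie.PMap k p L)

omit [LinearOrder ι] hpf in
lemma hyφ (i : ι) : LieAlgebra.ad k L (b i) ^ p = LieAlgebra.ad k L (φ (b i)) :=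
  (φ.ad_map (b i)).symm

/-- the restricted enveloping algebra. -/
abbrev RU : Type (max u v) := ru b p (fun i => φ (b i)) (hyφ b p φ)

/-- the canonical map `L → u(L)`. -/
noncomputable def ιR : L →ₗ[k] RU b p φ := ιu b p (fun i => φ (b i)) (hyφ b p φ)

omit [LinearOrder ι] in
lemma ιR_lie (x z : L) :
    ιR b p φ ⁅x, z⁆ = ιR b p φ x * ιR b p φ z - ιR b p φ z * ιR b p φ x :=
  ιu_lie b p _ _ x z

theorem ιR_injective : Function.Injective (ιR b p φ) := ιu_injective b p _ _

omit [LinearOrder ι] in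
/-- the `p`-map becomes the `p`-th power in `u(L)`. -/
theorem ιR_pmap (x : L) : ιR b p φ (φ x) = ιR b p φ x ^ p := by
  have hp := hpf.out
  have hx : x ∈ Submodule.span k (Set.range b) := by rw [b.span_eq]; trivial
  induction hx using Submodule.span_induction with
  | mem z hz =>
    obtain ⟨i, rfl⟩ := hz
    exact (ιu_pow b p _ (hyφ b p φ) i).symm
  | zero =>
    have h1 : φ (0 : L) = 0 := by
      have := φ.map_smul 0 0
      rw [zero_smul, zero_pow hp.ne_zero, zero_smul] at this
      exact this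
    rw [h1, map_zero, zero_pow hp.ne_zero]
  | add a c _ _ ha hc =>
    have h1 := φ.map_add a c
    rw [PLie.PMap.toFun_eq_coe] at h1
    rw [h1, map_sub, map_add, ha, hc, map_add, add_pow_char_eq k p,
      e_jacobson k p (ιR b p φ) (ιR_lie b p φ)]
  | smul c a _ ha =>
    have h1 := φ.map_smul c a
    rw [PLie.PMap.toFun_eq_coe] at h1
    rw [h1, map_smul, ha, map_smul, smul_pow]

omit [LinearOrder ι] in
theorem RU_hom_ext {A : Type*} [Ring A] [Algebra k A] {f g : RU b p φ →ₐ[k] A}
    (h : ∀ x, f (ιR b p φ x) = g (ιR b p φ x)) : f = g :=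
  ru_hom_ext b p _ _ h

omit [LinearOrder ι] in
theorem RU_exists_lift {A : Type*} [Ring A] [Algebra k A] (f : L →ₗ[k] A)
    (hf : ∀ x z, f ⁅x, z⁆ = f x * f z - f z * f x) (hfp : ∀ x, f (φ x) = f x ^ p) :
    ∃ F : RU b p φ →ₐ[k] A, ∀ x, F (ιR b p φ x) = f x :=
  exists_lift b p _ _ f hf (fun i => (hfp (b i)).symm)

omit [LinearOrder ι] in
lemma adjoin_range_ιR : Algebra.adjoin k (Set.range (ιR b p φ)) = ⊤ :=
  adjoin_range_ιu b p _ _

/-- universal lift. -/
noncomputable def RUlift {A : Type*} [Ring A] [Algebra k A] (f : L →ₗ[k] A)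
    (hf : ∀ x z, f ⁅x, z⁆ = f x * f z - f z * f x) (hfp : ∀ x, f (φ x) = f x ^ p) :
    RU b p φ →ₐ[k] A := (RU_exists_lift b p φ f hf hfp).choose

omit [LinearOrder ι] in
lemma RUlift_ι {A : Type*} [Ring A] [Algebra k A] (f : L →ₗ[k] A)
    (hf : ∀ x z, f ⁅x, z⁆ = f x * f z - f z * f x) (hfp : ∀ x, f (φ x) = f x ^ p) (x : L) :
    RUlift b p φ f hf hfp (ιR b p φ x) = f x :=
  (RU_exists_lift b p φ f hf hfp).choose_spec x

/-- the primitive coproduct on generators. -/
noncomputable def primMap : L →ₗ[k] RU b p φ ⊗[k] RU b p φ :=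
  (TensorProduct.mk k _ _).flip 1 ∘ₗ ιR b p φ + TensorProduct.mk k _ _ 1 ∘ₗ ιR b p φ

omit [LinearOrder ι] in
lemma primMap_apply (x : L) :
    primMap b p φ x = ιR b p φ x ⊗ₜ[k] 1 + 1 ⊗ₜ[k] ιR b p φ x := by
  simp [primMap]

omit [LinearOrder ι] in
lemma primMap_lie (x z : L) : primMap b p φ ⁅x, z⁆ =
    primMap b p φ x * primMap b p φ z - primMap b p φ z * primMap b p φ x := by
  simp only [primMap_apply, ιR_lie, add_mul, mul_add, Algebra.TensorProduct.tmul_mul_tmul,
    one_mul, mul_one, TensorProduct.sub_tmul, TensorProduct.tmul_sub]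
  abel

omit [LinearOrder ι] in
lemma primMap_pmap (x : L) : primMap b p φ (φ x) = primMap b p φ x ^ p := by
  rw [primMap_apply, primMap_apply, ιR_pmap]
  have hcomm : Commute (ιR b p φ x ⊗ₜ[k] (1 : RU b p φ)) ((1 : RU b p φ) ⊗ₜ[k] ιR b p φ x) := by
    change _ * _ = _ * _
    rw [Algebra.TensorProduct.tmul_mul_tmul, Algebra.TensorProduct.tmul_mul_tmul]
    simp only [mul_one, one_mul]
  rw [add_pow_char_comm (k := k) p hcomm, Algebra.TensorProduct.tmul_pow,
    Algebra.TensorProduct.tmul_pow, one_pow]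

/-- comultiplication. -/
noncomputable def comulR : RU b p φ →ₐ[k] RU b p φ ⊗[k] RU b p φ :=
  RUlift b p φ (primMap b p φ) (primMap_lie b p φ) (primMap_pmap b p φ)

omit [LinearOrder ι] in
lemma comulR_ι (x : L) :
    comulR b p φ (ιR b p φ x) = ιR b p φ x ⊗ₜ[k] 1 + 1 ⊗ₜ[k] ιR b p φ x := by
  unfold comulR
  rw [RUlift_ι, primMap_apply]

/-- counit. -/
noncomputable def counitR : RU b p φ →ₐ[k] k :=
  RUlift b p φ (0 : L →ₗ[k] k) (fun x z => by simp)
    (fun x => by simp [zero_pow hpf.out.ne_zero])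

omit [LinearOrder ι] in
lemma counitR_ι (x : L) : counitR b p φ (ιR b p φ x) = 0 := by
  unfold counitR
  rw [RUlift_ι]
  rfl

noncomputable instance instBialgebraRU : Bialgebra k (RU b p φ) :=
  Bialgebra.ofAlgHom (comulR b p φ) (counitR b p φ)
    (by
      apply RU_hom_ext
      intro x
      simp only [AlgHom.comp_apply, AlgEquiv.toAlgHom_eq_coe, AlgHom.coe_coe, comulR_ι, map_add,
        Algebra.TensorProduct.map_tmul, AlgHom.id_apply, map_one, Algebra.TensorProduct.one_def,
        TensorProduct.add_tmul, TensorProduct.tmul_add, Algebra.TensorProduct.assoc_tmul]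
      abel)
    (by
      apply RU_hom_ext
      intro x
      simp [comulR_ι, counitR_ι])
    (by
      apply RU_hom_ext
      intro x
      simp [comulR_ι, counitR_ι])

omit [LinearOrder ι] in
lemma comul_ιR (x : L) : Coalgebra.comul (R := k) (ιR b p φ x) =
    ιR b p φ x ⊗ₜ[k] 1 + 1 ⊗ₜ[k] ιR b p φ x := comulR_ι b p φ x

omit [LinearOrder ι] in
lemma counit_ιR (x : L) : Coalgebra.counit (R := k) (ιR b p φ x) = 0 := counitR_ι b p φ x

instance instIsCocommRU : Coalgebra.IsCocomm k (RU b p φ) where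
  comm_comp_comul := by
    have h : (Algebra.TensorProduct.comm k (RU b p φ) (RU b p φ)).toAlgHom.comp
        (Bialgebra.comulAlgHom k _) = Bialgebra.comulAlgHom k (RU b p φ) := by
      apply RU_hom_ext
      intro x
      simp only [AlgHom.comp_apply, Bialgebra.comulAlgHom_apply, comul_ιR, map_add]
      erw [Algebra.TensorProduct.comm_tmul, Algebra.TensorProduct.comm_tmul]
      abel
    exact congr(($h).toLinearMap)

end Field

end Groth.Agent.Lib.Helper7.RPBW
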