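import Groth.Agent.Lib.Helper7.RPBW5

/-!
# The restricted enveloping algebra `u(L)`: antipode, finiteness (helper7).
-/

universe u v w

open TensorProduct

namespace Groth.Agent.Lib.Helper7.RPBW

open Groth.Agent.Lib.Helper7.PBWR Groth.Agent.Lib.Helper2.PL

attribute [local instance] LieRing.ofAssociativeRing LieAlgebra.ofAssociativeAlgebra

section Field

variable {k : Type u} [Field k] {L : Type v} [LieRing L] [LieAlgebra k L]
  {ι : Type w} [LinearOrder ι] (b : Module.Basis ι k L)
  (p : ℕ) [hpf : Fact p.Prime] [CharP k p] (φ : PLie.PMap k p L)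

/-- `x ↦ op (-x)`. -/
noncomputable def SopMap : L →ₗ[k] (RU b p φ)ᵐᵒᵖ :=
  (MulOpposite.opLinearEquiv k).toLinearMap ∘ₗ (-(ιR b p φ))

omit [LinearOrder ι] in
lemma SopMap_apply (x : L) : SopMap b p φ x = MulOpposite.op (-(ιR b p φ x)) := rfl

omit [LinearOrder ι] in
lemma SopMap_lie (x z : L) : SopMap b p φ ⁅x, z⁆ =
    SopMap b p φ x * SopMap b p φ z - SopMap b p φ z * SopMap b p φ x := by
  simp only [SopMap_apply, ← MulOpposite.op_mul, ← MulOpposite.op_sub, ιR_lie]
  congr 1
  noncomm_ring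

omit [LinearOrder ι] in
lemma SopMap_pmap (x : L) : SopMap b p φ (φ x) = SopMap b p φ x ^ p := by
  simp only [SopMap_apply, ← MulOpposite.op_pow, ιR_pmap]
  congr 1
  exact (neg_pow_char (k := k) p _).symm

/-- the antipode as an algebra map to the opposite algebra. -/
noncomputable def Sop : RU b p φ →ₐ[k] (RU b p φ)ᵐᵒᵖ :=
  RUlift b p φ (SopMap b p φ) (SopMap_lie b p φ) (SopMap_pmap b p φ)

/-- the antipode. -/
noncomputable def Santi : RU b p φ →ₗ[k] RU b p φ :=
  (MulOpposite.opLinearEquiv k).symm.toLinearMap ∘ₗ (Sop b p φ).toLinearMap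

omit [LinearOrder ι] in
lemma Santi_apply (v : RU b p φ) : Santi b p φ v = MulOpposite.unop (Sop b p φ v) := rfl

omit [LinearOrder ι] in
lemma Santi_mul (a c : RU b p φ) : Santi b p φ (a * c) = Santi b p φ c * Santi b p φ a := by
  rw [Santi_apply, Santi_apply, Santi_apply, map_mul, MulOpposite.unop_mul]

omit [LinearOrder ι] in
lemma Santi_one : Santi b p φ 1 = 1 := by
  rw [Santi_apply, map_one, MulOpposite.unop_one]

omit [LinearOrder ι] in
lemma Santi_ι (x : L) : Santi b p φ (ιR b p φ x) = -(ιR b p φ x) := by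
  rw [Santi_apply]
  unfold Sop
  rw [RUlift_ι, SopMap_apply, MulOpposite.unop_op]

omit [LinearOrder ι] in
lemma antipode_axioms :
    (LinearMap.mul' k (RU b p φ) ∘ₗ (Santi b p φ).rTensor (RU b p φ) ∘ₗ Coalgebra.comul =
      (Algebra.linearMap k (RU b p φ)) ∘ₗ Coalgebra.counit) ∧
    (LinearMap.mul' k (RU b p φ) ∘ₗ (Santi b p φ).lTensor (RU b p φ) ∘ₗ Coalgebra.comul =
      (Algebra.linearMap k (RU b p φ)) ∘ₗ Coalgebra.counit) := by
  apply HopfGenAntipode.antipode_axioms_of_generators (Santi b p φ) (Santi_mul b p φ)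
    (Santi_one b p φ) (Set.range (ιR b p φ)) (adjoin_range_ιR b p φ)
  · rintro _ ⟨x, rfl⟩
    rw [comul_ιR, counit_ιR, map_add, LinearMap.rTensor_tmul, LinearMap.rTensor_tmul, map_add,
      LinearMap.mul'_apply, LinearMap.mul'_apply, Santi_ι, Santi_one, map_zero]
    simp
  · rintro _ ⟨x, rfl⟩
    rw [comul_ιR, counit_ιR, map_add, LinearMap.lTensor_tmul, LinearMap.lTensor_tmul, map_add,
      LinearMap.mul'_apply, LinearMap.mul'_apply, Santi_ι, Santi_one, map_zero]
    simp

noncomputable instance instHopfAlgebraRU : HopfAlgebra k (RU b p φ) where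
  antipode := Santi b p φ
  mul_antipode_rTensor_comul := (antipode_axioms b p φ).1
  mul_antipode_lTensor_comul := (antipode_axioms b p φ).2

omit hpf [CharP k p] in
lemma finite_Tp [Finite ι] : Finite {s : ι →₀ ℕ // Tp p s} := by
  apply Finite.of_injective (fun s : {s : ι →₀ ℕ // Tp p s} => fun a => (⟨s.1 a, s.2 a⟩ : Fin p))
  intro s t hst
  apply Subtype.ext
  ext a
  have := congrFun hst a
  exact Fin.mk.inj_iff.1 this

instance instFiniteRU [Finite ι] : Module.Finite k (RU b p φ) := by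
  haveI := finite_Tp (ι := ι) p
  exact Module.Finite.of_basis (uB b p (fun i => φ (b i)) (hyφ b p φ))

end Field

end Groth.Agent.Lib.Helper7.RPBW
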