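import Groth.Agent.Lib.Helper7.RPBW6
import Groth.Agent.Lib.Helper7.CMM5

/-!
# Primitive elements of the restricted enveloping algebra are exactly `L` (helper7).
-/

universe u v w

open TensorProduct

namespace Groth.Agent.Lib.Helper7.RPBW

open Groth.Agent.Lib.Helper7.PBWR Groth.Agent.Lib.Helper2.PL

attribute [local instance] LieRing.ofAssociativeRing LieAlgebra.ofAssociativeAlgebra

section Lists

variable {ι : Type w} [LinearOrder ι]

lemma cons_erase_of_sorted {i : ι} {l : List ι} (hl : l.Pairwise (· ≤ ·)) (hi : ∀ a ∈ l, i ≤ a)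
    (hmem : i ∈ l) : i :: l.erase i = l := by
  cases l with
  | nil => simp at hmem
  | cons h t =>
    by_cases hh : h = i
    · subst hh
      rw [List.erase_cons_head]
    · exfalso
      rw [List.pairwise_cons] at hl
      have h1 : i ∈ t := by
        rcases List.mem_cons.1 hmem with h2 | h2
        · exact absurd h2.symm hh
        · exact h2
      have h2 := hl.1 i h1
      have h3 := hi h List.mem_cons_self
      exact hh (le_antisymm h2 h3)

lemma sw_erase (l : List ι) (i : ι) : sw (l.erase i) = sw l - Finsupp.single i 1 := by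
  ext a
  rw [sw_apply, Finsupp.tsub_apply, sw_apply, Finsupp.single_apply, List.count_erase]
  by_cases h : i = a
  · subst h; simp
  · have h' : (i == a) = false := by simpa using h
    simp [h', h]

lemma sw_eq_single_iff (j i : ι) (l : List ι) :
    sw (j :: l) = Finsupp.single i 1 ↔ j = i ∧ l = [] := by
  constructor
  · intro h
    have hlen : (j :: l).length = 1 := by
      rw [length_eq_deg_sw, h, deg_single]
    have hl : l = [] := by
      apply List.eq_nil_of_length_eq_zero
      rw [List.length_cons] at hlen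
      omega
    subst hl
    refine ⟨?_, rfl⟩
    rw [sw_cons, sw_nil, add_zero] at h
    exact Finsupp.single_left_injective one_ne_zero h
  · rintro ⟨rfl, rfl⟩
    simp

end Lists

section Prim

variable {k : Type u} [Field k] {L : Type v} [LieRing L] [LieAlgebra k L]
  {ι : Type w} [LinearOrder ι] (b : Module.Basis ι k L)
  (p : ℕ) [hpf : Fact p.Prime] [CharP k p] (φ : PLie.PMap k p L)

/-- the basis of restricted monomials of `u(L)`. -/
noncomputable def RB : Module.Basis {s : ι →₀ ℕ // Tp p s} k (RU b p φ) :=
  uB b p (fun i => φ (b i)) (hyφ b p φ)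

/-- generators. -/
noncomputable def Xg (i : ι) : RU b p φ := ιR b p φ (b i)

/-- monomials. -/
noncomputable def monu (l : List ι) : RU b p φ := (l.map (Xg b p φ)).prod

omit [LinearOrder ι] in
lemma monu_nil : monu b p φ [] = 1 := rfl

omit [LinearOrder ι] in
lemma monu_cons (j : ι) (l : List ι) : monu b p φ (j :: l) = Xg b p φ j * monu b p φ l := by
  simp [monu]

omit [LinearOrder ι] in
lemma πu_mon (l : List ι) :
    πu b p (fun i => φ (b i)) (hyφ b p φ) (mon b l) = monu b p φ l := by
  unfold mon monu
  rw [map_list_prod, List.map_map]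
  rfl

lemma RB_eq_monu (s : {s : ι →₀ ℕ // Tp p s}) : RB b p φ s = monu b p φ (SLs s.1) := by
  unfold RB
  rw [uB_apply, πu_mon]

lemma monu_eq_RB {l : List ι} (hl : l.Pairwise (· ≤ ·)) (hT : Tp p (sw l)) :
    monu b p φ l = RB b p φ ⟨sw l, hT⟩ := by
  rw [RB_eq_monu, SLs_sw hl.sortedLE]

omit hpf [CharP k p] in
lemma Tp_sublist {l l' : List ι} (h : List.Sublist l' l) (hT : Tp p (sw l)) : Tp p (sw l') := by
  classical
  intro a
  rw [sw_apply]
  have := hT a
  rw [sw_apply] at this
  exact lt_of_le_of_lt (h.count_le a) this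

omit [LinearOrder ι] in
lemma comul_Xg (i : ι) : Coalgebra.comul (R := k) (Xg b p φ i) =
    Xg b p φ i ⊗ₜ[k] 1 + 1 ⊗ₜ[k] Xg b p φ i := comul_ιR b p φ (b i)

omit [LinearOrder ι] in
lemma counit_Xg (i : ι) : Coalgebra.counit (R := k) (Xg b p φ i) = 0 := counit_ιR b p φ (b i)

omit [LinearOrder ι] in
lemma counit_monu (l : List ι) :
    Coalgebra.counit (R := k) (monu b p φ l) = if l = [] then 1 else 0 := by
  cases l with
  | nil => simp [monu_nil]
  | cons j l => rw [monu_cons, Bialgebra.counit_mul, counit_Xg, zero_mul]; simp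

omit [LinearOrder ι] in
lemma comul_monu_mem (l : List ι) : Coalgebra.comul (R := k) (monu b p φ l) ∈
    Submodule.span k {t | ∃ l1 l2 : List ι, List.Sublist l1 l ∧ List.Sublist l2 l ∧
      t = monu b p φ l1 ⊗ₜ[k] monu b p φ l2} := by
  induction l with
  | nil =>
    rw [monu_nil, Bialgebra.comul_one]
    exact Submodule.subset_span ⟨[], [], List.Sublist.refl _, List.Sublist.refl _, rfl⟩
  | cons j l ih =>
    rw [monu_cons, Bialgebra.comul_mul, comul_Xg]
    generalize Coalgebra.comul (R := k) (monu b p φ l) = T at ih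
    induction ih using Submodule.span_induction with
    | mem t ht =>
      obtain ⟨l1, l2, h1, h2, rfl⟩ := ht
      rw [add_mul, Algebra.TensorProduct.tmul_mul_tmul, Algebra.TensorProduct.tmul_mul_tmul,
        one_mul, one_mul, ← monu_cons, ← monu_cons]
      refine Submodule.add_mem _ ?_ ?_
      · exact Submodule.subset_span ⟨j :: l1, l2, h1.cons_cons j, h2.cons j, rfl⟩
      · exact Submodule.subset_span ⟨l1, j :: l2, h1.cons j, h2.cons_cons j, rfl⟩
    | zero => rw [mul_zero]; exact Submodule.zero_mem _
    | add x y _ _ hx hy => rw [mul_add]; exact Submodule.add_mem _ hx hy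
    | smul c x _ hx => rw [mul_smul_comm]; exact Submodule.smul_mem _ c hx

/-- the coordinate functional of `b_i`. -/
noncomputable def lam (i : ι) : RU b p φ →ₗ[k] k :=
  (RB b p φ).coord ⟨Finsupp.single i 1, single_Tp p i⟩

lemma lam_RB (i : ι) (s : {s : ι →₀ ℕ // Tp p s}) :
    lam b p φ i (RB b p φ s) = if s.1 = Finsupp.single i 1 then 1 else 0 := by
  classical
  unfold lam
  rw [Module.Basis.coord_apply, Module.Basis.repr_self, Finsupp.single_apply]
  by_cases h : s.1 = Finsupp.single i 1
  · rw [if_pos h, if_pos (Subtype.ext h)]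
  · rw [if_neg h, if_neg (fun h' => h (congrArg Subtype.val h'))]

omit [LinearOrder ι] [CharP k p] in
lemma zero_Tp : Tp p (0 : ι →₀ ℕ) := fun _ => hpf.out.pos

lemma one_eq_RB : (1 : RU b p φ) = RB b p φ ⟨0, zero_Tp p⟩ := by
  have h := monu_eq_RB b p φ (l := []) List.Pairwise.nil (by simpa using zero_Tp (ι := ι) p)
  rw [monu_nil] at h
  rw [h]
  rfl

lemma lam_one (i : ι) : lam b p φ i 1 = 0 := by
  rw [one_eq_RB, lam_RB, if_neg]
  intro h
  have := DFunLike.congr_fun h i
  simp at this

/-- "partial derivative" along `b_i`. -/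
noncomputable def Di (i : ι) : RU b p φ →ₗ[k] RU b p φ :=
  (TensorProduct.lid k (RU b p φ)).toLinearMap ∘ₗ (lam b p φ i).rTensor (RU b p φ) ∘ₗ
    Coalgebra.comul

omit [LinearOrder ι] hpf [CharP k p] in
lemma lid_rTensor_one_tmul_mul {H : Type*} [Ring H] [Algebra k H] (lam' : H →ₗ[k] k) (x : H)
    (t : H ⊗[k] H) :
    TensorProduct.lid k H (lam'.rTensor H ((1 ⊗ₜ[k] x) * t)) =
      x * TensorProduct.lid k H (lam'.rTensor H t) := by
  induction t using TensorProduct.induction_on with
  | zero => simp
  | tmul a c =>
    rw [Algebra.TensorProduct.tmul_mul_tmul, LinearMap.rTensor_tmul, LinearMap.rTensor_tmul,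
      TensorProduct.lid_tmul, TensorProduct.lid_tmul, one_mul, mul_smul_comm]
  | add t t' h h' => rw [mul_add, map_add, map_add, h, h', map_add, map_add, mul_add]

theorem Di_monu (i : ι) : ∀ (l : List ι), l.Pairwise (· ≤ ·) → Tp p (sw l) →
    Di b p φ i (monu b p φ l) = (l.count i) • monu b p φ (l.erase i) := by
  classical
  intro l
  induction l with
  | nil =>
    intro _ _
    unfold Di
    rw [monu_nil, LinearMap.comp_apply, LinearMap.comp_apply, Bialgebra.comul_one,
      Algebra.TensorProduct.one_def, LinearMap.rTensor_tmul, lam_one]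
    simp
  | cons j l ih =>
    intro hl hT
    rw [List.pairwise_cons] at hl
    have hTl : Tp p (sw l) := Tp_sublist p (List.sublist_cons_self j l) hT
    have ih' := ih hl.2 hTl
    have hA : ∀ t ∈ Submodule.span k {t | ∃ l1 l2 : List ι, List.Sublist l1 l ∧ List.Sublist l2 l ∧
        t = monu b p φ l1 ⊗ₜ[k] monu b p φ l2},
        TensorProduct.lid k (RU b p φ) ((lam b p φ i).rTensor (RU b p φ)
          ((Xg b p φ j ⊗ₜ[k] 1) * t)) =
        (if j = i then (1 : k) else 0) • TensorProduct.lid k (RU b p φ)
          ((Coalgebra.counit (R := k) (A := RU b p φ)).rTensor (RU b p φ) t) := by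
      intro t ht
      induction ht using Submodule.span_induction with
      | mem t ht =>
        obtain ⟨l1, l2, h1, h2, rfl⟩ := ht
        rw [Algebra.TensorProduct.tmul_mul_tmul, one_mul, ← monu_cons, LinearMap.rTensor_tmul,
          LinearMap.rTensor_tmul, TensorProduct.lid_tmul, TensorProduct.lid_tmul, counit_monu]
        have hs1 : (j :: l1).Pairwise (· ≤ ·) := by
          rw [List.pairwise_cons]
          exact ⟨fun a ha => hl.1 a (h1.subset ha), hl.2.sublist h1⟩
        have hT1 : Tp p (sw (j :: l1)) := Tp_sublist p (h1.cons_cons j) hT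
        rw [monu_eq_RB b p φ hs1 hT1, lam_RB]
        simp only
        by_cases hji : j = i
        · by_cases hl1 : l1 = []
          · rw [if_pos ((sw_eq_single_iff j i l1).2 ⟨hji, hl1⟩), if_pos hji, if_pos hl1, one_smul,
              one_smul]
          · rw [if_neg (fun h => hl1 ((sw_eq_single_iff j i l1).1 h).2), if_neg hl1, zero_smul,
              smul_zero]
        · rw [if_neg (fun h => hji ((sw_eq_single_iff j i l1).1 h).1), if_neg hji, zero_smul,
            zero_smul]
      | zero => simp
      | add x y _ _ hx hy => rw [mul_add, map_add, map_add, hx, hy, map_add, map_add, smul_add]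
      | smul c x _ hx =>
        rw [mul_smul_comm, map_smul, map_smul, hx, map_smul, map_smul, smul_comm]
    have hmain : Di b p φ i (monu b p φ (j :: l)) =
        (if j = i then (1 : k) else 0) • monu b p φ l +
          Xg b p φ j * Di b p φ i (monu b p φ l) := by
      have hDi : ∀ w, Di b p φ i w = TensorProduct.lid k (RU b p φ)
          ((lam b p φ i).rTensor (RU b p φ) (Coalgebra.comul (R := k) w)) := fun w => rfl
      rw [hDi, hDi, monu_cons, Bialgebra.comul_mul, comul_Xg, add_mul, map_add, map_add,
        hA _ (comul_monu_mem b p φ l), lid_rTensor_one_tmul_mul,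
        Coalgebra.rTensor_counit_comul, TensorProduct.lid_tmul, one_smul]
    rw [hmain, ih']
    by_cases hji : j = i
    · subst hji
      rw [if_pos rfl, one_smul, List.count_cons_self, List.erase_cons_head, mul_smul_comm,
        ← monu_cons]
      by_cases hc : l.count j = 0
      · rw [hc, zero_smul, add_zero, zero_add, one_smul]
      · have hmem : j ∈ l := List.count_pos_iff.1 (Nat.pos_of_ne_zero hc)
        rw [cons_erase_of_sorted hl.2 hl.1 hmem, add_comm, succ_nsmul]
    · rw [if_neg hji, zero_smul, zero_add, List.count_cons_of_ne hji, mul_smul_comm, ← monu_cons]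
      have : (j :: l).erase i = j :: l.erase i := by
        rw [List.erase_cons_tail]
        simpa using hji
      rw [this]

end Prim

end Groth.Agent.Lib.Helper7.RPBW
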