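import Groth.Agent.Lib.Helper7.RPBW7

/-!
# Primitive elements of the restricted enveloping algebra are exactly `L`, part 2 (helper7).
-/

universe u v w

open TensorProduct

namespace Groth.Agent.Lib.Helper7.RPBW

open Groth.Agent.Lib.Helper7.PBWR Groth.Agent.Lib.Helper2.PL

attribute [local instance] LieRing.ofAssociativeRing LieAlgebra.ofAssociativeAlgebra

section Prim

variable {k : Type u} [Field k] {L : Type v} [LieRing L] [LieAlgebra k L]
  {ι : Type w} [LinearOrder ι] (b : Module.Basis ι k L)
  (p : ℕ) [hpf : Fact p.Prime] [CharP k p] (φ : PLie.PMap k p L)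

omit hpf [CharP k p] [LinearOrder ι] in
lemma Tp_sub {s : ι →₀ ℕ} (hs : Tp p s) (i : ι) : Tp p (s - Finsupp.single i 1) := by
  intro a
  rw [Finsupp.tsub_apply]
  exact lt_of_le_of_lt (Nat.sub_le _ _) (hs a)

theorem Di_RB (i : ι) (s : {s : ι →₀ ℕ // Tp p s}) :
    Di b p φ i (RB b p φ s) =
      (s.1 i) • RB b p φ ⟨s.1 - Finsupp.single i 1, Tp_sub p s.2 i⟩ := by
  classical
  have hsorted := (SLs_sorted s.1).pairwise
  have hT : Tp p (sw (SLs s.1)) := by rw [sw_SLs]; exact s.2
  rw [RB_eq_monu, Di_monu b p φ i _ hsorted hT, count_SLs, RB_eq_monu]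
  congr 2
  apply sw_injOn ((hsorted.sublist List.erase_sublist).sortedLE) (SLs_sorted _)
  rw [sw_erase, sw_SLs, sw_SLs]

lemma counit_RB (s : {s : ι →₀ ℕ // Tp p s}) :
    Coalgebra.counit (R := k) (RB b p φ s) = if s.1 = 0 then 1 else 0 := by
  rw [RB_eq_monu, counit_monu]
  by_cases h : s.1 = 0
  · rw [if_pos h, if_pos]
    apply List.eq_nil_of_length_eq_zero
    rw [length_SLs, h]
    simp [deg]
  · rw [if_neg h, if_neg]
    intro h'
    apply h
    have := sw_SLs s.1
    rw [h'] at this
    simpa using this.symm

/-- **Primitive elements of `u(L)` lie in `L`.** -/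
theorem prim_mem_range {v : RU b p φ}
    (hv : Coalgebra.comul (R := k) v = v ⊗ₜ[k] 1 + 1 ⊗ₜ[k] v) :
    v ∈ LinearMap.range (ιR b p φ) := by
  classical
  have hε : Coalgebra.counit (R := k) v = 0 := CMM.counit_eq_zero_of_prim hv
  have hDv : ∀ i, Di b p φ i v = lam b p φ i v • (1 : RU b p φ) := by
    intro i
    have hDi : Di b p φ i v = TensorProduct.lid k (RU b p φ)
        ((lam b p φ i).rTensor (RU b p φ) (Coalgebra.comul (R := k) v)) := rfl
    rw [hDi, hv, map_add, map_add, LinearMap.rTensor_tmul, LinearMap.rTensor_tmul,
      TensorProduct.lid_tmul, TensorProduct.lid_tmul, lam_one, zero_smul, add_zero]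
  have hcoef : ∀ s : {s : ι →₀ ℕ // Tp p s}, (RB b p φ).repr v s ≠ 0 →
      ∃ i, s.1 = Finsupp.single i 1 := by
    intro s hs
    by_contra hne
    push Not at hne
    by_cases h0 : s.1 = 0
    · -- coefficient at 0 is the counit
      have h1 : (Coalgebra.counit (R := k) : RU b p φ →ₗ[k] k) =
          (RB b p φ).coord s := by
        apply (RB b p φ).ext
        intro s'
        rw [counit_RB, Module.Basis.coord_apply, Module.Basis.repr_self, Finsupp.single_apply]
        by_cases h2 : s'.1 = 0
        · rw [if_pos h2, if_pos (Subtype.ext (h2.trans h0.symm))]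
        · rw [if_neg h2, if_neg (fun h3 => h2 ((congrArg Subtype.val h3).trans h0))]
      have h2 := LinearMap.congr_fun h1 v
      rw [Module.Basis.coord_apply] at h2
      exact hs (h2 ▸ hε)
    · obtain ⟨i, hi⟩ : ∃ i, s.1 i ≠ 0 := by
        by_contra hall
        push Not at hall
        exact h0 (Finsupp.ext hall)
      set r : {s : ι →₀ ℕ // Tp p s} := ⟨s.1 - Finsupp.single i 1, Tp_sub p s.2 i⟩ with hr
      have hle : Finsupp.single i 1 ≤ s.1 := by
        intro a
        rw [Finsupp.single_apply]
        split_ifs with h
        · subst h; omega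
        · exact Nat.zero_le _
      have hr0 : r.1 ≠ 0 := by
        intro h
        apply hne i
        have h3 : s.1 - Finsupp.single i 1 = 0 := h
        have := tsub_add_cancel_of_le hle
        rw [h3, zero_add] at this
        exact this.symm
      have hfun : (RB b p φ).coord r ∘ₗ Di b p φ i = ((s.1 i : ℕ) : k) • (RB b p φ).coord s := by
        apply (RB b p φ).ext
        intro s'
        rw [LinearMap.comp_apply, Di_RB, map_nsmul, Module.Basis.coord_apply,
          Module.Basis.repr_self, LinearMap.smul_apply, Module.Basis.coord_apply,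
          Module.Basis.repr_self, Finsupp.single_apply, Finsupp.single_apply]
        by_cases hss : s' = s
        · subst hss
          rw [if_pos rfl, if_pos rfl, nsmul_eq_mul, smul_eq_mul]
        · rw [if_neg hss, smul_zero]
          by_cases hs'i : s'.1 i = 0
          · rw [hs'i, zero_smul]
          · rw [if_neg, smul_zero]
            intro h
            apply hss
            have h4 : s'.1 - Finsupp.single i 1 = s.1 - Finsupp.single i 1 := congrArg Subtype.val h
            have hle' : Finsupp.single i 1 ≤ s'.1 := by
              intro a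
              rw [Finsupp.single_apply]
              split_ifs with h
              · subst h; omega
              · exact Nat.zero_le _
            apply Subtype.ext
            rw [← tsub_add_cancel_of_le hle', h4, tsub_add_cancel_of_le hle]
      have h5 := LinearMap.congr_fun hfun v
      rw [LinearMap.comp_apply, hDv, map_smul, one_eq_RB, Module.Basis.coord_apply,
        Module.Basis.repr_self, Finsupp.single_apply, if_neg, smul_zero, LinearMap.smul_apply,
        Module.Basis.coord_apply, smul_eq_mul] at h5
      · have h6 : ((s.1 i : ℕ) : k) ≠ 0 := by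
          intro h
          rw [CharP.cast_eq_zero_iff k p] at h
          have := Nat.le_of_dvd (Nat.pos_of_ne_zero hi) h
          have := s.2 i
          omega
        rcases mul_eq_zero.1 h5.symm with h | h
        · exact h6 h
        · exact hs h
      · intro h
        exact hr0 (congrArg Subtype.val h).symm
  have hsum : v = ∑ s ∈ ((RB b p φ).repr v).support, (RB b p φ).repr v s • RB b p φ s := by
    conv_lhs => rw [← (RB b p φ).linearCombination_repr v, Finsupp.linearCombination_apply,
      Finsupp.sum]
  rw [hsum]
  refine Submodule.sum_mem _ fun s hs => ?_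
  rw [Finsupp.mem_support_iff] at hs
  obtain ⟨i, hi⟩ := hcoef s hs
  refine Submodule.smul_mem _ _ ⟨b i, ?_⟩
  have h7 := ιu_basis b p (fun i => φ (b i)) (hyφ b p φ) i
  have h8 : s = ⟨Finsupp.single i 1, single_Tp p i⟩ := Subtype.ext hi
  rw [h8]
  exact h7

end Prim

end Groth.Agent.Lib.Helper7.RPBW
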