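import Mathlib.AlgebraicGeometry.Morphisms.FormallyUnramified
import Mathlib.AlgebraicGeometry.Morphisms.Separated
import Mathlib.AlgebraicGeometry.Morphisms.IsIso
import Mathlib.AlgebraicGeometry.Morphisms.Etale

set_option autoImplicit false

universe u

open CategoryTheory CategoryTheory.Limits AlgebraicGeometry

namespace Groth.Agent.Lib.Helper7.Rigidity

/-- Rigidity: two morphisms from a connected scheme to a separated unramified `Y`-scheme over `Y`
that agree on a nonempty test scheme are equal. -/
theorem eq_of_comp_eq_of_preconnected {X X' Y T : Scheme.{u}} [PreconnectedSpace X] (f : X' ⟶ Y)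
    [IsSeparated f] [FormallyUnramified f] [LocallyOfFiniteType f] (u v : X ⟶ X')
    (huv : u ≫ f = v ≫ f) (ξ : T ⟶ X) [Nonempty T] (hξ : ξ ≫ u = ξ ≫ v) : u = v := by
  let uv : X ⟶ pullback f f := pullback.lift u v huv
  let e : pullback uv (pullback.diagonal f) ⟶ X := pullback.fst uv (pullback.diagonal f)
  have ho : IsOpenImmersion e := inferInstance
  have hc : IsClosedImmersion e := inferInstance
  have hcond : ξ ≫ uv = (ξ ≫ u) ≫ pullback.diagonal f := by
    apply pullback.hom_ext
    · rw [Category.assoc, Category.assoc, pullback.lift_fst, pullback.diagonal_fst, Category.comp_id]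
    · rw [Category.assoc, Category.assoc, pullback.lift_snd, pullback.diagonal_snd, Category.comp_id,
        hξ]
  let l : T ⟶ pullback uv (pullback.diagonal f) := pullback.lift ξ (ξ ≫ u) hcond
  have hclopen : IsClopen (Set.range e.base) :=
    ⟨e.isClosedEmbedding.isClosed_range, e.isOpenEmbedding.isOpen_range⟩
  have hne : (Set.range e.base).Nonempty := by
    obtain ⟨t⟩ := ‹Nonempty T›
    exact ⟨e.base (l.base t), ⟨_, rfl⟩⟩
  have hsurj : Surjective e := ⟨Set.range_eq_univ.mp (hclopen.eq_univ hne)⟩
  have hiso : IsIso e := (isIso_iff_isOpenImmersion_and_surjective e).mpr ⟨ho, hsurj⟩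
  have h1 : e ≫ u = pullback.snd uv (pullback.diagonal f) := by
    have := congrArg (· ≫ pullback.fst f f) (pullback.condition (f := uv) (g := pullback.diagonal f))
    simp only [Category.assoc, pullback.lift_fst, pullback.diagonal_fst, Category.comp_id, uv] at this
    exact this
  have h2 : e ≫ v = pullback.snd uv (pullback.diagonal f) := by
    have := congrArg (· ≫ pullback.snd f f) (pullback.condition (f := uv) (g := pullback.diagonal f))
    simp only [Category.assoc, pullback.lift_snd, pullback.diagonal_snd, Category.comp_id, uv] at this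
    exact this
  rw [← cancel_epi e, h1, h2]

end Groth.Agent.Lib.Helper7.Rigidity
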