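import Mathlib
import Groth.Agent.Lib.Helper7.Rosen3
import Groth.Agent.Lib.Helper7.InvFrac1
import Groth.Agent.Lib.Helper5.GeomIrredAlgClosed

/-!
# Rosenlicht's unit lemma for schemes: evaluation of sections on affine charts (helper7)
-/

universe u

open CategoryTheory Limits AlgebraicGeometry TensorProduct

namespace Groth.Agent.Lib.Helper7.RosSch

/-- evaluation of global sections along a morphism from an affine scheme -/
noncomputable def ev {Z : Scheme.{u}} {T : CommRingCat.{u}} (a : Spec T ⟶ Z) : Γ(Z, ⊤) →+* T :=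
  (Scheme.ΓSpecIso T).hom.hom.comp a.appTop.hom

lemma ev_apply {Z : Scheme.{u}} {T : CommRingCat.{u}} (a : Spec T ⟶ Z) (f : Γ(Z, ⊤)) :
    ev a f = (Scheme.ΓSpecIso T).hom (a.appTop f) := rfl

lemma ev_comp {Z Z' : Scheme.{u}} {T : CommRingCat.{u}} (a : Spec T ⟶ Z) (b : Z ⟶ Z')
    (f : Γ(Z', ⊤)) : ev (a ≫ b) f = ev a (b.appTop f) := by
  simp [ev_apply]

lemma ev_specMap_comp {Z : Scheme.{u}} {T T' : CommRingCat.{u}} (ψ : T ⟶ T') (a : Spec T ⟶ Z)
    (f : Γ(Z, ⊤)) : ev (Spec.map ψ ≫ a) f = ψ (ev a f) := by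
  rw [ev_comp, ev_apply, ev_apply]
  have h := Scheme.ΓSpecIso_naturality ψ
  have h2 := ConcreteCategory.congr_hom h (a.appTop f)
  exact h2

lemma ev_injective {Z : Scheme.{u}} {T : CommRingCat.{u}} (a : Spec T ⟶ Z)
    [IsSchemeTheoreticallyDominant a] [QuasiCompact a] : Function.Injective (ev a) := by
  intro f g h
  have h1 : (Scheme.ΓSpecIso T).hom (a.appTop f) = (Scheme.ΓSpecIso T).hom (a.appTop g) := h
  have h2 : a.appTop f = a.appTop g := by
    have := congrArg (Scheme.ΓSpecIso T).inv h1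
    simpa using this
  exact a.app_injective ⊤ h2

end Groth.Agent.Lib.Helper7.RosSch
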