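import Groth.Agent.Lib.Helper7.RosSch1

/-!
# Rosenlicht's unit lemma for schemes: the affine chart of a product (helper7)
-/

universe u

open CategoryTheory Limits AlgebraicGeometry TensorProduct

namespace Groth.Agent.Lib.Helper7.RosSch

section Chart

variable {k : Type u} [Field k] {X Y : Scheme.{u}} (fX : X ⟶ Spec (.of k)) (fY : Y ⟶ Spec (.of k))
  {R S : Type u} [CommRing R] [CommRing S] [Algebra k R] [Algebra k S]
  (ιU : Spec (.of R) ⟶ X) (ιV : Spec (.of S) ⟶ Y)
  (hU : ιU ≫ fX = Spec.map (CommRingCat.ofHom (algebraMap k R)))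
  (hV : ιV ≫ fY = Spec.map (CommRingCat.ofHom (algebraMap k S)))

/-- the chart `Spec (R ⊗ S) ⟶ X ×ₖ Y`. -/
noncomputable def chart : Spec (.of (R ⊗[k] S)) ⟶ pullback fX fY :=
  (pullbackSpecIso k R S).inv ≫
    pullback.map _ _ fX fY ιU ιV (𝟙 _) (by rw [Category.comp_id, hU]) (by rw [Category.comp_id, hV])

lemma chart_fst : chart fX fY ιU ιV hU hV ≫ pullback.fst fX fY =
    Spec.map (CommRingCat.ofHom (Algebra.TensorProduct.includeLeftRingHom : R →+* R ⊗[k] S)) ≫ ιU := by
  rw [chart, Category.assoc, pullback.lift_fst, ← Category.assoc, pullbackSpecIso_inv_fst]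

lemma chart_snd : chart fX fY ιU ιV hU hV ≫ pullback.snd fX fY =
    Spec.map (CommRingCat.ofHom
      (Algebra.TensorProduct.includeRight : S →ₐ[k] R ⊗[k] S).toRingHom) ≫ ιV := by
  rw [chart, Category.assoc, pullback.lift_snd, ← Category.assoc, pullbackSpecIso_inv_snd]
  rfl

instance [IsOpenImmersion ιU] [IsOpenImmersion ιV] : IsOpenImmersion (chart fX fY ιU ιV hU hV) := by
  unfold chart
  infer_instance

end Chart

section Main

variable {k : Type u} [Field k] {X Y : Scheme.{u}} (fX : X ⟶ Spec (.of k)) (fY : Y ⟶ Spec (.of k))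
  {R S : Type u} [CommRing R] [CommRing S] [Algebra k R] [Algebra k S]
  (ιU : Spec (.of R) ⟶ X) (ιV : Spec (.of S) ⟶ Y)
  (hU : ιU ≫ fX = Spec.map (CommRingCat.ofHom (algebraMap k R)))
  (hV : ιV ≫ fY = Spec.map (CommRingCat.ofHom (algebraMap k S)))
  (x₀ : R →ₐ[k] k) (y₀ : S →ₐ[k] k)

/-- the `k`-point of `X` given by a `k`-point of the affine chart. -/
noncomputable def ptOf : Spec (.of k) ⟶ X := Spec.map (CommRingCat.ofHom x₀.toRingHom) ≫ ιU

include hU in
lemma ptOf_comp : ptOf ιU x₀ ≫ fX = 𝟙 _ := by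
  rw [ptOf, Category.assoc, hU, ← Spec.map_comp, ← CommRingCat.ofHom_comp]
  have : x₀.toRingHom.comp (algebraMap k R) = RingHom.id k := by
    ext c
    simp
  rw [this]
  exact Spec.map_id _

/-- the section `X ⟶ X ×ₖ Y`, `x ↦ (x, y₀)`. -/
noncomputable def secY : X ⟶ pullback fX fY :=
  pullback.lift (𝟙 X) (fX ≫ ptOf ιV y₀)
    (by rw [Category.assoc, ptOf_comp fY ιV hV y₀, Category.comp_id, Category.id_comp])

/-- the section `Y ⟶ X ×ₖ Y`, `y ↦ (x₀, y)`. -/
noncomputable def secX : Y ⟶ pullback fX fY :=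
  pullback.lift (fY ≫ ptOf ιU x₀) (𝟙 Y)
    (by rw [Category.assoc, ptOf_comp fX ιU hU x₀, Category.comp_id, Category.id_comp])

/-- the point `(x₀, y₀)`. -/
noncomputable def pt : Spec (.of k) ⟶ pullback fX fY :=
  pullback.lift (ptOf ιU x₀) (ptOf ιV y₀)
    (by rw [ptOf_comp fX ιU hU x₀, ptOf_comp fY ιV hV y₀])

/-- `r ⊗ s ↦ y₀(s) r`. -/
noncomputable def eR : R ⊗[k] S →ₐ[k] R :=
  Algebra.TensorProduct.lift (AlgHom.id k R) ((Algebra.ofId k R).comp y₀) (fun _ _ => Commute.all _ _)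

/-- `r ⊗ s ↦ x₀(r) s`. -/
noncomputable def eS : R ⊗[k] S →ₐ[k] S :=
  Algebra.TensorProduct.lift ((Algebra.ofId k S).comp x₀) (AlgHom.id k S) (fun _ _ => Commute.all _ _)

/-- `r ⊗ s ↦ x₀(r) y₀(s)`. -/
noncomputable def e0 : R ⊗[k] S →ₐ[k] k :=
  Algebra.TensorProduct.lift x₀ y₀ (fun _ _ => Commute.all _ _)

lemma eR_tmul (r : R) (s : S) : eR y₀ (r ⊗ₜ[k] s) = r * algebraMap k R (y₀ s) := by
  simp [eR, Algebra.ofId_apply]

lemma eS_tmul (r : R) (s : S) : eS x₀ (r ⊗ₜ[k] s) = algebraMap k S (x₀ r) * s := by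
  simp [eS, Algebra.ofId_apply]

lemma e0_tmul (r : R) (s : S) : e0 x₀ y₀ (r ⊗ₜ[k] s) = x₀ r * y₀ s := by
  simp [e0]

lemma specMap_ofHom_comp {A B C : Type u} [CommRing A] [CommRing B] [CommRing C]
    (f : A →+* B) (g : B →+* C) :
    Spec.map (CommRingCat.ofHom g) ≫ Spec.map (CommRingCat.ofHom f) =
      Spec.map (CommRingCat.ofHom (g.comp f)) := by
  rw [← Spec.map_comp, ← CommRingCat.ofHom_comp]

lemma secY_chart : ιU ≫ secY fX fY ιV hV y₀ =
    Spec.map (CommRingCat.ofHom (eR (R := R) y₀).toRingHom) ≫ chart fX fY ιU ιV hU hV := by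
  apply pullback.hom_ext
  · rw [Category.assoc, Category.assoc, secY, pullback.lift_fst, Category.comp_id, chart_fst,
      ← Category.assoc, specMap_ofHom_comp]
    have : (eR (R := R) y₀).toRingHom.comp
        (Algebra.TensorProduct.includeLeftRingHom : R →+* R ⊗[k] S) = RingHom.id R := by
      ext r
      simp [eR_tmul]
    rw [this]
    change _ = Spec.map (𝟙 _) ≫ _
    rw [Spec.map_id, Category.id_comp]
  · rw [Category.assoc, Category.assoc, secY, pullback.lift_snd, chart_snd, ← Category.assoc ιU,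
      hU, ptOf, ← Category.assoc, ← Category.assoc, specMap_ofHom_comp, specMap_ofHom_comp]
    congr 3
    ext s
    simp [eR_tmul, Algebra.TensorProduct.includeRight_apply]

lemma secX_chart : ιV ≫ secX fX fY ιU hU x₀ =
    Spec.map (CommRingCat.ofHom (eS (S := S) x₀).toRingHom) ≫ chart fX fY ιU ιV hU hV := by
  apply pullback.hom_ext
  · rw [Category.assoc, Category.assoc, secX, pullback.lift_fst, chart_fst, ← Category.assoc ιV,
      hV, ptOf, ← Category.assoc, ← Category.assoc, specMap_ofHom_comp, specMap_ofHom_comp]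
    congr 3
    ext r
    simp [eS_tmul]
  · rw [Category.assoc, Category.assoc, secX, pullback.lift_snd, Category.comp_id, chart_snd,
      ← Category.assoc, specMap_ofHom_comp]
    have : (eS (S := S) x₀).toRingHom.comp
        (Algebra.TensorProduct.includeRight : S →ₐ[k] R ⊗[k] S).toRingHom = RingHom.id S := by
      ext s
      simp [eS_tmul, Algebra.TensorProduct.includeRight_apply]
    rw [this]
    change _ = Spec.map (𝟙 _) ≫ _
    rw [Spec.map_id, Category.id_comp]

lemma pt_chart : pt fX fY ιU ιV hU hV x₀ y₀ =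
    Spec.map (CommRingCat.ofHom (e0 x₀ y₀).toRingHom) ≫ chart fX fY ιU ιV hU hV := by
  apply pullback.hom_ext
  · rw [Category.assoc, pt, pullback.lift_fst, chart_fst, ptOf, ← Category.assoc,
      specMap_ofHom_comp]
    congr 3
    ext r
    simp [e0_tmul]
  · rw [Category.assoc, pt, pullback.lift_snd, chart_snd, ptOf, ← Category.assoc,
      specMap_ofHom_comp]
    congr 3
    ext s
    simp [e0_tmul, Algebra.TensorProduct.includeRight_apply]

lemma chart_struct : chart fX fY ιU ιV hU hV ≫ pullback.fst fX fY ≫ fX =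
    Spec.map (CommRingCat.ofHom (algebraMap k (R ⊗[k] S))) := by
  rw [← Category.assoc, chart_fst, Category.assoc, hU, specMap_ofHom_comp]

variable [IsAlgClosed k] [IsDomain R] [IsDomain S] [Algebra.FiniteType k S]

/-- the key identity: a unit on `X ×ₖ Y` is, up to the constant `f(x₀,y₀)`, the product of its
restrictions to `X × y₀` and `x₀ × Y`. -/
theorem unit_eq_of_chart [IsSchemeTheoreticallyDominant (chart fX fY ιU ιV hU hV)]
    [QuasiCompact (chart fX fY ιU ιV hU hV)]
    (f : Γ(pullback fX fY, ⊤)) (hf : IsUnit f) :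
    f * (pullback.fst fX fY ≫ fX).appTop ((pt fX fY ιU ιV hU hV x₀ y₀).appTop f) =
      (pullback.fst fX fY).appTop ((secY fX fY ιV hV y₀).appTop f) *
        (pullback.snd fX fY).appTop ((secX fX fY ιU hU x₀).appTop f) := by
  apply ev_injective (chart fX fY ιU ιV hU hV)
  rw [map_mul, map_mul]
  set θ : R ⊗[k] S := ev (chart fX fY ιU ιV hU hV) f with hθdef
  have hθ : IsUnit θ := hf.map (ev (chart fX fY ιU ιV hU hV))
  have e1 : ev (chart fX fY ιU ιV hU hV)
      ((pullback.fst fX fY ≫ fX).appTop ((pt fX fY ιU ιV hU hV x₀ y₀).appTop f)) =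
      algebraMap k (R ⊗[k] S) (e0 x₀ y₀ θ) := by
    rw [← ev_comp, ← ev_comp, chart_struct, pt_chart, ev_specMap_comp,
      ev_specMap_comp]
    rfl
  have e2 : ev (chart fX fY ιU ιV hU hV)
      ((pullback.fst fX fY).appTop ((secY fX fY ιV hV y₀).appTop f)) =
      (Algebra.TensorProduct.includeLeftRingHom : R →+* R ⊗[k] S) (eR y₀ θ) := by
    rw [← ev_comp, ← ev_comp, chart_fst, Category.assoc, secY_chart fX fY ιU ιV hU hV,
      ev_specMap_comp, ev_specMap_comp]
    rfl
  have e3 : ev (chart fX fY ιU ιV hU hV)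
      ((pullback.snd fX fY).appTop ((secX fX fY ιU hU x₀).appTop f)) =
      (Algebra.TensorProduct.includeRight : S →ₐ[k] R ⊗[k] S) (eS x₀ θ) := by
    rw [← ev_comp, ← ev_comp, chart_snd, Category.assoc, secX_chart fX fY ιU ιV hU hV,
      ev_specMap_comp, ev_specMap_comp]
    rfl
  rw [e1, e2, e3]
  obtain ⟨r, s, hrs⟩ := Groth.Agent.Lib.Helper7.Rosen.exists_eq_tmul (k := k) θ hθ
  rw [hrs, e0_tmul, eR_tmul, eS_tmul, Algebra.TensorProduct.includeLeftRingHom_apply,
    Algebra.TensorProduct.includeRight_apply, Algebra.TensorProduct.tmul_mul_tmul, mul_one, one_mul,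
    Algebra.TensorProduct.algebraMap_apply, Algebra.TensorProduct.tmul_mul_tmul, mul_one,
    ← Algebra.commutes, ← Algebra.smul_def, ← Algebra.commutes (y₀ s) r, ← Algebra.smul_def,
    ← Algebra.smul_def, TensorProduct.tmul_smul, TensorProduct.smul_tmul', smul_smul, mul_comm]

end Main

end Groth.Agent.Lib.Helper7.RosSch
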