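import Groth.Agent.Lib.Helper7.RosSch2

/-!
# Rosenlicht's unit lemma for schemes: products of integral schemes (helper7)
-/

universe u

open CategoryTheory Limits AlgebraicGeometry TensorProduct

namespace Groth.Agent.Lib.Helper7.RosSch

variable {k : Type u} [Field k] [IsAlgClosed k]

lemma finiteType_of_spec {B : CommRingCat.{u}} (ψ : CommRingCat.of k ⟶ B)
    [LocallyOfFiniteType (Spec.map ψ)] : @Algebra.FiniteType k B _ _ ψ.hom.toAlgebra := by
  have h : RingHom.FiniteType ψ.hom :=
    (HasRingHomProperty.Spec_iff (P := @LocallyOfFiniteType)).mp ‹_›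
  exact h

lemma isReduced_pullback_affine {A B : CommRingCat.{u}} (a : Spec A ⟶ Spec (.of k))
    (b : Spec B ⟶ Spec (.of k)) [IsDomain A] [IsDomain B] [LocallyOfFiniteType b] :
    IsReduced (pullback a b) := by
  obtain ⟨φ, rfl⟩ := Spec.map_surjective a
  obtain ⟨ψ, rfl⟩ := Spec.map_surjective b
  letI := φ.hom.toAlgebra
  letI := ψ.hom.toAlgebra
  haveI hft : Algebra.FiniteType k B := finiteType_of_spec ψ
  haveI : IsDomain (A ⊗[k] B) := Groth.Agent.Lib.Helper7.InvFrac.isDomain_tensor
  have e : pullback (Spec.map φ) (Spec.map ψ) ≅ Spec (.of (A ⊗[k] B)) := pullbackSpecIso k A B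
  exact isReduced_of_isOpenImmersion e.hom

lemma isReduced_of_isEmpty (Z : Scheme.{u}) [IsEmpty Z] : IsReduced Z := by
  haveI : ∀ x : Z, _root_.IsReduced (Z.presheaf.stalk x) := fun x => (IsEmpty.false x).elim
  exact isReduced_of_isReduced_stalk Z

lemma isDomain_of_openImmersion {X : Scheme.{u}} [IsIntegral X] {A : CommRingCat.{u}}
    (ι : Spec A ⟶ X) [IsOpenImmersion ι] [Nonempty (Spec A)] : IsDomain A := by
  haveI : IsIntegral (Spec A) := isIntegral_of_isOpenImmersion ι
  exact (affine_isIntegral_iff A).mp inferInstance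

theorem isReduced_pullback {X Y : Scheme.{u}} (fX : X ⟶ Spec (.of k)) (fY : Y ⟶ Spec (.of k))
    [IsIntegral X] [IsIntegral Y] [LocallyOfFiniteType fY] : IsReduced (pullback fX fY) := by
  suffices h : ∀ ij : (Scheme.Pullback.openCoverOfLeftRight X.affineOpenCover.openCover
      Y.affineOpenCover.openCover fX fY).I₀,
      IsReduced ((Scheme.Pullback.openCoverOfLeftRight X.affineOpenCover.openCover
        Y.affineOpenCover.openCover fX fY).X ij) from
    IsReduced.of_openCover _
      (Scheme.Pullback.openCoverOfLeftRight X.affineOpenCover.openCover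
        Y.affineOpenCover.openCover fX fY)
  rintro ⟨i, j⟩
  change IsReduced (pullback (X.affineOpenCover.f i ≫ fX) (Y.affineOpenCover.f j ≫ fY))
  haveI : IsOpenImmersion (X.affineOpenCover.f i) := X.affineOpenCover.map_prop i
  haveI : IsOpenImmersion (Y.affineOpenCover.f j) := Y.affineOpenCover.map_prop j
  by_cases h1 : Nonempty (Spec (X.affineOpenCover.X i))
  · by_cases h2 : Nonempty (Spec (Y.affineOpenCover.X j))
    · haveI := isDomain_of_openImmersion (X.affineOpenCover.f i)
      haveI := isDomain_of_openImmersion (Y.affineOpenCover.f j)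
      exact isReduced_pullback_affine _ _
    · rw [not_nonempty_iff] at h2
      haveI : IsEmpty ↥(pullback (X.affineOpenCover.f i ≫ fX) (Y.affineOpenCover.f j ≫ fY)) :=
        Function.isEmpty (pullback.snd (X.affineOpenCover.f i ≫ fX)
          (Y.affineOpenCover.f j ≫ fY)).base
      exact isReduced_of_isEmpty _
  · rw [not_nonempty_iff] at h1
    haveI : IsEmpty ↥(pullback (X.affineOpenCover.f i ≫ fX) (Y.affineOpenCover.f j ≫ fY)) :=
      Function.isEmpty (pullback.fst (X.affineOpenCover.f i ≫ fX)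
        (Y.affineOpenCover.f j ≫ fY)).base
    exact isReduced_of_isEmpty _

theorem isIntegral_pullback {X Y : Scheme.{u}} (fX : X ⟶ Spec (.of k)) (fY : Y ⟶ Spec (.of k))
    [IsIntegral X] [IsIntegral Y] [LocallyOfFiniteType fY] : IsIntegral (pullback fX fY) := by
  haveI := isReduced_pullback fX fY
  haveI := Groth.Agent.Lib.Helper5.irreducibleSpace_pullback_of_isAlgClosed k fX fY
  exact isIntegral_of_irreducibleSpace_of_isReduced _

/-- **Rosenlicht** (scheme form): units on a product of integral separated schemes locally of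
finite type over an algebraically closed field are products of units of the factors. -/
theorem exists_units_pullback {X Y : Scheme.{u}} (fX : X ⟶ Spec (.of k)) (fY : Y ⟶ Spec (.of k))
    [IsIntegral X] [IsIntegral Y] [LocallyOfFiniteType fX] [LocallyOfFiniteType fY]
    [IsSeparated fX] [IsSeparated fY]
    (f : Γ(pullback fX fY, ⊤)) (hf : IsUnit f) :
    ∃ (g : Γ(X, ⊤)) (h : Γ(Y, ⊤)), IsUnit g ∧ IsUnit h ∧
      f = (pullback.fst fX fY).appTop g * (pullback.snd fX fY).appTop h := by
  obtain ⟨x⟩ := (inferInstance : Nonempty X)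
  obtain ⟨y⟩ := (inferInstance : Nonempty Y)
  set i := X.affineOpenCover.idx x
  set j := Y.affineOpenCover.idx y
  set A : CommRingCat.{u} := X.affineOpenCover.X i
  set B : CommRingCat.{u} := Y.affineOpenCover.X j
  haveI : IsOpenImmersion (X.affineOpenCover.f i) := X.affineOpenCover.map_prop i
  haveI : IsOpenImmersion (Y.affineOpenCover.f j) := Y.affineOpenCover.map_prop j
  haveI : Nonempty (Spec A) := by
    obtain ⟨a, -⟩ := X.affineOpenCover.covers x
    exact ⟨a⟩
  haveI : Nonempty (Spec B) := by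
    obtain ⟨b, -⟩ := Y.affineOpenCover.covers y
    exact ⟨b⟩
  haveI : IsDomain A := isDomain_of_openImmersion (X.affineOpenCover.f i)
  haveI : IsDomain B := isDomain_of_openImmersion (Y.affineOpenCover.f j)
  obtain ⟨φ, hφ⟩ := Spec.map_surjective (X.affineOpenCover.f i ≫ fX)
  obtain ⟨ψ, hψ⟩ := Spec.map_surjective (Y.affineOpenCover.f j ≫ fY)
  letI : Algebra k A := φ.hom.toAlgebra
  letI : Algebra k B := ψ.hom.toAlgebra
  haveI : LocallyOfFiniteType (Spec.map φ) := by rw [hφ]; infer_instance
  haveI : LocallyOfFiniteType (Spec.map ψ) := by rw [hψ]; infer_instance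
  haveI hftA : Algebra.FiniteType k A := finiteType_of_spec φ
  haveI hftB : Algebra.FiniteType k B := finiteType_of_spec ψ
  let ιU : Spec (.of A) ⟶ X := X.affineOpenCover.f i
  let ιV : Spec (.of B) ⟶ Y := Y.affineOpenCover.f j
  haveI : IsOpenImmersion ιU := ‹IsOpenImmersion (X.affineOpenCover.f i)›
  haveI : IsOpenImmersion ιV := ‹IsOpenImmersion (Y.affineOpenCover.f j)›
  have hU : ιU ≫ fX = Spec.map (CommRingCat.ofHom (algebraMap k A)) := hφ.symm
  have hV : ιV ≫ fY = Spec.map (CommRingCat.ofHom (algebraMap k B)) := hψ.symm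
  haveI : IsDomain (A ⊗[k] B) := Groth.Agent.Lib.Helper7.InvFrac.isDomain_tensor
  haveI := isIntegral_pullback fX fY
  haveI : QuasiCompact (chart fX fY ιU ιV hU hV) := by
    haveI : QuasiCompact (chart fX fY ιU ιV hU hV ≫ pullback.fst fX fY ≫ fX) := by
      rw [chart_struct]
      infer_instance
    exact QuasiCompact.of_comp _ (pullback.fst fX fY ≫ fX)
  haveI : IsDominant (chart fX fY ιU ιV hU hV) := by
    rw [isDominant_iff]
    have hopen : IsOpen (Set.range (chart fX fY ιU ιV hU hV)) :=
      (chart fX fY ιU ιV hU hV).isOpenEmbedding.isOpen_range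
    exact hopen.dense (Set.range_nonempty _)
  haveI : IsSchemeTheoreticallyDominant (chart fX fY ιU ιV hU hV) :=
    IsSchemeTheoreticallyDominant.of_isDominant _
  obtain ⟨x₀, -⟩ := Groth.Agent.Lib.Helper7.Rosen.exists_point_ne_zero (k := k) (1 : A) one_ne_zero
  obtain ⟨y₀, -⟩ := Groth.Agent.Lib.Helper7.Rosen.exists_point_ne_zero (k := k) (1 : B) one_ne_zero
  have key := unit_eq_of_chart fX fY ιU ιV hU hV x₀ y₀ f hf
  set c := (pt fX fY ιU ιV hU hV x₀ y₀).appTop f with hc
  have hcu : IsUnit (fX.appTop c) := (hf.map _).map _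
  obtain ⟨u, hu⟩ := hcu
  refine ⟨(secY fX fY ιV hV y₀).appTop f * ↑u⁻¹, (secX fX fY ιU hU x₀).appTop f,
    (hf.map _).mul (Units.isUnit _), hf.map _, ?_⟩
  rw [map_mul, mul_right_comm, ← key, Scheme.Hom.comp_appTop, CommRingCat.comp_apply, ← hu,
    mul_assoc, ← map_mul, Units.mul_inv, map_one, mul_one]

end Groth.Agent.Lib.Helper7.RosSch
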