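import Groth.Agent.Lib.Helper7.RosSch3
import Groth.Agent.Lib.Helper1.GeomIntSmooth
import Groth.Agent.Lib.Helper10.PreLocus

/-!
# Rosenlicht's unit lemma for group schemes (helper7)
-/

universe u

open CategoryTheory MonoidalCategory CartesianMonoidalCategory MonObj GrpObj AlgebraicGeometry
  CategoryTheory.Limits

namespace Groth.Agent.Lib.Helper7.RosSch

variable {k : Type u} [Field k]

/-- pullback of global functions along a morphism in `Over (Spec k)`. -/
noncomputable def pb {A B : Over (Spec (CommRingCat.of k))} (a : A ⟶ B) :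
    Γ(B.left, ⊤) →+* Γ(A.left, ⊤) := a.left.appTop.hom

lemma pb_apply {A B : Over (Spec (CommRingCat.of k))} (a : A ⟶ B) (x : Γ(B.left, ⊤)) :
    pb a x = a.left.appTop x := rfl

lemma pb_comp {A B C : Over (Spec (CommRingCat.of k))} (a : A ⟶ B) (b : B ⟶ C)
    (x : Γ(C.left, ⊤)) : pb (a ≫ b) x = pb a (pb b x) := by
  simp [pb, Over.comp_left]

lemma pb_id {A : Over (Spec (CommRingCat.of k))} (x : Γ(A.left, ⊤)) : pb (𝟙 A) x = x := by
  simp [pb]

theorem isIntegral_of_smooth_connected (G : Over (Spec (CommRingCat.of k))) [Smooth G.hom]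
    [ConnectedSpace ↥G.left] : IsIntegral G.left := by
  haveI : IsLocallyNoetherian G.left := LocallyOfFiniteType.isLocallyNoetherian G.hom
  haveI : IrreducibleSpace ↥G.left :=
    Groth.Agent.Lib.Helper1.ConnIrr.irreducibleSpace_of_connected _
      (fun w => Groth.Agent.Lib.Helper1.GeomIntSmooth.isDomain_stalk_of_smooth G.hom w)
  haveI : ∀ x : G.left, _root_.IsReduced (G.left.presheaf.stalk x) := fun x => by
    haveI := Groth.Agent.Lib.Helper1.GeomIntSmooth.isDomain_stalk_of_smooth G.hom x
    infer_instance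
  haveI : IsReduced G.left := isReduced_of_isReduced_stalk _
  exact isIntegral_of_irreducibleSpace_of_isReduced _

variable [IsAlgClosed k]

/-- units on a product, `Over` form. -/
theorem exists_units_tensor (X Y : Over (Spec (CommRingCat.of k)))
    [IsIntegral X.left] [IsSeparated X.hom] [LocallyOfFiniteType X.hom]
    [IsIntegral Y.left] [IsSeparated Y.hom] [LocallyOfFiniteType Y.hom]
    (f : Γ((X ⊗ Y).left, ⊤)) (hf : IsUnit f) :
    ∃ (g : Γ(X.left, ⊤)) (h : Γ(Y.left, ⊤)), IsUnit g ∧ IsUnit h ∧
      f = pb (fst X Y) g * pb (snd X Y) h :=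
  exists_units_pullback X.hom Y.hom f hf

/-- a normalized unit on a smooth connected group scheme is a character. -/
theorem character_of_unit (G : Over (Spec (CommRingCat.of k))) [GrpObj G] [Smooth G.hom]
    [ConnectedSpace ↥G.left] (f : Γ(G.left, ⊤)) (hf : IsUnit f) (he : pb η[G] f = 1) :
    pb μ[G] f = pb (fst G G) f * pb (snd G G) f := by
  haveI := isIntegral_of_smooth_connected G
  haveI := Groth.Agent.Lib.Helper10.PreLocus.isSeparated_of_grpObj G
  obtain ⟨g, h, hg, hh, hgh⟩ := exists_units_tensor G G (pb μ[G] f) (hf.map _)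
  have h1 : f = g * pb (toUnit G) (pb η[G] h) := by
    have := congrArg (pb (lift (𝟙 G) (toUnit G ≫ η[G]))) hgh
    rw [← pb_comp, lift_comp_one_right, pb_id, map_mul, ← pb_comp, ← pb_comp, lift_fst, lift_snd,
      pb_id, pb_comp] at this
    exact this
  have h2 : f = pb (toUnit G) (pb η[G] g) * h := by
    have := congrArg (pb (lift (toUnit G ≫ η[G]) (𝟙 G))) hgh
    rw [← pb_comp, lift_comp_one_left, pb_id, map_mul, ← pb_comp, ← pb_comp, lift_fst, lift_snd,
      pb_id, pb_comp] at this
    exact this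
  have h3 : pb η[G] g * pb η[G] h = 1 := by
    have := congrArg (pb (lift η[G] η[G])) hgh
    have e : lift η[G] η[G] ≫ μ[G] = η[G] := by
      have := lift_comp_one_left (𝟙 (𝟙_ (Over (Spec (CommRingCat.of k))))) η[G]
      rwa [Category.id_comp] at this
    rw [← pb_comp, e, he, map_mul, ← pb_comp, ← pb_comp, lift_fst, lift_snd] at this
    exact this.symm
  symm
  calc pb (fst G G) f * pb (snd G G) f
      = pb (fst G G) (g * pb (toUnit G) (pb η[G] h)) *
          pb (snd G G) (pb (toUnit G) (pb η[G] g) * h) := by rw [← h1, ← h2]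
    _ = pb (fst G G) g * pb (snd G G) h *
          pb (toUnit (G ⊗ G)) (pb η[G] g * pb η[G] h) := by
        rw [map_mul, map_mul, ← pb_comp (fst G G) (toUnit G), ← pb_comp (snd G G) (toUnit G),
          toUnit_unique (fst G G ≫ toUnit G) (toUnit _),
          toUnit_unique (snd G G ≫ toUnit G) (toUnit _), map_mul]
        ring
    _ = pb μ[G] f := by rw [h3, map_one, _root_.mul_one, hgh]

end Groth.Agent.Lib.Helper7.RosSch
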