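import Groth.Agent.Lib.Helper7.RosSch4
import Groth.Prelude.Def_AlgGrp

/-!
# Rosenlicht's unit lemma: units on `G × X` and semi-invariance of units (helper7)
-/

universe u

open CategoryTheory MonoidalCategory CartesianMonoidalCategory MonObj GrpObj AlgebraicGeometry
  CategoryTheory.Limits

namespace Groth.Agent.Lib.Helper7.RosSch

variable {k : Type u} [Field k] [IsAlgClosed k]

/-- an integral scheme locally of finite type over an algebraically closed field has a rational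
point. -/
theorem exists_point {X : Scheme.{u}} (fX : X ⟶ Spec (.of k)) [IsIntegral X]
    [LocallyOfFiniteType fX] : ∃ p : Spec (.of k) ⟶ X, p ≫ fX = 𝟙 _ := by
  obtain ⟨x⟩ := (inferInstance : Nonempty X)
  set i := X.affineOpenCover.idx x
  set A : CommRingCat.{u} := X.affineOpenCover.X i
  haveI : IsOpenImmersion (X.affineOpenCover.f i) := X.affineOpenCover.map_prop i
  haveI : Nonempty (Spec A) := by
    obtain ⟨a, -⟩ := X.affineOpenCover.covers x
    exact ⟨a⟩
  haveI : IsDomain A := isDomain_of_openImmersion (X.affineOpenCover.f i)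
  obtain ⟨φ, hφ⟩ := Spec.map_surjective (X.affineOpenCover.f i ≫ fX)
  letI : Algebra k A := φ.hom.toAlgebra
  haveI : LocallyOfFiniteType (Spec.map φ) := by rw [hφ]; infer_instance
  haveI hftA : Algebra.FiniteType k A := finiteType_of_spec φ
  let ιU : Spec (.of A) ⟶ X := X.affineOpenCover.f i
  have hU : ιU ≫ fX = Spec.map (CommRingCat.ofHom (algebraMap k A)) := hφ.symm
  obtain ⟨x₀, -⟩ := Groth.Agent.Lib.Helper7.Rosen.exists_point_ne_zero (k := k) (1 : A) one_ne_zero
  exact ⟨ptOf ιU x₀, ptOf_comp fX ιU hU x₀⟩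

theorem exists_point_over (X : Over (Spec (CommRingCat.of k))) [IsIntegral X.left]
    [LocallyOfFiniteType X.hom] : Nonempty (𝟙_ (Over (Spec (CommRingCat.of k))) ⟶ X) := by
  obtain ⟨p, hp⟩ := exists_point X.hom
  exact ⟨Over.homMk p (by simpa using hp)⟩

/-- units on `G × X`: a character of `G` times a unit of `X`. -/
theorem exists_character_mul_unit (G X : Over (Spec (CommRingCat.of k))) [GrpObj G] [Smooth G.hom]
    [ConnectedSpace ↥G.left]
    [IsIntegral X.left] [IsSeparated X.hom] [LocallyOfFiniteType X.hom]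
    (f : Γ((G ⊗ X).left, ⊤)) (hf : IsUnit f) :
    ∃ (χ : Γ(G.left, ⊤)) (u : Γ(X.left, ⊤)), IsUnit χ ∧ pb η[G] χ = 1 ∧
      pb μ[G] χ = pb (fst G G) χ * pb (snd G G) χ ∧ IsUnit u ∧
      f = pb (fst G X) χ * pb (snd G X) u := by
  haveI := isIntegral_of_smooth_connected G
  haveI := Groth.Agent.Lib.Helper10.PreLocus.isSeparated_of_grpObj G
  obtain ⟨g, h, hg, hh, hgh⟩ := exists_units_tensor G X f hf
  obtain ⟨c, hc⟩ : IsUnit (pb η[G] g) := hg.map _
  set χ : Γ(G.left, ⊤) := g * pb (toUnit G) ↑c⁻¹ with hχ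
  have hχu : IsUnit χ := hg.mul ((Units.isUnit _).map _)
  have hχe : pb η[G] χ = 1 := by
    rw [hχ, map_mul, ← pb_comp, toUnit_unique (η[G] ≫ toUnit G) (𝟙 _), pb_id, ← hc, Units.mul_inv]
  refine ⟨χ, h * pb (toUnit X) ↑c, hχu, hχe, character_of_unit G χ hχu hχe,
    hh.mul ((Units.isUnit _).map _), ?_⟩
  rw [hgh, hχ, map_mul, map_mul, ← pb_comp (fst G X) (toUnit G), ← pb_comp (snd G X) (toUnit X),
    toUnit_unique (fst G X ≫ toUnit G) (toUnit _), toUnit_unique (snd G X ≫ toUnit X) (toUnit _)]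
  have : pb (toUnit (G ⊗ X)) (↑c⁻¹ : Γ((𝟙_ (Over (Spec (CommRingCat.of k)))).left, ⊤)) *
      pb (toUnit (G ⊗ X)) ↑c = 1 := by
    rw [← map_mul, Units.inv_mul, map_one]
  calc pb (fst G X) g * pb (snd G X) h
      = pb (fst G X) g * pb (snd G X) h * (pb (toUnit (G ⊗ X))
          (↑c⁻¹ : Γ((𝟙_ (Over (Spec (CommRingCat.of k)))).left, ⊤)) *
          pb (toUnit (G ⊗ X)) ↑c) := by rw [this, _root_.mul_one]
    _ = _ := by ring

/-- units on a `G`-variety are semi-invariants. -/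
theorem existsUnique_character_of_unit (G X : Over (Spec (CommRingCat.of k))) [GrpObj G]
    [Smooth G.hom] [ConnectedSpace ↥G.left]
    [IsIntegral X.left] [IsSeparated X.hom] [LocallyOfFiniteType X.hom] (a : AlgGrp.Action G X)
    (f : Γ(X.left, ⊤)) (hf : IsUnit f) :
    ∃! χ : Γ(G.left, ⊤), IsUnit χ ∧ pb η[G] χ = 1 ∧
      pb μ[G] χ = pb (fst G G) χ * pb (snd G G) χ ∧
      pb a.act f = pb (fst G X) χ * pb (snd G X) f := by
  obtain ⟨χ, u, hχu, hχe, hχm, hu, hfu⟩ := exists_character_mul_unit G X (pb a.act f) (hf.map _)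
  have hs : lift (toUnit X ≫ η[G]) (𝟙 X) ≫ a.act = 𝟙 X := by
    have h1 : lift (toUnit X ≫ η[G]) (𝟙 X) = lift (toUnit X) (𝟙 X) ≫ (η[G] ▷ X) := by
      rw [lift_whiskerRight]
    rw [h1, Category.assoc, a.one_act, lift_leftUnitor_hom]
  have hfu' : f = u := by
    have := congrArg (pb (lift (toUnit X ≫ η[G]) (𝟙 X))) hfu
    rw [← pb_comp, hs, pb_id, map_mul, ← pb_comp, ← pb_comp, lift_fst, lift_snd, pb_id, pb_comp,
      hχe, map_one, _root_.one_mul] at this
    exact this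
  refine ⟨χ, ⟨hχu, hχe, hχm, by rw [hfu, ← hfu']⟩, ?_⟩
  rintro χ' ⟨-, -, -, h'⟩
  obtain ⟨x₀⟩ := exists_point_over X
  have hsnd : IsUnit (pb (snd G X) f) := hf.map _
  have e1 : pb (fst G X) χ' = pb (fst G X) χ := by
    have : pb (fst G X) χ' * pb (snd G X) f = pb (fst G X) χ * pb (snd G X) f := by
      rw [← h', hfu, ← hfu']
    exact hsnd.mul_left_injective this
  have := congrArg (pb (lift (𝟙 G) (toUnit G ≫ x₀))) e1
  rwa [← pb_comp, ← pb_comp, lift_fst, pb_id, pb_id] at this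

end Groth.Agent.Lib.Helper7.RosSch
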