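import Groth.Agent.Lib.Helper7.GenSubgp

/-!
# Rosenlicht's unit lemma, algebraic form: the valuation argument (helper7)
-/

universe u v w

open TensorProduct

namespace Groth.Agent.Lib.Helper7.Rosen

open Groth.Agent.Lib.Helper7.GenSubgp

section Val

variable {k : Type u} [Field k] {K : Type v} [Field K] [Algebra k K] (V : ValuationSubring K)

lemma val_smul_le (hV : ∀ c : k, algebraMap k K c ∈ V) (c : k) (x : K) :
    V.valuation (c • x) ≤ V.valuation x := by
  rw [Algebra.smul_def, map_mul]
  have h1 : V.valuation (algebraMap k K c) ≤ 1 := (V.valuation_le_one_iff _).2 (hV c)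
  calc V.valuation (algebraMap k K c) * V.valuation x ≤ 1 * V.valuation x :=
        mul_le_mul_left h1 _
    _ = V.valuation x := one_mul _

variable {ι : Type w} [Fintype ι]

lemma val_sum_le (hV : ∀ c : k, algebraMap k K c ∈ V) (c : ι → k) (r : ι → K)
    (M : V.ValueGroup) (hM : ∀ i, V.valuation (r i) ≤ M) :
    V.valuation (∑ i, c i • r i) ≤ M := by
  apply Valuation.map_sum_le
  intro i _
  exact le_trans (val_smul_le V hV (c i) (r i)) (hM i)

/-- the subspace of coefficient vectors whose combination has valuation `< M`. -/
def lowSub (hV : ∀ c : k, algebraMap k K c ∈ V) (r : ι → K) (M : V.ValueGroup) :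
    Submodule k (ι → k) where
  carrier := {c | V.valuation (∑ i, c i • r i) < M ∨ M = 0}
  add_mem' := by
    intro a b ha hb
    rcases ha with ha | ha
    · rcases hb with hb | hb
      · left
        have : ∑ i, (a + b) i • r i = ∑ i, a i • r i + ∑ i, b i • r i := by
          rw [← Finset.sum_add_distrib]
          apply Finset.sum_congr rfl
          intro i _
          rw [Pi.add_apply, add_smul]
        rw [this]
        exact Valuation.map_add_lt _ ha hb
      · right; exact hb
    · right; exact ha
  zero_mem' := by
    by_cases hM : M = 0
    · right; exact hM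
    · left
      simp only [Pi.zero_apply, zero_smul, Finset.sum_const_zero, map_zero]
      exact zero_lt_iff.2 hM
  smul_mem' := by
    intro c a ha
    rcases ha with ha | ha
    · left
      have : ∑ i, (c • a) i • r i = c • ∑ i, a i • r i := by
        rw [Finset.smul_sum]
        apply Finset.sum_congr rfl
        intro i _
        rw [Pi.smul_apply, smul_eq_mul, mul_smul]
      rw [this]
      exact lt_of_le_of_lt (val_smul_le V hV c _) ha
    · right; exact ha

end Val

end Groth.Agent.Lib.Helper7.Rosen
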