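import Groth.Agent.Lib.Helper7.Rosen1

/-!
# Rosenlicht's unit lemma, algebraic form: constancy of valuations (helper7)
-/

universe u v w w'

open TensorProduct

namespace Groth.Agent.Lib.Helper7.Rosen

open Groth.Agent.Lib.Helper7.GenSubgp

section Main

variable {k : Type u} [Field k] [IsAlgClosed k] {K : Type v} [Field K] [Algebra k K]
  (V : ValuationSubring K) (hV : ∀ c : k, algebraMap k K c ∈ V)
  {S : Type w} [CommRing S] [Algebra k S] [Algebra.FiniteType k S] [IsDomain S]
  {ι : Type w'} [Fintype ι] {ι' : Type w'} [Fintype ι']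

omit [IsAlgClosed k] in
lemma sum_single [DecidableEq ι] (r : ι → K) (i₀ : ι) :
    ∑ i, (Pi.single i₀ (1 : k) : ι → k) i • r i = r i₀ := by
  rw [Finset.sum_eq_single i₀]
  · rw [Pi.single_eq_same, one_smul]
  · intro i _ hi
    rw [Pi.single_eq_of_ne hi, zero_smul]
  · intro h
    exact absurd (Finset.mem_univ i₀) h

/-- points where a nonzero function does not vanish. -/
lemma exists_point_ne_zero (t : S) (ht : t ≠ 0) : ∃ y : S →ₐ[k] k, y t ≠ 0 := by
  by_contra h
  push Not at h
  have h1 := mem_nilradical_of_forall_algHom (k := k) t h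
  have h2 : IsNilpotent t := mem_nilradical.1 h1
  exact ht h2.eq_zero

include hV in
theorem exists_point_val_eq (r : ι → K) (s : ι → S) (hs : LinearIndependent k s) (i₀ : ι)
    (hmax : ∀ i, V.valuation (r i) ≤ V.valuation (r i₀)) (h0 : r i₀ ≠ 0) :
    ∃ t : S, t ≠ 0 ∧ ∀ y : S →ₐ[k] k, y t ≠ 0 →
      V.valuation (∑ i, y (s i) • r i) = V.valuation (r i₀) := by
  classical
  set M := V.valuation (r i₀) with hM
  have hM0 : M ≠ 0 := (Valuation.ne_zero_iff _).2 h0
  have hN : lowSub V hV r M ≠ ⊤ := by
    intro htop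
    have h1 : (Pi.single i₀ (1 : k) : ι → k) ∈ lowSub V hV r M := by rw [htop]; trivial
    rcases h1 with h1 | h1
    · rw [sum_single] at h1
      exact lt_irrefl _ h1
    · exact hM0 h1
  obtain ⟨μ, hμ0, hμ⟩ := Submodule.exists_le_ker_of_lt_top _ (lt_top_iff_ne_top.2 hN)
  refine ⟨∑ i, μ (Pi.single i 1) • s i, ?_, ?_⟩
  · intro ht
    have h1 := Fintype.linearIndependent_iff.1 hs (fun i => μ (Pi.single i 1)) ht
    apply hμ0
    apply LinearMap.pi_ext'
    intro i
    apply LinearMap.ext_ring
    rw [LinearMap.comp_apply, LinearMap.single_apply, LinearMap.zero_comp, LinearMap.zero_apply]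
    exact h1 i
  · intro y hy
    have hμc : μ (fun i => y (s i)) = y (∑ i, μ (Pi.single i 1) • s i) := by
      have h1 : (fun i => y (s i)) = ∑ i, y (s i) • (Pi.single i (1 : k) : ι → k) := by
        ext j
        rw [Finset.sum_apply]
        simp [Pi.single_apply]
      rw [h1, map_sum, map_sum]
      apply Finset.sum_congr rfl
      intro i _
      rw [map_smul, map_smul, smul_eq_mul, smul_eq_mul, mul_comm]
    have hc : (fun i => y (s i)) ∉ lowSub V hV r M := by
      intro hmem
      have := hμ hmem
      rw [LinearMap.mem_ker, hμc] at this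
      exact hy this
    have hle : V.valuation (∑ i, y (s i) • r i) ≤ M := val_sum_le V hV _ r M hmax
    rcases lt_or_eq_of_le hle with hlt | heq
    · exact absurd (Or.inl hlt) hc
    · exact heq

include hV in
/-- **constancy of valuations** of the fibres of a unit. -/
theorem val_const (r : ι → K) (s : ι → S) (hs : LinearIndependent k s)
    (r' : ι' → K) (s' : ι' → S) (hs' : LinearIndependent k s')
    (h : ∀ y : S →ₐ[k] k, (∑ i, y (s i) • r i) * (∑ j, y (s' j) • r' j) = 1)
    (y₁ y₂ : S →ₐ[k] k) :
    V.valuation (∑ i, y₁ (s i) • r i) = V.valuation (∑ i, y₂ (s i) • r i) := by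
  classical
  have hne : Nonempty ι := by
    by_contra hemp
    rw [not_nonempty_iff] at hemp
    have := h y₁
    rw [Finset.univ_eq_empty, Finset.sum_empty, zero_mul] at this
    exact zero_ne_one this
  have hne' : Nonempty ι' := by
    by_contra hemp
    rw [not_nonempty_iff] at hemp
    have := h y₁
    rw [Finset.univ_eq_empty (α := ι'), Finset.sum_empty, mul_zero] at this
    exact zero_ne_one this
  obtain ⟨i₀, -, hi₀⟩ := Finset.exists_max_image Finset.univ (fun i => V.valuation (r i))
    Finset.univ_nonempty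
  obtain ⟨j₀, -, hj₀⟩ := Finset.exists_max_image Finset.univ (fun j => V.valuation (r' j))
    Finset.univ_nonempty
  have hr0 : r i₀ ≠ 0 := by
    intro h0
    have h1 : ∀ i, r i = 0 := by
      intro i
      have := hi₀ i (Finset.mem_univ i)
      simp only [h0, map_zero, le_zero_iff] at this
      exact (Valuation.zero_iff _).1 this
    have := h y₁
    simp only [h1, smul_zero, Finset.sum_const_zero, zero_mul] at this
    exact zero_ne_one this
  have hr0' : r' j₀ ≠ 0 := by
    intro h0
    have h1 : ∀ j, r' j = 0 := by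
      intro j
      have := hj₀ j (Finset.mem_univ j)
      simp only [h0, map_zero, le_zero_iff] at this
      exact (Valuation.zero_iff _).1 this
    have := h y₁
    simp only [h1, smul_zero, Finset.sum_const_zero, mul_zero] at this
    exact zero_ne_one this
  obtain ⟨t, ht, hty⟩ := exists_point_val_eq V hV r s hs i₀ (fun i => hi₀ i (Finset.mem_univ i)) hr0
  obtain ⟨t', ht', hty'⟩ := exists_point_val_eq V hV r' s' hs' j₀
    (fun j => hj₀ j (Finset.mem_univ j)) hr0'
  obtain ⟨ys, hys⟩ := exists_point_ne_zero (k := k) (t * t') (mul_ne_zero ht ht')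
  rw [map_mul] at hys
  have e1 := hty ys (left_ne_zero_of_mul hys)
  have e2 := hty' ys (right_ne_zero_of_mul hys)
  set M := V.valuation (r i₀) with hM
  set M' := V.valuation (r' j₀) with hM'
  have hMM : M * M' = 1 := by
    rw [← e1, ← e2, ← map_mul, h ys, map_one]
  have key : ∀ y : S →ₐ[k] k, V.valuation (∑ i, y (s i) • r i) = M := by
    intro y
    have ha : V.valuation (∑ i, y (s i) • r i) ≤ M :=
      val_sum_le V hV _ r M (fun i => hi₀ i (Finset.mem_univ i))
    have hb : V.valuation (∑ j, y (s' j) • r' j) ≤ M' :=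
      val_sum_le V hV _ r' M' (fun j => hj₀ j (Finset.mem_univ j))
    have hab : V.valuation (∑ i, y (s i) • r i) * V.valuation (∑ j, y (s' j) • r' j) = 1 := by
      rw [← map_mul, h y, map_one]
    rcases lt_or_eq_of_le ha with hlt | heq
    · exfalso
      have hb0 : V.valuation (∑ j, y (s' j) • r' j) ≠ 0 := by
        intro h0
        rw [h0, mul_zero] at hab
        exact zero_ne_one hab
      have h1 : V.valuation (∑ i, y (s i) • r i) * V.valuation (∑ j, y (s' j) • r' j) <
          M * V.valuation (∑ j, y (s' j) • r' j) :=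
        mul_lt_mul_of_pos_right hlt (zero_lt_iff.2 hb0)
      have h2 : M * V.valuation (∑ j, y (s' j) • r' j) ≤ M * M' := mul_le_mul_right hb M
      rw [hab, hMM] at *
      exact lt_irrefl _ (lt_of_lt_of_le h1 h2)
    · exact heq
  rw [key y₁, key y₂]

end Main

end Groth.Agent.Lib.Helper7.Rosen
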