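import Groth.Prelude.Def_GLin
import Mathlib.RingTheory.Etale.Basic

set_option autoImplicit false
universe u
open TensorProduct
open GLin

namespace Groth.Agent.Lib.Helper7.SE

section

variable {k : Type u} [Field k]
    {A : Type u} [CommRing A] [HopfAlgebra k A]
    {S : Type u} [CommRing S] [Algebra k S] [HopfRep.Comod k A S] [GLin.IsCoactAlg k A S]
    {R : Type u} [CommRing R] [Algebra k R] [HopfRep.Comod k A R] [GLin.IsCoactAlg k A R]
    [Algebra S R] [IsScalarTower k S R]

/-- equivariance gives compatibility of orbit maps -/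
theorem orbitHom_comp
    (hequiv : (∀ s : S, HopfRep.Comod.coact (k := k) (A := A) (algebraMap S R s) =
      Algebra.TensorProduct.map (IsScalarTower.toAlgHom k S R) (AlgHom.id k A) (HopfRep.Comod.coact (k := k) (A := A) s)))
    (x : R →ₐ[k] k) :
    orbitHom k A (x.comp (IsScalarTower.toAlgHom k S R)) =
      (orbitHom k A x).comp (IsScalarTower.toAlgHom k S R) := by
  apply AlgHom.ext
  intro s
  simp only [orbitHom, AlgHom.comp_apply, coactAlgHom_apply, IsScalarTower.coe_toAlgHom']
  rw [hequiv s]
  congr 1
  generalize HopfRep.Comod.coact (k := k) (A := A) s = t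
  induction t using TensorProduct.induction_on with
  | zero => simp
  | tmul a b => simp
  | add a b ha hb => simp only [map_add, ha, hb]

/-- orbit map on invariants -/
theorem orbitHom_of_mem_invariants (x : R →ₐ[k] k) {r : R} (hr : r ∈ GLin.invariants k A R) :
    orbitHom k A x r = algebraMap k A (x r) := by
  rw [GLin.mem_invariants_iff] at hr
  simp only [orbitHom, AlgHom.comp_apply, coactAlgHom_apply]
  rw [hr]
  simp [Algebra.algebraMap_eq_smul_one]

end

section

variable {S₀ S R₀ R : Type u} [CommRing S₀] [CommRing S] [CommRing R₀] [CommRing R]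
  [Algebra S₀ S] [Algebra S₀ R₀] [Algebra S₀ R] [Algebra S R] [Algebra R₀ R]
  [IsScalarTower S₀ S R] [IsScalarTower S₀ R₀ R]

theorem ringHom_ext_of_cart
    (hcart : Function.Surjective (Algebra.TensorProduct.productMap (IsScalarTower.toAlgHom S₀ S R) (IsScalarTower.toAlgHom S₀ R₀ R)))
    {T : Type*} [Semiring T] (f g : R →+* T)
    (h1 : ∀ s : S, f (algebraMap S R s) = g (algebraMap S R s))
    (h2 : ∀ r : R₀, f (algebraMap R₀ R r) = g (algebraMap R₀ R r)) : f = g := by
  apply RingHom.ext
  intro r
  obtain ⟨t, rfl⟩ := hcart r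
  induction t using TensorProduct.induction_on with
  | zero => simp
  | tmul a b =>
    simp only [Algebra.TensorProduct.productMap_apply_tmul, IsScalarTower.coe_toAlgHom', map_mul, h1, h2]
  | add a b ha hb => simp only [map_add, ha, hb]

theorem etale_of_cart [Algebra.Etale S₀ R₀]
    (hcart : Function.Bijective (Algebra.TensorProduct.productMap (IsScalarTower.toAlgHom S₀ S R) (IsScalarTower.toAlgHom S₀ R₀ R))) :
    Algebra.Etale S R := by
  let f : S ⊗[S₀] R₀ →ₐ[S] R :=
    Algebra.TensorProduct.productLeftAlgHom (Algebra.ofId S R) (IsScalarTower.toAlgHom S₀ R₀ R)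
  have hf : Function.Bijective f := by
    have : (f : S ⊗[S₀] R₀ → R) = (Algebra.TensorProduct.productMap (IsScalarTower.toAlgHom S₀ S R) (IsScalarTower.toAlgHom S₀ R₀ R)) := by
      funext t
      induction t using TensorProduct.induction_on with
      | zero => simp
      | tmul a b => simp [f, Algebra.ofId_apply]
      | add a b ha hb => simp only [map_add, ha, hb]
    rw [this]; exact hcart
  exact Algebra.Etale.of_equiv (AlgEquiv.ofBijective f hf)

end

end Groth.Agent.Lib.Helper7.SE
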