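import Groth.Agent.Lib.Helper7.SE1

set_option autoImplicit false
universe u
open TensorProduct
open GLin

namespace Groth.Agent.Lib.Helper7.SE

section

variable {k : Type u} [Field k]
  {S₀ S R₀ R : Type u} [CommRing S₀] [CommRing S] [CommRing R₀] [CommRing R]
  [Algebra k S₀] [Algebra k S] [Algebra k R] [Algebra k R₀]
  [Algebra S₀ S] [Algebra S₀ R₀] [Algebra S₀ R] [Algebra S R] [Algebra R₀ R]
  [IsScalarTower k S₀ S] [IsScalarTower k S R] [IsScalarTower k R₀ R]
  [IsScalarTower S₀ S R] [IsScalarTower S₀ R₀ R]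

/-- the maximal ideal of `S₀` below the point `x` -/
def n₀ (x : R →ₐ[k] k) : Ideal S₀ := RingHom.ker ((x : R →+* k).comp (algebraMap S₀ R))

variable (S) in
/-- its extension to `S` -/
def I₀ (x : R →ₐ[k] k) : Ideal S := Ideal.map (algebraMap S₀ S) (n₀ (S₀ := S₀) x)

variable (S) in
include S in
theorem algebraMap_k_R_eq (c : k) :
    algebraMap k R c = algebraMap S₀ R (algebraMap k S₀ c) := by
  rw [IsScalarTower.algebraMap_apply k S R, IsScalarTower.algebraMap_apply k S₀ S,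
    ← IsScalarTower.algebraMap_apply S₀ S R]

theorem mk_algebraMap_S₀ (x : R →ₐ[k] k) (s₀ : S₀) :
    Ideal.Quotient.mk (I₀ (S₀ := S₀) S x) (algebraMap S₀ S s₀) =
      algebraMap k (S ⧸ I₀ (S₀ := S₀) S x) (x (algebraMap S₀ R s₀)) := by
  set c : k := x (algebraMap S₀ R s₀) with hc
  have h1 : s₀ - algebraMap k S₀ c ∈ n₀ (S₀ := S₀) x := by
    simp only [n₀, RingHom.mem_ker, RingHom.comp_apply, map_sub]
    rw [← algebraMap_k_R_eq (S₀ := S₀) S c]
    simp [hc]
  have h2 : algebraMap S₀ S (s₀ - algebraMap k S₀ c) ∈ I₀ (S₀ := S₀) S x :=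
    Ideal.mem_map_of_mem _ h1
  rw [map_sub, ← IsScalarTower.algebraMap_apply k S₀ S] at h2
  have h3 := (Ideal.Quotient.eq (I := I₀ (S₀ := S₀) S x)).2 h2
  rw [h3]
  rfl

/-- the second leg `R₀ → S/I₀` -/
def leg (x : R →ₐ[k] k) : R₀ →ₐ[S₀] S ⧸ I₀ (S₀ := S₀) S x :=
  { ((algebraMap k (S ⧸ I₀ (S₀ := S₀) S x)).comp ((x : R →+* k).comp (algebraMap R₀ R))) with
    commutes' := by
      intro s₀
      simp only [RingHom.toMonoidHom_eq_coe, OneHom.toFun_eq_coe, MonoidHom.toOneHom_coe,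
        MonoidHom.coe_coe, RingHom.comp_apply, RingHom.coe_coe]
      rw [← IsScalarTower.algebraMap_apply S₀ R₀ R]
      rw [← mk_algebraMap_S₀ (S₀ := S₀) (S := S) x s₀]
      rfl }

theorem leg_apply (x : R →ₐ[k] k) (r : R₀) :
    leg (S₀ := S₀) (S := S) x r = algebraMap k (S ⧸ I₀ (S₀ := S₀) S x) (x (algebraMap R₀ R r)) := rfl

/-- The map `ψ : R → S/I₀` -/
noncomputable def psi (x : R →ₐ[k] k)
    (hcart : Function.Bijective (Algebra.TensorProduct.productMap (IsScalarTower.toAlgHom S₀ S R) (IsScalarTower.toAlgHom S₀ R₀ R))) :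
    R →+* S ⧸ I₀ (S₀ := S₀) S x :=
  (Algebra.TensorProduct.productMap (Ideal.Quotient.mkₐ S₀ (I₀ (S₀ := S₀) S x)) (leg (S₀ := S₀) (S := S) x)).toRingHom.comp
    (RingEquiv.ofBijective _ hcart).symm.toRingHom

theorem psi_algebraMap_S (x : R →ₐ[k] k)
    (hcart : Function.Bijective (Algebra.TensorProduct.productMap (IsScalarTower.toAlgHom S₀ S R) (IsScalarTower.toAlgHom S₀ R₀ R)))
    (s : S) : psi x hcart (algebraMap S R s) = Ideal.Quotient.mk _ s := by
  have : (RingEquiv.ofBijective _ hcart).symm (algebraMap S R s) = s ⊗ₜ[S₀] (1 : R₀) := by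
    rw [RingEquiv.symm_apply_eq]
    simp
  simp only [psi, RingHom.comp_apply, RingEquiv.toRingHom_eq_coe, RingHom.coe_coe, this]
  simp

theorem psi_algebraMap_R₀ (x : R →ₐ[k] k)
    (hcart : Function.Bijective (Algebra.TensorProduct.productMap (IsScalarTower.toAlgHom S₀ S R) (IsScalarTower.toAlgHom S₀ R₀ R)))
    (r : R₀) : psi x hcart (algebraMap R₀ R r) =
      algebraMap k (S ⧸ I₀ (S₀ := S₀) S x) (x (algebraMap R₀ R r)) := by
  have : (RingEquiv.ofBijective _ hcart).symm (algebraMap R₀ R r) = (1 : S) ⊗ₜ[S₀] r := by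
    rw [RingEquiv.symm_apply_eq]
    simp
  simp only [psi, RingHom.comp_apply, RingEquiv.toRingHom_eq_coe, RingHom.coe_coe, this]
  simp [leg_apply]

theorem psi_surjective (x : R →ₐ[k] k)
    (hcart : Function.Bijective (Algebra.TensorProduct.productMap (IsScalarTower.toAlgHom S₀ S R) (IsScalarTower.toAlgHom S₀ R₀ R))) :
    Function.Surjective (psi x hcart) := by
  intro t
  obtain ⟨s, rfl⟩ := Ideal.Quotient.mk_surjective t
  exact ⟨algebraMap S R s, psi_algebraMap_S x hcart s⟩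

end

end Groth.Agent.Lib.Helper7.SE
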