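import Groth.Agent.Lib.Helper7.SE2

set_option autoImplicit false
universe u
open TensorProduct
open GLin

namespace Groth.Agent.Lib.Helper7.SE

section

variable {k : Type u} [Field k]
    {A : Type u} [CommRing A] [HopfAlgebra k A]
    {S : Type u} [CommRing S] [Algebra k S] [HopfRep.Comod k A S] [GLin.IsCoactAlg k A S]
    {R : Type u} [CommRing R] [Algebra k R] [HopfRep.Comod k A R] [GLin.IsCoactAlg k A R]
    [Algebra S R] [IsScalarTower k S R]
    {S₀ : Type u} [CommRing S₀] [Algebra k S₀] [Algebra S₀ S] [IsScalarTower k S₀ S]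
    {R₀ : Type u} [CommRing R₀] [Algebra k R₀] [Algebra R₀ R] [IsScalarTower k R₀ R]
    [Algebra S₀ R₀] [Algebra S₀ R] [IsScalarTower S₀ S R] [IsScalarTower S₀ R₀ R]

theorem stab_of_cart
    (hequiv : (∀ s : S, HopfRep.Comod.coact (k := k) (A := A) (algebraMap S R s) =
      Algebra.TensorProduct.map (IsScalarTower.toAlgHom k S R) (AlgHom.id k A) (HopfRep.Comod.coact (k := k) (A := A) s)))
    (hR₀ : (IsScalarTower.toAlgHom k R₀ R).range = GLin.invariants k A R)
    (hcart : Function.Bijective (Algebra.TensorProduct.productMap (IsScalarTower.toAlgHom S₀ S R) (IsScalarTower.toAlgHom S₀ R₀ R)))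
    (x : R →ₐ[k] k) (g : A →ₐ[k] k)
    (hg : GLin.actPt k g (x.comp (IsScalarTower.toAlgHom k S R)) = x.comp (IsScalarTower.toAlgHom k S R)) :
    GLin.actPt k g x = x := by
  have key : (GLin.actPt k g x : R →+* k) = (x : R →+* k) := by
    apply ringHom_ext_of_cart (S₀ := S₀) (S := S) (R₀ := R₀) hcart.surjective
    · intro s
      have h := congrArg (fun f : S →ₐ[k] k => f s) hg
      simp only [actPt, AlgHom.comp_apply, IsScalarTower.coe_toAlgHom'] at h
      rw [orbitHom_comp hequiv x] at h
      simpa [actPt] using h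
    · intro r
      have hr : algebraMap R₀ R r ∈ GLin.invariants k A R := by
        rw [← hR₀]; exact ⟨r, rfl⟩
      simp only [actPt, RingHom.coe_coe, AlgHom.comp_apply]
      rw [orbitHom_of_mem_invariants x hr]
      simp
  apply AlgHom.ext
  intro r
  exact congrArg (fun f : R →+* k => f r) key

/-- the factorisation of the orbit map of `φ(x)` through `S/I₀` -/
noncomputable def obar
    (hequiv : (∀ s : S, HopfRep.Comod.coact (k := k) (A := A) (algebraMap S R s) =
      Algebra.TensorProduct.map (IsScalarTower.toAlgHom k S R) (AlgHom.id k A) (HopfRep.Comod.coact (k := k) (A := A) s)))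
    (hR₀ : (IsScalarTower.toAlgHom k R₀ R).range = GLin.invariants k A R)
    (x : R →ₐ[k] k) : S ⧸ I₀ (S₀ := S₀) S x →+* A :=
  Ideal.Quotient.lift (I₀ (S₀ := S₀) S x) (((orbitHom k A x : R →+* A)).comp (algebraMap S R)) (by
    have : I₀ (S₀ := S₀) S x ≤ RingHom.ker (((orbitHom k A x : R →+* A)).comp (algebraMap S R)) := by
      rw [I₀, Ideal.map_le_iff_le_comap]
      intro s₀ hs₀
      simp only [n₀, RingHom.mem_ker, RingHom.comp_apply, RingHom.coe_coe] at hs₀
      simp only [Ideal.mem_comap, RingHom.mem_ker, RingHom.comp_apply, RingHom.coe_coe]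
      rw [← IsScalarTower.algebraMap_apply S₀ S R]
      have hr : algebraMap S₀ R s₀ ∈ GLin.invariants k A R := by
        rw [← hR₀, IsScalarTower.algebraMap_apply S₀ R₀ R]; exact ⟨_, rfl⟩
      rw [orbitHom_of_mem_invariants x hr, hs₀, map_zero]
    intro a ha
    exact this ha)

theorem obar_mk
    (hequiv : (∀ s : S, HopfRep.Comod.coact (k := k) (A := A) (algebraMap S R s) =
      Algebra.TensorProduct.map (IsScalarTower.toAlgHom k S R) (AlgHom.id k A) (HopfRep.Comod.coact (k := k) (A := A) s)))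
    (hR₀ : (IsScalarTower.toAlgHom k R₀ R).range = GLin.invariants k A R)
    (x : R →ₐ[k] k) (s : S) :
    obar (S₀ := S₀) hequiv hR₀ x (Ideal.Quotient.mk _ s) = orbitHom k A x (algebraMap S R s) := rfl

theorem obar_algebraMap
    (hequiv : (∀ s : S, HopfRep.Comod.coact (k := k) (A := A) (algebraMap S R s) =
      Algebra.TensorProduct.map (IsScalarTower.toAlgHom k S R) (AlgHom.id k A) (HopfRep.Comod.coact (k := k) (A := A) s)))
    (hR₀ : (IsScalarTower.toAlgHom k R₀ R).range = GLin.invariants k A R)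
    (x : R →ₐ[k] k) (c : k) :
    obar (S₀ := S₀) hequiv hR₀ x (algebraMap k _ c) = algebraMap k A c := by
  have : algebraMap k (S ⧸ I₀ (S₀ := S₀) S x) c = Ideal.Quotient.mk _ (algebraMap k S c) := rfl
  rw [this, obar_mk, ← IsScalarTower.algebraMap_apply k S R]
  simp

theorem orbitHom_eq_obar_comp_psi
    (hequiv : (∀ s : S, HopfRep.Comod.coact (k := k) (A := A) (algebraMap S R s) =
      Algebra.TensorProduct.map (IsScalarTower.toAlgHom k S R) (AlgHom.id k A) (HopfRep.Comod.coact (k := k) (A := A) s)))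
    (hR₀ : (IsScalarTower.toAlgHom k R₀ R).range = GLin.invariants k A R)
    (hcart : Function.Bijective (Algebra.TensorProduct.productMap (IsScalarTower.toAlgHom S₀ S R) (IsScalarTower.toAlgHom S₀ R₀ R)))
    (x : R →ₐ[k] k) :
    (orbitHom k A x).toRingHom = (obar (S₀ := S₀) hequiv hR₀ x).comp (psi x hcart) := by
  apply ringHom_ext_of_cart (S₀ := S₀) (S := S) (R₀ := R₀) hcart.surjective
  · intro s
    simp only [RingHom.comp_apply, psi_algebraMap_S, obar_mk]
    rfl
  · intro r
    have hr : algebraMap R₀ R r ∈ GLin.invariants k A R := by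
      rw [← hR₀]; exact ⟨r, rfl⟩
    simp only [RingHom.comp_apply, psi_algebraMap_R₀, obar_algebraMap]
    exact orbitHom_of_mem_invariants x hr

theorem orbitHom_comp_eq_obar_comp_mk
    (hequiv : (∀ s : S, HopfRep.Comod.coact (k := k) (A := A) (algebraMap S R s) =
      Algebra.TensorProduct.map (IsScalarTower.toAlgHom k S R) (AlgHom.id k A) (HopfRep.Comod.coact (k := k) (A := A) s)))
    (hR₀ : (IsScalarTower.toAlgHom k R₀ R).range = GLin.invariants k A R)
    (x : R →ₐ[k] k) :
    (orbitHom k A (x.comp (IsScalarTower.toAlgHom k S R))).toRingHom =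
      (obar (S₀ := S₀) hequiv hR₀ x).comp (Ideal.Quotient.mk _) := by
  rw [orbitHom_comp hequiv x]
  apply RingHom.ext
  intro s
  rfl

theorem closedOrbit_iff
    (hequiv : (∀ s : S, HopfRep.Comod.coact (k := k) (A := A) (algebraMap S R s) =
      Algebra.TensorProduct.map (IsScalarTower.toAlgHom k S R) (AlgHom.id k A) (HopfRep.Comod.coact (k := k) (A := A) s)))
    (hR₀ : (IsScalarTower.toAlgHom k R₀ R).range = GLin.invariants k A R)
    (hcart : Function.Bijective (Algebra.TensorProduct.productMap (IsScalarTower.toAlgHom S₀ S R) (IsScalarTower.toAlgHom S₀ R₀ R)))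
    (x : R →ₐ[k] k) :
    GLin.IsClosedOrbit k A x ↔ GLin.IsClosedOrbit k A (x.comp (IsScalarTower.toAlgHom k S R)) := by
  unfold GLin.IsClosedOrbit
  rw [orbitHom_eq_obar_comp_psi (S₀ := S₀) hequiv hR₀ hcart x,
    orbitHom_comp_eq_obar_comp_mk (S₀ := S₀) (R₀ := R₀) hequiv hR₀ x,
    PrimeSpectrum.comap_comp, PrimeSpectrum.comap_comp]
  have e1 := PrimeSpectrum.isClosedEmbedding_comap_of_surjective _ (psi x hcart) (psi_surjective x hcart)
  have e2 := PrimeSpectrum.isClosedEmbedding_comap_of_surjective _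
    (Ideal.Quotient.mk (I₀ (S₀ := S₀) S x)) Ideal.Quotient.mk_surjective
  show IsClosed (Set.range (PrimeSpectrum.comap (psi x hcart) ∘ _)) ↔
    IsClosed (Set.range (PrimeSpectrum.comap (Ideal.Quotient.mk (I₀ (S₀ := S₀) S x)) ∘ _))
  rw [Set.range_comp, Set.range_comp, ← e1.isClosed_iff_image_isClosed,
    ← e2.isClosed_iff_image_isClosed]

end

end Groth.Agent.Lib.Helper7.SE
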