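import Groth.Agent.Lib.Helper7.Comod
import Groth.Agent.Lib.Helper7.DAnn
import Groth.Prelude.Def_ComodSub

/-!
# Local finiteness of comodules over a flat coalgebra over a Noetherian ring (helper7)
-/

set_option autoImplicit false
universe u v w w'
open TensorProduct

namespace Groth.Agent.Lib.Helper7.SerreFinMod

open HopfRep Groth.Agent.Lib.Helper7.Comod Groth.Agent.Lib.Helper7.DAnn

variable {R : Type u} [CommRing R] {C : Type v} [AddCommGroup C] [Module R C] [Coalgebra R C]
variable {M : Type w} [AddCommGroup M] [Module R M] [Comod R C M]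

/-- `W ⊗ C` inside `M ⊗ C`. -/
abbrev TT (W : Submodule R M) : Submodule R (M ⊗[R] C) := LinearMap.range (W.subtype.rTensor C)

omit [Coalgebra R C] [Comod R C M] in
lemma exists_fg_mem_TT (z : M ⊗[R] C) : ∃ W : Submodule R M, W.FG ∧ z ∈ TT (C := C) W := by
  induction z using TensorProduct.induction_on with
  | zero => exact ⟨⊥, Submodule.fg_bot, Submodule.zero_mem _⟩
  | tmul a b =>
    exact ⟨Submodule.span R {a}, Submodule.fg_span_singleton a,
      tmul_mem_range_rTensor (Submodule.mem_span_singleton_self a) b⟩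
  | add y z hy hz =>
    obtain ⟨W₁, h₁, hy⟩ := hy
    obtain ⟨W₂, h₂, hz⟩ := hz
    exact ⟨W₁ ⊔ W₂, h₁.sup h₂, Submodule.add_mem _ (range_rTensor_mono le_sup_left hy)
      (range_rTensor_mono le_sup_right hz)⟩

lemma exists_fg_forall_mem_TT (F : Finset M) :
    ∃ W : Submodule R M, W.FG ∧ ∀ f ∈ F, μ R C M f ∈ TT (C := C) W := by
  classical
  induction F using Finset.induction_on with
  | empty => exact ⟨⊥, Submodule.fg_bot, by simp⟩
  | insert a s _ ih =>
    obtain ⟨W₁, h₁, hs⟩ := ih
    obtain ⟨W₂, h₂, ha⟩ := exists_fg_mem_TT (C := C) (μ R C M a)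
    refine ⟨W₁ ⊔ W₂, h₁.sup h₂, ?_⟩
    intro f hf
    rw [Finset.mem_insert] at hf
    rcases hf with rfl | hf
    · exact range_rTensor_mono le_sup_right ha
    · exact range_rTensor_mono le_sup_left (hs f hf)

/-- the elements whose coaction lies in `W ⊗ C`. -/
def circ (W : Submodule R M) : Submodule R M := (TT (C := C) W).comap (μ R C M)

lemma circ_le (W : Submodule R M) : circ (C := C) W ≤ W := by
  intro a ha
  obtain ⟨y, hy⟩ := ha
  have h0 := LinearMap.congr_fun (Comod.counit_comp (k := R) (A := C) (V := M)) a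
  simp only [LinearMap.comp_apply, LinearMap.flip_apply, TensorProduct.mk_apply] at h0
  have h1 : a = TensorProduct.rid R M
      (LinearMap.lTensor M (Coalgebra.counit (R := R) (A := C)) (μ R C M a)) := by
    change a = TensorProduct.rid R M
      (LinearMap.lTensor M (Coalgebra.counit (R := R) (A := C)) (Comod.coact (k := R) (A := C) a))
    rw [h0, TensorProduct.rid_tmul, one_smul]
  rw [h1, ← hy]
  generalize y = y
  induction y using TensorProduct.induction_on with
  | zero => simp
  | tmul w b =>
    rw [LinearMap.rTensor_tmul, LinearMap.lTensor_tmul, TensorProduct.rid_tmul]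
    exact W.smul_mem _ w.2
  | add y z hy hz =>
    simp only [map_add]
    exact W.add_mem hy hz

/-- kernel-type subcomodules. -/
theorem isSubcomod_ker_of [Module.Flat R C] {Q : Type w'} [AddCommGroup Q] [Module R Q]
    (θ : M →ₗ[R] Q) (h : ∀ x ∈ LinearMap.ker θ, θ.rTensor C (μ R C M x) = 0) :
    IsSubcomod (k := R) (A := C) (LinearMap.ker θ) := by
  intro x hx
  have hex : Function.Exact ((LinearMap.ker θ).subtype.rTensor C) (θ.rTensor C) :=
    Module.Flat.rTensor_exact C (LinearMap.exact_subtype_ker_map θ)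
  exact (hex _).1 (h x hx)

/-- preimage of a subcomodule under a comodule map. -/
theorem isSubcomod_comap [Module.Flat R C] {N : Type w'} [AddCommGroup N] [Module R N]
    [Comod R C N] {f : M →ₗ[R] N} (hf : Hoch.IsComodHom C f) {Y : Submodule R N}
    (hY : IsSubcomod (k := R) (A := C) Y) : IsSubcomod (k := R) (A := C) (Y.comap f) := by
  have hker : LinearMap.ker (Y.mkQ ∘ₗ f) = Y.comap f := by
    ext x
    simp [LinearMap.mem_ker, Submodule.Quotient.mk_eq_zero]
  rw [← hker]
  apply isSubcomod_ker_of
  intro x hx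
  rw [hker] at hx
  rw [LinearMap.rTensor_comp, LinearMap.comp_apply, ← isComodHom_apply hf]
  obtain ⟨y, hy⟩ := hY (f x) hx
  rw [← hy, ← LinearMap.comp_apply, ← LinearMap.rTensor_comp]
  have : Y.mkQ ∘ₗ Y.subtype = 0 := by
    apply LinearMap.ext
    intro z
    simp
  rw [this, LinearMap.rTensor_zero, LinearMap.zero_apply]

theorem isSubcomod_circ [Module.Flat R C] (W : Submodule R M) :
    IsSubcomod (k := R) (A := C) (circ (C := C) W) := by
  set θ : M →ₗ[R] (M ⧸ W) ⊗[R] C := (W.mkQ.rTensor C) ∘ₗ μ R C M with hθ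
  have hex0 : Function.Exact (W.subtype.rTensor C) (W.mkQ.rTensor C) :=
    rTensor_exact C (LinearMap.exact_subtype_mkQ W) (Submodule.mkQ_surjective W)
  have hker : LinearMap.ker θ = circ (C := C) W := by
    ext b
    rw [LinearMap.mem_ker, hθ, LinearMap.comp_apply, hex0]
    rfl
  rw [← hker]
  apply isSubcomod_ker_of
  intro a ha
  rw [hker] at ha
  obtain ⟨y, hy⟩ := ha
  have hc := LinearMap.congr_fun (Comod.coassoc (k := R) (A := C) (V := M)) a
  simp only [LinearMap.comp_apply, LinearEquiv.coe_coe] at hc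
  rw [hθ, LinearMap.rTensor_comp, LinearMap.comp_apply]
  change ((W.mkQ.rTensor C).rTensor C) ((Comod.coact (k := R) (A := C)).rTensor C
    (Comod.coact (k := R) (A := C) a)) = 0
  rw [← LinearEquiv.symm_apply_apply (TensorProduct.assoc R M C C)
    ((Comod.coact (k := R) (A := C)).rTensor C (Comod.coact (k := R) (A := C) a)), hc]
  change _ = 0
  have hy' : Comod.coact (k := R) (A := C) a = W.subtype.rTensor C y := hy.symm
  rw [hy']
  generalize y = y
  induction y using TensorProduct.induction_on with
  | zero => simp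
  | tmul w b =>
    rw [LinearMap.rTensor_tmul, LinearMap.lTensor_tmul]
    generalize Coalgebra.comul (R := R) b = d
    induction d using TensorProduct.induction_on with
    | zero => simp
    | tmul b' b'' =>
      rw [TensorProduct.assoc_symm_tmul, LinearMap.rTensor_tmul, LinearMap.rTensor_tmul]
      have : W.mkQ (W.subtype w) = 0 := by simp
      rw [this, TensorProduct.zero_tmul, TensorProduct.zero_tmul]
    | add y z hy hz => simp only [TensorProduct.tmul_add, map_add, hy, hz, add_zero]
  | add y z hy hz => simp only [map_add, hy, hz, add_zero]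

/-- **Serre**: a finite subset of a comodule over a flat coalgebra over a Noetherian ring lies in
a finitely generated subcomodule. -/
theorem exists_fg_subcomod [IsNoetherianRing R] [Module.Flat R C] (F : Finset M) :
    ∃ V : Submodule R M, V.FG ∧ (↑F : Set M) ⊆ V ∧ IsSubcomod (k := R) (A := C) V := by
  obtain ⟨W, hW, hF⟩ := exists_fg_forall_mem_TT (R := R) (C := C) F
  refine ⟨circ (C := C) W, ?_, fun f hf => hF f hf, isSubcomod_circ W⟩
  haveI : IsNoetherian R W := isNoetherian_of_fg_of_noetherian W hW
  have h1 : ((circ (C := C) W).comap W.subtype).FG := IsNoetherian.noetherian _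
  have h2 : circ (C := C) W = ((circ (C := C) W).comap W.subtype).map W.subtype := by
    rw [Submodule.map_comap_eq, Submodule.range_subtype]
    exact (inf_eq_right.2 (circ_le W)).symm
  rw [h2]
  exact h1.map _

/-- the same inside a given subcomodule. -/
theorem exists_fg_subcomod_le [IsNoetherianRing R] [Module.Flat R C] (N : Submodule R M)
    (hN : IsSubcomod (k := R) (A := C) N) (F : Finset M) (hF : (↑F : Set M) ⊆ N) :
    ∃ V : Submodule R M, V.FG ∧ (↑F : Set M) ⊆ V ∧ V ≤ N ∧ IsSubcomod (k := R) (A := C) V := by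
  classical
  letI cN : Comod R C N := ComodSub.Comod.restr (inferInstance : Comod R C M) N hN
  have hι : Hoch.IsComodHom C N.subtype := ComodSub.isComodHom_subtype _ N hN
  let F' : Finset N := F.attach.image (fun x => (⟨x.1, hF (Finset.mem_coe.2 x.2)⟩ : N))
  obtain ⟨V', hfg, hFV, hV'⟩ := exists_fg_subcomod (R := R) (C := C) (M := N) F'
  refine ⟨V'.map N.subtype, hfg.map _, ?_, ?_, isSubcomod_map hι hV'⟩
  · intro x hx
    refine ⟨⟨x, hF hx⟩, hFV ?_, rfl⟩
    rw [Finset.mem_coe, Finset.mem_image]
    exact ⟨⟨x, Finset.mem_coe.1 hx⟩, Finset.mem_attach _ _, rfl⟩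
  · rintro _ ⟨y, -, rfl⟩
    exact y.2

end Groth.Agent.Lib.Helper7.SerreFinMod
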