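import Groth.Agent.Lib.Helper7.PadCP
import Groth.Prelude.Def_GLin

/-!
# The shear automorphism over a commutative ring and invariance of the padded characteristic
polynomial (helper7)
-/

set_option autoImplicit false

namespace Groth.Agent.Lib.Helper7.Shear

open TensorProduct HopfRep Module Groth.Agent.Lib.Helper7.PadCP

universe u v w

section Theta

variable (k : Type u) [CommRing k] (A : Type v) [CommRing A] [HopfAlgebra k A]
variable (T : Type w) [CommRing T] [Algebra k T]

/-- `b ↦ Σ (1 ⊗ b₁) ⊗ b₂`. -/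
noncomputable def gmap : A →ₐ[k] (T ⊗[k] A) ⊗[k] A :=
  (Algebra.TensorProduct.map (Algebra.TensorProduct.includeRight : A →ₐ[k] T ⊗[k] A)
    (AlgHom.id k A)).comp (Bialgebra.comulAlgHom k A)

/-- the shear automorphism `(t ⊗ a) ⊗ b ↦ Σ (t ⊗ a b₁) ⊗ b₂`, linear over `T ⊗ A`. -/
noncomputable def Theta : (T ⊗[k] A) ⊗[k] A →ₐ[T ⊗[k] A] (T ⊗[k] A) ⊗[k] A :=
  Algebra.TensorProduct.lift (Algebra.ofId (T ⊗[k] A) ((T ⊗[k] A) ⊗[k] A)) (gmap k A T)
    (fun _ _ => Commute.all _ _)

lemma Theta_tmul (s : T ⊗[k] A) (b : A) :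
    Theta k A T (s ⊗ₜ[k] b) = (s ⊗ₜ[k] (1 : A)) * gmap k A T b := by
  unfold Theta
  rw [Algebra.TensorProduct.lift_tmul]
  rfl

lemma Theta_incl (y : T ⊗[k] A) :
    Theta k A T (Algebra.TensorProduct.map
      (Algebra.TensorProduct.includeLeft : T →ₐ[k] T ⊗[k] A) (AlgHom.id k A) y) =
      (TensorProduct.assoc k T A A).symm (LinearMap.lTensor T (Coalgebra.comul (R := k)) y) := by
  induction y using TensorProduct.induction_on with
  | zero => simp
  | tmul t b =>
    rw [Algebra.TensorProduct.map_tmul, Theta_tmul, LinearMap.lTensor_tmul]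
    change ((t ⊗ₜ[k] (1 : A)) ⊗ₜ[k] (1 : A)) * (Algebra.TensorProduct.map
      (Algebra.TensorProduct.includeRight : A →ₐ[k] T ⊗[k] A) (AlgHom.id k A))
        (Coalgebra.comul (R := k) b) = _
    generalize Coalgebra.comul (R := k) b = d
    induction d using TensorProduct.induction_on with
    | zero => simp
    | tmul b' b'' =>
      rw [Algebra.TensorProduct.map_tmul]
      simp
    | add y z hy hz => simp only [map_add, mul_add, TensorProduct.tmul_add, hy, hz]
  | add y z hy hz => simp only [map_add, hy, hz]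

/-- `a ⊗ b ↦ Σ S(a) b₁ ⊗ b₂`. -/
noncomputable def Phi' : A ⊗[k] A →ₗ[k] A ⊗[k] A :=
  LinearMap.rTensor A (LinearMap.mul' k A ∘ₗ LinearMap.rTensor A (HopfAlgebra.antipode k (A := A))) ∘ₗ
    (TensorProduct.assoc k A A A).symm.toLinearMap ∘ₗ
      LinearMap.lTensor A (Coalgebra.comul (R := k) (A := A))

lemma Phi'_comul (b : A) : Phi' k A (Coalgebra.comul (R := k) b) = (1 : A) ⊗ₜ[k] b := by
  unfold Phi'
  rw [LinearMap.comp_apply, LinearMap.comp_apply, LinearEquiv.coe_coe,
    Coalgebra.coassoc_symm_apply, ← LinearMap.comp_apply, ← LinearMap.rTensor_comp,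
    LinearMap.comp_assoc, HopfAlgebra.mul_antipode_rTensor_comul, LinearMap.rTensor_comp,
    LinearMap.comp_apply, Coalgebra.rTensor_counit_comul]
  simp [Algebra.algebraMap_eq_smul_one]

/-- `b ↦ Σ (1 ⊗ S b₁) ⊗ b₂`. -/
noncomputable def gmap' : A →ₗ[k] (T ⊗[k] A) ⊗[k] A :=
  (TensorProduct.map ((Algebra.TensorProduct.includeRight : A →ₐ[k] T ⊗[k] A).toLinearMap ∘ₗ
    HopfAlgebra.antipode k (A := A)) LinearMap.id) ∘ₗ Coalgebra.comul (R := k) (A := A)

lemma Theta_map_antipode (d : A ⊗[k] A) :
    Theta k A T (TensorProduct.map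
      ((Algebra.TensorProduct.includeRight : A →ₐ[k] T ⊗[k] A).toLinearMap ∘ₗ
        HopfAlgebra.antipode k (A := A)) LinearMap.id d) =
      TensorProduct.map (Algebra.TensorProduct.includeRight : A →ₐ[k] T ⊗[k] A).toLinearMap
        LinearMap.id (Phi' k A d) := by
  induction d using TensorProduct.induction_on with
  | zero => simp
  | tmul a b =>
    rw [TensorProduct.map_tmul, LinearMap.comp_apply, LinearMap.id_apply, Theta_tmul]
    unfold Phi'
    rw [LinearMap.comp_apply, LinearMap.comp_apply, LinearMap.lTensor_tmul]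
    change _ * (Algebra.TensorProduct.map
      (Algebra.TensorProduct.includeRight : A →ₐ[k] T ⊗[k] A) (AlgHom.id k A))
        (Coalgebra.comul (R := k) b) = _
    generalize Coalgebra.comul (R := k) b = e
    induction e using TensorProduct.induction_on with
    | zero => simp
    | tmul b' b'' =>
      simp
    | add y z hy hz => simp only [map_add, mul_add, TensorProduct.tmul_add, hy, hz]
  | add y z hy hz => simp only [map_add, hy, hz]

lemma Theta_gmap' (b : A) : Theta k A T (gmap' k A T b) = (1 : T ⊗[k] A) ⊗ₜ[k] b := by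
  unfold gmap'
  rw [LinearMap.comp_apply, Theta_map_antipode, Phi'_comul, TensorProduct.map_tmul]
  simp [Algebra.TensorProduct.one_def]

lemma Theta_surjective : Function.Surjective (Theta k A T) := by
  intro z
  induction z using TensorProduct.induction_on with
  | zero => exact ⟨0, map_zero _⟩
  | tmul s b =>
    refine ⟨(s ⊗ₜ[k] (1 : A)) * gmap' k A T b, ?_⟩
    rw [map_mul, Theta_gmap', Theta_tmul, map_one, mul_one, Algebra.TensorProduct.tmul_mul_tmul,
      mul_one, one_mul]
  | add y z hy hz =>
    obtain ⟨y', rfl⟩ := hy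
    obtain ⟨z', rfl⟩ := hz
    exact ⟨y' + z', map_add _ _ _⟩

variable [Module.Finite k A]

lemma Theta_bijective : Function.Bijective (Theta k A T) := by
  refine ⟨?_, Theta_surjective k A T⟩
  exact OrzechProperty.injective_of_surjective_endomorphism (Theta k A T).toLinearMap
    (Theta_surjective k A T)

variable [Module.Projective k A]

lemma cpP_Theta (y : (T ⊗[k] A) ⊗[k] A) :
    cpP k A (T ⊗[k] A) (Theta k A T y) = cpP k A (T ⊗[k] A) y :=
  cpP_conj k A (T ⊗[k] A) (AlgEquiv.ofBijective (Theta k A T) (Theta_bijective k A T)) y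

end Theta

section Gen

variable {k : Type u} [CommRing k] {A : Type v} [CommRing A] [HopfAlgebra k A]
  [Module.Finite k A] [Module.Projective k A]
variable {T : Type w} [CommRing T] [Algebra k T] (ρT : T →ₐ[k] T ⊗[k] A)

/-- the counit retraction `T ⊗ A → T`. -/
noncomputable def epsT (k : Type u) [CommRing k] (A : Type v) [CommRing A] [HopfAlgebra k A]
    (T : Type w) [CommRing T] [Algebra k T] : T ⊗[k] A →ₐ[T] T :=
  Algebra.TensorProduct.lift (AlgHom.id T T) ((Algebra.ofId k T).comp (Bialgebra.counitAlgHom k A))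
    (fun _ _ => Commute.all _ _)

omit [Module.Finite k A] [Module.Projective k A] in
lemma epsT_tmul (t : T) (a : A) :
    epsT k A T (t ⊗ₜ[k] a) = t * algebraMap k T (Coalgebra.counit (R := k) a) := by
  unfold epsT
  rw [Algebra.TensorProduct.lift_tmul]
  rfl

/-- invariance of the characteristic polynomial of `ρ β` for a coassociative algebra coaction. -/
theorem cpP_map_coact
    (hco : ∀ β : T, Algebra.TensorProduct.map ρT (AlgHom.id k A) (ρT β) =
      (TensorProduct.assoc k T A A).symm (LinearMap.lTensor T (Coalgebra.comul (R := k)) (ρT β)))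
    (β : T) :
    (cpP k A T (ρT β)).map (ρT : T →+* T ⊗[k] A) =
      (cpP k A T (ρT β)).map
        ((Algebra.TensorProduct.includeLeft : T →ₐ[k] T ⊗[k] A) : T →+* T ⊗[k] A) := by
  have h1 := cpP_map k A ρT (ρT β)
  have h2 := cpP_map k A (Algebra.TensorProduct.includeLeft : T →ₐ[k] T ⊗[k] A) (ρT β)
  rw [hco β, ← Theta_incl, cpP_Theta, ← h2] at h1
  exact h1

/-- `β` is a root of the characteristic polynomial of `ρ β` for a counital coaction. -/
theorem aeval_cpP_coact (hcu : ∀ β : T, epsT k A T (ρT β) = β) (β : T) :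
    Polynomial.aeval β (cpP k A T (ρT β)) = 0 := by
  have h := aeval_cpP k A T (ρT β)
  have h2 := Polynomial.aeval_algHom_apply (epsT k A T) (ρT β) (cpP k A T (ρT β))
  rw [hcu] at h2
  rw [h2, h, map_zero]

end Gen

section Comod

variable {k : Type u} [CommRing k] {A : Type v} [CommRing A] [HopfAlgebra k A]
variable {B : Type w} [CommRing B] [Algebra k B] [Comod k A B] [GLin.IsCoactAlg k A B]

lemma coassoc_apply (b : B) :
    Algebra.TensorProduct.map (GLin.coactAlgHom k A B) (AlgHom.id k A) (GLin.coactAlgHom k A B b) =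
      (TensorProduct.assoc k B A A).symm
        (LinearMap.lTensor B (Coalgebra.comul (R := k)) (GLin.coactAlgHom k A B b)) := by
  have hc := LinearMap.congr_fun (Comod.coassoc (k := k) (A := A) (V := B)) b
  simp only [LinearMap.comp_apply, LinearEquiv.coe_coe] at hc
  rw [GLin.coactAlgHom_apply, ← hc, LinearEquiv.symm_apply_apply]
  generalize Comod.coact (k := k) (A := A) b = y
  induction y using TensorProduct.induction_on with
  | zero => simp
  | tmul x a => rfl
  | add y z hy hz => simp only [map_add, hy, hz]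

lemma epsT_coact (b : B) : epsT k A B (GLin.coactAlgHom k A B b) = b := by
  have h := LinearMap.congr_fun (Comod.counit_comp (k := k) (A := A) (V := B)) b
  simp only [LinearMap.comp_apply, LinearMap.flip_apply, TensorProduct.mk_apply] at h
  have h2 : ∀ z : B ⊗[k] A, epsT k A B z =
      TensorProduct.rid k B (LinearMap.lTensor B (Coalgebra.counit (R := k) (A := A)) z) := by
    intro z
    induction z using TensorProduct.induction_on with
    | zero => simp
    | tmul r a =>
      rw [epsT_tmul, LinearMap.lTensor_tmul, TensorProduct.rid_tmul]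
      simp [Algebra.algebraMap_eq_smul_one]
    | add y z hy hz => simp only [map_add, hy, hz]
  rw [h2, GLin.coactAlgHom_apply, h, TensorProduct.rid_tmul, one_smul]

variable [Module.Finite k A] [Module.Projective k A]

/-- the characteristic polynomial of `ρ b`. -/
noncomputable def cpol (b : B) : Polynomial B := cpP k A B (GLin.coactAlgHom k A B b)

lemma aeval_cpol (b : B) : Polynomial.aeval b (cpol (k := k) (A := A) b) = 0 :=
  aeval_cpP_coact (GLin.coactAlgHom k A B) epsT_coact b

lemma coeff_cpol_mem (b : B) (n : ℕ) :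
    (cpol (k := k) (A := A) b).coeff n ∈ GLin.invariants k A B := by
  have h1 := cpP_map_coact (GLin.coactAlgHom k A B) coassoc_apply b
  have h4 := congrArg (fun p => Polynomial.coeff p n) h1
  simp only [Polynomial.coeff_map] at h4
  exact h4

theorem isIntegral_invariants (b : B) : IsIntegral (GLin.invariants k A B) b := by
  rcases subsingleton_or_nontrivial B with hs | hn
  · rw [Subsingleton.elim b 0]
    exact isIntegral_zero
  have hl : cpol (k := k) (A := A) b ∈
      Polynomial.lifts (algebraMap (GLin.invariants k A B) B) := by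
    rw [Polynomial.lifts_iff_coeff_lifts]
    intro n
    exact ⟨⟨_, coeff_cpol_mem b n⟩, rfl⟩
  obtain ⟨q, hq, -, hqm⟩ := Polynomial.lifts_and_degree_eq_and_monic hl
    (cpP_monic k A B _)
  refine ⟨q, hqm, ?_⟩
  rw [Polynomial.eval₂_eq_eval_map, hq]
  have := aeval_cpol (k := k) (A := A) b
  rwa [Polynomial.coe_aeval_eq_eval] at this

end Comod

end Groth.Agent.Lib.Helper7.Shear
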