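import Groth.Agent.Lib.Helper7.ExtLine
import Groth.Agent.Lib.Helper7.HopfTwist

/-!
# The stabilizer of a subspace is the stabilizer of its determinant line (helper7)
-/

universe u v w x

open TensorProduct

namespace Groth.Agent.Lib.Helper7.StabLine

open HopfRep Groth.Agent.Lib.Helper7.ExtComod Groth.Agent.Lib.Helper7.ExtLine
  Groth.Agent.Lib.Helper7.Comod Groth.Agent.Lib.Helper7.StabTensor

section RLevel

variable {k : Type u} [Field k] {V : Type w} [AddCommGroup V] [Module k V]
  (W : Submodule k V) {d : ℕ} (bW : Module.Basis (Fin d) k W)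
  (R : Type x) [CommRing R] [Algebra k R]

/-- if `y ∧ ω = 0` then `y ∈ W ⊗ R`. -/
lemma mem_of_θ_mul_ω_eq_zero (y : V ⊗[k] R)
    (h : θ R y * (ω W bW ⊗ₜ[k] (1 : R)) = 0) : y ∈ LinearMap.range (W.subtype.rTensor R) := by
  rw [mem_range_rTensor_iff_contrL]
  intro φ hφ
  -- a functional with `ψ ω = 1`
  obtain ⟨ψ, hψ⟩ : ∃ ψ : ExteriorAlgebra k V →ₗ[k] k, ψ (ω W bW) = 1 := by
    obtain ⟨f, hf⟩ := Submodule.exists_le_ker_of_notMem
      (p := (⊥ : Submodule k (ExteriorAlgebra k V))) (v := ω W bW) (by simpa using ω_ne_zero W bW)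
    refine ⟨(f (ω W bW))⁻¹ • f, ?_⟩
    rw [LinearMap.smul_apply, smul_eq_mul, inv_mul_cancel₀ hf.1]
  have key : ∀ z : V ⊗[k] R,
      LinearMap.rTensor R (CliffordAlgebra.contractLeft (Q := (0 : QuadraticForm k V)) φ)
        (θ R z * (ω W bW ⊗ₜ[k] (1 : R))) = ω W bW ⊗ₜ[k] contrL R φ z := by
    intro z
    induction z using TensorProduct.induction_on with
    | zero => simp
    | add a b ha hb => simp only [map_add, add_mul, ha, hb, TensorProduct.tmul_add]
    | tmul v r =>
      rw [θ_tmul, Algebra.TensorProduct.tmul_mul_tmul, mul_one, LinearMap.rTensor_tmul,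
        contractLeft_ι_mul_ω W bW φ hφ, contrL_tmul, TensorProduct.smul_tmul]
  have h1 := key y
  rw [h, map_zero] at h1
  have h2 := congrArg (contrL R ψ) h1
  rw [map_zero, contrL_tmul, hψ, one_smul] at h2
  exact h2.symm

/-- the span of the wedges of `m` vectors of `W`. -/
noncomputable def Q (m : ℕ) : Submodule k (ExteriorAlgebra k V) :=
  Submodule.span k (Set.range fun u : Fin m → W =>
    ExteriorAlgebra.ιMulti k m (fun i => ((u i : W) : V)))

lemma one_mem_Q : (1 : ExteriorAlgebra k V) ∈ Q W 0 := by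
  refine Submodule.subset_span ⟨fun i => i.elim0, ?_⟩
  simp

lemma ι_mul_mem_Q {w : V} (hw : w ∈ W) {m : ℕ} {q : ExteriorAlgebra k V} (hq : q ∈ Q W m) :
    ExteriorAlgebra.ι k w * q ∈ Q W (m + 1) := by
  induction hq using Submodule.span_induction with
  | mem x hx =>
    obtain ⟨u, rfl⟩ := hx
    refine Submodule.subset_span ⟨Matrix.vecCons ⟨w, hw⟩ u, ?_⟩
    change ExteriorAlgebra.ιMulti k (m + 1)
      (fun i => ((Matrix.vecCons (⟨w, hw⟩ : W) u i : W) : V)) =
        ExteriorAlgebra.ι k w * ExteriorAlgebra.ιMulti k m (fun i => ((u i : W) : V))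
    rw [ExteriorAlgebra.ιMulti_succ_apply]
    rfl
  | zero => rw [mul_zero]; exact Submodule.zero_mem _
  | add x y _ _ hx hy => rw [mul_add]; exact Submodule.add_mem _ hx hy
  | smul a x _ hx => rw [mul_smul_comm]; exact Submodule.smul_mem _ _ hx

lemma Q_le_span : Q W d ≤ Submodule.span k {ω W bW} := by
  unfold Q
  rw [Submodule.span_le]
  rintro _ ⟨u, rfl⟩
  change ExteriorAlgebra.ιMulti k d (fun i => ((u i : W) : V)) ∈ Submodule.span k {ω W bW}
  rw [ιMulti_eq_det_smul W bW u]
  exact Submodule.smul_mem _ _ (Submodule.subset_span rfl)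

/-- the `R`-span of `Q m`. -/
noncomputable def X (m : ℕ) : Submodule k (ExteriorAlgebra k V ⊗[k] R) :=
  LinearMap.range ((Q W m).subtype.rTensor R)

lemma θ_mul_mem_X {y : V ⊗[k] R} (hy : y ∈ LinearMap.range (W.subtype.rTensor R)) {m : ℕ}
    {x : ExteriorAlgebra k V ⊗[k] R} (hx : x ∈ X W R m) : θ R y * x ∈ X W R (m + 1) := by
  obtain ⟨y', rfl⟩ := hy
  obtain ⟨x', rfl⟩ := hx
  induction y' using TensorProduct.induction_on with
  | zero => simp
  | add a b ha hb =>
    rw [map_add, map_add, add_mul]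
    exact Submodule.add_mem _ ha hb
  | tmul w r =>
    induction x' using TensorProduct.induction_on with
    | zero => simp
    | add a b ha hb =>
      rw [map_add, mul_add]
      exact Submodule.add_mem _ ha hb
    | tmul q r' =>
      simp only [LinearMap.rTensor_tmul, Submodule.subtype_apply,
        Algebra.TensorProduct.tmul_mul_tmul]
      exact ⟨(⟨_, ι_mul_mem_Q W w.2 q.2⟩ : Q W (m + 1)) ⊗ₜ[k] (r * r'), rfl⟩

lemma prod_mem_X : ∀ l : List (V ⊗[k] R),
    (∀ y ∈ l, y ∈ LinearMap.range (W.subtype.rTensor R)) →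
      (l.map (θ R)).prod ∈ X W R l.length := by
  intro l
  induction l with
  | nil =>
    intro _
    rw [List.map_nil, List.prod_nil, List.length_nil]
    exact ⟨(⟨1, one_mem_Q W⟩ : Q W 0) ⊗ₜ[k] (1 : R), rfl⟩
  | cons y l ih =>
    intro h
    rw [List.map_cons, List.prod_cons, List.length_cons]
    exact θ_mul_mem_X W R (h y (List.mem_cons_self)) (ih (fun z hz => h z (List.mem_cons_of_mem _ hz)))

lemma exists_eq_ω_tmul {x : ExteriorAlgebra k V ⊗[k] R} (hx : x ∈ X W R d) :
    ∃ c : R, x = ω W bW ⊗ₜ[k] c := by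
  obtain ⟨x', rfl⟩ := hx
  induction x' using TensorProduct.induction_on with
  | zero => exact ⟨0, by simp⟩
  | add a b ha hb =>
    obtain ⟨c, hc⟩ := ha
    obtain ⟨c', hc'⟩ := hb
    exact ⟨c + c', by rw [map_add, hc, hc', TensorProduct.tmul_add]⟩
  | tmul q r =>
    obtain ⟨a, ha⟩ := Submodule.mem_span_singleton.1 (Q_le_span W bW q.2)
    refine ⟨a • r, ?_⟩
    rw [LinearMap.rTensor_tmul, Submodule.subtype_apply, ← ha, TensorProduct.smul_tmul]

end RLevel

section Unit

variable {k : Type u} [Field k] {A : Type v} [CommRing A] [HopfAlgebra k A]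
  {V : Type w} [AddCommGroup V] [Module k V] [Comod k A V]
  {R : Type x} [CommRing R] [Algebra k R] (g : A →ₐ[k] R)

omit [Comod k A V] in
lemma lTensor_rmul (a : A) (z : V ⊗[k] A) :
    LinearMap.lTensor V g.toLinearMap (rmul V a z) =
      rmul V (g a) (LinearMap.lTensor V g.toLinearMap z) := by
  induction z using TensorProduct.induction_on with
  | zero => simp
  | tmul u b => simp
  | add y z hy hz => simp only [map_add, hy, hz]

/-- `u ⊗ s ↦ Σ u₀ ⊗ h(u₁) s`. -/
noncomputable def extR (h : A →ₗ[k] R) : V ⊗[k] R →ₗ[k] V ⊗[k] R :=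
  LinearMap.lTensor V (LinearMap.mul' k R) ∘ₗ (TensorProduct.assoc k V R R).toLinearMap ∘ₗ
    LinearMap.rTensor R (LinearMap.lTensor V h ∘ₗ Comod.coact (k := k) (A := A))

lemma extR_tmul (h : A →ₗ[k] R) (u : V) (s : R) :
    extR h (u ⊗ₜ[k] s) = rmul V s (LinearMap.lTensor V h (Comod.coact (k := k) (A := A) u)) := by
  simp only [extR, LinearMap.comp_apply, LinearMap.rTensor_tmul, LinearEquiv.coe_coe]
  generalize Comod.coact (k := k) (A := A) u = y
  induction y using TensorProduct.induction_on with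
  | zero => simp
  | tmul u b => simp
  | add y z hy hz => simp only [map_add, TensorProduct.add_tmul, hy, hz]

lemma lTensor_tw (f : A →ₗ[k] A) (y : V ⊗[k] A) :
    LinearMap.lTensor V g.toLinearMap (tw V f y) =
      extR (g.toLinearMap ∘ₗ f) (LinearMap.lTensor V g.toLinearMap y) := by
  induction y using TensorProduct.induction_on with
  | zero => simp
  | tmul u a =>
    rw [tw_tmul, lTensor_rmul, LinearMap.lTensor_tmul, extR_tmul, LinearMap.lTensor_comp]
    rfl
  | add y z hy hz => simp only [map_add, hy, hz]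

omit [HopfAlgebra k A] [Comod k A V] in
lemma contrL_rmul (ψ : V →ₗ[k] k) (s : R) (z : V ⊗[k] R) :
    contrL R ψ (rmul V s z) = contrL R ψ z * s := by
  induction z using TensorProduct.induction_on with
  | zero => simp
  | tmul u b => simp
  | add y z hy hz => simp only [map_add, hy, hz, add_mul]

/-- the eigenvalue of a point on a stable line is a unit. -/
theorem isUnit_of_stabilizesLine {v : V} (hv : v ≠ 0) {r : R}
    (h : LinearMap.lTensor V g.toLinearMap (Comod.coact (k := k) (A := A) v) = v ⊗ₜ[k] r) :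
    IsUnit r := by
  obtain ⟨ψ, hψ⟩ : ∃ ψ : V →ₗ[k] k, ψ v = 1 := by
    obtain ⟨f, hf⟩ := Submodule.exists_le_ker_of_notMem (p := (⊥ : Submodule k V)) (v := v)
      (by simpa using hv)
    refine ⟨(f v)⁻¹ • f, ?_⟩
    rw [LinearMap.smul_apply, smul_eq_mul, inv_mul_cancel₀ hf.1]
  have h1 := congrArg (LinearMap.lTensor V g.toLinearMap)
    (tw_antipode_coact (k := k) (A := A) v)
  rw [lTensor_tw, h, extR_tmul, LinearMap.lTensor_tmul] at h1
  have h2 := congrArg (contrL R ψ) h1
  rw [contrL_rmul, contrL_tmul, hψ, one_smul, AlgHom.toLinearMap_apply, map_one] at h2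
  exact IsUnit.of_mul_eq_one_right _ h2

end Unit

section Main

variable {k : Type u} [Field k] {A : Type v} [CommRing A] [HopfAlgebra k A]
  {V : Type w} [AddCommGroup V] [Module k V] (c : Comod k A V)
  (W : Submodule k V) {d : ℕ} (bW : Module.Basis (Fin d) k W)
  {R : Type x} [CommRing R] [Algebra k R] (g : A →ₐ[k] R)

/-- a point stabilizes the determinant line of `W` iff it stabilizes `W`. -/
theorem stabilizesLine_iff :
    (∃ r : R, LinearMap.lTensor (ExteriorAlgebra k V) g.toLinearMap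
        ((extComod c).coact (ω W bW)) = ω W bW ⊗ₜ[k] r) ↔
      ∀ w ∈ W, LinearMap.lTensor V g.toLinearMap (c.coact w) ∈
        LinearMap.range (W.subtype.rTensor R) := by
  constructor
  · rintro ⟨r, hr⟩ w hw
    have hunit : IsUnit r := by
      letI := extComod c
      exact isUnit_of_stabilizesLine g (ω_ne_zero W bW) hr
    obtain ⟨r', hr'⟩ := hunit.exists_right_inv
    rw [lTensor_coact_eq] at hr
    apply mem_of_θ_mul_ω_eq_zero W bW R
    have h1 : extAct c g (ExteriorAlgebra.ι k w * ω W bW) = 0 := by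
      rw [ι_mul_ω W bW hw, map_zero]
    rw [map_mul, extAct_ι, hr] at h1
    have h2 : ω W bW ⊗ₜ[k] (1 : R) = (ω W bW ⊗ₜ[k] r) * ((1 : ExteriorAlgebra k V) ⊗ₜ[k] r') := by
      rw [Algebra.TensorProduct.tmul_mul_tmul, mul_one, hr']
    rw [h2, ← mul_assoc, h1, zero_mul]
  · intro h
    rw [lTensor_coact_eq]
    unfold ω
    rw [extAct_ιMulti]
    have h1 : (List.ofFn fun i => θ R (LinearMap.lTensor V g.toLinearMap
        (c.coact ((bW i : W) : V)))) =
        (List.ofFn fun i => LinearMap.lTensor V g.toLinearMap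
          (c.coact ((bW i : W) : V))).map (θ R) := by
      rw [List.map_ofFn]
      rfl
    rw [h1]
    have h2 := prod_mem_X W R (List.ofFn fun i => LinearMap.lTensor V g.toLinearMap
      (c.coact ((bW i : W) : V))) (by
        intro y hy
        rw [List.mem_ofFn] at hy
        obtain ⟨i, rfl⟩ := hy
        exact h _ (bW i).2)
    rw [List.length_ofFn] at h2
    exact exists_eq_ω_tmul W bW R h2

end Main

end Groth.Agent.Lib.Helper7.StabLine
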