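import Groth.Agent.Lib.Helper7.InertiaConj

/-!
# The universal stabiliser and its support (helper7)
-/

set_option autoImplicit false
universe u
open TensorProduct

namespace Groth.Agent.Lib.Helper7.StabMod

open HopfRep Groth.Agent.Lib.Helper7.Transit Groth.Agent.Lib.Helper7.AffPt
  Groth.Agent.Lib.Helper7.InertiaConj Groth.Agent.Lib.Helper7.Shear

variable (R : Type u) [CommRing R] (A B : Type u) [CommRing A] [HopfAlgebra R A] [CommRing B]
  [Algebra R B] [Comod R A B] [GLin.IsCoactAlg R A B]

/-- the ideal of the universal stabiliser in `B ⊗ A`. -/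
def stabI : Ideal (B ⊗[R] A) :=
  Ideal.span (Set.range fun b : B => GLin.coactAlgHom R A B b - b ⊗ₜ[R] (1 : A))

/-- the coordinate ring of the universal stabiliser. -/
abbrev SS : Type u := (B ⊗[R] A) ⧸ stabI R A B

/-- the cokernel of `B → O(Stab)`. -/
abbrev NN : Type u := SS R A B ⧸ (1 : Submodule B (SS R A B))

instance [Module.Finite R A] : Module.Finite B (SS R A B) :=
  Module.Finite.of_surjective (Ideal.Quotient.mkₐ B (stabI R A B)).toLinearMap
    (Ideal.Quotient.mkₐ_surjective B (stabI R A B))

variable {R A B}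

lemma epsT_mem_stabI {z : B ⊗[R] A} (hz : z ∈ stabI R A B) : epsT R A B z = 0 := by
  have : stabI R A B ≤ RingHom.ker (epsT R A B : B ⊗[R] A →+* B) := by
    unfold stabI
    rw [Ideal.span_le]
    rintro _ ⟨b, rfl⟩
    change epsT R A B (GLin.coactAlgHom R A B b - b ⊗ₜ[R] (1 : A)) = 0
    rw [map_sub, epsT_coact, epsT_tmul]
    simp
  exact this hz

lemma lift_mem_stabI {L : Type u} [CommRing L] [Algebra R L] {ξ : B →ₐ[R] L} {gam : A →ₐ[R] L}
    (hfix : actP ξ gam = ξ) {z : B ⊗[R] A} (hz : z ∈ stabI R A B) :
    Algebra.TensorProduct.lift ξ gam (fun _ _ => Commute.all _ _) z = 0 := by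
  have : stabI R A B ≤ RingHom.ker
      (Algebra.TensorProduct.lift ξ gam (fun _ _ => Commute.all _ _) : B ⊗[R] A →+* L) := by
    unfold stabI
    rw [Ideal.span_le]
    rintro _ ⟨b, rfl⟩
    change Algebra.TensorProduct.lift ξ gam (fun _ _ => Commute.all _ _)
      (GLin.coactAlgHom R A B b - b ⊗ₜ[R] (1 : A)) = 0
    rw [map_sub, Algebra.TensorProduct.lift_tmul, map_one, mul_one]
    have := AlgHom.congr_fun hfix b
    rw [AlgHom.comp_apply] at this
    rw [this, sub_self]
  exact this hz

/-- an element of `B` which kills `NN`, and is invertible at a point, forces stabilisers at that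
point to be trivial. -/
theorem eq_unitHom_of_mem_annihilator {f : B} (hf : f ∈ Module.annihilator B (NN R A B))
    {L : Type u} [CommRing L] [Algebra R L] (ξ : B →ₐ[R] L) (gam : A →ₐ[R] L)
    (hu : IsUnit (ξ f)) (hfix : actP ξ gam = ξ) : gam = unitHom A L := by
  apply AlgHom.ext
  intro a
  set z : B ⊗[R] A := (1 : B) ⊗ₜ[R] a - algebraMap R (B ⊗[R] A) (Coalgebra.counit (R := R) a) with hz
  have hez : epsT R A B z = 0 := by
    rw [hz, map_sub, epsT_tmul, one_mul, IsScalarTower.algebraMap_apply R B (B ⊗[R] A),
      AlgHom.commutes]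
    simp
  have h1 : f • (Submodule.mkQ (1 : Submodule B (SS R A B)) (Ideal.Quotient.mk (stabI R A B) z)) = 0 :=
    Module.mem_annihilator.1 hf _
  rw [← map_smul, Submodule.mkQ_apply, Submodule.Quotient.mk_eq_zero, Submodule.mem_one] at h1
  obtain ⟨b, hb⟩ := h1
  have h2 : f • z - algebraMap B (B ⊗[R] A) b ∈ stabI R A B := by
    rw [← Ideal.Quotient.eq_zero_iff_mem, map_sub, sub_eq_zero]
    exact hb.symm
  have h3 := epsT_mem_stabI h2
  rw [map_sub, map_smul, hez, smul_zero, zero_sub, neg_eq_zero, AlgHom.commutes] at h3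
  have hb0 : b = 0 := h3
  rw [hb0, map_zero, sub_zero] at h2
  have h4 := lift_mem_stabI hfix h2
  have h5 : f • z = (f ⊗ₜ[R] (1 : A)) * z := by
    rw [Algebra.smul_def]
    rfl
  rw [h5, map_mul, Algebra.TensorProduct.lift_tmul, map_one, mul_one] at h4
  have h6 := (hu.mul_right_eq_zero).1 h4
  rw [hz, map_sub, Algebra.TensorProduct.lift_tmul, map_one, one_mul, AlgHom.commutes,
    sub_eq_zero] at h6
  rw [h6]
  rfl

section Fibre

variable [Module.Finite R A] (p : PrimeSpectrum B)

/-- the canonical point at a prime of `B`. -/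
noncomputable def xP : B →ₐ[R] p.asIdeal.ResidueField := IsScalarTower.toAlgHom R B _

/-- the key computation: a compatible pair of maps out of the residue field and the universal
stabiliser gives a fixed pair of points. -/
theorem key {L : Type u} [CommRing L] [Algebra R L] (h : p.asIdeal.ResidueField →ₐ[R] L)
    (σ : SS R A B →ₐ[R] L)
    (hc : ∀ b : B, h (algebraMap B p.asIdeal.ResidueField b) = σ (algebraMap B (SS R A B) b))
    (H : InT (A := A) (xP (R := R) p)) (a : A) :
    σ (Ideal.Quotient.mk (stabI R A B) ((1 : B) ⊗ₜ[R] a)) =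
      algebraMap R L (Coalgebra.counit (R := R) a) := by
  set gam : A →ₐ[R] L := σ.comp (((Ideal.Quotient.mkₐ B (stabI R A B)).restrictScalars R).comp
      (Algebra.TensorProduct.includeRight : A →ₐ[R] B ⊗[R] A)) with hgam
  have hl : ∀ z : B ⊗[R] A,
      Algebra.TensorProduct.lift (h.comp (xP p)) gam (fun _ _ => Commute.all _ _) z =
        σ (Ideal.Quotient.mk (stabI R A B) z) := by
    intro z
    induction z using TensorProduct.induction_on with
    | zero => simp
    | tmul b a =>
      rw [Algebra.TensorProduct.lift_tmul]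
      change h (algebraMap B p.asIdeal.ResidueField b) *
        σ (Ideal.Quotient.mk (stabI R A B) ((1 : B) ⊗ₜ[R] a)) = _
      rw [hc, ← map_mul]
      congr 1
      change Ideal.Quotient.mk (stabI R A B) (b ⊗ₜ[R] (1 : A)) * _ = _
      rw [← map_mul, Algebra.TensorProduct.tmul_mul_tmul, mul_one, one_mul]
    | add y z hy hz => simp only [map_add, hy, hz]
  have hfix : actP (h.comp (xP p)) gam = h.comp (xP p) := by
    apply AlgHom.ext
    intro b
    rw [AlgHom.comp_apply, hl]
    have h1 : Ideal.Quotient.mk (stabI R A B) (GLin.coactAlgHom R A B b) =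
        Ideal.Quotient.mk (stabI R A B) (b ⊗ₜ[R] (1 : A)) := by
      rw [Ideal.Quotient.eq]
      exact Ideal.subset_span ⟨b, rfl⟩
    rw [h1, ← hl, Algebra.TensorProduct.lift_tmul, map_one, mul_one]
  have hg := H L h gam hfix
  have := AlgHom.congr_fun hg a
  rw [hgam] at this
  exact this

/-- trivial inertia at the canonical point of `p` removes `p` from the support of `NN`. -/
theorem notMem_support_of_inT (H : InT (A := A) (xP (R := R) p)) :
    p ∉ Module.support B (NN R A B) := by
  rw [Module.mem_support_iff_nontrivial_residueField_tensorProduct, not_nontrivial_iff_subsingleton]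
  -- the map to the fibre of `NN`
  set q : SS R A B →ₗ[B] NN R A B := Submodule.mkQ (1 : Submodule B (SS R A B)) with hq
  have hc : ∀ b : B, (Algebra.TensorProduct.includeLeft :
      p.asIdeal.ResidueField →ₐ[R] p.asIdeal.ResidueField ⊗[B] SS R A B)
        (algebraMap B p.asIdeal.ResidueField b) =
      ((Algebra.TensorProduct.includeRight :
        SS R A B →ₐ[B] p.asIdeal.ResidueField ⊗[B] SS R A B).restrictScalars R)
        (algebraMap B (SS R A B) b) := by
    intro b
    change (algebraMap B p.asIdeal.ResidueField b) ⊗ₜ[B] (1 : SS R A B) =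
      (1 : p.asIdeal.ResidueField) ⊗ₜ[B] (algebraMap B (SS R A B) b)
    rw [Algebra.algebraMap_eq_smul_one (A := p.asIdeal.ResidueField), TensorProduct.smul_tmul,
      Algebra.algebraMap_eq_smul_one (A := SS R A B)]
  have h1 : ∀ a : A, (1 : p.asIdeal.ResidueField) ⊗ₜ[B]
      q (Ideal.Quotient.mk (stabI R A B) ((1 : B) ⊗ₜ[R] a)) = 0 := by
    intro a
    have h2 := key (L := p.asIdeal.ResidueField ⊗[B] SS R A B) p
      (Algebra.TensorProduct.includeLeft :
        p.asIdeal.ResidueField →ₐ[R] p.asIdeal.ResidueField ⊗[B] SS R A B)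
      ((Algebra.TensorProduct.includeRight :
        SS R A B →ₐ[B] p.asIdeal.ResidueField ⊗[B] SS R A B).restrictScalars R) hc H a
    have h3 : (algebraMap R p.asIdeal.ResidueField (Coalgebra.counit (R := R) a)) ⊗ₜ[B]
        (1 : SS R A B) =
        (1 : p.asIdeal.ResidueField) ⊗ₜ[B]
          (algebraMap B (SS R A B) (algebraMap R B (Coalgebra.counit (R := R) a))) := by
      rw [IsScalarTower.algebraMap_apply R B p.asIdeal.ResidueField,
        Algebra.algebraMap_eq_smul_one (A := p.asIdeal.ResidueField), TensorProduct.smul_tmul,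
        Algebra.algebraMap_eq_smul_one (A := SS R A B)]
    change (1 : p.asIdeal.ResidueField) ⊗ₜ[B]
      (Ideal.Quotient.mk (stabI R A B) ((1 : B) ⊗ₜ[R] a)) =
        (algebraMap R p.asIdeal.ResidueField (Coalgebra.counit (R := R) a)) ⊗ₜ[B]
        (1 : SS R A B) at h2
    rw [h3] at h2
    have h4 := congrArg (LinearMap.lTensor p.asIdeal.ResidueField q) h2
    rw [LinearMap.lTensor_tmul, LinearMap.lTensor_tmul] at h4
    rw [h4]
    have h5 : q (algebraMap B (SS R A B) (algebraMap R B (Coalgebra.counit (R := R) a))) = 0 := by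
      rw [hq, Submodule.mkQ_apply, Submodule.Quotient.mk_eq_zero, Submodule.mem_one]
      exact ⟨_, rfl⟩
    rw [h5, TensorProduct.tmul_zero]
  have h2 : ∀ z : B ⊗[R] A, (1 : p.asIdeal.ResidueField) ⊗ₜ[B]
      q (Ideal.Quotient.mk (stabI R A B) z) = 0 := by
    intro z
    induction z using TensorProduct.induction_on with
    | zero => simp
    | tmul b a =>
      have e : Ideal.Quotient.mk (stabI R A B) (b ⊗ₜ[R] a) =
          b • Ideal.Quotient.mk (stabI R A B) ((1 : B) ⊗ₜ[R] a) := by
        have : b ⊗ₜ[R] a = b • ((1 : B) ⊗ₜ[R] a) := by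
          rw [TensorProduct.smul_tmul', smul_eq_mul, mul_one]
        rw [this]
        rfl
      rw [e, map_smul, ← TensorProduct.smul_tmul, ← TensorProduct.smul_tmul', h1, smul_zero]
    | add y z hy hz => simp only [map_add, TensorProduct.tmul_add, hy, hz, add_zero]
  refine ⟨fun s t => ?_⟩
  have h3 : ∀ s : p.asIdeal.ResidueField ⊗[B] NN R A B, s = 0 := by
    intro s
    induction s using TensorProduct.induction_on with
    | zero => rfl
    | tmul c n =>
      obtain ⟨s', rfl⟩ := Submodule.mkQ_surjective (1 : Submodule B (SS R A B)) n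
      obtain ⟨z, rfl⟩ := Ideal.Quotient.mk_surjective s'
      have := h2 z
      have e : c ⊗ₜ[B] q (Ideal.Quotient.mk (stabI R A B) z) =
          c • ((1 : p.asIdeal.ResidueField) ⊗ₜ[B] q (Ideal.Quotient.mk (stabI R A B) z)) := by
        rw [TensorProduct.smul_tmul', smul_eq_mul, mul_one]
      rw [← hq, e, this, smul_zero]
    | add y z hy hz => rw [hy, hz, add_zero]
  rw [h3 s, h3 t]

end Fibre

section Main

variable [Module.Finite R A] [Module.Projective R A]

instance : Module.Finite B (NN R A B) :=
  Module.Finite.of_surjective (Submodule.mkQ (1 : Submodule B (SS R A B)))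
    (Submodule.mkQ_surjective _)

/-- a prime of `B` over the image in the quotient of a point with trivial inertia is not in the
support of `NN`. -/
theorem annihilator_not_le {K : Type u} [Field K] [Algebra R K] (x : B →ₐ[R] K)
    (H : InT (A := A) x) (p : PrimeSpectrum B)
    (hp : RingHom.ker ((x : B →+* K).comp (GLin.invariants R A B).val.toRingHom) =
      p.asIdeal.comap (GLin.invariants R A B).val.toRingHom) :
    ¬ (Module.annihilator B (NN R A B) ≤ p.asIdeal) := by
  have hker : RingHom.ker ((x : B →+* K).comp (GLin.invariants R A B).val.toRingHom) =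
      RingHom.ker (((xP (R := R) p) : B →+* p.asIdeal.ResidueField).comp
        (GLin.invariants R A B).val.toRingHom) := by
    rw [hp]
    ext c
    rw [Ideal.mem_comap, RingHom.mem_ker, RingHom.comp_apply]
    exact (Ideal.algebraMap_residueField_eq_zero).symm
  have H' := inT_of_inT x (xP p) hker H
  have := notMem_support_of_inT p H'
  rwa [Module.mem_support_iff_of_finite] at this

/-- trivial inertia at `x` gives an invariant function, nonzero at `x`, over whose nonvanishing
locus all stabilisers are trivial. -/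
theorem exists_mem_annihilator {K : Type u} [Field K] [Algebra R K] (x : B →ₐ[R] K)
    (H : InT (A := A) x) :
    ∃ f : GLin.invariants R A B, x (f : B) ≠ 0 ∧ (f : B) ∈ Module.annihilator B (NN R A B) := by
  by_contra hcon
  push Not at hcon
  haveI : (RingHom.ker ((x : B →+* K).comp (GLin.invariants R A B).val.toRingHom)).IsPrime :=
    RingHom.ker_isPrime _
  haveI : Algebra.IsIntegral (GLin.invariants R A B) B := ⟨isIntegral_invariants⟩
  have hle : (Module.annihilator B (NN R A B)).comap (algebraMap (GLin.invariants R A B) B) ≤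
      RingHom.ker ((x : B →+* K).comp (GLin.invariants R A B).val.toRingHom) := by
    intro f hf
    by_contra hne
    exact hcon f hne hf
  obtain ⟨Q, hQ, hQp, hQc⟩ := Ideal.exists_ideal_over_prime_of_isIntegral _ _ hle
  exact annihilator_not_le x H ⟨Q, hQp⟩ hQc.symm hQ

/-- over a local base with quotient the base, trivial inertia at a point over the closed point
kills `NN`. -/
theorem annihilator_eq_top [IsLocalRing R]
    (hC : Function.Bijective (algebraMap R (GLin.invariants R A B)))
    {K : Type u} [Field K] [Algebra R K]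
    (hK : RingHom.ker (algebraMap R K) = IsLocalRing.maximalIdeal R)
    (x : B →ₐ[R] K) (H : InT (A := A) x) : Module.annihilator B (NN R A B) = ⊤ := by
  by_contra hne
  obtain ⟨M, hM, hle⟩ := Ideal.exists_le_maximal _ hne
  haveI : Algebra.IsIntegral (GLin.invariants R A B) B := ⟨isIntegral_invariants⟩
  haveI : Algebra.IsIntegral R (GLin.invariants R A B) := Algebra.isIntegral_of_surjective hC.2
  haveI : Algebra.IsIntegral R B := Algebra.IsIntegral.trans (GLin.invariants R A B)
  haveI := Ideal.isMaximal_comap_of_isIntegral_of_isMaximal (R := R) M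
  have hm : M.comap (algebraMap R B) = IsLocalRing.maximalIdeal R :=
    IsLocalRing.eq_maximalIdeal this
  refine annihilator_not_le x H ⟨M, hM.isPrime⟩ ?_ hle
  ext c
  obtain ⟨r, rfl⟩ := hC.2 c
  rw [RingHom.mem_ker, Ideal.mem_comap]
  change x (algebraMap R B r) = 0 ↔ algebraMap R B r ∈ M
  rw [AlgHom.commutes, ← RingHom.mem_ker, hK, ← hm, Ideal.mem_comap]

end Main

end Groth.Agent.Lib.Helper7.StabMod
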