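import Groth.Agent.Lib.Helper7.HopfModLR
import Groth.Agent.Lib.Helper7.ComodAlg

/-!
# Invariants of `J·R` for an equivariant map `S → R` with `R = S·R^G` (helper7)
-/

universe u v w w'

open TensorProduct

namespace Groth.Agent.Lib.Helper7.StrEt

open HopfRep Groth.Agent.Lib.Helper7.Comod

section A

variable {k : Type u} [Field k] {H : Type v} [CommRing H] [Bialgebra k H]
variable {S : Type w} [CommRing S] [Algebra k S] [Comod k H S] [GLin.IsCoactAlg k H S]
variable {R : Type w'} [CommRing R] [Algebra k R] [Comod k H R] [GLin.IsCoactAlg k H R]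

lemma map_id_eq_rTensor {B B' : Type*} [CommRing B] [Algebra k B] [CommRing B'] [Algebra k B']
    (f : B →ₐ[k] B') (x : B ⊗[k] H) :
    Algebra.TensorProduct.map f (AlgHom.id k H) x = f.toLinearMap.rTensor H x := by
  induction x using TensorProduct.induction_on with
  | zero => simp
  | tmul b a => simp
  | add y z hy hz => simp only [map_add, hy, hz]

omit [GLin.IsCoactAlg k H S] [GLin.IsCoactAlg k H R] in
/-- An algebra map which intertwines the coactions is a comodule map. -/
lemma isComodHom_of_map (u : S →ₐ[k] R)
    (hu : ∀ s : S, Comod.coact (k := k) (A := H) (u s) =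
      Algebra.TensorProduct.map u (AlgHom.id k H) (Comod.coact (k := k) (A := H) s)) :
    Hoch.IsComodHom H u.toLinearMap := by
  rw [isComodHom_iff]
  intro s
  change Comod.coact (k := k) (A := H) (u s) = _
  rw [hu s, map_id_eq_rTensor]

/-- Key lemma: invariants of `J·R` are `R^G`-combinations of images of invariants of `J`. -/
theorem mem_span_of_mem_map (hS : IsSemisimpleComod k H S) (hR : IsSemisimpleComod k H R)
    (u : S →ₐ[k] R) (hu : Hoch.IsComodHom H u.toLinearMap)
    (J : Ideal S) (hJ : IsSubcomod (k := k) (A := H) (J.restrictScalars k))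
    (hgen : Submodule.span (GLin.invariants k H R) (Set.range u) = ⊤)
    {r : R} (hr : r ∈ GLin.invariants k H R) (hrJ : r ∈ J.map u) :
    r ∈ Submodule.span (GLin.invariants k H R)
      (u '' {j | j ∈ J ∧ j ∈ GLin.invariants k H S}) := by
  obtain ⟨E, hE⟩ := exists_isReynolds hS
  obtain ⟨E', hE'⟩ := exists_isReynolds hR
  have hnat : ∀ s : S, E' (u s) = u (E s) := fun s =>
    LinearMap.congr_fun (IsReynolds.comp_eq hS hE hE' hu) s
  -- `N = span_{R^G} u(J)` is an ideal of `R`
  set N : Submodule (GLin.invariants k H R) R :=
    Submodule.span (GLin.invariants k H R) (u '' (J : Set S)) with hN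
  have hNmul : ∀ x : R, ∀ y ∈ N, x * y ∈ N := by
    intro x y hy
    have hx : x ∈ Submodule.span (GLin.invariants k H R) (Set.range u) := by rw [hgen]; trivial
    induction hx using Submodule.span_induction with
    | mem x hx =>
      obtain ⟨s, rfl⟩ := hx
      induction hy using Submodule.span_induction with
      | mem y hy =>
        obtain ⟨j, hj, rfl⟩ := hy
        rw [← map_mul]
        exact Submodule.subset_span ⟨s * j, J.mul_mem_left s hj, rfl⟩
      | zero => rw [mul_zero]; exact N.zero_mem
      | add a b _ _ ha hb => rw [mul_add]; exact N.add_mem ha hb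
      | smul c a _ ha =>
        have : u s * (c • a) = c • (u s * a) := by
          change u s * ((c : R) * a) = (c : R) * (u s * a); ring
        rw [this]; exact N.smul_mem c ha
    | zero => rw [zero_mul]; exact N.zero_mem
    | add a b _ _ ha hb => rw [add_mul]; exact N.add_mem ha hb
    | smul c a _ ha =>
      have : (c • a) * y = c • (a * y) := by
        change ((c : R) * a) * y = (c : R) * (a * y); ring
      rw [this]; exact N.smul_mem c ha
  have hrN' : ∀ y ∈ J.map u, y ∈ N := by
    intro y hyJ
    rw [Ideal.map] at hyJ
    induction hyJ using Submodule.span_induction with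
    | mem y hy => exact Submodule.subset_span hy
    | zero => exact N.zero_mem
    | add a b _ _ ha hb => exact N.add_mem ha hb
    | smul c a _ ha => exact hNmul c a ha
  have hrN : r ∈ N := hrN' r hrJ
  -- apply the Reynolds operator
  have hE'N : ∀ y ∈ N, E' y ∈ Submodule.span (GLin.invariants k H R)
      (u '' {j | j ∈ J ∧ j ∈ GLin.invariants k H S}) := by
    intro y hy
    induction hy using Submodule.span_induction with
    | mem y hy =>
      obtain ⟨j, hj, rfl⟩ := hy
      rw [hnat]
      exact Submodule.subset_span ⟨E j, ⟨IsReynolds.apply_mem_of_mem hS hE hJ hj,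
        hE.apply_mem j⟩, rfl⟩
    | zero => rw [map_zero]; exact Submodule.zero_mem _
    | add a b _ _ ha hb => rw [map_add]; exact Submodule.add_mem _ ha hb
    | smul c a _ ha =>
      have : E' (c • a) = c • E' a := by
        change E' ((c : R) * a) = (c : R) * E' a
        rw [mul_comm, IsReynolds.map_mul hR hE' a c.2, mul_comm]
      rw [this]; exact Submodule.smul_mem _ c ha
  have := hE'N r hrN
  rwa [(hE'.2.2 r).2 hr] at this

end A

end Groth.Agent.Lib.Helper7.StrEt
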