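import Mathlib.RingTheory.Etale.Basic
import Mathlib.RingTheory.TensorProduct.Maps
import Mathlib.RingTheory.Ideal.Quotient.Operations

/-!
# Base change plumbing for strongly étale maps restricted to closed invariant subschemes (helper7)
-/

universe u

open TensorProduct

namespace Groth.Agent.Lib.Helper7.StrEt

/-- Factor a ring hom through an injective one whose range contains its range. -/
theorem exists_ringHom_of_range_le {X Y Z : Type*} [CommRing X] [CommRing Y] [CommRing Z]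
    (f : X →+* Z) (g : Y →+* Z) (hg : Function.Injective g) (h : ∀ x, ∃ y, g y = f x) :
    ∃ φ : X →+* Y, ∀ x, g (φ x) = f x := by
  choose φ hφ using h
  refine ⟨{ toFun := φ, map_one' := ?_, map_mul' := ?_, map_zero' := ?_, map_add' := ?_ }, hφ⟩
  · apply hg; rw [hφ, map_one, map_one]
  · intro a b; apply hg; rw [hφ, map_mul, map_mul, hφ, hφ]
  · apply hg; rw [hφ, map_zero, map_zero]
  · intro a b; apply hg; rw [hφ, map_add, map_add, hφ, hφ]

section Core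

variable {S₀ S R₀ R S₁ R₁ : Type u} [CommRing S₀] [CommRing S] [CommRing R₀] [CommRing R]
  [CommRing S₁] [CommRing R₁]
  [Algebra S₀ S] [Algebra S₀ R₀] [Algebra S R] [Algebra R₀ R] [Algebra S₀ R]
  [IsScalarTower S₀ S R] [IsScalarTower S₀ R₀ R]

/-- Étaleness of the quotient invariants. -/
theorem etale_of_kernel [Algebra S₁ R₁] [Algebra.Etale S₀ R₀]
    (σ : S₀ →+* S₁) (hσ : Function.Surjective σ) (τ : R₀ →+* R₁) (hτ : Function.Surjective τ)
    (hcomm : ∀ s₀, τ (algebraMap S₀ R₀ s₀) = algebraMap S₁ R₁ (σ s₀))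
    (hker : RingHom.ker τ ≤ Ideal.map (algebraMap S₀ R₀) (RingHom.ker σ)) :
    Algebra.Etale S₁ R₁ := by
  letI : Algebra S₀ S₁ := σ.toAlgebra
  letI : Algebra S₀ R₁ := ((algebraMap S₁ R₁).comp σ).toAlgebra
  haveI : IsScalarTower S₀ S₁ R₁ := IsScalarTower.of_algebraMap_eq (fun _ => rfl)
  let τ' : R₀ →ₐ[S₀] R₁ := { τ with commutes' := fun s₀ => hcomm s₀ }
  let e : S₁ ⊗[S₀] R₀ →ₐ[S₁] R₁ :=
    Algebra.TensorProduct.lift (Algebra.ofId S₁ R₁) τ' (fun _ _ => Commute.all _ _)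
  have he : ∀ (s₁ : S₁) (t : R₀), e (s₁ ⊗ₜ[S₀] t) = algebraMap S₁ R₁ s₁ * τ t := by
    intro s₁ t
    simp [e, τ', Algebra.ofId_apply]
  have hform : ∀ z : S₁ ⊗[S₀] R₀, ∃ t : R₀, z = (1 : S₁) ⊗ₜ[S₀] t := by
    intro z
    induction z using TensorProduct.induction_on with
    | zero => exact ⟨0, by simp⟩
    | tmul s₁ t =>
      obtain ⟨s₀, rfl⟩ := hσ s₁
      refine ⟨algebraMap S₀ R₀ s₀ * t, ?_⟩
      have h1 : σ s₀ = s₀ • (1 : S₁) := by
        rw [Algebra.smul_def, mul_one]; rfl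
      rw [h1, TensorProduct.smul_tmul, Algebra.smul_def]
    | add x y hx hy =>
      obtain ⟨t, rfl⟩ := hx
      obtain ⟨t', rfl⟩ := hy
      exact ⟨t + t', by rw [TensorProduct.tmul_add]⟩
  have hzero : ∀ t ∈ Ideal.map (algebraMap S₀ R₀) (RingHom.ker σ),
      (1 : S₁) ⊗ₜ[S₀] t = 0 := by
    intro t ht
    rw [Ideal.map] at ht
    induction ht using Submodule.span_induction with
    | mem y hy =>
      obtain ⟨s₀, hs₀, rfl⟩ := hy
      have h1 : algebraMap S₀ R₀ s₀ = s₀ • (1 : R₀) := by rw [Algebra.smul_def, mul_one]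
      rw [h1, ← TensorProduct.smul_tmul, Algebra.smul_def, mul_one]
      have : algebraMap S₀ S₁ s₀ = 0 := hs₀
      rw [this, TensorProduct.zero_tmul]
    | zero => rw [TensorProduct.tmul_zero]
    | add a b _ _ ha hb => rw [TensorProduct.tmul_add, ha, hb, add_zero]
    | smul c a _ ha =>
      have : (1 : S₁) ⊗ₜ[S₀] (c • a) = ((1 : S₁) ⊗ₜ[S₀] c) * ((1 : S₁) ⊗ₜ[S₀] a) := by
        rw [Algebra.TensorProduct.tmul_mul_tmul, one_mul, smul_eq_mul]
      rw [this, ha, mul_zero]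
  have hbij : Function.Bijective e := by
    constructor
    · rw [injective_iff_map_eq_zero]
      intro z hz
      obtain ⟨t, rfl⟩ := hform z
      rw [he, map_one, one_mul] at hz
      exact hzero t (hker hz)
    · intro r₁
      obtain ⟨t, rfl⟩ := hτ r₁
      exact ⟨(1 : S₁) ⊗ₜ[S₀] t, by rw [he, map_one, one_mul]⟩
  exact Algebra.Etale.of_equiv (AlgEquiv.ofBijective e hbij)

end Core

end Groth.Agent.Lib.Helper7.StrEt

namespace Groth.Agent.Lib.Helper7.StrEt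

section Core2

variable {S₀ S R₀ R S₁ R₁ : Type u} [CommRing S₀] [CommRing S] [CommRing R₀] [CommRing R]
  [CommRing S₁] [CommRing R₁]
  [Algebra S₀ S] [Algebra S₀ R₀] [Algebra S R] [Algebra R₀ R] [Algebra S₀ R]
  [IsScalarTower S₀ S R] [IsScalarTower S₀ R₀ R]

/-- Cartesianness of the quotient square. -/
theorem bijective_productMap
    (hcart : Function.Bijective (Algebra.TensorProduct.productMap
      (IsScalarTower.toAlgHom S₀ S R) (IsScalarTower.toAlgHom S₀ R₀ R)))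
    (J : Ideal S)
    [Algebra S₁ (S ⧸ J)] [Algebra R₁ (R ⧸ J.map (algebraMap S R))] [Algebra S₁ R₁]
    [Algebra S₁ (R ⧸ J.map (algebraMap S R))]
    [IsScalarTower S₁ (S ⧸ J) (R ⧸ J.map (algebraMap S R))]
    [IsScalarTower S₁ R₁ (R ⧸ J.map (algebraMap S R))]
    (σ : S₀ →+* S₁)
    (hσ : ∀ s₀, algebraMap S₁ (S ⧸ J) (σ s₀) = Ideal.Quotient.mk J (algebraMap S₀ S s₀))
    (τ : R₀ →+* R₁) (hτs : Function.Surjective τ)
    (hτ : ∀ t, algebraMap R₁ (R ⧸ J.map (algebraMap S R)) (τ t) =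
      Ideal.Quotient.mk (J.map (algebraMap S R)) (algebraMap R₀ R t))
    (hcomm : ∀ s₀, τ (algebraMap S₀ R₀ s₀) = algebraMap S₁ R₁ (σ s₀)) :
    Function.Bijective (Algebra.TensorProduct.productMap
      (IsScalarTower.toAlgHom S₁ (S ⧸ J) (R ⧸ J.map (algebraMap S R)))
      (IsScalarTower.toAlgHom S₁ R₁ (R ⧸ J.map (algebraMap S R)))) := by
  set P := Algebra.TensorProduct.productMap
      (IsScalarTower.toAlgHom S₀ S R) (IsScalarTower.toAlgHom S₀ R₀ R) with hP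
  set P' := Algebra.TensorProduct.productMap
      (IsScalarTower.toAlgHom S₁ (S ⧸ J) (R ⧸ J.map (algebraMap S R)))
      (IsScalarTower.toAlgHom S₁ R₁ (R ⧸ J.map (algebraMap S R))) with hP'
  letI : Algebra S₀ ((S ⧸ J) ⊗[S₁] R₁) :=
    ((Algebra.TensorProduct.includeLeftRingHom : (S ⧸ J) →+* (S ⧸ J) ⊗[S₁] R₁).comp
      ((Ideal.Quotient.mk J).comp (algebraMap S₀ S))).toAlgebra
  let f : S →ₐ[S₀] (S ⧸ J) ⊗[S₁] R₁ :=
    { toRingHom := (Algebra.TensorProduct.includeLeftRingHom :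
        (S ⧸ J) →+* (S ⧸ J) ⊗[S₁] R₁).comp (Ideal.Quotient.mk J)
      commutes' := fun _ => rfl }
  let g : R₀ →ₐ[S₀] (S ⧸ J) ⊗[S₁] R₁ :=
    { toRingHom := (Algebra.TensorProduct.includeRight :
        R₁ →ₐ[S₁] (S ⧸ J) ⊗[S₁] R₁).toRingHom.comp τ
      commutes' := fun s₀ => by
        change (1 : S ⧸ J) ⊗ₜ[S₁] τ (algebraMap S₀ R₀ s₀) =
          (Ideal.Quotient.mk J (algebraMap S₀ S s₀)) ⊗ₜ[S₁] (1 : R₁)
        rw [hcomm, ← hσ, Algebra.algebraMap_eq_smul_one, Algebra.algebraMap_eq_smul_one,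
          TensorProduct.smul_tmul] }
  let Ψ : S ⊗[S₀] R₀ →ₐ[S₀] (S ⧸ J) ⊗[S₁] R₁ :=
    Algebra.TensorProduct.lift f g (fun _ _ => Commute.all _ _)
  have hΨ : ∀ (s : S) (t : R₀), Ψ (s ⊗ₜ[S₀] t) = Ideal.Quotient.mk J s ⊗ₜ[S₁] τ t := by
    intro s t
    simp only [Ψ, Algebra.TensorProduct.lift_tmul]
    change (Ideal.Quotient.mk J s ⊗ₜ[S₁] (1 : R₁)) * ((1 : S ⧸ J) ⊗ₜ[S₁] τ t) = _
    rw [Algebra.TensorProduct.tmul_mul_tmul, mul_one, one_mul]
  have hPtm : ∀ (s : S) (t : R₀), P (s ⊗ₜ[S₀] t) = algebraMap S R s * algebraMap R₀ R t := by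
    intro s t
    simp [P]
  have hP'tm : ∀ (x : S ⧸ J) (r₁ : R₁), P' (x ⊗ₜ[S₁] r₁) =
      algebraMap (S ⧸ J) (R ⧸ J.map (algebraMap S R)) x *
        algebraMap R₁ (R ⧸ J.map (algebraMap S R)) r₁ := by
    intro x r₁
    simp [P']
  have hsq : ∀ w : S ⊗[S₀] R₀, P' (Ψ w) = Ideal.Quotient.mk (J.map (algebraMap S R)) (P w) := by
    intro w
    induction w using TensorProduct.induction_on with
    | zero => simp
    | tmul s t =>
      rw [hΨ, hP'tm, hPtm, hτ, map_mul, Ideal.Quotient.algebraMap_quotient_map_quotient]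
    | add x y hx hy => rw [map_add, map_add, hx, hy, map_add, map_add]
  have hker : Ideal.map (Algebra.TensorProduct.includeLeftRingHom : S →+* S ⊗[S₀] R₀) J ≤
      RingHom.ker (Ψ : S ⊗[S₀] R₀ →+* (S ⧸ J) ⊗[S₁] R₁) := by
    rw [Ideal.map_le_iff_le_comap]
    intro j hj
    rw [Ideal.mem_comap, RingHom.mem_ker]
    change Ψ (j ⊗ₜ[S₀] (1 : R₀)) = 0
    rw [hΨ, Ideal.Quotient.eq_zero_iff_mem.2 hj, TensorProduct.zero_tmul]
  have hmap : Ideal.map (P : S ⊗[S₀] R₀ →+* R)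
      (Ideal.map (Algebra.TensorProduct.includeLeftRingHom : S →+* S ⊗[S₀] R₀) J) =
      J.map (algebraMap S R) := by
    rw [Ideal.map_map]
    congr 1
    ext s
    change P (s ⊗ₜ[S₀] (1 : R₀)) = _
    rw [hPtm, map_one, mul_one]
  have hΨs : ∀ z, ∃ w, Ψ w = z := by
    intro z
    induction z using TensorProduct.induction_on with
    | zero => exact ⟨0, map_zero _⟩
    | tmul x r₁ =>
      obtain ⟨s, rfl⟩ := Ideal.Quotient.mk_surjective x
      obtain ⟨t, rfl⟩ := hτs r₁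
      exact ⟨s ⊗ₜ[S₀] t, hΨ s t⟩
    | add x y hx hy =>
      obtain ⟨w, rfl⟩ := hx
      obtain ⟨w', rfl⟩ := hy
      exact ⟨w + w', map_add _ _ _⟩
  constructor
  · rw [injective_iff_map_eq_zero]
    intro z hz
    obtain ⟨w, rfl⟩ := hΨs z
    rw [hsq, Ideal.Quotient.eq_zero_iff_mem, ← hmap] at hz
    obtain ⟨w', hw', hww'⟩ := (Ideal.mem_map_iff_of_surjective (P : S ⊗[S₀] R₀ →+* R)
      hcart.2).1 hz
    have : w' = w := hcart.1 hww'
    subst this
    exact hker hw'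
  · intro y
    obtain ⟨r, rfl⟩ := Ideal.Quotient.mk_surjective y
    obtain ⟨w, rfl⟩ := hcart.2 r
    exact ⟨Ψ w, hsq w⟩

end Core2

end Groth.Agent.Lib.Helper7.StrEt
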