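import Groth.Agent.Lib.Helper7.StrEt1
import Groth.Agent.Lib.Helper7.StrEt2
import Groth.Agent.Lib.Helper7.HopfLR
import Mathlib.RingTheory.TensorProduct.Quotient

universe u

open TensorProduct

namespace Groth.Agent.Lib.Helper7.StrEt

open HopfRep Groth.Agent.Lib.Helper7.Comod

section Main

variable {k : Type u} [Field k] {A : Type u} [CommRing A] [HopfAlgebra k A]

/-- image of an invariant under an equivariant algebra map is invariant -/
lemma map_mem_invariants {S R : Type u} [CommRing S] [Algebra k S] [Comod k A S]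
    [GLin.IsCoactAlg k A S] [CommRing R] [Algebra k R] [Comod k A R] [GLin.IsCoactAlg k A R]
    (u : S →ₐ[k] R)
    (hu : ∀ s : S, Comod.coact (k := k) (A := A) (u s) =
      Algebra.TensorProduct.map u (AlgHom.id k A) (Comod.coact (k := k) (A := A) s))
    {s : S} (hs : s ∈ GLin.invariants k A S) : u s ∈ GLin.invariants k A R := by
  change Comod.coact (k := k) (A := A) (u s) = u s ⊗ₜ[k] (1 : A)
  have hs' : Comod.coact (k := k) (A := A) s = s ⊗ₜ[k] (1 : A) := hs
  rw [hu, hs', Algebra.TensorProduct.map_tmul, AlgHom.id_apply]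

theorem strongly_etale_restrict (hG : HopfRep.IsLinearlyReductive k A)
    (S : Type u) [CommRing S] [Algebra k S] [HopfRep.Comod k A S] [GLin.IsCoactAlg k A S]
    (R : Type u) [CommRing R] [Algebra k R] [HopfRep.Comod k A R] [GLin.IsCoactAlg k A R]
    [Algebra S R] [IsScalarTower k S R]
    (hequiv : (∀ s : S, HopfRep.Comod.coact (k := k) (A := A) (algebraMap S R s) =
      Algebra.TensorProduct.map (IsScalarTower.toAlgHom k S R) (AlgHom.id k A) (HopfRep.Comod.coact (k := k) (A := A) s)))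
    (S₀ : Type u) [CommRing S₀] [Algebra k S₀] [Algebra S₀ S] [IsScalarTower k S₀ S]
    (hS₀i : Function.Injective (algebraMap S₀ S)) (hS₀ : (IsScalarTower.toAlgHom k S₀ S).range = GLin.invariants k A S)
    (R₀ : Type u) [CommRing R₀] [Algebra k R₀] [Algebra R₀ R] [IsScalarTower k R₀ R]
    (hR₀i : Function.Injective (algebraMap R₀ R)) (hR₀ : (IsScalarTower.toAlgHom k R₀ R).range = GLin.invariants k A R)
    [Algebra S₀ R₀] [Algebra S₀ R] [IsScalarTower S₀ S R] [IsScalarTower S₀ R₀ R]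
    (het : Algebra.Etale S R) (het₀ : Algebra.Etale S₀ R₀)
    (hcart : Function.Bijective (Algebra.TensorProduct.productMap (IsScalarTower.toAlgHom S₀ S R) (IsScalarTower.toAlgHom S₀ R₀ R)))
    (J : Ideal S) (hJ : HopfRep.IsSubcomod (k := k) (A := A) (J.restrictScalars k))
    [HopfRep.Comod k A (S ⧸ J)] [GLin.IsCoactAlg k A (S ⧸ J)]
    (hqS : (∀ s : S, HopfRep.Comod.coact (k := k) (A := A) ((Ideal.Quotient.mkₐ k J) s) =
        Algebra.TensorProduct.map (Ideal.Quotient.mkₐ k J) (AlgHom.id k A) (HopfRep.Comod.coact (k := k) (A := A) s)))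
    [HopfRep.Comod k A (R ⧸ J.map (algebraMap S R))] [GLin.IsCoactAlg k A (R ⧸ J.map (algebraMap S R))]
    (hqR : (∀ s : R, HopfRep.Comod.coact (k := k) (A := A) ((Ideal.Quotient.mkₐ k (J.map (algebraMap S R))) s) =
        Algebra.TensorProduct.map (Ideal.Quotient.mkₐ k (J.map (algebraMap S R))) (AlgHom.id k A) (HopfRep.Comod.coact (k := k) (A := A) s)))
    (S₁ : Type u) [CommRing S₁] [Algebra k S₁] [Algebra S₁ (S ⧸ J)] [IsScalarTower k S₁ (S ⧸ J)]
    (hS₁i : Function.Injective (algebraMap S₁ (S ⧸ J)))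
    (hS₁ : (IsScalarTower.toAlgHom k S₁ (S ⧸ J)).range = GLin.invariants k A (S ⧸ J))
    (R₁ : Type u) [CommRing R₁] [Algebra k R₁] [Algebra R₁ (R ⧸ J.map (algebraMap S R))] [IsScalarTower k R₁ (R ⧸ J.map (algebraMap S R))]
    (hR₁i : Function.Injective (algebraMap R₁ (R ⧸ J.map (algebraMap S R))))
    (hR₁ : (IsScalarTower.toAlgHom k R₁ (R ⧸ J.map (algebraMap S R))).range = GLin.invariants k A (R ⧸ J.map (algebraMap S R)))
    [Algebra S₁ R₁] [Algebra S₁ (R ⧸ J.map (algebraMap S R))]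
    [IsScalarTower S₁ (S ⧸ J) (R ⧸ J.map (algebraMap S R))] [IsScalarTower S₁ R₁ (R ⧸ J.map (algebraMap S R))] :
    Algebra.Etale (S ⧸ J) (R ⧸ J.map (algebraMap S R)) ∧ Algebra.Etale S₁ R₁ ∧
      Function.Bijective (Algebra.TensorProduct.productMap
        (IsScalarTower.toAlgHom S₁ (S ⧸ J) (R ⧸ J.map (algebraMap S R)))
        (IsScalarTower.toAlgHom S₁ R₁ (R ⧸ J.map (algebraMap S R)))) := by
  have hSss : IsSemisimpleComod k A S := isSemisimpleComod_of_isLinearlyReductive' hG S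
  have hRss : IsSemisimpleComod k A R := isSemisimpleComod_of_isLinearlyReductive' hG R
  have hSJss : IsSemisimpleComod k A (S ⧸ J) := isSemisimpleComod_of_isLinearlyReductive' hG _
  have hRJss : IsSemisimpleComod k A (R ⧸ J.map (algebraMap S R)) :=
    isSemisimpleComod_of_isLinearlyReductive' hG _
  set u : S →ₐ[k] R := IsScalarTower.toAlgHom k S R with hu_def
  have hu : Hoch.IsComodHom A u.toLinearMap := isComodHom_of_map u hequiv
  have hπS : Hoch.IsComodHom A (Ideal.Quotient.mkₐ k J).toLinearMap :=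
    isComodHom_of_map _ hqS
  have hπR : Hoch.IsComodHom A (Ideal.Quotient.mkₐ k (J.map (algebraMap S R))).toLinearMap :=
    isComodHom_of_map _ hqR
  -- membership translations
  have memS₀ : ∀ s : S, s ∈ GLin.invariants k A S ↔ ∃ s₀ : S₀, algebraMap S₀ S s₀ = s := by
    intro s; rw [← hS₀]; rfl
  have memR₀ : ∀ r : R, r ∈ GLin.invariants k A R ↔ ∃ t : R₀, algebraMap R₀ R t = r := by
    intro r; rw [← hR₀]; rfl
  have memS₁ : ∀ s : S ⧸ J, s ∈ GLin.invariants k A (S ⧸ J) ↔
      ∃ s₁ : S₁, algebraMap S₁ (S ⧸ J) s₁ = s := by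
    intro s; rw [← hS₁]; rfl
  have memR₁ : ∀ r : R ⧸ J.map (algebraMap S R),
      r ∈ GLin.invariants k A (R ⧸ J.map (algebraMap S R)) ↔
      ∃ t : R₁, algebraMap R₁ (R ⧸ J.map (algebraMap S R)) t = r := by
    intro r; rw [← hR₁]; rfl
  -- the maps σ, τ
  obtain ⟨σ, hσ⟩ := exists_ringHom_of_range_le
    ((Ideal.Quotient.mk J).comp (algebraMap S₀ S)) (algebraMap S₁ (S ⧸ J)) hS₁i
    (fun s₀ => (memS₁ _).1 (map_mem_invariants (Ideal.Quotient.mkₐ k J) hqS
      ((memS₀ _).2 ⟨s₀, rfl⟩)))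
  obtain ⟨τ, hτ⟩ := exists_ringHom_of_range_le
    ((Ideal.Quotient.mk (J.map (algebraMap S R))).comp (algebraMap R₀ R))
    (algebraMap R₁ (R ⧸ J.map (algebraMap S R))) hR₁i
    (fun t => (memR₁ _).1 (map_mem_invariants (Ideal.Quotient.mkₐ k (J.map (algebraMap S R))) hqR
      ((memR₀ _).2 ⟨t, rfl⟩)))
  have hσs : Function.Surjective σ := by
    intro s₁
    have h1 : algebraMap S₁ (S ⧸ J) s₁ ∈ fixedPts k A (S ⧸ J) := (memS₁ _).2 ⟨s₁, rfl⟩
    obtain ⟨v, hv, hvs⟩ := exists_fixedPts_map_eq hSss hSJss hπS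
      (Ideal.Quotient.mkₐ_surjective k J) h1
    obtain ⟨s₀, rfl⟩ := (memS₀ v).1 hv
    refine ⟨s₀, hS₁i ?_⟩
    rw [hσ]
    exact hvs
  have hτs : Function.Surjective τ := by
    intro r₁
    have h1 : algebraMap R₁ (R ⧸ J.map (algebraMap S R)) r₁ ∈
        fixedPts k A (R ⧸ J.map (algebraMap S R)) := (memR₁ _).2 ⟨r₁, rfl⟩
    obtain ⟨v, hv, hvs⟩ := exists_fixedPts_map_eq hRss hRJss hπR
      (Ideal.Quotient.mkₐ_surjective k _) h1
    obtain ⟨t, rfl⟩ := (memR₀ v).1 hv
    refine ⟨t, hR₁i ?_⟩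
    rw [hτ]
    exact hvs
  have hcomm : ∀ s₀, τ (algebraMap S₀ R₀ s₀) = algebraMap S₁ R₁ (σ s₀) := by
    intro s₀
    apply hR₁i
    rw [hτ, ← IsScalarTower.algebraMap_apply S₁ R₁ (R ⧸ J.map (algebraMap S R)),
      IsScalarTower.algebraMap_apply S₁ (S ⧸ J) (R ⧸ J.map (algebraMap S R)), hσ]
    simp only [RingHom.comp_apply]
    rw [Ideal.Quotient.algebraMap_quotient_map_quotient,
      ← IsScalarTower.algebraMap_apply S₀ R₀ R, ← IsScalarTower.algebraMap_apply S₀ S R]
  -- `R` is spanned over `R^G` by the image of `S`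
  have hgen : Submodule.span (GLin.invariants k A R) (Set.range u) = ⊤ := by
    rw [eq_top_iff]
    rintro r -
    obtain ⟨w, rfl⟩ := hcart.2 r
    induction w using TensorProduct.induction_on with
    | zero => rw [map_zero]; exact Submodule.zero_mem _
    | tmul s t =>
      have h1 : Algebra.TensorProduct.productMap (IsScalarTower.toAlgHom S₀ S R)
          (IsScalarTower.toAlgHom S₀ R₀ R) (s ⊗ₜ[S₀] t) =
          (⟨algebraMap R₀ R t, (memR₀ _).2 ⟨t, rfl⟩⟩ : GLin.invariants k A R) • u s := by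
        change _ = algebraMap R₀ R t * u s
        simp [hu_def, mul_comm]
      rw [h1]
      exact Submodule.smul_mem _ _ (Submodule.subset_span ⟨s, rfl⟩)
    | add x y hx hy => rw [map_add]; exact Submodule.add_mem _ hx hy
  have hker : RingHom.ker τ ≤ Ideal.map (algebraMap S₀ R₀) (RingHom.ker σ) := by
    intro t ht
    have h1 : algebraMap R₀ R t ∈ J.map (algebraMap S R) := by
      rw [← Ideal.Quotient.eq_zero_iff_mem]
      have := hτ t
      rw [RingHom.mem_ker] at ht
      rw [ht, map_zero] at this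
      exact this.symm
    have h2 := mem_span_of_mem_map hSss hRss u hu J hJ hgen ((memR₀ _).2 ⟨t, rfl⟩) h1
    have h3 : ∀ y ∈ Submodule.span (GLin.invariants k A R)
        (u '' {j | j ∈ J ∧ j ∈ GLin.invariants k A S}),
        ∃ x ∈ Ideal.map (algebraMap S₀ R₀) (RingHom.ker σ), algebraMap R₀ R x = y := by
      intro y hy
      induction hy using Submodule.span_induction with
      | mem y hy =>
        obtain ⟨j, ⟨hjJ, hjinv⟩, rfl⟩ := hy
        obtain ⟨s₀, rfl⟩ := (memS₀ j).1 hjinv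
        refine ⟨algebraMap S₀ R₀ s₀, Ideal.mem_map_of_mem _ ?_, ?_⟩
        · rw [RingHom.mem_ker]
          apply hS₁i
          rw [hσ, map_zero]
          exact Ideal.Quotient.eq_zero_iff_mem.2 hjJ
        · rw [← IsScalarTower.algebraMap_apply S₀ R₀ R, IsScalarTower.algebraMap_apply S₀ S R]
          rfl
      | zero => exact ⟨0, Ideal.zero_mem _, map_zero _⟩
      | add a b _ _ ha hb =>
        obtain ⟨x, hx, rfl⟩ := ha
        obtain ⟨x', hx', rfl⟩ := hb
        exact ⟨x + x', Ideal.add_mem _ hx hx', map_add _ _ _⟩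
      | smul c a _ ha =>
        obtain ⟨x, hx, rfl⟩ := ha
        obtain ⟨t', ht'⟩ := (memR₀ (c : R)).1 c.2
        refine ⟨t' * x, Ideal.mul_mem_left _ _ hx, ?_⟩
        rw [map_mul, ht']
        rfl
    obtain ⟨x, hx, hxt⟩ := h3 _ h2
    have : x = t := hR₀i hxt
    rw [← this]
    exact hx
  refine ⟨?_, ?_, ?_⟩
  · exact Algebra.Etale.of_equiv
      (Algebra.TensorProduct.quotIdealMapEquivQuotTensor R J).symm
  · exact etale_of_kernel σ hσs τ hτs hcomm hker
  · exact bijective_productMap hcart J σ hσ τ hτs hτ hcomm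

end Main

end Groth.Agent.Lib.Helper7.StrEt
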