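import Mathlib
import Groth.Prelude.Def_HopfRep
import Groth.Agent.Lib.Helper7.Comod
import Groth.Agent.Lib.Helper7.SubDesc2

set_option autoImplicit false

namespace Groth.Agent.Lib.Helper7.SubDesc

open TensorProduct HopfRep

universe u
variable {A : Type u} [CommRing A] {C : Type u} [AddCommGroup C] [Module A C]
variable {V : Type u} [AddCommGroup V] [Module A V]
variable {A' : Type u} [CommRing A'] [Algebra A A']

variable (A A' V) in
/-- `(a ⊗ b, z) ↦ b ⊗ (a • z)` -/
noncomputable def BK : (A' ⊗[A] A') →ₗ[A] (A' ⊗[A] V) →ₗ[A] A' ⊗[A] (A' ⊗[A] V) :=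
  TensorProduct.lift (LinearMap.mk₂ A
    (fun a b => (TensorProduct.mk A A' (A' ⊗[A] V) b) ∘ₗ (Algebra.lsmul A A (A' ⊗[A] V) a))
    (by intros; ext; simp [add_smul, tmul_add])
    (by intros; ext; simp)
    (by intros; ext; simp [add_tmul])
    (by intros; ext; simp [smul_tmul']))

@[simp] lemma BK_tmul (a b : A') (z : A' ⊗[A] V) : BK A V A' (a ⊗ₜ[A] b) z = b ⊗ₜ[A] (a • z) := by
  simp [BK]

lemma BK_bal (a' : A') (p : A' ⊗[A] A') (z : A' ⊗[A] V) :
    BK A V A' (a' • p) z = BK A V A' p (a' • z) := by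
  induction p using TensorProduct.induction_on with
  | zero => simp
  | tmul a b => rw [TensorProduct.smul_tmul', BK_tmul, BK_tmul, smul_eq_mul, mul_comm, mul_smul]
  | add x y hx hy => simp only [smul_add, map_add, LinearMap.add_apply, hx, hy]

lemma BK_mem (N' : Submodule A' (A' ⊗[A] V)) (t : A' ⊗[A] A') {z : A' ⊗[A] V} (hz : z ∈ N') :
    BK A V A' t z ∈ LinearMap.range (LinearMap.baseChange A' (N'.restrictScalars A).subtype) := by
  induction t using TensorProduct.induction_on with
  | zero => simp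
  | tmul a b =>
    rw [BK_tmul]
    exact ⟨b ⊗ₜ ⟨a • z, N'.smul_mem a hz⟩, by simp⟩
  | add x y hx hy =>
    rw [map_add, LinearMap.add_apply]
    exact Submodule.add_mem _ hx hy

variable (A') in
/-- flatness: membership in a base-changed comap -/
lemma mem_range_lTensor_comap [Module.Flat A A'] {N₀ : Type u} [AddCommGroup N₀] [Module A N₀]
    (j : V →ₗ[A] N₀) (W₀ : Submodule A N₀) (x : A' ⊗[A] V)
    (h : LinearMap.lTensor A' j x ∈ LinearMap.range (LinearMap.lTensor A' W₀.subtype)) :
    x ∈ LinearMap.range (LinearMap.lTensor A' (W₀.comap j).subtype) := by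
  have hex : Function.Exact (W₀.comap j).subtype (W₀.mkQ ∘ₗ j) := by
    intro v
    rw [LinearMap.comp_apply, Submodule.mkQ_apply, Submodule.Quotient.mk_eq_zero]
    constructor
    · intro h; exact ⟨⟨v, h⟩, rfl⟩
    · rintro ⟨w, rfl⟩; exact w.2
  have hex' := Module.Flat.lTensor_exact A' hex
  have hexq : Function.Exact W₀.subtype W₀.mkQ := LinearMap.exact_subtype_mkQ W₀
  have hex2 := lTensor_exact A' hexq (Submodule.mkQ_surjective W₀)
  have h1 : (LinearMap.lTensor A' (W₀.mkQ ∘ₗ j)) x = 0 := by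
    rw [LinearMap.lTensor_comp, LinearMap.comp_apply]
    exact (hex2 _).mpr h
  exact (hex' x).mp h1

section Comod
variable [Coalgebra A C] [Comod A C V]

lemma p1_mem [Module.Projective A' (A' ⊗[A] C)] (M : Submodule A V) {x : A' ⊗[A] V}
    (hx : x ∈ Wp C A' M) :
    LinearMap.baseChange A' (TensorProduct.mk A A' V 1) x ∈
      LinearMap.range (LinearMap.baseChange A' ((Wp C A' M).restrictScalars A).subtype) := by
  obtain ⟨ψ', hψ'⟩ := exists_dual_family (A := A) (C := C) (A' := A')
  induction hx using Submodule.span_induction with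
  | mem x hx =>
    obtain ⟨m, hm, ψ, rfl⟩ := hx
    obtain ⟨S, -, hS⟩ := exists_expansion (V := V) ψ' hψ' (Comod.coact (k := A) (A := C) (V := V) m)
    have := hS (A' ⊗[A] A') (A' ⊗[A] (A' ⊗[A] V)) (BK A V A') BK_bal
      (LinearMap.liftBaseChange A' ((TensorProduct.mk A A' A' 1) ∘ₗ ψ))
      ((LinearMap.lTensor A' (TensorProduct.mk A A' V 1)) ∘ₗ ctrB ψ)
      (by intro v c; simp)
    rw [LinearMap.comp_apply] at this
    have e : LinearMap.baseChange A' (TensorProduct.mk A A' V 1)
        (ctrB ψ (Comod.coact (k := A) (A := C) (V := V) m)) =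
        (LinearMap.lTensor A' (TensorProduct.mk A A' V 1))
          (ctrB ψ (Comod.coact (k := A) (A := C) (V := V) m)) := rfl
    rw [e, this]
    refine Submodule.sum_mem _ fun c' _ => ?_
    apply BK_mem
    apply Submodule.subset_span
    exact ⟨m, hm, ψ' c', rfl⟩
  | zero => simp
  | add x y _ _ hx hy => rw [map_add]; exact Submodule.add_mem _ hx hy
  | smul a x _ hx => rw [map_smul]; exact Submodule.smul_mem _ a hx

/-- descent: `W'` is the base change of `Wd` -/
lemma Wp_eq_range [Module.Flat A A'] [Module.Projective A' (A' ⊗[A] C)] (M : Submodule A V) :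
    Wp C A' M = LinearMap.range (LinearMap.baseChange A' (Wd C A' M).subtype) := by
  apply le_antisymm
  · intro x hx
    obtain ⟨s, hs⟩ := p1_mem M hx
    have := mem_range_lTensor_comap A' (TensorProduct.mk A A' V 1)
      ((Wp C A' M).restrictScalars A) x ⟨s, hs⟩
    obtain ⟨t, ht⟩ := this
    exact ⟨t, ht⟩
  · rintro _ ⟨s, rfl⟩
    induction s using TensorProduct.induction_on with
    | zero => simp
    | tmul a w =>
      rw [LinearMap.baseChange_tmul]
      have : a ⊗ₜ[A] ((Wd C A' M).subtype w) = a • ((1 : A') ⊗ₜ[A] (w : V)) := by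
        rw [TensorProduct.smul_tmul', smul_eq_mul, mul_one]; rfl
      rw [this]
      exact Submodule.smul_mem _ a w.2
    | add x y hx hy => rw [map_add]; exact Submodule.add_mem _ hx hy

end Comod

end Groth.Agent.Lib.Helper7.SubDesc
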