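import Mathlib
import Groth.Prelude.Def_HopfRep
import Groth.Agent.Lib.Helper7.Comod
import Groth.Agent.Lib.Helper7.SubDesc3

set_option autoImplicit false

namespace Groth.Agent.Lib.Helper7.SubDesc

open TensorProduct HopfRep

universe u
variable {A : Type u} [CommRing A] {C : Type u} [AddCommGroup C] [Module A C]
variable {V : Type u} [AddCommGroup V] [Module A V]
variable {A' : Type u} [CommRing A'] [Algebra A A']

variable (A C V A') in
/-- `(a ⊗ c, z) ↦ (a • z) ⊗ c` read in `A' ⊗ (V ⊗ C)` -/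
noncomputable def BC : (A' ⊗[A] C) →ₗ[A] (A' ⊗[A] V) →ₗ[A] A' ⊗[A] (V ⊗[A] C) :=
  TensorProduct.lift (LinearMap.mk₂ A
    (fun a c => (LinearMap.lTensor A' ((TensorProduct.mk A V C).flip c)) ∘ₗ
      (Algebra.lsmul A A (A' ⊗[A] V) a))
    (by intros; ext; simp [tmul_add])
    (by intros; ext; simp)
    (by intros; ext; simp [tmul_add])
    (by intros; ext; simp))

@[simp] lemma BC_tmul_tmul (a b : A') (c : C) (v : V) :
    BC A C V A' (a ⊗ₜ[A] c) (b ⊗ₜ[A] v) = (a * b) ⊗ₜ[A] (v ⊗ₜ[A] c) := by
  simp [BC, TensorProduct.smul_tmul']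

lemma BC_bal (a' : A') (p : A' ⊗[A] C) (z : A' ⊗[A] V) :
    BC A C V A' (a' • p) z = BC A C V A' p (a' • z) := by
  induction p using TensorProduct.induction_on with
  | zero => simp
  | tmul a c =>
    induction z using TensorProduct.induction_on with
    | zero => simp
    | tmul b v =>
      rw [TensorProduct.smul_tmul', TensorProduct.smul_tmul', BC_tmul_tmul, BC_tmul_tmul,
        smul_eq_mul, smul_eq_mul]
      congr 1; ring
    | add x y hx hy => simp only [smul_add, map_add, hx, hy]
  | add x y hx hy => simp only [smul_add, map_add, LinearMap.add_apply, hx, hy]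

lemma BC_mem (W : Submodule A V) (p : A' ⊗[A] C) {z : A' ⊗[A] V}
    (hz : z ∈ LinearMap.range (LinearMap.baseChange A' W.subtype)) :
    BC A C V A' p z ∈ LinearMap.range (LinearMap.baseChange A' (W.subtype.rTensor C)) := by
  obtain ⟨s, rfl⟩ := hz
  induction p using TensorProduct.induction_on with
  | zero => simp
  | tmul a c =>
    induction s using TensorProduct.induction_on with
    | zero => simp
    | tmul b w =>
      rw [LinearMap.baseChange_tmul, BC_tmul_tmul]
      exact ⟨(a * b) ⊗ₜ (w ⊗ₜ c), by simp⟩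
    | add x y hx hy =>
      rw [map_add, map_add]; exact Submodule.add_mem _ hx hy
  | add x y hx hy =>
    rw [map_add, LinearMap.add_apply]; exact Submodule.add_mem _ hx hy

omit [AddCommGroup C] [Module A C] in
lemma ctrB_natural {C : Type u} [AddCommGroup C] [Module A C] {V₂ : Type u} [AddCommGroup V₂] [Module A V₂]
    (ψ : C →ₗ[A] A') (f : V →ₗ[A] V₂) (y : V ⊗[A] C) :
    LinearMap.lTensor A' f (ctrB ψ y) = ctrB ψ (LinearMap.rTensor C f y) := by
  induction y using TensorProduct.induction_on with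
  | zero => simp
  | tmul v c => simp
  | add x y hx hy => simp only [map_add, hx, hy]

section Comod
variable [Coalgebra A C] [Comod A C V]

/-- `c ↦ Σ ψ(c₂) ⊗ c₁` -/
noncomputable def kap (ψ : C →ₗ[A] A') : C →ₗ[A] A' ⊗[A] C :=
  ctrB (V := C) ψ ∘ₗ (CoalgebraStruct.comul (R := A) (A := C))

/-- `v ⊗ c ↦ Σ ψ(c₂) ⊗ (v ⊗ c₁)` -/
noncomputable def GC (ψ : C →ₗ[A] A') : V ⊗[A] C →ₗ[A] A' ⊗[A] (V ⊗[A] C) :=
  TensorProduct.lift (((BC A C V A') ∘ₗ (kap ψ)).compl₂ (TensorProduct.mk A A' V 1)).flip

omit [Comod A C V] in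
lemma GC_tmul (ψ : C →ₗ[A] A') (v : V) (c : C) :
    GC ψ (v ⊗ₜ[A] c) = BC A C V A' (kap ψ c) ((1 : A') ⊗ₜ[A] v) := by
  simp [GC]

omit [Comod A C V] in
lemma GC_eq (ψ : C →ₗ[A] A') (y : V ⊗[A] C) :
    GC ψ y = ctrB (V := V ⊗[A] C) ψ ((TensorProduct.assoc A V C C).symm
      (LinearMap.lTensor V (CoalgebraStruct.comul (R := A) (A := C)) y)) := by
  induction y using TensorProduct.induction_on with
  | zero => simp
  | tmul v c =>
    rw [GC_tmul, LinearMap.lTensor_tmul, kap, LinearMap.comp_apply]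
    generalize (CoalgebraStruct.comul (R := A) (A := C)) c = t
    induction t using TensorProduct.induction_on with
    | zero => simp
    | tmul c₁ c₂ => simp
    | add x y hx hy => simp only [map_add, tmul_add, LinearMap.add_apply, hx, hy]
  | add x y hx hy => simp only [map_add, hx, hy]

lemma coact_ctrB (ψ : C →ₗ[A] A') (m : V) :
    LinearMap.lTensor A' (Comod.coact (k := A) (A := C) (V := V))
      (ctrB ψ (Comod.coact (k := A) (A := C) (V := V) m)) =
      GC ψ (Comod.coact (k := A) (A := C) (V := V) m) := by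
  rw [ctrB_natural, GC_eq]
  have hco := LinearMap.congr_fun (Comod.coassoc (k := A) (A := C) (V := V)) m
  simp only [LinearMap.comp_apply, LinearEquiv.coe_coe] at hco
  rw [← hco, LinearEquiv.symm_apply_apply]

lemma coact_mem [Module.Flat A A'] [Module.Projective A' (A' ⊗[A] C)] (M : Submodule A V)
    {x : A' ⊗[A] V} (hx : x ∈ Wp C A' M) :
    LinearMap.baseChange A' (Comod.coact (k := A) (A := C) (V := V)) x ∈
      LinearMap.range (LinearMap.baseChange A' ((Wd C A' M).subtype.rTensor C)) := by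
  obtain ⟨ψ', hψ'⟩ := exists_dual_family (A := A) (C := C) (A' := A')
  induction hx using Submodule.span_induction with
  | mem x hx =>
    obtain ⟨m, hm, ψ, rfl⟩ := hx
    obtain ⟨S, -, hS⟩ := exists_expansion (V := V) ψ' hψ' (Comod.coact (k := A) (A := C) (V := V) m)
    have := hS (A' ⊗[A] C) (A' ⊗[A] (V ⊗[A] C)) (BC A C V A') BC_bal
      (LinearMap.liftBaseChange A' (kap ψ)) (GC ψ)
      (by intro v c; rw [GC_tmul]; simp)
    have e : LinearMap.baseChange A' (Comod.coact (k := A) (A := C) (V := V))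
        (ctrB ψ (Comod.coact (k := A) (A := C) (V := V) m)) =
        (LinearMap.lTensor A' (Comod.coact (k := A) (A := C) (V := V)))
          (ctrB ψ (Comod.coact (k := A) (A := C) (V := V) m)) := rfl
    rw [e, coact_ctrB, this]
    refine Submodule.sum_mem _ fun c' _ => ?_
    apply BC_mem
    rw [← Wp_eq_range]
    apply Submodule.subset_span
    exact ⟨m, hm, ψ' c', rfl⟩
  | zero => simp
  | add x y _ _ hx hy => rw [map_add]; exact Submodule.add_mem _ hx hy
  | smul a x _ hx => rw [map_smul]; exact Submodule.smul_mem _ a hx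

theorem isSubcomod_Wd [Module.FaithfullyFlat A A'] [Module.Projective A' (A' ⊗[A] C)]
    (M : Submodule A V) : IsSubcomod (k := A) (A := C) (Wd C A' M) := by
  intro w hw
  rw [mem_Wd] at hw
  obtain ⟨s, hs⟩ := coact_mem M hw
  apply mem_range_of_one_tmul_mem A'
  refine ⟨s, ?_⟩
  rw [← LinearMap.baseChange_tmul]
  exact hs

end Comod

end Groth.Agent.Lib.Helper7.SubDesc
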