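import Mathlib
import Groth.Prelude.Def_HopfRep
import Groth.Agent.Lib.Helper7.Comod
import Groth.Agent.Lib.Helper7.SubDesc4

set_option autoImplicit false

namespace Groth.Agent.Lib.Helper7.SubDesc

open TensorProduct HopfRep

universe u
variable {A : Type u} [CommRing A] {C : Type u} [AddCommGroup C] [Module A C]
variable {V : Type u} [AddCommGroup V] [Module A V]
variable {A' : Type u} [CommRing A'] [Algebra A A']

section Comod
variable [Coalgebra A C] [Comod A C V]

lemma Wp_fg [Module.Projective A' (A' ⊗[A] C)] {M : Submodule A V} (hM : M.FG) :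
    (Wp C A' M).FG := by
  classical
  obtain ⟨T, hT⟩ := hM
  obtain ⟨ψ', hψ'⟩ := exists_dual_family (A := A) (C := C) (A' := A')
  choose S hS0 hS using fun m : V =>
    exists_expansion (V := V) ψ' hψ' (Comod.coact (k := A) (A := C) (V := V) m)
  set fin : Finset (A' ⊗[A] V) := T.biUnion fun m => (S m).image fun c' =>
    ctrB (ψ' c') (Comod.coact (k := A) (A := C) (V := V) m) with hfin
  refine ⟨fin, ?_⟩
  apply le_antisymm
  · rw [Submodule.span_le]
    intro w hw
    rw [hfin, Finset.coe_biUnion] at hw
    simp only [Set.mem_iUnion, Finset.coe_image, Set.mem_image] at hw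
    obtain ⟨m, hm, c, -, rfl⟩ := hw
    apply Submodule.subset_span
    refine ⟨m, ?_, ψ' c, rfl⟩
    rw [← hT]
    exact Submodule.subset_span hm
  · rw [Wp, Submodule.span_le]
    rintro w ⟨m, hm, ψ, rfl⟩
    rw [← hT] at hm
    induction hm using Submodule.span_induction with
    | mem m hmT =>
      have := hS m A' (A' ⊗[A] V) ((Algebra.lsmul A A (A' ⊗[A] V)).toLinearMap)
        (by intro a p z; simp only [smul_eq_mul, AlgHom.toLinearMap_apply, Algebra.lsmul_coe]; rw [smul_smul, mul_comm])
        (LinearMap.liftBaseChange A' ψ) (ctrB ψ) (by intro v c; simp [TensorProduct.smul_tmul'])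
      rw [this]
      refine Submodule.sum_mem _ fun c hc => ?_
      simp only [AlgHom.toLinearMap_apply, Algebra.lsmul_coe]
      apply Submodule.smul_mem
      apply Submodule.subset_span
      rw [hfin, Finset.coe_biUnion]
      simp only [Set.mem_iUnion, Finset.coe_image, Set.mem_image]
      exact ⟨m, hmT, c, hc, rfl⟩
    | zero => simp
    | add x y _ _ hx hy =>
      rw [map_add, map_add]
      exact Submodule.add_mem _ hx hy
    | smul a x _ hx =>
      rw [map_smul, map_smul, ← algebraMap_smul A']
      exact Submodule.smul_mem _ _ hx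

theorem Wd_fg [Module.FaithfullyFlat A A'] [Module.Projective A' (A' ⊗[A] C)] {M : Submodule A V}
    (hM : M.FG) : (Wd C A' M).FG := by
  have h1 := Wp_fg (C := C) (A' := A') hM
  rw [Wp_eq_range] at h1
  have hinj : Function.Injective (LinearMap.baseChange A' (Wd C A' M).subtype) :=
    Module.Flat.lTensor_preserves_injective_linearMap _ (Submodule.injective_subtype _)
  have e := LinearEquiv.ofInjective (LinearMap.baseChange A' (Wd C A' M).subtype) hinj
  have : Module.Finite A' (LinearMap.range (LinearMap.baseChange A' (Wd C A' M).subtype)) :=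
    Module.Finite.iff_fg.mpr h1
  have : Module.Finite A' (A' ⊗[A] (Wd C A' M)) := Module.Finite.equiv e.symm
  have : Module.Finite A (Wd C A' M) := Module.Finite.of_finite_tensorProduct_of_faithfullyFlat A'
  exact Module.Finite.iff_fg.mp inferInstance

end Comod

end Groth.Agent.Lib.Helper7.SubDesc
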