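import Groth.Prelude.Def_SGA1
import Mathlib.AlgebraicGeometry.PullbackCarrier
import Mathlib.AlgebraicGeometry.Morphisms.UniversallyOpen
import Mathlib.AlgebraicGeometry.Morphisms.UniversallyClosed
import Mathlib.AlgebraicGeometry.Morphisms.Separated
import Mathlib.AlgebraicGeometry.Morphisms.Immersion
import Mathlib.AlgebraicGeometry.Morphisms.Proper

set_option autoImplicit false

universe u

open CategoryTheory CategoryTheory.Limits AlgebraicGeometry MorphismProperty

namespace Groth.Agent.Lib.Helper7.SubmersiveDescent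

variable {X' Y' X Y : Scheme.{u}} {f' : X' ⟶ Y'} {hX : X' ⟶ X} {hY : Y' ⟶ Y} {f : X ⟶ Y}

theorem isOpenMap_of_isPullback (sq : IsPullback f' hX hY f)
    (hq : Topology.IsQuotientMap hY.base) (hf' : IsOpenMap f'.base) : IsOpenMap f.base := by
  intro U hU
  rw [← hq.isOpen_preimage, ← Scheme.image_preimage_eq_of_isPullback sq.flip]
  exact hf' _ (hU.preimage hX.base.hom.continuous)

theorem isClosedMap_of_isPullback (sq : IsPullback f' hX hY f)
    (hq : Topology.IsQuotientMap hY.base) (hf' : IsClosedMap f'.base) : IsClosedMap f.base := by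
  intro U hU
  rw [← hq.isClosed_preimage, ← Scheme.image_preimage_eq_of_isPullback sq.flip]
  exact hf' _ (hU.preimage hX.base.hom.continuous)

theorem isQuotientMap_of_univSubmersive (hg : SGA1.UnivSubmersive hY) :
    Topology.IsQuotientMap hY.base :=
  hg _ _ _ IsPullback.of_id_snd

theorem univSubmersive_of_isPullback {T T₁ : Scheme.{u}} {p₁ : T₁ ⟶ T} {p₂ : T₁ ⟶ Y'} {i₂ : T ⟶ Y}
    (hg : SGA1.UnivSubmersive hY) (sq : IsPullback p₁ p₂ i₂ hY) : SGA1.UnivSubmersive p₁ :=
  (inferInstance : (universally (topologically fun f => Topology.IsQuotientMap f)).IsStableUnderBaseChange).of_isPullback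
    sq.flip hg

/-- descent of `universally Q` along universally submersive base change, given topological descent
of `Q` along quotient maps -/
theorem universally_descent (Q : MorphismProperty Scheme.{u})
    (hdesc : ∀ {X' Y' X Y : Scheme.{u}} {f' : X' ⟶ Y'} {hX : X' ⟶ X} {hY : Y' ⟶ Y} {f : X ⟶ Y},
      IsPullback f' hX hY f → Topology.IsQuotientMap hY.base → Q f' → Q f)
    (sq : IsPullback f' hX hY f) (hg : SGA1.UnivSubmersive hY) (hf' : universally Q f') :
    universally Q f := by
  intro T' T i₁ i₂ fT hT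
  -- hT : IsPullback fT i₁ i₂ f
  let p₁ : pullback i₂ hY ⟶ T := pullback.fst i₂ hY
  let p₂ : pullback i₂ hY ⟶ Y' := pullback.snd i₂ hY
  have sqR : IsPullback p₂ p₁ hY i₂ := (IsPullback.of_hasPullback i₂ hY).flip
  have hp₁ : SGA1.UnivSubmersive p₁ := univSubmersive_of_isPullback hg (IsPullback.of_hasPullback i₂ hY)
  let a : pullback fT p₁ ⟶ T' := pullback.fst fT p₁
  let b : pullback fT p₁ ⟶ pullback i₂ hY := pullback.snd fT p₁
  have sqL : IsPullback b a p₁ fT := (IsPullback.of_hasPullback fT p₁).flip
  -- outer square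
  have sqO : IsPullback (b ≫ p₂) a hY (fT ≫ i₂) := sqL.paste_horiz sqR
  have hcomm : (b ≫ p₂) ≫ hY = (a ≫ i₁) ≫ f := by
    rw [sqO.w, Category.assoc, hT.w]
  let c : pullback fT p₁ ⟶ X' := sq.lift (b ≫ p₂) (a ≫ i₁) hcomm
  have hc1 : c ≫ f' = b ≫ p₂ := sq.lift_fst _ _ _
  have hc2 : c ≫ hX = a ≫ i₁ := sq.lift_snd _ _ _
  -- left square of the second decomposition
  have sqO' : IsPullback (c ≫ f') a hY (i₁ ≫ f) := by
    rw [hc1, ← hT.w]; exact sqO
  have sqL' : IsPullback c a hX i₁ := IsPullback.of_right sqO' hc2 sq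
  -- vertical pasting
  have sqV : IsPullback c (a ≫ fT) (hX ≫ f) i₂ := sqL'.paste_vert hT.flip
  have sqV' : IsPullback c (b ≫ p₁) (f' ≫ hY) i₂ := by
    rw [sqL.w, sq.w]; exact sqV
  have sqT : IsPullback c b f' p₂ := IsPullback.of_bot sqV' hc1 sqR
  have hb : Q b := hf' _ _ _ sqT.flip
  exact hdesc sqL (isQuotientMap_of_univSubmersive hp₁) hb

theorem universallyOpen_of_isPullback (sq : IsPullback f' hX hY f) (hg : SGA1.UnivSubmersive hY)
    (hf' : UniversallyOpen f') : UniversallyOpen f :=
  ⟨universally_descent (topologically @IsOpenMap)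
    (fun sq hq h => isOpenMap_of_isPullback sq hq h) sq hg hf'.universally_isOpenMap⟩

theorem universallyClosed_of_isPullback (sq : IsPullback f' hX hY f) (hg : SGA1.UnivSubmersive hY)
    (hf' : UniversallyClosed f') : UniversallyClosed f :=
  ⟨universally_descent (topologically @IsClosedMap)
    (fun sq hq h => isClosedMap_of_isPullback sq hq h) sq hg hf'.universally_isClosedMap⟩

theorem isSeparated_of_isPullback (sq : IsPullback f' hX hY f) (hg : SGA1.UnivSubmersive hY)
    (hf' : IsSeparated f') : IsSeparated f := by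
  have h1 : IsSeparated (pullback.fst hY f) := by
    rw [← sq.isoPullback_inv_fst]; infer_instance
  have h2 : IsClosedImmersion (pullback.diagonal (pullback.fst hY f)) := inferInstance
  rw [diagonal_pullback_fst, MorphismProperty.cancel_left_of_respectsIso (P := @IsClosedImmersion),
    MorphismProperty.cancel_right_of_respectsIso (P := @IsClosedImmersion)] at h2
  set m := ((Over.pullback hY).map
    (Over.homMk (pullback.diagonal f) : Over.mk f ⟶ Over.mk (pullback.snd _ _ ≫ f))).left with hm
  have hm1 : m ≫ pullback.fst (pullback.snd f f ≫ f) hY = pullback.fst f hY ≫ pullback.diagonal f := by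
    simp only [hm, Over.pullback_map_left]
    exact pullback.lift_fst _ _ _
  have hm2 : m ≫ pullback.snd (pullback.snd f f ≫ f) hY = pullback.snd f hY := by
    simp only [hm, Over.pullback_map_left]
    exact pullback.lift_snd _ _ _
  have t : IsPullback (pullback.snd (pullback.snd f f ≫ f) hY) (pullback.fst (pullback.snd f f ≫ f) hY)
      hY (pullback.snd f f ≫ f) := (IsPullback.of_hasPullback _ hY).flip
  have s : IsPullback (m ≫ pullback.snd (pullback.snd f f ≫ f) hY) (pullback.fst f hY) hY
      (pullback.diagonal f ≫ pullback.snd f f ≫ f) := by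
    rw [hm2, pullback.diagonal_snd_assoc]
    exact (IsPullback.of_hasPullback f hY).flip
  have sqm : IsPullback m (pullback.fst f hY) (pullback.fst (pullback.snd f f ≫ f) hY)
      (pullback.diagonal f) := IsPullback.of_right s hm1 t
  have hq : SGA1.UnivSubmersive (pullback.fst (pullback.snd f f ≫ f) hY) :=
    univSubmersive_of_isPullback hg (IsPullback.of_hasPullback _ hY)
  have hcl : IsClosedMap (pullback.diagonal f).base :=
    isClosedMap_of_isPullback sqm (isQuotientMap_of_univSubmersive hq) m.isClosedEmbedding.isClosedMap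
  have : IsClosedImmersion (pullback.diagonal f) :=
    IsClosedImmersion.of_isPreimmersion _ hcl.isClosed_range
  exact ⟨this⟩

end Groth.Agent.Lib.Helper7.SubmersiveDescent
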