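import Groth.Agent.Lib.Helper7.ExtComod
import Groth.Agent.Lib.Helper7.EZ5
import Mathlib.RingTheory.MvPolynomial.Basic

/-!
# Equivariant thickening, I: the polynomial ring on a comodule with a basis is a comodule algebra
(helper7)
-/

set_option autoImplicit false

universe u

open TensorProduct

namespace Groth.Agent.Lib.Helper7.TH

open HopfRep Groth.Agent.Lib.Helper7.Comod Coalgebra

section Poly

variable {k : Type u} [Field k] {A : Type u} [CommRing A] [Bialgebra k A]
  {W : Type u} [AddCommGroup W] [Module k W]
  {ι : Type u} (b : Module.Basis ι k W)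

/-- the linear embedding of `W` as the linear forms. -/
noncomputable def Xlin : W →ₗ[k] MvPolynomial ι k :=
  b.constr k (fun i => (MvPolynomial.X i : MvPolynomial ι k))

@[simp] lemma Xlin_basis (i : ι) : Xlin b (b i) = MvPolynomial.X i := by
  unfold Xlin
  rw [Module.Basis.constr_basis]

/-- the coaction on the polynomial ring, as an algebra homomorphism. -/
noncomputable def polyCoact (c : Comod k A W) :
    MvPolynomial ι k →ₐ[k] MvPolynomial ι k ⊗[k] A :=
  MvPolynomial.aeval (fun i => (Xlin b).rTensor A (c.coact (b i)))

lemma polyCoact_X (c : Comod k A W) (i : ι) :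
    polyCoact b c (MvPolynomial.X i) = (Xlin b).rTensor A (c.coact (b i)) := by
  unfold polyCoact
  rw [MvPolynomial.aeval_X]

lemma polyCoact_Xlin (c : Comod k A W) (w : W) :
    polyCoact b c (Xlin b w) = (Xlin b).rTensor A (c.coact w) := by
  have h : (polyCoact b c).toLinearMap ∘ₗ Xlin b = (Xlin b).rTensor A ∘ₗ c.coact := by
    apply b.ext
    intro i
    simp only [LinearMap.comp_apply, AlgHom.toLinearMap_apply, Xlin_basis, polyCoact_X]
  exact LinearMap.congr_fun h w

lemma map_polyCoact_rTensor (c : Comod k A W) (z : W ⊗[k] A) :
    Algebra.TensorProduct.map (polyCoact b c) (AlgHom.id k A) ((Xlin b).rTensor A z) =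
      LinearMap.rTensor A ((Xlin b).rTensor A) (LinearMap.rTensor A c.coact z) := by
  induction z using TensorProduct.induction_on with
  | zero => simp
  | tmul v a => simp [polyCoact_Xlin]
  | add y z hy hz => simp only [map_add, hy, hz]

/-- the polynomial ring comodule. -/
@[reducible] noncomputable def polyComod (c : Comod k A W) :
    Comod k A (MvPolynomial ι k) where
  coact := (polyCoact b c).toLinearMap
  coassoc := by
    have h : (Algebra.TensorProduct.assoc k k k (MvPolynomial ι k) A A).toAlgHom.comp
        ((Algebra.TensorProduct.map (polyCoact b c) (AlgHom.id k A)).comp (polyCoact b c)) =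
        (Algebra.TensorProduct.map (AlgHom.id k (MvPolynomial ι k))
          (Bialgebra.comulAlgHom k A)).comp (polyCoact b c) := by
      apply MvPolynomial.algHom_ext
      intro i
      simp only [AlgHom.comp_apply, polyCoact_X]
      rw [map_polyCoact_rTensor]
      have hc := LinearMap.congr_fun (c.coassoc) (b i)
      simp only [LinearMap.comp_apply, LinearEquiv.coe_coe] at hc
      change TensorProduct.assoc k (MvPolynomial ι k) A A _ = _
      rw [ComodTens.assoc_rTensor_rTensor, hc]
      change _ = LinearMap.lTensor (MvPolynomial ι k) (Coalgebra.comul (R := k) (A := A))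
        (LinearMap.rTensor A (Xlin b) (c.coact (b i)))
      rw [ComodTens.lTensor_rTensor_comm]
    apply LinearMap.ext
    intro x
    exact congrArg (fun F : MvPolynomial ι k →ₐ[k] _ => F x) h
  counit_comp := by
    have h : (Algebra.TensorProduct.map (AlgHom.id k (MvPolynomial ι k))
        (Bialgebra.counitAlgHom k A)).comp (polyCoact b c) =
        Algebra.TensorProduct.includeLeft := by
      apply MvPolynomial.algHom_ext
      intro i
      simp only [AlgHom.comp_apply, polyCoact_X]
      change LinearMap.lTensor (MvPolynomial ι k) (Coalgebra.counit (R := k) (A := A))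
        (LinearMap.rTensor A (Xlin b) (c.coact (b i))) = _
      rw [ComodTens.lTensor_rTensor_comm]
      have hc := LinearMap.congr_fun (c.counit_comp) (b i)
      simp only [LinearMap.comp_apply] at hc
      rw [hc]
      simp
    apply LinearMap.ext
    intro x
    exact congrArg (fun F : MvPolynomial ι k →ₐ[k] _ => F x) h

theorem polyIsCoactAlg (c : Comod k A W) :
    @GLin.IsCoactAlg k _ A _ _ (MvPolynomial ι k) _ _ (polyComod b c) := by
  letI := polyComod b c
  constructor
  · exact map_one (polyCoact b c)
  · intro f g
    exact map_mul (polyCoact b c) f g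

end Poly

section Aux

variable {k : Type u} [Field k] {A : Type u} [CommRing A] [Algebra k A]
  {S R : Type u} [CommRing S] [Algebra k S] [CommRing R] [Algebra k R]

lemma map_eq_rTensor (f : S →ₐ[k] R) (z : S ⊗[k] A) :
    Algebra.TensorProduct.map f (AlgHom.id k A) z = f.toLinearMap.rTensor A z := by
  induction z using TensorProduct.induction_on with
  | zero => simp
  | tmul x a => simp
  | add s t hs ht => simp only [map_add, hs, ht]

end Aux

section Pres

variable {k : Type u} [Field k] {A : Type u} [CommRing A] [Bialgebra k A]
  {R : Type u} [CommRing R] [Algebra k R] [cR : Comod k A R] [GLin.IsCoactAlg k A R]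
  (W : Submodule k R) (hW : IsSubcomod (k := k) (A := A) W)
  {ι : Type u} (b : Module.Basis ι k W)

/-- the evaluation map from the polynomial ring on a basis of a subcomodule. -/
noncomputable def presHom : MvPolynomial ι k →ₐ[k] R :=
  MvPolynomial.aeval (fun i => ((b i : W) : R))

@[simp] lemma presHom_X (i : ι) : presHom W b (MvPolynomial.X i) = ((b i : W) : R) := by
  unfold presHom
  rw [MvPolynomial.aeval_X]

lemma presHom_Xlin (w : W) : presHom W b (Xlin b w) = (w : R) := by
  have h : (presHom W b).toLinearMap ∘ₗ Xlin b = W.subtype := by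
    apply b.ext
    intro i
    simp
  exact LinearMap.congr_fun h w

/-- the presentation is equivariant. -/
theorem presHom_coact (p : MvPolynomial ι k) :
    Comod.coact (k := k) (A := A) (presHom W b p) =
      Algebra.TensorProduct.map (presHom W b) (AlgHom.id k A)
        ((polyComod b (ComodSub.Comod.restr cR W hW)).coact p) := by
  have h : (GLin.coactAlgHom k A R).comp (presHom W b) =
      (Algebra.TensorProduct.map (presHom W b) (AlgHom.id k A)).comp
        (polyCoact b (ComodSub.Comod.restr cR W hW)) := by
    apply MvPolynomial.algHom_ext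
    intro i
    simp only [AlgHom.comp_apply, polyCoact_X, presHom_X, GLin.coactAlgHom_apply]
    rw [map_eq_rTensor, ← LinearMap.comp_apply, ← LinearMap.rTensor_comp]
    have h2 : (presHom W b).toLinearMap ∘ₗ Xlin b = W.subtype := by
      apply b.ext
      intro i
      simp
    rw [h2]
    exact (ComodSub.restr_coact_coe cR W hW (b i)).symm
  exact congrArg (fun F : MvPolynomial ι k →ₐ[k] _ => F p) h

theorem presHom_range_ge : (W : Set R) ⊆ (presHom W b).range := by
  intro w hw
  exact ⟨Xlin b ⟨w, hw⟩, presHom_Xlin W b ⟨w, hw⟩⟩

end Pres

end Groth.Agent.Lib.Helper7.TH
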