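import Groth.Agent.Lib.Helper7.TH1
import Mathlib.RingTheory.HopfAlgebra.Convolution

/-!
# Equivariant thickening, II: rational points act by automorphisms; stability under points (helper7)
-/

set_option autoImplicit false

universe u

open TensorProduct

namespace Groth.Agent.Lib.Helper7.TH

open HopfRep Groth.Agent.Lib.Helper7.Comod Coalgebra

section Stab

variable {k : Type u} [Field k] [IsAlgClosed k] {A : Type u} [CommRing A] [Bialgebra k A]
  [Algebra.FiniteType k A] [IsReduced A]
  {V : Type u} [AddCommGroup V] [Module k V] [Comod k A V]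

/-- a subspace stable under all rational points is a subcomodule. -/
theorem isSubcomod_of_forall_point (W : Submodule k V)
    (hpt : ∀ g : A →ₐ[k] k, ∀ b ∈ W,
      contr V g.toLinearMap (Comod.coact (k := k) (A := A) b) ∈ W) :
    IsSubcomod (k := k) (A := A) W := by
  classical
  intro b hb
  let e := Module.Basis.ofVectorSpace k A
  obtain ⟨c, hc⟩ := TensorProduct.eq_repr_basis_right e (Comod.coact (k := k) (A := A) b)
  rw [← hc, Finsupp.sum]
  refine Submodule.sum_mem _ fun i₀ hi₀ => ?_
  refine tmul_mem_range_rTensor ?_ _
  let a : ↥c.support → A := fun i => e i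
  have ha : LinearIndependent k a := e.linearIndependent.comp _ Subtype.val_injective
  obtain ⟨T, lam, hT⟩ := EZ.exists_points_comb a ha ⟨i₀, hi₀⟩
  have hcontr : ∀ g : A →ₐ[k] k, contr V g.toLinearMap (Comod.coact (k := k) (A := A) b) =
      ∑ i : ↥c.support, g (a i) • c i := by
    intro g
    rw [← hc, Finsupp.sum, map_sum, ← Finset.sum_coe_sort]
    apply Finset.sum_congr rfl
    intro i _
    rw [contr_tmul]
    rfl
  have hci : c i₀ = ∑ g ∈ T, lam g • contr V g.toLinearMap (Comod.coact (k := k) (A := A) b) := by
    simp only [hcontr, Finset.smul_sum, smul_smul]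
    rw [Finset.sum_comm]
    simp only [← Finset.sum_smul, hT]
    rw [Finset.sum_eq_single ⟨i₀, hi₀⟩]
    · simp
    · intro i _ hi
      rw [if_neg hi, zero_smul]
    · intro h; exact absurd (Finset.mem_univ _) h
  rw [hci]
  exact Submodule.sum_mem _ fun g _ => Submodule.smul_mem _ _ (hpt g b hb)

end Stab

section Conv

variable {k : Type u} [Field k] {A : Type u} [CommRing A] [HopfAlgebra k A]

/-- the convolution product of two rational points. -/
noncomputable def conv (g g' : A →ₐ[k] k) : A →ₐ[k] k :=
  (Algebra.TensorProduct.lmul' k).comp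
    ((Algebra.TensorProduct.map g g').comp (Bialgebra.comulAlgHom k A))

/-- the inverse of a rational point. -/
noncomputable def invPt (g : A →ₐ[k] k) : A →ₐ[k] k := g.comp (HopfAlgebra.antipodeAlgHom k A)

lemma lmul'_map_eq (g g' : A →ₐ[k] A) (f : A →ₐ[k] k) (z : A ⊗[k] A) :
    Algebra.TensorProduct.lmul' k (Algebra.TensorProduct.map (f.comp g) (f.comp g') z) =
      f (Algebra.TensorProduct.lmul' k (Algebra.TensorProduct.map g g' z)) := by
  induction z using TensorProduct.induction_on with
  | zero => simp
  | tmul x a => simp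
  | add s t hs ht => simp only [map_add, hs, ht]

lemma map_id_antipode (z : A ⊗[k] A) :
    Algebra.TensorProduct.lmul' k
      (Algebra.TensorProduct.map (AlgHom.id k A) (HopfAlgebra.antipodeAlgHom k A) z) =
      LinearMap.mul' k A ((HopfAlgebra.antipode k).lTensor A z) := by
  induction z using TensorProduct.induction_on with
  | zero => simp
  | tmul x a => simp
  | add s t hs ht => simp only [map_add, hs, ht]

lemma map_antipode_id (z : A ⊗[k] A) :
    Algebra.TensorProduct.lmul' k
      (Algebra.TensorProduct.map (HopfAlgebra.antipodeAlgHom k A) (AlgHom.id k A) z) =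
      LinearMap.mul' k A ((HopfAlgebra.antipode k).rTensor A z) := by
  induction z using TensorProduct.induction_on with
  | zero => simp
  | tmul x a => simp
  | add s t hs ht => simp only [map_add, hs, ht]

theorem conv_invPt (g : A →ₐ[k] k) : conv g (invPt g) = Bialgebra.counitAlgHom k A := by
  apply AlgHom.ext
  intro a
  unfold conv invPt
  simp only [AlgHom.comp_apply]
  have h := lmul'_map_eq (AlgHom.id k A) (HopfAlgebra.antipodeAlgHom k A) g
    (Bialgebra.comulAlgHom k A a)
  rw [AlgHom.comp_id] at h
  rw [h, map_id_antipode]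
  have h2 := HopfAlgebra.mul_antipode_lTensor_comul_apply (R := k) a
  simp only [Bialgebra.comulAlgHom_apply]
  rw [h2]
  simp

theorem invPt_conv (g : A →ₐ[k] k) : conv (invPt g) g = Bialgebra.counitAlgHom k A := by
  apply AlgHom.ext
  intro a
  unfold conv invPt
  simp only [AlgHom.comp_apply]
  have h := lmul'_map_eq (HopfAlgebra.antipodeAlgHom k A) (AlgHom.id k A) g
    (Bialgebra.comulAlgHom k A a)
  rw [AlgHom.comp_id] at h
  rw [h, map_antipode_id]
  have h2 := HopfAlgebra.mul_antipode_rTensor_comul_apply (R := k) a
  simp only [Bialgebra.comulAlgHom_apply]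
  rw [h2]
  simp

end Conv

section Act

variable {k : Type u} [Field k] {A : Type u} [CommRing A] [HopfAlgebra k A]
  {R : Type u} [CommRing R] [Algebra k R] [Comod k A R] [GLin.IsCoactAlg k A R]

lemma contr_contr_assoc_symm (g g' : A →ₗ[k] k) (z : R ⊗[k] (A ⊗[k] A)) :
    contr R g (contr (R ⊗[k] A) g' ((TensorProduct.assoc k R A A).symm z)) =
      contr R ((LinearMap.mul' k k) ∘ₗ (TensorProduct.map g g')) z := by
  induction z using TensorProduct.induction_on with
  | zero => simp
  | add s t hs ht => simp only [map_add, hs, ht]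
  | tmul v y =>
    induction y using TensorProduct.induction_on with
    | zero => simp
    | add s t hs ht => simp only [TensorProduct.tmul_add, map_add, hs, ht]
    | tmul a a' =>
      simp only [TensorProduct.assoc_symm_tmul, contr_tmul, map_smul, LinearMap.comp_apply,
        TensorProduct.map_tmul, LinearMap.mul'_apply, smul_smul]
      rw [mul_comm]

lemma conv_toLinearMap (g g' : A →ₐ[k] k) :
    (conv g g').toLinearMap =
      ((LinearMap.mul' k k) ∘ₗ (TensorProduct.map g.toLinearMap g'.toLinearMap)) ∘ₗ
        (Coalgebra.comul (R := k) (A := A)) := by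
  apply LinearMap.ext
  intro a
  unfold conv
  simp only [AlgHom.toLinearMap_apply, AlgHom.comp_apply, LinearMap.comp_apply,
    Bialgebra.comulAlgHom_apply]
  generalize Coalgebra.comul (R := k) a = z
  induction z using TensorProduct.induction_on with
  | zero => simp
  | tmul x a => simp
  | add s t hs ht => simp only [map_add, hs, ht]

theorem actHom_actHom (g g' : A →ₐ[k] k) (r : R) :
    EZ.actHom (k := k) (A := A) g (EZ.actHom (k := k) (A := A) g' r) =
      EZ.actHom (k := k) (A := A) (conv g g') r := by
  rw [EZ.actHom_apply, EZ.actHom_apply, EZ.actHom_apply]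
  rw [← contr_rTensor g'.toLinearMap (Comod.coact (k := k) (A := A))]
  have hc := LinearMap.congr_fun (Comod.coassoc (k := k) (A := A) (V := R)) r
  simp only [LinearMap.comp_apply, LinearEquiv.coe_coe] at hc
  have hc' : (Comod.coact (k := k) (A := A)).rTensor A (Comod.coact (k := k) (A := A) r) =
      (TensorProduct.assoc k R A A).symm
        ((Coalgebra.comul (R := k) (A := A)).lTensor R (Comod.coact (k := k) (A := A) r)) := by
    rw [← hc, LinearEquiv.symm_apply_apply]
  rw [hc', contr_contr_assoc_symm, contr_lTensor, conv_toLinearMap]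

theorem actHom_counit (r : R) :
    EZ.actHom (k := k) (A := A) (Bialgebra.counitAlgHom k A) r = r := by
  rw [EZ.actHom_apply]
  have hc := LinearMap.congr_fun (Comod.counit_comp (k := k) (A := A) (V := R)) r
  simp only [LinearMap.comp_apply] at hc
  unfold contr
  rw [LinearMap.comp_apply]
  have : (Bialgebra.counitAlgHom k A).toLinearMap = Coalgebra.counit (R := k) (A := A) := rfl
  rw [this, hc]
  simp

/-- a rational point acts by an automorphism. -/
noncomputable def actEquiv (g : A →ₐ[k] k) : R ≃ₐ[k] R :=
  AlgEquiv.ofAlgHom (EZ.actHom (k := k) (A := A) g) (EZ.actHom (k := k) (A := A) (invPt g))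
    (by
      apply AlgHom.ext
      intro r
      rw [AlgHom.comp_apply, actHom_actHom, conv_invPt, actHom_counit]
      rfl)
    (by
      apply AlgHom.ext
      intro r
      rw [AlgHom.comp_apply, actHom_actHom, invPt_conv, actHom_counit]
      rfl)

lemma actEquiv_apply (g : A →ₐ[k] k) (r : R) :
    actEquiv (k := k) (A := A) g r = EZ.actHom (k := k) (A := A) g r := rfl

/-- a subcomodule is stable under points. -/
lemma actHom_mem {W : Submodule k R} (hW : IsSubcomod (k := k) (A := A) W)
    (g : A →ₐ[k] k) {r : R} (hr : r ∈ W) : EZ.actHom (k := k) (A := A) g r ∈ W := by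
  rw [EZ.actHom_apply]
  exact (mem_range_rTensor_iff_contr W _).1 (hW r hr) _

end Act

end Groth.Agent.Lib.Helper7.TH
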