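import Groth.Agent.Lib.Helper7.TH4

/-!
# Equivariant thickening, V: making the map quasi-finite everywhere (helper7)
-/

set_option autoImplicit false

universe u

open TensorProduct

namespace Groth.Agent.Lib.Helper7.TH

open HopfRep Groth.Agent.Lib.Helper7.Comod Coalgebra

section Cover

variable {k : Type u} [Field k] {Q : Type u} [CommRing Q] [Algebra k Q]

/-- if `e` and `e • W'` lie in `C` and `W'` generates `Q`, every element of `Q` is moved into `C`
by a power of `e`. -/
theorem exists_pow_mul_mem (C : Subalgebra k Q) (e : Q) (he : e ∈ C) (W' : Submodule k Q)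
    (hW' : Algebra.adjoin k (W' : Set Q) = ⊤) (heW : ∀ w ∈ W', e * w ∈ C) (x : Q) :
    ∃ n : ℕ, e ^ n * x ∈ C := by
  have hx : x ∈ Algebra.adjoin k (W' : Set Q) := by rw [hW']; trivial
  induction hx using Algebra.adjoin_induction with
  | mem x hx => exact ⟨1, by rw [pow_one]; exact heW x hx⟩
  | algebraMap r => exact ⟨0, by rw [pow_zero, one_mul]; exact C.algebraMap_mem r⟩
  | add x y _ _ hx hy =>
    obtain ⟨n, hn⟩ := hx
    obtain ⟨m, hm⟩ := hy
    refine ⟨n + m, ?_⟩
    have : e ^ (n + m) * (x + y) = e ^ m * (e ^ n * x) + e ^ n * (e ^ m * y) := by ring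
    rw [this]
    exact C.add_mem (C.mul_mem (C.pow_mem he m) hn) (C.mul_mem (C.pow_mem he n) hm)
  | mul x y _ _ hx hy =>
    obtain ⟨n, hn⟩ := hx
    obtain ⟨m, hm⟩ := hy
    refine ⟨n + m, ?_⟩
    have : e ^ (n + m) * (x * y) = (e ^ n * x) * (e ^ m * y) := by ring
    rw [this]
    exact C.mul_mem hn hm

variable {A : Type u} [CommRing A] [HopfAlgebra k A]
  [cQ : Comod k A Q] [GLin.IsCoactAlg k A Q]

/-- the localisation at `e` is quasi-finite over `C` when powers of `e` move everything into `C`. -/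
theorem quasiFinite_away_of_forall (C : Subalgebra k Q) (e : Q) (he : e ∈ C)
    (hgen : ∀ x : Q, ∃ n : ℕ, e ^ n * x ∈ C) :
    ((algebraMap Q (Localization.Away e)).comp C.val.toRingHom).QuasiFinite := by
  letI : Algebra ↥C (Localization.Away e) :=
    ((algebraMap Q (Localization.Away e)).comp C.val.toRingHom).toAlgebra
  change Algebra.QuasiFinite ↥C (Localization.Away e)
  refine Algebra.QuasiFinite.of_forall_exists_mul_mem_range (R := ↥C) (S := ↥C)
    (Algebra.ofId ↥C (Localization.Away e)) ?_
  intro x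
  obtain ⟨y, ⟨s, hs⟩, rfl⟩ := IsLocalization.exists_mk'_eq (Submonoid.powers e) x
  obtain ⟨m, hm⟩ := hs
  have hm' : e ^ m = s := hm
  obtain ⟨n, hn⟩ := hgen y
  refine ⟨⟨e, he⟩ ^ (m + n), ?_, ⟨⟨e ^ n * y, hn⟩, ?_⟩⟩
  · have : (Algebra.ofId ↥C (Localization.Away e)) (⟨e, he⟩ ^ (m + n)) =
        algebraMap Q (Localization.Away e) (e ^ (m + n)) := by
      rw [map_pow, map_pow]
      rfl
    rw [this, map_pow]
    exact (IsLocalization.Away.algebraMap_isUnit e).pow _
  · have h1 : (Algebra.ofId ↥C (Localization.Away e)) (⟨e, he⟩ ^ (m + n)) =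
        algebraMap Q (Localization.Away e) s * algebraMap Q (Localization.Away e) (e ^ n) := by
      rw [← hm', map_pow, ← map_mul, ← pow_add, map_pow]
      rfl
    have h2 : (Algebra.ofId ↥C (Localization.Away e)) ⟨e ^ n * y, hn⟩ =
        algebraMap Q (Localization.Away e) (e ^ n) * algebraMap Q (Localization.Away e) y := by
      rw [← map_mul]
      rfl
    show (Algebra.ofId ↥C (Localization.Away e)) ⟨e ^ n * y, hn⟩ = _
    rw [h1, h2, ← mul_assoc]
    have h3 := IsLocalization.mk'_spec (Localization.Away e) y (⟨s, ⟨m, hm⟩⟩ : Submonoid.powers e)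
    rw [h3, mul_comm]

/-- the global statement. -/
theorem quasiFinite_of_cover (T C : Subalgebra k Q) (hle : T ≤ C) (e : Q) (he : e ∈ C)
    (hgen : ∀ x : Q, ∃ n : ℕ, e ^ n * x ∈ C)
    (hspan : Ideal.span (qfSet T ∪ {e}) = ⊤) :
    C.val.toRingHom.QuasiFinite := by
  apply RingHom.QuasiFinite.ofLocalizationSpanTarget _ (qfSet T ∪ {e}) hspan
  rintro ⟨r, hr⟩
  rcases hr with hr | hr
  · have h1 : ((algebraMap Q (Localization.Away r)).comp C.val.toRingHom).comp
        (Subalgebra.inclusion hle).toRingHom =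
        (algebraMap Q (Localization.Away r)).comp T.val.toRingHom := by
      ext t
      rfl
    have h2 : (((algebraMap Q (Localization.Away r)).comp C.val.toRingHom).comp
        (Subalgebra.inclusion hle).toRingHom).QuasiFinite := by
      rw [h1]; exact hr
    exact RingHom.QuasiFinite.of_comp h2
  · rw [Set.mem_singleton_iff] at hr
    subst hr
    exact quasiFinite_away_of_forall (k := k) C r he hgen

end Cover

end Groth.Agent.Lib.Helper7.TH
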