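import Groth.Agent.Lib.Helper7.TH5

/-!
# Equivariant thickening, VI: the stable subalgebra over which the linear model is quasi-finite
(helper7)
-/

set_option autoImplicit false

universe u

open TensorProduct

namespace Groth.Agent.Lib.Helper7.TH

open HopfRep Groth.Agent.Lib.Helper7.Comod Coalgebra

section Proj

variable {k : Type u} [Field k]
  {S R Q : Type u} [CommRing S] [Algebra k S] [CommRing R] [Algebra k R] [Algebra S R]
  [IsScalarTower k S R] [CommRing Q] [Algebra k Q]

/-- the preimage of (the image of) `S`. -/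
def preS (S : Type u) [CommRing S] [Algebra k S] [Algebra S R] [IsScalarTower k S R]
    (q : Q →ₐ[k] R) : Subalgebra k Q :=
  (IsScalarTower.toAlgHom k S R).range.comap q

variable (hinj : Function.Injective (algebraMap S R)) (q : Q →ₐ[k] R)

/-- the induced map to `S`. -/
noncomputable def projS (C : Subalgebra k Q) (hC : C ≤ preS S q) : ↥C →ₐ[k] S :=
  ((AlgEquiv.ofInjective (IsScalarTower.toAlgHom k S R) hinj).symm : _ →ₐ[k] S).comp
    ((q.comp C.val).codRestrict (IsScalarTower.toAlgHom k S R).range (fun c => hC c.2))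

lemma algebraMap_projS (C : Subalgebra k Q) (hC : C ≤ preS S q) (c : ↥C) :
    algebraMap S R (projS hinj q C hC c) = q (c : Q) := by
  unfold projS
  have h := (AlgEquiv.ofInjective (IsScalarTower.toAlgHom k S R) hinj).apply_symm_apply
    ⟨q (c : Q), hC c.2⟩
  have h2 := congrArg Subtype.val h
  rw [AlgEquiv.ofInjective_apply] at h2
  exact h2

end Proj

section Core

variable (k : Type u) [Field k] [IsAlgClosed k] [CharZero k]
  (A : Type u) [CommRing A] [HopfAlgebra k A] [Algebra.FiniteType k A]
  (S : Type u) [CommRing S] [Algebra k S] [Algebra.FiniteType k S] [Comod k A S]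
  [GLin.IsCoactAlg k A S]
  (R : Type u) [CommRing R] [Algebra k R] [Algebra.FiniteType k R] [cR : Comod k A R]
  [GLin.IsCoactAlg k A R]
  [Algebra S R] [IsScalarTower k S R] [Algebra.QuasiFinite S R]
  (Q : Type u) [CommRing Q] [Algebra k Q] [Algebra.FiniteType k Q] [cQ : Comod k A Q]
  [GLin.IsCoactAlg k A Q]

theorem exists_thick_sub (hG : IsLinearlyReductive k A)
    (hinj : Function.Injective (algebraMap S R))
    (hequiv : ∀ s : S, Comod.coact (k := k) (A := A) (algebraMap S R s) =
      Algebra.TensorProduct.map (IsScalarTower.toAlgHom k S R) (AlgHom.id k A)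
        (Comod.coact (k := k) (A := A) s))
    (q : Q →ₐ[k] R) (hq : Function.Surjective q)
    (hqeq : ∀ x : Q, Comod.coact (k := k) (A := A) (q x) =
      Algebra.TensorProduct.map q (AlgHom.id k A) (Comod.coact (k := k) (A := A) x))
    (W' : Submodule k Q) [Module.Finite k W'] (hW' : IsSubcomod (k := k) (A := A) W')
    (hW'gen : Algebra.adjoin k (W' : Set Q) = ⊤) :
    ∃ (C : Subalgebra k Q) (hC : C ≤ preS S q),
      IsSubcomod (k := k) (A := A) (Subalgebra.toSubmodule C) ∧ C.FG ∧
      Function.Surjective (projS hinj q C hC) ∧ C.val.toRingHom.QuasiFinite := by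
  classical
  haveI : IsReduced A := EZ.isReduced_of_charZero k A
  haveI : Algebra.FiniteType S R := Algebra.FiniteType.of_restrictScalars_finiteType k S R
  -- `q` is a comodule map
  have hqhom : Hoch.IsComodHom A q.toLinearMap := by
    rw [isComodHom_iff]
    intro x
    rw [AlgHom.toLinearMap_apply, hqeq, map_eq_rTensor]
  set J : Ideal Q := RingHom.ker q.toRingHom with hJdef
  have hJmem : ∀ x, x ∈ J ↔ q x = 0 := fun x => RingHom.mem_ker
  have hJsub : IsSubcomod (k := k) (A := A) (J.restrictScalars k) := by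
    have h := isSubcomod_ker hqhom
    have he : J.restrictScalars k = LinearMap.ker q.toLinearMap := by
      ext x
      rw [Submodule.restrictScalars_mem, hJmem, LinearMap.mem_ker, AlgHom.toLinearMap_apply]
    rw [he]; exact h
  -- the image of `S`
  have hιhom : Hoch.IsComodHom A (IsScalarTower.toAlgHom k S R).toLinearMap := by
    rw [isComodHom_iff]
    intro s
    rw [AlgHom.toLinearMap_apply, IsScalarTower.coe_toAlgHom', hequiv, map_eq_rTensor]
  have hSim : IsSubcomod (k := k) (A := A)
      (Subalgebra.toSubmodule (IsScalarTower.toAlgHom k S R).range) := by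
    have h := isSubcomod_range hιhom
    have he : Subalgebra.toSubmodule (IsScalarTower.toAlgHom k S R).range =
        LinearMap.range (IsScalarTower.toAlgHom k S R).toLinearMap := by
      ext x
      rfl
    rw [he]; exact h
  have hT₀ : IsSubcomod (k := k) (A := A) (Subalgebra.toSubmodule (preS S q)) := by
    have h := isSubcomod_comap hqhom hSim
    have he : Subalgebra.toSubmodule (preS S q) =
        (Subalgebra.toSubmodule (IsScalarTower.toAlgHom k S R).range).comap q.toLinearMap := by
      ext x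
      rfl
    rw [he]; exact h
  have hJT₀ : ∀ x ∈ J, x ∈ preS S q := by
    intro x hx
    change q x ∈ (IsScalarTower.toAlgHom k S R).range
    rw [(hJmem x).1 hx]
    exact Subalgebra.zero_mem _
  -- generators
  obtain ⟨GS, hGS⟩ := (Algebra.FiniteType.out : (⊤ : Subalgebra k S).FG)
  let lift : S → Q := fun s => Classical.choose (hq (algebraMap S R s))
  have hlift : ∀ s, q (lift s) = algebraMap S R s := fun s =>
    Classical.choose_spec (hq (algebraMap S R s))
  haveI : IsNoetherianRing Q := Algebra.FiniteType.isNoetherianRing k Q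
  obtain ⟨M, hM⟩ := (IsNoetherian.noetherian J : J.FG)
  have hMJ : ∀ m ∈ M, m ∈ J := fun m hm => hM ▸ Ideal.subset_span hm
  obtain ⟨U', hU'fin, hU'F, hU'⟩ :=
    EZ.exists_finite_subcomod_finset (k := k) (A := A) (GS.image lift ∪ M)
  set U : Submodule k Q := U' ⊓ Subalgebra.toSubmodule (preS S q) with hUdef
  have hU : IsSubcomod (k := k) (A := A) U := isSubcomod_inf hU' hT₀
  haveI : Module.Finite k U' := hU'fin
  haveI : Module.Finite k U := Submodule.finiteDimensional_of_le inf_le_left
  have hliftU : ∀ s ∈ GS, lift s ∈ U := by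
    intro s hs
    refine ⟨hU'F (Finset.mem_coe.2 (Finset.mem_union_left _ (Finset.mem_image_of_mem _ hs))), ?_⟩
    change q (lift s) ∈ (IsScalarTower.toAlgHom k S R).range
    rw [hlift]
    exact ⟨s, rfl⟩
  have hMU : ∀ m ∈ M, m ∈ U := by
    intro m hm
    exact ⟨hU'F (Finset.mem_coe.2 (Finset.mem_union_right _ hm)), hJT₀ m (hMJ m hm)⟩
  set T : Subalgebra k Q := Algebra.adjoin k (U : Set Q) with hTdef
  have hT : IsSubcomod (k := k) (A := A) (Subalgebra.toSubmodule T) := EZ.isSubcomod_adjoin U hU
  have hTle : T ≤ preS S q := Algebra.adjoin_le (fun x hx => hx.2)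
  have hUT : ∀ x ∈ U, x ∈ T := fun x hx => Algebra.subset_adjoin hx
  -- the projection `T → S`
  have hpT : ∀ (C : Subalgebra k Q) (hC : C ≤ preS S q) (t : ↥C),
      algebraMap S R (projS hinj q C hC t) = q (t : Q) := fun C hC t =>
    algebraMap_projS hinj q C hC t
  have hprojsurj : ∀ (C : Subalgebra k Q) (hC : C ≤ preS S q), T ≤ C →
      Function.Surjective (projS hinj q C hC) := by
    intro C hC hTC s
    have hle : (⊤ : Subalgebra k S) ≤ (projS hinj q C hC).range := by
      rw [← hGS]
      apply Algebra.adjoin_le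
      intro g hg
      refine ⟨⟨lift g, hTC (hUT _ (hliftU g hg))⟩, ?_⟩
      apply hinj
      have := hpT C hC ⟨lift g, hTC (hUT _ (hliftU g hg))⟩
      rw [hlift] at this
      exact this
    exact hle trivial
  have hpTsurj := hprojsurj T hTle le_rfl
  -- quasi-finiteness at the primes containing `J`
  haveI : Algebra.FiniteType ↥T Q := Algebra.FiniteType.of_restrictScalars_finiteType k ↥T Q
  have hker : RingHom.ker q.toRingHom ≤
      Ideal.map (algebraMap ↥T Q) (RingHom.ker (projS hinj q T hTle).toRingHom) := by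
    rw [← hJdef, ← hM]
    apply Ideal.span_le.2
    intro m hm
    have hmT : m ∈ T := hUT m (hMU m hm)
    have : (⟨m, hmT⟩ : ↥T) ∈ RingHom.ker (projS hinj q T hTle).toRingHom := by
      rw [RingHom.mem_ker]
      apply hinj
      rw [map_zero]
      exact (hpT T hTle ⟨m, hmT⟩).trans ((hJmem m).1 (hMJ m hm))
    exact Ideal.mem_map_of_mem (algebraMap ↥T Q) this
  have hqfAt : ∀ (𝔮 : Ideal Q) [𝔮.IsPrime], J ≤ 𝔮 → Algebra.QuasiFiniteAt ↥T 𝔮 := by
    intro 𝔮 _ h𝔮
    exact quasiFiniteAt_of_quotient q.toRingHom hq (projS hinj q T hTle).toRingHom hpTsurj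
      (fun t => (hpT T hTle t).symm) hker 𝔮 h𝔮
  have hJc : J ⊔ qfIdeal T = ⊤ := by
    by_contra hne
    obtain ⟨𝔪, h𝔪, hle⟩ := Ideal.exists_le_maximal _ hne
    haveI := h𝔪.isPrime
    haveI := hqfAt 𝔪 (le_sup_left.trans hle)
    obtain ⟨r, hr𝔪, hrqf⟩ := exists_notMem_quasiFinite_away' (T := ↥T) 𝔪
    apply hr𝔪
    apply hle
    apply Ideal.mem_sup_right
    apply Ideal.subset_span
    exact hrqf
  -- the separating invariant
  have hcsub : IsSubcomod (k := k) (A := A) ((qfIdeal T).restrictScalars k) :=
    isSubcomod_qfIdeal hT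
  obtain ⟨h, hhc, hhfix, hhJ⟩ := exists_invariant_sep hG J (qfIdeal T) hJsub hcsub hJc
  obtain ⟨e, hedef⟩ : ∃ e : Q, e = 1 - h := ⟨_, rfl⟩
  have heJ : e ∈ J := hedef ▸ hhJ
  have hefix : e ∈ fixedPts k A Q := by
    have hone : (1 : Q) ∈ fixedPts k A Q := by
      rw [mem_fixedPts_iff, GLin.IsCoactAlg.coact_one (k := k) (A := A) (R := Q)]
      rfl
    rw [hedef]
    exact Submodule.sub_mem _ hone hhfix
  have hmul : Hoch.IsComodHom A (LinearMap.mulLeft k e) := by
    rw [isComodHom_iff]
    intro x
    rw [LinearMap.mulLeft_apply, GLin.IsCoactAlg.coact_mul (k := k) (A := A),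
      (mem_fixedPts_iff e).1 hefix]
    generalize Comod.coact (k := k) (A := A) x = y
    induction y using TensorProduct.induction_on with
    | zero => simp
    | tmul a b => simp [Algebra.TensorProduct.tmul_mul_tmul]
    | add s t hs ht => rw [mul_add, map_add, hs, ht]
  have heW' : IsSubcomod (k := k) (A := A) (W'.map (LinearMap.mulLeft k e)) :=
    isSubcomod_map hmul hW'
  have hespan : IsSubcomod (k := k) (A := A) (Submodule.span k {e}) := by
    apply isSubcomod_span
    intro x hx
    have hx' : x = e := hx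
    rw [hx', (mem_fixedPts_iff e).1 hefix]
    exact tmul_mem_range_rTensor (Submodule.mem_span_singleton_self e) 1
  set U₂ : Submodule k Q := U ⊔ Submodule.span k {e} ⊔ W'.map (LinearMap.mulLeft k e) with hU₂def
  have hU₂ : IsSubcomod (k := k) (A := A) U₂ := isSubcomod_sup (isSubcomod_sup hU hespan) heW'
  haveI : Module.Finite k U₂ := by rw [hU₂def]; infer_instance
  have hU₂le : U₂ ≤ Subalgebra.toSubmodule (preS S q) := by
    refine sup_le (sup_le inf_le_right ?_) ?_
    · rw [Submodule.span_le]
      intro x hx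
      have hx' : x = e := hx
      rw [hx']
      exact hJT₀ _ heJ
    · rintro _ ⟨w, hw, rfl⟩
      exact hJT₀ _ (J.mul_mem_right w heJ)
  set C : Subalgebra k Q := Algebra.adjoin k (U₂ : Set Q) with hCdef
  have hCsub : IsSubcomod (k := k) (A := A) (Subalgebra.toSubmodule C) :=
    EZ.isSubcomod_adjoin U₂ hU₂
  have hCle : C ≤ preS S q := Algebra.adjoin_le hU₂le
  have hTC : T ≤ C :=
    Algebra.adjoin_mono (fun x hx => (le_sup_left.trans le_sup_left : U ≤ U₂) hx)
  have heC : e ∈ C := Algebra.subset_adjoin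
    ((le_sup_right.trans le_sup_left : Submodule.span k {e} ≤ U₂)
      (Submodule.mem_span_singleton_self e))
  have heWC : ∀ w ∈ W', e * w ∈ C := fun w hw =>
    Algebra.subset_adjoin ((le_sup_right : W'.map (LinearMap.mulLeft k e) ≤ U₂) ⟨w, hw, rfl⟩)
  have hCfg : C.FG := by
    obtain ⟨s, hs⟩ := (Module.Finite.iff_fg.1 inferInstance : U₂.FG)
    exact ⟨s, by rw [hCdef, ← hs, Algebra.adjoin_span]⟩
  have hgen := exists_pow_mul_mem C e heC W' hW'gen heWC
  have hspan : Ideal.span (qfSet T ∪ {e}) = ⊤ := by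
    rw [Ideal.eq_top_iff_one]
    have h1 : h ∈ Ideal.span (qfSet T ∪ {e}) := Ideal.span_mono Set.subset_union_left hhc
    have h2 : e ∈ Ideal.span (qfSet T ∪ {e}) := Ideal.subset_span (Set.mem_union_right _ rfl)
    have : (1 : Q) = h + e := by rw [hedef]; ring
    rw [this]
    exact Ideal.add_mem _ h1 h2
  exact ⟨C, hCle, hCsub, hCfg, hprojsurj C hCle hTC,
    quasiFinite_of_cover T C hTC e heC hgen hspan⟩

end Core

end Groth.Agent.Lib.Helper7.TH
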