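import Groth.Agent.Lib.Helper7.TH6

/-!
# Equivariant thickening, VII: the theorem (helper7)
-/

set_option autoImplicit false

universe u

open TensorProduct

namespace Groth.Agent.Lib.Helper7.TH

open HopfRep Groth.Agent.Lib.Helper7.Comod Coalgebra

theorem thickening (k : Type u) [Field k] [IsAlgClosed k] [CharZero k]
    (A : Type u) [CommRing A] [HopfAlgebra k A] [Algebra.FiniteType k A]
    (hG : HopfRep.IsLinearlyReductive k A)
    (S : Type u) [CommRing S] [Algebra k S] [Algebra.FiniteType k S] [HopfRep.Comod k A S]
    [GLin.IsCoactAlg k A S]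
    (R : Type u) [CommRing R] [Algebra k R] [Algebra.FiniteType k R] [cR : HopfRep.Comod k A R]
    [GLin.IsCoactAlg k A R]
    [Algebra S R] [IsScalarTower k S R] [Algebra.QuasiFinite S R]
    (hinj : Function.Injective (algebraMap S R))
    (hequiv : (∀ s : S, HopfRep.Comod.coact (k := k) (A := A) (algebraMap S R s) =
      Algebra.TensorProduct.map (IsScalarTower.toAlgHom k S R) (AlgHom.id k A)
        (HopfRep.Comod.coact (k := k) (A := A) s))) :
    ∃ (R' : Type u) (_ : CommRing R') (_ : IsDomain R') (_ : IsIntegrallyClosed R')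
      (_ : Algebra k R')
      (_ : HopfRep.Comod k A R') (_ : GLin.IsCoactAlg k A R')
      (S' : Type u) (_ : CommRing S') (_ : IsDomain S') (_ : Algebra k S')
      (_ : HopfRep.Comod k A S') (_ : GLin.IsCoactAlg k A S'),
      Algebra.FiniteType k R' ∧ Algebra.FiniteType k S' ∧
      ∃ (pR : R' →ₐ[k] R) (pS : S' →ₐ[k] S) (φ' : S' →ₐ[k] R'),
        Function.Surjective pR ∧ Function.Surjective pS ∧ Function.Injective φ' ∧
        φ'.toRingHom.QuasiFinite ∧
        (∀ s : R', HopfRep.Comod.coact (k := k) (A := A) (pR s) =
        Algebra.TensorProduct.map pR (AlgHom.id k A) (HopfRep.Comod.coact (k := k) (A := A) s)) ∧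
        (∀ s : S', HopfRep.Comod.coact (k := k) (A := A) (pS s) =
        Algebra.TensorProduct.map pS (AlgHom.id k A) (HopfRep.Comod.coact (k := k) (A := A) s)) ∧
        (∀ s : S', HopfRep.Comod.coact (k := k) (A := A) (φ' s) =
        Algebra.TensorProduct.map φ' (AlgHom.id k A) (HopfRep.Comod.coact (k := k) (A := A) s)) ∧
        pR.comp φ' = (IsScalarTower.toAlgHom k S R).comp pS := by
  classical
  -- a finite-dimensional generating subcomodule of `R`
  obtain ⟨GR, hGR⟩ := (Algebra.FiniteType.out : (⊤ : Subalgebra k R).FG)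
  obtain ⟨W, hWfin, hGW, hW⟩ := EZ.exists_finite_subcomod_finset (k := k) (A := A) GR
  haveI : Module.Finite k W := hWfin
  let b := Module.Free.chooseBasis k W
  letI cW : Comod k A W := ComodSub.Comod.restr cR W hW
  letI cQ : Comod k A (MvPolynomial (Module.Free.ChooseBasisIndex k W) k) := polyComod b cW
  haveI hQalg : GLin.IsCoactAlg k A (MvPolynomial (Module.Free.ChooseBasisIndex k W) k) :=
    polyIsCoactAlg b cW
  set q : MvPolynomial (Module.Free.ChooseBasisIndex k W) k →ₐ[k] R := presHom W b with hqdef
  have hq : Function.Surjective q := by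
    intro r
    have hle : (⊤ : Subalgebra k R) ≤ q.range := by
      rw [← hGR]
      apply Algebra.adjoin_le
      intro g hg
      exact presHom_range_ge W b (hGW hg)
    exact hle trivial
  have hqeq : ∀ x, Comod.coact (k := k) (A := A) (q x) =
      Algebra.TensorProduct.map q (AlgHom.id k A) (Comod.coact (k := k) (A := A) x) :=
    fun x => presHom_coact W hW b x
  -- the linear forms
  have hXhom : Hoch.IsComodHom A (Xlin b) := by
    rw [isComodHom_iff]
    intro w
    exact polyCoact_Xlin b cW w
  have hW' : IsSubcomod (k := k) (A := A) (LinearMap.range (Xlin b)) := isSubcomod_range hXhom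
  haveI : Module.Finite k (LinearMap.range (Xlin b)) := inferInstance
  have hW'gen : Algebra.adjoin k ((LinearMap.range (Xlin b) :
      Submodule k (MvPolynomial (Module.Free.ChooseBasisIndex k W) k)) :
        Set (MvPolynomial (Module.Free.ChooseBasisIndex k W) k)) = ⊤ := by
    rw [eq_top_iff, ← MvPolynomial.adjoin_range_X]
    apply Algebra.adjoin_mono
    rintro _ ⟨i, rfl⟩
    exact ⟨b i, Xlin_basis b i⟩
  obtain ⟨C, hC, hCsub, hCfg, hpsurj, hCqf⟩ :=
    exists_thick_sub k A S R (MvPolynomial (Module.Free.ChooseBasisIndex k W) k) hG hinj hequiv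
      q hq hqeq (LinearMap.range (Xlin b)) hW' hW'gen
  letI cC : Comod k A ↥C := EZ.comodSub C hCsub
  haveI hCalg : GLin.IsCoactAlg k A ↥C := EZ.isCoactAlgSub C hCsub
  haveI : Algebra.FiniteType k ↥C := (Subalgebra.fg_iff_finiteType C).1 hCfg
  refine ⟨MvPolynomial (Module.Free.ChooseBasisIndex k W) k, inferInstance, inferInstance,
    inferInstance, inferInstance, cQ, hQalg, ↥C, inferInstance, inferInstance, inferInstance,
    cC, hCalg, inferInstance, inferInstance, q, projS hinj q C hC, C.val, hq, hpsurj,
    Subtype.val_injective, hCqf, hqeq, ?_, ?_, ?_⟩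
  · -- equivariance of `pS`
    intro c
    have hι : Function.Injective
        ((IsScalarTower.toAlgHom k S R).toLinearMap.rTensor A) :=
      Module.Flat.rTensor_preserves_injective_linearMap _ hinj
    apply hι
    have h1 : (IsScalarTower.toAlgHom k S R).toLinearMap.rTensor A
        (Comod.coact (k := k) (A := A) (projS hinj q C hC c)) =
        Comod.coact (k := k) (A := A) (q (c : MvPolynomial (Module.Free.ChooseBasisIndex k W) k)) := by
      rw [← map_eq_rTensor, ← hequiv, algebraMap_projS]
    have h2 : ∀ y : ↥C ⊗[k] A, (IsScalarTower.toAlgHom k S R).toLinearMap.rTensor A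
        (Algebra.TensorProduct.map (projS hinj q C hC) (AlgHom.id k A) y) =
        Algebra.TensorProduct.map q (AlgHom.id k A) (EZ.FS (A := A) C y) := by
      intro y
      rw [← map_eq_rTensor]
      unfold EZ.FS
      induction y using TensorProduct.induction_on with
      | zero => simp
      | tmul x a =>
        simp only [Algebra.TensorProduct.map_tmul, AlgHom.coe_id, id_eq,
          IsScalarTower.coe_toAlgHom', algebraMap_projS]
        rfl
      | add s t hs ht => simp only [map_add, hs, ht]
    rw [h1, h2, EZ.FS_coact C hCsub c, hqeq]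
  · -- equivariance of the inclusion
    intro c
    exact (EZ.FS_coact C hCsub c).symm
  · apply AlgHom.ext
    intro c
    exact (algebraMap_projS hinj q C hC c).symm

end Groth.Agent.Lib.Helper7.TH
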