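import Groth.Agent.Lib.Helper7.TS5
import Groth.Agent.Lib.Helper7.HopfFlatApps
import Groth.Agent.Lib.Helper7.HopfSubGen

/-!
# Splitting of extensions of diagonalizable groups by unipotent groups, V (helper7)

For a skew-primitive `c` whose image `x` in `A ⧸ B⁺A` has independent powers, the powers of `c`
are independent over `B`; consequently `cA ∩ B = 0` when `μ_x(c) = 0`.
-/

set_option autoImplicit false

universe u

open TensorProduct Polynomial

namespace Groth.Agent.Lib.Helper7.TS

open HopfRep Groth.Agent.Lib.Helper7.Comod Groth.Agent.Lib.Helper7.UnipExt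
  Groth.Agent.Lib.Helper7.HopfSub Groth.Agent.Lib.Helper7.HopfSubGen
  Groth.Agent.Lib.Helper7.HopfMap

section Indep

variable {k : Type u} [Field k] {A : Type u} [CommRing A] [HopfAlgebra k A]
  {B : Type u} [CommRing B] [HopfAlgebra k B] (ψ : B →ₐc[k] A) (J : Ideal A) [J.IsHopfIdeal k]

/-- the coaction of `A ⧸ J` on `A`. -/
noncomputable def rho : A →ₐ[k] A ⊗[k] (A ⧸ J) :=
  (Algebra.TensorProduct.map (AlgHom.id k A) (Ideal.Quotient.mkₐ k J)).comp
    (Bialgebra.comulAlgHom k A)

lemma rho_apply (a : A) : rho J a =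
    Algebra.TensorProduct.map (AlgHom.id k A) (Ideal.Quotient.mkₐ k J)
      (Coalgebra.comul (R := k) a) := rfl

lemma mk_map (hJ : J = Ideal.map (ψ : B →+* A) (RingHom.ker (Bialgebra.counitAlgHom k B)))
    (b : B) : Ideal.Quotient.mk J (ψ b) = algebraMap k (A ⧸ J) (Coalgebra.counit (R := k) b) := by
  have h1 : b - algebraMap k B (Coalgebra.counit (R := k) b) ∈
      RingHom.ker (Bialgebra.counitAlgHom k B) := by
    rw [RingHom.mem_ker, map_sub, Bialgebra.counitAlgHom_apply, AlgHom.commutes,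
      Algebra.algebraMap_self_apply, sub_self]
  have h2 : (ψ : B →+* A) (b - algebraMap k B (Coalgebra.counit (R := k) b)) ∈ J := by
    rw [hJ]
    exact Ideal.mem_map_of_mem _ h1
  have h3 := Ideal.Quotient.eq_zero_iff_mem.2 h2
  rw [map_sub, map_sub, sub_eq_zero] at h3
  have h4 : (ψ : B →+* A) (algebraMap k B (Coalgebra.counit (R := k) b)) =
      algebraMap k A (Coalgebra.counit (R := k) b) := AlgHomClass.commutes ψ _
  rw [h4] at h3
  exact h3

lemma rho_map (hJ : J = Ideal.map (ψ : B →+* A) (RingHom.ker (Bialgebra.counitAlgHom k B)))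
    (b : B) : rho J (ψ b) = ψ b ⊗ₜ[k] (1 : A ⧸ J) := by
  rw [rho_apply]
  have h1 := CoalgHomClass.map_comp_comul_apply ψ b
  rw [← h1]
  have key : ∀ y : B ⊗[k] B,
      Algebra.TensorProduct.map (AlgHom.id k A) (Ideal.Quotient.mkₐ k J)
        (TensorProduct.map (ψ : B →ₗ[k] A) (ψ : B →ₗ[k] A) y) =
      (ψ (TensorProduct.rid k B (LinearMap.lTensor B (Coalgebra.counit (R := k)) y)))
        ⊗ₜ[k] (1 : A ⧸ J) := by
    intro y
    induction y using TensorProduct.induction_on with
    | zero => simp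
    | tmul a b' =>
      rw [TensorProduct.map_tmul, Algebra.TensorProduct.map_tmul, LinearMap.lTensor_tmul,
        TensorProduct.rid_tmul]
      change (ψ a) ⊗ₜ[k] (Ideal.Quotient.mk J (ψ b')) = _
      rw [mk_map ψ J hJ, Algebra.algebraMap_eq_smul_one, TensorProduct.tmul_smul, map_smul,
        TensorProduct.smul_tmul']
    | add y z hy hz => simp only [map_add, TensorProduct.add_tmul, hy, hz]
  rw [key, Coalgebra.lTensor_counit_comul, TensorProduct.rid_tmul, one_smul]

lemma rho_skew {γ c : A} (hc : IsSkew k γ c) :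
    rho J c = c ⊗ₜ[k] (1 : A ⧸ J) + γ ⊗ₜ[k] (Ideal.Quotient.mk J c) := by
  rw [rho_apply, hc, map_add, Algebra.TensorProduct.map_tmul, Algebra.TensorProduct.map_tmul,
    map_one]
  rfl

lemma contr_mul_left (φ : (A ⧸ J) →ₗ[k] k) (a : A) (z : A ⊗[k] (A ⧸ J)) :
    contr A φ ((a ⊗ₜ[k] (1 : A ⧸ J)) * z) = a * contr A φ z := by
  induction z using TensorProduct.induction_on with
  | zero => simp
  | tmul u y =>
    rw [Algebra.TensorProduct.tmul_mul_tmul, one_mul, contr_tmul, contr_tmul, mul_smul_comm]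
  | add y z hy hz => simp only [mul_add, map_add, hy, hz]

/-- `(id ⊗ φ) ∘ ρ`. -/
noncomputable def Tφ (φ : (A ⧸ J) →ₗ[k] k) : A →ₗ[k] A := contr A φ ∘ₗ (rho J).toLinearMap

lemma Tφ_map_mul (hJ : J = Ideal.map (ψ : B →+* A) (RingHom.ker (Bialgebra.counitAlgHom k B)))
    (φ : (A ⧸ J) →ₗ[k] k) (b : B) (a : A) : Tφ J φ (ψ b * a) = ψ b * Tφ J φ a := by
  unfold Tφ
  rw [LinearMap.comp_apply, LinearMap.comp_apply]
  change contr A φ (rho J (ψ b * a)) = ψ b * contr A φ (rho J a)
  rw [map_mul, rho_map ψ J hJ, contr_mul_left]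

lemma Tφ_pow {γ c : A} (hc : IsSkew k γ c) (φ : (A ⧸ J) →ₗ[k] k) (i : ℕ) :
    Tφ J φ (c ^ i) = ∑ l ∈ Finset.range (i + 1),
      (φ ((Ideal.Quotient.mk J c) ^ l) * (i.choose l : k)) • (γ ^ l * c ^ (i - l)) := by
  unfold Tφ
  rw [LinearMap.comp_apply]
  change contr A φ (rho J (c ^ i)) = _
  rw [map_pow, rho_skew J hc, add_comm, add_pow, map_sum]
  apply Finset.sum_congr rfl
  intro l _
  rw [Algebra.TensorProduct.tmul_pow, Algebra.TensorProduct.tmul_pow, one_pow,
    Algebra.TensorProduct.tmul_mul_tmul, mul_one]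
  have h3 : ((i.choose l : ℕ) : A ⊗[k] (A ⧸ J)) =
      algebraMap k (A ⊗[k] (A ⧸ J)) ((i.choose l : ℕ) : k) := by rw [map_natCast]
  rw [h3, ← Algebra.commutes, ← Algebra.smul_def, map_smul, contr_tmul, smul_smul, mul_comm]

/-- the powers of `c` are independent over `B` as far as the powers of `x` are independent
over `k`. -/
theorem eval₂_eq_zero_imp (hψ : Function.Injective ψ)
    (hJ : J = Ideal.map (ψ : B →+* A) (RingHom.ker (Bialgebra.counitAlgHom k B)))
    (hU : IsUnipotent k (A ⧸ J)) {γ c : A} (hγ : IsGroupLikeElem k γ) (hc : IsSkew k γ c)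
    (N : ℕ) (hN : ∀ p : k[X], p.natDegree < N → aeval (Ideal.Quotient.mk J c) p = 0 → p = 0)
    (R : B[X]) (hR : R.natDegree < N) (h0 : Polynomial.eval₂ (ψ : B →+* A) c R = 0) : R = 0 := by
  classical
  by_contra hne
  set n := R.natDegree with hn
  set x := Ideal.Quotient.mk J c with hx
  have hli : LinearIndependent k (fun l : Fin (n + 1) => x ^ (l : ℕ)) := by
    rw [Fintype.linearIndependent_iff]
    intro g hg
    let p : k[X] := ∑ l : Fin (n + 1), Polynomial.monomial (l : ℕ) (g l)
    have hpdeg : p.natDegree < N := by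
      refine lt_of_le_of_lt ?_ hR
      apply Polynomial.natDegree_sum_le_of_forall_le
      intro l _
      exact (Polynomial.natDegree_monomial_le _).trans (Nat.lt_succ_iff.1 l.2)
    have hp0 : aeval x p = 0 := by
      simp only [p, map_sum, Polynomial.aeval_monomial]
      rw [← hg]
      apply Finset.sum_congr rfl
      intro l _
      rw [Algebra.smul_def]
    have hp := hN p hpdeg hp0
    intro l
    have h1 : p.coeff (l : ℕ) = g l := by
      simp only [p, Polynomial.finsetSum_coeff, Polynomial.coeff_monomial]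
      rw [Finset.sum_eq_single l]
      · rw [if_pos rfl]
      · intro l' _ hl'
        rw [if_neg]
        intro h
        exact hl' (Fin.ext h)
      · intro h
        exact absurd (Finset.mem_univ _) h
    rw [← h1, hp, Polynomial.coeff_zero]
  obtain ⟨φ, hφ⟩ := exists_linearMap_of_li hli (fun l => if (l : ℕ) = n then 1 else 0)
  have hφ' : ∀ l, l ≤ n → φ (x ^ l) = if l = n then 1 else 0 := fun l hl =>
    hφ ⟨l, Nat.lt_succ_of_le hl⟩
  have h1 := congrArg (Tφ J φ) h0
  rw [map_zero, Polynomial.eval₂_eq_sum_range, map_sum, ← hn] at h1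
  have h2 : ∀ i ∈ Finset.range (n + 1), Tφ J φ ((ψ : B →+* A) (R.coeff i) * c ^ i) =
      if i = n then ψ (R.coeff n) * γ ^ n else 0 := by
    intro i hi
    rw [Finset.mem_range] at hi
    change Tφ J φ (ψ (R.coeff i) * c ^ i) = _
    rw [Tφ_map_mul ψ J hJ, Tφ_pow J hc]
    by_cases hin : i = n
    · rw [hin, if_pos rfl, Finset.sum_eq_single n]
      · rw [← hx, hφ' n le_rfl, if_pos rfl, Nat.choose_self, Nat.cast_one, mul_one, one_smul,
          Nat.sub_self, pow_zero, mul_one]
      · intro l hl hli'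
        rw [Finset.mem_range] at hl
        rw [← hx, hφ' l (by omega), if_neg hli', zero_mul, zero_smul]
      · intro h
        exact absurd (Finset.mem_range.2 (Nat.lt_succ_self n)) h
    · rw [if_neg hin, Finset.sum_eq_zero, mul_zero]
      intro l hl
      rw [Finset.mem_range] at hl
      rw [← hx, hφ' l (by omega), if_neg (by omega), zero_mul, zero_smul]
  rw [Finset.sum_congr rfl h2, Finset.sum_ite_eq' (Finset.range (n + 1)) n,
    if_pos (Finset.mem_range.2 (Nat.lt_succ_self n))] at h1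
  have h3 : ψ (R.coeff n) = 0 := by
    have hu : IsUnit (γ ^ n) := hγ.isUnit.pow n
    exact (hu.mul_left_eq_zero).1 h1
  have h4 : R.coeff n = 0 := by
    apply hψ
    rw [h3, map_zero]
  apply hne
  rw [← Polynomial.leadingCoeff_eq_zero]
  exact h4

end Indep

end Groth.Agent.Lib.Helper7.TS
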