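import Groth.Agent.Lib.Helper7.TS6

/-!
# Splitting of extensions of diagonalizable groups by unipotent groups, VI (helper7)

`cA ∩ B = 0` for an adjusted skew-primitive `c`; the ideal `(c)` is a Hopf ideal.
-/

set_option autoImplicit false

universe u

open TensorProduct Polynomial

namespace Groth.Agent.Lib.Helper7.TS

open HopfRep Groth.Agent.Lib.Helper7.Comod Groth.Agent.Lib.Helper7.UnipExt
  Groth.Agent.Lib.Helper7.HopfSub Groth.Agent.Lib.Helper7.HopfSubGen
  Groth.Agent.Lib.Helper7.HopfMap Groth.Agent.Lib.Helper7.HopfFlat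

section Inter

variable {k : Type u} [Field k] {A : Type u} [CommRing A] [HopfAlgebra k A]
  {B : Type u} [CommRing B] [HopfAlgebra k B] (ψ : B →ₐc[k] A) (J : Ideal A) [J.IsHopfIdeal k]

/-- the subalgebra generated by `B` and `c`. -/
def DD (c : A) : Subalgebra k A :=
  Algebra.adjoin k (((ψ : B →ₐ[k] A).range : Set A) ∪ {c})

lemma range_le_DD (c : A) : (ψ : B →ₐ[k] A).range ≤ DD ψ c := fun _ hx =>
  Algebra.subset_adjoin (Or.inl hx)

lemma mem_DD_self (c : A) : c ∈ DD ψ c := Algebra.subset_adjoin (Or.inr rfl)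

lemma isHopfSub_DD {γ c : A} (hγ : IsGroupLikeElem k γ) (hc : IsSkew k γ c)
    (hγr : γ ∈ (ψ : B →ₐ[k] A).range) : IsHopfSub (DD ψ c) := by
  unfold DD
  set s : Set A := ((ψ : B →ₐ[k] A).range : Set A) ∪ {c} with hs
  have hle : (ψ : B →ₐ[k] A).range ≤ Algebra.adjoin k s := fun _ hx =>
    Algebra.subset_adjoin (Or.inl hx)
  have hcm : c ∈ Algebra.adjoin k s := Algebra.subset_adjoin (Or.inr rfl)
  apply isHopfSub_adjoin
  · rintro x (hx | hx)
    · exact range_map_val_mono hle ((isHopfSub_range ψ).comul_mem x hx)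
    · rw [Set.mem_singleton_iff] at hx
      subst hx
      refine ⟨(⟨x, hcm⟩ : Algebra.adjoin k s) ⊗ₜ[k] (1 : Algebra.adjoin k s) +
        (⟨γ, hle hγr⟩ : Algebra.adjoin k s) ⊗ₜ[k] (⟨x, hcm⟩ : Algebra.adjoin k s), ?_⟩
      rw [map_add, TensorProduct.map_tmul, TensorProduct.map_tmul, hc]
      rfl
  · rintro x (hx | hx)
    · exact hle ((isHopfSub_range ψ).antipode_mem x hx)
    · rw [Set.mem_singleton_iff] at hx
      subst hx
      rw [hc.antipode hγ]
      exact Subalgebra.neg_mem _ (Subalgebra.mul_mem _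
        (hle ((isHopfSub_range ψ).antipode_mem γ hγr)) hcm)

lemma exists_eval₂_of_mem_DD {c d : A} (hd : d ∈ DD ψ c) :
    ∃ P : B[X], Polynomial.eval₂ (ψ : B →+* A) c P = d := by
  unfold DD at hd
  induction hd using Algebra.adjoin_induction with
  | mem x hx =>
    rcases hx with hx | hx
    · obtain ⟨b, rfl⟩ := hx
      exact ⟨C b, Polynomial.eval₂_C _ _⟩
    · rw [Set.mem_singleton_iff] at hx
      subst hx
      exact ⟨X, Polynomial.eval₂_X _ _⟩
  | algebraMap r =>
    refine ⟨C (algebraMap k B r), ?_⟩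
    rw [Polynomial.eval₂_C]
    exact AlgHomClass.commutes ψ r
  | add x y _ _ hx hy =>
    obtain ⟨P, rfl⟩ := hx
    obtain ⟨Q, rfl⟩ := hy
    exact ⟨P + Q, Polynomial.eval₂_add _ _⟩
  | mul x y _ _ hx hy =>
    obtain ⟨P, rfl⟩ := hx
    obtain ⟨Q, rfl⟩ := hy
    exact ⟨P * Q, Polynomial.eval₂_mul _ _⟩

/-- `cA ∩ B = 0`. -/
theorem eq_zero_of_map_mem_span (hψ : Function.Injective ψ)
    (hJ : J = Ideal.map (ψ : B →+* A) (RingHom.ker (Bialgebra.counitAlgHom k B)))
    (hU : IsUnipotent k (A ⧸ J)) {γ c : A} (hγ : IsGroupLikeElem k γ) (hc : IsSkew k γ c)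
    (hγr : γ ∈ (ψ : B →ₐ[k] A).range)
    (h0 : aeval c (minpoly k (Ideal.Quotient.mk J c)) = 0)
    (b₀ : B) (hb₀ : ψ b₀ ∈ Ideal.span {c}) : b₀ = 0 := by
  classical
  set x := Ideal.Quotient.mk J c with hx
  have hD := isHopfSub_DD ψ hγ hc hγr
  letI := hopfAlgebra hD
  -- descend divisibility to `D`
  have hdvd : c ∣ ψ b₀ := Ideal.mem_span_singleton.1 hb₀
  have hdvd' : (⟨c, mem_DD_self ψ c⟩ : DD ψ c) ∣
      (⟨ψ b₀, range_le_DD ψ c (AlgHom.mem_range_self _ b₀)⟩ : DD ψ c) :=
    dvd_of_map_dvd (valBialgHom hD) Subtype.val_injective _ _ hdvd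
  obtain ⟨d, hd⟩ := hdvd'
  have hd' : ψ b₀ = c * (d : A) := congrArg Subtype.val hd
  obtain ⟨P, hP⟩ := exists_eval₂_of_mem_DD ψ d.2
  set R₀ : B[X] := C b₀ - X * P with hR₀
  have hR₀0 : Polynomial.eval₂ (ψ : B →+* A) c R₀ = 0 := by
    rw [hR₀, Polynomial.eval₂_sub, Polynomial.eval₂_C, Polynomial.eval₂_mul, Polynomial.eval₂_X,
      hP, ← hd']
    exact sub_self _
  have hc0 : R₀.coeff 0 = b₀ := by
    rw [hR₀, Polynomial.coeff_sub, Polynomial.coeff_C_zero, Polynomial.mul_coeff_zero,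
      Polynomial.coeff_X_zero, zero_mul, sub_zero]
  by_cases hint : IsIntegral k x
  · -- the algebraic case
    set μ := minpoly k x with hμ
    have hprim := prim_mk J hU hγ hc
    have hμ0 : μ.coeff 0 = 0 := minpoly_coeff_zero hprim
    have hmon : μ.Monic := minpoly.monic hint
    set μB : B[X] := μ.map (algebraMap k B) with hμB
    haveI : Nontrivial B := by
      refine ⟨⟨0, 1, fun h0 => ?_⟩⟩
      have := congrArg (Coalgebra.counit (R := k)) h0
      rw [map_zero, Bialgebra.counit_one] at this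
      exact zero_ne_one this
    haveI : Nontrivial (A ⧸ J) := by
      refine ⟨⟨0, 1, fun h0 => ?_⟩⟩
      have := congrArg (Coalgebra.counit (R := k)) h0
      rw [map_zero, Bialgebra.counit_one] at this
      exact zero_ne_one this
    have hmonB : μB.Monic := hmon.map _
    have hdeg : μB.natDegree = μ.natDegree := hmon.natDegree_map _
    have hμB1 : μB ≠ 1 := by
      intro h
      have h1 : μB.natDegree = 0 := by rw [h, Polynomial.natDegree_one]
      have h2 : 0 < μ.natDegree := minpoly.natDegree_pos hint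
      omega
    have hevμ : Polynomial.eval₂ (ψ : B →+* A) c μB = 0 := by
      rw [hμB, Polynomial.eval₂_map]
      have : ((ψ : B →+* A).comp (algebraMap k B)) = algebraMap k A := by
        ext r
        exact AlgHomClass.commutes ψ r
      rw [this]
      exact h0
    set R₁ := R₀ %ₘ μB with hR₁
    have hR₁deg : R₁.natDegree < μ.natDegree := by
      rw [← hdeg]
      exact Polynomial.natDegree_modByMonic_lt R₀ hmonB hμB1
    have hR₁0 : Polynomial.eval₂ (ψ : B →+* A) c R₁ = 0 := by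
      have h1 := Polynomial.modByMonic_add_div R₀ μB
      have h2 := congrArg (Polynomial.eval₂ (ψ : B →+* A) c) h1
      rw [Polynomial.eval₂_add, Polynomial.eval₂_mul, hevμ, zero_mul, add_zero, hR₀0] at h2
      exact h2
    have hN : ∀ p : k[X], p.natDegree < μ.natDegree → aeval x p = 0 → p = 0 := by
      intro p hp hp0
      by_contra hpne
      have h1 := minpoly.degree_le_of_ne_zero k x hpne hp0
      have h2 := Polynomial.natDegree_le_natDegree h1
      rw [← hμ] at h2
      omega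
    have hR₁z : R₁ = 0 := eval₂_eq_zero_imp ψ J hψ hJ hU hγ hc _ hN R₁ hR₁deg hR₁0
    have h1 := Polynomial.modByMonic_add_div R₀ μB
    rw [← hR₁, hR₁z, zero_add] at h1
    rw [← hc0, ← h1, Polynomial.mul_coeff_zero, hμB, Polynomial.coeff_map, hμ0, map_zero, zero_mul]
  · -- the transcendental case
    have hN : ∀ p : k[X], p.natDegree < R₀.natDegree + 1 → aeval x p = 0 → p = 0 := by
      intro p _ hp0
      by_contra hpne
      exact hint (IsAlgebraic.isIntegral ⟨p, hpne, hp0⟩)
    have hR₀z : R₀ = 0 :=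
      eval₂_eq_zero_imp ψ J hψ hJ hU hγ hc _ hN R₀ (Nat.lt_succ_self _) hR₀0
    rw [← hc0, hR₀z, Polynomial.coeff_zero]

end Inter

end Groth.Agent.Lib.Helper7.TS
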