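import Groth.Agent.Lib.Helper7.TS7
import Groth.Agent.Lib.Helper7.NQ2
import Groth.Agent.Lib.Helper7.TrigBC

/-!
# Splitting of extensions of diagonalizable groups by unipotent groups, VII (helper7)

Over an algebraically closed field every extension of a diagonalizable group by a unipotent
algebraic group splits.
-/

set_option autoImplicit false

universe u

open TensorProduct Polynomial

namespace Groth.Agent.Lib.Helper7.TS

open HopfRep Groth.Agent.Lib.Helper7.Comod Groth.Agent.Lib.Helper7.UnipExt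
  Groth.Agent.Lib.Helper7.HopfSub Groth.Agent.Lib.Helper7.HopfMap
  Groth.Agent.Lib.Helper7.NormalQuot Groth.Agent.Lib.Helper7.HopfIdealMap
  Groth.Agent.Lib.Helper7.TrigBC

section HopfIdeal

variable {k : Type u} [Field k] {A : Type u} [CommRing A] [HopfAlgebra k A]

theorem isHopfIdeal_span_skew {γ c : A} (hγ : IsGroupLikeElem k γ) (hc : IsSkew k γ c) :
    (Ideal.span {c}).IsHopfIdeal k := by
  have hcI : c ∈ Ideal.span {c} := Ideal.subset_span rfl
  haveI hco : (Submodule.restrictScalars k (Ideal.span {c})).IsCoideal := by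
    refine (Submodule.isCoideal_iff_comul_mem _).2 ⟨?_, ?_⟩
    · intro x hx
      obtain ⟨a, rfl⟩ := Ideal.mem_span_singleton'.1 hx
      rw [Bialgebra.counit_mul, hc.counit hγ, mul_zero]
    · intro x hx
      obtain ⟨a, rfl⟩ := Ideal.mem_span_singleton'.1 hx
      rw [Bialgebra.comul_mul, hc, mul_add]
      refine Submodule.add_mem _ (Submodule.mem_sup_right ?_) (Submodule.mem_sup_left ?_)
      · generalize Coalgebra.comul (R := k) a = z
        induction z using TensorProduct.induction_on with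
        | zero => rw [zero_mul]; exact Submodule.zero_mem _
        | tmul u w =>
          rw [Algebra.TensorProduct.tmul_mul_tmul, mul_one]
          exact ⟨(⟨u * c, Ideal.mul_mem_left _ u hcI⟩ :
            (Ideal.span {c}).restrictScalars k) ⊗ₜ[k] w, rfl⟩
        | add y z hy hz => rw [add_mul]; exact Submodule.add_mem _ hy hz
      · generalize Coalgebra.comul (R := k) a = z
        induction z using TensorProduct.induction_on with
        | zero => rw [zero_mul]; exact Submodule.zero_mem _
        | tmul u w =>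
          rw [Algebra.TensorProduct.tmul_mul_tmul]
          exact ⟨(u * γ) ⊗ₜ[k] (⟨w * c, Ideal.mul_mem_left _ w hcI⟩ :
            (Ideal.span {c}).restrictScalars k), rfl⟩
        | add y z hy hz => rw [add_mul]; exact Submodule.add_mem _ hy hz
  refine ⟨?_⟩
  · intro x hx
    obtain ⟨a, rfl⟩ := Ideal.mem_span_singleton'.1 hx
    have h1 : HopfAlgebra.antipode k (a * c) =
        HopfAlgebra.antipode k a * HopfAlgebra.antipode k c :=
      map_mul (HopfAlgebra.antipodeAlgHom k A) a c
    rw [h1, hc.antipode hγ, mul_neg]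
    exact neg_mem (Ideal.mul_mem_left _ _ (Ideal.mul_mem_left _ _ hcI))

end HopfIdeal


section Main

variable {k : Type u} [Field k] [IsAlgClosed k] {A : Type u} [CommRing A] [HopfAlgebra k A]
  {M : Type u} [CommGroup M] (ψ : MonoidAlgebra k M →ₐc[k] A) (J : Ideal A) [J.IsHopfIdeal k]

/-- if `k[M] ↪ A` is not surjective, some nonzero Hopf ideal of `A` meets `k[M]` trivially. -/
theorem exists_hopfIdeal_of_not_surjective (hψ : Function.Injective ψ)
    (hJ : J = Ideal.map (ψ : MonoidAlgebra k M →+* A)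
      (RingHom.ker (Bialgebra.counitAlgHom k (MonoidAlgebra k M))))
    (hU : IsUnipotent k (A ⧸ J)) (hns : ¬ Function.Surjective ψ) :
    ∃ K : Ideal A, K.IsHopfIdeal k ∧ K ≠ ⊥ ∧ ∀ b, ψ b ∈ K → b = 0 := by
  have hB : IsDiagonalizable k (MonoidAlgebra k M) := MonoidAlgebra.span_isGroupLikeElem
  obtain ⟨γ, c, hγ, hc, hcr⟩ := exists_skewPrim ψ J hψ hB hJ hU hns
  have hγr := groupLike_mem_range ψ J hJ hU hγ
  obtain ⟨c', hc', hcr', h0⟩ : ∃ c' : A, IsSkew k γ c' ∧
      c' ∉ (ψ : MonoidAlgebra k M →ₐ[k] A).range ∧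
      aeval c' (minpoly k (Ideal.Quotient.mk J c')) = 0 := by
    by_cases hint : IsIntegral k (Ideal.Quotient.mk J c)
    · obtain ⟨c', h1, h2, h3, h4⟩ := exists_adjust ψ J hψ hJ hU hγ hc hcr hint
      exact ⟨c', h1, h2, by rw [h3]; exact h4⟩
    · exact ⟨c, hc, hcr, by rw [minpoly.eq_zero hint, map_zero]⟩
  refine ⟨Ideal.span {c'}, isHopfIdeal_span_skew hγ hc', ?_, ?_⟩
  · intro h
    apply hcr'
    have : c' = 0 := by
      have h1 : c' ∈ Ideal.span {c'} := Ideal.subset_span rfl
      rw [h] at h1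
      exact h1
    rw [this]
    exact Subalgebra.zero_mem _
  · intro b hb
    exact eq_zero_of_map_mem_span ψ J hψ hJ hU hγ hc' hγr h0 b hb

variable [Algebra.FiniteType k A]

/-- **splitting**: over an algebraically closed field, an extension of a diagonalizable group by
a unipotent algebraic group is split. -/
theorem exists_retraction (hψ : Function.Injective ψ)
    (hJ : J = Ideal.map (ψ : MonoidAlgebra k M →+* A)
      (RingHom.ker (Bialgebra.counitAlgHom k (MonoidAlgebra k M))))
    (hU : IsUnipotent k (A ⧸ J)) :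
    ∃ r : A →ₐc[k] MonoidAlgebra k M, r.comp ψ = BialgHom.id k (MonoidAlgebra k M) := by
  classical
  haveI : IsNoetherianRing A := Algebra.FiniteType.isNoetherianRing k A
  let S : Set (Ideal A) := {I | I.IsHopfIdeal k ∧ ∀ b, ψ b ∈ I → b = 0}
  have hSne : S.Nonempty := by
    refine ⟨⊥, ?_, ?_⟩
    · have h := isHopfIdeal_ker (BialgHom.id k A)
      have h2 : RingHom.ker ((BialgHom.id k A : A →ₐc[k] A) : A →+* A) = ⊥ := by
        rw [eq_bot_iff]
        intro x hx
        exact hx
      rwa [h2] at h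
    · intro b hb
      rw [Ideal.mem_bot] at hb
      apply hψ
      rw [hb, map_zero]
  obtain ⟨I, hIS, hImax⟩ := set_has_maximal_iff_noetherian.2 (inferInstance : IsNoetherian A A)
    S hSne
  obtain ⟨hIH, hIψ⟩ := hIS
  haveI := hIH
  let π : A →ₐc[k] A ⧸ I := Bialgebra.Quotient.mkBialgHom (R := k) I
  let ψ' : MonoidAlgebra k M →ₐc[k] A ⧸ I := π.comp ψ
  have hψ' : Function.Injective ψ' := by
    intro b b' hbb
    have h1 : ψ' (b - b') = 0 := by rw [map_sub, hbb, sub_self]
    have h2 : ψ (b - b') ∈ I := Ideal.Quotient.eq_zero_iff_mem.1 h1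
    exact sub_eq_zero.1 (hIψ _ h2)
  set J' : Ideal (A ⧸ I) := Ideal.map (ψ' : MonoidAlgebra k M →+* A ⧸ I)
      (RingHom.ker (Bialgebra.counitAlgHom k (MonoidAlgebra k M))) with hJ'
  haveI : J'.IsHopfIdeal k := isHopfIdeal_map ψ' _
  -- the quotient is unipotent
  have hU' : IsUnipotent k ((A ⧸ I) ⧸ J') := by
    let q₁ : A →ₐc[k] A ⧸ J := Bialgebra.Quotient.mkBialgHom (R := k) J
    let q₂ : A →ₐc[k] (A ⧸ I) ⧸ J' := (Bialgebra.Quotient.mkBialgHom (R := k) J').comp π
    have hker : ∀ x, q₁ x = 0 → q₂ x = 0 := by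
      intro x hx
      have hxJ : x ∈ J := Ideal.Quotient.eq_zero_iff_mem.1 hx
      change Ideal.Quotient.mk J' (π x) = 0
      rw [Ideal.Quotient.eq_zero_iff_mem, hJ']
      have h1 : Ideal.map (ψ' : MonoidAlgebra k M →+* A ⧸ I)
          (RingHom.ker (Bialgebra.counitAlgHom k (MonoidAlgebra k M))) =
          Ideal.map (π : A →+* A ⧸ I) J := by
        rw [hJ, Ideal.map_map]
        rfl
      rw [h1]
      exact Ideal.mem_map_of_mem _ hxJ
    obtain ⟨h, hh⟩ := exists_bialgHom_of_ker_le q₁ Ideal.Quotient.mk_surjective q₂ hker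
    refine isUnipotent_of_surjective h ?_ hU
    intro y
    obtain ⟨y', rfl⟩ := Ideal.Quotient.mk_surjective y
    obtain ⟨x, rfl⟩ := Ideal.Quotient.mk_surjective y'
    exact ⟨q₁ x, hh x⟩
  -- `ψ'` is surjective
  have hsurj : Function.Surjective ψ' := by
    by_contra hns
    obtain ⟨K, hKH, hKne, hKψ⟩ := exists_hopfIdeal_of_not_surjective ψ' J' hψ' hJ' hU' hns
    haveI := hKH
    have hI'S : Ideal.comap (π : A →+* A ⧸ I) K ∈ S := by
      refine ⟨isHopfIdeal_comap π K, ?_⟩
      intro b hb
      exact hKψ b hb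
    have hlt : I < Ideal.comap (π : A →+* A ⧸ I) K := by
      refine lt_of_le_of_ne ?_ ?_
      · intro x hx
        rw [Ideal.mem_comap]
        have : (π : A →+* A ⧸ I) x = 0 := Ideal.Quotient.eq_zero_iff_mem.2 hx
        rw [this]
        exact Ideal.zero_mem _
      · intro heq
        apply hKne
        rw [eq_bot_iff]
        intro y hy
        obtain ⟨x, rfl⟩ := Ideal.Quotient.mk_surjective y
        have hx : x ∈ Ideal.comap (π : A →+* A ⧸ I) K := hy
        rw [← heq] at hx
        rw [Ideal.mem_bot]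
        exact Ideal.Quotient.eq_zero_iff_mem.2 hx
    exact hImax _ hI'S hlt
  obtain ⟨h, hh⟩ := exists_bialgHom_of_ker_le ψ' hsurj (BialgHom.id k (MonoidAlgebra k M))
    (fun x hx => by
      have : x = 0 := hψ' (by rw [hx, map_zero])
      rw [this, map_zero])
  refine ⟨h.comp π, ?_⟩
  apply DFunLike.ext
  intro b
  exact hh b

end Main

end Groth.Agent.Lib.Helper7.TS
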