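import Groth.Agent.Lib.Helper7.TS8
import Groth.Agent.Lib.Helper7.PiZeroHopf

/-!
# Splitting of extensions of diagonalizable groups by unipotent groups, VIII (helper7)

Variant of `TS.exists_retraction` over a separably closed field, when every element of the
coordinate ring of the unipotent kernel is separable (e.g. the kernel is etale).
-/

set_option autoImplicit false

universe u

open TensorProduct Polynomial

namespace Groth.Agent.Lib.Helper7.TS

open HopfRep Groth.Agent.Lib.Helper7.Comod Groth.Agent.Lib.Helper7.UnipExt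
  Groth.Agent.Lib.Helper7.HopfSub Groth.Agent.Lib.Helper7.HopfMap
  Groth.Agent.Lib.Helper7.NormalQuot Groth.Agent.Lib.Helper7.HopfIdealMap
  Groth.Agent.Lib.Helper7.TrigBC Groth.Agent.Lib.Helper7.GroupLikeConn

section Root

variable {k : Type u} [Field k] [IsSepClosed k] {H : Type u} [CommRing H] [HopfAlgebra k H]

/-- over a separably closed field the (additive) minimal polynomial of a separable primitive
element is surjective on `k`. -/
theorem exists_root_of_isSepClosed {x : H}
    (hx : Coalgebra.comul (R := k) x = x ⊗ₜ[k] (1 : H) + (1 : H) ⊗ₜ[k] x)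
    (hs : IsSeparable k x) (w' : k) : ∃ w : k, (minpoly k x).eval w = w' := by
  set μ := minpoly k x with hμ
  have hsep : μ.Separable := hs
  have hint : IsIntegral k x := hs.isIntegral
  have hder : derivative μ = C (μ.coeff 1) := by
    ext n
    rw [coeff_derivative, coeff_C]
    rcases Nat.eq_zero_or_pos n with rfl | hn
    · simp
    · rw [if_neg (by omega)]
      have h1 := minpoly_coeff_mul_choose hx 1 n Nat.one_pos hn
      rw [Nat.add_comm 1 n, Nat.choose_one_right] at h1
      rw [← hμ] at h1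
      exact_mod_cast h1
  haveI : Nontrivial H := by
    refine ⟨⟨0, 1, fun h0 => ?_⟩⟩
    have := congrArg (Coalgebra.counit (R := k)) h0
    rw [map_zero, Bialgebra.counit_one] at this
    exact zero_ne_one this
  have hdpos : 0 < μ.degree := minpoly.degree_pos hint
  have ha : μ.coeff 1 ≠ 0 := by
    intro h0
    rw [h0, map_zero] at hder
    have h1 : IsCoprime μ (derivative μ) := hsep
    rw [hder, isCoprime_zero_right] at h1
    have h2 := degree_eq_zero_of_isUnit h1
    rw [h2] at hdpos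
    exact lt_irrefl _ hdpos
  have hp : (μ - C w').Separable := by
    rw [separable_def, derivative_sub, derivative_C, sub_zero, hder]
    refine ⟨0, C (μ.coeff 1)⁻¹, ?_⟩
    rw [zero_mul, zero_add, ← C_mul, inv_mul_cancel₀ ha, C_1]
  have hdeg : (μ - C w').degree ≠ 0 := by
    rw [Polynomial.degree_sub_C hdpos]
    exact ne_of_gt hdpos
  obtain ⟨w, hw⟩ := IsSepClosed.exists_root (μ - C w') hdeg hp
  refine ⟨w, ?_⟩
  rw [Polynomial.IsRoot.def, Polynomial.eval_sub, Polynomial.eval_C, sub_eq_zero] at hw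
  exact hw

end Root

section Adjust

variable {k : Type u} [Field k] {A : Type u} [CommRing A] [HopfAlgebra k A]
  {M : Type u} [CommGroup M] (ψ : MonoidAlgebra k M →ₐc[k] A) (J : Ideal A) [J.IsHopfIdeal k]

theorem exists_adjust_of_root (hψ : Function.Injective ψ)
    (hJ : J = Ideal.map (ψ : MonoidAlgebra k M →+* A)
      (RingHom.ker (Bialgebra.counitAlgHom k (MonoidAlgebra k M))))
    (hU : IsUnipotent k (A ⧸ J)) {γ c : A} (hγ : IsGroupLikeElem k γ) (hc : IsSkew k γ c)
    (hcr : c ∉ (ψ : MonoidAlgebra k M →ₐ[k] A).range)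
    (hint : IsIntegral k (Ideal.Quotient.mk J c))
    (hroot : ∀ w' : k, ∃ w : k, (minpoly k (Ideal.Quotient.mk J c)).eval w = w') :
    ∃ c' : A, IsSkew k γ c' ∧ c' ∉ (ψ : MonoidAlgebra k M →ₐ[k] A).range ∧
      Ideal.Quotient.mk J c' = Ideal.Quotient.mk J c ∧
      aeval c' (minpoly k (Ideal.Quotient.mk J c)) = 0 := by
  classical
  set x := Ideal.Quotient.mk J c with hx
  set μ := minpoly k x with hμ
  set d := μ.natDegree with hd
  have hadd : ∀ a b : A, aeval (a + b) μ = aeval a μ + aeval b μ := fun a b =>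
    aeval_minpoly_add (prim_mk J hU hγ hc) a b
  have hsub : ∀ a b : A, aeval (a - b) μ = aeval a μ - aeval b μ := by
    intro a b
    have := hadd (a - b) b
    rw [sub_add_cancel] at this
    rw [this, add_sub_cancel_right]
  set z := aeval c μ with hz
  have hzs : IsSkew k (γ ^ d) z := isSkew_aeval_minpoly ψ J hJ hU hγ hc
  have hzJ : Ideal.Quotient.mk J z = 0 := by
    have h1 := Polynomial.aeval_algHom_apply (Ideal.Quotient.mkₐ k J) c μ
    rw [Ideal.Quotient.mkₐ_eq_mk] at h1
    rw [hz, ← h1, ← hx, hμ, minpoly.aeval]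
  have hzr : z ∈ (ψ : MonoidAlgebra k M →ₐ[k] A).range := by
    apply mem_range_of_coinv ψ J hJ
    rw [hzs, map_add, LinearMap.lTensor_tmul, LinearMap.lTensor_tmul]
    change z ⊗ₜ[k] (Ideal.Quotient.mk J 1) + (γ ^ d) ⊗ₜ[k] (Ideal.Quotient.mk J z) = _
    rw [hzJ, TensorProduct.tmul_zero, add_zero, map_one]
  obtain ⟨b, hb⟩ := hzr
  have hγr := groupLike_mem_range ψ J hJ hU hγ
  obtain ⟨bγ, hbγ⟩ := hγr
  have hbγ' : ψ bγ = γ := hbγ
  have hb' : ψ b = z := hb
  have hbγg : IsGroupLikeElem k bγ := isGroupLikeElem_of_map ψ hψ (hbγ'.symm ▸ hγ)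
  obtain ⟨g, hg⟩ := MonoidAlgebra.isGroupLikeElem_iff_mem_range_single_one.1 hbγg
  have hg' : ψ (MonoidAlgebra.single g (1 : k)) = γ := by
    have : MonoidAlgebra.single g (1 : k) = bγ := hg
    rw [this, hbγ']
  have hgd : ψ (MonoidAlgebra.single (g ^ d) (1 : k)) = γ ^ d := by
    rw [← hg', ← map_pow, MonoidAlgebra.single_pow, one_pow]
  have hbs : Coalgebra.comul (R := k) b = b ⊗ₜ[k] (1 : MonoidAlgebra k M) +
      (MonoidAlgebra.single (g ^ d) (1 : k)) ⊗ₜ[k] b := by
    apply map_map_injective ψ hψ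
    have h1 := CoalgHomClass.map_comp_comul_apply ψ b
    rw [h1, map_add, TensorProduct.map_tmul, TensorProduct.map_tmul]
    change Coalgebra.comul (R := k) (ψ b) = ψ b ⊗ₜ[k] ψ 1 +
      ψ (MonoidAlgebra.single (g ^ d) (1 : k)) ⊗ₜ[k] ψ b
    rw [hb', hgd, map_one]
    exact hzs
  obtain ⟨w', hw'⟩ := skewPrim_monoidAlgebra (g ^ d) b hbs
  have hzw : z = w' • (1 - γ ^ d) := by
    rw [← hb', hw', map_smul, map_sub, map_one, hgd]
  -- a root
  haveI : Nontrivial (A ⧸ J) := by
    refine ⟨⟨0, 1, fun h0 => ?_⟩⟩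
    have := congrArg (Coalgebra.counit (R := k)) h0
    rw [map_zero, Bialgebra.counit_one] at this
    exact zero_ne_one this
  have hdpos : 0 < μ.degree := by
    rw [hμ]
    exact minpoly.degree_pos hint
  obtain ⟨w, hw1⟩ := hroot w'
  refine ⟨c - w • (1 - γ), hc.sub ((isSkew_one_sub hγ).smul w), ?_, ?_, ?_⟩
  · intro h
    apply hcr
    have h2 : w • (1 - γ) ∈ (ψ : MonoidAlgebra k M →ₐ[k] A).range :=
      Subalgebra.smul_mem _ (Subalgebra.sub_mem _ (Subalgebra.one_mem _)
        (groupLike_mem_range ψ J hJ hU hγ)) w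
    have := Subalgebra.add_mem _ h h2
    rwa [sub_add_cancel] at this
  · rw [map_sub, sub_eq_self]
    have : Ideal.Quotient.mk J (w • (1 - γ)) = w • Ideal.Quotient.mk J (1 - γ) := by
      rw [Algebra.smul_def, Algebra.smul_def, map_mul]
      rfl
    rw [this, map_sub, map_one, mk_groupLike J hU hγ, sub_self, smul_zero]
  · rw [hsub, ← hz]
    have h1 : aeval (w • (1 - γ)) μ = z := by
      rw [smul_sub, hsub, hzw, smul_sub]
      congr 1
      · rw [Algebra.smul_def, mul_one, Polynomial.aeval_algebraMap_apply,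
          Polynomial.coe_aeval_eq_eval, hw1, Algebra.smul_def, mul_one]
      · rw [aeval_eq_sum_range, ← hw1, Polynomial.eval_eq_sum_range, Finset.sum_smul]
        apply Finset.sum_congr rfl
        intro m _
        by_cases hm : μ.coeff m = 0
        · rw [hm, zero_smul, zero_mul, zero_smul]
        · rw [_root_.smul_pow, pow_eq_of_coeff_ne_zero ψ J hJ hU hγ hc m hm, smul_smul]
    rw [h1, sub_self]

end Adjust

section Main

variable {k : Type u} [Field k] [IsSepClosed k] {A : Type u} [CommRing A] [HopfAlgebra k A]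
  {M : Type u} [CommGroup M] (ψ : MonoidAlgebra k M →ₐc[k] A) (J : Ideal A) [J.IsHopfIdeal k]

/-- if `k[M] ↪ A` is not surjective, some nonzero Hopf ideal of `A` meets `k[M]` trivially. -/
theorem exists_hopfIdeal_of_not_surjective_sep (hψ : Function.Injective ψ)
    (hJ : J = Ideal.map (ψ : MonoidAlgebra k M →+* A)
      (RingHom.ker (Bialgebra.counitAlgHom k (MonoidAlgebra k M))))
    (hU : IsUnipotent k (A ⧸ J)) (hsep : ∀ x : A ⧸ J, IsSeparable k x)
    (hns : ¬ Function.Surjective ψ) :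
    ∃ K : Ideal A, K.IsHopfIdeal k ∧ K ≠ ⊥ ∧ ∀ b, ψ b ∈ K → b = 0 := by
  have hB : IsDiagonalizable k (MonoidAlgebra k M) := MonoidAlgebra.span_isGroupLikeElem
  obtain ⟨γ, c, hγ, hc, hcr⟩ := exists_skewPrim ψ J hψ hB hJ hU hns
  have hγr := groupLike_mem_range ψ J hJ hU hγ
  obtain ⟨c', hc', hcr', h0⟩ : ∃ c' : A, IsSkew k γ c' ∧
      c' ∉ (ψ : MonoidAlgebra k M →ₐ[k] A).range ∧
      aeval c' (minpoly k (Ideal.Quotient.mk J c')) = 0 := by
    by_cases hint : IsIntegral k (Ideal.Quotient.mk J c)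
    · obtain ⟨c', h1, h2, h3, h4⟩ := exists_adjust_of_root ψ J hψ hJ hU hγ hc hcr hint
        (exists_root_of_isSepClosed (prim_mk J hU hγ hc) (hsep _))
      exact ⟨c', h1, h2, by rw [h3]; exact h4⟩
    · exact ⟨c, hc, hcr, by rw [minpoly.eq_zero hint, map_zero]⟩
  refine ⟨Ideal.span {c'}, isHopfIdeal_span_skew hγ hc', ?_, ?_⟩
  · intro h
    apply hcr'
    have : c' = 0 := by
      have h1 : c' ∈ Ideal.span {c'} := Ideal.subset_span rfl
      rw [h] at h1
      exact h1
    rw [this]
    exact Subalgebra.zero_mem _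
  · intro b hb
    exact eq_zero_of_map_mem_span ψ J hψ hJ hU hγ hc' hγr h0 b hb

variable [Algebra.FiniteType k A]

/-- **splitting**: over an algebraically closed field, an extension of a diagonalizable group by
a unipotent algebraic group is split. -/
theorem exists_retraction_sep (hψ : Function.Injective ψ)
    (hJ : J = Ideal.map (ψ : MonoidAlgebra k M →+* A)
      (RingHom.ker (Bialgebra.counitAlgHom k (MonoidAlgebra k M))))
    (hU : IsUnipotent k (A ⧸ J)) (hsep : ∀ x : A ⧸ J, IsSeparable k x) :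
    ∃ r : A →ₐc[k] MonoidAlgebra k M, r.comp ψ = BialgHom.id k (MonoidAlgebra k M) := by
  classical
  haveI : IsNoetherianRing A := Algebra.FiniteType.isNoetherianRing k A
  let S : Set (Ideal A) := {I | I.IsHopfIdeal k ∧ ∀ b, ψ b ∈ I → b = 0}
  have hSne : S.Nonempty := by
    refine ⟨⊥, ?_, ?_⟩
    · have h := isHopfIdeal_ker (BialgHom.id k A)
      have h2 : RingHom.ker ((BialgHom.id k A : A →ₐc[k] A) : A →+* A) = ⊥ := by
        rw [eq_bot_iff]
        intro x hx
        exact hx
      rwa [h2] at h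
    · intro b hb
      rw [Ideal.mem_bot] at hb
      apply hψ
      rw [hb, map_zero]
  obtain ⟨I, hIS, hImax⟩ := set_has_maximal_iff_noetherian.2 (inferInstance : IsNoetherian A A)
    S hSne
  obtain ⟨hIH, hIψ⟩ := hIS
  haveI := hIH
  let π : A →ₐc[k] A ⧸ I := Bialgebra.Quotient.mkBialgHom (R := k) I
  let ψ' : MonoidAlgebra k M →ₐc[k] A ⧸ I := π.comp ψ
  have hψ' : Function.Injective ψ' := by
    intro b b' hbb
    have h1 : ψ' (b - b') = 0 := by rw [map_sub, hbb, sub_self]
    have h2 : ψ (b - b') ∈ I := Ideal.Quotient.eq_zero_iff_mem.1 h1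
    exact sub_eq_zero.1 (hIψ _ h2)
  set J' : Ideal (A ⧸ I) := Ideal.map (ψ' : MonoidAlgebra k M →+* A ⧸ I)
      (RingHom.ker (Bialgebra.counitAlgHom k (MonoidAlgebra k M))) with hJ'
  haveI : J'.IsHopfIdeal k := isHopfIdeal_map ψ' _
  -- the quotient is unipotent
  have hU'both : IsUnipotent k ((A ⧸ I) ⧸ J') ∧ ∀ x : (A ⧸ I) ⧸ J', IsSeparable k x := by
    let q₁ : A →ₐc[k] A ⧸ J := Bialgebra.Quotient.mkBialgHom (R := k) J
    let q₂ : A →ₐc[k] (A ⧸ I) ⧸ J' := (Bialgebra.Quotient.mkBialgHom (R := k) J').comp π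
    have hker : ∀ x, q₁ x = 0 → q₂ x = 0 := by
      intro x hx
      have hxJ : x ∈ J := Ideal.Quotient.eq_zero_iff_mem.1 hx
      change Ideal.Quotient.mk J' (π x) = 0
      rw [Ideal.Quotient.eq_zero_iff_mem, hJ']
      have h1 : Ideal.map (ψ' : MonoidAlgebra k M →+* A ⧸ I)
          (RingHom.ker (Bialgebra.counitAlgHom k (MonoidAlgebra k M))) =
          Ideal.map (π : A →+* A ⧸ I) J := by
        rw [hJ, Ideal.map_map]
        rfl
      rw [h1]
      exact Ideal.mem_map_of_mem _ hxJ
    obtain ⟨h, hh⟩ := exists_bialgHom_of_ker_le q₁ Ideal.Quotient.mk_surjective q₂ hker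
    refine ⟨isUnipotent_of_surjective h ?_ hU, ?_⟩
    · intro y
      obtain ⟨y', rfl⟩ := Ideal.Quotient.mk_surjective y
      obtain ⟨x, rfl⟩ := Ideal.Quotient.mk_surjective y'
      exact ⟨q₁ x, hh x⟩
    · intro y
      obtain ⟨y', rfl⟩ := Ideal.Quotient.mk_surjective y
      obtain ⟨x, rfl⟩ := Ideal.Quotient.mk_surjective y'
      have h1 : (Ideal.Quotient.mk J' (Ideal.Quotient.mk I x)) = (h : A ⧸ J →ₐ[k] _) (q₁ x) :=
        (hh x).symm
      rw [h1]
      exact Groth.Agent.Lib.Helper7.PiZero.isSeparable_map _ (hsep _)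
  obtain ⟨hU', hsep'⟩ := hU'both
  -- `ψ'` is surjective
  have hsurj : Function.Surjective ψ' := by
    by_contra hns
    obtain ⟨K, hKH, hKne, hKψ⟩ := exists_hopfIdeal_of_not_surjective_sep ψ' J' hψ' hJ' hU' hsep' hns
    haveI := hKH
    have hI'S : Ideal.comap (π : A →+* A ⧸ I) K ∈ S := by
      refine ⟨isHopfIdeal_comap π K, ?_⟩
      intro b hb
      exact hKψ b hb
    have hlt : I < Ideal.comap (π : A →+* A ⧸ I) K := by
      refine lt_of_le_of_ne ?_ ?_
      · intro x hx
        rw [Ideal.mem_comap]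
        have : (π : A →+* A ⧸ I) x = 0 := Ideal.Quotient.eq_zero_iff_mem.2 hx
        rw [this]
        exact Ideal.zero_mem _
      · intro heq
        apply hKne
        rw [eq_bot_iff]
        intro y hy
        obtain ⟨x, rfl⟩ := Ideal.Quotient.mk_surjective y
        have hx : x ∈ Ideal.comap (π : A →+* A ⧸ I) K := hy
        rw [← heq] at hx
        rw [Ideal.mem_bot]
        exact Ideal.Quotient.eq_zero_iff_mem.2 hx
    exact hImax _ hI'S hlt
  obtain ⟨h, hh⟩ := exists_bialgHom_of_ker_le ψ' hsurj (BialgHom.id k (MonoidAlgebra k M))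
    (fun x hx => by
      have : x = 0 := hψ' (by rw [hx, map_zero])
      rw [this, map_zero])
  refine ⟨h.comp π, ?_⟩
  apply DFunLike.ext
  intro b
  exact hh b

end Main

end Groth.Agent.Lib.Helper7.TS
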