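import Mathlib

set_option autoImplicit false
universe u

namespace Groth.Agent.Lib.Helper7.Theta

open scoped commutatorElement

section Pairing

variable {k : Type u} [Field k] {Γ : Type u} [Group Γ] (ι : kˣ →* Γ)

/-- Standing hypotheses on a (non-degenerate) theta group. -/
structure Hyp : Prop where
  inj : Function.Injective ι
  cent : ι.range = Subgroup.center Γ
  comm : commutator Γ ≤ ι.range

variable {ι}

theorem Hyp.central (H : Hyp ι) (z : kˣ) (g : Γ) : ι z * g = g * ι z := by
  have h : ι z ∈ Subgroup.center Γ := H.cent ▸ ⟨z, rfl⟩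
  exact (Subgroup.mem_center_iff.mp h g).symm

theorem Hyp.conj_mem (H : Hyp ι) (g h : Γ) : g * h * g⁻¹ * h⁻¹ ∈ ι.range := by
  apply H.comm
  have : ⁅g, h⁆ ∈ commutator Γ :=
    Subgroup.commutator_mem_commutator (Subgroup.mem_top g) (Subgroup.mem_top h)
  simpa [commutatorElement_def] using this

/-- The commutator pairing: `g h g⁻¹ = ι (e g h) h`. -/
noncomputable def e (H : Hyp ι) (g h : Γ) : kˣ := Classical.choose (H.conj_mem g h)

theorem e_spec (H : Hyp ι) (g h : Γ) : g * h * g⁻¹ = ι (e H g h) * h := by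
  have := Classical.choose_spec (H.conj_mem g h)
  change ι (e H g h) = _ at this
  rw [this]; group

theorem e_unique (H : Hyp ι) {g h : Γ} {z : kˣ} (hz : g * h * g⁻¹ = ι z * h) : e H g h = z := by
  apply H.inj
  have := e_spec H g h
  rw [hz] at this
  exact (mul_right_cancel this).symm

theorem e_mul_right (H : Hyp ι) (g h h' : Γ) : e H g (h * h') = e H g h * e H g h' := by
  apply e_unique
  have h1 := e_spec H g h
  have h2 := e_spec H g h'
  calc g * (h * h') * g⁻¹ = (g * h * g⁻¹) * (g * h' * g⁻¹) := by group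
    _ = ι (e H g h) * h * (ι (e H g h') * h') := by rw [h1, h2]
    _ = ι (e H g h) * (h * ι (e H g h')) * h' := by group
    _ = ι (e H g h) * (ι (e H g h') * h) * h' := by rw [← H.central (e H g h') h]
    _ = ι (e H g h * e H g h') * (h * h') := by rw [map_mul]; group

theorem e_mul_left (H : Hyp ι) (g g' h : Γ) : e H (g * g') h = e H g h * e H g' h := by
  apply e_unique
  have h1 := e_spec H g h
  have h2 := e_spec H g' h
  calc g * g' * h * (g * g')⁻¹ = g * (g' * h * g'⁻¹) * g⁻¹ := by group
    _ = g * (ι (e H g' h) * h) * g⁻¹ := by rw [h2]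
    _ = (g * ι (e H g' h)) * h * g⁻¹ := by group
    _ = (ι (e H g' h) * g) * h * g⁻¹ := by rw [H.central]
    _ = ι (e H g' h) * (g * h * g⁻¹) := by group
    _ = ι (e H g' h) * (ι (e H g h) * h) := by rw [h1]
    _ = ι (e H g h * e H g' h) * h := by rw [map_mul, ← H.central (e H g' h)]; group

theorem e_central_left (H : Hyp ι) (z : kˣ) (h : Γ) : e H (ι z) h = 1 := by
  apply e_unique
  rw [H.central, map_one, one_mul]; group

theorem e_central_right (H : Hyp ι) (g : Γ) (z : kˣ) : e H g (ι z) = 1 := by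
  apply e_unique
  rw [← H.central, map_one, one_mul]; group

theorem e_self (H : Hyp ι) (g : Γ) : e H g g = 1 := by
  apply e_unique
  rw [map_one, one_mul]; group

theorem e_eq_one_iff (H : Hyp ι) (g h : Γ) : e H g h = 1 ↔ g * h = h * g := by
  constructor
  · intro h1
    have := e_spec H g h
    rw [h1, map_one, one_mul] at this
    calc g * h = g * h * g⁻¹ * g := by group
      _ = h * g := by rw [this]
  · intro h1
    apply e_unique
    rw [h1, map_one, one_mul]; group

theorem mem_range_of_forall_e (H : Hyp ι) (g : Γ) (hg : ∀ h, e H g h = 1) : g ∈ ι.range := by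
  rw [H.cent, Subgroup.mem_center_iff]
  intro h
  exact ((e_eq_one_iff H g h).mp (hg h)).symm

theorem e_swap (H : Hyp ι) (g h : Γ) : e H g h * e H h g = 1 := by
  have h1 := e_spec H g h
  have h2 := e_spec H h g
  apply H.inj
  rw [map_mul, map_one]
  have h3 : g * h = ι (e H g h) * h * g := by
    calc g * h = g * h * g⁻¹ * g := by group
      _ = _ := by rw [h1]
  have h4 : h * g = ι (e H h g) * g * h := by
    calc h * g = h * g * h⁻¹ * h := by group
      _ = _ := by rw [h2]
  have h5 : g * h = ι (e H g h) * (ι (e H h g) * g * h) := by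
    rw [h3, mul_assoc, h4]
  have h6 : ι (e H g h) * ι (e H h g) * (g * h) = 1 * (g * h) := by
    rw [one_mul]; conv_rhs => rw [h5]
    group
  exact mul_right_cancel h6

/-- `e g ·` as a character of `Γ`. -/
noncomputable def eHom (H : Hyp ι) (g : Γ) : Γ →* kˣ where
  toFun h := e H g h
  map_one' := by
    have := e_central_right H g 1
    rwa [map_one] at this
  map_mul' := e_mul_right H g

@[simp] theorem eHom_apply (H : Hyp ι) (g h : Γ) : eHom H g h = e H g h := rfl

end Pairing


section CharLemmas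

theorem natCast_ne_zero_of_coprime (k : Type*) [Field k] {n : ℕ} (hn : n ≠ 0)
    (hcop : n.Coprime (ringExpChar k)) : (n : k) ≠ 0 := by
  intro h0
  have hdvd : ringChar k ∣ n := (ringChar.spec k n).mp h0
  rcases CharP.char_is_prime_or_zero k (ringChar k) with hp | hp
  · have h1 : ringExpChar k = ringChar k := by
      rw [ringExpChar]; exact max_eq_left hp.one_lt.le
    rw [h1] at hcop
    have := Nat.Coprime.eq_one_of_dvd hcop.symm hdvd
    exact hp.one_lt.ne' this
  · rw [hp] at hdvd
    exact hn (Nat.eq_zero_of_zero_dvd hdvd)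

end CharLemmas

section Quot

variable {k : Type u} [Field k] {Γ : Type u} [Group Γ] {ι : kˣ →* Γ}

theorem Hyp.normal (H : Hyp ι) : ι.range.Normal := by
  rw [H.cent]; infer_instance

variable [hN : ι.range.Normal]

/-- The quotient `K = Γ/ι(kˣ)` is commutative. -/
@[reducible] noncomputable def Hyp.commGroupK (H : Hyp ι) : CommGroup (Γ ⧸ ι.range) :=
  { (inferInstance : Group (Γ ⧸ ι.range)) with
    mul_comm := by
      intro a b
      induction a using QuotientGroup.induction_on with | _ a => ?_
      induction b using QuotientGroup.induction_on with | _ b => ?_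
      rw [← QuotientGroup.mk_mul, ← QuotientGroup.mk_mul, QuotientGroup.eq]
      apply H.comm
      have : ⁅b⁻¹, a⁻¹⁆ ∈ commutator Γ :=
        Subgroup.commutator_mem_commutator (Subgroup.mem_top _) (Subgroup.mem_top _)
      have h2 : ⁅b⁻¹, a⁻¹⁆ = (a * b)⁻¹ * (b * a) := by
        rw [commutatorElement_def]; group
      rwa [h2] at this }

/-- `e g ·` descended to `K`. -/
noncomputable def eBar (H : Hyp ι) (g : Γ) : (Γ ⧸ ι.range) →* kˣ :=
  QuotientGroup.lift ι.range (eHom H g) (by
    rintro _ ⟨w, rfl⟩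
    exact e_central_right H g w)

@[simp] theorem eBar_mk (H : Hyp ι) (g h : Γ) : eBar H g (QuotientGroup.mk h) = e H g h := rfl

/-- The commutator pairing on `K`. -/
noncomputable def eK (H : Hyp ι) : (Γ ⧸ ι.range) →* ((Γ ⧸ ι.range) →* kˣ) :=
  QuotientGroup.lift ι.range
    { toFun := eBar H
      map_one' := by
        ext h
        have := e_central_left H 1 h
        rw [map_one] at this
        simpa using this
      map_mul' := by
        intro g g'
        ext h
        simp [e_mul_left] }
    (by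
      rintro _ ⟨w, rfl⟩
      ext h
      simp [e_central_left])

@[simp] theorem eK_mk_mk (H : Hyp ι) (g h : Γ) :
    eK H (QuotientGroup.mk g) (QuotientGroup.mk h) = e H g h := rfl

theorem eK_injective (H : Hyp ι) : Function.Injective (eK H) := by
  rw [injective_iff_map_eq_one]
  intro x hx
  induction x using QuotientGroup.induction_on with | _ g => ?_
  rw [QuotientGroup.eq_one_iff]
  apply mem_range_of_forall_e H
  intro h
  have := congrArg (fun f : (Γ ⧸ ι.range) →* kˣ => f (QuotientGroup.mk h)) hx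
  simpa using this

end Quot


section Dual

variable {k : Type u} [Field k] [IsAlgClosed k] {Γ : Type u} [Group Γ] {ι : kˣ →* Γ}
  [hN : ι.range.Normal] [Finite (Γ ⧸ ι.range)]

theorem card_ne_zero_k (hcop : (Nat.card (Γ ⧸ ι.range)).Coprime (ringExpChar k)) :
    (Nat.card (Γ ⧸ ι.range) : k) ≠ 0 :=
  natCast_ne_zero_of_coprime k Nat.card_pos.ne' hcop

theorem hasEnough (hcop : (Nat.card (Γ ⧸ ι.range)).Coprime (ringExpChar k)) :
    HasEnoughRootsOfUnity k (Monoid.exponent (Γ ⧸ ι.range)) := by
  have hdvd : Monoid.exponent (Γ ⧸ ι.range) ∣ Nat.card (Γ ⧸ ι.range) := Group.exponent_dvd_nat_card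
  have hne : Monoid.exponent (Γ ⧸ ι.range) ≠ 0 := Monoid.exponent_ne_zero_of_finite
  haveI : NeZero ((Monoid.exponent (Γ ⧸ ι.range) : ℕ) : k) :=
    ⟨natCast_ne_zero_of_coprime k hne (Nat.Coprime.coprime_dvd_left hdvd hcop)⟩
  infer_instance

theorem finite_dual (H : Hyp ι) (hcop : (Nat.card (Γ ⧸ ι.range)).Coprime (ringExpChar k)) :
    Finite ((Γ ⧸ ι.range) →* kˣ) := by
  letI := H.commGroupK
  haveI := hasEnough (ι := ι) hcop
  obtain ⟨e⟩ := CommGroup.monoidHom_mulEquiv_of_hasEnoughRootsOfUnity (Γ ⧸ ι.range) k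
  exact Finite.of_equiv _ e.symm.toEquiv

theorem eK_bijective (H : Hyp ι) (hcop : (Nat.card (Γ ⧸ ι.range)).Coprime (ringExpChar k)) :
    Function.Bijective (eK H) := by
  letI := H.commGroupK
  haveI := hasEnough (ι := ι) hcop
  haveI := finite_dual H hcop
  exact (Nat.bijective_iff_injective_and_card _).mpr
    ⟨eK_injective H, (CommGroup.card_monoidHom_of_hasEnoughRootsOfUnity (Γ ⧸ ι.range) k).symm⟩

/-- Restriction of the pairing to a subgroup `B` in the second variable. -/
noncomputable def theta (H : Hyp ι) (B : Subgroup (Γ ⧸ ι.range)) : (Γ ⧸ ι.range) →* (B →* kˣ) :=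
  (MonoidHom.domRestrictHom B kˣ).comp (eK H)

@[simp] theorem theta_apply (H : Hyp ι) (B : Subgroup (Γ ⧸ ι.range)) (x : Γ ⧸ ι.range) (y : B) :
    theta H B x y = eK H x y := rfl

theorem theta_surjective (H : Hyp ι) (hcop : (Nat.card (Γ ⧸ ι.range)).Coprime (ringExpChar k))
    (B : Subgroup (Γ ⧸ ι.range)) : Function.Surjective (theta H B) := by
  letI := H.commGroupK
  haveI := hasEnough (ι := ι) hcop
  intro χ
  obtain ⟨ψ, hψ⟩ := MonoidHom.domRestrict_surjective k B χ
  obtain ⟨x, hx⟩ := (eK_bijective H hcop).2 ψ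
  refine ⟨x, ?_⟩
  rw [← hψ, ← hx]; rfl

/-- The orthogonal of a subgroup of `K`. -/
noncomputable def perp (H : Hyp ι) (B : Subgroup (Γ ⧸ ι.range)) : Subgroup (Γ ⧸ ι.range) :=
  (theta H B).ker

theorem mem_perp (H : Hyp ι) (B : Subgroup (Γ ⧸ ι.range)) (x : Γ ⧸ ι.range) :
    x ∈ perp H B ↔ ∀ y ∈ B, eK H x y = 1 := by
  rw [perp, MonoidHom.mem_ker]
  constructor
  · intro h y hy
    exact congrArg (fun f : B →* kˣ => f ⟨y, hy⟩) h
  · intro h
    ext y
    simpa using congrArg Units.val (h y.1 y.2)

theorem card_perp_mul (H : Hyp ι) (hcop : (Nat.card (Γ ⧸ ι.range)).Coprime (ringExpChar k))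
    (B : Subgroup (Γ ⧸ ι.range)) :
    Nat.card (perp H B) * Nat.card B = Nat.card (Γ ⧸ ι.range) := by
  letI := H.commGroupK
  haveI := hasEnough (ι := ι) hcop
  haveI : HasEnoughRootsOfUnity k (Monoid.exponent B) :=
    HasEnoughRootsOfUnity.of_dvd k (Monoid.exponent_submonoid_dvd B.toSubmonoid)
  have h1 := Subgroup.card_mul_index (theta H B).ker
  rw [Subgroup.index_ker, MonoidHom.range_eq_top.mpr (theta_surjective H hcop B), Subgroup.card_top,
    CommGroup.card_monoidHom_of_hasEnoughRootsOfUnity B k] at h1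
  exact h1

end Dual

end Groth.Agent.Lib.Helper7.Theta
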