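import Groth.Agent.Lib.Helper7.Theta1

set_option autoImplicit false
universe u

namespace Groth.Agent.Lib.Helper7.Theta

open scoped commutatorElement

section Lagr

variable {k : Type u} [Field k] [IsAlgClosed k] {Γ : Type u} [Group Γ] {ι : kˣ →* Γ}
  [hN : ι.range.Normal] [Finite (Γ ⧸ ι.range)]

theorem mk_mem_perp_map_iff (H : Hyp ι) (S : Subgroup Γ) (g : Γ) :
    (QuotientGroup.mk g : Γ ⧸ ι.range) ∈ perp H (S.map (QuotientGroup.mk' ι.range)) ↔
      g ∈ Subgroup.centralizer (S : Set Γ) := by
  rw [mem_perp, Subgroup.mem_centralizer_iff]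
  constructor
  · intro h s hs
    have := h (QuotientGroup.mk s) ⟨s, hs, rfl⟩
    rw [eK_mk_mk, e_eq_one_iff] at this
    exact this.symm
  · rintro h _ ⟨s, hs, rfl⟩
    change eK H (QuotientGroup.mk g) (QuotientGroup.mk s) = 1
    rw [eK_mk_mk, e_eq_one_iff]
    exact (h s hs).symm

theorem comap_perp_map (H : Hyp ι) (S : Subgroup Γ) :
    (perp H (S.map (QuotientGroup.mk' ι.range))).comap (QuotientGroup.mk' ι.range) =
      Subgroup.centralizer (S : Set Γ) := by
  ext g
  rw [Subgroup.mem_comap]
  exact mk_mem_perp_map_iff H S g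

theorem comap_map_of_le (S : Subgroup Γ) (hS : ι.range ≤ S) :
    (S.map (QuotientGroup.mk' ι.range)).comap (QuotientGroup.mk' ι.range) = S := by
  apply Subgroup.comap_map_eq_self
  rw [QuotientGroup.ker_mk']
  exact hS

theorem relIndex_eq_card_map (S : Subgroup Γ) (hS : ι.range ≤ S) :
    ι.range.relIndex S = Nat.card (S.map (QuotientGroup.mk' ι.range)) := by
  have h1 := Subgroup.relIndex_mul_index hS
  have h2 : S.index = (S.map (QuotientGroup.mk' ι.range)).index := by
    conv_lhs => rw [← comap_map_of_le S hS]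
    exact Subgroup.index_comap_of_surjective _ (QuotientGroup.mk'_surjective _)
  have h3 := Subgroup.card_mul_index (S.map (QuotientGroup.mk' ι.range))
  rw [h2, Subgroup.index_eq_card ι.range, ← h3] at h1
  have h4 : (S.map (QuotientGroup.mk' ι.range)).index ≠ 0 := Subgroup.index_ne_zero_of_finite
  exact Nat.eq_of_mul_eq_mul_right (Nat.pos_of_ne_zero h4) h1

theorem tfae (H : Hyp ι) (hcop : (Nat.card (Γ ⧸ ι.range)).Coprime (ringExpChar k))
    (S : Subgroup Γ) (hS : ι.range ≤ S) :
    List.TFAE [
      IsMulCommutative S ∧ ∀ S' : Subgroup Γ, IsMulCommutative S' → S ≤ S' → S' = S,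
      IsMulCommutative S ∧ (ι.range.relIndex S) ^ 2 = ι.range.index,
      S = Subgroup.centralizer (S : Set Γ)] := by
  set Sb := S.map (QuotientGroup.mk' ι.range) with hSb
  have hcard := card_perp_mul H hcop Sb
  tfae_have 3 → 1 := by
    intro h3
    have hc : IsMulCommutative S := Subgroup.le_centralizer_iff_isMulCommutative.mp h3.le
    refine ⟨hc, fun S' hS' hle => le_antisymm ?_ hle⟩
    calc S' ≤ Subgroup.centralizer (S' : Set Γ) := Subgroup.le_centralizer_iff_isMulCommutative.mpr hS'
      _ ≤ Subgroup.centralizer (S : Set Γ) := Subgroup.centralizer_le hle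
      _ = S := h3.symm
  tfae_have 1 → 3 := by
    rintro ⟨hc, hmax⟩
    apply le_antisymm (Subgroup.le_centralizer_iff_isMulCommutative.mpr hc)
    intro g hg
    have hcomm' : IsMulCommutative (Subgroup.closure ((S : Set Γ) ∪ {g})) := by
      apply Subgroup.isMulCommutative_closure
      rintro x (hx | hx) y (hy | hy)
      · exact setLike_mul_comm hx hy
      · rw [Set.mem_singleton_iff] at hy; subst hy
        exact Subgroup.mem_centralizer_iff.mp hg x hx
      · rw [Set.mem_singleton_iff] at hx; subst hx
        exact (Subgroup.mem_centralizer_iff.mp hg y hy).symm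
      · rw [Set.mem_singleton_iff] at hx hy; subst hx; subst hy; rfl
    have hle : S ≤ Subgroup.closure ((S : Set Γ) ∪ {g}) := fun x hx =>
      Subgroup.subset_closure (Or.inl hx)
    have := hmax _ hcomm' hle
    rw [← this]
    exact Subgroup.subset_closure (Or.inr rfl)
  tfae_have 3 → 2 := by
    intro h3
    have hc : IsMulCommutative S := Subgroup.le_centralizer_iff_isMulCommutative.mp h3.le
    refine ⟨hc, ?_⟩
    have hperp : perp H Sb = Sb := by
      have h1 := comap_perp_map H S
      rw [← h3] at h1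
      have h2 := congrArg (Subgroup.map (QuotientGroup.mk' ι.range)) h1
      rwa [Subgroup.map_comap_eq_self_of_surjective (QuotientGroup.mk'_surjective _)] at h2
    rw [hperp] at hcard
    rw [relIndex_eq_card_map S hS, Subgroup.index_eq_card, sq]
    exact hcard
  tfae_have 2 → 3 := by
    rintro ⟨hc, hsq⟩
    have hle : S ≤ Subgroup.centralizer (S : Set Γ) := Subgroup.le_centralizer_iff_isMulCommutative.mpr hc
    have hle' : Sb ≤ perp H Sb := by
      rintro _ ⟨s, hs, rfl⟩
      exact (mk_mem_perp_map_iff H S s).mpr (hle hs)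
    rw [relIndex_eq_card_map S hS, Subgroup.index_eq_card, sq, ← hcard] at hsq
    have hpos : 0 < Nat.card Sb := Nat.card_pos
    have hcardeq : Nat.card Sb = Nat.card (perp H Sb) := Nat.eq_of_mul_eq_mul_right hpos hsq
    have heq : Sb = perp H Sb := Subgroup.eq_of_le_of_card_ge hle' hcardeq.ge
    rw [← comap_perp_map H S, ← heq, comap_map_of_le S hS]
  tfae_finish

end Lagr

end Groth.Agent.Lib.Helper7.Theta
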