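import Groth.Agent.Lib.Helper7.Theta2
import Groth.Agent.Lib.Helper7.Burnside

set_option autoImplicit false
universe u

namespace Groth.Agent.Lib.Helper7.Theta

open Representation Module

section Irr

variable {k : Type u} [Field k] {Γ : Type u} [Group Γ] {ι : kˣ →* Γ}
variable {V : Type u} [AddCommGroup V] [Module k V] (ρ : Representation k Γ V)

theorem nontrivial_of_irreducible (hirr : IsIrreducible ρ) : Nontrivial V := by
  by_contra hV
  rw [not_nontrivial_iff_subsingleton] at hV
  obtain ⟨a, b, hab⟩ := hirr.toNontrivial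
  apply hab
  apply Subrepresentation.toSubmodule_injective
  exact Subsingleton.elim _ _

theorem eq_bot_or_top_of_invariant (hirr : IsIrreducible ρ) (W : Submodule k V)
    (hW : ∀ g, ∀ w ∈ W, ρ g w ∈ W) : W = ⊥ ∨ W = ⊤ := by
  rcases hirr.eq_bot_or_eq_top ⟨W, fun g v hv => hW g v hv⟩ with h | h
  · left; exact congrArg Subrepresentation.toSubmodule h
  · right; exact congrArg Subrepresentation.toSubmodule h

theorem span_range_eq_top [IsAlgClosed k] [FiniteDimensional k V] (hirr : IsIrreducible ρ) :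
    Submodule.span k (Set.range ρ) = ⊤ := by
  haveI := nontrivial_of_irreducible ρ hirr
  have := Burnside.span_eq_top_of_irreducible_of_isAlgClosed (MonoidHom.mrange ρ) (by
    intro W hW
    apply eq_bot_or_top_of_invariant ρ hirr W
    intro g w hw
    exact hW (ρ g) ⟨g, rfl⟩ w hw)
  rwa [MonoidHom.coe_mrange] at this

end Irr

section Sq

variable {k : Type u} [Field k] [IsAlgClosed k] {Γ : Type u} [Group Γ] {ι : kˣ →* Γ}
  [hN : ι.range.Normal] [Finite (Γ ⧸ ι.range)]
variable {V : Type u} [AddCommGroup V] [Module k V] [FiniteDimensional k V] (ρ : Representation k Γ V)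

/-- the chosen section of `Γ → K` -/
noncomputable def sec (x : Γ ⧸ ι.range) : Γ := Quotient.out x

omit [IsAlgClosed k] [Finite (Γ ⧸ ι.range)] in
theorem mk_sec (x : Γ ⧸ ι.range) : (QuotientGroup.mk (sec x) : Γ ⧸ ι.range) = x := Quotient.out_eq x

omit [IsAlgClosed k] [Finite (Γ ⧸ ι.range)] in
theorem exists_eq_sec_mul (g : Γ) : ∃ z : kˣ, g = sec (QuotientGroup.mk g : Γ ⧸ ι.range) * ι z := by
  have h : (QuotientGroup.mk (sec (QuotientGroup.mk g : Γ ⧸ ι.range)) : Γ ⧸ ι.range) = QuotientGroup.mk g :=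
    mk_sec _
  rw [QuotientGroup.eq] at h
  obtain ⟨z, hz⟩ := h
  exact ⟨z, by rw [hz]; group⟩

omit [IsAlgClosed k] [Finite (Γ ⧸ ι.range)] hN [FiniteDimensional k V] in
theorem conj_eq (H : Hyp ι) (h1 : ∀ (z : kˣ) (v : V), ρ (ι z) v = (z : k) • v) (g h : Γ) :
    ρ g * ρ h * ρ g⁻¹ = ((e H g h : kˣ) : k) • ρ h := by
  rw [← map_mul, ← map_mul, e_spec H g h, map_mul]
  ext v
  simp [h1]

omit [IsAlgClosed k] [FiniteDimensional k V] in
theorem span_sec_eq_top (h1 : ∀ (z : kˣ) (v : V), ρ (ι z) v = (z : k) • v)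
    (hspan : Submodule.span k (Set.range ρ) = ⊤) :
    Submodule.span k (Set.range fun x : Γ ⧸ ι.range => ρ (sec x)) = ⊤ := by
  rw [eq_top_iff, ← hspan, Submodule.span_le]
  rintro _ ⟨g, rfl⟩
  obtain ⟨z, hz⟩ := exists_eq_sec_mul (ι := ι) g
  have : ρ g = (z : k) • ρ (sec (QuotientGroup.mk g : Γ ⧸ ι.range)) := by
    conv_lhs => rw [hz, map_mul]
    ext v
    simp [h1]
  rw [this]
  exact Submodule.smul_mem _ _ (Submodule.subset_span ⟨_, rfl⟩)

/-- The character `g ↦ e g (sec x)` with values in `k`. -/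
noncomputable def chiSec (H : Hyp ι) (x : Γ ⧸ ι.range) : Γ →* k :=
  (Units.coeHom k).comp
    { toFun := fun g => e H g (sec x)
      map_one' := by
        have := e_central_left H 1 (sec x)
        rwa [map_one] at this
      map_mul' := fun g g' => e_mul_left H g g' (sec x) }

omit [IsAlgClosed k] [Finite (Γ ⧸ ι.range)] in
theorem chiSec_apply (H : Hyp ι) (x : Γ ⧸ ι.range) (g : Γ) : chiSec H x g = ((e H g (sec x) : kˣ) : k) := rfl

omit [IsAlgClosed k] [Finite (Γ ⧸ ι.range)] in
theorem chiSec_injective (H : Hyp ι) : Function.Injective (chiSec (k := k) H) := by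
  intro x y hxy
  have h2 : ∀ g, e H g (sec x) = e H g (sec y) := fun g => by
    have := congrArg (fun f : Γ →* k => f g) hxy
    exact Units.ext this
  have h3 : ∀ g, e H (sec x * (sec y)⁻¹) g = 1 := by
    intro g
    have h4 : e H g (sec x * (sec y)⁻¹) = 1 := by
      have h5 : e H g (sec x) = e H g (sec x * (sec y)⁻¹) * e H g (sec y) := by
        rw [← e_mul_right]; congr 1; group
      rw [h2 g] at h5
      have h5' : 1 * e H g (sec y) = e H g (sec x * (sec y)⁻¹) * e H g (sec y) := by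
        rw [one_mul]; exact h5
      exact (mul_right_cancel h5').symm
    have h6 := e_swap H (sec x * (sec y)⁻¹) g
    rwa [h4, mul_one] at h6
  have h7 := mem_range_of_forall_e H _ h3
  rw [← mk_sec x, ← mk_sec y, QuotientGroup.eq]
  have h8 := hN.conj_mem _ h7 (sec x)⁻¹
  have h9 := inv_mem h8
  have : ((sec x)⁻¹ * (sec x * (sec y)⁻¹) * (sec x)⁻¹⁻¹)⁻¹ = (sec x)⁻¹ * sec y := by group
  rwa [this] at h9

omit [IsAlgClosed k] [FiniteDimensional k V] in
theorem linearIndependent_sec [Nontrivial V] (H : Hyp ι)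
    (h1 : ∀ (z : kˣ) (v : V), ρ (ι z) v = (z : k) • v) :
    LinearIndependent k (fun x : Γ ⧸ ι.range => ρ (sec x)) := by
  haveI : Fintype (Γ ⧸ ι.range) := Fintype.ofFinite _
  rw [Fintype.linearIndependent_iff]
  intro c hc x₀
  have hconj : ∀ g : Γ, ∑ x, (c x * chiSec H x g) • ρ (sec x) = 0 := by
    intro g
    have h2 : ρ g * (∑ x, c x • ρ (sec x)) * ρ g⁻¹ = 0 := by rw [hc]; simp
    rw [Finset.mul_sum, Finset.sum_mul] at h2
    rw [← h2]
    refine Finset.sum_congr rfl fun x _ => ?_
    rw [mul_smul_comm, smul_mul_assoc, conj_eq ρ H h1, smul_smul, chiSec_apply]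
  have hLI := (linearIndependent_monoidHom Γ k).comp (chiSec H) (chiSec_injective H)
  rw [Fintype.linearIndependent_iff] at hLI
  by_contra hne
  obtain ⟨v, hv⟩ := exists_ne (0 : V)
  have hw : ρ (sec x₀) v ≠ 0 := by
    intro h0
    apply hv
    have := congrArg (ρ (sec x₀)⁻¹) h0
    rwa [map_zero, ← Module.End.mul_apply, ← map_mul, inv_mul_cancel, map_one, Module.End.one_apply] at this
  obtain ⟨φ, hφ⟩ : ∃ φ : Module.Dual k V, φ (ρ (sec x₀) v) ≠ 0 := by
    by_contra hcon
    push Not at hcon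
    exact hw ((Module.forall_dual_apply_eq_zero_iff k _).mp hcon)
  have h3 := hLI (fun x => c x * φ (ρ (sec x) v)) (by
    funext g
    have h4 := congrArg (fun T : Module.End k V => φ (T v)) (hconj g)
    simp only [LinearMap.sum_apply, LinearMap.smul_apply, map_sum, map_smul, smul_eq_mul,
      LinearMap.zero_apply, map_zero] at h4
    simp only [Function.comp_apply, Finset.sum_apply, Pi.smul_apply, smul_eq_mul, Pi.zero_apply]
    rw [← h4]
    refine Finset.sum_congr rfl fun x _ => ?_
    ring) x₀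
  rcases mul_eq_zero.mp h3 with h | h
  · exact hne h
  · exact hφ h

theorem finrank_sq (H : Hyp ι) (hirr : IsIrreducible ρ)
    (h1 : ∀ (z : kˣ) (v : V), ρ (ι z) v = (z : k) • v) :
    Module.finrank k V ^ 2 = Nat.card (Γ ⧸ ι.range) := by
  haveI := nontrivial_of_irreducible ρ hirr
  have hLI := linearIndependent_sec ρ H h1
  have hsp := span_sec_eq_top ρ h1 (span_range_eq_top ρ hirr)
  let b := Basis.mk hLI hsp.ge
  have h2 := Module.finrank_eq_nat_card_basis b
  rw [Module.finrank_linearMap, ← sq] at h2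
  exact h2

end Sq

end Groth.Agent.Lib.Helper7.Theta
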