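import Groth.Agent.Lib.Helper7.Theta3

set_option autoImplicit false
universe u v

namespace Groth.Agent.Lib.Helper7.Theta

open Representation Module

section CE

/-- A commuting set of endomorphisms of a nonzero finite-dimensional space over an algebraically closed
field has a common eigenvector. -/
theorem exists_common_eigenvector {k : Type u} [Field k] [IsAlgClosed k] :
    ∀ (n : ℕ) (E : Type v) [AddCommGroup E] [Module k E] [FiniteDimensional k E] [Nontrivial E]
      (𝒮 : Set (Module.End k E)), (∀ a ∈ 𝒮, ∀ b ∈ 𝒮, a * b = b * a) → Module.finrank k E = n →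
      ∃ v : E, v ≠ 0 ∧ ∀ a ∈ 𝒮, ∃ μ : k, a v = μ • v := by
  intro n
  induction n using Nat.strong_induction_on with
  | _ n ih =>
    intro E _ _ _ _ 𝒮 hcomm hn
    by_cases hall : ∀ a ∈ 𝒮, ∃ μ : k, a = μ • (1 : Module.End k E)
    · obtain ⟨v, hv⟩ := exists_ne (0 : E)
      refine ⟨v, hv, fun a ha => ?_⟩
      obtain ⟨μ, rfl⟩ := hall a ha
      exact ⟨μ, by simp⟩
    · push Not at hall
      obtain ⟨a₀, ha₀, hns⟩ := hall
      obtain ⟨μ, hμ⟩ := Module.End.exists_eigenvalue a₀
      have hne : a₀.eigenspace μ ≠ ⊥ := hμ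
      have hnt : a₀.eigenspace μ ≠ ⊤ := by
        intro h
        apply hns μ
        ext v
        have : v ∈ a₀.eigenspace μ := h ▸ Submodule.mem_top
        simpa using Module.End.mem_eigenspace_iff.mp this
      have hlt : Module.finrank k (a₀.eigenspace μ) < Module.finrank k E :=
        Submodule.finrank_lt hnt
      have hinv : ∀ a ∈ 𝒮, ∀ w ∈ a₀.eigenspace μ, a w ∈ a₀.eigenspace μ := by
        intro a ha w hw
        rw [Module.End.mem_eigenspace_iff] at hw ⊢
        have := LinearMap.congr_fun (hcomm a₀ ha₀ a ha) w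
        simp only [Module.End.mul_apply] at this
        rw [this, hw, map_smul]
      haveI : Nontrivial (a₀.eigenspace μ) := Submodule.nontrivial_iff_ne_bot.mpr hne
      obtain ⟨v', hv', hev⟩ := ih _ (hn ▸ hlt) (a₀.eigenspace μ)
        {b | ∃ (a : Module.End k E) (ha : a ∈ 𝒮), b = a.restrict (hinv a ha)} (by
          rintro _ ⟨a, ha, rfl⟩ _ ⟨b, hb, rfl⟩
          ext w
          have := LinearMap.congr_fun (hcomm a ha b hb) w
          simpa using this) rfl
      refine ⟨v', by simpa using hv', fun a ha => ?_⟩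
      obtain ⟨μ', hμ'⟩ := hev _ ⟨a, ha, rfl⟩
      exact ⟨μ', by simpa using congrArg Subtype.val hμ'⟩

end CE


section Uniq

variable {k : Type u} [Field k] [IsAlgClosed k] {Γ : Type u} [Group Γ] {ι : kˣ →* Γ}
  [hN : ι.range.Normal] [Finite (Γ ⧸ ι.range)]
variable {V : Type u} [AddCommGroup V] [Module k V] [FiniteDimensional k V] (ρ : Representation k Γ V)
variable {W : Type u} [AddCommGroup W] [Module k W] [FiniteDimensional k W] (σ : Representation k Γ W)

/-- conjugation action on `Hom(V, W)` -/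
noncomputable def conjAct (g : Γ) : Module.End k (V →ₗ[k] W) where
  toFun T := σ g ∘ₗ T ∘ₗ ρ g⁻¹
  map_add' T T' := by simp [LinearMap.comp_add, LinearMap.add_comp]
  map_smul' c T := by simp [LinearMap.comp_smul, LinearMap.smul_comp]

omit [IsAlgClosed k] hN [Finite (Γ ⧸ ι.range)] [FiniteDimensional k V] [FiniteDimensional k W] in
@[simp] theorem conjAct_apply (g : Γ) (T : V →ₗ[k] W) : conjAct ρ σ g T = σ g ∘ₗ T ∘ₗ ρ g⁻¹ := rfl

omit [IsAlgClosed k] hN [Finite (Γ ⧸ ι.range)] [FiniteDimensional k V] [FiniteDimensional k W] in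
theorem conjAct_mul (g h : Γ) : conjAct ρ σ (g * h) = conjAct ρ σ g * conjAct ρ σ h := by
  ext T v
  simp [mul_inv_rev]

omit [IsAlgClosed k] hN [Finite (Γ ⧸ ι.range)] [FiniteDimensional k V] [FiniteDimensional k W] in
theorem conjAct_one : conjAct ρ σ 1 = 1 := by
  ext T v
  simp

omit [IsAlgClosed k] hN [Finite (Γ ⧸ ι.range)] [FiniteDimensional k V] [FiniteDimensional k W] in
theorem conjAct_central (h1ρ : ∀ (z : kˣ) (v : V), ρ (ι z) v = (z : k) • v)
    (h1σ : ∀ (z : kˣ) (w : W), σ (ι z) w = (z : k) • w) (z : kˣ) : conjAct ρ σ (ι z) = 1 := by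
  ext T v
  simp only [conjAct_apply, LinearMap.comp_apply, Module.End.one_apply]
  rw [← map_inv, h1ρ, h1σ, map_smul, smul_smul]
  simp

omit [IsAlgClosed k] hN [Finite (Γ ⧸ ι.range)] [FiniteDimensional k V] [FiniteDimensional k W] in
theorem conjAct_comm (H : Hyp ι) (h1ρ : ∀ (z : kˣ) (v : V), ρ (ι z) v = (z : k) • v)
    (h1σ : ∀ (z : kˣ) (w : W), σ (ι z) w = (z : k) • w) (g h : Γ) :
    conjAct ρ σ g * conjAct ρ σ h = conjAct ρ σ h * conjAct ρ σ g := by
  rw [← conjAct_mul, ← conjAct_mul]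
  have h2 : g * h = ι (e H g h) * (h * g) := by
    have := e_spec H g h
    calc g * h = g * h * g⁻¹ * g := by group
      _ = ι (e H g h) * h * g := by rw [this]
      _ = _ := by group
  rw [h2, conjAct_mul, conjAct_central ρ σ h1ρ h1σ, one_mul]

theorem nonempty_equiv (H : Hyp ι) (hcop : (Nat.card (Γ ⧸ ι.range)).Coprime (ringExpChar k))
    (hρ : IsIrreducible ρ) (hσ : IsIrreducible σ)
    (h1ρ : ∀ (z : kˣ) (v : V), ρ (ι z) v = (z : k) • v)
    (h1σ : ∀ (z : kˣ) (w : W), σ (ι z) w = (z : k) • w) :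
    Nonempty (Representation.Equiv ρ σ) := by
  haveI := nontrivial_of_irreducible ρ hρ
  haveI := nontrivial_of_irreducible σ hσ
  haveI : Nontrivial (V →ₗ[k] W) := by
    apply Module.nontrivial_of_finrank_pos (R := k)
    rw [Module.finrank_linearMap]
    exact Nat.mul_pos Module.finrank_pos Module.finrank_pos
  obtain ⟨T, hT, hev⟩ := exists_common_eigenvector (k := k) _ (V →ₗ[k] W) (Set.range (conjAct ρ σ))
    (by
      rintro _ ⟨g, rfl⟩ _ ⟨h, rfl⟩
      exact conjAct_comm ρ σ H h1ρ h1σ g h) rfl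
  choose μ hμ using fun g : Γ => hev (conjAct ρ σ g) ⟨g, rfl⟩
  have hμ_mul : ∀ g h, μ (g * h) = μ g * μ h := by
    intro g h
    have h2 : conjAct ρ σ (g * h) T = (μ g * μ h) • T := by
      rw [conjAct_mul, Module.End.mul_apply, hμ h, map_smul, hμ g, smul_smul, mul_comm]
    rw [hμ (g * h)] at h2
    by_contra hne
    have : (μ (g * h) - μ g * μ h) • T = 0 := by rw [sub_smul, h2, sub_self]
    rcases smul_eq_zero.mp this with h3 | h3
    · exact hne (sub_eq_zero.mp h3)
    · exact hT h3
  have hμ_one : μ 1 = 1 := by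
    have h2 := hμ 1
    rw [conjAct_one, Module.End.one_apply] at h2
    by_contra hne
    have : (1 - μ 1) • T = 0 := by rw [sub_smul, one_smul, ← h2, sub_self]
    rcases smul_eq_zero.mp this with h3 | h3
    · exact hne (sub_eq_zero.mp h3).symm
    · exact hT h3
  have hμ_central : ∀ z : kˣ, μ (ι z) = 1 := by
    intro z
    have h2 := hμ (ι z)
    rw [conjAct_central ρ σ h1ρ h1σ, Module.End.one_apply] at h2
    by_contra hne
    have : (1 - μ (ι z)) • T = 0 := by rw [sub_smul, one_smul, ← h2, sub_self]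
    rcases smul_eq_zero.mp this with h3 | h3
    · exact hne (sub_eq_zero.mp h3).symm
    · exact hT h3
  -- the character
  let χ : Γ →* kˣ :=
    { toFun := fun g => Units.mkOfMulEqOne (μ g) (μ g⁻¹) (by rw [← hμ_mul, mul_inv_cancel, hμ_one])
      map_one' := Units.ext hμ_one
      map_mul' := fun g h => Units.ext (hμ_mul g h) }
  have hχ : ∀ g, ((χ g : kˣ) : k) = μ g := fun g => rfl
  let χbar : (Γ ⧸ ι.range) →* kˣ := QuotientGroup.lift ι.range χ (by
    rintro _ ⟨z, rfl⟩
    exact Units.ext (hμ_central z))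
  obtain ⟨x, hx⟩ := (eK_bijective H hcop).2 χbar
  obtain ⟨h, rfl⟩ := QuotientGroup.mk_surjective x
  have hxe : ∀ g, ((e H h g : kˣ) : k) = μ g := by
    intro g
    have := congrArg (fun f : (Γ ⧸ ι.range) →* kˣ => f (QuotientGroup.mk g)) hx
    change e H h g = χ g at this
    rw [this, hχ]
  -- the intertwiner
  have hrel : ∀ g, σ g ∘ₗ T = μ g • (T ∘ₗ ρ g) := by
    intro g
    have h2 := hμ g
    rw [conjAct_apply] at h2
    have h3 := congrArg (fun S : V →ₗ[k] W => S ∘ₗ ρ g) h2
    simp only [LinearMap.comp_assoc, LinearMap.smul_comp] at h3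
    rw [← Module.End.mul_eq_comp, ← map_mul, inv_mul_cancel, map_one] at h3
    exact h3
  have hρrel : ∀ g, ρ h * ρ g = μ g • (ρ g * ρ h) := by
    intro g
    have := conj_eq ρ H h1ρ h g
    rw [hxe] at this
    have h3 := congrArg (fun S : Module.End k V => S * ρ h) this
    simp only [mul_assoc, smul_mul_assoc] at h3
    rw [← map_mul ρ h⁻¹, inv_mul_cancel, map_one, mul_one] at h3
    exact h3
  let f : IntertwiningMap ρ σ :=
    { toLinearMap := T ∘ₗ ρ h
      isIntertwining' := by
        intro g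
        rw [← LinearMap.comp_assoc, hrel g, LinearMap.comp_assoc]
        have := hρrel g
        rw [Module.End.mul_eq_comp, Module.End.mul_eq_comp] at this
        rw [this, LinearMap.comp_smul, LinearMap.smul_comp, LinearMap.comp_assoc] }
  have hf : f ≠ 0 := by
    intro h0
    apply hT
    have h2 : T ∘ₗ ρ h = 0 := congrArg IntertwiningMap.toLinearMap h0
    have h3 := congrArg (fun S : V →ₗ[k] W => S ∘ₗ ρ h⁻¹) h2
    simp only [LinearMap.comp_assoc, LinearMap.zero_comp] at h3
    rwa [← Module.End.mul_eq_comp, ← map_mul, mul_inv_cancel, map_one, Module.End.one_eq_id,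
      LinearMap.comp_id] at h3
  haveI := hρ
  haveI := hσ
  rcases IsIrreducible.bijective_or_eq_zero f with hb | h0
  · exact ⟨f.ofBijective hb⟩
  · exact absurd h0 hf

end Uniq

end Groth.Agent.Lib.Helper7.Theta
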