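import Groth.Agent.Lib.Helper7.Theta4

set_option autoImplicit false
universe u

namespace Groth.Agent.Lib.Helper7.Theta

open Representation Module

section Exist

variable {k : Type u} [Field k] {Γ : Type u} [Group Γ] {ι : kˣ →* Γ}

/-- The scalar representation of `kˣ` on `k`. -/
noncomputable def scal (k : Type u) [Field k] : Representation k kˣ k where
  toFun z := (z : k) • LinearMap.id
  map_one' := by
    ext
    simp
  map_mul' a b := by
    ext
    simp [mul_comm]

@[simp] theorem scal_apply (z : kˣ) (c : k) : scal k z c = (z : k) * c := by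
  simp [scal]

/-- The twisted regular representation: functions `f` on `Γ` with `f (ι z * g) = z f g`. -/
noncomputable abbrev V0 (ι : kˣ →* Γ) : Submodule k (Γ → k) := coindV ι (scal k)

noncomputable abbrev rho0 (ι : kˣ →* Γ) : Representation k Γ (V0 ι) := coind ι (scal k)

theorem rho0_weight (H : Hyp ι) (z : kˣ) (f : V0 ι) : rho0 ι (ι z) f = (z : k) • f := by
  apply Subtype.ext
  funext x
  have h1 : (rho0 ι (ι z) f : Γ → k) x = (f : Γ → k) (x * ι z) := rfl
  rw [h1, ← H.central, f.2 z x]
  simp

variable [hN : ι.range.Normal] [Finite (Γ ⧸ ι.range)]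

/-- restriction to the section -/
noncomputable def resSec (ι : kˣ →* Γ) [ι.range.Normal] : V0 ι →ₗ[k] ((Γ ⧸ ι.range) → k) where
  toFun f x := (f : Γ → k) (sec x)
  map_add' f f' := by ext; simp
  map_smul' c f := by ext; simp

theorem resSec_injective (H : Hyp ι) : Function.Injective (resSec ι) := by
  rw [← LinearMap.ker_eq_bot, LinearMap.ker_eq_bot']
  intro f hf
  apply Subtype.ext
  funext g
  obtain ⟨z, hz⟩ := exists_eq_sec_mul (ι := ι) g
  have h1 : (f : Γ → k) g = (z : k) * (f : Γ → k) (sec (QuotientGroup.mk g : Γ ⧸ ι.range)) := by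
    conv_lhs => rw [hz, ← H.central, f.2 z]
    simp
  have h2 : (f : Γ → k) (sec (QuotientGroup.mk g : Γ ⧸ ι.range)) = 0 :=
    congrFun hf (QuotientGroup.mk g)
  rw [h1, h2, mul_zero]; rfl

theorem finite_V0 (H : Hyp ι) : FiniteDimensional k (V0 ι) :=
  Module.Finite.of_injective (resSec ι) (resSec_injective H)

open Classical in
/-- a nonzero element -/
noncomputable def f0 (ι : kˣ →* Γ) : Γ → k := fun g =>
  if h : g ∈ ι.range then ((Classical.choose h : kˣ) : k) else 0

omit hN [Finite (Γ ⧸ ι.range)] in
theorem f0_mem (H : Hyp ι) : f0 ι ∈ V0 ι := by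
  intro z g
  classical
  by_cases hg : g ∈ ι.range
  · have hzg : ι z * g ∈ ι.range := mul_mem ⟨z, rfl⟩ hg
    have e1 : f0 ι (ι z * g) = ((Classical.choose hzg : kˣ) : k) := dif_pos hzg
    have e2 : f0 ι g = ((Classical.choose hg : kˣ) : k) := dif_pos hg
    rw [e1, e2, scal_apply, ← Units.val_mul]
    congr 1
    apply H.inj
    rw [map_mul, Classical.choose_spec hzg, Classical.choose_spec hg]
  · have hzg : ι z * g ∉ ι.range := by
      intro h
      apply hg
      have := mul_mem (inv_mem (⟨z, rfl⟩ : ι z ∈ ι.range)) h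
      rwa [inv_mul_cancel_left] at this
    have e1 : f0 ι (ι z * g) = 0 := dif_neg hzg
    have e2 : f0 ι g = 0 := dif_neg hg
    rw [e1, e2]; simp

omit hN [Finite (Γ ⧸ ι.range)] in
theorem f0_one (H : Hyp ι) : f0 ι 1 = 1 := by
  classical
  have h1 : (1 : Γ) ∈ ι.range := one_mem _
  have e1 : f0 ι 1 = ((Classical.choose h1 : kˣ) : k) := dif_pos h1
  rw [e1]
  have : Classical.choose h1 = 1 := H.inj (by rw [Classical.choose_spec h1, map_one])
  rw [this]; rfl

theorem exists_irreducible [IsAlgClosed k] (H : Hyp ι) :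
    ∃ (V : Type u) (_ : AddCommGroup V) (_ : Module k V) (_ : FiniteDimensional k V)
      (ρ : Representation k Γ V), IsIrreducible ρ ∧ ∀ (z : kˣ) (v : V), ρ (ι z) v = (z : k) • v := by
  classical
  let P : ℕ → Prop := fun n =>
    ∃ (V : Type u) (_ : AddCommGroup V) (_ : Module k V) (_ : FiniteDimensional k V)
      (ρ : Representation k Γ V), (∀ (z : kˣ) (v : V), ρ (ι z) v = (z : k) • v) ∧
        Module.finrank k V = n ∧ 0 < n
  have hex : ∃ n, P n := by
    haveI := finite_V0 H
    refine ⟨Module.finrank k (V0 ι), V0 ι, inferInstance, inferInstance, inferInstance, rho0 ι,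
      rho0_weight H, rfl, ?_⟩
    haveI : Nontrivial (V0 ι) := by
      refine ⟨⟨⟨f0 ι, f0_mem H⟩, 0, fun h => ?_⟩⟩
      have : f0 ι 1 = 0 := congrFun (congrArg Subtype.val h) 1
      rw [f0_one H] at this
      exact one_ne_zero this
    exact Module.finrank_pos
  obtain ⟨V, i1, i2, i3, ρ, hw, hfr, hpos⟩ := Nat.find_spec hex
  refine ⟨V, i1, i2, i3, ρ, ?_, hw⟩
  haveI : Nontrivial V := Module.nontrivial_of_finrank_pos (R := k) (hfr ▸ hpos)
  refine { exists_pair_ne := ⟨⊥, ⊤, fun h => ?_⟩, eq_bot_or_eq_top := fun U => ?_ }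
  · have h2 : (⊥ : Submodule k V) = ⊤ := congrArg Subrepresentation.toSubmodule h
    exact bot_ne_top h2
  · by_cases hU : U.toSubmodule = ⊥
    · left; exact Subrepresentation.toSubmodule_injective hU
    · right
      apply Subrepresentation.toSubmodule_injective
      change U.toSubmodule = ⊤
      have hposU : 0 < Module.finrank k U.toSubmodule := by
        haveI : Nontrivial U.toSubmodule := Submodule.nontrivial_iff_ne_bot.mpr hU
        exact Module.finrank_pos
      have hPU : P (Module.finrank k U.toSubmodule) :=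
        ⟨U.toSubmodule, inferInstance, inferInstance, inferInstance, U.toRepresentation,
          fun z v => Subtype.ext (hw z v), rfl, hposU⟩
      have hmin := Nat.find_min' hex hPU
      apply Submodule.eq_top_of_finrank_eq
      apply le_antisymm (Submodule.finrank_le _)
      rw [hfr]; exact hmin

end Exist

end Groth.Agent.Lib.Helper7.Theta
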