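import Mathlib

set_option autoImplicit false
universe u

namespace Groth.Agent.Lib.Helper7.Theta

open Module

section Isotypic

variable {k : Type*} [Field k] {B : Type*} [CommGroup B] [Fintype B]
  {W : Type*} [AddCommGroup W] [Module k W] (τ : Representation k B W)

/-- The `χ`-weight space of a representation of a commutative group. -/
def wtSpace (χ : B →* kˣ) : Submodule k W where
  carrier := {w | ∀ b, τ b w = ((χ b : kˣ) : k) • w}
  add_mem' {x y} hx hy b := by rw [map_add, hx b, hy b, smul_add]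
  zero_mem' b := by simp
  smul_mem' c x hx b := by rw [map_smul, hx b, smul_comm]

theorem mem_wtSpace (χ : B →* kˣ) (w : W) : w ∈ wtSpace τ χ ↔ ∀ b, τ b w = ((χ b : kˣ) : k) • w :=
  Iff.rfl

/-- The projector onto the `χ`-weight space. -/
noncomputable def wtProj (χ : B →* kˣ) : W →ₗ[k] W :=
  (Fintype.card B : k)⁻¹ • ∑ b, (((χ b)⁻¹ : kˣ) : k) • τ b

theorem wtProj_mem (χ : B →* kˣ) (w : W) : wtProj τ χ w ∈ wtSpace τ χ := by
  intro c
  simp only [wtProj, LinearMap.smul_apply, LinearMap.sum_apply, map_smul, map_sum]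
  rw [smul_comm]
  congr 1
  rw [Finset.smul_sum]
  rw [← Equiv.sum_comp (Equiv.mulLeft c⁻¹)]
  refine Finset.sum_congr rfl fun b _ => ?_
  simp only [Equiv.coe_mulLeft]
  rw [← Module.End.mul_apply, ← map_mul, mul_inv_cancel_left, smul_smul]
  congr 1
  rw [map_mul, map_inv, mul_inv, inv_inv, Units.val_mul, mul_comm]

variable (hB : (Fintype.card B : k) ≠ 0)
include hB

theorem wtProj_of_mem (χ : B →* kˣ) {w : W} (hw : w ∈ wtSpace τ χ) : wtProj τ χ w = w := by
  simp only [wtProj, LinearMap.smul_apply, LinearMap.sum_apply]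
  have : ∀ b, (((χ b)⁻¹ : kˣ) : k) • τ b w = w := by
    intro b
    rw [hw b, smul_smul, ← Units.val_mul, inv_mul_cancel, Units.val_one, one_smul]
  rw [Finset.sum_congr rfl fun b _ => this b, Finset.sum_const, Finset.card_univ, ← Nat.cast_smul_eq_nsmul k,
    smul_smul, inv_mul_cancel₀ hB, one_smul]

theorem wtProj_of_mem_ne (χ ψ : B →* kˣ) (hne : ψ ≠ χ) {w : W} (hw : w ∈ wtSpace τ ψ) :
    wtProj τ χ w = 0 := by
  simp only [wtProj, LinearMap.smul_apply, LinearMap.sum_apply]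
  have : ∀ b, (((χ b)⁻¹ : kˣ) : k) • τ b w = (((ψ * χ⁻¹) b : kˣ) : k) • w := by
    intro b
    rw [hw b, smul_smul, ← Units.val_mul, MonoidHom.mul_apply, MonoidHom.inv_apply,
      mul_comm]
  rw [Finset.sum_congr rfl fun b _ => this b, ← Finset.sum_smul]
  have hne' : ψ * χ⁻¹ ≠ 1 := fun h => hne (mul_inv_eq_one.mp h)
  have h0 : ∑ b, (((ψ * χ⁻¹) b : kˣ) : k) = 0 := by
    have hne'' : (Units.coeHom k).comp (ψ * χ⁻¹) ≠ 1 := by
      intro h
      apply hne'
      ext b
      have := congrArg (fun f : B →* k => f b) h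
      simpa using this
    exact sum_hom_units_eq_zero _ hne''
  rw [h0, zero_smul, smul_zero]

omit hB in
theorem sum_char_inv_eq_zero [Fintype (B →* kˣ)] [HasEnoughRootsOfUnity k (Monoid.exponent B)]
    {b : B} (hb : b ≠ 1) : ∑ χ : B →* kˣ, (((χ b)⁻¹ : kˣ) : k) = 0 := by
  obtain ⟨χ₀, hχ₀⟩ := CommGroup.exists_apply_ne_one_of_hasEnoughRootsOfUnity B k hb
  have h1 : ∑ χ : B →* kˣ, (((χ b)⁻¹ : kˣ) : k) =
      (((χ₀ b)⁻¹ : kˣ) : k) * ∑ χ : B →* kˣ, (((χ b)⁻¹ : kˣ) : k) := by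
    rw [Finset.mul_sum, ← Equiv.sum_comp (Equiv.mulLeft χ₀)]
    refine Finset.sum_congr rfl fun χ _ => ?_
    simp only [Equiv.coe_mulLeft, MonoidHom.mul_apply, mul_inv, Units.val_mul]
  have h2 : (1 - (((χ₀ b)⁻¹ : kˣ) : k)) * ∑ χ : B →* kˣ, (((χ b)⁻¹ : kˣ) : k) = 0 := by
    rw [sub_mul, one_mul, ← h1, sub_self]
  rcases mul_eq_zero.mp h2 with h3 | h3
  · exfalso
    apply hχ₀
    have h4 : (((χ₀ b)⁻¹ : kˣ) : k) = 1 := (sub_eq_zero.mp h3).symm
    have h5 : (χ₀ b)⁻¹ = 1 := Units.ext h4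
    exact inv_eq_one.mp h5
  · exact h3

theorem sum_wtProj [Fintype (B →* kˣ)] [HasEnoughRootsOfUnity k (Monoid.exponent B)] (w : W) :
    ∑ χ : B →* kˣ, wtProj τ χ w = w := by
  classical
  simp only [wtProj, LinearMap.smul_apply, LinearMap.sum_apply]
  rw [← Finset.smul_sum, Finset.sum_comm]
  have h1 : ∀ b : B, ∑ χ : B →* kˣ, (((χ b)⁻¹ : kˣ) : k) • τ b w =
      if b = 1 then (Fintype.card B : k) • w else 0 := by
    intro b
    rw [← Finset.sum_smul]
    split_ifs with hb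
    · subst hb
      simp only [map_one, inv_one, Units.val_one, Finset.sum_const, Finset.card_univ, Module.End.one_apply]
      rw [← Nat.card_eq_fintype_card, CommGroup.card_monoidHom_of_hasEnoughRootsOfUnity,
        Nat.card_eq_fintype_card, nsmul_eq_mul, mul_one]
    · rw [sum_char_inv_eq_zero hb, zero_smul]
  rw [Finset.sum_congr rfl fun b _ => h1 b, Finset.sum_ite_eq' Finset.univ (1 : B)]
  simp only [Finset.mem_univ, if_true]
  rw [smul_smul, inv_mul_cancel₀ hB, one_smul]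

/-- The isotypic decomposition. -/
noncomputable def isoDecomp [Fintype (B →* kˣ)] [HasEnoughRootsOfUnity k (Monoid.exponent B)] :
    W ≃ₗ[k] ((χ : B →* kˣ) → wtSpace τ χ) := by
  classical
  refine LinearEquiv.ofBijective
    (LinearMap.pi fun χ => (wtProj τ χ).codRestrict (wtSpace τ χ) (wtProj_mem τ χ)) ⟨?_, ?_⟩
  · intro w w' h
    rw [← sum_wtProj τ hB w, ← sum_wtProj τ hB w']
    refine Finset.sum_congr rfl fun χ _ => ?_
    exact congrArg Subtype.val (congrFun h χ)
  · intro f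
    refine ⟨∑ ψ, (f ψ : W), ?_⟩
    funext χ
    apply Subtype.ext
    change wtProj τ χ (∑ ψ, (f ψ : W)) = f χ
    rw [map_sum, Finset.sum_eq_single χ]
    · exact wtProj_of_mem τ hB χ (f χ).2
    · intro ψ _ hψ
      exact wtProj_of_mem_ne τ hB χ ψ hψ (f ψ).2
    · intro h; exact absurd (Finset.mem_univ χ) h

theorem finrank_eq_sum [Fintype (B →* kˣ)] [HasEnoughRootsOfUnity k (Monoid.exponent B)]
    [FiniteDimensional k W] :
    Module.finrank k W = ∑ χ : B →* kˣ, Module.finrank k (wtSpace τ χ) := by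
  rw [LinearEquiv.finrank_eq (isoDecomp τ hB), Module.finrank_pi_fintype]

end Isotypic

end Groth.Agent.Lib.Helper7.Theta
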