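import Groth.Agent.Lib.Helper7.Theta5
import Groth.Agent.Lib.Helper7.Theta6

set_option autoImplicit false
universe u

namespace Groth.Agent.Lib.Helper7.Theta

open Representation Module

section Maschke

variable {k : Type u} [Field k] {Γ : Type u} [Group Γ] {ι : kˣ →* Γ}
  [hN : ι.range.Normal] [Finite (Γ ⧸ ι.range)]
variable {W : Type u} [AddCommGroup W] [Module k W] (ρ : Representation k Γ W)

/-- conjugate of a linear map by `ρ g` -/
noncomputable def cj (p : Module.End k W) (g : Γ) : Module.End k W := ρ g * p * ρ g⁻¹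

omit hN [Finite (Γ ⧸ ι.range)] in
theorem cj_mul_central (h1 : ∀ (z : kˣ) (w : W), ρ (ι z) w = (z : k) • w) (p : Module.End k W)
    (g : Γ) (z : kˣ) : cj ρ p (g * ι z) = cj ρ p g := by
  ext w
  simp only [cj, mul_inv_rev, map_mul, Module.End.mul_apply]
  rw [← map_inv]
  simp only [h1, map_smul, smul_smul]
  simp

omit hN [Finite (Γ ⧸ ι.range)] in
theorem conj_cj (p : Module.End k W) (g h : Γ) : ρ g * cj ρ p h * ρ g⁻¹ = cj ρ p (g * h) := by
  simp only [cj, mul_inv_rev, map_mul, mul_assoc]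

theorem cj_sec_mul (h1 : ∀ (z : kˣ) (w : W), ρ (ι z) w = (z : k) • w) (p : Module.End k W)
    (g : Γ) (x : Γ ⧸ ι.range) : cj ρ p (g * sec x) = cj ρ p (sec ((QuotientGroup.mk g : Γ ⧸ ι.range) * x)) := by
  obtain ⟨z, hz⟩ := exists_eq_sec_mul (ι := ι) (g * sec x)
  have h2 : (QuotientGroup.mk (g * sec x) : Γ ⧸ ι.range) = QuotientGroup.mk g * x := by
    rw [QuotientGroup.mk_mul, mk_sec]
  rw [h2] at hz
  rw [hz, cj_mul_central ρ h1]

/-- the averaged projector -/
noncomputable def avg (ι : kˣ →* Γ) [ι.range.Normal] [Fintype (Γ ⧸ ι.range)] (ρ : Representation k Γ W)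
    (p : Module.End k W) : Module.End k W :=
  (Fintype.card (Γ ⧸ ι.range) : k)⁻¹ • ∑ x : Γ ⧸ ι.range, cj ρ p (sec x)

theorem avg_comm [Fintype (Γ ⧸ ι.range)] (h1 : ∀ (z : kˣ) (w : W), ρ (ι z) w = (z : k) • w)
    (p : Module.End k W) (g : Γ) : ρ g * avg ι ρ p = avg ι ρ p * ρ g := by
  have h2 : ρ g * avg ι ρ p * ρ g⁻¹ = avg ι ρ p := by
    simp only [avg, mul_smul_comm, smul_mul_assoc, Finset.mul_sum, Finset.sum_mul]
    congr 1
    conv_rhs => rw [← Equiv.sum_comp (Equiv.mulLeft (QuotientGroup.mk g : Γ ⧸ ι.range))]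
    refine Finset.sum_congr rfl fun x _ => ?_
    rw [conj_cj, cj_sec_mul ρ h1]
    rfl
  calc ρ g * avg ι ρ p = ρ g * avg ι ρ p * ρ g⁻¹ * ρ g := by
        rw [mul_assoc, mul_assoc, ← map_mul, inv_mul_cancel, map_one, mul_one]
    _ = avg ι ρ p * ρ g := by rw [h2]

theorem semisimple (hcard : (Nat.card (Γ ⧸ ι.range) : k) ≠ 0)
    (h1 : ∀ (z : kˣ) (w : W), ρ (ι z) w = (z : k) • w) : IsSemisimpleRepresentation ρ := by
  haveI : Fintype (Γ ⧸ ι.range) := Fintype.ofFinite _
  rw [Nat.card_eq_fintype_card] at hcard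
  refine ⟨fun U => ?_⟩
  obtain ⟨C, hC⟩ := Submodule.exists_isCompl U.toSubmodule
  let p : Module.End k W := U.toSubmodule.subtype ∘ₗ Submodule.projectionOnto U.toSubmodule C hC
  have hpU : ∀ w, p w ∈ U.toSubmodule := fun w => Submodule.coe_mem _
  have hpu : ∀ u ∈ U.toSubmodule, p u = u := by
    intro u hu
    change ((Submodule.projectionOnto U.toSubmodule C hC u : U.toSubmodule) : W) = u
    rw [Submodule.projectionOnto_apply_of_mem_left hC hu]
  have hcjU : ∀ g w, cj ρ p g w ∈ U.toSubmodule := fun g w =>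
    U.apply_mem_toSubmodule g (hpU _)
  have hcju : ∀ g, ∀ u ∈ U.toSubmodule, cj ρ p g u = u := by
    intro g u hu
    change ρ g (p (ρ g⁻¹ u)) = u
    rw [hpu _ (U.apply_mem_toSubmodule g⁻¹ hu), ← Module.End.mul_apply, ← map_mul, mul_inv_cancel,
      map_one, Module.End.one_apply]
  have hq_mem : ∀ w, avg ι ρ p w ∈ U.toSubmodule := by
    intro w
    simp only [avg, LinearMap.smul_apply, LinearMap.sum_apply]
    exact Submodule.smul_mem _ _ (Submodule.sum_mem _ fun x _ => hcjU _ w)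
  have hq_id : ∀ u : U.toSubmodule, (avg ι ρ p).codRestrict U.toSubmodule hq_mem u = u := by
    intro u
    apply Subtype.ext
    change avg ι ρ p (u : W) = u
    simp only [avg, LinearMap.smul_apply, LinearMap.sum_apply]
    rw [Finset.sum_congr rfl fun x _ => hcju (sec x) u u.2, Finset.sum_const, Finset.card_univ,
      ← Nat.cast_smul_eq_nsmul k, smul_smul, inv_mul_cancel₀ hcard, one_smul]
  have hcompl := LinearMap.isCompl_of_proj hq_id
  rw [LinearMap.ker_codRestrict] at hcompl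
  refine ⟨⟨LinearMap.ker (avg ι ρ p), ?_⟩, ?_⟩
  · intro g w hw
    rw [LinearMap.mem_ker] at hw ⊢
    rw [← Module.End.mul_apply, ← avg_comm ρ h1, Module.End.mul_apply, hw, map_zero]
  · constructor
    · rw [disjoint_iff]
      apply Subrepresentation.toSubmodule_injective
      exact disjoint_iff.mp hcompl.1
    · rw [codisjoint_iff]
      apply Subrepresentation.toSubmodule_injective
      exact codisjoint_iff.mp hcompl.2

end Maschke

end Groth.Agent.Lib.Helper7.Theta
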