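import Groth.Agent.Lib.Helper7.Theta7

set_option autoImplicit false
universe u

namespace Groth.Agent.Lib.Helper7.Theta

open Representation Module

section Level

variable {k : Type u} [Field k] [IsAlgClosed k] {Γ : Type u} [Group Γ] {ι : kˣ →* Γ}
  [hN : ι.range.Normal] [Finite (Γ ⧸ ι.range)]

omit [IsAlgClosed k] hN [Finite (Γ ⧸ ι.range)] in
theorem level_comm (H : Hyp ι) (L : Subgroup Γ) (hL : L ⊓ ι.range = ⊥) {a b : Γ} (ha : a ∈ L)
    (hb : b ∈ L) : a * b = b * a := by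
  have h1 : a * b * a⁻¹ * b⁻¹ ∈ L ⊓ ι.range :=
    Subgroup.mem_inf.mpr ⟨mul_mem (mul_mem (mul_mem ha hb) (inv_mem ha)) (inv_mem hb), H.conj_mem a b⟩
  rw [hL, Subgroup.mem_bot] at h1
  calc a * b = a * b * a⁻¹ * b⁻¹ * (b * a) := by group
    _ = b * a := by rw [h1, one_mul]

omit [IsAlgClosed k] [Finite (Γ ⧸ ι.range)] in
theorem mk_injOn_level (L : Subgroup Γ) (hL : L ⊓ ι.range = ⊥) {a b : Γ} (ha : a ∈ L) (hb : b ∈ L)
    (hab : (QuotientGroup.mk a : Γ ⧸ ι.range) = QuotientGroup.mk b) : a = b := by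
  rw [QuotientGroup.eq] at hab
  have h1 : a⁻¹ * b ∈ L ⊓ ι.range := Subgroup.mem_inf.mpr ⟨mul_mem (inv_mem ha) hb, hab⟩
  rw [hL, Subgroup.mem_bot] at h1
  exact inv_mul_eq_one.mp h1

theorem perp_map_eq_of_maximal (H : Hyp ι) (L : Subgroup Γ) (hL : L ⊓ ι.range = ⊥)
    (hmax : ∀ L' : Subgroup Γ, L' ⊓ ι.range = ⊥ → L ≤ L' → L' = L) :
    perp H (L.map (QuotientGroup.mk' ι.range)) = L.map (QuotientGroup.mk' ι.range) := by
  set Lb := L.map (QuotientGroup.mk' ι.range) with hLb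
  apply le_antisymm
  swap
  · rintro _ ⟨a, ha, rfl⟩
    change (QuotientGroup.mk a : Γ ⧸ ι.range) ∈ perp H Lb
    rw [hLb, mk_mem_perp_map_iff, Subgroup.mem_centralizer_iff]
    intro b hb
    exact level_comm H L hL hb ha
  · intro x hx
    by_contra hxL
    obtain ⟨g, rfl⟩ := QuotientGroup.mk_surjective x
    have hgc : g ∈ Subgroup.centralizer (L : Set Γ) := (mk_mem_perp_map_iff H L g).mp hx
    set x : Γ ⧸ ι.range := QuotientGroup.mk g with hxdef
    have hex : ∃ n : ℕ, 0 < n ∧ x ^ n ∈ Lb :=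
      ⟨orderOf x, orderOf_pos x, by rw [pow_orderOf_eq_one]; exact one_mem _⟩
    classical
    set n := Nat.find hex with hn
    obtain ⟨hnpos, hxn⟩ := Nat.find_spec hex
    have hdiv : ∀ j : ℤ, x ^ j ∈ Lb → (n : ℤ) ∣ j := by
      intro j hj
      have hn0 : (n : ℤ) ≠ 0 := by exact_mod_cast hnpos.ne'
      have hr0 : 0 ≤ j % n := Int.emod_nonneg j hn0
      have hrn : j % n < n := Int.emod_lt_of_pos j (by exact_mod_cast hnpos)
      have hxr : x ^ (j % (n : ℤ)) ∈ Lb := by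
        have h2 : x ^ (j % (n : ℤ)) = x ^ j * ((x ^ n) ^ (j / (n : ℤ)))⁻¹ := by
          rw [← zpow_natCast x n, ← zpow_mul, ← zpow_neg, ← zpow_add]
          congr 1
          have := Int.emod_add_mul_ediv j n
          omega
        rw [h2]
        exact mul_mem hj (inv_mem (zpow_mem hxn _))
      by_contra hnd
      have hrpos : 0 < j % n := by
        rcases hr0.lt_or_eq with h | h
        · exact h
        · exact absurd (Int.dvd_of_emod_eq_zero h.symm) hnd
      have hmin := Nat.find_min hex (m := (j % (n : ℤ)).toNat) (by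
        rw [← hn]
        omega)
      apply hmin
      refine ⟨by omega, ?_⟩
      have : x ^ (j % (n : ℤ)).toNat = x ^ (j % (n : ℤ)) := by
        rw [← zpow_natCast, Int.toNat_of_nonneg hr0]
      rwa [this]
    -- lift g^n
    obtain ⟨h₀, hh₀, hh₀eq⟩ : ∃ h₀ ∈ L, (QuotientGroup.mk h₀ : Γ ⧸ ι.range) = x ^ n := hxn
    have h3 : (QuotientGroup.mk h₀ : Γ ⧸ ι.range) = QuotientGroup.mk (g ^ n) := by
      rw [hh₀eq, hxdef, QuotientGroup.mk_pow]
    rw [QuotientGroup.eq] at h3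
    obtain ⟨z, hz⟩ := h3
    obtain ⟨w0, hw0⟩ := IsAlgClosed.exists_pow_nat_eq ((z⁻¹ : kˣ) : k) hnpos
    have hw0ne : w0 ≠ 0 := by
      intro h
      rw [h, zero_pow hnpos.ne'] at hw0
      exact (Units.ne_zero _) hw0.symm
    set w : kˣ := Units.mk0 w0 hw0ne with hw
    have hwn : w ^ n = z⁻¹ := Units.ext (by simpa [hw] using hw0)
    set g' := g * ι w with hg'
    have hg'n : g' ^ n = h₀ := by
      have hc : Commute g (ι w) := (H.central w g).symm
      rw [hg', hc.mul_pow, ← map_pow, hwn]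
      have : g ^ n = h₀ * ι z := by rw [hz]; group
      rw [this, mul_assoc, ← map_mul, mul_inv_cancel, map_one, mul_one]
    have hg'c : ∀ a ∈ L, Commute a g' := by
      intro a ha
      have h4 : a * g = g * a := Subgroup.mem_centralizer_iff.mp hgc a ha
      change a * (g * ι w) = g * ι w * a
      rw [← mul_assoc, h4, mul_assoc, mul_assoc, H.central]
    have hmkg' : (QuotientGroup.mk g' : Γ ⧸ ι.range) = x := by
      rw [hg', QuotientGroup.mk_mul, (QuotientGroup.eq_one_iff (ι w)).mpr (MonoidHom.mem_range.mpr ⟨w, rfl⟩), mul_one]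
    let φ : L × Multiplicative ℤ →* Γ :=
      MonoidHom.noncommCoprod L.subtype (zpowersHom Γ g') (by
        intro a j
        change Commute (a : Γ) (g' ^ (Multiplicative.toAdd j))
        exact (hg'c a a.2).zpow_right _)
    have hφ : ∀ (a : L) (j : ℤ), φ (a, Multiplicative.ofAdd j) = (a : Γ) * g' ^ j := fun a j => rfl
    have hlevel : φ.range ⊓ ι.range = ⊥ := by
      rw [eq_bot_iff]
      intro y hy
      obtain ⟨hy1, hyZ⟩ := Subgroup.mem_inf.mp hy
      obtain ⟨⟨a, j0⟩, rfl⟩ := hy1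
      rw [Subgroup.mem_bot]
      have hj0 : φ (a, j0) = (a : Γ) * g' ^ (Multiplicative.toAdd j0) := rfl
      generalize Multiplicative.toAdd j0 = j at hj0
      rw [hj0] at hyZ ⊢
      have h5 : (QuotientGroup.mk ((a : Γ) * g' ^ j) : Γ ⧸ ι.range) = 1 :=
        (QuotientGroup.eq_one_iff _).mpr hyZ
      rw [QuotientGroup.mk_mul, QuotientGroup.mk_zpow, hmkg'] at h5
      have h6 : x ^ j ∈ Lb := by
        have : x ^ j = (QuotientGroup.mk (a : Γ) : Γ ⧸ ι.range)⁻¹ := eq_inv_of_mul_eq_one_right h5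
        rw [this]
        exact inv_mem ⟨a, a.2, rfl⟩
      obtain ⟨q, rfl⟩ := hdiv j h6
      have h7 : g' ^ ((n : ℤ) * q) = h₀ ^ q := by
        rw [zpow_mul, zpow_natCast, hg'n]
      rw [h7] at hyZ ⊢
      have h8 : (a : Γ) * h₀ ^ q ∈ L ⊓ ι.range := Subgroup.mem_inf.mpr ⟨mul_mem a.2 (zpow_mem hh₀ q), hyZ⟩
      rw [hL, Subgroup.mem_bot] at h8
      exact h8
    have hle : L ≤ φ.range := by
      intro a ha
      exact ⟨(⟨a, ha⟩, Multiplicative.ofAdd 0), by rw [hφ]; simp⟩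
    have heq := hmax φ.range hlevel hle
    have hg'mem : g' ∈ L := by
      rw [← heq]
      exact ⟨(1, Multiplicative.ofAdd 1), by rw [hφ]; simp⟩
    apply hxL
    rw [← hmkg']
    exact ⟨g', hg'mem, rfl⟩

end Level

end Groth.Agent.Lib.Helper7.Theta
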