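import Groth.Agent.Lib.Helper7.Theta8

set_option autoImplicit false
universe u

namespace Groth.Agent.Lib.Helper7.Theta

open Representation Module

section Final

variable {k : Type u} [Field k] [IsAlgClosed k] {Γ : Type u} [Group Γ] {ι : kˣ →* Γ}
  [hN : ι.range.Normal] [Finite (Γ ⧸ ι.range)]

/-- A level subgroup maps isomorphically onto its image in `K`. -/
noncomputable def levelEquiv (L : Subgroup Γ) (hL : L ⊓ ι.range = ⊥) :
    L ≃* L.map (QuotientGroup.mk' ι.range) :=
  MulEquiv.ofBijective ((QuotientGroup.mk' ι.range).subgroupMap L)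
    ⟨fun a b h => Subtype.ext (mk_injOn_level L hL a.2 b.2 (congrArg Subtype.val h)),
      MonoidHom.subgroupMap_surjective _ _⟩

omit [IsAlgClosed k] [Finite (Γ ⧸ ι.range)] in
theorem levelEquiv_coe (L : Subgroup Γ) (hL : L ⊓ ι.range = ⊥) (a : L) :
    ((levelEquiv L hL a : L.map (QuotientGroup.mk' ι.range)) : Γ ⧸ ι.range) = QuotientGroup.mk (a : Γ) := rfl

omit [IsAlgClosed k] in
theorem finite_level (L : Subgroup Γ) (hL : L ⊓ ι.range = ⊥) : Finite L :=
  Finite.of_equiv _ (levelEquiv L hL).symm.toEquiv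

theorem card_level_sq (H : Hyp ι) (hcop : (Nat.card (Γ ⧸ ι.range)).Coprime (ringExpChar k))
    (L : Subgroup Γ) (hL : L ⊓ ι.range = ⊥)
    (hmax : ∀ L' : Subgroup Γ, L' ⊓ ι.range = ⊥ → L ≤ L' → L' = L) :
    Nat.card L ^ 2 = Nat.card (Γ ⧸ ι.range) := by
  have h1 := card_perp_mul H hcop (L.map (QuotientGroup.mk' ι.range))
  rw [perp_map_eq_of_maximal H L hL hmax] at h1
  rw [Nat.card_congr (levelEquiv L hL).toEquiv, sq]
  exact h1

theorem exists_e_eq (H : Hyp ι) (hcop : (Nat.card (Γ ⧸ ι.range)).Coprime (ringExpChar k))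
    (L : Subgroup Γ) (hL : L ⊓ ι.range = ⊥) (χ : L →* kˣ) :
    ∃ g : Γ, ∀ a : L, e H g a = χ a := by
  obtain ⟨x, hx⟩ := theta_surjective H hcop (L.map (QuotientGroup.mk' ι.range))
    (χ.comp (levelEquiv L hL).symm.toMonoidHom)
  obtain ⟨g, rfl⟩ := QuotientGroup.mk_surjective x
  refine ⟨g, fun a => ?_⟩
  have := congrArg (fun f : L.map (QuotientGroup.mk' ι.range) →* kˣ => f (levelEquiv L hL a)) hx
  simp only [theta_apply, MonoidHom.comp_apply, MulEquiv.coe_toMonoidHom, MulEquiv.symm_apply_apply] at this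
  rw [levelEquiv_coe, eK_mk_mk] at this
  exact this

variable {W : Type u} [AddCommGroup W] [Module k W] [FiniteDimensional k W] (ρ : Representation k Γ W)

omit [IsAlgClosed k] hN [Finite (Γ ⧸ ι.range)] in
theorem finrank_wt_le (H : Hyp ι) (h1 : ∀ (z : kˣ) (w : W), ρ (ι z) w = (z : k) • w)
    {B : Type u} [CommGroup B] [Fintype B] (j : B →* Γ) (g : Γ) (χ ψ : B →* kˣ)
    (hψ : ∀ a : B, ψ a = e H (j a) g * χ a) :
    Module.finrank k (wtSpace (ρ.comp j) χ) ≤ Module.finrank k (wtSpace (ρ.comp j) ψ) := by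
  have hmaps : ∀ w ∈ wtSpace (ρ.comp j) χ, ρ g w ∈ wtSpace (ρ.comp j) ψ := by
    intro w hw a
    change ρ (j a) (ρ g w) = _
    have h2 := conj_eq ρ H h1 (j a) g
    have h3 : ρ (j a) * ρ g = ((e H (j a) g : kˣ) : k) • (ρ g * ρ (j a)) := by
      have h4 := congrArg (fun S : Module.End k W => S * ρ (j a)) h2
      simp only [mul_assoc, smul_mul_assoc] at h4
      rwa [← map_mul ρ (j a)⁻¹, inv_mul_cancel, map_one, mul_one] at h4
    have h5 : ρ (j a) w = ((χ a : kˣ) : k) • w := hw a
    rw [← Module.End.mul_apply, h3, LinearMap.smul_apply, Module.End.mul_apply, h5, map_smul, smul_smul,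
      hψ a, Units.val_mul]
  apply LinearMap.finrank_le_finrank_of_injective (f := (ρ g).restrict hmaps)
  intro w w' hww
  apply Subtype.ext
  have h6 : ρ g (w : W) = ρ g (w' : W) := congrArg Subtype.val hww
  have h7 := congrArg (ρ g⁻¹) h6
  simpa [← Module.End.mul_apply, ← map_mul] using h7

theorem finrank_eq_card_mul (H : Hyp ι) (hcop : (Nat.card (Γ ⧸ ι.range)).Coprime (ringExpChar k))
    (h1 : ∀ (z : kˣ) (w : W), ρ (ι z) w = (z : k) • w)
    (L : Subgroup Γ) (hL : L ⊓ ι.range = ⊥) :
    Module.finrank k W =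
      Nat.card L * Module.finrank k (Representation.invariants (ρ.comp L.subtype)) := by
  classical
  letI : CommGroup L :=
    { (inferInstance : Group L) with
      mul_comm := fun a b => Subtype.ext (level_comm H L hL a.2 b.2) }
  haveI := finite_level L hL
  letI : Fintype L := Fintype.ofFinite L
  -- arithmetic facts
  have hdvd : Nat.card L ∣ Nat.card (Γ ⧸ ι.range) := by
    rw [Nat.card_congr (levelEquiv L hL).toEquiv]
    exact Subgroup.card_subgroup_dvd_card _
  have hcopL : (Nat.card L).Coprime (ringExpChar k) := Nat.Coprime.coprime_dvd_left hdvd hcop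
  have hcardL : (Fintype.card L : k) ≠ 0 := by
    rw [← Nat.card_eq_fintype_card]
    exact natCast_ne_zero_of_coprime k Nat.card_pos.ne' hcopL
  haveI : HasEnoughRootsOfUnity k (Monoid.exponent L) := by
    have hne : Monoid.exponent L ≠ 0 := Monoid.exponent_ne_zero_of_finite
    haveI : NeZero ((Monoid.exponent L : ℕ) : k) :=
      ⟨natCast_ne_zero_of_coprime k hne
        (Nat.Coprime.coprime_dvd_left Group.exponent_dvd_nat_card hcopL)⟩
    infer_instance
  haveI : Finite (L →* kˣ) := by
    obtain ⟨E⟩ := CommGroup.monoidHom_mulEquiv_of_hasEnoughRootsOfUnity L k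
    exact Finite.of_equiv _ E.symm.toEquiv
  letI : Fintype (L →* kˣ) := Fintype.ofFinite _
  set τ := ρ.comp L.subtype with hτ
  have hsum := finrank_eq_sum τ hcardL
  have hall : ∀ χ : L →* kˣ, Module.finrank k (wtSpace τ χ) = Module.finrank k (wtSpace τ 1) := by
    intro χ
    obtain ⟨g, hg⟩ := exists_e_eq H hcop L hL χ⁻¹
    have hswap : ∀ a : L, e H (a : Γ) g = χ a := by
      intro a
      have h2 := e_swap H (a : Γ) g
      rw [hg a, MonoidHom.inv_apply] at h2
      exact mul_inv_eq_one.mp h2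
    apply le_antisymm
    · apply finrank_wt_le ρ H h1 L.subtype g⁻¹ χ 1
      intro a
      change (1 : L →* kˣ) a = e H (a : Γ) g⁻¹ * χ a
      have h3 : e H (a : Γ) g⁻¹ * e H (a : Γ) g = 1 := by
        rw [← e_mul_right, inv_mul_cancel]
        have := e_central_right H (a : Γ) 1
        rwa [map_one] at this
      rw [← hswap a, h3, MonoidHom.one_apply]
    · apply finrank_wt_le ρ H h1 L.subtype g 1 χ
      intro a
      change χ a = e H (a : Γ) g * (1 : L →* kˣ) a
      rw [hswap a, MonoidHom.one_apply, mul_one]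
  have hinv : Module.finrank k (wtSpace τ 1) = Module.finrank k (Representation.invariants τ) := by
    have : wtSpace τ 1 = Representation.invariants τ := by
      ext w
      rw [mem_wtSpace, Representation.mem_invariants]
      simp
    rw [this]
  rw [hsum, Finset.sum_congr rfl fun χ _ => hall χ, Finset.sum_const, Finset.card_univ, smul_eq_mul,
    ← Nat.card_eq_fintype_card, CommGroup.card_monoidHom_of_hasEnoughRootsOfUnity, hinv]

end Final

end Groth.Agent.Lib.Helper7.Theta
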