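import Groth.Agent.Lib.Helper7.UnipDVR
import Groth.Agent.Lib.Helper7.ComodFlag2

set_option autoImplicit false

namespace Groth.Agent.Lib.Helper7.TrigDVR

open TensorProduct HopfRep Groth.Agent.Lib.Helper7.Comod Groth.Agent.Lib.Helper7.BCR
  Groth.Agent.Lib.Helper7.UnipExt Groth.Agent.Lib.Helper7.ComodFlag
  Groth.Agent.Lib.Helper7.UnipDVR

universe u v w

section Embed

variable {k : Type u} [Field k] {H : Type v} [CommRing H] [Bialgebra k H]

/-- a simple finite-dimensional comodule embeds into the regular comodule. -/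
theorem exists_simpleSub_regular (V : Type w) [AddCommGroup V] [Module k V] [cV : Comod k H V]
    (hsimple : IsSimpleComod k H V) :
    ∃ f : V →ₗ[k] H, Hoch.IsComodHom H f ∧ Function.Injective f ∧
      IsSimpleSub k H (LinearMap.range f) := by
  classical
  obtain ⟨hnt, hsimp⟩ := hsimple
  have := hnt
  obtain ⟨v, hv0⟩ := exists_ne (0 : V)
  obtain ⟨φ₀, hφ₀⟩ := Groth.Agent.Lib.Helper7.Chevalley.exists_dual_eq_one (k := k) hv0
  set f : V →ₗ[k] H := coeffMap (C := H) φ₀ with hfdef
  have hf : Hoch.IsComodHom H f := isComodHom_coeffMap φ₀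
  have hfv : f v ≠ 0 := by
    intro h0
    have := counit_coeffMap (C := H) φ₀ v
    rw [← hfdef, h0, map_zero, hφ₀] at this
    exact zero_ne_one this
  have hker : LinearMap.ker f = ⊥ := by
    rcases hsimp _ (isSubcomod_ker hf) with h | h
    · exact h
    · exfalso
      apply hfv
      have : v ∈ LinearMap.ker f := by rw [h]; trivial
      exact this
  have hfinj : Function.Injective f := LinearMap.ker_eq_bot.1 hker
  refine ⟨f, hf, hfinj, isSubcomod_range hf, ?_, ?_⟩
  · intro hbot
    apply hfv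
    have : f v ∈ LinearMap.range f := ⟨v, rfl⟩
    rwa [hbot, Submodule.mem_bot] at this
  · intro W' hW' hle
    rcases hsimp _ (isSubcomod_comap hf hW') with h | h
    · left
      rw [eq_bot_iff]
      intro w hw
      obtain ⟨x, rfl⟩ := hle hw
      have : x ∈ W'.comap f := hw
      rw [h, Submodule.mem_bot] at this
      rw [this, map_zero]
      exact Submodule.zero_mem _
    · right
      apply le_antisymm hle
      rintro _ ⟨x, rfl⟩
      have : x ∈ W'.comap f := by rw [h]; trivial
      exact this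

end Embed

section Special

variable {A : Type u} [CommRing A] [IsDomain A] [ValuationRing A] {K : Type v} [Field K]
  [Algebra A K] [IsFractionRing A K] {H : Type w} [CommRing H] [Bialgebra A H] [Module.Flat A H]
  {κ : Type v} [Field κ] [Algebra A κ]

variable (A κ) in
/-- the integral points of a `K`-subspace. -/
def lat (V : Submodule K (K ⊗[A] H)) : Submodule A H :=
  (V.restrictScalars A).comap (TensorProduct.mk A K H 1)

omit [IsDomain A] [ValuationRing A] [IsFractionRing A K] [Module.Flat A H] in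
lemma mem_lat (V : Submodule K (K ⊗[A] H)) (h : H) :
    h ∈ lat A V ↔ ((1 : K) ⊗ₜ[A] h : K ⊗[A] H) ∈ V := Iff.rfl

variable (A κ) in
/-- the reduction of the integral points. -/
def red (V : Submodule K (K ⊗[A] H)) : Submodule κ (κ ⊗[A] H) :=
  Submodule.span κ ((fun h : H => ((1 : κ) ⊗ₜ[A] h : κ ⊗[A] H)) '' (lat A V : Set H))

omit [IsDomain A] [ValuationRing A] [IsFractionRing A K] [Module.Flat A H] in
lemma one_tmul_mem_red {V : Submodule K (K ⊗[A] H)} {h : H} (hh : h ∈ lat A V) :
    ((1 : κ) ⊗ₜ[A] h : κ ⊗[A] H) ∈ red A κ V :=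
  Submodule.subset_span ⟨h, hh, rfl⟩

omit [IsDomain A] [ValuationRing A] [IsFractionRing A K] [Module.Flat A H] in
lemma red_mono {V V' : Submodule K (K ⊗[A] H)} (h : V ≤ V') : red A κ V ≤ red A κ V' :=
  Submodule.span_mono (Set.image_mono fun _ hx => h hx)

lemma red_bot : red A κ (⊥ : Submodule K (K ⊗[A] H)) = ⊥ := by
  rw [eq_bot_iff, red, Submodule.span_le]
  rintro _ ⟨h, hh, rfl⟩
  have hh' : ((1 : K) ⊗ₜ[A] h : K ⊗[A] H) = 0 := hh
  have : h = 0 := one_tmul_injective_of_flat (K := K) H (hh'.trans (TensorProduct.tmul_zero _ _).symm)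
  change ((1 : κ) ⊗ₜ[A] h : κ ⊗[A] H) ∈ (⊥ : Submodule κ (κ ⊗[A] H))
  rw [this, TensorProduct.tmul_zero]
  exact Submodule.zero_mem _

lemma isSubcomod_red {V : Submodule K (K ⊗[A] H)}
    (hV : IsSubcomod (k := K) (A := K ⊗[A] H) V) :
    IsSubcomod (k := κ) (A := κ ⊗[A] H) (red A κ V) := by
  apply isSubcomod_span
  rintro _ ⟨h, hh, rfl⟩
  change Coalgebra.comul (R := κ) ((1 : κ) ⊗ₜ[A] h : κ ⊗[A] H) ∈ _
  rw [comul_tmul_eq]
  have h1 : bcPair (1 : K) (Coalgebra.comul (R := A) h) ∈
      LinearMap.range (V.subtype.rTensor (K ⊗[A] H)) := by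
    rw [← comul_tmul_eq]
    exact hV _ hh
  obtain ⟨y, hy⟩ := mem_range_of_bcPair_mem V _ h1
  rw [← hy]
  clear hy h1
  induction y using TensorProduct.induction_on with
  | zero => simp
  | tmul p x =>
    rw [LinearMap.rTensor_tmul, bcPair_tmul]
    exact tmul_mem_range_rTensor (one_tmul_mem_red p.2) _
  | add y z hy hz =>
    rw [map_add, bcPair_add]
    exact Submodule.add_mem _ hy hz

/-- one-dimensional steps reduce to steps of dimension at most one. -/
theorem exists_red_step (hκ : ∀ b : A, ¬ IsUnit b → algebraMap A κ b = 0)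
    (V V' : Submodule K (K ⊗[A] H)) (f : K ⊗[A] H) (hstep : V' = V ⊔ Submodule.span K {f}) :
    ∃ m : κ ⊗[A] H, red A κ V' = red A κ V ⊔ Submodule.span κ {m} := by
  have hle : V ≤ V' := hstep ▸ le_sup_left
  by_cases hB : ∀ h ∈ lat A V', ((1 : κ) ⊗ₜ[A] h : κ ⊗[A] H) ∈ red A κ V
  · refine ⟨0, ?_⟩
    rw [Submodule.span_singleton_eq_bot.2 rfl, sup_bot_eq]
    apply le_antisymm _ (red_mono hle)
    rw [red, Submodule.span_le]
    rintro _ ⟨h, hh, rfl⟩
    exact hB h hh
  · push Not at hB
    obtain ⟨h, hh, hhn⟩ := hB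
    refine ⟨(1 : κ) ⊗ₜ[A] h, ?_⟩
    apply le_antisymm
    · rw [red, Submodule.span_le]
      rintro _ ⟨h', hh', rfl⟩
      change ((1 : κ) ⊗ₜ[A] h' : κ ⊗[A] H) ∈ _
      have e1 : ((1 : K) ⊗ₜ[A] h : K ⊗[A] H) ∈ V ⊔ Submodule.span K {f} := hstep ▸ hh
      have e2 : ((1 : K) ⊗ₜ[A] h' : K ⊗[A] H) ∈ V ⊔ Submodule.span K {f} := hstep ▸ hh'
      rw [Submodule.mem_sup] at e1 e2
      obtain ⟨v, hv, z, hz, e1⟩ := e1
      obtain ⟨v', hv', z', hz', e2⟩ := e2
      obtain ⟨α, rfl⟩ := Submodule.mem_span_singleton.1 hz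
      obtain ⟨β, rfl⟩ := Submodule.mem_span_singleton.1 hz'
      have hα : α ≠ 0 := by
        intro h0
        apply hhn
        apply one_tmul_mem_red
        rw [mem_lat, ← e1, h0, zero_smul, add_zero]
        exact hv
      set c : K := β / α with hc
      have hcα : c * α = β := by rw [hc]; field_simp
      by_cases hint : ∃ a : A, algebraMap A K a = c
      · obtain ⟨a, ha⟩ := hint
        have hmem : h' - a • h ∈ lat A V := by
          rw [mem_lat, TensorProduct.tmul_sub, TensorProduct.tmul_smul, ← algebraMap_smul K a, ha,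
            ← e1, ← e2, smul_add, smul_smul, hcα]
          have : v' + β • f - (c • v + β • f) = v' - c • v := by abel
          rw [this]
          exact V.sub_mem hv' (V.smul_mem _ hv)
        have : ((1 : κ) ⊗ₜ[A] h' : κ ⊗[A] H) =
            (1 : κ) ⊗ₜ[A] (h' - a • h) + (algebraMap A κ a) • ((1 : κ) ⊗ₜ[A] h) := by
          rw [algebraMap_smul, ← TensorProduct.tmul_smul, ← TensorProduct.tmul_add, sub_add_cancel]
        rw [this]
        exact Submodule.add_mem _ (Submodule.mem_sup_left (one_tmul_mem_red hmem))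
          (Submodule.mem_sup_right (Submodule.smul_mem _ _ (Submodule.mem_span_singleton_self _)))
      · exfalso
        rcases ValuationRing.isInteger_or_isInteger A c with ⟨a, ha⟩ | ⟨b, hb⟩
        · exact hint ⟨a, ha⟩
        · have hc0 : c ≠ 0 := by
            intro h0
            exact hint ⟨0, by rw [map_zero, h0]⟩
          have hbu : ¬ IsUnit b := by
            intro hu
            apply hint
            obtain ⟨u, rfl⟩ := hu
            refine ⟨((u⁻¹ : Aˣ) : A), ?_⟩
            have h1 : algebraMap A K ((u⁻¹ : Aˣ) : A) * algebraMap A K (u : A) = 1 := by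
              rw [← map_mul, Units.inv_mul, map_one]
            rw [hb] at h1
            exact (eq_inv_of_mul_eq_one_left h1).trans (inv_inv c)
          have hb0 := hκ b hbu
          apply hhn
          have hmem : h - b • h' ∈ lat A V := by
            rw [mem_lat, TensorProduct.tmul_sub, TensorProduct.tmul_smul, ← algebraMap_smul K b, hb,
              ← e1, ← e2, smul_add, smul_smul]
            have hβ : c⁻¹ * β = α := by
              rw [← hcα, ← mul_assoc, inv_mul_cancel₀ hc0, one_mul]
            rw [hβ]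
            have : v + α • f - (c⁻¹ • v' + α • f) = v - c⁻¹ • v' := by abel
            rw [this]
            exact V.sub_mem hv (V.smul_mem _ hv')
          have : ((1 : κ) ⊗ₜ[A] h : κ ⊗[A] H) =
              (1 : κ) ⊗ₜ[A] (h - b • h') + (algebraMap A κ b) • ((1 : κ) ⊗ₜ[A] h') := by
            rw [algebraMap_smul, ← TensorProduct.tmul_smul, ← TensorProduct.tmul_add, sub_add_cancel]
          rw [this, hb0, zero_smul, add_zero]
          exact one_tmul_mem_red hmem
    · exact sup_le (red_mono hle)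
        ((Submodule.span_singleton_le_iff_mem _ _).2 (one_tmul_mem_red hh))

end Special

section Main

variable {A : Type u} [CommRing A] [IsDomain A] [ValuationRing A] {K : Type u} [Field K]
  [Algebra A K] [IsFractionRing A K] {H : Type u} [CommRing H] [Bialgebra A H] [Module.Flat A H]
  {κ : Type u} [Field κ] [Algebra A κ]

omit [IsDomain A] [ValuationRing A] [Module.Flat A H] in
lemma exists_finset_mem_span (x : κ ⊗[A] H) : ∃ S : Finset H,
    x ∈ Submodule.span κ ((fun h : H => ((1 : κ) ⊗ₜ[A] h : κ ⊗[A] H)) '' (S : Set H)) := by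
  classical
  induction x using TensorProduct.induction_on with
  | zero => exact ⟨∅, Submodule.zero_mem _⟩
  | tmul c h =>
    refine ⟨{h}, ?_⟩
    have : (c ⊗ₜ[A] h : κ ⊗[A] H) = c • ((1 : κ) ⊗ₜ[A] h) := by
      rw [TensorProduct.smul_tmul', smul_eq_mul, mul_one]
    rw [this]
    apply Submodule.smul_mem
    apply Submodule.subset_span
    exact ⟨h, by simp, rfl⟩
  | add y z hy hz =>
    obtain ⟨S, hS⟩ := hy
    obtain ⟨T, hT⟩ := hz
    refine ⟨S ∪ T, Submodule.add_mem _ ?_ ?_⟩
    · refine Submodule.span_mono (Set.image_mono ?_) hS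
      intro a ha
      exact Finset.mem_coe.2 (Finset.mem_union_left _ (Finset.mem_coe.1 ha))
    · refine Submodule.span_mono (Set.image_mono ?_) hT
      intro a ha
      exact Finset.mem_coe.2 (Finset.mem_union_right _ (Finset.mem_coe.1 ha))

theorem isTrigonalizable_special (hκ : ∀ b : A, ¬ IsUnit b → algebraMap A κ b = 0)
    (hK : IsTrigonalizable K (K ⊗[A] H)) : IsTrigonalizable κ (κ ⊗[A] H) := by
  classical
  intro W _ _ cW hfin hsimple
  let _ := cW
  obtain ⟨f, hf, hfinj, hUsimple⟩ := exists_simpleSub_regular W hsimple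
  have hrank : Module.finrank κ W = Module.finrank κ (LinearMap.range f) :=
    (LinearEquiv.ofInjective f hfinj).finrank_eq
  rw [hrank]
  have hfg : (LinearMap.range f).FG := by
    rw [LinearMap.range_eq_map]
    exact Submodule.FG.map f (Module.Finite.fg_top)
  obtain ⟨t, ht⟩ := hfg
  choose S hS using fun x : κ ⊗[A] H => exists_finset_mem_span (A := A) (κ := κ) (H := H) x
  let S0 : Finset H := t.biUnion S
  obtain ⟨V, hVfin, hSV, hVsub⟩ := exists_finite_subcomod_le (k := K) (A := K ⊗[A] H)
    (V := K ⊗[A] H) (S0.image (fun h : H => ((1 : K) ⊗ₜ[A] h : K ⊗[A] H)))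
  have := hVfin
  let cV : Comod K (K ⊗[A] H) ↥V := ComodSub.Comod.restr (Comod.regular K (K ⊗[A] H)) V hVsub
  obtain ⟨n, F, g, hF0, hFn, hFsub, hFstep⟩ := exists_flag_steps hK ↥V cV
  let Vi : ℕ → Submodule K (K ⊗[A] H) := fun i => (F i).map V.subtype
  have hVi_sub : ∀ i, IsSubcomod (k := K) (A := K ⊗[A] H) (Vi i) := fun i =>
    isSubcomod_map_subtype V hVsub (hFsub i)
  have hVi_step : ∀ i, i < n →
      Vi (i + 1) = Vi i ⊔ Submodule.span K {((g i : ↥V) : K ⊗[A] H)} := by
    intro i hi
    simp only [Vi]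
    rw [hFstep i hi, Submodule.map_sup, Submodule.map_span, Set.image_singleton]
    rfl
  have hstep : ∀ i, ∃ m : κ ⊗[A] H, i < n →
      red A κ (Vi (i + 1)) = red A κ (Vi i) ⊔ Submodule.span κ {m} := by
    intro i
    by_cases hi : i < n
    · obtain ⟨m, hm⟩ := exists_red_step hκ (Vi i) (Vi (i + 1)) _ (hVi_step i hi)
      exact ⟨m, fun _ => hm⟩
    · exact ⟨0, fun h => absurd h hi⟩
  choose m hm using hstep
  refine finrank_eq_one_of_chain hUsimple n (fun i => red A κ (Vi i)) m ?_ ?_ hm ?_
  · change red A κ (Vi 0) = ⊥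
    simp only [Vi]
    rw [hF0, Submodule.map_bot, red_bot]
  · intro i
    exact isSubcomod_red (hVi_sub i)
  · change LinearMap.range f ≤ red A κ (Vi n)
    rw [← ht, Submodule.span_le]
    intro x hx
    have hVn : Vi n = V := by
      simp only [Vi]
      rw [hFn, Submodule.map_top, Submodule.range_subtype]
    have hle : Submodule.span κ ((fun h : H => ((1 : κ) ⊗ₜ[A] h : κ ⊗[A] H)) '' (S x : Set H)) ≤
        red A κ (Vi n) := by
      apply Submodule.span_mono
      apply Set.image_mono
      intro h hh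
      change ((1 : K) ⊗ₜ[A] h : K ⊗[A] H) ∈ Vi n
      rw [hVn]
      apply hSV
      rw [Finset.mem_coe, Finset.mem_image]
      exact ⟨h, Finset.mem_biUnion.2 ⟨x, hx, hh⟩, rfl⟩
    exact hle (hS x)

end Main

end Groth.Agent.Lib.Helper7.TrigDVR
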