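import Mathlib
import Groth.Agent.Lib.Helper7.TrivFibre1
import Groth.Agent.Lib.Helper7.QuotDiag2
import Groth.Agent.Lib.Helper7.IsoTr6

/-!
# Closed subgroups of groups of multiplicative type with trivial closed fibre, local base (helper7)
-/

set_option autoImplicit false

namespace Groth.Agent.Lib.Helper7.TrivFibre

open TensorProduct SGA3b Groth.Agent.Lib.Helper7.CancelBC

universe u

section Local

variable {R : Type u} [CommRing R] {B : Type u} [CommRing B] [HopfAlgebra R B]

/-- the `R`-linear projection of `B` onto its augmentation ideal. -/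
noncomputable def augProj (R : Type u) [CommRing R] (B : Type u) [CommRing B] [HopfAlgebra R B] :
    B →ₗ[R] B :=
  LinearMap.id - (Algebra.linearMap R B).comp (Coalgebra.counit (R := R) (A := B))

lemma augProj_apply (b : B) :
    augProj R B b = b - algebraMap R B (Coalgebra.counit (R := R) b) := rfl

lemma augProj_mem (b : B) : augProj R B b ∈ RingHom.ker (Bialgebra.counitAlgHom R B) := by
  rw [RingHom.mem_ker, augProj_apply, map_sub, AlgHom.commutes]
  change Coalgebra.counit (R := R) b - _ = 0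
  rw [Algebra.algebraMap_self_apply, sub_self]

lemma augProj_of_mem {b : B} (hb : b ∈ RingHom.ker (Bialgebra.counitAlgHom R B)) :
    augProj R B b = b := by
  rw [RingHom.mem_ker] at hb
  have : Coalgebra.counit (R := R) b = 0 := hb
  rw [augProj_apply, this, map_zero, sub_zero]

lemma mem_smul_aug_of_mem_map {𝔞 : Ideal R} {b : B}
    (hb : b ∈ RingHom.ker (Bialgebra.counitAlgHom R B))
    (hb' : b ∈ Ideal.map (algebraMap R B) 𝔞) :
    b ∈ 𝔞 • ((RingHom.ker (Bialgebra.counitAlgHom R B)).restrictScalars R) := by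
  have h1 : b ∈ 𝔞 • (⊤ : Submodule R B) := by
    rw [Ideal.smul_top_eq_map]
    exact hb'
  have h2 : augProj R B b ∈ (𝔞 • (⊤ : Submodule R B)).map (augProj R B) :=
    Submodule.mem_map_of_mem h1
  rw [Submodule.map_smul'', augProj_of_mem hb] at h2
  refine Submodule.smul_mono le_rfl ?_ h2
  rintro _ ⟨x, -, rfl⟩
  exact augProj_mem x

theorem aug_isIdempotent [IsLocalRing R] (hfg : (RingHom.ker (Bialgebra.counitAlgHom R B)).FG)
    (hle : RingHom.ker (Bialgebra.counitAlgHom R B) ≤
      Ideal.map (algebraMap R B) (IsLocalRing.maximalIdeal R)) :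
    IsIdempotentElem (RingHom.ker (Bialgebra.counitAlgHom R B)) := by
  classical
  set I := RingHom.ker (Bialgebra.counitAlgHom R B) with hI
  set 𝔪 := IsLocalRing.maximalIdeal R with h𝔪
  set N : Submodule R B := I.restrictScalars R with hN
  set Q : Submodule R B := (I * I).restrictScalars R with hQ
  obtain ⟨S, hS⟩ := hfg
  set N₀ : Submodule R B := Submodule.span R (S : Set B) with hN₀
  have hSI : ∀ g ∈ S, g ∈ I := fun g hg => by
    rw [← hS]; exact Ideal.subset_span hg
  have hN₀N : N₀ ≤ N := by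
    rw [hN₀, Submodule.span_le]
    intro g hg
    exact hSI g hg
  -- (a)
  have ha : N ≤ 𝔪 • N := fun b hb => mem_smul_aug_of_mem_map hb (hle hb)
  -- (b)
  have hb : N ≤ N₀ ⊔ Q := by
    intro b hbI
    have hbI' : b ∈ Ideal.span (S : Set B) := by rw [hS]; exact hbI
    have key : b ∈ I ∧ b ∈ N₀ ⊔ Q := by
      refine Submodule.span_induction (p := fun x _ => x ∈ I ∧ x ∈ N₀ ⊔ Q) ?_ ?_ ?_ ?_ hbI'
      · intro g hg
        exact ⟨hSI g hg, Submodule.mem_sup_left (Submodule.subset_span hg)⟩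
      · exact ⟨I.zero_mem, Submodule.zero_mem _⟩
      · intro x y _ _ hx hy
        exact ⟨I.add_mem hx.1 hy.1, Submodule.add_mem _ hx.2 hy.2⟩
      · intro c x _ hx
        refine ⟨I.mul_mem_left c hx.1, ?_⟩
        have e1 : c • x = (Coalgebra.counit (R := R) c) • x + (augProj R B c) * x := by
          rw [augProj_apply, smul_eq_mul, sub_mul, Algebra.smul_def]
          ring
        rw [e1]
        refine Submodule.add_mem _ (Submodule.smul_mem _ _ hx.2) (Submodule.mem_sup_right ?_)
        exact Ideal.mul_mem_mul (augProj_mem c) hx.1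
    exact key.2
  -- (c)
  have hc : N₀ ≤ Q ⊔ 𝔪 • N₀ := by
    refine hN₀N.trans (ha.trans ?_)
    refine (Submodule.smul_mono le_rfl hb).trans ?_
    rw [Submodule.smul_sup, sup_comm]
    exact sup_le_sup_right Submodule.smul_le_right _
  have hd : N₀ ≤ Q := Submodule.le_of_le_smul_of_le_jacobson_bot (Submodule.fg_span S.finite_toSet)
    ((IsLocalRing.jacobson_eq_maximalIdeal (⊥ : Ideal R) bot_ne_top).ge) hc
  have he : N ≤ Q := hb.trans (sup_le hd le_rfl)
  change I * I = I
  apply le_antisymm Ideal.mul_le_left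
  intro x hx
  exact he hx

theorem aug_le_torsionIdeal [IsLocalRing R] (n : ℕ)
    (hfin : Module.Finite R (B ⧸ SGA3b.torsionIdeal R B n))
    (hle : RingHom.ker (Bialgebra.counitAlgHom R B) ≤
      Ideal.map (algebraMap R B) (IsLocalRing.maximalIdeal R)) :
    RingHom.ker (Bialgebra.counitAlgHom R B) ≤ SGA3b.torsionIdeal R B n := by
  set T := SGA3b.torsionIdeal R B n with hT
  set 𝔪 := IsLocalRing.maximalIdeal R with h𝔪
  set q : B →ₗ[R] B ⧸ T := (Ideal.Quotient.mkₐ R T).toLinearMap with hq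
  have hqa : ∀ b, q b = Ideal.Quotient.mk T b := fun _ => rfl
  have h1 : (⊤ : Submodule R (B ⧸ T)) ≤ Submodule.span R {(1 : B ⧸ T)} ⊔ 𝔪 • ⊤ := by
    intro x _
    obtain ⟨b, rfl⟩ := Ideal.Quotient.mk_surjective x
    have e1 : b = algebraMap R B (Coalgebra.counit (R := R) b) + augProj R B b := by
      rw [augProj_apply]; ring
    rw [e1, map_add]
    refine Submodule.add_mem _ (Submodule.mem_sup_left ?_) (Submodule.mem_sup_right ?_)
    · rw [Submodule.mem_span_singleton]
      refine ⟨Coalgebra.counit (R := R) b, ?_⟩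
      rw [Algebra.smul_def, mul_one]
      rfl
    · have h2 : augProj R B b ∈ 𝔪 • (⊤ : Submodule R B) := by
        rw [Ideal.smul_top_eq_map]
        exact hle (augProj_mem b)
      have h3 : q (augProj R B b) ∈ (𝔪 • (⊤ : Submodule R B)).map q :=
        Submodule.mem_map_of_mem h2
      rw [Submodule.map_smul''] at h3
      exact Submodule.smul_mono le_rfl le_top h3
  have h2 : (⊤ : Submodule R (B ⧸ T)) ≤ Submodule.span R {(1 : B ⧸ T)} :=
    Submodule.le_of_le_smul_of_le_jacobson_bot hfin.fg_top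
      ((IsLocalRing.jacobson_eq_maximalIdeal (⊥ : Ideal R) bot_ne_top).ge) h1
  intro b hb
  have h3 : Ideal.Quotient.mk T b ∈ Submodule.span R {(1 : B ⧸ T)} := h2 Submodule.mem_top
  rw [Submodule.mem_span_singleton] at h3
  obtain ⟨r, hr⟩ := h3
  have h4 : b - algebraMap R B r ∈ T := by
    rw [← Ideal.Quotient.eq, ← hr, Algebra.smul_def, mul_one]
    rfl
  have h5 := torsionIdeal_le_ker_counit n h4
  rw [RingHom.mem_ker, map_sub, AlgHom.commutes, RingHom.mem_ker.1 hb, zero_sub, neg_eq_zero] at h5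
  have h6 : r = 0 := h5
  rw [h6, map_zero, sub_zero] at h4
  exact h4

end Local

section Points

variable {R : Type u} [CommRing R] {A : Type u} [CommRing A] [HopfAlgebra R A]
  {B : Type u} [CommRing B] [HopfAlgebra R B]

open Groth.Agent.Lib.Helper7.TorsDense

/-- every field-valued point of a closed subgroup `Spec B` of a group of multiplicative type in which
the torsion subgroups are all trivial is the unit point. -/
theorem aug_le_prime (hA : IsMultType R A) (hBft : Algebra.FiniteType R B) (ψ : A →ₐc[R] B)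
    (hψ : Function.Surjective ψ)
    (hdense : ∀ n : ℕ, 0 < n →
      RingHom.ker (Bialgebra.counitAlgHom R B) ≤ SGA3b.torsionIdeal R B n)
    (𝔮 : Ideal B) [𝔮.IsPrime] : RingHom.ker (Bialgebra.counitAlgHom R B) ≤ 𝔮 := by
  classical
  set χ₀ : B →+* FractionRing (B ⧸ 𝔮) :=
    (algebraMap (B ⧸ 𝔮) (FractionRing (B ⧸ 𝔮))).comp (Ideal.Quotient.mk 𝔮) with hχ₀
  obtain ⟨F, _, _, _, htow, hd⟩ := exists_field_isDiag hA (FractionRing (B ⧸ 𝔮))
  let χ : B →ₐ[R] F :=
    { toRingHom := (algebraMap (FractionRing (B ⧸ 𝔮)) F).comp χ₀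
      commutes' := by
        intro r
        change algebraMap (FractionRing (B ⧸ 𝔮)) F (algebraMap (B ⧸ 𝔮) (FractionRing (B ⧸ 𝔮))
          (Ideal.Quotient.mk 𝔮 (algebraMap R B r))) = algebraMap R F r
        rw [IsScalarTower.algebraMap_apply R (FractionRing (B ⧸ 𝔮)) F,
          IsScalarTower.algebraMap_apply R (B ⧸ 𝔮) (FractionRing (B ⧸ 𝔮))]
        rfl }
  have hχ : ∀ b, χ b = algebraMap (FractionRing (B ⧸ 𝔮)) F (χ₀ b) := fun _ => rfl
  set ψF : F ⊗[R] A →ₐc[F] F ⊗[R] B := Bialgebra.TensorProduct.map (BialgHom.id F F) ψ with hψF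
  have hψFs : Function.Surjective ψF :=
    Groth.Agent.Lib.Helper7.MultQuot.map_id_surjective ψ hψ
  obtain ⟨eQ⟩ := nonempty_bialgEquiv_of_surjective hd ψF hψFs
  have hft1 : Algebra.FiniteType F (F ⊗[R] B) := inferInstance
  have hft2 : Algebra.FiniteType F (MonoidAlgebra F (GroupLike F (F ⊗[R] B))) :=
    Algebra.FiniteType.equiv hft1 eQ.toAlgEquiv
  have hfg : Group.FG (GroupLike F (F ⊗[R] B)) := MonoidAlgebra.finiteType_iff_group_fg.1 hft2
  intro b hb
  have h0 : eQ ((1 : F) ⊗ₜ[R] b) = 0 := by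
    apply eq_zero_of_forall_mem_torsionIdeal (R := F) 0 (Or.inl rfl)
      (fun h => absurd h Nat.not_prime_zero)
    intro n hn _
    have h1 := one_tmul_mem_torsionIdeal F n (hdense n hn hb)
    exact bialgHom_mem_torsionIdeal
      (eQ : F ⊗[R] B →ₐc[F] MonoidAlgebra F (GroupLike F (F ⊗[R] B))) n h1
  have h1 : (1 : F) ⊗ₜ[R] b = 0 := by
    have := congrArg eQ.symm h0
    rwa [BialgEquiv.symm_apply_apply, map_zero] at this
  have h2 : χ b = 0 := by
    have := congrArg (Algebra.TensorProduct.productMap (AlgHom.id R F) χ) h1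
    rwa [Algebra.TensorProduct.productMap_apply_tmul, map_one, one_mul, map_zero] at this
  rw [hχ] at h2
  have h3 : χ₀ b = 0 := (algebraMap (FractionRing (B ⧸ 𝔮)) F).injective (by rw [h2, map_zero])
  have h4 : Ideal.Quotient.mk 𝔮 b = 0 :=
    IsFractionRing.injective (B ⧸ 𝔮) (FractionRing (B ⧸ 𝔮)) (by rw [map_zero]; exact h3)
  exact Ideal.Quotient.eq_zero_iff_mem.1 h4

end Points

section Main

open Groth.Agent.Lib.Helper7.TorsDense

theorem main (R : Type u) [CommRing R] [IsLocalRing R]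
    (A : Type u) [CommRing A] [HopfAlgebra R A] (hft : Algebra.FiniteType R A) (hH : IsMultType R A)
    (J : Ideal A) [J.IsHopfIdeal R] (hK : Algebra.FinitePresentation R (A ⧸ J))
    (hs : J ⊔ Ideal.map (algebraMap R A) (IsLocalRing.maximalIdeal R) =
      RingHom.ker (Bialgebra.counitAlgHom R A) ⊔
        Ideal.map (algebraMap R A) (IsLocalRing.maximalIdeal R)) :
    J = RingHom.ker (Bialgebra.counitAlgHom R A) := by
  set mkq : A →ₐc[R] A ⧸ J := Bialgebra.Quotient.mkBialgHom J with hmkq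
  have hmkqs : Function.Surjective mkq := Ideal.Quotient.mk_surjective
  have hJle : J ≤ RingHom.ker (Bialgebra.counitAlgHom R A) := by
    intro a ha
    rw [RingHom.mem_ker]
    exact Submodule.IsCoideal.counit_eq_zero (I := J.restrictScalars R) ha
  -- the augmentation ideal of the quotient lies in `𝔪B`
  have hle : RingHom.ker (Bialgebra.counitAlgHom R (A ⧸ J)) ≤
      Ideal.map (algebraMap R (A ⧸ J)) (IsLocalRing.maximalIdeal R) := by
    intro b hb
    obtain ⟨a, rfl⟩ := hmkqs b
    have ha : a ∈ RingHom.ker (Bialgebra.counitAlgHom R A) := by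
      rw [RingHom.mem_ker] at hb ⊢
      have : Coalgebra.counit (R := R) (mkq a) = Coalgebra.counit (R := R) a :=
        CoalgHomClass.counit_comp_apply mkq a
      change Coalgebra.counit (R := R) a = 0
      rw [← this]
      exact hb
    have ha2 : a ∈ J ⊔ Ideal.map (algebraMap R A) (IsLocalRing.maximalIdeal R) := by
      rw [hs]; exact Ideal.mem_sup_left ha
    obtain ⟨j, hj, m, hm, rfl⟩ := Submodule.mem_sup.1 ha2
    have h1 : mkq (j + m) = Ideal.Quotient.mk J m := by
      change Ideal.Quotient.mk J (j + m) = _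
      rw [map_add, Ideal.Quotient.eq_zero_iff_mem.2 hj, zero_add]
    rw [h1]
    have h2 : Ideal.map (Ideal.Quotient.mk J) (Ideal.map (algebraMap R A)
        (IsLocalRing.maximalIdeal R)) = Ideal.map (algebraMap R (A ⧸ J))
          (IsLocalRing.maximalIdeal R) := by
      rw [Ideal.map_map]
      rfl
    rw [← h2]
    exact Ideal.mem_map_of_mem _ hm
  have hRfp : Algebra.FinitePresentation R R := inferInstance
  have hfg : (RingHom.ker (Bialgebra.counitAlgHom R (A ⧸ J))).FG := by
    have := Algebra.FinitePresentation.ker_fG_of_surjective (Bialgebra.counitAlgHom R (A ⧸ J)) (by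
      intro r
      exact ⟨algebraMap R (A ⧸ J) r, by rw [AlgHom.commutes]; rfl⟩)
    exact this
  have hidem := aug_isIdempotent hfg hle
  -- finiteness of torsion quotients
  obtain ⟨ι, _, c, hT⟩ := Groth.Agent.Lib.Helper7.NilLift.exists_family hH
  have hco : Coalgebra.IsCocomm R A := Groth.Agent.Lib.Helper7.IsoTr.isCocomm_of_family c hT
  have hfinB : ∀ n : ℕ, 0 < n → Module.Finite R ((A ⧸ J) ⧸ SGA3b.torsionIdeal R (A ⧸ J) n) := by
    intro n hn
    have hhopf : (SGA3b.torsionIdeal R A n).IsHopfIdeal R :=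
      Groth.Agent.Lib.Helper7.HopfIdealR.isHopfIdeal_torsionIdeal R A n
    have hfinA : Module.Finite R (A ⧸ SGA3b.torsionIdeal R A n) :=
      Groth.Agent.Lib.Helper7.QuotDiag.finite_quotient_torsion R A hft hH n hn _ rfl
    have hle' : SGA3b.torsionIdeal R A n ≤
        Ideal.comap (mkq : A →ₐ[R] A ⧸ J) (SGA3b.torsionIdeal R (A ⧸ J) n) := by
      intro a ha
      rw [Ideal.mem_comap]
      exact bialgHom_mem_torsionIdeal mkq n ha
    let g : (A ⧸ SGA3b.torsionIdeal R A n) →ₐ[R] ((A ⧸ J) ⧸ SGA3b.torsionIdeal R (A ⧸ J) n) :=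
      Ideal.quotientMapₐ (SGA3b.torsionIdeal R (A ⧸ J) n) (mkq : A →ₐ[R] A ⧸ J) hle'
    have hg : Function.Surjective g := by
      intro y
      obtain ⟨b, rfl⟩ := Ideal.Quotient.mk_surjective y
      obtain ⟨a, rfl⟩ := hmkqs b
      exact ⟨Ideal.Quotient.mk _ a, rfl⟩
    exact Module.Finite.of_surjective g.toLinearMap hg
  have hdense : ∀ n : ℕ, 0 < n →
      RingHom.ker (Bialgebra.counitAlgHom R (A ⧸ J)) ≤ SGA3b.torsionIdeal R (A ⧸ J) n :=
    fun n hn => aug_le_torsionIdeal n (hfinB n hn) hle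
  have hBft : Algebra.FiniteType R (A ⧸ J) := inferInstance
  have hnil : RingHom.ker (Bialgebra.counitAlgHom R (A ⧸ J)) ≤ nilradical (A ⧸ J) := by
    rw [nilradical_eq_sInf]
    intro b hb
    rw [Ideal.mem_sInf]
    intro 𝔮 h𝔮
    have : 𝔮.IsPrime := h𝔮
    exact aug_le_prime hH hBft mkq hmkqs hdense 𝔮 hb
  obtain ⟨N, hN⟩ := (hfg.isNilpotent_iff_le_nilradical).2 hnil
  have hbot : RingHom.ker (Bialgebra.counitAlgHom R (A ⧸ J)) = ⊥ := by
    have h1 := hidem.pow_succ_eq N
    rw [pow_succ, hN] at h1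
    rw [← h1]
    exact Ideal.bot_mul _
  apply le_antisymm hJle
  intro a ha
  have h1 : mkq a ∈ RingHom.ker (Bialgebra.counitAlgHom R (A ⧸ J)) := by
    rw [RingHom.mem_ker] at ha ⊢
    have : Coalgebra.counit (R := R) (mkq a) = Coalgebra.counit (R := R) a :=
      CoalgHomClass.counit_comp_apply mkq a
    change Coalgebra.counit (R := R) (mkq a) = 0
    rw [this]
    exact ha
  rw [hbot, Ideal.mem_bot] at h1
  exact Ideal.Quotient.eq_zero_iff_mem.1 h1

end Main

end Groth.Agent.Lib.Helper7.TrivFibre
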