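import Groth.Agent.Lib.Helper7.ComodUnipReg
import Groth.Agent.Lib.Helper7.ComodLattice
import Groth.Agent.Lib.Helper7.ComodCoalgHom
import Groth.Agent.Lib.Helper7.CoeffSpace

set_option autoImplicit false

namespace Groth.Agent.Lib.Helper7.UnipExt

open TensorProduct HopfRep Groth.Agent.Lib.Helper7.Comod

universe u v w

section Regular

variable {k : Type u} [Field k] {A : Type v} [CommRing A] [Bialgebra k A]

/-- a bialgebra whose regular comodule has exhaustive fixed-point filtration is unipotent. -/
theorem isUnipotent_of_regular_exhaustive (h : ∀ a : A, ∃ n, a ∈ fixFilt k A A n) :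
    IsUnipotent k A := by
  classical
  intro V _ _ _ hfin hnt
  haveI : Module.Free k V := Module.Free.of_divisionRing k V
  let b := Module.finBasis k V
  let f : Fin (Module.finrank k V) → V →ₗ[k] A := fun i => coeffMap (C := A) (b.coord i)
  let G : ℕ → Submodule k V := fun m => ⨅ i, (fixFilt k A A m).comap (f i)
  have hGmono : Monotone G := by
    intro m m' hmm'
    exact iInf_mono fun i => Submodule.comap_mono (fixFilt_mono hmm')
  -- joint injectivity
  have hv : ∀ v : V, v = ∑ i, Coalgebra.counit (R := k) (f i v) • b i := by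
    intro v
    conv_lhs => rw [← b.sum_repr v]
    apply Finset.sum_congr rfl
    intro i _
    rw [counit_coeffMap]
    rfl
  have h0 : G 0 = ⊥ := by
    rw [eq_bot_iff]
    intro v hv0
    rw [Submodule.mem_bot, hv v]
    apply Finset.sum_eq_zero
    intro i _
    have : f i v = 0 := by
      have := (Submodule.mem_iInf _).1 hv0 i
      rwa [Submodule.mem_comap, fixFilt_zero, Submodule.mem_bot] at this
    rw [this, map_zero, zero_smul]
  -- exhaustion
  have hex : ∀ i j, ∃ n, f i (b j) ∈ fixFilt k A A n := fun i j => h _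
  choose N hN using hex
  let m : ℕ := Finset.univ.sup (fun i => Finset.univ.sup (fun j => N i j))
  have hm : G m = ⊤ := by
    rw [eq_top_iff, ← b.span_eq, Submodule.span_le]
    rintro _ ⟨j, rfl⟩
    rw [SetLike.mem_coe, Submodule.mem_iInf]
    intro i
    rw [Submodule.mem_comap]
    refine fixFilt_mono ?_ (hN i j)
    exact le_trans (Finset.le_sup (f := fun j => N i j) (Finset.mem_univ j))
      (Finset.le_sup (f := fun i => Finset.univ.sup (fun j => N i j)) (Finset.mem_univ i))
  refine fixedPts_ne_bot_of_flag (k := k) (A := A) m G h0 hm ?_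
  intro l v hvl
  let β := Module.Basis.ofVectorSpace k A
  rw [mem_range_rTensor_iff β]
  intro j
  rw [Submodule.mem_iInf]
  intro i
  rw [Submodule.mem_comap, ← coordR_rTensor]
  have h1 : (f i).rTensor A (Comod.coact (k := k) (A := A) v - v ⊗ₜ[k] (1 : A)) =
      Comod.coact (k := k) (A := A) (f i v) - f i v ⊗ₜ[k] (1 : A) := by
    rw [map_sub, LinearMap.rTensor_tmul]
    congr 1
    exact (comul_coeffMap (C := A) (b.coord i) v).symm
  rw [h1]
  have h2 : f i v ∈ fixFilt k A A (l + 1) := by
    have := (Submodule.mem_iInf _).1 hvl i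
    rwa [Submodule.mem_comap] at this
  rw [fixFilt_succ, mem_nextFix] at h2
  exact (mem_range_rTensor_iff β _ _).1 h2 j

end Regular

end Groth.Agent.Lib.Helper7.UnipExt
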