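import Groth.Agent.Lib.Helper7.UE2
import Groth.Agent.Lib.Helper7.NormalKer
import Groth.Agent.Lib.Helper7.HopfMap
import Groth.Agent.Lib.Helper7.HopfCoinv

set_option autoImplicit false

namespace Groth.Agent.Lib.Helper7.UnipExt

open TensorProduct WithConv HopfRep Groth.Agent.Lib.Helper7.Comod
  Groth.Agent.Lib.Helper7.HopfConv Groth.Agent.Lib.Helper7.HopfMap
  Groth.Agent.Lib.Helper7.NormalFix Groth.Agent.Lib.Helper7.HopfCoinv
  Groth.Agent.Lib.Helper7.HopfSub

universe u v w

section Aug

variable {k : Type u} [Field k] {A : Type v} [CommRing A] [HopfAlgebra k A]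
  {C : Type w} [CommRing C] [HopfAlgebra k C]

/-- the ideal generated by the image of the augmentation ideal is the `augSpan` of the image. -/
lemma map_ker_counit_eq_augSpan (ψ : C →ₐc[k] A) :
    Ideal.map (ψ : C →+* A) (RingHom.ker (Bialgebra.counitAlgHom k C)) =
      augSpan (ψ : C →ₐ[k] A).range := by
  rw [Ideal.map, augSpan]
  congr 1
  ext a
  constructor
  · rintro ⟨c, hc, rfl⟩
    refine ⟨⟨c, rfl⟩, ?_⟩
    have : Coalgebra.counit (R := k) (ψ c) = Coalgebra.counit (R := k) c :=
      CoalgHomClass.counit_comp_apply ψ c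
    rw [RingHom.coe_coe, this]
    exact hc
  · rintro ⟨⟨c, rfl⟩, hε⟩
    refine ⟨c, ?_, rfl⟩
    have : Coalgebra.counit (R := k) (ψ c) = Coalgebra.counit (R := k) c :=
      CoalgHomClass.counit_comp_apply ψ c
    rw [SetLike.mem_coe, RingHom.mem_ker]
    change Coalgebra.counit (R := k) c = 0
    rw [← this]
    exact hε

end Aug

section Normal

variable {k : Type u} [Field k] {A : Type u} [CommRing A] [HopfAlgebra k A]
  {C : Type u} [CommRing C] [HopfAlgebra k C]

/-- the kernel of a quotient map is normal. -/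
theorem normal_map_augIdeal (ψ : C →ₐc[k] A) :
    SGA3.IsNormalHopfIdeal k A
      (Ideal.map (ψ : C →+* A) (RingHom.ker (Bialgebra.counitAlgHom k C))) := by
  intro R _ _ g h hh
  rw [conv3_eq]
  set F : A →ₐ[k] R := (toConv g * toConv h *
    toConv (g.comp (HopfAlgebra.antipodeAlgHom k A))).ofConv with hF
  suffices H : Ideal.map (ψ : C →+* A) (RingHom.ker (Bialgebra.counitAlgHom k C)) ≤
      RingHom.ker (F : A →+* R) from fun a ha => H ha
  rw [Ideal.map_le_iff_le_comap]
  intro c hc
  rw [Ideal.mem_comap, RingHom.mem_ker]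
  have hc' : Coalgebra.counit (R := k) c = 0 := hc
  -- `h ∘ ψ` is the unit
  have hhψ : toConv (h.comp (ψ : C →ₐ[k] A)) = 1 := by
    apply WithConv.ofConv_injective
    apply AlgHom.ext
    intro c'
    rw [ofConv_toConv, AlgHom.comp_apply]
    change h (ψ c') = algebraMap k R (Coalgebra.counit (R := k) c')
    have h1 : ψ c' - algebraMap k A (Coalgebra.counit (R := k) c') ∈
        Ideal.map (ψ : C →+* A) (RingHom.ker (Bialgebra.counitAlgHom k C)) := by
      have : ψ c' - algebraMap k A (Coalgebra.counit (R := k) c') =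
          (ψ : C →+* A) (c' - algebraMap k C (Coalgebra.counit (R := k) c')) := by
        rw [map_sub]
        congr 1
        exact (AlgHomClass.commutes ψ _).symm
      rw [this]
      apply Ideal.mem_map_of_mem
      rw [RingHom.mem_ker, map_sub]
      change Coalgebra.counit (R := k) c' -
        Coalgebra.counit (R := k) (algebraMap k C (Coalgebra.counit (R := k) c')) = 0
      rw [Bialgebra.counit_algebraMap, sub_self]
    have h2 := hh _ h1
    rw [map_sub, sub_eq_zero, AlgHom.commutes] at h2
    exact h2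
  have hFψ : F.comp (ψ : C →ₐ[k] A) = (1 : WithConv (C →ₐ[k] R)).ofConv := by
    rw [hF, AlgHom.convMul_comp_bialgHom_distrib, toConv_ofConv,
      AlgHom.convMul_comp_bialgHom_distrib]
    simp only [toConv_ofConv]
    rw [hhψ, mul_one, AlgHom.comp_assoc, antipode_comp_eq, ← AlgHom.comp_assoc,
      self_mul_antipode]
  have := AlgHom.congr_fun hFψ c
  rw [AlgHom.comp_apply] at this
  change F ((ψ : C →ₐ[k] A) c) = 0
  rw [this]
  change algebraMap k R (Coalgebra.counit (R := k) c) = 0
  rw [hc', map_zero]

end Normal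

end Groth.Agent.Lib.Helper7.UnipExt
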