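import Mathlib

/-!
# The total degree valuation on rational functions (helper7)
-/

universe u v

open scoped WithZero nonZeroDivisors Classical

namespace Groth.Agent.Lib.Helper7.UFG

variable {k : Type u} [Field k] {σ : Type v}

/-- `p ↦ exp (totalDegree p)` as a valuation on polynomials. -/
noncomputable def degVal₀ : Valuation (MvPolynomial σ k) ℤᵐ⁰ where
  toFun p := if p = 0 then 0 else
    ((Multiplicative.ofAdd (p.totalDegree : ℤ) : Multiplicative ℤ) : ℤᵐ⁰)
  map_zero' := by simp
  map_one' := by simp
  map_mul' p q := by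
    by_cases hp : p = 0
    · simp [hp]
    by_cases hq : q = 0
    · simp [hq]
    simp only [hp, hq, mul_ne_zero hp hq, if_false,
      MvPolynomial.totalDegree_mul_of_isDomain hp hq]
    push_cast
    rw [ofAdd_add, WithZero.coe_mul]
  map_add_le_max' p q := by
    by_cases hp : p = 0
    · simp [hp]
    by_cases hq : q = 0
    · simp [hq]
    by_cases hpq : p + q = 0
    · simp [hpq]
    simp only [hp, hq, hpq, if_false]
    rw [le_max_iff]
    have h := MvPolynomial.totalDegree_add p q
    rw [le_max_iff] at h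
    rcases h with h | h
    · left
      rw [WithZero.coe_le_coe, Multiplicative.ofAdd_le]
      exact_mod_cast h
    · right
      rw [WithZero.coe_le_coe, Multiplicative.ofAdd_le]
      exact_mod_cast h

lemma degVal₀_apply (p : MvPolynomial σ k) (hp : p ≠ 0) :
    degVal₀ p = ((Multiplicative.ofAdd (p.totalDegree : ℤ) : Multiplicative ℤ) : ℤᵐ⁰) := by
  change (if p = 0 then 0 else _) = _
  rw [if_neg hp]

lemma degVal₀_ne_zero (p : MvPolynomial σ k) (hp : p ≠ 0) : degVal₀ p ≠ 0 := by
  rw [degVal₀_apply p hp]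
  exact WithZero.coe_ne_zero

lemma eq_C_of_degVal₀_le_one (p : MvPolynomial σ k) (h : degVal₀ p ≤ 1) :
    ∃ c : k, p = MvPolynomial.C c := by
  by_cases hp : p = 0
  · exact ⟨0, by rw [hp, map_zero]⟩
  rw [degVal₀_apply p hp, ← WithZero.coe_one, WithZero.coe_le_coe, ← ofAdd_zero,
    Multiplicative.ofAdd_le] at h
  have h0 : p.totalDegree = 0 := by
    have : (p.totalDegree : ℤ) ≤ 0 := h
    omega
  exact ⟨_, (MvPolynomial.totalDegree_eq_zero_iff_eq_C.mp h0)⟩

lemma le_supp_primeCompl : (MvPolynomial σ k)⁰ ≤ (degVal₀ (k := k) (σ := σ)).supp.primeCompl := by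
  intro s hs
  have hs0 : s ≠ 0 := nonZeroDivisors.ne_zero hs
  change s ∉ (degVal₀ (k := k) (σ := σ)).supp
  rw [Valuation.mem_supp_iff]
  exact degVal₀_ne_zero s hs0

variable (k σ) in
/-- the total degree valuation on the field of rational functions. -/
noncomputable def degVal : Valuation (FractionRing (MvPolynomial σ k)) ℤᵐ⁰ :=
  (degVal₀ (k := k) (σ := σ)).extendToLocalization le_supp_primeCompl
    (FractionRing (MvPolynomial σ k))

lemma degVal_algebraMap (p : MvPolynomial σ k) :
    degVal k σ (algebraMap _ _ p) = degVal₀ p :=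
  Valuation.extendToLocalization_apply_map_apply (degVal₀ (k := k) (σ := σ)) le_supp_primeCompl
    (FractionRing (MvPolynomial σ k)) p

end Groth.Agent.Lib.Helper7.UFG
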