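import Groth.Agent.Lib.Helper7.UFG1

/-!
# The DVR at infinity of a rational function field (helper7)
-/

universe u v

open scoped WithZero nonZeroDivisors

namespace Groth.Agent.Lib.Helper7.UFG

variable (k : Type u) [Field k] (σ : Type v)

instance nontrivial_valueGroup [Nonempty σ] :
    Nontrivial (MonoidWithZeroHom.valueGroup (.ofClass (degVal k σ))) := by
  obtain ⟨i⟩ := (inferInstance : Nonempty σ)
  have hX : (MvPolynomial.X i : MvPolynomial σ k) ≠ 0 := MvPolynomial.X_ne_zero i
  have hv : degVal k σ (algebraMap _ _ (MvPolynomial.X i : MvPolynomial σ k)) =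
      ((Multiplicative.ofAdd (1 : ℤ) : Multiplicative ℤ) : ℤᵐ⁰) := by
    rw [degVal_algebraMap, degVal₀_apply _ hX, MvPolynomial.totalDegree_X]
    rfl
  have hne0 : degVal k σ (algebraMap _ _ (MvPolynomial.X i : MvPolynomial σ k)) ≠ 0 := by
    rw [hv]; exact WithZero.coe_ne_zero
  rw [Subgroup.nontrivial_iff_exists_ne_one]
  refine ⟨Units.mk0 _ hne0, ?_, ?_⟩
  · apply Subgroup.subset_closure
    apply MonoidWithZeroHom.mem_valueMonoid
    exact ⟨algebraMap _ _ (MvPolynomial.X i : MvPolynomial σ k), rfl⟩
  · intro h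
    have h1 := congrArg Units.val h
    rw [Units.val_mk0, hv, Units.val_one, ← WithZero.coe_one, WithZero.coe_inj] at h1
    have h2 : (1 : ℤ) = 0 := by
      have := congrArg Multiplicative.toAdd h1
      simpa using this
    omega

/-- the valuation ring at infinity. -/
noncomputable abbrev Oinf : ValuationSubring (FractionRing (MvPolynomial σ k)) :=
  (degVal k σ).valuationSubring

instance [Nonempty σ] : IsDiscreteValuationRing (Oinf k σ) :=
  Valuation.valuationSubring_isDiscreteValuationRing (degVal k σ)

lemma eq_C_of_mem_Oinf (p : MvPolynomial σ k)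
    (h : algebraMap _ (FractionRing (MvPolynomial σ k)) p ∈ Oinf k σ) :
    ∃ c : k, p = MvPolynomial.C c := by
  apply eq_C_of_degVal₀_le_one
  rw [← degVal_algebraMap]
  exact (Valuation.mem_valuationSubring_iff _ _).mp h

end Groth.Agent.Lib.Helper7.UFG
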