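import Groth.Agent.Lib.Helper7.UFG2
import Groth.Agent.Lib.Helper21.KA4

/-!
# Units of a finite extension of a polynomial ring: valuations at infinity (helper7)
-/

universe u v

open scoped WithZero nonZeroDivisors

namespace Groth.Agent.Lib.Helper7.UFG

attribute [local instance] FractionRing.liftAlgebra

section Setup

variable (k : Type u) [Field k] (σ : Type v) [Nonempty σ]
  (A : Type u) [CommRing A] [IsDomain A] [Algebra (MvPolynomial σ k) A]
  [Module.Finite (MvPolynomial σ k) A] [FaithfulSMul (MvPolynomial σ k) A]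

local notation "P" => MvPolynomial σ k
local notation "F" => FractionRing (MvPolynomial σ k)
local notation "K" => FractionRing A

instance finiteDimensional_frac : FiniteDimensional F K :=
  Module.Finite.of_isLocalization P A P⁰

/-- the integral closure of the valuation ring at infinity. -/
noncomputable abbrev Binf : Subalgebra (Oinf k σ) K := integralClosure (Oinf k σ) K

instance isFractionRing_Binf : IsFractionRing (Binf k σ A) K :=
  IsIntegralClosure.isFractionRing_of_finite_extension (Oinf k σ) F K (Binf k σ A)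

instance isNoetherianRing_Binf : IsNoetherianRing (Binf k σ A) :=
  Groth.Agent.Lib.Helper21.KA.isNoetherianRing_of_injective (Oinf k σ) F K (Binf k σ A)
    (FaithfulSMul.algebraMap_injective _ _)

instance isDedekindDomain_Binf : IsDedekindDomain (Binf k σ A) :=
  { isNoetherianRing_Binf k σ A,
    Ring.DimensionLEOne.of_isIntegral (Oinf k σ) (Binf k σ A),
    (isIntegrallyClosed_iff K).mpr fun {x} hx =>
      ⟨IsIntegralClosure.mk' (Binf k σ A) x (isIntegral_trans (R := Oinf k σ) _ hx),
        IsIntegralClosure.algebraMap_mk' _ _ _⟩ with }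

open IsDedekindDomain in
instance finite_heightOneSpectrum_Binf : Finite (HeightOneSpectrum (Binf k σ A)) := by
  obtain ⟨t, ht⟩ := IsDiscreteValuationRing.exists_irreducible (Oinf k σ)
  have hinj : Function.Injective (algebraMap (Oinf k σ) (Binf k σ A)) :=
    ValuationSubring.integralClosure_algebraMap_injective (degVal k σ) K
  have ht0 : algebraMap (Oinf k σ) (Binf k σ A) t ≠ 0 := fun h0 =>
    ht.ne_zero (hinj (by rw [h0, map_zero]))
  have hI : (Ideal.span {algebraMap (Oinf k σ) (Binf k σ A) t} : Ideal (Binf k σ A)) ≠ 0 := by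
    rw [Ne, Ideal.zero_eq_bot, Ideal.span_singleton_eq_bot]
    exact ht0
  have hfin := Ideal.finite_factors hI
  have hmem : ∀ w : HeightOneSpectrum (Binf k σ A),
      algebraMap (Oinf k σ) (Binf k σ A) t ∈ w.asIdeal := by
    intro w
    haveI := w.isMaximal
    have hmax : (w.asIdeal.comap (algebraMap (Oinf k σ) (Binf k σ A))).IsMaximal :=
      Ideal.isMaximal_comap_of_isIntegral_of_isMaximal w.asIdeal
    have h2 : w.asIdeal.comap (algebraMap (Oinf k σ) (Binf k σ A)) =
        IsLocalRing.maximalIdeal (Oinf k σ) := IsLocalRing.eq_maximalIdeal hmax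
    rw [← Ideal.mem_comap, h2]
    exact ht.not_isUnit
  haveI : Finite {v : HeightOneSpectrum (Binf k σ A) |
      v.asIdeal ∣ (Ideal.span {algebraMap (Oinf k σ) (Binf k σ A) t} : Ideal (Binf k σ A))} := hfin
  let φ : HeightOneSpectrum (Binf k σ A) → {v : HeightOneSpectrum (Binf k σ A) |
      v.asIdeal ∣ (Ideal.span {algebraMap (Oinf k σ) (Binf k σ A) t} : Ideal (Binf k σ A))} :=
    fun w => ⟨w, by
      rw [Set.mem_ofPred_eq, Ideal.dvd_iff_le, Ideal.span_le, Set.singleton_subset_iff]
      exact hmem w⟩
  apply Finite.of_injective φ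
  intro a b hab
  exact congrArg Subtype.val hab

open IsDedekindDomain in
/-- an element of `K` integral over the polynomial ring and with no pole at infinity is integral
over `k`. -/
theorem exists_monic_of_valuation_le_one (x : K) (hxP : IsIntegral P x)
    (hxw : ∀ w : HeightOneSpectrum (Binf k σ A), w.valuation K x ≤ 1) :
    ∃ q : Polynomial k, q.Monic ∧
      Polynomial.eval₂ ((algebraMap P K).comp (MvPolynomial.C : k →+* P)) x q = 0 := by
  obtain ⟨b, hb⟩ := HeightOneSpectrum.mem_integers_of_valuation_le_one K x hxw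
  have hxO : IsIntegral (Oinf k σ) x := by
    rw [← hb]
    exact b.2
  have e1 : minpoly F x = (minpoly P x).map (algebraMap P F) :=
    minpoly.isIntegrallyClosed_eq_field_fractions' F hxP
  have e2 : minpoly F x = (minpoly (Oinf k σ) x).map (algebraMap (Oinf k σ) F) :=
    minpoly.isIntegrallyClosed_eq_field_fractions' F hxO
  have hcoeff : ∀ n, (minpoly P x).coeff n ∈ Set.range (MvPolynomial.C : k →+* P) := by
    intro n
    have h1 : algebraMap P F ((minpoly P x).coeff n) =
        algebraMap (Oinf k σ) F ((minpoly (Oinf k σ) x).coeff n) := by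
      rw [← Polynomial.coeff_map, ← Polynomial.coeff_map, ← e1, ← e2]
    have h2 : algebraMap P F ((minpoly P x).coeff n) ∈ Oinf k σ := by
      rw [h1]
      exact ((minpoly (Oinf k σ) x).coeff n).2
    obtain ⟨c, hc⟩ := eq_C_of_mem_Oinf k σ _ h2
    exact ⟨c, hc.symm⟩
  have hlift : minpoly P x ∈ Polynomial.lifts (MvPolynomial.C : k →+* P) :=
    (Polynomial.lifts_iff_coeff_lifts _).mpr hcoeff
  obtain ⟨q, hq, -, hqm⟩ := Polynomial.lifts_and_degree_eq_and_monic hlift (minpoly.monic hxP)
  refine ⟨q, hqm, ?_⟩
  rw [← Polynomial.eval₂_map, hq]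
  exact minpoly.aeval P x

end Setup

end Groth.Agent.Lib.Helper7.UFG
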