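import Groth.Agent.Lib.Helper7.UFG3

/-!
# Units of a finitely generated domain modulo constants (helper7)

For a finitely generated domain `A` over a field `k` there is a homomorphism from `Aˣ` to a free
abelian group of finite rank whose kernel consists of elements integral over `k`.
-/

universe u

open scoped WithZero nonZeroDivisors

namespace Groth.Agent.Lib.Helper7.UFG

attribute [local instance] FractionRing.liftAlgebra

open IsDedekindDomain in
/-- **Units modulo constants**: a valuation-at-infinity map on units whose kernel is integral over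
the base field. -/
theorem exists_unitsHom (k : Type u) [Field k] (A : Type u) [CommRing A] [IsDomain A]
    [Algebra k A] [Algebra.FiniteType k A] :
    ∃ (ι : Type u) (_ : Finite ι) (v : Aˣ →* (ι → Multiplicative ℤ)),
      ∀ u : Aˣ, v u = 1 → IsIntegral k (u : A) := by
  obtain ⟨d, g, hinj, hfin⟩ := exists_finite_inj_algHom_of_fg k A
  letI : Algebra (MvPolynomial (Fin d) k) A := g.toRingHom.toAlgebra
  haveI : IsScalarTower k (MvPolynomial (Fin d) k) A :=
    IsScalarTower.of_algebraMap_eq (fun c => (g.commutes c).symm)
  haveI : Module.Finite (MvPolynomial (Fin d) k) A := hfin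
  haveI : FaithfulSMul (MvPolynomial (Fin d) k) A :=
    (faithfulSMul_iff_algebraMap_injective _ _).mpr hinj
  haveI : Algebra.IsIntegral (MvPolynomial (Fin d) k) A := inferInstance
  rcases Nat.eq_zero_or_pos d with hd | hd
  · subst hd
    refine ⟨PEmpty, inferInstance, 1, fun u _ => ?_⟩
    haveI : Algebra.IsIntegral k (MvPolynomial (Fin 0) k) :=
      Algebra.isIntegral_of_surjective (MvPolynomial.C_surjective (Fin 0))
    haveI : Algebra.IsIntegral k A := Algebra.IsIntegral.trans (MvPolynomial (Fin 0) k)
    exact Algebra.IsIntegral.isIntegral _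
  · haveI : Nonempty (Fin d) := ⟨⟨0, hd⟩⟩
    let ι := HeightOneSpectrum (Binf k (Fin d) A)
    let toK : Aˣ →* (FractionRing A)ˣ := Units.map (algebraMap A (FractionRing A) : A →* _)
    let vw : ι → (Aˣ →* Multiplicative ℤ) := fun w =>
      (WithZero.unitsWithZeroEquiv : (ℤᵐ⁰)ˣ ≃* Multiplicative ℤ).toMonoidHom.comp
        ((Units.map ((w.valuation (FractionRing A)) : FractionRing A →* ℤᵐ⁰)).comp toK)
    refine ⟨ι, inferInstance, MonoidHom.pi vw, fun u hu => ?_⟩
    have hw : ∀ w : ι, w.valuation (FractionRing A) (algebraMap A (FractionRing A) u) ≤ 1 := by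
      intro w
      have h1 : vw w u = 1 := congrFun hu w
      have h2 : (Units.map ((w.valuation (FractionRing A)) : FractionRing A →* ℤᵐ⁰)) (toK u) = 1 := by
        apply (WithZero.unitsWithZeroEquiv : (ℤᵐ⁰)ˣ ≃* Multiplicative ℤ).injective
        rw [map_one]
        exact h1
      have h3 := congrArg Units.val h2
      exact le_of_eq h3
    have hP : IsIntegral (MvPolynomial (Fin d) k) (algebraMap A (FractionRing A) (u : A)) :=
      (Algebra.IsIntegral.isIntegral (R := MvPolynomial (Fin d) k) (u : A)).algebraMap
    obtain ⟨q, hqm, hq⟩ := exists_monic_of_valuation_le_one k (Fin d) A _ hP hw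
    have hq' : Polynomial.eval₂ (algebraMap k (FractionRing A))
        (algebraMap A (FractionRing A) (u : A)) q = 0 := by
      have e : (algebraMap (MvPolynomial (Fin d) k) (FractionRing A)).comp
          (MvPolynomial.C : k →+* MvPolynomial (Fin d) k) = algebraMap k (FractionRing A) := by
        ext c
        rw [RingHom.comp_apply, ← MvPolynomial.algebraMap_eq, ← IsScalarTower.algebraMap_apply]
      rw [← e]
      exact hq
    have hint : IsIntegral k (algebraMap A (FractionRing A) (u : A)) := ⟨q, hqm, hq'⟩
    exact (isIntegral_algebraMap_iff (IsFractionRing.injective A (FractionRing A))).mp hint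

end Groth.Agent.Lib.Helper7.UFG
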