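import Groth.Agent.Lib.Helper7.UFG4

/-!
# Group theory for units modulo constants (helper7)
-/

universe u

namespace Groth.Agent.Lib.Helper7.UFG

lemma subgroup_fg_pi_int (J : Type*) [Finite J] (H : Subgroup (Multiplicative (J → ℤ))) : H.FG := by
  set P : AddSubgroup (J → ℤ) := AddSubgroup.toSubgroup.symm H with hP
  have hH : H = AddSubgroup.toSubgroup P := (OrderIso.apply_symm_apply _ _).symm
  rw [hH, ← AddSubgroup.fg_iff_mul_fg]
  have h1 : (AddSubgroup.toIntSubmodule P).FG := IsNoetherian.noetherian _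
  rw [Submodule.fg_iff_addSubgroup_fg] at h1
  simpa using h1

lemma fg_quotient_of_ker_le {G : Type*} [CommGroup G] {T : Type*} [CommGroup T]
    (hT : ∀ H : Subgroup T, H.FG) (Ψ : G →* T) (N : Subgroup G) (h : Ψ.ker ≤ N) :
    Group.FG (G ⧸ N) := by
  haveI h1 : Group.FG Ψ.range := (Group.fg_iff_subgroup_fg _).mpr (hT _)
  let e := QuotientGroup.quotientKerEquivRange Ψ
  haveI : Group.FG (G ⧸ Ψ.ker) :=
    Group.fg_of_surjective (f := e.symm.toMonoidHom) e.symm.surjective
  have h' : Ψ.ker ≤ Subgroup.comap (MonoidHom.id G) N := by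
    rwa [Subgroup.comap_id]
  refine Group.fg_of_surjective (f := QuotientGroup.map Ψ.ker N (MonoidHom.id G) h') ?_
  intro x
  obtain ⟨g, rfl⟩ := QuotientGroup.mk_surjective x
  exact ⟨QuotientGroup.mk g, rfl⟩

end Groth.Agent.Lib.Helper7.UFG
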