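import Groth.Agent.Lib.Helper7.UFG5

/-!
# Units modulo constants on reduced schemes with finitely many components (helper7)
-/

universe u

open CategoryTheory Limits AlgebraicGeometry TopologicalSpace

namespace Groth.Agent.Lib.Helper7.UFG

variable {k : Type u} [Field k] {X : Scheme.{u}} (f : X ⟶ Spec (CommRingCat.of k))

/-- the structure map on global sections. -/
noncomputable def strMap : k →+* Γ(X, ⊤) :=
  f.appTop.hom.comp (Scheme.ΓSpecIso (CommRingCat.of k)).inv.hom

/-- restriction of global sections to an open. -/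
noncomputable def resMap (V : X.Opens) : Γ(X, ⊤) →+* Γ(X, V) :=
  (X.presheaf.map (homOfLE (le_top : V ≤ ⊤)).op).hom

/-- the structure map to sections over an open. -/
noncomputable def strMapU (V : X.Opens) : k →+* Γ(X, V) := (resMap V).comp (strMap f)

lemma finiteType_strMapU [LocallyOfFiniteType f] (V : X.Opens) (hV : IsAffineOpen V) :
    (strMapU f V).FiniteType := by
  have h := HasRingHomProperty.appLE @LocallyOfFiniteType f inferInstance
    ⟨⊤, isAffineOpen_top _⟩ ⟨V, hV⟩ le_top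
  have e : strMapU f V = (f.appLE ⊤ V le_top).hom.comp
      (Scheme.ΓSpecIso (CommRingCat.of k)).inv.hom := by
    ext c
    rfl
  rw [e]
  refine RingHom.FiniteType.comp h ?_
  apply RingHom.FiniteType.of_surjective
  exact (ConcreteCategory.bijective_of_isIso (Scheme.ΓSpecIso (CommRingCat.of k)).inv).2

lemma exists_affine_domain [IsReduced X] (hirr : (irreducibleComponents (X : Type u)).Finite)
    (Z : Set X) (hZ : Z ∈ irreducibleComponents (X : Type u)) :
    ∃ V : X.Opens, IsAffineOpen V ∧ (V : Set X).Nonempty ∧ IsDomain Γ(X, V) ∧ (V : Set X) ⊆ Z := by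
  set W : Set X := (⋃₀ (irreducibleComponents (X : Type u) \ {Z}))ᶜ with hW
  have hWopen : IsOpen W := by
    rw [hW, Set.sUnion_eq_biUnion, isOpen_compl_iff]
    exact hirr.sdiff.isClosed_biUnion fun T hT => isClosed_of_mem_irreducibleComponents T hT.1
  have hcl : closure W = Z := closure_sUnion_irreducibleComponents_sdiff_singleton hirr Z hZ
  have hZirr : IsIrreducible Z := hZ.1
  have hWZ : W ⊆ Z := hcl ▸ subset_closure
  have hWirr : IsIrreducible W := isIrreducible_iff_closure.mp (hcl ▸ hZirr)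
  obtain ⟨x, hx⟩ := hWirr.nonempty
  obtain ⟨_, ⟨V, hV, rfl⟩, hxV, hVW⟩ :=
    X.isBasis_affineOpens.exists_subset_of_mem_open hx hWopen
  have hVirr : IsIrreducible (V : Set X) :=
    ⟨⟨x, hxV⟩, hWirr.isPreirreducible.open_subset V.isOpen hVW⟩
  haveI : IrreducibleSpace ↥(V : Scheme.{u}) := isIrreducible_iff_irreducibleSpace.mp hVirr
  haveI : IsIntegral (V : Scheme.{u}) := isIntegral_of_irreducibleSpace_of_isReduced _
  haveI : IsDomain Γ(↑V, ⊤) := inferInstance
  refine ⟨V, hV, ⟨x, hxV⟩, ?_, hVW.trans hWZ⟩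
  exact Function.Injective.isDomain (Scheme.Opens.topIso V).inv.hom
    (ConcreteCategory.bijective_of_isIso (Scheme.Opens.topIso V).inv).1

lemma eq_zero_of_resMap_eq_zero [IsReduced X] (V : ↥(irreducibleComponents (X : Type u)) → X.Opens)
    (hne : ∀ Z, ((V Z : X.Opens) : Set X).Nonempty) (hsub : ∀ Z, ((V Z : X.Opens) : Set X) ⊆ Z.1)
    (s : Γ(X, ⊤)) (hs : ∀ Z, resMap (V Z) s = 0) : s = 0 := by
  rw [← basicOpen_eq_bot_iff]
  by_contra hbot
  obtain ⟨y, hy⟩ : ((X.basicOpen s : X.Opens) : Set X).Nonempty := by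
    rw [Set.nonempty_iff_ne_empty]
    intro h
    exact hbot (Opens.ext h)
  set Z : ↥(irreducibleComponents (X : Type u)) :=
    ⟨irreducibleComponent y, irreducibleComponent_mem_irreducibleComponents y⟩ with hZdef
  have hZirr : IsIrreducible Z.1 := Z.2.1
  obtain ⟨v, hv⟩ := hne Z
  have h1 : (Z.1 ∩ (X.basicOpen s : Set X)).Nonempty := ⟨y, mem_irreducibleComponent, hy⟩
  have h2 : (Z.1 ∩ ((V Z : X.Opens) : Set X)).Nonempty := ⟨v, hsub Z hv, hv⟩
  obtain ⟨w, -, hw1, hw2⟩ := hZirr.isPreirreducible _ _ (X.basicOpen s).isOpen (V Z).isOpen h1 h2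
  have h3 := X.basicOpen_res s (homOfLE (le_top : V Z ≤ ⊤)).op
  have h4 : resMap (V Z) s = 0 := hs Z
  change X.basicOpen (resMap (V Z) s) = _ at h3
  rw [h4, Scheme.basicOpen_zero] at h3
  have : w ∈ ((V Z ⊓ X.basicOpen s : X.Opens) : Set X) := ⟨hw2, hw1⟩
  rw [← h3] at this
  exact this

end Groth.Agent.Lib.Helper7.UFG
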