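import Groth.Agent.Lib.Helper7.UFG6

/-!
# Units modulo constants are finitely generated (Stacks 04L7) (helper7)
-/

universe u

open CategoryTheory Limits AlgebraicGeometry TopologicalSpace

namespace Groth.Agent.Lib.Helper7.UFG

lemma subgroup_fg_pi_mult (J : Type*) [Finite J] (H : Subgroup (J → Multiplicative ℤ)) : H.FG := by
  classical
  let e : Multiplicative (J → ℤ) ≃* (J → Multiplicative ℤ) := MulEquiv.piMultiplicative _
  have h1 : (H.comap e.toMonoidHom).FG := subgroup_fg_pi_int J _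
  have h2 : (H.comap e.toMonoidHom).map e.toMonoidHom = H :=
    Subgroup.map_comap_eq_self_of_surjective e.surjective H
  obtain ⟨S, hS⟩ := h1
  refine ⟨S.image e, ?_⟩
  rw [Finset.coe_image, ← h2, ← hS, MonoidHom.map_closure]
  rfl

variable {k : Type u} [Field k] {X : Scheme.{u}} (f : X ⟶ Spec (CommRingCat.of k))

theorem fg_units_mod_constants [LocallyOfFiniteType f] [IsReduced X]
    (hirr : (irreducibleComponents (X : Type u)).Finite)
    (hint : ∀ x : Γ(X, ⊤), (strMap f).IsIntegralElem x → x ∈ Set.range (strMap f)) :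
    Group.FG ((Γ(X, ⊤))ˣ ⧸ (Units.map ((strMap f : k →+* Γ(X, ⊤)) : k →* Γ(X, ⊤))).range) := by
  classical
  haveI : Finite ↥(irreducibleComponents (X : Type u)) := hirr
  haveI : Fintype ↥(irreducibleComponents (X : Type u)) := Fintype.ofFinite _
  choose V hVaff hVne hVdom hVsub using
    fun Z : ↥(irreducibleComponents (X : Type u)) => exists_affine_domain hirr Z.1 Z.2
  have hU : ∀ Z : ↥(irreducibleComponents (X : Type u)),
      ∃ (ι : Type u) (_ : Finite ι) (v : (Γ(X, V Z))ˣ →* (ι → Multiplicative ℤ)),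
        ∀ u : (Γ(X, V Z))ˣ, v u = 1 → (strMapU f (V Z)).IsIntegralElem (u : Γ(X, V Z)) := by
    intro Z
    letI : Algebra k Γ(X, V Z) := (strMapU f (V Z)).toAlgebra
    haveI := hVdom Z
    haveI : Algebra.FiniteType k Γ(X, V Z) := finiteType_strMapU f (V Z) (hVaff Z)
    obtain ⟨ι, hι, v, hv⟩ := exists_unitsHom k Γ(X, V Z)
    exact ⟨ι, hι, v, fun u hu => hv u hu⟩
  choose ι hι v hv using hU
  haveI : ∀ Z, Finite (ι Z) := hι
  let Ψ : (Γ(X, ⊤))ˣ →* ((j : Σ Z, ι Z) → Multiplicative ℤ) :=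
    MonoidHom.pi (fun j => (Pi.evalMonoidHom _ j.2).comp ((v j.1).comp
      (Units.map ((resMap (V j.1) : Γ(X, ⊤) →+* Γ(X, V j.1)) : Γ(X, ⊤) →* Γ(X, V j.1)))))
  apply fg_quotient_of_ker_le (subgroup_fg_pi_mult _) Ψ
  intro u hu
  rw [MonoidHom.mem_ker] at hu
  have hZ : ∀ Z, (strMapU f (V Z)).IsIntegralElem (resMap (V Z) (u : Γ(X, ⊤))) := by
    intro Z
    have h1 : v Z (Units.map ((resMap (V Z) : Γ(X, ⊤) →+* Γ(X, V Z)) : Γ(X, ⊤) →* Γ(X, V Z)) u)
        = 1 := by
      funext i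
      exact congrFun hu ⟨Z, i⟩
    exact hv Z _ h1
  choose p hpm hp using hZ
  have hint' : (strMap f).IsIntegralElem (u : Γ(X, ⊤)) := by
    refine ⟨∏ Z, p Z, Polynomial.monic_prod_of_monic _ _ (fun Z _ => hpm Z), ?_⟩
    apply eq_zero_of_resMap_eq_zero V hVne hVsub
    intro Z
    rw [Polynomial.hom_eval₂, Polynomial.eval₂_finsetProd]
    apply Finset.prod_eq_zero (Finset.mem_univ Z)
    exact hp Z
  obtain ⟨c, hc⟩ := hint _ hint'
  rcases subsingleton_or_nontrivial Γ(X, ⊤) with hsub | hnt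
  · have : u = 1 := Subsingleton.elim _ _
    rw [this]
    exact Subgroup.one_mem _
  have hc0 : c ≠ 0 := by
    rintro rfl
    rw [map_zero] at hc
    exact u.ne_zero hc.symm
  refine ⟨Units.mk0 c hc0, ?_⟩
  apply Units.ext
  exact hc

end Groth.Agent.Lib.Helper7.UFG
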