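import Groth.Agent.Lib.Helper7.UFG7

/-!
# Units modulo constants: free of finite rank for integral varieties (helper7)
-/

universe u

open CategoryTheory Limits AlgebraicGeometry TopologicalSpace

namespace Groth.Agent.Lib.Helper7.UFG

lemma exists_free_quotient {G : Type*} [CommGroup G] (N : Subgroup G) [Group.FG (G ⧸ N)]
    (htf : ∀ (g : G) (n : ℕ), n ≠ 0 → g ^ n ∈ N → g ∈ N) :
    ∃ (n : ℕ) (v : G →* Multiplicative (Fin n → ℤ)), Function.Surjective v ∧ v.ker = N := by
  haveI : IsMulTorsionFree (G ⧸ N) := ⟨fun n hn x y hxy => by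
    obtain ⟨a, rfl⟩ := QuotientGroup.mk_surjective x
    obtain ⟨b, rfl⟩ := QuotientGroup.mk_surjective y
    have h1 : ((a / b) ^ n : G) ∈ N := by
      rw [← QuotientGroup.eq_one_iff, QuotientGroup.mk_pow, QuotientGroup.mk_div, div_pow]
      have : ((a : G ⧸ N)) ^ n = (b : G ⧸ N) ^ n := hxy
      rw [this, div_self']
    have h2 := htf _ n hn h1
    rw [← QuotientGroup.eq_one_iff, QuotientGroup.mk_div, div_eq_one] at h2
    exact h2⟩
  haveI : IsAddTorsionFree (Additive (G ⧸ N)) := inferInstance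
  haveI : Module.Finite ℤ (Additive (G ⧸ N)) := Module.Finite.iff_addGroup_fg.mpr inferInstance
  obtain ⟨n, b⟩ := Module.basisOfFiniteTypeTorsionFree' (R := ℤ) (M := Additive (G ⧸ N))
  let e : Additive (G ⧸ N) ≃+ (Fin n → ℤ) := b.equivFun.toAddEquiv
  let e' : (G ⧸ N) ≃* Multiplicative (Fin n → ℤ) := AddEquiv.toMultiplicativeRight e
  refine ⟨n, e'.toMonoidHom.comp (QuotientGroup.mk' N),
    e'.surjective.comp (QuotientGroup.mk'_surjective N), ?_⟩
  ext g
  rw [MonoidHom.mem_ker, MonoidHom.comp_apply]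
  change e' (QuotientGroup.mk g) = 1 ↔ _
  rw [map_eq_one_iff e' e'.injective, QuotientGroup.eq_one_iff]

variable {k : Type u} [Field k] [IsAlgClosed k] {X : Scheme.{u}} (f : X ⟶ Spec (CommRingCat.of k))

lemma mem_range_of_isIntegralElem [IsIntegral X] (x : Γ(X, ⊤)) (hx : (strMap f).IsIntegralElem x) :
    x ∈ Set.range (strMap f) := by
  letI : Algebra k Γ(X, ⊤) := (strMap f).toAlgebra
  have hx' : IsIntegral k x := hx
  have hirr := minpoly.irreducible hx'
  have hdeg := IsAlgClosed.degree_eq_one_of_irreducible k hirr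
  exact minpoly.mem_range_of_degree_eq_one k x hdeg

theorem exists_free_units_mod_constants [IsIntegral X] [LocallyOfFiniteType f] :
    ∃ (n : ℕ) (v : (Γ(X, ⊤))ˣ →* Multiplicative (Fin n → ℤ)), Function.Surjective v ∧
      v.ker = (Units.map ((strMap f : k →+* Γ(X, ⊤)) : k →* Γ(X, ⊤))).range := by
  have hirr : (irreducibleComponents (X : Type u)).Finite := by
    rw [irreducibleComponents_eq_singleton]
    exact Set.finite_singleton _
  haveI := fg_units_mod_constants f hirr (mem_range_of_isIntegralElem f)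
  apply exists_free_quotient
  intro g n hn hg
  obtain ⟨c, hc⟩ := hg
  have hint : (strMap f).IsIntegralElem (g : Γ(X, ⊤)) := by
    refine ⟨Polynomial.X ^ n - Polynomial.C (c : k), Polynomial.monic_X_pow_sub_C _ hn, ?_⟩
    rw [Polynomial.eval₂_sub, Polynomial.eval₂_pow, Polynomial.eval₂_X, Polynomial.eval₂_C]
    have := congrArg Units.val hc
    rw [Units.coe_map, Units.val_pow_eq_pow_val] at this
    rw [← this]
    exact sub_self _
  obtain ⟨c', hc'⟩ := mem_range_of_isIntegralElem f _ hint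
  have hc0 : c' ≠ 0 := by
    rintro rfl
    rw [map_zero] at hc'
    exact g.ne_zero hc'.symm
  exact ⟨Units.mk0 c' hc0, Units.ext hc'⟩

end Groth.Agent.Lib.Helper7.UFG
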