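import Groth.Agent.Lib.Helper28.SepClosedConn
import Groth.Agent.Lib.Helper7.Lin1

/-!
# A connected algebra with a rational point is geometrically connected (helper7)
-/

universe u

open TensorProduct

namespace Groth.Agent.Lib.Helper7.UMC

section Top

/-- an open and closed map onto a connected space with a one-point fibre has connected source. -/
theorem connectedSpace_of_singleton_fibre {Y X : Type*} [TopologicalSpace Y] [TopologicalSpace X]
    [ConnectedSpace X] (π : Y → X) (ho : IsOpenMap π) (hc : IsClosedMap π) (x₀ : X) (y₀ : Y)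
    (hfib : ∀ y, π y = x₀ → y = y₀) : ConnectedSpace Y := by
  haveI : Nonempty Y := ⟨y₀⟩
  have key : ∀ Z : Set Y, IsClopen Z → y₀ ∈ Z → Z = Set.univ := by
    intro Z hZ hy
    have hZc : IsClopen Zᶜ := hZ.compl
    have h1 : IsClopen (π '' Zᶜ) := ⟨hc _ hZc.1, ho _ hZc.2⟩
    rcases isClopen_iff.1 h1 with h | h
    · rw [Set.image_eq_empty] at h
      exact Set.compl_empty_iff.1 h
    · exfalso
      have hx : x₀ ∈ π '' Zᶜ := by
        rw [h]
        trivial
      obtain ⟨y, hy', hyx⟩ := hx
      rw [hfib y hyx] at hy'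
      exact hy' hy
  haveI : PreconnectedSpace Y := by
    rw [preconnectedSpace_iff_clopen]
    intro Z hZ
    by_cases hy : y₀ ∈ Z
    · right
      exact key Z hZ hy
    · left
      have h := key Zᶜ hZ.compl hy
      exact Set.compl_univ_iff.1 h
  exact ⟨inferInstance⟩

end Top

section Ring

variable {k : Type u} [Field k] {C : Type u} [CommRing C] [Algebra k C] (ε : C →ₐ[k] k)
  (L : Type u) [Field L] [Algebra k L]

/-- the `L`-point of `C ⊗ L` over the rational point `ε`. -/
noncomputable def εL : C ⊗[k] L →ₐ[k] L :=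
  Algebra.TensorProduct.lift ((Algebra.ofId k L).comp ε) (AlgHom.id k L)
    (fun _ _ => Commute.all _ _)

lemma εL_tmul (c : C) (l : L) : εL ε L (c ⊗ₜ[k] l) = algebraMap k L (ε c) * l := by
  simp [εL]

lemma εL_surjective : Function.Surjective (εL ε L) := by
  intro l
  refine ⟨(1 : C) ⊗ₜ[k] l, ?_⟩
  rw [εL_tmul, map_one, map_one, one_mul]

lemma sub_mem_of_comap_eq (q : Ideal (C ⊗[k] L))
    (hq : Ideal.comap (algebraMap C (C ⊗[k] L)) q = RingHom.ker ε) (z : C ⊗[k] L) :
    z - (1 : C) ⊗ₜ[k] (εL ε L z) ∈ q := by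
  induction z using TensorProduct.induction_on with
  | zero => simp
  | tmul c l =>
    have h1 : c - algebraMap k C (ε c) ∈ RingHom.ker ε := by
      rw [RingHom.mem_ker, map_sub, AlgHom.commutes]
      simp
    rw [← hq, Ideal.mem_comap] at h1
    have h2 : c ⊗ₜ[k] l - (1 : C) ⊗ₜ[k] (εL ε L (c ⊗ₜ[k] l)) =
        algebraMap C (C ⊗[k] L) (c - algebraMap k C (ε c)) * ((1 : C) ⊗ₜ[k] l) := by
      rw [εL_tmul, Algebra.TensorProduct.algebraMap_apply, Algebra.TensorProduct.tmul_mul_tmul,
        mul_one, one_mul]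
      change _ = (c - algebraMap k C (ε c)) ⊗ₜ[k] l
      rw [TensorProduct.sub_tmul, Algebra.algebraMap_eq_smul_one (ε c),
        Algebra.algebraMap_eq_smul_one (ε c), TensorProduct.smul_tmul, smul_mul_assoc, one_mul]
    rw [h2]
    exact Ideal.mul_mem_right _ _ h1
  | add x y hx hy =>
    have h : x + y - (1 : C) ⊗ₜ[k] (εL ε L (x + y)) =
        (x - (1 : C) ⊗ₜ[k] (εL ε L x)) + (y - (1 : C) ⊗ₜ[k] (εL ε L y)) := by
      rw [map_add, TensorProduct.tmul_add]
      ring
    rw [h]
    exact Ideal.add_mem _ hx hy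

include ε in
/-- base change along an algebraic extension preserves connectedness of a pointed algebra. -/
theorem connectedSpace_tensor_of_isIntegral [ConnectedSpace (PrimeSpectrum C)]
    [Algebra.IsIntegral k L] : ConnectedSpace (PrimeSpectrum (C ⊗[k] L)) := by
  haveI hmax : (RingHom.ker (εL ε L)).IsMaximal :=
    RingHom.ker_isMaximal_of_surjective _ (εL_surjective ε L)
  haveI hpr : (RingHom.ker ε).IsPrime := RingHom.ker_isPrime _
  refine connectedSpace_of_singleton_fibre
    (PrimeSpectrum.comap (algebraMap C (C ⊗[k] L)))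
    PrimeSpectrum.isOpenMap_comap_algebraMap_tensorProduct_of_field
    (PrimeSpectrum.isClosedMap_comap_of_isIntegral _ ?_)
    ⟨RingHom.ker ε, hpr⟩ ⟨RingHom.ker (εL ε L), hmax.isPrime⟩ ?_
  · exact algebraMap_isIntegral_iff.2 inferInstance
  · intro y hy
    have hq : Ideal.comap (algebraMap C (C ⊗[k] L)) y.asIdeal = RingHom.ker ε := by
      have := congrArg PrimeSpectrum.asIdeal hy
      exact this
    apply PrimeSpectrum.ext
    change y.asIdeal = RingHom.ker (εL ε L)
    symm
    apply hmax.eq_of_le y.2.ne_top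
    intro z hz
    have h1 := sub_mem_of_comap_eq ε L y.asIdeal hq z
    rw [RingHom.mem_ker.1 hz, TensorProduct.tmul_zero, sub_zero] at h1
    exact h1

end Ring

end Groth.Agent.Lib.Helper7.UMC
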