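import Groth.Agent.Lib.Helper7.UMC1
import Groth.Agent.Lib.Helper7.HopfLieEq
import Groth.Agent.Lib.Helper7.HopfUnit
import Groth.Agent.Lib.Helper7.UnipBC
import Groth.Agent.Lib.Helper7.MT3

/-!
# Maps from smooth connected unipotent groups to groups of multiplicative type are constant
(helper7)
-/

universe u

open TensorProduct

namespace Groth.Agent.Lib.Helper7.UMC

open HopfRep

section Geom

variable {k : Type u} [Field k] {C : Type u} [CommRing C] [Algebra k C] (ε : C →ₐ[k] k)

include ε in
/-- a connected algebra with a rational point is geometrically connected. -/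
theorem idem_trivial_tensor_sepClosed (hconn : ∀ e : C, IsIdempotentElem e → e = 0 ∨ e = 1)
    (K : Type u) [Field K] [Algebra k K] [IsSepClosed K] :
    ∀ e : K ⊗[k] C, IsIdempotentElem e → e = 0 ∨ e = 1 := by
  haveI : Nontrivial C := RingHom.domain_nontrivial ε.toRingHom
  haveI : PreconnectedSpace (PrimeSpectrum C) :=
    Groth.Agent.Lib.Helper28.preconnectedSpace_of_idem_trivial hconn
  haveI : ConnectedSpace (PrimeSpectrum C) := ⟨inferInstance⟩
  haveI : ConnectedSpace (PrimeSpectrum (C ⊗[k] SeparableClosure k)) :=
    connectedSpace_tensor_of_isIntegral ε (SeparableClosure k)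
  have hLC : ∀ e : SeparableClosure k ⊗[k] C, IsIdempotentElem e → e = 0 ∨ e = 1 := by
    intro e he
    have h1 : IsIdempotentElem (Algebra.TensorProduct.comm k (SeparableClosure k) C e) :=
      he.map (Algebra.TensorProduct.comm k (SeparableClosure k) C)
    rcases Groth.Agent.Lib.Helper7.Lin.idem_of_connectedSpace _ h1 with h | h
    · left
      exact (Algebra.TensorProduct.comm k (SeparableClosure k) C).injective (by rw [h, map_zero])
    · right
      exact (Algebra.TensorProduct.comm k (SeparableClosure k) C).injective (by rw [h, map_one])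
  haveI := Groth.Agent.Lib.Helper28.preconnectedSpace_of_idem_trivial
    (A := SeparableClosure k ⊗[k] C) hLC
  letI : Algebra (SeparableClosure k) K :=
    (IsSepClosed.lift : SeparableClosure k →ₐ[k] K).toRingHom.toAlgebra
  haveI : IsScalarTower k (SeparableClosure k) K :=
    IsScalarTower.of_algebraMap_eq
      (fun x => ((IsSepClosed.lift : SeparableClosure k →ₐ[k] K).commutes x).symm)
  intro e he
  have h1 : IsIdempotentElem
      ((Algebra.TensorProduct.cancelBaseChange k (SeparableClosure k) K K C).symm e) :=
    he.map (Algebra.TensorProduct.cancelBaseChange k (SeparableClosure k) K K C).symm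
  rcases Groth.Agent.Lib.Helper28.idem_trivial_tensor_field (k := SeparableClosure k)
    (S := SeparableClosure k ⊗[k] C) K h1 with h | h
  · left
    exact (Algebra.TensorProduct.cancelBaseChange k (SeparableClosure k) K K C).symm.injective
      (by rw [h, map_zero])
  · right
    exact (Algebra.TensorProduct.cancelBaseChange k (SeparableClosure k) K K C).symm.injective
      (by rw [h, map_one])

end Geom

section Dom

variable {k : Type u} [Field k] {C : Type u} [CommRing C] [HopfAlgebra k C]
  [Algebra.FiniteType k C] [Algebra.FormallySmooth k C]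

/-- a smooth connected affine group is geometrically integral. -/
theorem isDomain_baseChange (hconn : ∀ e : C, IsIdempotentElem e → e = 0 ∨ e = 1)
    (K : Type u) [Field K] [Algebra k K] [IsAlgClosed K] : IsDomain (K ⊗[k] C) := by
  haveI : Algebra.FinitePresentation k C := Algebra.FinitePresentation.of_finiteType.1 inferInstance
  haveI : Algebra.Smooth k C := ⟨inferInstance, inferInstance⟩
  haveI : Algebra.Smooth K (K ⊗[k] C) := inferInstance
  haveI : IsNoetherianRing (K ⊗[k] C) := Algebra.FiniteType.isNoetherianRing K (K ⊗[k] C)
  haveI : Nontrivial (K ⊗[k] C) :=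
    RingHom.domain_nontrivial (Bialgebra.counitAlgHom K (K ⊗[k] C)).toRingHom
  apply Groth.Agent.Lib.Helper7.HopfLieEq.isDomain_of_connected
  · intro m hm
    exact Groth.Agent.Lib.Helper7.HopfLieEq.isDomain_localization_of_smooth K (K ⊗[k] C) m
  · exact idem_trivial_tensor_sepClosed (Bialgebra.counitAlgHom k C) hconn K

end Dom

end Groth.Agent.Lib.Helper7.UMC
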