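import Groth.Agent.Lib.Helper7.UMC2
import Groth.Prelude.Def_SGA3b

/-!
# Maps from smooth connected unipotent groups to groups of multiplicative type are constant:
the main argument (helper7)
-/

universe u

open TensorProduct

namespace Groth.Agent.Lib.Helper7.UMC

open HopfRep Groth.Agent.Lib.Helper7.Comod

section Main

variable {k : Type u} [Field k] {C B : Type u} [CommRing C] [HopfAlgebra k C]
  [Algebra.FiniteType k C] [Algebra.FormallySmooth k C] [CommRing B] [HopfAlgebra k B]

/-- over an algebraically closed extension, the units of a smooth connected unipotent group are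
scalars. -/
theorem unit_eq_smul_one (hconn : ∀ e : C, IsIdempotentElem e → e = 0 ∨ e = 1)
    (hU : IsUnipotent k C) (K : Type u) [Field K] [Algebra k K] [IsAlgClosed K]
    (w : K ⊗[k] C) (hw : IsUnit w) :
    w = Coalgebra.counit (R := K) w • (1 : K ⊗[k] C) := by
  haveI : IsDomain (K ⊗[k] C) := isDomain_baseChange hconn K
  have hUK : IsUnipotent K (K ⊗[k] C) :=
    Groth.Agent.Lib.Helper7.UnipBC.isUnipotent_baseChange hU
  obtain ⟨c, hc⟩ : ∃ c : K, c = Coalgebra.counit (R := K) w := ⟨_, rfl⟩
  have hc0 : c ≠ 0 := by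
    have h1 : IsUnit (Bialgebra.counitAlgHom K (K ⊗[k] C) w) :=
      hw.map (Bialgebra.counitAlgHom K (K ⊗[k] C))
    rw [hc]
    exact h1.ne_zero
  have hw' : IsUnit (c⁻¹ • w) := by
    rw [Algebra.smul_def]
    exact (IsUnit.map (algebraMap K (K ⊗[k] C)) (IsUnit.mk0 c⁻¹ (inv_ne_zero hc0))).mul hw
  have hε : Coalgebra.counit (R := K) (c⁻¹ • w) = 1 := by
    rw [map_smul, smul_eq_mul, ← hc, inv_mul_cancel₀ hc0]
  have hgl := Groth.Agent.Lib.Helper7.HopfDomain.isGroupLikeElem_of_isUnit (k := K) _ hw' hε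
  obtain ⟨n, hn⟩ := exists_mem_fixFilt_regular hUK (c⁻¹ • w)
  have h1 := Groth.Agent.Lib.Helper7.MT.eq_one_of_isGroupLikeElem_of_mem_fixFilt hgl n hn
  rw [← hc, ← h1, smul_smul, mul_inv_cancel₀ hc0, one_smul]

theorem algHom_const (hconn : ∀ e : C, IsIdempotentElem e → e = 0 ∨ e = 1)
    (hU : IsUnipotent k C) (hB : SGA3b.IsMultTypeConst k B) (f : B →ₐ[k] C) (b : B) :
    f b = algebraMap k C (Bialgebra.counitAlgHom k C (f b)) := by
  classical
  obtain ⟨R', _, _, hff, M, _, ⟨e⟩⟩ := hB
  haveI : Nontrivial R' := by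
    by_contra h
    rw [not_nontrivial_iff_subsingleton] at h
    have h2 : Subsingleton (R' ⊗[k] k) := by
      refine ⟨fun x y => ?_⟩
      have h0 : ∀ z : R' ⊗[k] k, z = 0 := by
        intro z
        induction z using TensorProduct.induction_on with
        | zero => rfl
        | tmul r c => rw [Subsingleton.elim r 0, TensorProduct.zero_tmul]
        | add p q hp hq => rw [hp, hq, add_zero]
      rw [h0 x, h0 y]
    rw [Module.FaithfullyFlat.subsingleton_tensorProduct_iff_right] at h2
    exact not_subsingleton k h2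
  obtain ⟨m, hm⟩ := Ideal.exists_maximal R'
  letI := Ideal.Quotient.field m
  let K := AlgebraicClosure (R' ⧸ m)
  let φ : R' →ₐ[k] K := IsScalarTower.toAlgHom k R' K
  let Φ : R' ⊗[k] B →ₐ[k] K ⊗[k] B := Algebra.TensorProduct.map φ (AlgHom.id k B)
  let F : K ⊗[k] B →ₐ[K] K ⊗[k] C := Algebra.TensorProduct.map (AlgHom.id K K) f
  -- the property
  have hP : ∀ y : MonoidAlgebra R' M, F (Φ (e.symm y)) =
      Coalgebra.counit (R := K) (F (Φ (e.symm y))) • (1 : K ⊗[k] C) := by
    intro y
    induction y using MonoidAlgebra.induction_linear with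
    | zero => simp
    | add p q hp hq =>
      rw [map_add, map_add, map_add, map_add, add_smul, ← hp, ← hq]
    | single g r =>
      have h1 : (MonoidAlgebra.single g r : MonoidAlgebra R' M) =
          r • MonoidAlgebra.of R' M g := by
        rw [MonoidAlgebra.of_apply, MonoidAlgebra.smul_single, smul_eq_mul, mul_one]
      have hu : IsUnit (e.symm (MonoidAlgebra.of R' M g)) := by
        have hg : IsUnit g := Group.isUnit g
        have := (hg.map (MonoidAlgebra.of R' M))
        exact this.map e.symm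
      have hu2 : IsUnit (F (Φ (e.symm (MonoidAlgebra.of R' M g)))) := (hu.map Φ).map F
      have h2 := unit_eq_smul_one hconn hU K _ hu2
      have h3 : Φ (e.symm (r • MonoidAlgebra.of R' M g)) =
          φ r • Φ (e.symm (MonoidAlgebra.of R' M g)) := by
        rw [map_smul, Algebra.smul_def, map_mul, Algebra.smul_def]
        congr 1
      rw [h1, h3, map_smul, map_smul, smul_eq_mul, mul_smul, ← h2]
  have h4 := hP (e (1 ⊗ₜ[k] b))
  rw [BialgEquiv.symm_apply_apply] at h4
  have h5 : F (Φ ((1 : R') ⊗ₜ[k] b)) = (1 : K) ⊗ₜ[k] f b := by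
    simp [Φ, F]
  rw [h5, TensorProduct.counit_tmul] at h4
  have hinj : Function.Injective
      (Algebra.TensorProduct.includeRight : C →ₐ[k] K ⊗[k] C) :=
    Algebra.TensorProduct.includeRight_injective
      (FaithfulSMul.algebraMap_injective k K)
  apply hinj
  change (1 : K) ⊗ₜ[k] f b = (1 : K) ⊗ₜ[k] algebraMap k C (Bialgebra.counitAlgHom k C (f b))
  rw [h4]
  change _ = (1 : K) ⊗ₜ[k] algebraMap k C (Coalgebra.counit (R := k) (f b))
  rw [Algebra.algebraMap_eq_smul_one (Coalgebra.counit (R := k) (f b)), TensorProduct.tmul_smul,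
    Algebra.TensorProduct.one_def]
  simp [TensorProduct.smul_tmul']

end Main

end Groth.Agent.Lib.Helper7.UMC
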