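import Groth.Agent.Lib.Helper7.UnipBC

set_option autoImplicit false

namespace Groth.Agent.Lib.Helper7.UnipDVR

open TensorProduct HopfRep Groth.Agent.Lib.Helper7.Comod Groth.Agent.Lib.Helper7.BCR
  Groth.Agent.Lib.Helper7.UnipExt

universe u v w

section Gen

variable {A : Type u} [CommRing A] [IsDomain A] {K : Type v} [Field K] [Algebra A K]
  [IsFractionRing A K] {H : Type w} [CommRing H] [Bialgebra A H] [Module.Flat A H]

lemma one_tmul_injective_of_flat (M : Type*) [AddCommGroup M] [Module A M] [Module.Flat A M] :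
    Function.Injective (fun m : M => ((1 : K) ⊗ₜ[A] m : K ⊗[A] M)) := by
  have h := Module.Flat.rTensor_preserves_injective_linearMap (M := M) (Algebra.linearMap A K)
    (IsFractionRing.injective A K)
  intro m m' hm
  apply (TensorProduct.lid A M).symm.injective
  apply h
  simpa using hm

lemma bcPair_smul (x : K) (a : A) (d : H ⊗[A] H) :
    bcPair x (a • d) = (algebraMap A K a) • bcPair x d := by
  induction d using TensorProduct.induction_on with
  | zero => simp
  | tmul p q =>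
    rw [TensorProduct.smul_tmul', bcPair_tmul, bcPair_tmul, TensorProduct.smul_tmul']
    congr 1
    rw [TensorProduct.tmul_smul, algebraMap_smul]
  | add y z hy hz => rw [smul_add, bcPair_add, hy, hz, bcPair_add, smul_add]

lemma bcPair_one_injective : Function.Injective (fun d : H ⊗[A] H => bcPair (1 : K) d) := by
  intro d d' h
  have h1 : ∀ e : H ⊗[A] H, bcPair (1 : K) e =
      (AlgebraTensorModule.tensorTensorTensorComm A K A K K K H H)
        (((1 : K) ⊗ₜ[K] (1 : K)) ⊗ₜ[A] e) := fun e => rfl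
  simp only [h1] at h
  have h2 := (AlgebraTensorModule.tensorTensorTensorComm A K A K K K H H).injective h
  -- now `(1 ⊗ 1) ⊗ d = (1 ⊗ 1) ⊗ d'` in `(K ⊗_K K) ⊗_A (H ⊗ H)`
  have h3 : ((1 : K) ⊗ₜ[A] d : K ⊗[A] (H ⊗[A] H)) = (1 : K) ⊗ₜ[A] d' := by
    have := congrArg (LinearMap.rTensor (H ⊗[A] H)
      ((TensorProduct.lid K K).toLinearMap.restrictScalars A)) h2
    simpa using this
  exact one_tmul_injective_of_flat (K := K) (H ⊗[A] H) h3

/-- the key saturation lemma. -/
theorem mem_range_of_bcPair_mem (F : Submodule K (K ⊗[A] H)) (d : H ⊗[A] H)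
    (hd : bcPair (1 : K) d ∈ LinearMap.range (F.subtype.rTensor (K ⊗[A] H))) :
    d ∈ LinearMap.range
      (((F.restrictScalars A).comap (TensorProduct.mk A K H 1)).subtype.rTensor H) := by
  set G : Submodule A H := (F.restrictScalars A).comap (TensorProduct.mk A K H 1) with hG
  -- step (a)
  have ha : ∀ y : F ⊗[K] (K ⊗[A] H), ∃ a : A, a ≠ 0 ∧ ∃ d' ∈ LinearMap.range (G.subtype.rTensor H),
      (algebraMap A K a) • (F.subtype.rTensor (K ⊗[A] H) y) = bcPair (1 : K) d' := by
    intro y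
    induction y using TensorProduct.induction_on with
    | zero => exact ⟨1, one_ne_zero, 0, Submodule.zero_mem _, by simp⟩
    | tmul f x =>
      obtain ⟨⟨g, s⟩, hs⟩ := IsLocalizedModule.surj (nonZeroDivisors A) (TensorProduct.mk A K H 1)
        (f : K ⊗[A] H)
      obtain ⟨⟨h', s'⟩, hs'⟩ := IsLocalizedModule.surj (nonZeroDivisors A) (TensorProduct.mk A K H 1) x
      have hs1 : (algebraMap A K (s : A)) • (f : K ⊗[A] H) = (1 : K) ⊗ₜ[A] g := by
        rw [algebraMap_smul]; exact hs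
      have hs1' : (algebraMap A K (s' : A)) • x = (1 : K) ⊗ₜ[A] h' := by
        rw [algebraMap_smul]; exact hs'
      have hg : g ∈ G := by
        change ((1 : K) ⊗ₜ[A] g : K ⊗[A] H) ∈ F
        rw [← hs1]
        exact F.smul_mem _ f.2
      refine ⟨(s : A) * (s' : A), mul_ne_zero (nonZeroDivisors.ne_zero s.2)
        (nonZeroDivisors.ne_zero s'.2), g ⊗ₜ[A] h', tmul_mem_range_rTensor hg h', ?_⟩
      rw [LinearMap.rTensor_tmul, bcPair_tmul, map_mul, ← hs1, ← hs1',
        TensorProduct.smul_tmul_smul]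
      rfl
    | add y z hy hz =>
      obtain ⟨a, ha0, d', hd', hy⟩ := hy
      obtain ⟨b, hb0, d'', hd'', hz⟩ := hz
      refine ⟨a * b, mul_ne_zero ha0 hb0, b • d' + a • d'',
        Submodule.add_mem _ (Submodule.smul_mem _ _ hd') (Submodule.smul_mem _ _ hd''), ?_⟩
      rw [map_add, smul_add, bcPair_add, bcPair_smul, bcPair_smul, ← hy, ← hz, map_mul, mul_smul,
        mul_smul, smul_comm (algebraMap A K a) (algebraMap A K b)]
  obtain ⟨y, hy⟩ := hd
  obtain ⟨a, ha0, d', hd', hya⟩ := ha y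
  rw [hy, ← bcPair_smul] at hya
  have had : a • d = d' := bcPair_one_injective (K := K) hya
  -- step (b): `H ⊗ H / range` is torsion-free
  have hex := rTensor_exact H (LinearMap.exact_subtype_mkQ G) G.mkQ_surjective
  rw [← had] at hd'
  have h0 : G.mkQ.rTensor H (a • d) = 0 := (hex _).2 hd'
  rw [map_smul] at h0
  refine (hex _).1 ?_
  -- multiplication by `a` is injective on `(H ⧸ G) ⊗ H`
  have hinjQ : Function.Injective (LinearMap.lsmul A (H ⧸ G) a) := by
    intro q q' hq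
    obtain ⟨h1, rfl⟩ := G.mkQ_surjective q
    obtain ⟨h2, rfl⟩ := G.mkQ_surjective q'
    have : G.mkQ (a • (h1 - h2)) = 0 := by
      rw [map_smul, map_sub]
      change a • G.mkQ h1 = a • G.mkQ h2 at hq
      rw [smul_sub, hq, sub_self]
    rw [Submodule.mkQ_apply, Submodule.Quotient.mk_eq_zero] at this
    have h3 : ((1 : K) ⊗ₜ[A] (a • (h1 - h2)) : K ⊗[A] H) ∈ F := this
    rw [TensorProduct.tmul_smul, ← algebraMap_smul K a] at h3
    have h4 : ((1 : K) ⊗ₜ[A] (h1 - h2) : K ⊗[A] H) ∈ F := by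
      have hne : algebraMap A K a ≠ 0 := by
        intro h
        exact ha0 ((IsFractionRing.injective A K) (h.trans (map_zero _).symm))
      have := F.smul_mem (algebraMap A K a)⁻¹ h3
      rwa [smul_smul, inv_mul_cancel₀ hne, one_smul] at this
    have h5 : h1 - h2 ∈ G := h4
    rw [← sub_eq_zero, ← map_sub, Submodule.mkQ_apply, Submodule.Quotient.mk_eq_zero]
    exact h5
  have hinj := Module.Flat.rTensor_preserves_injective_linearMap (M := H) _ hinjQ
  apply hinj
  rw [map_zero]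
  have : LinearMap.rTensor H (LinearMap.lsmul A (H ⧸ G) a) (G.mkQ.rTensor H d) =
      a • G.mkQ.rTensor H d := by
    generalize G.mkQ.rTensor H d = z
    induction z using TensorProduct.induction_on with
    | zero => simp
    | tmul p q => simp [TensorProduct.smul_tmul']
    | add y z hy hz => simp only [map_add, hy, hz, smul_add]
  rw [this, h0]

end Gen

end Groth.Agent.Lib.Helper7.UnipDVR

namespace Groth.Agent.Lib.Helper7.UnipDVR

open TensorProduct HopfRep Groth.Agent.Lib.Helper7.Comod Groth.Agent.Lib.Helper7.BCR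
  Groth.Agent.Lib.Helper7.UnipExt

universe u v w v'

section Ring

variable {A : Type u} [CommRing A] {K : Type v} [CommRing K] [Algebra A K]
  {H : Type w} [CommRing H] [Bialgebra A H]

lemma tmul_one_eq' (x : K) (a : H) :
    ((1 : K) ⊗ₜ[A] a) ⊗ₜ[K] (x ⊗ₜ[A] (1 : H)) =
      (x ⊗ₜ[A] a) ⊗ₜ[K] ((1 : K) ⊗ₜ[A] (1 : H)) := by
  have h1 : (x ⊗ₜ[A] (1 : H) : K ⊗[A] H) = x • ((1 : K) ⊗ₜ[A] (1 : H)) := by
    rw [TensorProduct.smul_tmul', smul_eq_mul, mul_one]
  have h2 : (x ⊗ₜ[A] a : K ⊗[A] H) = x • ((1 : K) ⊗ₜ[A] a) := by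
    rw [TensorProduct.smul_tmul', smul_eq_mul, mul_one]
  rw [h1, h2, TensorProduct.tmul_smul, TensorProduct.smul_tmul']

lemma dcoact_tmul_eq (x : K) (a : H) :
    Coalgebra.comul (R := K) (x ⊗ₜ[A] a : K ⊗[A] H) -
        (x ⊗ₜ[A] a : K ⊗[A] H) ⊗ₜ[K] (1 : K ⊗[A] H) =
      bcPair x (Coalgebra.comul (R := A) a - a ⊗ₜ[A] (1 : H)) := by
  rw [bcPair_sub, ← comul_tmul_eq, bcPair_tmul, tmul_one_eq', Algebra.TensorProduct.one_def]

end Ring

section Special

variable {A : Type u} [CommRing A] [IsDomain A] {K : Type v} [Field K] [Algebra A K]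
  [IsFractionRing A K] {H : Type w} [CommRing H] [Bialgebra A H] [Module.Flat A H]
  {κ : Type v'} [Field κ] [Algebra A κ]

theorem tmul_mem_fixFilt_special (n : ℕ) : ∀ (c : κ) (h : H),
    ((1 : K) ⊗ₜ[A] h : K ⊗[A] H) ∈ fixFilt K (K ⊗[A] H) (K ⊗[A] H) n →
    (c ⊗ₜ[A] h : κ ⊗[A] H) ∈ fixFilt κ (κ ⊗[A] H) (κ ⊗[A] H) n := by
  induction n with
  | zero =>
    intro c h hh
    rw [fixFilt_zero, Submodule.mem_bot] at hh
    have : h = 0 := one_tmul_injective_of_flat (K := K) H (hh.trans (TensorProduct.tmul_zero _ _).symm)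
    rw [this, TensorProduct.tmul_zero]
    exact Submodule.zero_mem _
  | succ n ih =>
    intro c h hh
    rw [fixFilt_succ, mem_nextFix] at hh ⊢
    change Coalgebra.comul (R := K) ((1 : K) ⊗ₜ[A] h : K ⊗[A] H) -
      ((1 : K) ⊗ₜ[A] h : K ⊗[A] H) ⊗ₜ[K] (1 : K ⊗[A] H) ∈ _ at hh
    change Coalgebra.comul (R := κ) (c ⊗ₜ[A] h : κ ⊗[A] H) -
      (c ⊗ₜ[A] h : κ ⊗[A] H) ⊗ₜ[κ] (1 : κ ⊗[A] H) ∈ _
    rw [dcoact_tmul_eq] at hh ⊢
    obtain ⟨y, hy⟩ := mem_range_of_bcPair_mem _ _ hh
    rw [← hy]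
    clear hy hh
    induction y using TensorProduct.induction_on with
    | zero => simp
    | tmul p x =>
      rw [LinearMap.rTensor_tmul, bcPair_tmul]
      exact tmul_mem_range_rTensor (ih 1 (p : H) p.2) _
    | add y z hy hz =>
      rw [map_add, bcPair_add]
      exact Submodule.add_mem _ hy hz

theorem isUnipotent_special (hK : IsUnipotent K (K ⊗[A] H)) : IsUnipotent κ (κ ⊗[A] H) := by
  apply isUnipotent_of_regular_exhaustive
  intro x
  induction x using TensorProduct.induction_on with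
  | zero => exact ⟨0, Submodule.zero_mem _⟩
  | tmul c a =>
    obtain ⟨n, hn⟩ := exists_mem_fixFilt_regular hK ((1 : K) ⊗ₜ[A] a)
    exact ⟨n, tmul_mem_fixFilt_special n c a hn⟩
  | add y z hy hz =>
    obtain ⟨n, hn⟩ := hy
    obtain ⟨m, hm⟩ := hz
    exact ⟨max n m, Submodule.add_mem _ (fixFilt_mono (le_max_left n m) hn)
      (fixFilt_mono (le_max_right n m) hm)⟩

end Special

end Groth.Agent.Lib.Helper7.UnipDVR
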