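import Groth.Agent.Lib.Helper7.ComodUnipReg
import Groth.Agent.Lib.Helper7.CoeffSpace
import Groth.Agent.Lib.Helper7.UnipPart
import Mathlib

/-!
# Truncated `e`-th roots of `1 + X` (helper7)
-/

namespace Groth.Agent.Lib.Helper7.UnipRoot

section Poly

open Polynomial

variable {k : Type*} [Field k] (e : ℕ)

/-- the truncated `e`-th roots of `1 + X`: `Qs N ^ e ≡ 1 + X mod X^(N+1)`. -/
noncomputable def Qs : ℕ → k[X]
  | 0 => 1
  | N + 1 => Qs N + C (((1 + X - (Qs N) ^ e).coeff (N + 1)) / (e : k)) * X ^ (N + 1)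

lemma Qs_zero : Qs (k := k) e 0 = 1 := rfl

lemma Qs_succ (N : ℕ) : Qs (k := k) e (N + 1) =
    Qs e N + C (((1 + X - (Qs e N) ^ e).coeff (N + 1)) / (e : k)) * X ^ (N + 1) := rfl

lemma Qs_coeff_zero (N : ℕ) : (Qs (k := k) e N).coeff 0 = 1 := by
  induction N with
  | zero => simp [Qs_zero]
  | succ N ih =>
    rw [Qs_succ, coeff_add, ih, coeff_C_mul, coeff_X_pow]
    simp

/-- `Qs N - Qs M` is divisible by `X^(M+1)` for `M ≤ N`. -/
lemma Qs_sub_dvd {M N : ℕ} (h : M ≤ N) : X ^ (M + 1) ∣ Qs (k := k) e N - Qs e M := by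
  induction N with
  | zero =>
    have : M = 0 := Nat.le_zero.1 h
    subst this
    simp
  | succ N ih =>
    rcases Nat.eq_or_lt_of_le h with h1 | h1
    · subst h1; simp
    · have h2 : M ≤ N := Nat.lt_succ_iff.1 h1
      have e1 : Qs (k := k) e (N + 1) - Qs e M = (Qs e N - Qs e M) +
          C (((1 + X - (Qs e N) ^ e).coeff (N + 1)) / (e : k)) * X ^ (N + 1) := by
        rw [Qs_succ]; ring
      rw [e1]
      refine dvd_add (ih h2) (Dvd.dvd.mul_left (pow_dvd_pow X ?_) _)
      omega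

/-- the geometric sum has constant coefficient `e`. -/
lemma geom_coeff_zero (P₁ P₂ : k[X]) (h₁ : P₁.coeff 0 = 1) (h₂ : P₂.coeff 0 = 1) :
    (∑ i ∈ Finset.range e, P₁ ^ i * P₂ ^ (e - 1 - i)).coeff 0 = (e : k) := by
  rw [coeff_zero_eq_eval_zero, eval_finsetSum]
  have : ∀ i ∈ Finset.range e, eval 0 (P₁ ^ i * P₂ ^ (e - 1 - i)) = 1 := by
    intro i _
    rw [eval_mul, eval_pow, eval_pow, ← coeff_zero_eq_eval_zero, ← coeff_zero_eq_eval_zero, h₁, h₂]
    simp
  rw [Finset.sum_congr rfl this]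
  simp

lemma isCoprime_X_pow_of_coeff_zero_ne_zero (S : k[X]) (hS : S.coeff 0 ≠ 0) (M : ℕ) :
    IsCoprime (X ^ M) S := by
  apply IsCoprime.pow_left
  refine ⟨-(C (S.coeff 0)⁻¹ * divX S), C (S.coeff 0)⁻¹, ?_⟩
  have h := divX_mul_X_add S
  have : C (S.coeff 0)⁻¹ * S = C (S.coeff 0)⁻¹ * (divX S * X + C (S.coeff 0)) := by rw [h]
  rw [this, mul_add, ← C_mul, inv_mul_cancel₀ hS]
  simp only [map_one]
  ring

variable (he : (e : k) ≠ 0)

include he in
/-- uniqueness of truncated `e`-th roots with constant coefficient one. -/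
lemma dvd_sub_of_dvd_pow_sub (P₁ P₂ : k[X]) (h₁ : P₁.coeff 0 = 1) (h₂ : P₂.coeff 0 = 1) (M : ℕ)
    (h : X ^ M ∣ P₁ ^ e - P₂ ^ e) : X ^ M ∣ P₁ - P₂ := by
  have hg := (Commute.all P₁ P₂).geom_sum₂_mul e
  rw [← hg] at h
  exact (isCoprime_X_pow_of_coeff_zero_ne_zero _
    (by rw [geom_coeff_zero e P₁ P₂ h₁ h₂]; exact he) M).dvd_of_dvd_mul_left h

include he in
lemma Qs_spec (N : ℕ) : X ^ (N + 1) ∣ (Qs (k := k) e N) ^ e - (1 + X) := by
  induction N with
  | zero =>
    rw [Qs_zero, one_pow]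
    exact ⟨-1, by ring⟩
  | succ N ih =>
    obtain ⟨R, hR⟩ := ih
    set Q := Qs (k := k) e N with hQ
    set c : k := ((1 + X - Q ^ e).coeff (N + 1)) / (e : k) with hc
    set Q' := Qs (k := k) e (N + 1) with hQ'
    have hQQ : Q' = Q + C c * X ^ (N + 1) := Qs_succ e N
    have hg := (Commute.all Q' Q).geom_sum₂_mul e
    set S := ∑ i ∈ Finset.range e, Q' ^ i * Q ^ (e - 1 - i) with hS
    have hS0 : S.coeff 0 = (e : k) :=
      geom_coeff_zero e Q' Q (Qs_coeff_zero e (N + 1)) (Qs_coeff_zero e N)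
    obtain ⟨T, hT⟩ : X ∣ S - C (e : k) := by
      rw [X_dvd_iff, coeff_sub, hS0, coeff_C_zero, sub_self]
    have hR0 : R.coeff 0 = -(c * (e : k)) := by
      have h1 : (Q ^ e - (1 + X)).coeff (N + 1) = R.coeff 0 := by
        rw [hR, coeff_X_pow_mul']
        simp
      rw [← h1, hc, div_mul_cancel₀ _ he, ← coeff_neg]
      congr 1
      ring
    obtain ⟨T', hT'⟩ : X ∣ R + C (c * (e : k)) := by
      rw [X_dvd_iff, coeff_add, hR0, coeff_C_zero, neg_add_cancel]
    have e1 : Q' ^ e - (1 + X) = (Q' ^ e - Q ^ e) + (Q ^ e - (1 + X)) := by ring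
    have e2 : Q' - Q = C c * X ^ (N + 1) := by rw [hQQ]; ring
    have e3 : S = X * T + C (e : k) := by rw [← hT]; ring
    have e4 : R = X * T' - C (c * (e : k)) := by rw [← hT']; ring
    rw [e1, ← hg, e2, hR, e3, e4]
    refine ⟨T * C c + T', ?_⟩
    rw [C_mul]
    ring

include he in
/-- the inverse function identity. -/
lemma Qs_comp (N : ℕ) :
    X ^ (N + 1) ∣ (Qs (k := k) e N).comp ((1 + X) ^ e - 1) - (1 + X) := by
  set z : k[X] := (1 + X) ^ e - 1 with hz
  have hz0 : X ∣ z := by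
    rw [X_dvd_iff, hz, coeff_sub, coeff_zero_eq_eval_zero, eval_pow]
    simp
  apply dvd_sub_of_dvd_pow_sub e he _ _ _ _ (N + 1)
  · obtain ⟨R, hR⟩ := Qs_spec e he N
    have h1 : ((Qs (k := k) e N).comp z) ^ e - (1 + X) ^ e =
        ((Qs e N) ^ e - (1 + X)).comp z := by
      rw [sub_comp, pow_comp, add_comp, one_comp, X_comp, hz]
      ring
    rw [h1, hR, mul_comp, pow_comp, X_comp]
    exact Dvd.dvd.mul_right (pow_dvd_pow_of_dvd hz0 _) _
  · rw [coeff_zero_eq_eval_zero, eval_comp]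
    have : eval 0 z = 0 := by
      rw [hz, eval_sub, eval_pow]; simp
    rw [this, ← coeff_zero_eq_eval_zero, Qs_coeff_zero]
  · simp


end Poly

section Filt

open TensorProduct HopfRep Groth.Agent.Lib.Helper7.Comod

universe u v

variable {k : Type u} [Field k] {A : Type v} [CommRing A] [Bialgebra k A]

lemma contrL_assoc (ψ : A →ₗ[k] k) (w : (A ⊗[k] A) ⊗[k] A) :
    contrL (A ⊗[k] A) ψ (TensorProduct.assoc k A A A w) = (contrL A ψ).rTensor A w := by
  induction w using TensorProduct.induction_on with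
  | zero => simp
  | tmul x c =>
    induction x using TensorProduct.induction_on with
    | zero => simp
    | tmul a b => simp [TensorProduct.smul_tmul']
    | add x y hx hy => simp only [TensorProduct.add_tmul, map_add, hx, hy]
  | add x y hx hy => simp only [map_add, hx, hy]

/-- `Δ ((ψ ⊗ id) Δ a) = ((ψ ⊗ id) Δ ⊗ id) Δ a`. -/
lemma comul_contrL_comul (ψ : A →ₗ[k] k) (a : A) :
    Coalgebra.comul (R := k) (contrL A ψ (Coalgebra.comul (R := k) a)) =
      ((contrL A ψ) ∘ₗ Coalgebra.comul (R := k)).rTensor A (Coalgebra.comul (R := k) a) := by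
  rw [← contrL_lTensor, ← Coalgebra.coassoc_apply, contrL_assoc, LinearMap.rTensor_comp]
  rfl

/-- the fixed point filtration of the regular comodule consists of left coideals. -/
lemma contrL_comul_mem_fixFilt (N : ℕ) : ∀ a ∈ fixFilt k A A N, ∀ ψ : A →ₗ[k] k,
    contrL A ψ (Coalgebra.comul (R := k) a) ∈ fixFilt k A A N := by
  induction N with
  | zero =>
    intro a ha ψ
    rw [fixFilt_zero, Submodule.mem_bot] at ha
    rw [ha, map_zero, map_zero]
    exact Submodule.zero_mem _
  | succ N ih =>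
    intro a ha ψ
    rw [fixFilt_succ, mem_nextFix] at ha ⊢
    obtain ⟨y, hy⟩ := ha
    change (fixFilt k A A N).subtype.rTensor A y =
      Coalgebra.comul (R := k) a - a ⊗ₜ[k] (1 : A) at hy
    change Coalgebra.comul (R := k) (contrL A ψ (Coalgebra.comul (R := k) a)) -
      contrL A ψ (Coalgebra.comul (R := k) a) ⊗ₜ[k] (1 : A) ∈ _
    set T : A →ₗ[k] A := (contrL A ψ) ∘ₗ Coalgebra.comul (R := k) with hT
    have h1 : Coalgebra.comul (R := k) a = a ⊗ₜ[k] (1 : A) +
        (fixFilt k A A N).subtype.rTensor A y := by rw [hy]; abel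
    have h2 : Coalgebra.comul (R := k) (contrL A ψ (Coalgebra.comul (R := k) a)) =
        T a ⊗ₜ[k] (1 : A) + T.rTensor A ((fixFilt k A A N).subtype.rTensor A y) := by
      rw [comul_contrL_comul]
      conv_lhs => rw [h1]
      rw [map_add, LinearMap.rTensor_tmul]
    have h3 : contrL A ψ (Coalgebra.comul (R := k) a) = T a := rfl
    rw [h2, h3, add_sub_cancel_left]
    let T' : ↥(fixFilt k A A N) →ₗ[k] ↥(fixFilt k A A N) :=
      T.restrict (p := fixFilt k A A N) (q := fixFilt k A A N) (fun b hb => ih b hb ψ)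
    refine ⟨T'.rTensor A y, ?_⟩
    clear hy h1 h2
    induction y using TensorProduct.induction_on with
    | zero => simp
    | tmul b c => simp [T']
    | add y z hy hz => simp only [map_add, hy, hz]

/-- the fixed point filtration of the regular comodule consists of subcoalgebras. -/
theorem isSubcoalg_fixFilt (N : ℕ) : IsSubcoalg (fixFilt k A A N) := by
  rw [isSubcoalg_iff]
  intro b hb
  have h := isSubcomod_fixFilt (k := k) (A := A) (V := A) N b hb
  change Coalgebra.comul (R := k) b ∈ _ at h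
  rw [mem_range_rTensor_iff_contr] at h
  exact ⟨h, fun ψ => contrL_comul_mem_fixFilt N b hb ψ⟩

end Filt


section Conv

open TensorProduct HopfRep Groth.Agent.Lib.Helper7.Comod WithConv

universe u v

variable {k : Type u} [Field k] {A : Type v} [CommRing A] [Bialgebra k A]

/-- agreement on the `N`-th step of the filtration. -/
def EqOn (N : ℕ) (φ ψ : WithConv (A →ₗ[k] k)) : Prop := ∀ a ∈ fixFilt k A A N, φ a = ψ a

lemma EqOn.refl (N : ℕ) (φ : WithConv (A →ₗ[k] k)) : EqOn N φ φ := fun _ _ => rfl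

lemma EqOn.symm {N : ℕ} {φ ψ : WithConv (A →ₗ[k] k)} (h : EqOn N φ ψ) : EqOn N ψ φ :=
  fun a ha => (h a ha).symm

lemma EqOn.trans {N : ℕ} {φ ψ χ : WithConv (A →ₗ[k] k)} (h : EqOn N φ ψ) (h' : EqOn N ψ χ) :
    EqOn N φ χ := fun a ha => (h a ha).trans (h' a ha)

lemma EqOn.add {N : ℕ} {φ φ' ψ ψ' : WithConv (A →ₗ[k] k)} (h : EqOn N φ φ') (h' : EqOn N ψ ψ') :
    EqOn N (φ + ψ) (φ' + ψ') := by
  intro a ha
  change φ a + ψ a = φ' a + ψ' a
  rw [h a ha, h' a ha]

lemma EqOn.sub {N : ℕ} {φ φ' ψ ψ' : WithConv (A →ₗ[k] k)} (h : EqOn N φ φ') (h' : EqOn N ψ ψ') :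
    EqOn N (φ - ψ) (φ' - ψ') := by
  intro a ha
  change φ a - ψ a = φ' a - ψ' a
  rw [h a ha, h' a ha]

lemma EqOn.smul {N : ℕ} {φ φ' : WithConv (A →ₗ[k] k)} (c : k) (h : EqOn N φ φ') :
    EqOn N (c • φ) (c • φ') := by
  intro a ha
  change c • φ a = c • φ' a
  rw [h a ha]

lemma EqOn.mul {N : ℕ} {φ φ' ψ ψ' : WithConv (A →ₗ[k] k)} (h : EqOn N φ φ') (h' : EqOn N ψ ψ') :
    EqOn N (φ * ψ) (φ' * ψ') := by
  intro a ha
  obtain ⟨z, hz⟩ := isSubcoalg_fixFilt (k := k) (A := A) N a ha
  rw [LinearMap.convMul_apply, LinearMap.convMul_apply, ← hz]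
  have h1 : φ.ofConv ∘ₗ (fixFilt k A A N).subtype = φ'.ofConv ∘ₗ (fixFilt k A A N).subtype :=
    LinearMap.ext fun b => h b b.2
  have h2 : ψ.ofConv ∘ₗ (fixFilt k A A N).subtype = ψ'.ofConv ∘ₗ (fixFilt k A A N).subtype :=
    LinearMap.ext fun b => h' b b.2
  rw [← LinearMap.comp_apply (TensorProduct.map φ.ofConv ψ.ofConv),
    ← LinearMap.comp_apply (TensorProduct.map φ'.ofConv ψ'.ofConv), ← TensorProduct.map_comp,
    ← TensorProduct.map_comp, h1, h2]

lemma EqOn.pow {N : ℕ} {φ φ' : WithConv (A →ₗ[k] k)} (h : EqOn N φ φ') (m : ℕ) :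
    EqOn N (φ ^ m) (φ' ^ m) := by
  induction m with
  | zero => rw [pow_zero, pow_zero]; exact EqOn.refl N _
  | succ m ih => rw [pow_succ, pow_succ]; exact ih.mul h

open Polynomial in
lemma EqOn.aeval {N : ℕ} {φ φ' : WithConv (A →ₗ[k] k)} (h : EqOn N φ φ') (P : k[X]) :
    EqOn N (aeval φ P) (aeval φ' P) := by
  induction P using Polynomial.induction_on' with
  | add p q hp hq => rw [map_add, map_add]; exact hp.add hq
  | monomial n c =>
    rw [aeval_monomial, aeval_monomial, ← Algebra.smul_def, ← Algebra.smul_def]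
    exact (h.pow n).smul c

lemma conv_apply_one (φ ψ : WithConv (A →ₗ[k] k)) : (φ * ψ) (1 : A) = φ 1 * ψ 1 := by
  rw [LinearMap.convMul_apply, Bialgebra.comul_one, Algebra.TensorProduct.one_def,
    TensorProduct.map_tmul, LinearMap.mul'_apply]

lemma one_apply_one : (1 : WithConv (A →ₗ[k] k)) (1 : A) = 1 := by
  rw [LinearMap.convOne_apply, Bialgebra.counit_one, map_one]

/-- evaluation at `1` as an algebra homomorphism. -/
noncomputable def evOne : WithConv (A →ₗ[k] k) →ₐ[k] k where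
  toFun φ := φ 1
  map_one' := one_apply_one
  map_mul' := conv_apply_one
  map_zero' := rfl
  map_add' _ _ := rfl
  commutes' c := by
    change (algebraMap k (WithConv (A →ₗ[k] k)) c) (1 : A) = c
    rw [LinearMap.convAlgebraMap_apply, Bialgebra.counit_one, map_one, smul_eq_mul, mul_one]

lemma evOne_apply (φ : WithConv (A →ₗ[k] k)) :
    (evOne : WithConv (A →ₗ[k] k) →ₐ[k] k) φ = φ 1 := rfl

/-- powers of an augmented functional vanish on the filtration. -/
lemma pow_mul_apply_eq_zero (μ : WithConv (A →ₗ[k] k)) (hμ : μ (1 : A) = 0) (N : ℕ) :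
    ∀ a ∈ fixFilt k A A N, ∀ σ : WithConv (A →ₗ[k] k), (μ ^ N * σ) a = 0 := by
  induction N with
  | zero =>
    intro a ha σ
    rw [fixFilt_zero, Submodule.mem_bot] at ha
    rw [ha]
    exact map_zero _
  | succ N ih =>
    intro a ha σ
    rw [fixFilt_succ, mem_nextFix] at ha
    obtain ⟨y, hy⟩ := ha
    change (fixFilt k A A N).subtype.rTensor A y =
      Coalgebra.comul (R := k) a - a ⊗ₜ[k] (1 : A) at hy
    have h1 : Coalgebra.comul (R := k) a = a ⊗ₜ[k] (1 : A) +
        (fixFilt k A A N).subtype.rTensor A y := by rw [hy]; abel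
    rw [pow_succ, mul_assoc, LinearMap.convMul_apply, h1, map_add, map_add,
      TensorProduct.map_tmul, LinearMap.mul'_apply]
    have h2 : (μ * σ) (1 : A) = 0 := by rw [conv_apply_one, hμ, zero_mul]
    have h2' : (μ * σ).ofConv (1 : A) = 0 := h2
    rw [h2', mul_zero, zero_add]
    have h3 : (μ ^ N).ofConv ∘ₗ (fixFilt k A A N).subtype = 0 := by
      apply LinearMap.ext
      intro b
      have := ih b b.2 1
      rw [mul_one] at this
      exact this
    rw [← LinearMap.comp_apply (TensorProduct.map (μ ^ N).ofConv (μ * σ).ofConv),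
      LinearMap.rTensor, ← TensorProduct.map_comp, h3, LinearMap.comp_id,
      TensorProduct.map_zero_left, LinearMap.zero_apply, map_zero]

open Polynomial in
lemma eqOn_aeval_zero (μ : WithConv (A →ₗ[k] k)) (hμ : μ (1 : A) = 0) (N : ℕ) (P : k[X])
    (hP : X ^ N ∣ P) : EqOn N (aeval μ P) 0 := by
  obtain ⟨W, rfl⟩ := hP
  intro a ha
  rw [map_mul, map_pow, aeval_X]
  exact pow_mul_apply_eq_zero μ hμ N a ha _

end Conv


section Root

open TensorProduct HopfRep Groth.Agent.Lib.Helper7.Comod WithConv Polynomial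

universe u v

variable {k : Type u} [Field k] {A : Type v} [CommRing A] [Bialgebra k A]
variable (e : ℕ) (he : (e : k) ≠ 0)

include he in
/-- a normalized functional is recovered from its `e`-th power. -/
lemma eqOn_aeval_pow (φ : WithConv (A →ₗ[k] k)) (hφ : φ (1 : A) = 1) (M : ℕ) :
    EqOn (M + 1) φ (aeval (φ ^ e - 1) (Qs (k := k) e M)) := by
  set μ := φ - 1 with hμ
  have hμ1 : μ (1 : A) = 0 := by
    change φ (1 : A) - (1 : WithConv (A →ₗ[k] k)) (1 : A) = 0
    rw [hφ, one_apply_one, sub_self]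
  have h1 := eqOn_aeval_zero μ hμ1 (M + 1) _ (Qs_comp e he M)
  have h2 : aeval μ ((Qs (k := k) e M).comp ((1 + X) ^ e - 1) - (1 + X)) =
      aeval (φ ^ e - 1) (Qs (k := k) e M) - φ := by
    rw [map_sub, aeval_comp, map_sub, map_pow, map_add, map_one, aeval_X, hμ]
    congr 2
    · congr 1
      rw [add_sub_cancel]
    · rw [add_sub_cancel]
  rw [h2] at h1
  intro a ha
  have := h1 a ha
  change (aeval (φ ^ e - 1) (Qs (k := k) e M)) a - φ a = 0 at this
  exact (sub_eq_zero.1 this).symm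

include he in
/-- uniqueness of normalized `e`-th roots. -/
theorem eq_of_pow_eq (hU : IsUnipotent k A) (φ ψ : WithConv (A →ₗ[k] k))
    (hφ : φ (1 : A) = 1) (hψ : ψ (1 : A) = 1) (h : φ ^ e = ψ ^ e) : φ = ψ := by
  apply WithConv.ofConv_injective
  apply LinearMap.ext
  intro a
  obtain ⟨N, hN⟩ := exists_mem_fixFilt_regular hU a
  have hN' : a ∈ fixFilt k A A (N + 1) := fixFilt_mono (Nat.le_succ N) hN
  have h1 := eqOn_aeval_pow e he φ hφ N a hN'
  have h2 := eqOn_aeval_pow e he ψ hψ N a hN'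
  rw [h] at h1
  exact h1.trans h2.symm

/-- the level of an element. -/
noncomputable def lev (hU : IsUnipotent k A) (a : A) : ℕ :=
  Classical.choose (exists_mem_fixFilt_regular hU a)

lemma mem_lev (hU : IsUnipotent k A) (a : A) : a ∈ fixFilt k A A (lev hU a + 1) :=
  fixFilt_mono (Nat.le_succ _) (Classical.choose_spec (exists_mem_fixFilt_regular hU a))

/-- the values of the truncated roots stabilize. -/
lemma aeval_Qs_apply_eq (ν : WithConv (A →ₗ[k] k)) (hν : ν (1 : A) = 0) {M N : ℕ} {a : A}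
    (ha : a ∈ fixFilt k A A (M + 1)) (ha' : a ∈ fixFilt k A A (N + 1)) :
    (aeval ν (Qs (k := k) e M)) a = (aeval ν (Qs (k := k) e N)) a := by
  wlog hMN : M ≤ N generalizing M N
  · exact (this ha' ha (le_of_not_ge hMN)).symm
  have h1 := eqOn_aeval_zero ν hν (M + 1) _ (Qs_sub_dvd e hMN)
  have h2 := h1 a ha
  rw [map_sub] at h2
  change (aeval ν (Qs (k := k) e N)) a - (aeval ν (Qs (k := k) e M)) a = 0 at h2
  exact (sub_eq_zero.1 h2).symm

/-- the `e`-th root functional. -/
noncomputable def rootFun (hU : IsUnipotent k A) (ν : WithConv (A →ₗ[k] k))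
    (hν : ν (1 : A) = 0) : A →ₗ[k] k where
  toFun a := (aeval ν (Qs (k := k) e (lev hU a))) a
  map_add' a b := by
    set N := max (max (lev hU a) (lev hU b)) (lev hU (a + b)) with hN
    have ha : a ∈ fixFilt k A A (N + 1) :=
      fixFilt_mono (by omega) (mem_lev hU a)
    have hb : b ∈ fixFilt k A A (N + 1) :=
      fixFilt_mono (by omega) (mem_lev hU b)
    have hab : a + b ∈ fixFilt k A A (N + 1) := Submodule.add_mem _ ha hb
    rw [aeval_Qs_apply_eq e ν hν (mem_lev hU (a + b)) hab,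
      aeval_Qs_apply_eq e ν hν (mem_lev hU a) ha, aeval_Qs_apply_eq e ν hν (mem_lev hU b) hb]
    exact map_add (aeval ν (Qs (k := k) e N)).ofConv a b
  map_smul' c a := by
    have ha : c • a ∈ fixFilt k A A (lev hU a + 1) := Submodule.smul_mem _ c (mem_lev hU a)
    rw [aeval_Qs_apply_eq e ν hν (mem_lev hU (c • a)) ha]
    exact map_smul (aeval ν (Qs (k := k) e (lev hU a))).ofConv c a

lemma rootFun_apply (hU : IsUnipotent k A) (ν : WithConv (A →ₗ[k] k)) (hν : ν (1 : A) = 0)
    {N : ℕ} {a : A} (ha : a ∈ fixFilt k A A (N + 1)) :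
    rootFun e hU ν hν a = (aeval ν (Qs (k := k) e N)) a :=
  aeval_Qs_apply_eq e ν hν (mem_lev hU a) ha

include he in
/-- existence of normalized `e`-th roots. -/
theorem exists_root (hU : IsUnipotent k A) (h : WithConv (A →ₗ[k] k)) (hh : h (1 : A) = 1) :
    ∃ g : WithConv (A →ₗ[k] k), g (1 : A) = 1 ∧ g ^ e = h := by
  set ν := h - 1 with hν
  have hν1 : ν (1 : A) = 0 := by
    change h (1 : A) - (1 : WithConv (A →ₗ[k] k)) (1 : A) = 0
    rw [hh, one_apply_one, sub_self]
  set g : WithConv (A →ₗ[k] k) := toConv (rootFun e hU ν hν1) with hg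
  have hgN : ∀ N, EqOn (N + 1) g (aeval ν (Qs (k := k) e N)) := by
    intro N a ha
    exact rootFun_apply e hU ν hν1 ha
  refine ⟨g, ?_, ?_⟩
  · have h1 : (1 : A) ∈ fixFilt k A A (0 + 1) :=
      Groth.Agent.Lib.Helper7.UnipPart.one_mem_fixFilt_one
    rw [hgN 0 1 h1, Qs_zero]
    have : aeval ν (1 : k[X]) = 1 := map_one _
    rw [this]
    exact one_apply_one
  · apply WithConv.ofConv_injective
    apply LinearMap.ext
    intro a
    have ha := mem_lev hU a
    set N := lev hU a
    have h1 := (hgN N).pow e a ha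
    change (g ^ e) a = h a
    rw [h1, ← map_pow]
    obtain ⟨W, hW⟩ := Qs_spec e he N
    have h2 : (Qs (k := k) e N) ^ e = (1 + X) + X ^ (N + 1) * W := by rw [← hW]; ring
    rw [h2, map_add]
    have h3 := eqOn_aeval_zero ν hν1 (N + 1) (X ^ (N + 1) * W) (dvd_mul_right _ _) a ha
    change (aeval ν (1 + X)) a + (aeval ν (X ^ (N + 1) * W)) a = h a
    rw [h3, map_add, map_one, aeval_X, hν]
    rw [add_sub_cancel]
    exact add_zero _

end Root


section Incl

open TensorProduct

universe u v w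

variable {k : Type u} [Field k] {A : Type v} [CommRing A] [Bialgebra k A]
  {B : Type w} [CommRing B] [Bialgebra k B]

/-- `a ↦ a ⊗ 1` as a bialgebra homomorphism. -/
noncomputable def inlB : A →ₐc[k] A ⊗[k] B :=
  BialgHom.ofAlgHom Algebra.TensorProduct.includeLeft
    (by
      apply AlgHom.ext
      intro a
      change Coalgebra.counit (R := k) (a ⊗ₜ[k] (1 : B)) = Coalgebra.counit (R := k) a
      rw [TensorProduct.counit_tmul, Bialgebra.counit_one, smul_eq_mul, one_mul])
    (by
      apply AlgHom.ext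
      intro a
      change Algebra.TensorProduct.map _ _ (Coalgebra.comul (R := k) a) =
        Coalgebra.comul (R := k) (a ⊗ₜ[k] (1 : B))
      rw [TensorProduct.comul_tmul, Bialgebra.comul_one, Algebra.TensorProduct.one_def]
      generalize Coalgebra.comul (R := k) a = z
      induction z using TensorProduct.induction_on with
      | zero => simp
      | tmul x y => simp
      | add x y hx hy => simp only [map_add, TensorProduct.add_tmul, hx, hy])

/-- `b ↦ 1 ⊗ b` as a bialgebra homomorphism. -/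
noncomputable def inrB : B →ₐc[k] A ⊗[k] B :=
  BialgHom.ofAlgHom Algebra.TensorProduct.includeRight
    (by
      apply AlgHom.ext
      intro b
      change Coalgebra.counit (R := k) ((1 : A) ⊗ₜ[k] b) = Coalgebra.counit (R := k) b
      rw [TensorProduct.counit_tmul, Bialgebra.counit_one, smul_eq_mul, mul_one])
    (by
      apply AlgHom.ext
      intro b
      change Algebra.TensorProduct.map _ _ (Coalgebra.comul (R := k) b) =
        Coalgebra.comul (R := k) ((1 : A) ⊗ₜ[k] b)
      rw [TensorProduct.comul_tmul, Bialgebra.comul_one, Algebra.TensorProduct.one_def]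
      generalize Coalgebra.comul (R := k) b = z
      induction z using TensorProduct.induction_on with
      | zero => simp
      | tmul x y => simp
      | add x y hx hy => simp only [map_add, TensorProduct.tmul_add, hx, hy])

lemma inlB_apply (a : A) : (inlB : A →ₐc[k] A ⊗[k] B) a = a ⊗ₜ[k] (1 : B) := rfl
lemma inrB_apply (b : B) : (inrB : B →ₐc[k] A ⊗[k] B) b = (1 : A) ⊗ₜ[k] b := rfl

end Incl

section Tensor

open TensorProduct HopfRep Groth.Agent.Lib.Helper7.Comod WithConv

universe u v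

variable {k : Type u} [Field k] {A : Type v} [CommRing A] [Bialgebra k A]

/-- the product of two unipotent groups is unipotent. -/
theorem isUnipotent_tensor (hU : IsUnipotent k A) : IsUnipotent k (A ⊗[k] A) := by
  apply Groth.Agent.Lib.Helper7.UnipPart.isUnipotent_of_forall_mem_unipSub
    (BialgHom.id k (A ⊗[k] A)) Function.injective_id
  intro z
  change z ∈ Groth.Agent.Lib.Helper7.UnipPart.unipSub k (A ⊗[k] A)
  induction z using TensorProduct.induction_on with
  | zero => exact zero_mem _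
  | tmul a b =>
    have h1 : a ⊗ₜ[k] b = (inlB : A →ₐc[k] A ⊗[k] A) a * (inrB : A →ₐc[k] A ⊗[k] A) b := by
      rw [inlB_apply, inrB_apply, Algebra.TensorProduct.tmul_mul_tmul, mul_one, one_mul]
    rw [h1]
    exact mul_mem
      (Groth.Agent.Lib.Helper7.UnipPart.map_mem_unipSub (inlB : A →ₐc[k] A ⊗[k] A) hU a)
      (Groth.Agent.Lib.Helper7.UnipPart.map_mem_unipSub (inrB : A →ₐc[k] A ⊗[k] A) hU b)
  | add x y hx hy => exact add_mem hx hy

/-- the external product of two functionals. -/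
noncomputable def Psi (φ ψ : WithConv (A →ₗ[k] k)) : WithConv (A ⊗[k] A →ₗ[k] k) :=
  toConv ((LinearMap.mul' k k) ∘ₗ (TensorProduct.map φ.ofConv ψ.ofConv))

lemma Psi_apply_tmul (φ ψ : WithConv (A →ₗ[k] k)) (a b : A) :
    Psi φ ψ (a ⊗ₜ[k] b) = φ a * ψ b := rfl

lemma Psi_mul (φ ψ φ' ψ' : WithConv (A →ₗ[k] k)) :
    Psi φ ψ * Psi φ' ψ' = Psi (φ * φ') (ψ * ψ') := by
  have h1 := TensorProduct.map_convMul_map (R := k) (f := φ) (h := φ') (g := ψ) (k := ψ')
  have h2 := LinearMap.algHom_comp_convMul_distrib (R := k) (C := A ⊗[k] A)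
    (Algebra.TensorProduct.lmul' k (S := k))
    (toConv (TensorProduct.map φ.ofConv ψ.ofConv)) (toConv (TensorProduct.map φ'.ofConv ψ'.ofConv))
  rw [h1] at h2
  apply WithConv.ofConv_injective
  exact h2.symm

lemma Psi_pow (φ ψ : WithConv (A →ₗ[k] k)) (m : ℕ) : Psi φ ψ ^ m = Psi (φ ^ m) (ψ ^ m) := by
  induction m with
  | zero =>
    rw [pow_zero, pow_zero, pow_zero]
    apply WithConv.ofConv_injective
    apply TensorProduct.ext'
    intro a b
    change (1 : WithConv (A ⊗[k] A →ₗ[k] k)) (a ⊗ₜ[k] b) = Psi 1 1 (a ⊗ₜ[k] b)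
    rw [Psi_apply_tmul, LinearMap.convOne_apply, LinearMap.convOne_apply, LinearMap.convOne_apply,
      TensorProduct.counit_tmul]
    simp [mul_comm]
  | succ m ih => rw [pow_succ, pow_succ, pow_succ, ih, Psi_mul]

/-- precomposition with the multiplication. -/
noncomputable def compMul (φ : WithConv (A →ₗ[k] k)) : WithConv (A ⊗[k] A →ₗ[k] k) :=
  toConv (φ.ofConv ∘ₗ (Bialgebra.mulCoalgHom k A).toLinearMap)

lemma compMul_apply_tmul (φ : WithConv (A →ₗ[k] k)) (a b : A) :
    compMul φ (a ⊗ₜ[k] b) = φ (a * b) := rfl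

lemma compMul_mul (φ ψ : WithConv (A →ₗ[k] k)) : compMul (φ * ψ) = compMul φ * compMul ψ := by
  apply WithConv.ofConv_injective
  exact LinearMap.convMul_comp_coalgHom_distrib φ ψ (Bialgebra.mulCoalgHom k A)

lemma compMul_pow (φ : WithConv (A →ₗ[k] k)) (m : ℕ) : compMul (φ ^ m) = compMul φ ^ m := by
  induction m with
  | zero =>
    rw [pow_zero, pow_zero]
    apply WithConv.ofConv_injective
    apply TensorProduct.ext'
    intro a b
    change compMul 1 (a ⊗ₜ[k] b) = (1 : WithConv (A ⊗[k] A →ₗ[k] k)) (a ⊗ₜ[k] b)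
    rw [compMul_apply_tmul, LinearMap.convOne_apply, LinearMap.convOne_apply,
      TensorProduct.counit_tmul, Bialgebra.counit_mul]
    simp [mul_comm]
  | succ m ih => rw [pow_succ, pow_succ, compMul_mul, ih]

variable (e : ℕ) (he : (e : k) ≠ 0)

include he in
/-- **the `e`-th power map on the points of a unipotent group is bijective** when `e` is
invertible in `k`. -/
theorem pow_bijective (hU : IsUnipotent k A) :
    Function.Bijective fun g : WithConv (A →ₐ[k] k) => g ^ e := by
  constructor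
  · intro g g' hgg'
    have h1 : toConv (g ^ e).ofConv.toLinearMap = toConv (g' ^ e).ofConv.toLinearMap := by
      change g ^ e = g' ^ e at hgg'
      rw [hgg']
    rw [AlgHom.toLinearMap_convPow, AlgHom.toLinearMap_convPow] at h1
    have h2 := eq_of_pow_eq e he hU _ _ (map_one g.ofConv) (map_one g'.ofConv) h1
    apply WithConv.ofConv_injective
    apply AlgHom.toLinearMap_injective
    exact congrArg WithConv.ofConv h2
  · intro h
    obtain ⟨g, hg1, hge⟩ := exists_root e he hU (toConv h.ofConv.toLinearMap) (map_one h.ofConv)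
    -- `g` is multiplicative
    have hmul : compMul g = Psi g g := by
      apply eq_of_pow_eq e he (isUnipotent_tensor hU)
      · change compMul g ((1 : A) ⊗ₜ[k] (1 : A)) = 1
        rw [compMul_apply_tmul, mul_one, hg1]
      · change Psi g g ((1 : A) ⊗ₜ[k] (1 : A)) = 1
        rw [Psi_apply_tmul, hg1, mul_one]
      · rw [← compMul_pow, Psi_pow, hge]
        apply WithConv.ofConv_injective
        apply TensorProduct.ext'
        intro a b
        change h.ofConv (a * b) = h.ofConv a * h.ofConv b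
        exact map_mul h.ofConv a b
    let g₀ : A →ₐ[k] k := AlgHom.ofLinearMap g.ofConv hg1 (by
      intro a b
      have := congrArg (fun F : WithConv (A ⊗[k] A →ₗ[k] k) => F (a ⊗ₜ[k] b)) hmul
      exact this)
    refine ⟨toConv g₀, ?_⟩
    apply WithConv.ofConv_injective
    apply AlgHom.toLinearMap_injective
    have h1 : toConv ((toConv g₀ : WithConv (A →ₐ[k] k)) ^ e).ofConv.toLinearMap =
        (toConv g₀.toLinearMap) ^ e := AlgHom.toLinearMap_convPow _ _
    have h2 : (toConv g₀.toLinearMap : WithConv (A →ₗ[k] k)) = g := rfl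
    rw [h2, hge] at h1
    exact congrArg WithConv.ofConv h1

end Tensor

end Groth.Agent.Lib.Helper7.UnipRoot
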