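import Groth.Agent.Lib.Helper7.ComodSubquot
import Mathlib.LinearAlgebra.BilinearForm.Orthogonal
import Mathlib.LinearAlgebra.Basis.Prod

/-!
# An algebraic form of the unitarian trick (helper7)

A comodule with a basis whose matrix of coefficients is carried to its transpose by an injective
linear endomorphism of the coordinate ring is semisimple, over a formally real (ordered) field.
-/

universe u v w w'

open TensorProduct

namespace Groth.Agent.Lib.Helper7.Unitarian

open HopfRep ComodTens Groth.Agent.Lib.Helper7.Comod Groth.Agent.Lib.Helper7.Subquot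

section Coeff

variable {k : Type u} [Field k] {A : Type v} [CommRing A] [Bialgebra k A]
variable {V : Type w} [AddCommGroup V] [Module k V]
variable {ι : Type*} [Fintype ι] [DecidableEq ι]

/-- the matrix coefficients of a comodule structure in a basis. -/
noncomputable def cm (c : Comod k A V) (b : Module.Basis ι k V) (i j : ι) : A :=
  contrL A (b.coord i) (c.coact (b j))

lemma sum_tmul_contrL (b : Module.Basis ι k V) (x : V ⊗[k] A) :
    ∑ i, b i ⊗ₜ[k] contrL A (b.coord i) x = x := by
  induction x using TensorProduct.induction_on with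
  | zero => simp
  | add x y hx hy =>
    simp only [map_add, TensorProduct.tmul_add, Finset.sum_add_distrib, hx, hy]
  | tmul v a =>
    simp only [contrL_tmul, Module.Basis.coord_apply]
    conv_rhs => rw [← b.sum_repr v, TensorProduct.sum_tmul]
    apply Finset.sum_congr rfl
    intro i _
    rw [TensorProduct.smul_tmul]

lemma coact_basis (c : Comod k A V) (b : Module.Basis ι k V) (j : ι) :
    c.coact (b j) = ∑ i, b i ⊗ₜ[k] cm c b i j :=
  (sum_tmul_contrL b _).symm

lemma coact_eq_sum (c : Comod k A V) (b : Module.Basis ι k V) (v : V) :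
    c.coact v = ∑ j, ∑ i, b i ⊗ₜ[k] (b.repr v j • cm c b i j) := by
  conv_lhs => rw [← b.sum_repr v]
  rw [map_sum]
  apply Finset.sum_congr rfl
  intro j _
  rw [map_smul, coact_basis, Finset.smul_sum]
  apply Finset.sum_congr rfl
  intro i _
  rw [TensorProduct.tmul_smul]

end Coeff

section Main

variable {k : Type u} [Field k] [LinearOrder k] [IsStrictOrderedRing k]
variable {A : Type v} [CommRing A] [Bialgebra k A]
variable {V : Type w} [AddCommGroup V] [Module k V]
variable {ι : Type*} [Fintype ι] [DecidableEq ι]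

/-- the dot product in a basis. -/
noncomputable def dot (b : Module.Basis ι k V) : LinearMap.BilinForm k V :=
  LinearMap.mk₂ k (fun v w => ∑ i, b.repr v i * b.repr w i)
    (by intro v v' w; simp [add_mul, Finset.sum_add_distrib])
    (by intro c v w; simp [Finset.mul_sum, mul_assoc])
    (by intro v w w'; simp [mul_add, Finset.sum_add_distrib])
    (by intro c v w; simp [Finset.mul_sum, mul_left_comm])

lemma dot_apply (b : Module.Basis ι k V) (v w : V) :
    dot b v w = ∑ i, b.repr v i * b.repr w i := rfl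

lemma dot_comm (b : Module.Basis ι k V) (v w : V) : dot b v w = dot b w v := by
  rw [dot_apply, dot_apply]
  exact Finset.sum_congr rfl (fun i _ => mul_comm _ _)

lemma dot_basis (b : Module.Basis ι k V) (w : V) (i : ι) : dot b w (b i) = b.repr w i := by
  rw [dot_apply]
  simp [Finsupp.single_apply]

lemma dot_self_eq_zero (b : Module.Basis ι k V) {v : V} (h : dot b v v = 0) : v = 0 := by
  rw [dot_apply] at h
  have h2 := (Finset.sum_eq_zero_iff_of_nonneg (fun i _ => mul_self_nonneg (b.repr v i))).1 h
  apply b.ext_elem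
  intro i
  rw [map_zero, Finsupp.zero_apply]
  exact mul_self_eq_zero.1 (h2 i (Finset.mem_univ i))

lemma contrL_dot_coact (c : Comod k A V) (b : Module.Basis ι k V) (v w : V) :
    contrL A (dot b w) (c.coact v) = ∑ j, ∑ i, (b.repr w i * b.repr v j) • cm c b i j := by
  rw [coact_eq_sum c b v, map_sum]
  apply Finset.sum_congr rfl
  intro j _
  rw [map_sum]
  apply Finset.sum_congr rfl
  intro i _
  rw [contrL_tmul, dot_basis, smul_smul]

/-- the key symmetry. -/
lemma tau_contrL_dot (c : Comod k A V) (b : Module.Basis ι k V) (τ : A →ₗ[k] A)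
    (hτ : ∀ i j, τ (cm c b i j) = cm c b j i) (v w : V) :
    τ (contrL A (dot b w) (c.coact v)) = contrL A (dot b v) (c.coact w) := by
  rw [contrL_dot_coact, contrL_dot_coact, map_sum, Finset.sum_comm]
  apply Finset.sum_congr rfl
  intro i _
  rw [map_sum]
  apply Finset.sum_congr rfl
  intro j _
  rw [map_smul, hτ, mul_comm]

/-- **Unitarian trick**: a comodule which is "orthogonal" for an injective linear map `τ`
is semisimple. -/
theorem isSemisimpleComod_of_orth (c : Comod k A V) (b : Module.Basis ι k V) (τ : A →ₗ[k] A)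
    (hinj : Function.Injective τ) (hτ : ∀ i j, τ (cm c b i j) = cm c b j i) :
    @IsSemisimpleComod k A _ _ _ _ V _ _ c := by
  haveI : Module.Finite k V := Module.Finite.of_basis b
  intro W hW
  have hrefl : (dot b).IsRefl := fun v w h => by rw [dot_comm]; exact h
  refine ⟨(dot b).orthogonal W, ?_, ?_⟩
  · intro v hv
    letI := c
    rw [mem_range_rTensor_iff_contr]
    intro f
    rw [LinearMap.BilinForm.mem_orthogonal_iff]
    intro w hw
    change dot b w (contr V f (c.coact v)) = 0
    rw [← apply_contrL_eq]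
    have h0 : contrL A (dot b w) (c.coact v) = 0 := by
      apply hinj
      rw [map_zero, tau_contrL_dot c b τ hτ]
      obtain ⟨y, hy⟩ := hW w hw
      change _ = c.coact w at hy
      rw [← hy, contrL_rTensor]
      have hz : dot b v ∘ₗ W.subtype = 0 := by
        apply LinearMap.ext
        intro x
        change dot b v x = 0
        rw [dot_comm]
        exact (LinearMap.BilinForm.mem_orthogonal_iff.1 hv) x x.2
      rw [hz]
      simp [contrL]
    rw [h0, map_zero]
  · rw [LinearMap.BilinForm.isCompl_orthogonal_iff_disjoint hrefl, Submodule.disjoint_def]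
    intro x hx hx'
    exact dot_self_eq_zero b ((LinearMap.BilinForm.mem_orthogonal_iff.1 hx') x hx)

end Main

section Closure

variable {k : Type u} [Field k] {A : Type v} [CommRing A] [Bialgebra k A]
variable {V : Type w} [AddCommGroup V] [Module k V] {W : Type w'} [AddCommGroup W] [Module k W]

/-- a comodule structure admitting a basis in which `τ` transposes the matrix of coefficients. -/
def IsOrth (τ : A →ₐ[k] A) (c : Comod k A V) : Prop :=
  ∃ (ι : Type) (_ : Fintype ι) (_ : DecidableEq ι) (b : Module.Basis ι k V),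
    ∀ i j, τ (cm c b i j) = cm c b j i

variable {τ : A →ₐ[k] A}

lemma cm_ofEquiv {ι : Type*} [Fintype ι] [DecidableEq ι] (e : V ≃ₗ[k] W) (c : Comod k A V)
    (b : Module.Basis ι k V) (i j : ι) : cm (Comod.ofEquiv e c) (b.map e) i j = cm c b i j := by
  unfold cm
  rw [Module.Basis.map_apply, ofEquiv_coact_apply, contrL_rTensor]
  congr 2
  apply LinearMap.ext
  intro v
  rw [LinearMap.comp_apply, Module.Basis.coord_apply, Module.Basis.coord_apply,
    Module.Basis.map_repr]
  simp

lemma IsOrth.ofEquiv (e : V ≃ₗ[k] W) {c : Comod k A V} (h : IsOrth τ c) :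
    IsOrth τ (Comod.ofEquiv e c) := by
  obtain ⟨ι, hF, hD, b, hb⟩ := h
  refine ⟨ι, hF, hD, b.map e, fun i j => ?_⟩
  rw [cm_ofEquiv, cm_ofEquiv, hb]

lemma cm_tensor {ι ι' : Type*} [Fintype ι] [DecidableEq ι] [Fintype ι'] [DecidableEq ι']
    (c : Comod k A V) (d : Comod k A W) (b : Module.Basis ι k V) (b' : Module.Basis ι' k W)
    (p q : ι × ι') :
    cm (Comod.tensor c d) (b.tensorProduct b') p q = cm c b p.1 q.1 * cm d b' p.2 q.2 := by
  unfold cm
  rw [Module.Basis.tensorProduct_apply, ← contrL_tensor]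
  congr 2
  apply (b.tensorProduct b').ext
  intro r
  rw [Module.Basis.tensorProduct_apply, LinearMap.comp_apply, TensorProduct.map_tmul,
    LinearMap.mul'_apply, Module.Basis.coord_apply, Module.Basis.coord_apply,
    Module.Basis.coord_apply, ← Module.Basis.tensorProduct_apply b b' r.1 r.2,
    Module.Basis.repr_self, Module.Basis.repr_self, Module.Basis.repr_self]
  simp only [Finsupp.single_apply]
  by_cases h1 : r.1 = p.1
  · by_cases h2 : r.2 = p.2
    · have : r = p := Prod.ext h1 h2
      simp [this]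
    · have : r ≠ p := fun h => h2 (by rw [h])
      simp [h2, this]
  · have : r ≠ p := fun h => h1 (by rw [h])
    simp [h1, this]

lemma IsOrth.tensor {c : Comod k A V} {d : Comod k A W} (h : IsOrth τ c) (h' : IsOrth τ d) :
    IsOrth τ (Comod.tensor c d) := by
  obtain ⟨ι, hF, hD, b, hb⟩ := h
  obtain ⟨ι', hF', hD', b', hb'⟩ := h'
  refine ⟨ι × ι', inferInstance, inferInstance, b.tensorProduct b', fun p q => ?_⟩
  rw [cm_tensor, cm_tensor, map_mul, hb, hb']

lemma IsOrth.trivial : IsOrth τ (Comod.trivial k A k) := by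
  refine ⟨Unit, inferInstance, inferInstance, Module.Basis.singleton Unit k, fun i j => ?_⟩
  unfold cm
  rw [trivial_coact_apply, contrL_tmul]
  simp

lemma IsOrth.ofGroupLike {g : A} (hg : IsGroupLikeElem k g) (hτ : τ g = g) :
    IsOrth τ (Comod.ofGroupLike g hg) := by
  refine ⟨Unit, inferInstance, inferInstance, Module.Basis.singleton Unit k, fun i j => ?_⟩
  unfold cm
  rw [ofGroupLike_coact, contrL_tmul]
  simp [hτ]

lemma IsOrth.tpow {c : Comod k A V} (h : IsOrth τ c) (m : ℕ) : IsOrth τ (Comod.tpow c m) := by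
  induction m with
  | zero => rw [tpow_zero]; exact IsOrth.trivial.ofEquiv _
  | succ m ih => rw [tpow_succ]; exact (ih.tensor (h.ofEquiv _)).ofEquiv _

lemma cm_prod_inl_inl {ι ι' : Type*} [Fintype ι] [DecidableEq ι] [Fintype ι'] [DecidableEq ι']
    (c : Comod k A V) (d : Comod k A W) (b : Module.Basis ι k V) (b' : Module.Basis ι' k W)
    (i j : ι) : cm (Comod.prod c d) (b.prod b') (Sum.inl i) (Sum.inl j) = cm c b i j := by
  unfold cm
  have h1 : b.prod b' (Sum.inl j) = (b j, 0) := by
    rw [Module.Basis.prod_apply]; rfl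
  rw [h1, prod_coact, map_zero, map_zero, add_zero, contrL_rTensor]
  congr 2

lemma cm_prod_inr_inr {ι ι' : Type*} [Fintype ι] [DecidableEq ι] [Fintype ι'] [DecidableEq ι']
    (c : Comod k A V) (d : Comod k A W) (b : Module.Basis ι k V) (b' : Module.Basis ι' k W)
    (i j : ι') : cm (Comod.prod c d) (b.prod b') (Sum.inr i) (Sum.inr j) = cm d b' i j := by
  unfold cm
  have h1 : b.prod b' (Sum.inr j) = (0, b' j) := by
    rw [Module.Basis.prod_apply]; rfl
  rw [h1, prod_coact, map_zero, map_zero, zero_add, contrL_rTensor]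
  congr 2

lemma cm_prod_inl_inr {ι ι' : Type*} [Fintype ι] [DecidableEq ι] [Fintype ι'] [DecidableEq ι']
    (c : Comod k A V) (d : Comod k A W) (b : Module.Basis ι k V) (b' : Module.Basis ι' k W)
    (i : ι) (j : ι') : cm (Comod.prod c d) (b.prod b') (Sum.inl i) (Sum.inr j) = 0 := by
  unfold cm
  have h1 : b.prod b' (Sum.inr j) = (0, b' j) := by
    rw [Module.Basis.prod_apply]; rfl
  rw [h1, prod_coact, map_zero, map_zero, zero_add, contrL_rTensor]
  have h2 : (b.prod b').coord (Sum.inl i) ∘ₗ LinearMap.inr k V W = 0 := by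
    apply LinearMap.ext
    intro w
    simp [Module.Basis.coord_apply]
  rw [h2]
  simp [contrL]

lemma cm_prod_inr_inl {ι ι' : Type*} [Fintype ι] [DecidableEq ι] [Fintype ι'] [DecidableEq ι']
    (c : Comod k A V) (d : Comod k A W) (b : Module.Basis ι k V) (b' : Module.Basis ι' k W)
    (i : ι') (j : ι) : cm (Comod.prod c d) (b.prod b') (Sum.inr i) (Sum.inl j) = 0 := by
  unfold cm
  have h1 : b.prod b' (Sum.inl j) = (b j, 0) := by
    rw [Module.Basis.prod_apply]; rfl
  rw [h1, prod_coact, map_zero, map_zero, add_zero, contrL_rTensor]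
  have h2 : (b.prod b').coord (Sum.inr i) ∘ₗ LinearMap.inl k V W = 0 := by
    apply LinearMap.ext
    intro w
    simp [Module.Basis.coord_apply]
  rw [h2]
  simp [contrL]

lemma IsOrth.prod {c : Comod k A V} {d : Comod k A W} (h : IsOrth τ c) (h' : IsOrth τ d) :
    IsOrth τ (Comod.prod c d) := by
  obtain ⟨ι, hF, hD, b, hb⟩ := h
  obtain ⟨ι', hF', hD', b', hb'⟩ := h'
  refine ⟨ι ⊕ ι', inferInstance, inferInstance, b.prod b', fun p q => ?_⟩
  rcases p with i | i <;> rcases q with j | j
  · rw [cm_prod_inl_inl, cm_prod_inl_inl, hb]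
  · rw [cm_prod_inl_inr, cm_prod_inr_inl, map_zero]
  · rw [cm_prod_inr_inl, cm_prod_inl_inr, map_zero]
  · rw [cm_prod_inr_inr, cm_prod_inr_inr, hb']

section Pi

variable {η : Type} [Fintype η] [DecidableEq η] {X : η → Type w} [∀ i, AddCommGroup (X i)]
  [∀ i, Module k (X i)] {ιs : η → Type} [∀ j, Fintype (ιs j)] [∀ j, DecidableEq (ιs j)]

lemma cm_pi_same (c : ∀ j, Comod k A (X j)) (s : ∀ j, Module.Basis (ιs j) k (X j)) (j : η)
    (i i' : ιs j) : cm (Comod.pi c) (Pi.basis s) ⟨j, i⟩ ⟨j, i'⟩ = cm (c j) (s j) i i' := by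
  unfold cm
  rw [Pi.basis_apply, pi_coact_single, contrL_rTensor]
  congr 2
  apply LinearMap.ext
  intro x
  rw [LinearMap.comp_apply, Module.Basis.coord_apply, Module.Basis.coord_apply, Pi.basis_repr]
  simp

lemma cm_pi_ne (c : ∀ j, Comod k A (X j)) (s : ∀ j, Module.Basis (ιs j) k (X j)) {j j' : η}
    (h : j ≠ j') (i : ιs j) (i' : ιs j') : cm (Comod.pi c) (Pi.basis s) ⟨j, i⟩ ⟨j', i'⟩ = 0 := by
  unfold cm
  rw [Pi.basis_apply, pi_coact_single, contrL_rTensor]
  have h2 : (Pi.basis s).coord ⟨j, i⟩ ∘ₗ LinearMap.single k X j' = 0 := by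
    apply LinearMap.ext
    intro x
    rw [LinearMap.comp_apply, Module.Basis.coord_apply, Pi.basis_repr]
    simp [Pi.single_eq_of_ne h]
  rw [h2]
  simp [contrL]

lemma IsOrth.pi {c : ∀ j, Comod k A (X j)} (h : ∀ j, IsOrth τ (c j)) :
    IsOrth τ (Comod.pi c) := by
  choose ιs hF hD s hs using h
  letI := hF
  letI := hD
  refine ⟨Σ j, ιs j, inferInstance, inferInstance, Pi.basis s, ?_⟩
  rintro ⟨j, i⟩ ⟨j', i'⟩
  by_cases hj : j = j'
  · subst hj
    rw [cm_pi_same, cm_pi_same, hs]
  · rw [cm_pi_ne c s hj, cm_pi_ne c s (Ne.symm hj), map_zero]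

end Pi

end Closure

section Subquot

variable {k : Type u} [Field k] {A : Type v} [CommRing A] [Bialgebra k A]
variable {U : Type w} [AddCommGroup U] [Module k U] {W : Type w'} [AddCommGroup W] [Module k W]

/-- a subquotient of a semisimple comodule is semisimple (explicit structures). -/
theorem isSemisimpleComod_of_subquotient (cU : Comod k A U) (σ : Comod k A W)
    (hU : @IsSemisimpleComod k A _ _ _ _ U _ _ cU)
    (E' : Submodule k U) (τ' : E' →ₗ[k] E' ⊗[k] A) (q : E' →ₗ[k] W)
    (hq : Function.Surjective q)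
    (h1 : (E'.subtype.rTensor A) ∘ₗ τ' = cU.coact ∘ₗ E'.subtype)
    (h2 : (q.rTensor A) ∘ₗ τ' = σ.coact ∘ₗ q) :
    @IsSemisimpleComod k A _ _ _ _ W _ _ σ := by
  have hE' : @IsSubcomod k A _ _ _ _ U _ _ cU E' := by
    intro x hx
    exact ⟨τ' ⟨x, hx⟩, LinearMap.congr_fun h1 ⟨x, hx⟩⟩
  let cE' : Comod k A E' := ComodSub.Comod.restr cU E' hE'
  have hinj : Function.Injective (E'.subtype.rTensor A) :=
    Module.Flat.rTensor_preserves_injective_linearMap _ (Submodule.injective_subtype E')
  have hτ : cE'.coact = τ' := by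
    apply LinearMap.ext
    intro x
    apply hinj
    rw [ComodSub.restr_coact_coe cU E' hE' x]
    exact (LinearMap.congr_fun h1 x).symm
  have hsub : @Hoch.IsComodHom k _ A _ _ _ E' _ _ cE' U _ _ cU E'.subtype := by
    apply LinearMap.ext
    intro x
    exact (ComodSub.restr_coact_coe cU E' hE' x).symm
  have hE'ss : @IsSemisimpleComod k A _ _ _ _ E' _ _ cE' := by
    letI := cU
    letI := cE'
    exact isSemisimpleComod_of_injective (k := k) (C := A) hsub (Submodule.injective_subtype E') hU
  have hqh : @Hoch.IsComodHom k _ A _ _ _ E' _ _ cE' W _ _ σ q := by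
    change σ.coact ∘ₗ q = q.rTensor A ∘ₗ cE'.coact
    rw [hτ, h2]
  letI := σ
  letI := cE'
  exact isSemisimpleComod_of_surjective (k := k) (C := A) hqh hq hE'ss

end Subquot

section LR

variable {k : Type u} [Field k] [LinearOrder k] [IsStrictOrderedRing k]
variable {A : Type u} [CommRing A] [Bialgebra k A]
variable {E : Type u} [AddCommGroup E] [Module k E]

/-- **Unitarian trick, global form**: if the coordinate ring is spanned by the coefficient spaces
of the tensor powers of an orthogonal comodule, the group is linearly reductive. -/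
theorem isLinearlyReductive_of_isOrth (cE : Comod k A E) (τ : A →ₐ[k] A)
    (hinj : Function.Injective τ) (hE : IsOrth τ cE) (h : ⨆ m, cf (Comod.tpow cE m) = ⊤) :
    IsLinearlyReductive k A := by
  intro V _ _ cV _
  obtain ⟨b, m, E', τ', q, hq, h1, h2⟩ := exists_subquotient cE cV h
  have hO : IsOrth τ (Comod.pi fun i : Fin b => Comod.tpow cE (m i)) :=
    IsOrth.pi (fun i => hE.tpow (m i))
  obtain ⟨ι, hF, hD, bb, hbb⟩ := hO
  have hss := isSemisimpleComod_of_orth _ bb τ.toLinearMap hinj hbb
  exact isSemisimpleComod_of_subquotient _ cV hss E' τ' q hq h1 h2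

end LR

end Groth.Agent.Lib.Helper7.Unitarian
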