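import Mathlib

/-!
# Chevalley's extension theorem (pairs (subalgebra, map to an algebraically closed field))

`k` algebraically closed, `L` a field over `k`.  A pair (subalgebra `S ⊆ L`, algebra map `S → k`) is encoded by its
graph, a subalgebra `T` of `L × k` not containing `(0, 1)`.  A maximal such `T` is the graph of a map from a
valuation ring of `L` whose kernel is the maximal ideal (Atiyah–Macdonald 5.19–5.21).
-/

namespace Groth.Agent.Lib.Helper7.VC

open Polynomial

variable {k L : Type*} [Field k] [Field L] [Algebra k L]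

/-- admissible graphs -/
def Adm (T : Subalgebra k (L × k)) : Prop := ((0 : L), (1 : k)) ∉ T

theorem snd_unique {T : Subalgebra k (L × k)} (hT : Adm T) {s : L} {c c' : k}
    (h : (s, c) ∈ T) (h' : (s, c') ∈ T) : c = c' := by
  by_contra hne
  have hd : c - c' ≠ 0 := sub_ne_zero.mpr hne
  have h1 : ((0 : L), c - c') ∈ T := by
    have := T.sub_mem h h'
    simpa using this
  have h2 : (c - c')⁻¹ • ((0 : L), c - c') ∈ T := T.smul_mem h1 _
  apply hT
  have e : (c - c')⁻¹ • ((0 : L), c - c') = ((0 : L), (1 : k)) := by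
    ext
    · simp
    · simp [inv_mul_cancel₀ hd]
  rw [← e]; exact h2

theorem one_one_mem (T : Subalgebra k (L × k)) : ((1 : L), (1 : k)) ∈ T := T.one_mem

/-- a proper ideal of `k[X]`, `k` algebraically closed, has a common root -/
theorem exists_common_root [IsAlgClosed k] (J : Ideal k[X]) (hJ : J ≠ ⊤) :
    ∃ c : k, ∀ g ∈ J, g.eval c = 0 := by
  obtain ⟨g, rfl⟩ : ∃ g, J = Ideal.span {g} := ⟨_, (Ideal.span_singleton_generator J).symm⟩
  by_cases h0 : g = 0
  · subst h0
    refine ⟨0, fun f hf => ?_⟩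
    rw [Ideal.mem_span_singleton, zero_dvd_iff] at hf
    simp [hf]
  · have hdeg : g.degree ≠ 0 := by
      intro h
      apply hJ
      rw [Ideal.span_singleton_eq_top]
      exact Polynomial.isUnit_iff_degree_eq_zero.mpr h
    obtain ⟨c, hc⟩ := IsAlgClosed.exists_root g hdeg
    refine ⟨c, fun f hf => ?_⟩
    obtain ⟨q, rfl⟩ := Ideal.mem_span_singleton.mp hf
    simp [hc.eq_zero]

section Max

variable (T : Subalgebra k (L × k))

/-- first projection on `T` -/
def fstT : ↥T →+* L := (RingHom.fst L k).comp T.val.toRingHom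
/-- second projection on `T` -/
def sndT : ↥T →+* k := (RingHom.snd L k).comp T.val.toRingHom

@[simp] theorem fstT_apply (t : ↥T) : fstT T t = t.1.1 := rfl
@[simp] theorem sndT_apply (t : ↥T) : sndT T t = t.1.2 := rfl

theorem sndT_surjective : Function.Surjective (sndT T) := by
  intro c
  refine ⟨algebraMap k ↥T c, ?_⟩
  simp [sndT_apply, Algebra.algebraMap_eq_smul_one]

variable {T}

theorem dichotomy [IsAlgClosed k] (hT : Adm T)
    (hmax : ∀ T' : Subalgebra k (L × k), Adm T' → T ≤ T' → T' ≤ T) (x : L) :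
    (∃ c : k, (x, c) ∈ T) ∨
      ∃ P : Polynomial ↥T, P.map (sndT T) = 1 ∧ (P.map (fstT T)).eval x = 0 := by
  set I : Ideal (Polynomial ↥T) :=
    RingHom.ker ((Polynomial.evalRingHom x).comp (Polynomial.mapRingHom (fstT T))) with hI
  set J : Ideal k[X] := I.map (Polynomial.mapRingHom (sndT T)) with hJdef
  have hsurj : Function.Surjective (Polynomial.mapRingHom (sndT T)) :=
    Polynomial.map_surjective _ (sndT_surjective T)
  by_cases hJ : J = ⊤
  · right
    have h1 : (1 : k[X]) ∈ J := by rw [hJ]; trivial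
    obtain ⟨P, hP, hP1⟩ := (Ideal.mem_map_iff_of_surjective _ hsurj).mp h1
    refine ⟨P, by simpa using hP1, ?_⟩
    have := (RingHom.mem_ker).mp hP
    simpa using this
  · left
    obtain ⟨c, hc⟩ := exists_common_root J hJ
    refine ⟨c, ?_⟩
    set φ : Polynomial ↥T →ₐ[k] L × k :=
      Polynomial.eval₂AlgHom T.val (x, c) (fun _ => Commute.all _ _) with hφ
    have hφapply : ∀ P : Polynomial ↥T, φ P = P.eval₂ T.val.toRingHom (x, c) := fun P => rfl
    have hfst : ∀ P : Polynomial ↥T, (φ P).1 = (P.map (fstT T)).eval x := by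
      intro P
      rw [hφapply, Polynomial.eval_map]
      have := Polynomial.hom_eval₂ P T.val.toRingHom (RingHom.fst L k) (x, c)
      simpa [fstT] using this
    have hsnd : ∀ P : Polynomial ↥T, (φ P).2 = (P.map (sndT T)).eval c := by
      intro P
      rw [hφapply, Polynomial.eval_map]
      have := Polynomial.hom_eval₂ P T.val.toRingHom (RingHom.snd L k) (x, c)
      simpa [sndT] using this
    have hadm : Adm φ.range := by
      rintro ⟨P, hP⟩
      replace hP : φ P = ((0 : L), (1 : k)) := hP
      have e1 : (P.map (fstT T)).eval x = 0 := by rw [← hfst, hP]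
      have e2 : (P.map (sndT T)).eval c = 1 := by rw [← hsnd, hP]
      have hPI : P ∈ I := by
        rw [hI, RingHom.mem_ker]; simpa using e1
      have hPJ : P.map (sndT T) ∈ J := Ideal.mem_map_of_mem (Polynomial.mapRingHom (sndT T)) hPI
      have := hc _ hPJ
      rw [e2] at this
      exact one_ne_zero this
    have hle : T ≤ φ.range := by
      intro t ht
      refine ⟨Polynomial.C ⟨t, ht⟩, ?_⟩
      change φ (Polynomial.C ⟨t, ht⟩) = t
      rw [hφapply, Polynomial.eval₂_C]; rfl
    have hx : (x, c) ∈ φ.range := ⟨Polynomial.X, by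
      change φ Polynomial.X = (x, c)
      rw [hφapply, Polynomial.eval₂_X]⟩
    exact hmax _ hadm hle hx

/-- units: `1 + n` with `(n, 0) ∈ T` has its inverse in `T` (with value `1`) -/
theorem inv_mem (hT : Adm T)
    (hmax : ∀ T' : Subalgebra k (L × k), Adm T' → T ≤ T' → T' ≤ T) {n : L} (hn : (n, (0 : k)) ∈ T) :
    ((1 + n)⁻¹, (1 : k)) ∈ T := by
  have hw : ((1 + n : L), (1 : k)) ∈ T := by
    have := T.add_mem (one_one_mem T) hn
    simpa using this
  have hne : (1 + n : L) ≠ 0 := by
    intro h
    apply hT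
    have : ((1 + n : L), (1 : k)) = ((0 : L), (1 : k)) := by rw [h]
    rw [← this]; exact hw
  set w : L × k := ((1 + n : L), (1 : k)) with hwdef
  let T' : Subalgebra k (L × k) :=
    { carrier := {z | ∃ j : ℕ, z * w ^ j ∈ T}
      mul_mem' := by
        rintro a b ⟨i, hi⟩ ⟨j, hj⟩
        refine ⟨i + j, ?_⟩
        have := T.mul_mem hi hj
        have e : a * b * w ^ (i + j) = a * w ^ i * (b * w ^ j) := by rw [pow_add]; ring
        rw [e]; exact this
      add_mem' := by
        rintro a b ⟨i, hi⟩ ⟨j, hj⟩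
        refine ⟨i + j, ?_⟩
        have h1 := T.mul_mem hi (T.pow_mem hw j)
        have h2 := T.mul_mem hj (T.pow_mem hw i)
        have e : (a + b) * w ^ (i + j) = a * w ^ i * w ^ j + b * w ^ j * w ^ i := by rw [pow_add]; ring
        rw [e]; exact T.add_mem h1 h2
      algebraMap_mem' := fun r => ⟨0, by simpa using T.algebraMap_mem r⟩ }
  have hadm : Adm T' := by
    rintro ⟨j, hj⟩
    apply hT
    have e : ((0 : L), (1 : k)) * w ^ j = ((0 : L), (1 : k)) := by
      ext <;> simp [hwdef]
    rw [e] at hj; exact hj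
  have hle : T ≤ T' := fun t ht => ⟨0, by simpa using ht⟩
  have hv : ((1 + n)⁻¹, (1 : k)) ∈ T' := by
    refine ⟨1, ?_⟩
    have e : (((1 + n)⁻¹ : L), (1 : k)) * w ^ 1 = ((1 : L), (1 : k)) := by
      ext <;> simp [hwdef, inv_mul_cancel₀ hne]
    rw [e]; exact one_one_mem T
  exact hmax _ hadm hle hv

end Max

end Groth.Agent.Lib.Helper7.VC
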