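import Groth.Agent.Lib.Helper7.VC1

/-!
# A maximal admissible graph is the graph of a place: its domain is a valuation ring (Atiyah–Macdonald 5.20/5.21)
-/

namespace Groth.Agent.Lib.Helper7.VC

open Polynomial

variable {k L : Type*} [Field k] [Field L] [Algebra k L]

section

variable (T : Subalgebra k (L × k))

/-- the kernel of the place -/
def N : Submodule k L where
  carrier := {n | (n, (0 : k)) ∈ T}
  add_mem' := by
    intro a b ha hb
    have := T.add_mem ha hb
    simpa using this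
  zero_mem' := by
    show ((0 : L), (0 : k)) ∈ T
    exact T.zero_mem
  smul_mem' := by
    intro c a ha
    have := T.smul_mem ha c
    simpa using this

/-- the domain of the place -/
def S : Subalgebra k L where
  carrier := {s | ∃ c : k, (s, c) ∈ T}
  mul_mem' := by
    rintro a b ⟨c, hc⟩ ⟨d, hd⟩
    exact ⟨c * d, by simpa using T.mul_mem hc hd⟩
  add_mem' := by
    rintro a b ⟨c, hc⟩ ⟨d, hd⟩
    exact ⟨c + d, by simpa using T.add_mem hc hd⟩
  algebraMap_mem' := by
    intro r
    refine ⟨r, ?_⟩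
    have := T.algebraMap_mem r
    have e : algebraMap k (L × k) r = (algebraMap k L r, r) := by
      ext <;> simp [Algebra.algebraMap_eq_smul_one]
    rw [e] at this
    exact this

variable {T}

theorem mem_N {n : L} : n ∈ N T ↔ (n, (0 : k)) ∈ T := Iff.rfl
theorem mem_S {s : L} : s ∈ S T ↔ ∃ c : k, (s, c) ∈ T := Iff.rfl

theorem N_le_S {n : L} (h : n ∈ N T) : n ∈ S T := ⟨0, h⟩

theorem N_mul_S {n s : L} (hn : n ∈ N T) (hs : s ∈ S T) : n * s ∈ N T := by
  obtain ⟨c, hc⟩ := hs
  have := T.mul_mem hn hc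
  rw [mem_N]
  simpa using this

/-- relations `1 + Σ nᵢ xⁱ = 0` with coefficients in `N` -/
def rel (T : Subalgebra k (L × k)) (x : L) (m : ℕ) : Prop :=
  ∃ n : ℕ → L, (∀ i, n i ∈ N T) ∧ 1 + ∑ i ∈ Finset.range (m + 1), n i * x ^ i = 0

/-- monic relations `x^r = Σ_{j<r} aⱼ xʲ` with coefficients in `N` -/
def mon (T : Subalgebra k (L × k)) (x : L) (r : ℕ) : Prop :=
  ∃ a : ℕ → L, (∀ j, a j ∈ N T) ∧ x ^ r = ∑ j ∈ Finset.range r, a j * x ^ j

theorem rel_of_poly (x : L) (P : Polynomial ↥T) (h1 : P.map (sndT T) = 1)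
    (h2 : (P.map (fstT T)).eval x = 0) : ∃ m, rel T x m := by
  refine ⟨P.natDegree, fun i => (P.coeff i).1.1 - (if i = 0 then 1 else 0), fun i => ?_, ?_⟩
  · have hc : (P.coeff i).1.2 = if i = 0 then 1 else 0 := by
      have := congrArg (fun q => q.coeff i) h1
      simp only [Polynomial.coeff_map, Polynomial.coeff_one, sndT_apply] at this
      rw [this]
    rw [mem_N]
    by_cases hi : i = 0
    · subst hi
      have := T.sub_mem (P.coeff 0).2 (one_one_mem T)
      convert this using 1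
      ext
      · simp
      · simp only [Prod.snd_sub, hc, if_true, sub_self]
    · convert (P.coeff i).2 using 1
      ext
      · simp [hi]
      · simp only [hc, hi, if_false]
  · have hdeg : (P.map (fstT T)).natDegree < P.natDegree + 1 :=
      Nat.lt_succ_of_le Polynomial.natDegree_map_le
    rw [Polynomial.eval_eq_sum_range' hdeg] at h2
    simp only [Polynomial.coeff_map, fstT_apply] at h2
    simp only [sub_mul, Finset.sum_sub_distrib]
    rw [h2, Finset.sum_range_succ']
    simp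

variable (hT : Adm T) (hmax : ∀ T' : Subalgebra k (L × k), Adm T' → T ≤ T' → T' ≤ T)

include hT hmax

theorem mon_of_rel {x y : L} (hxy : x * y = 1) {r : ℕ} (h : rel T y r) : mon T x r := by
  obtain ⟨n, hn, hsum⟩ := h
  have hpow : ∀ j ∈ Finset.range (r + 1), n j * y ^ j * x ^ r = n j * x ^ (r - j) := by
    intro j hj
    have hj' : j ≤ r := Nat.lt_succ_iff.mp (Finset.mem_range.mp hj)
    have hx : x ^ r = x ^ (r - j) * x ^ j := by rw [← pow_add, Nat.sub_add_cancel hj']
    rw [hx]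
    have e : y ^ j * x ^ j = 1 := by rw [← mul_pow, mul_comm, hxy, one_pow]
    calc n j * y ^ j * (x ^ (r - j) * x ^ j) = n j * x ^ (r - j) * (y ^ j * x ^ j) := by ring
      _ = _ := by rw [e, mul_one]
  have h1 : x ^ r + ∑ j ∈ Finset.range (r + 1), n j * x ^ (r - j) = 0 := by
    have := congrArg (· * x ^ r) hsum
    simp only [add_mul, one_mul, zero_mul, Finset.sum_mul] at this
    rw [Finset.sum_congr rfl hpow] at this
    exact this
  rw [Finset.sum_range_succ'] at h1
  have hu : ((1 + n 0)⁻¹, (1 : k)) ∈ T := inv_mem hT hmax (hn 0)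
  have hne : 1 + n 0 ≠ 0 := by
    intro h
    apply hT
    have h0 : ((1 + n 0 : L), (1 : k)) ∈ T := by
      have := T.add_mem (one_one_mem T) (hn 0)
      simpa using this
    rw [h] at h0; exact h0
  refine ⟨fun l => -(n (r - l) * (1 + n 0)⁻¹), fun l => (N T).neg_mem (N_mul_S (hn _) ⟨1, hu⟩), ?_⟩
  have h2 : ∑ l ∈ Finset.range r, n (r - l) * x ^ l =
      ∑ j ∈ Finset.range r, n (j + 1) * x ^ (r - (j + 1)) := by
    rw [← Finset.sum_range_reflect]
    refine Finset.sum_congr rfl fun j hj => ?_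
    have hj' := Finset.mem_range.mp hj
    have e1 : r - (r - 1 - j) = j + 1 := by omega
    have e2 : r - 1 - j = r - (j + 1) := by omega
    rw [e1, e2]
  have h3 : (1 + n 0) * x ^ r = - ∑ l ∈ Finset.range r, n (r - l) * x ^ l := by
    rw [h2]
    simp only [Nat.sub_zero] at h1
    linear_combination h1
  calc x ^ r = (1 + n 0)⁻¹ * ((1 + n 0) * x ^ r) := by
        rw [← mul_assoc, inv_mul_cancel₀ hne, one_mul]
    _ = ∑ l ∈ Finset.range r, -(n (r - l) * (1 + n 0)⁻¹) * x ^ l := by
        rw [h3, mul_neg, Finset.mul_sum, ← Finset.sum_neg_distrib]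
        refine Finset.sum_congr rfl fun l _ => by ring

omit hT hmax in
theorem rel_of_mon {x : L} {r m : ℕ} (hmon : mon T x r) (hrel : rel T x m) :
    1 ≤ r ∧ rel T x (r - 1) := by
  obtain ⟨a, ha, hxr⟩ := hmon
  obtain ⟨n, hn, hsum⟩ := hrel
  rcases Nat.eq_zero_or_pos r with rfl | hr
  · simp at hxr
  refine ⟨hr, ?_⟩
  obtain ⟨r', rfl⟩ : ∃ r', r = r' + 1 := ⟨r - 1, by omega⟩
  have key : ∀ i : ℕ, ∃ s : ℕ → L, (∀ j, s j ∈ S T) ∧
      x ^ i = ∑ j ∈ Finset.range (r' + 1), s j * x ^ j := by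
    intro i
    induction i with
    | zero =>
      refine ⟨fun j => if j = 0 then 1 else 0, fun j => ?_, ?_⟩
      · by_cases hj : j = 0 <;> simp [hj, (S T).one_mem, (S T).zero_mem]
      · rw [Finset.sum_range_succ']; simp
    | succ i ih =>
      obtain ⟨s, hs, hxi⟩ := ih
      refine ⟨fun j => (if j = 0 then 0 else s (j - 1)) + s r' * a j, fun j => ?_, ?_⟩
      · refine (S T).add_mem ?_ ((S T).mul_mem (hs _) (N_le_S (ha j)))
        by_cases hj : j = 0 <;> simp [hj, (S T).zero_mem, hs]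
      · rw [pow_succ, hxi, Finset.sum_mul, Finset.sum_range_succ]
        have e : s r' * x ^ r' * x = s r' * x ^ (r' + 1) := by ring
        rw [e, hxr, Finset.mul_sum]
        simp only [add_mul, Finset.sum_add_distrib]
        rw [Finset.sum_range_succ' (fun j => (if j = 0 then 0 else s (j - 1)) * x ^ j)]
        simp only [Nat.add_eq_zero_iff, one_ne_zero, and_false, if_false, Nat.add_sub_cancel,
          if_true, zero_mul, add_zero]
        congr 1
        · refine Finset.sum_congr rfl fun j _ => by ring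
        · refine Finset.sum_congr rfl fun j _ => by ring
  choose s hs hxi using key
  refine ⟨fun j => ∑ i ∈ Finset.range (m + 1), n i * s i j,
    fun j => (N T).sum_mem fun i _ => N_mul_S (hn i) (hs i j), ?_⟩
  simp only [Nat.add_sub_cancel]
  rw [← hsum]
  congr 1
  simp_rw [Finset.sum_mul]
  rw [Finset.sum_comm]
  refine Finset.sum_congr rfl fun i _ => ?_
  rw [hxi i, Finset.mul_sum]
  refine Finset.sum_congr rfl fun j _ => by ring

theorem mem_or_inv_mem [IsAlgClosed k] {x : L} (hx : x ≠ 0) : x ∈ S T ∨ x⁻¹ ∈ S T := by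
  by_contra hcon
  push Not at hcon
  obtain ⟨h1, h2⟩ := hcon
  have r1 : ∃ m, rel T x m := by
    rcases dichotomy hT hmax x with ⟨c, hc⟩ | ⟨P, hP1, hP2⟩
    · exact absurd ⟨c, hc⟩ h1
    · exact rel_of_poly x P hP1 hP2
  have r2 : ∃ m, rel T x⁻¹ m := by
    rcases dichotomy hT hmax x⁻¹ with ⟨c, hc⟩ | ⟨P, hP1, hP2⟩
    · exact absurd ⟨c, hc⟩ h2
    · exact rel_of_poly x⁻¹ P hP1 hP2
  classical
  have hm := Nat.find_spec r1
  have hr := Nat.find_spec r2
  have hxy : x * x⁻¹ = 1 := mul_inv_cancel₀ hx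
  have hyx : x⁻¹ * x = 1 := inv_mul_cancel₀ hx
  obtain ⟨hr1, hrel1⟩ := rel_of_mon (mon_of_rel hT hmax hxy hr) hm
  obtain ⟨hm1, hrel2⟩ := rel_of_mon (mon_of_rel hT hmax hyx hm) hr
  have a1 : Nat.find r1 ≤ Nat.find r2 - 1 := Nat.find_min' r1 hrel1
  have a2 : Nat.find r2 ≤ Nat.find r1 - 1 := Nat.find_min' r2 hrel2
  omega

end

end Groth.Agent.Lib.Helper7.VC
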