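import Groth.Agent.Lib.Helper7.Versch1
import Groth.Prelude.Def_CartDual2

/-!
# Verschiebung of the constant group `ℤ/p` (helper7)
-/

open TensorProduct WithConv
universe u
namespace Groth.Agent.Lib.Helper7.Versch

section ZModP
variable (p : ℕ) [Fact p.Prime] {R : Type u} [CommRing R] [CharP R p]

lemma pow_eq_algebraMap_counit (u : MonoidAlgebra R (Multiplicative (ZMod p))) :
    u ^ p = algebraMap R (MonoidAlgebra R (Multiplicative (ZMod p)))
      (Coalgebra.counit (R := R) u ^ p) := by
  have h0 : ((p : ℕ) : MonoidAlgebra R (Multiplicative (ZMod p))) = 0 := by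
    have h1 : ((p : ℕ) : MonoidAlgebra R (Multiplicative (ZMod p))) =
        algebraMap R (MonoidAlgebra R (Multiplicative (ZMod p))) ((p : ℕ) : R) := by
      rw [map_natCast]
    rw [h1, CharP.cast_eq_zero R p, map_zero]
  induction u using MonoidAlgebra.induction_linear with
  | zero => simp [zero_pow (Fact.out : p.Prime).ne_zero]
  | add x y hx hy =>
    have := sum_pow_prime p h0 (Finset.univ : Finset (Fin 2)) ![x, y]
    simp only [Fin.sum_univ_two, Matrix.cons_val_zero, Matrix.cons_val_one] at this
    rw [this, hx, hy, map_add, add_pow_char, map_add]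
  | single g r =>
    rw [MonoidAlgebra.single_pow, MonoidAlgebra.counit_single, CommSemiring.counit_apply]
    have hg : g ^ p = 1 := by
      apply Multiplicative.toAdd.injective
      rw [toAdd_pow, toAdd_one, nsmul_eq_mul, ZMod.natCast_self, zero_mul]
    rw [hg]
    rfl

end ZModP

section Eval

variable {R : Type u} [CommRing R] {A : Type u} [CommRing A] [Bialgebra R A]
  [Module.Finite R A] [Module.Projective R A]

lemma eval_surjective (x : CartDual.D R (CartDual.D R A)) : ∃ u : A, CartDual.eval R A u = x := by
  obtain ⟨u, hu⟩ := (Module.bijective_dual_eval R A).2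
    (x.ofConv ∘ₗ (CartDual.toDual R A).symm.toLinearMap)
  refine ⟨u, ?_⟩
  apply WithConv.ext
  apply LinearMap.ext
  intro b
  have h1 := LinearMap.congr_fun hu b.ofConv
  rw [Module.Dual.eval_apply, LinearMap.comp_apply] at h1
  change b.ofConv u = x.ofConv b
  rw [h1]
  rfl

end Eval

end Groth.Agent.Lib.Helper7.Versch
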