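import Groth.Prelude.Def_Versch
import Groth.Agent.Lib.Helper7.Versch1
import Mathlib

/-!
# Verschiebung bijective iff the Cartier dual is étale (helper7)
-/

universe u v

open TensorProduct WithConv

namespace Groth.Agent.Lib.Helper7.Versch

section EtaleFrob

variable (p : ℕ) [Fact p.Prime] (k : Type*) [Field k] [CharP k p] (B : Type u) [CommRing B]
  [Algebra k B]

include k in
lemma cast_p_eq_zero : ((p : ℕ) : B) = 0 := by
  have h : ((p : ℕ) : B) = algebraMap k B ((p : ℕ) : k) := (map_natCast (algebraMap k B) p).symm
  rw [h, CharP.cast_eq_zero, map_zero]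

/-- span of `p`-th powers is everything ⟹ étale. -/
lemma etale_of_span_pow_eq_top [Module.Finite k B]
    (h : Submodule.span k (Set.range (fun b : B => b ^ p)) = ⊤) : Algebra.Etale k B := by
  have hp0 : ((p : ℕ) : B) = 0 := cast_p_eq_zero p k B
  have hD : ∀ b : B, KaehlerDifferential.D k B b = 0 := by
    intro b
    have hb : b ∈ Submodule.span k (Set.range (fun b : B => b ^ p)) := h ▸ Submodule.mem_top
    induction hb using Submodule.span_induction with
    | mem x hx =>
      obtain ⟨y, rfl⟩ := hx
      simp only [Derivation.leibniz_pow]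
      rw [← Nat.cast_smul_eq_nsmul B, hp0, zero_smul]
    | zero => simp
    | add x y _ _ hx hy => rw [map_add, hx, hy, add_zero]
    | smul c x _ hx => rw [Derivation.map_smul, hx, smul_zero]
  have hsub : Subsingleton (Ω[B⁄k]) := by
    have hspan := KaehlerDifferential.span_range_derivation k B
    have hbot : Submodule.span B (Set.range (KaehlerDifferential.D k B)) = ⊥ := by
      rw [Submodule.span_eq_bot]
      rintro _ ⟨b, rfl⟩
      exact hD b
    rw [hbot] at hspan
    exact (Submodule.subsingleton_iff B).mp (subsingleton_of_bot_eq_top hspan)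
  have : Algebra.FormallyUnramified k B := ⟨hsub⟩
  have : Algebra.FormallyEtale k B := Algebra.FormallyEtale.of_formallyUnramified_of_field k B
  exact ⟨inferInstance, Algebra.FinitePresentation.of_finiteType.mp inferInstance⟩

/-- étale ⟹ span of `p`-th powers is everything. -/
lemma span_pow_eq_top_of_etale [Algebra.Etale k B] :
    Submodule.span k (Set.range (fun b : B => b ^ p)) = ⊤ := by
  classical
  obtain ⟨I, _, Ai, _, _, e, H⟩ := (Algebra.Etale.iff_exists_algEquiv_prod k B).mp inferInstance
  haveI : Fintype I := Fintype.ofFinite I
  haveI : ExpChar k p := ExpChar.prime Fact.out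
  have hi : ∀ i, Submodule.span k (Set.range (fun y : Ai i => y ^ p)) = ⊤ := by
    intro i
    haveI := (H i).2
    have := Field.span_map_pow_expChar_pow_eq_top_of_isSeparable (F := k) (E := Ai i) p 1
      (v := id) (by simp)
    simpa using this
  have key : ∀ i (z : Ai i), e.symm (Pi.single i z) ∈
      Submodule.span k (Set.range (fun b : B => b ^ p)) := by
    intro i z
    have hz : z ∈ Submodule.span k (Set.range (fun y : Ai i => y ^ p)) := hi i ▸ Submodule.mem_top
    induction hz using Submodule.span_induction with
    | mem x hx =>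
      obtain ⟨y, rfl⟩ := hx
      apply Submodule.subset_span
      refine ⟨e.symm (Pi.single i y), ?_⟩
      simp only
      rw [← map_pow]
      congr 1
      ext j
      by_cases hj : j = i
      · subst hj; simp
      · simp [Pi.single_apply, hj, (Fact.out : p.Prime).ne_zero]
    | zero => simp
    | add x y _ _ hx hy => rw [Pi.single_add, map_add]; exact add_mem hx hy
    | smul c x _ hx => rw [Pi.single_smul, map_smul]; exact Submodule.smul_mem _ _ hx
  rw [eq_top_iff]
  intro b _
  have hb : b = ∑ i, e.symm (Pi.single i (e b i)) := by
    rw [← map_sum, Finset.univ_sum_single, AlgEquiv.symm_apply_apply]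
  rw [hb]
  exact Submodule.sum_mem _ fun i _ => key i _

end EtaleFrob


section Pre
variable (p : ℕ) (k : Type u) [Field k] (A : Type v) [CommRing A] [HopfAlgebra k A]
variable {ι : Type} [Fintype ι] (a : Module.Basis ι k A)
noncomputable def LV : A →ₗ[k] (ι → k) :=
  LinearMap.pi fun i => ((toConv (a.coord i) : CartDual.D k A) ^ p).ofConv
end Pre

section Transpose

variable (p : ℕ) [Fact p.Prime] (k : Type u) [Field k] [CharP k p]
  (A : Type v) [CommRing A] [HopfAlgebra k A] [Coalgebra.IsCocomm k A] [FiniteDimensional k A]

variable {ι : Type} [Fintype ι] [DecidableEq ι] (a : Module.Basis ι k A)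

/-- coordinates on the Frobenius twist. -/
noncomputable def twCoord : FrobAlg.BaseChange p k A ≃ₗ[k] (ι →₀ FrobAlg.Twist p k) :=
  (LinearEquiv.rTensor (FrobAlg.Twist p k) a.repr) ≪≫ₗ
    TensorProduct.finsuppScalarLeft k (FrobAlg.Twist p k) ι

lemma twCoord_apply (z : FrobAlg.BaseChange p k A) (i : ι) :
    twCoord p k A a z i = Versch.evTw p k A (toConv (a.coord i)) z := by
  induction z using TensorProduct.induction_on with
  | zero => simp
  | add z w hz hw => rw [map_add, map_add, Finsupp.add_apply, hz, hw]
  | tmul b s =>
    rw [Versch.evTw_tmul]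
    simp only [twCoord, LinearEquiv.trans_apply, LinearEquiv.rTensor_tmul,
      TensorProduct.finsuppScalarLeft_apply_tmul_apply, Algebra.smul_def]
    rfl

lemma LV_apply (b : A) (i : ι) :
    LV p k A a b i = ((toConv (a.coord i) : CartDual.D k A) ^ p) b := rfl

lemma verschiebung_eq (v : A →+* FrobAlg.BaseChange p k A)
    (hv : Versch.IsVerschiebung p k A v) (b : A) :
    twCoord p k A a (v b) =
      Finsupp.equivFunOnFinite.symm (fun i => FrobAlg.toTwist p k (LV p k A a b i)) := by
  rw [Versch.isVerschiebung_iff] at hv
  ext i
  rw [twCoord_apply, hv]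
  rfl

lemma bijective_verschiebung_iff (v : A →+* FrobAlg.BaseChange p k A)
    (hv : Versch.IsVerschiebung p k A v) :
    Function.Bijective v ↔ Function.Bijective (LV p k A a) := by
  let G : (ι → k) ≃ (ι →₀ FrobAlg.Twist p k) :=
    (Equiv.piCongrRight fun _ => (FrobAlg.toTwist p k).toEquiv).trans Finsupp.equivFunOnFinite.symm
  have h1 : (twCoord p k A a) ∘ v = G ∘ (LV p k A a) := by
    funext b
    exact verschiebung_eq p k A a v hv b
  rw [← Function.Bijective.of_comp_iff' (twCoord p k A a).bijective v, h1,
    Function.Bijective.of_comp_iff' G.bijective]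

end Transpose


section Transpose2

variable (p : ℕ) [Fact p.Prime] (k : Type u) [Field k] [CharP k p]
  (A : Type v) [CommRing A] [HopfAlgebra k A] [Coalgebra.IsCocomm k A] [FiniteDimensional k A]

variable {ι : Type} [Fintype ι] [DecidableEq ι] (a : Module.Basis ι k A)

/-- the dual basis elements. -/
noncomputable def xb (i : ι) : CartDual.D k A := toConv (a.coord i)

lemma xb_apply (i : ι) (b : A) : xb k A a i b = a.coord i b := rfl

lemma dual_eq_sum (x : CartDual.D k A) : x = ∑ i, (x (a i)) • xb k A a i := by
  apply WithConv.ofConv_injective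
  apply a.ext
  intro j
  rw [ofConv_sum, LinearMap.sum_apply]
  simp only [WithConv.ofConv_smul, LinearMap.smul_apply, smul_eq_mul]
  rw [Finset.sum_eq_single j]
  · change _ = x (a j) * (a.coord j (a j))
    simp
  · intro i _ hij
    change x (a i) * (a.coord i (a j)) = 0
    simp [Finsupp.single_apply, hij.symm]
  · intro h; exact absurd (Finset.mem_univ j) h

lemma span_pow_eq :
    Submodule.span k (Set.range fun x : CartDual.D k A => x ^ p) =
      Submodule.span k (Set.range fun i => (xb k A a i) ^ p) := by
  apply le_antisymm
  · rw [Submodule.span_le]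
    rintro _ ⟨x, rfl⟩
    have h0 : ((p : ℕ) : CartDual.D k A) = 0 := CharP.cast_eq_zero _ p
    simp only
    rw [dual_eq_sum k A a x, sum_pow_prime p h0]
    refine Submodule.sum_mem _ fun i _ => ?_
    rw [smul_pow]
    exact Submodule.smul_mem _ _ (Submodule.subset_span ⟨i, rfl⟩)
  · apply Submodule.span_mono
    rintro _ ⟨i, rfl⟩
    exact ⟨_, rfl⟩


include a in
lemma finrank_dual : Module.finrank k (CartDual.D k A) = Fintype.card ι := by
  rw [(CartDual.toDual k A).finrank_eq, Subspace.dual_finrank_eq, Module.finrank_eq_card_basis a]

lemma LV_bijective_iff :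
    Function.Bijective (LV p k A a) ↔
      Submodule.span k (Set.range fun i => (xb k A a i) ^ p) = ⊤ := by
  have hrank : Module.finrank k A = Module.finrank k (ι → k) := by
    rw [Module.finrank_eq_card_basis a, Module.finrank_fintype_fun_eq_card]
  constructor
  · intro hb
    have hli : LinearIndependent k (fun i => (xb k A a i) ^ p) := by
      rw [Fintype.linearIndependent_iff]
      intro g hg j
      obtain ⟨b, hb'⟩ := hb.2 (Pi.single j 1)
      have h1 := congrArg (fun y : CartDual.D k A => y b) hg
      rw [CartDual.coe_apply, ofConv_sum, LinearMap.sum_apply] at h1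
      simp only [WithConv.ofConv_smul, LinearMap.smul_apply, smul_eq_mul] at h1
      have h2 : ∀ i, (((xb k A a i) ^ p : CartDual.D k A)).ofConv b = (Pi.single j (1 : k) : ι → k) i := by
        intro i
        rw [← hb']
        rfl
      simp only [h2] at h1
      rw [Finset.sum_eq_single j] at h1
      · simpa using h1
      · intro i _ hij; simp [hij]
      · intro h; exact absurd (Finset.mem_univ j) h
    exact hli.span_eq_top_of_card_eq_finrank' (finrank_dual k A a).symm
  · intro hs
    have hinj : Function.Injective (LV p k A a) := by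
      rw [← LinearMap.ker_eq_bot, LinearMap.ker_eq_bot']
      intro b hb
      have h1 : ∀ y : CartDual.D k A, y b = 0 := by
        intro y
        have hy : y ∈ Submodule.span k (Set.range fun i => (xb k A a i) ^ p) := hs ▸ Submodule.mem_top
        induction hy using Submodule.span_induction with
        | mem x hx =>
          obtain ⟨i, rfl⟩ := hx
          exact congrFun hb i
        | zero => rfl
        | add x y _ _ hx hy =>
          rw [CartDual.coe_apply, WithConv.ofConv_add, LinearMap.add_apply, ← CartDual.coe_apply,
            ← CartDual.coe_apply, hx, hy, add_zero]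
        | smul c x _ hx =>
          rw [CartDual.coe_apply, WithConv.ofConv_smul, LinearMap.smul_apply, ← CartDual.coe_apply, hx,
            smul_zero]
      apply a.repr.injective
      ext i
      have := h1 (xb k A a i)
      rw [xb_apply] at this
      simpa using this
    exact ⟨hinj, (LinearMap.injective_iff_surjective_of_finrank_eq_finrank hrank).mp hinj⟩

end Transpose2

end Groth.Agent.Lib.Helper7.Versch
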