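import Mathlib

/-!
# Galois partition of unity for a finite group acting on a commutative ring

For a finite group `G` acting on a commutative ring `A`, if for each `σ ≠ 1` a multiplicative set
`S` meets the ideal generated by the `σ a - a`, then there are `s ∈ S` and finitely many
`x_i, y_i` with `∑ x_i τ(y_i) = δ_{τ,1} s`.
-/
set_option autoImplicit false
open TensorProduct

namespace Groth.Agent.Lib.Helper7.WQ

variable {A : Type*} [CommRing A] {G : Type*} [Group G] [MulSemiringAction G A]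

/-- `x ⊗ y ↦ x * τ • y` -/
noncomputable def ev (τ : G) : A ⊗[ℤ] A →ₐ[ℤ] A :=
  Algebra.TensorProduct.lift (AlgHom.id ℤ A) (MulSemiringAction.toAlgHom ℤ A τ)
    (fun _ _ => Commute.all _ _)

@[simp] theorem ev_tmul (τ : G) (x y : A) : ev τ (x ⊗ₜ[ℤ] y) = x * τ • y := by
  simp [ev]

theorem exists_tensor_one (σ : G) (s : A)
    (hs : s ∈ Ideal.span (Set.range fun a : A => σ • a - a)) :
    ∃ t : A ⊗[ℤ] A, ev (1 : G) t = s ∧ ev σ t = 0 := by
  have hsurj : Function.Surjective (ev (A := A) (1 : G)).toRingHom := fun a => ⟨a ⊗ₜ 1, by simp⟩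
  have hle : Ideal.span (Set.range fun a : A => σ • a - a) ≤
      Ideal.map (ev (A := A) (1 : G)).toRingHom (RingHom.ker (ev (A := A) σ).toRingHom) := by
    rw [Ideal.span_le]
    rintro _ ⟨a, rfl⟩
    rw [SetLike.mem_coe, Ideal.mem_map_iff_of_surjective _ hsurj]
    refine ⟨(σ • a) ⊗ₜ 1 - 1 ⊗ₜ a, ?_, ?_⟩
    · rw [RingHom.mem_ker]
      simp
    · simp
  have h1 := hle hs
  rw [Ideal.mem_map_iff_of_surjective _ hsurj] at h1
  obtain ⟨t, ht, rfl⟩ := h1
  exact ⟨t, rfl, ht⟩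

variable [Fintype G] [DecidableEq G]

theorem exists_tensor (S : Submonoid A)
    (h : ∀ σ : G, σ ≠ 1 → ∃ s ∈ S, s ∈ Ideal.span (Set.range fun a : A => σ • a - a)) :
    ∃ s ∈ S, ∃ t : A ⊗[ℤ] A, ∀ τ : G, ev τ t = if τ = 1 then s else 0 := by
  have h' : ∀ σ : G, σ ≠ 1 → ∃ s ∈ S, ∃ t : A ⊗[ℤ] A, ev (1 : G) t = s ∧ ev σ t = 0 := by
    intro σ hσ
    obtain ⟨s, hsS, hs⟩ := h σ hσ
    obtain ⟨t, h1, h2⟩ := exists_tensor_one σ s hs
    exact ⟨s, hsS, t, h1, h2⟩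
  choose! s hsS t ht1 ht2 using h'
  refine ⟨∏ σ ∈ Finset.univ.erase (1 : G), s σ, ?_, ∏ σ ∈ Finset.univ.erase (1 : G), t σ, ?_⟩
  · apply Submonoid.prod_mem
    intro σ hσ
    exact hsS σ (Finset.ne_of_mem_erase hσ)
  · intro τ
    rw [map_prod]
    split_ifs with hτ
    · subst hτ
      apply Finset.prod_congr rfl
      intro σ hσ
      exact ht1 σ (Finset.ne_of_mem_erase hσ)
    · apply Finset.prod_eq_zero (i := τ)
      · exact Finset.mem_erase.2 ⟨hτ, Finset.mem_univ _⟩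
      · exact ht2 τ hτ

/-- unpacked form: finitely many `x_i, y_i` with `∑ x_i τ(y_i) = δ_{τ,1} s` -/
theorem exists_partition (S : Submonoid A)
    (h : ∀ σ : G, σ ≠ 1 → ∃ s ∈ S, s ∈ Ideal.span (Set.range fun a : A => σ • a - a)) :
    ∃ s ∈ S, ∃ F : Finset (A × A), ∀ τ : G,
      ∑ i ∈ F, i.1 * τ • i.2 = if τ = 1 then s else 0 := by
  obtain ⟨s, hs, t, ht⟩ := exists_tensor S h
  obtain ⟨F, rfl⟩ := TensorProduct.exists_finset t
  refine ⟨s, hs, F, fun τ => ?_⟩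
  rw [← ht τ, map_sum]
  apply Finset.sum_congr rfl
  intro i _
  rw [ev_tmul]

end Groth.Agent.Lib.Helper7.WQ
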