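import Mathlib
import Groth.Agent.Lib.Helper18.CST3
import Groth.Agent.Lib.Helper1.ArtFunPS

set_option autoImplicit false
set_option linter.unusedSectionVars false
universe u v w
open IsLocalRing

namespace Groth.Agent.Lib.Helper7.WQ

section sect

variable {A : Type u} [CommRing A] [IsLocalRing A] {k : Type v} [Field k] [Algebra k A]

theorem exists_section
    (hk : Function.Surjective (IsLocalRing.residue A ∘ algebraMap k A)) :
    ∃ v : ResidueField A →+* A, (∀ c, residue A (v c) = c) ∧
      ∀ c, v c ∈ Set.range (algebraMap k A) := by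
  let φ : k →+* ResidueField A := (residue A).comp (algebraMap k A)
  have hbij : Function.Bijective φ := ⟨φ.injective, hk⟩
  let e : k ≃+* ResidueField A := RingEquiv.ofBijective φ hbij
  refine ⟨(algebraMap k A).comp e.symm.toRingHom, ?_, ?_⟩
  · intro c
    have : φ (e.symm c) = c := e.apply_symm_apply c
    exact this
  · intro c
    exact ⟨e.symm c, rfl⟩

instance : IsAdicComplete (maximalIdeal (ResidueField A)) (ResidueField A) := by
  rw [IsLocalRing.maximalIdeal_eq_bot]
  infer_instance

end sect

section charp

variable {A : Type u} [CommRing A] [IsLocalRing A] {G : Type w} [Group G] [Fintype G]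
  [MulSemiringAction G A]

theorem smul_mem_maximalIdeal (g : G) {x : A} (hx : x ∈ maximalIdeal A) :
    g • x ∈ maximalIdeal A := by
  rw [mem_maximalIdeal, mem_nonunits_iff] at hx ⊢
  intro h
  apply hx
  have := h.map (MulSemiringAction.toRingHom G A g⁻¹)
  simpa using this

theorem charpoly_map_residue {x : A} (hx : x ∈ maximalIdeal A) :
    (MulSemiringAction.charpoly G x).map (residue A) = Polynomial.X ^ (Fintype.card G) := by
  rw [MulSemiringAction.charpoly_eq, Polynomial.map_prod]
  have : ∀ g : G, (Polynomial.X - Polynomial.C (g • x)).map (residue A) = Polynomial.X := by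
    intro g
    rw [Polynomial.map_sub, Polynomial.map_X, Polynomial.map_C]
    have h0 : residue A (g • x) = 0 := by
      rw [residue_eq_zero_iff]
      exact smul_mem_maximalIdeal g hx
    rw [h0, map_zero, sub_zero]
  simp only [this]
  rw [Finset.prod_const, Finset.card_univ]

theorem coeff_charpoly_mem {x : A} (hx : x ∈ maximalIdeal A) (j : ℕ) (hj : j ≠ Fintype.card G) :
    (MulSemiringAction.charpoly G x).coeff j ∈ maximalIdeal A := by
  rw [← residue_eq_zero_iff, ← Polynomial.coeff_map, charpoly_map_residue hx, Polynomial.coeff_X_pow,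
    if_neg hj]

theorem pow_card_eq {x : A} :
    x ^ Fintype.card G = - ∑ j ∈ Finset.range (Fintype.card G),
      (MulSemiringAction.charpoly G x).coeff j * x ^ j := by
  have h1 := MulSemiringAction.eval_charpoly G x
  have hm := MulSemiringAction.monic_charpoly G x
  have hd : (MulSemiringAction.charpoly G x).natDegree = Fintype.card G := by
    rw [MulSemiringAction.charpoly_eq, Polynomial.natDegree_prod_of_monic]
    · simp
    · intro g _
      exact Polynomial.monic_X_sub_C _
  rw [Polynomial.eval_eq_sum_range, hd, Finset.sum_range_succ, ← hd, hm.coeff_natDegree, one_mul, hd] at h1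
  linear_combination h1

end charp

section main

open MvPowerSeries Groth.Agent.Lib.Helper1.ArtFunLib Groth.Agent.Lib.Helper18.CST

variable (A : Type u) [CommRing A] [IsLocalRing A] [IsNoetherianRing A]
  [hcA : IsAdicComplete (maximalIdeal A) A]
  {k : Type v} [Field k] [Algebra k A]
  (G : Type w) [Group G] [Fintype G] [MulSemiringAction G A]

theorem exists_powerSeries
    (hk : Function.Surjective (IsLocalRing.residue A ∘ algebraMap k A))
    (hGk : ∀ (σ : G) (c : k), σ • algebraMap k A c = algebraMap k A c) :
    ∃ (n : ℕ) (f : MvPowerSeries (Fin n) (ResidueField A) →+* A), f.Finite ∧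
      ∀ (σ : G) g, σ • f g = f g := by
  classical
  obtain ⟨v, hv1, hv2⟩ := exists_section hk
  have hvG : ∀ (σ : G) c, σ • v c = v c := by
    intro σ c
    obtain ⟨c', hc'⟩ := hv2 c
    rw [← hc', hGk]
  have hsurj : Function.Surjective ((residue A).comp v) := fun c => ⟨c, hv1 c⟩
  obtain ⟨d, x, hx⟩ := (Submodule.fg_iff_exists_fin_generating_family).1
    ((isNoetherianRing_iff_ideal_fg A).1 inferInstance (maximalIdeal A))
  have hxm : ∀ i, x i ∈ maximalIdeal A := by
    intro i
    rw [← hx]
    exact Submodule.subset_span ⟨i, rfl⟩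
  set q := Fintype.card G with hq
  let b : Fin (d * q) → A := fun n =>
    (MulSemiringAction.charpoly G (x (finProdFinEquiv.symm n).1)).coeff (finProdFinEquiv.symm n).2
  have hbm : ∀ n, b n ∈ maximalIdeal A := by
    intro n
    apply coeff_charpoly_mem (hxm _)
    exact (finProdFinEquiv.symm n).2.2.ne
  have hbG : ∀ (σ : G) n, σ • b n = b n := by
    intro σ n
    exact MulSemiringAction.smul_coeff_charpoly _ _ _
  obtain ⟨f, hfC, hfX⟩ := exists_eval_mvPowerSeries v hsurj b hbm
  refine ⟨d * q, f, ?_, ?_⟩
  · haveI : IsAdicComplete (maximalIdeal (MvPowerSeries (Fin (d * q)) (ResidueField A)))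
        (MvPowerSeries (Fin (d * q)) (ResidueField A)) := PS.isAdicComplete_mvPowerSeries
    have hsurj' : Function.Surjective ((residue A).comp f) := by
      intro y
      refine ⟨MvPowerSeries.C y, ?_⟩
      rw [RingHom.comp_apply, hfC]
      exact hv1 y
    apply finite_of_mem_minimalPrimes f hsurj'
    have hmapmax : (maximalIdeal (MvPowerSeries (Fin (d * q)) (ResidueField A))).map f =
        Ideal.span (Set.range b) := by
      rw [PS.maximalIdeal_eq_sup, Ideal.map_sup, Ideal.map_map, IsLocalRing.maximalIdeal_eq_bot,
        Ideal.map_bot, bot_sup_eq, Ideal.map_span, ← Set.range_comp]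
      congr 2
      ext i
      exact hfX i
    rw [hmapmax]
    refine ⟨⟨inferInstance, ?_⟩, ?_⟩
    · rw [Ideal.span_le]
      rintro _ ⟨n, rfl⟩
      exact hbm n
    · rintro Q ⟨hQ, hbQ⟩ -
      rw [← hx]
      change Ideal.span _ ≤ Q
      rw [Ideal.span_le]
      rintro _ ⟨i, rfl⟩
      apply hQ.mem_of_pow_mem q
      rw [pow_card_eq (G := G), neg_mem_iff]
      apply Ideal.sum_mem
      intro j hj
      apply Ideal.mul_mem_right
      apply hbQ
      apply Ideal.subset_span
      refine ⟨finProdFinEquiv (i, ⟨j, Finset.mem_range.1 hj⟩), ?_⟩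
      simp only [b, Equiv.symm_apply_apply]
  · intro σ g
    have key : ∀ N : ℕ, σ • f g - f g ∈ maximalIdeal A ^ N := by
      intro N
      let π := Ideal.Quotient.mk (maximalIdeal A ^ N)
      let φ : MvPowerSeries (Fin (d * q)) (ResidueField A) →+* A ⧸ maximalIdeal A ^ N :=
        (π.comp (MulSemiringAction.toRingHom G A σ)).comp f
      let ψ : MvPowerSeries (Fin (d * q)) (ResidueField A) →+* A ⧸ maximalIdeal A ^ N := π.comp f
      have hφX : ∀ i, φ (X i) = π (b i) := by
        intro i
        change π (σ • f (X i)) = _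
        rw [hfX, hbG]
      have hψX : ∀ i, ψ (X i) = π (b i) := by
        intro i
        change π (f (X i)) = _
        rw [hfX]
      have hnil : Ideal.span (Set.range fun i => π (b i)) ^ N = ⊥ := by
        rw [eq_bot_iff]
        have h1 : Ideal.span (Set.range fun i => π (b i)) ≤ (maximalIdeal A).map π := by
          rw [Ideal.span_le]
          rintro _ ⟨i, rfl⟩
          exact Ideal.mem_map_of_mem _ (hbm i)
        refine (Ideal.pow_right_mono h1 N).trans ?_
        rw [← Ideal.map_pow, Ideal.map_quotient_self]
      have hφ := PS.kills_of_pow_eq_bot φ N (by simp only [hφX]; exact hnil)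
      have hψ := PS.kills_of_pow_eq_bot ψ N (by simp only [hψX]; exact hnil)
      have heq : φ = ψ := by
        apply PS.ringHom_ext_of_kills φ ψ N hφ hψ
        · intro r
          change π (σ • f (C r)) = π (f (C r))
          rw [hfC, hvG]
        · intro i
          rw [hφX, hψX]
      have h2 : φ g = ψ g := by rw [heq]
      change π (σ • f g) = π (f g) at h2
      rwa [Ideal.Quotient.eq] at h2
    have h0 : σ • f g - f g ∈ (⨅ N, maximalIdeal A ^ N : Ideal A) := by
      rw [Ideal.mem_iInf]
      exact key
    rw [Ideal.iInf_pow_eq_bot_of_isLocalRing _ (maximalIdeal.isMaximal A).ne_top, Ideal.mem_bot,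
      sub_eq_zero] at h0
    exact h0

end main

end Groth.Agent.Lib.Helper7.WQ
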