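import Mathlib
import Groth.Agent.Lib.Helper7.WQ3

set_option autoImplicit false
set_option linter.unusedSectionVars false
set_option linter.style.haveILetI false
universe u v w
open IsLocalRing

namespace Groth.Agent.Lib.Helper7.WQ

section fin

variable (A : Type u) [CommRing A] [IsLocalRing A] [IsNoetherianRing A]
  [hcA : IsAdicComplete (maximalIdeal A) A]
  {k : Type v} [Field k] [Algebra k A]
  (G : Type w) [Group G] [Finite G] [MulSemiringAction G A]

theorem finite_and_noetherian
    (hk : Function.Surjective (IsLocalRing.residue A ∘ algebraMap k A))
    (hGk : ∀ (σ : G) (c : k), σ • algebraMap k A c = algebraMap k A c) :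
    Module.Finite (FixedPoints.subring A G) A ∧ IsNoetherianRing (FixedPoints.subring A G) := by
  classical
  haveI : Fintype G := Fintype.ofFinite G
  obtain ⟨n, f, hfin, hfG⟩ := exists_powerSeries A G hk hGk
  let P := MvPowerSeries (Fin n) (ResidueField A)
  let f' : P →+* FixedPoints.subring A G := f.codRestrict _ (fun g σ => hfG σ g)
  letI : Algebra P A := f.toAlgebra
  letI : Algebra P (FixedPoints.subring A G) := f'.toAlgebra
  haveI : IsScalarTower P (FixedPoints.subring A G) A := IsScalarTower.of_algebraMap_eq (fun x => rfl)
  haveI : Module.Finite P A := hfin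
  have h1 : Module.Finite (FixedPoints.subring A G) A := Module.Finite.of_restrictScalars_finite P _ A
  refine ⟨h1, ?_⟩
  haveI : IsNoetherian P A := isNoetherian_of_isNoetherianRing_of_finite P A
  have h2 : IsNoetherian P (FixedPoints.subring A G) :=
    isNoetherian_of_injective (IsScalarTower.toAlgHom P (FixedPoints.subring A G) A).toLinearMap
      Subtype.val_injective
  exact isNoetherian_of_tower P h2

end fin

end Groth.Agent.Lib.Helper7.WQ
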