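import Mathlib
import Groth.Agent.Lib.Helper7.WQ1

set_option autoImplicit false
set_option linter.unusedSectionVars false
set_option linter.style.haveILetI false
universe u v w
open IsLocalRing

namespace Groth.Agent.Lib.Helper7.WQ

section loc

variable {A : Type u} [CommRing A] {G : Type w} [Group G] [MulSemiringAction G A]

theorem isUnit_fixed_iff (b : FixedPoints.subring A G) : IsUnit b ↔ IsUnit (b : A) := by
  constructor
  · intro h
    exact h.map (FixedPoints.subring A G).subtype
  · intro h
    obtain ⟨u, hu⟩ := h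
    have hinv : ∀ g : G, g • (↑u⁻¹ : A) = ↑u⁻¹ := by
      intro g
      have h1 : g • ((u : A) * ↑u⁻¹) = 1 := by rw [Units.mul_inv, smul_one]
      rw [smul_mul', hu, b.2 g, ← hu] at h1
      calc g • (↑u⁻¹ : A) = ↑u⁻¹ * (↑u * g • (↑u⁻¹ : A)) := by rw [← mul_assoc, Units.inv_mul, one_mul]
        _ = ↑u⁻¹ := by rw [h1, mul_one]
    refine isUnit_iff_exists_inv.2 ⟨⟨↑u⁻¹, hinv⟩, ?_⟩
    apply Subtype.ext
    change (b : A) * ↑u⁻¹ = 1
    rw [← hu, Units.mul_inv]

variable [IsLocalRing A]

instance isLocalRing_fixed : IsLocalRing (FixedPoints.subring A G) := by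
  haveI : Nontrivial (FixedPoints.subring A G) := inferInstance
  apply IsLocalRing.of_nonunits_add
  intro a b ha hb
  rw [mem_nonunits_iff, isUnit_fixed_iff] at ha hb ⊢
  exact (IsLocalRing.nonunits_add ha hb)

theorem maximalIdeal_fixed : maximalIdeal (FixedPoints.subring A G) =
    (maximalIdeal A).comap (FixedPoints.subring A G).subtype := by
  ext b
  rw [Ideal.mem_comap, mem_maximalIdeal, mem_maximalIdeal, mem_nonunits_iff, mem_nonunits_iff,
    isUnit_fixed_iff]
  rfl

end loc

section trace

variable {A : Type u} [CommRing A] {G : Type w} [Group G] [Fintype G] [MulSemiringAction G A]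

/-- the trace `a ↦ ∑ σ, σ a` as a linear map to the ring of invariants -/
noncomputable def tr : A →ₗ[FixedPoints.subring A G] FixedPoints.subring A G where
  toFun a := ⟨∑ σ : G, σ • a, by
    intro g
    rw [Finset.smul_sum]
    simp only [smul_smul]
    exact Fintype.sum_bijective (fun σ => g * σ) (Group.mulLeft_bijective g) _ _ (fun _ => rfl)⟩
  map_add' a b := by
    apply Subtype.ext
    simp [smul_add, Finset.sum_add_distrib]
  map_smul' b a := by
    apply Subtype.ext
    change ∑ σ : G, σ • ((b : A) * a) = (b : A) * ∑ σ : G, σ • a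
    rw [Finset.mul_sum]
    apply Finset.sum_congr rfl
    intro σ _
    rw [smul_mul', b.2 σ]

theorem coe_tr (a : A) : ((tr (G := G) a : FixedPoints.subring A G) : A) = ∑ σ : G, σ • a := rfl

variable [DecidableEq G]

theorem smul_eq_sum_tr (s : A) (F : Finset (A × A))
    (hF : ∀ τ : G, ∑ i ∈ F, i.1 * τ • i.2 = if τ = 1 then s else 0) (a : A) :
    s * a = ∑ i ∈ F, i.1 * (tr (G := G) (i.2 * a) : A) := by
  simp only [coe_tr, Finset.mul_sum, smul_mul']
  rw [Finset.sum_comm]
  have : ∀ τ : G, ∑ i ∈ F, i.1 * (τ • i.2 * τ • a) = (if τ = 1 then s else 0) * τ • a := by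
    intro τ
    rw [← hF τ, Finset.sum_mul]
    apply Finset.sum_congr rfl
    intro i _
    ring
  simp only [this]
  rw [Finset.sum_eq_single (1 : G)]
  · simp
  · intro τ _ hτ
    rw [if_neg hτ, zero_mul]
  · intro h
    exact absurd (Finset.mem_univ _) h

end trace

section part

variable {A : Type u} [CommRing A] {G : Type w} [Group G] [Fintype G] [DecidableEq G]
  [MulSemiringAction G A]

theorem exists_partition_at (P : Ideal (FixedPoints.subring A G)) [P.IsPrime]
    (h : ∀ Q : Ideal A, Q.IsPrime → Q.comap (FixedPoints.subring A G).subtype ≤ P →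
      Q.inertia G = ⊥) :
    ∃ s : FixedPoints.subring A G, s ∉ P ∧ ∃ F : Finset (A × A), ∀ τ : G,
      ∑ i ∈ F, i.1 * τ • i.2 = if τ = 1 then (s : A) else 0 := by
  let S : Submonoid A := P.primeCompl.map (FixedPoints.subring A G).subtype
  have hS : ∀ σ : G, σ ≠ 1 → ∃ s ∈ S, s ∈ Ideal.span (Set.range fun a : A => σ • a - a) := by
    intro σ hσ
    by_contra hcon
    push_neg at hcon
    have hdisj : Disjoint (Ideal.span (Set.range fun a : A => σ • a - a) : Set A) (S : Set A) := by
      rw [Set.disjoint_left]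
      intro x hx hxS
      exact hcon x hxS hx
    obtain ⟨Q, hQ, hIQ, hQS⟩ := Ideal.exists_le_prime_disjoint _ S hdisj
    have hQP : Q.comap (FixedPoints.subring A G).subtype ≤ P := by
      intro b hb
      by_contra hbP
      rw [Set.disjoint_left] at hQS
      exact hQS hb ⟨b, hbP, rfl⟩
    have h1 := h Q hQ hQP
    have h2 : σ ∈ Q.inertia G := by
      intro a
      apply hIQ
      exact Ideal.subset_span ⟨a, rfl⟩
    rw [h1, Subgroup.mem_bot] at h2
    exact hσ h2
  obtain ⟨s, ⟨s', hs', rfl⟩, F, hF⟩ := exists_partition S hS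
  exact ⟨s', hs', F, hF⟩

end part

end Groth.Agent.Lib.Helper7.WQ
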