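import Mathlib
import Groth.Agent.Lib.Helper7.WQ5

set_option autoImplicit false
set_option linter.unusedSectionVars false
set_option linter.style.haveILetI false
universe u v w
open IsLocalRing

namespace Groth.Agent.Lib.Helper7.WQ

section gram

variable {A : Type u} [CommRing A] {G : Type w} [Group G] [Fintype G] [DecidableEq G]
  [MulSemiringAction G A]

/-- the Gram matrix of the trace form -/
noncomputable def gram {ι : Type*} (e : ι → A) : Matrix ι ι (FixedPoints.subring A G) :=
  Matrix.of fun i j => tr (G := G) (e i * e j)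

theorem det_gram_dvd {ι : Type*} [Fintype ι] [DecidableEq ι]
    (e : Module.Basis ι (FixedPoints.subring A G) A)
    (s : FixedPoints.subring A G) (F : Finset (A × A))
    (hF : ∀ τ : G, ∑ i ∈ F, i.1 * τ • i.2 = if τ = 1 then (s : A) else 0) :
    (gram (G := G) e).det ∣ s ^ Fintype.card ι := by
  let Ψ : Matrix ι ι (FixedPoints.subring A G) :=
    Matrix.of fun j k => ∑ i ∈ F, e.repr i.1 j * e.repr i.2 k
  have hmul : Ψ * gram (G := G) e = s • (1 : Matrix ι ι (FixedPoints.subring A G)) := by
    apply Matrix.ext
    intro j l
    rw [Matrix.mul_apply, Matrix.smul_apply, Matrix.one_apply]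
    have h1 : ∀ i : A × A, tr (G := G) (i.2 * e l) = ∑ k, e.repr i.2 k * tr (G := G) (e k * e l) := by
      intro i
      conv_lhs => rw [← e.sum_repr i.2]
      rw [Finset.sum_mul, map_sum]
      apply Finset.sum_congr rfl
      intro k _
      rw [Algebra.smul_mul_assoc, map_smul, smul_eq_mul]
    have h2 := smul_eq_sum_tr (G := G) (s : A) F hF (e l)
    have h3 : (s : A) * e l = s • e l := rfl
    have h4 : ∀ i : A × A, i.1 * (tr (G := G) (i.2 * e l) : A) = tr (G := G) (i.2 * e l) • i.1 := by
      intro i
      rw [mul_comm]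
      rfl
    rw [h3] at h2
    simp only [h4] at h2
    have h5 := congrArg (fun z => e.repr z j) h2
    simp only [map_smul, map_sum, Finsupp.smul_apply, Finsupp.coe_finsetSum, Finset.sum_apply,
      Module.Basis.repr_self, smul_eq_mul] at h5
    rw [Finsupp.single_apply] at h5
    have h6 : s * (if l = j then (1 : FixedPoints.subring A G) else 0) =
        s * (if j = l then 1 else 0) := by
      by_cases hjl : j = l
      · subst hjl; simp
      · rw [if_neg hjl, if_neg (fun h => hjl h.symm)]
    rw [smul_eq_mul, ← h6, h5]
    simp only [Ψ, gram, Matrix.of_apply, Finset.sum_mul]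
    rw [Finset.sum_comm]
    apply Finset.sum_congr rfl
    intro i _
    rw [h1 i, Finset.sum_mul]
    apply Finset.sum_congr rfl
    intro k _
    ring
  have hdet := congrArg Matrix.det hmul
  rw [Matrix.det_mul, Matrix.det_smul, Matrix.det_one, mul_one] at hdet
  exact ⟨Ψ.det, by rw [← hdet, mul_comm]⟩

end gram

end Groth.Agent.Lib.Helper7.WQ
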