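import Mathlib
import Groth.Agent.Lib.Helper7.WQ4
import Groth.Agent.Lib.Helper7.WQ6
import Groth.Agent.Lib.Helper12.IntegralDim

set_option autoImplicit false
set_option linter.unusedSectionVars false
set_option linter.style.haveILetI false
universe u v w
open IsLocalRing

namespace Groth.Agent.Lib.Helper7.WQ

section triv

variable {A : Type u} [CommRing A] [IsLocalRing A] {k : Type v} [Field k] [Algebra k A]
  {G : Type w} [Group G] [MulSemiringAction G A]

theorem smul_sub_mem_maximalIdeal
    (hk : Function.Surjective (IsLocalRing.residue A ∘ algebraMap k A))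
    (hGk : ∀ (σ : G) (c : k), σ • algebraMap k A c = algebraMap k A c) (σ : G) (a : A) :
    σ • a - a ∈ maximalIdeal A := by
  obtain ⟨c, hc⟩ := hk (residue A a)
  have h1 : a - algebraMap k A c ∈ maximalIdeal A := by
    rw [← residue_eq_zero_iff, map_sub, sub_eq_zero]
    exact hc.symm
  have h2 : σ • (a - algebraMap k A c) ∈ maximalIdeal A := by
    rw [mem_maximalIdeal, mem_nonunits_iff] at h1 ⊢
    intro h
    apply h1
    have := h.map (MulSemiringAction.toRingHom G A σ⁻¹)
    simpa using this
  have h3 : σ • a - a = σ • (a - algebraMap k A c) - (a - algebraMap k A c) := by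
    rw [smul_sub, hGk]
    ring
  rw [h3]
  exact Ideal.sub_mem _ h2 h1

variable [Fintype G]

theorem tr_mem_maximalIdeal (p : ℕ) [CharP A p] (hcard : Nat.card G = p)
    (hk : Function.Surjective (IsLocalRing.residue A ∘ algebraMap k A))
    (hGk : ∀ (σ : G) (c : k), σ • algebraMap k A c = algebraMap k A c) (a : A) :
    tr (G := G) a ∈ maximalIdeal (FixedPoints.subring A G) := by
  rw [maximalIdeal_fixed, Ideal.mem_comap]
  change ∑ σ : G, σ • a ∈ maximalIdeal A
  have h1 : ∑ σ : G, σ • a = ∑ σ : G, (σ • a - a) + (Fintype.card G : A) * a := by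
    rw [Finset.sum_sub_distrib, Finset.sum_const, Finset.card_univ, nsmul_eq_mul]
    ring
  have h2 : (Fintype.card G : A) = 0 := by
    rw [← Nat.card_eq_fintype_card, hcard]
    exact CharP.cast_eq_zero A p
  rw [h1, h2, zero_mul, add_zero]
  exact Ideal.sum_mem _ fun σ _ => smul_sub_mem_maximalIdeal hk hGk σ a

end triv

section main

variable (p : ℕ) (A : Type u) [CommRing A] [IsLocalRing A] [IsNoetherianRing A] [CharP A p]
  [IsAdicComplete (IsLocalRing.maximalIdeal A) A]
  {k : Type v} [Field k] [Algebra k A]
  (G : Type w) [Group G] [Finite G] [MulSemiringAction G A]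

theorem isIntegral_fixed
    (hk : Function.Surjective (IsLocalRing.residue A ∘ algebraMap k A))
    (hGk : ∀ (σ : G) (c : k), σ • algebraMap k A c = algebraMap k A c) :
    Algebra.IsIntegral (FixedPoints.subring A G) A := by
  haveI := (finite_and_noetherian A G hk hGk).1
  exact Algebra.IsIntegral.of_finite _ _

theorem ringKrullDim_fixed
    (hk : Function.Surjective (IsLocalRing.residue A ∘ algebraMap k A))
    (hGk : ∀ (σ : G) (c : k), σ • algebraMap k A c = algebraMap k A c) :
    ringKrullDim (FixedPoints.subring A G) = ringKrullDim A := by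
  haveI := isIntegral_fixed A G hk hGk
  exact Groth.Agent.Lib.Helper12.ringKrullDim_eq_of_isIntegral_of_injective _ _
    Subtype.val_injective

/-- at a non-maximal prime of the ring of invariants there is a Galois partition -/
theorem exists_partition_of_not_isMaximal
    (hram : ∀ P : Ideal A, P.IsPrime → P ≠ IsLocalRing.maximalIdeal A → P.inertia G = ⊥)
    [Fintype G] [DecidableEq G]
    (P : Ideal (FixedPoints.subring A G)) [P.IsPrime] (hP : ¬ P.IsMaximal) :
    ∃ s : FixedPoints.subring A G, s ∉ P ∧ ∃ F : Finset (A × A), ∀ τ : G,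
      ∑ i ∈ F, i.1 * τ • i.2 = if τ = 1 then (s : A) else 0 := by
  apply exists_partition_at P
  intro Q hQ hQP
  apply hram Q hQ
  rintro rfl
  apply hP
  rw [← maximalIdeal_fixed] at hQP
  have := (maximalIdeal.isMaximal (FixedPoints.subring A G)).eq_of_le (Ideal.IsPrime.ne_top') hQP
  rw [← this]
  exact maximalIdeal.isMaximal _

theorem not_flat (hdim : 2 ≤ ringKrullDim A)
    (hk : Function.Surjective (IsLocalRing.residue A ∘ algebraMap k A))
    (hcard : Nat.card G = p)
    (hGk : ∀ (σ : G) (c : k), σ • algebraMap k A c = algebraMap k A c)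
    (hram : ∀ P : Ideal A, P.IsPrime → P ≠ IsLocalRing.maximalIdeal A → P.inertia G = ⊥) :
    ¬ Module.Flat (FixedPoints.subring A G) A := by
  classical
  haveI : Fintype G := Fintype.ofFinite G
  intro hflat
  obtain ⟨hfin, hnoeth⟩ := finite_and_noetherian A G hk hGk
  haveI : Module.Free (FixedPoints.subring A G) A := Module.free_of_flat_of_isLocalRing
  let ι := Module.Free.ChooseBasisIndex (FixedPoints.subring A G) A
  let e : Module.Basis ι (FixedPoints.subring A G) A := Module.Free.chooseBasis _ _
  haveI : Nonempty ι := by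
    by_contra hne
    rw [not_nonempty_iff] at hne
    have h1 : (1 : A) = 0 := by
      rw [← e.sum_repr 1]
      exact Finset.sum_of_isEmpty _
    exact one_ne_zero h1
  set d := (gram (G := G) e).det with hd
  have hdn : d ∈ maximalIdeal (FixedPoints.subring A G) := by
    rw [← Ideal.Quotient.eq_zero_iff_mem, hd, RingHom.map_det]
    have : (Ideal.Quotient.mk (maximalIdeal (FixedPoints.subring A G))).mapMatrix (gram (G := G) e) =
        0 := by
      apply Matrix.ext
      intro i j
      rw [RingHom.mapMatrix_apply, Matrix.map_apply, Matrix.zero_apply,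
        Ideal.Quotient.eq_zero_iff_mem]
      exact tr_mem_maximalIdeal p hcard hk hGk _
    rw [this, Matrix.det_zero]
  have hmaxl : ∀ P : Ideal (FixedPoints.subring A G), P.IsPrime → d ∈ P → P.IsMaximal := by
    intro P hP hdP
    by_contra hPm
    obtain ⟨s, hsP, F, hF⟩ := exists_partition_of_not_isMaximal A G hram P hPm
    obtain ⟨c, hc⟩ := det_gram_dvd e s F hF
    have h1 : s ^ Fintype.card ι ∈ P := by
      rw [hc]
      exact Ideal.mul_mem_right _ _ hdP
    exact hsP (hP.mem_of_pow_mem _ h1)
  have hmin : maximalIdeal (FixedPoints.subring A G) ∈ (Ideal.span {d}).minimalPrimes := by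
    refine ⟨⟨inferInstance, ?_⟩, ?_⟩
    · rw [Ideal.span_le, Set.singleton_subset_iff]
      exact hdn
    · rintro Q ⟨hQ, hdQ⟩ -
      have hQm := hmaxl Q hQ (hdQ (Ideal.subset_span rfl))
      rw [IsLocalRing.eq_maximalIdeal hQm]
  have hht := Ideal.height_le_one_of_isPrincipal_of_mem_minimalPrimes _ _ hmin
  have h2 : (maximalIdeal (FixedPoints.subring A G)).height = ringKrullDim (FixedPoints.subring A G) :=
    IsLocalRing.maximalIdeal_height_eq_ringKrullDim
  rw [ringKrullDim_fixed A G hk hGk] at h2
  have h3 : (2 : WithBot ℕ∞) ≤ ((maximalIdeal (FixedPoints.subring A G)).height : WithBot ℕ∞) := by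
    rw [h2]; exact hdim
  have h4 : ((maximalIdeal (FixedPoints.subring A G)).height : WithBot ℕ∞) ≤ 1 := by
    exact_mod_cast hht
  have := h3.trans h4
  norm_num at this

end main

end Groth.Agent.Lib.Helper7.WQ
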