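import Mathlib
import Groth.Agent.Lib.Helper7.WQ7

set_option autoImplicit false
set_option linter.unusedSectionVars false
set_option linter.style.haveILetI false
universe u v w
open IsLocalRing

namespace Groth.Agent.Lib.Helper7.WQ

section cpl

variable (A : Type u) [CommRing A] [IsLocalRing A] [IsNoetherianRing A]
  [hcA : IsAdicComplete (IsLocalRing.maximalIdeal A) A]
  (G : Type w) [Group G] [Finite G] [MulSemiringAction G A]

/-- the contraction of the maximal ideal to the ring of invariants -/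
abbrev nn : Ideal (FixedPoints.subring A G) :=
  Ideal.comap (FixedPoints.subring A G).subtype (IsLocalRing.maximalIdeal A)

local notation "B" => FixedPoints.subring A G
local notation "𝔫" => nn A G

/-- the maximal ideal of `A` is nilpotent modulo the extension of `m ∩ A^G` -/
theorem exists_pow_le_map :
    ∃ c : ℕ, maximalIdeal A ^ c ≤ Ideal.map (FixedPoints.subring A G).subtype 𝔫 := by
  classical
  haveI : Fintype G := Fintype.ofFinite G
  apply Ideal.exists_pow_le_of_le_radical_of_fg _ ((isNoetherianRing_iff_ideal_fg A).1 inferInstance _)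
  intro x hx
  refine ⟨Fintype.card G, ?_⟩
  rw [pow_card_eq (G := G), neg_mem_iff]
  apply Ideal.sum_mem
  intro j hj
  apply Ideal.mul_mem_right
  have hb : ∀ σ : G, σ • (MulSemiringAction.charpoly G x).coeff j =
      (MulSemiringAction.charpoly G x).coeff j :=
    fun σ => MulSemiringAction.smul_coeff_charpoly _ _ _
  have hm := coeff_charpoly_mem (G := G) hx j (Finset.mem_range.1 hj).ne
  have hm' : (⟨(MulSemiringAction.charpoly G x).coeff j, hb⟩ : FixedPoints.subring A G) ∈ nn A G := hm
  exact Ideal.mem_map_of_mem (FixedPoints.subring A G).subtype hm'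

theorem smul_pow_mem (σ : G) (n : ℕ) {a : A} (ha : a ∈ maximalIdeal A ^ n) :
    σ • a ∈ maximalIdeal A ^ n := by
  haveI : Fintype G := Fintype.ofFinite G
  have h1 : (maximalIdeal A).map (MulSemiringAction.toRingHom G A σ) ≤ maximalIdeal A := by
    rw [Ideal.map_le_iff_le_comap]
    intro x hx
    exact smul_mem_maximalIdeal σ hx
  have h2 := Ideal.mem_map_of_mem (MulSemiringAction.toRingHom G A σ) ha
  rw [Ideal.map_pow] at h2
  exact Ideal.pow_right_mono h1 n h2

/-- Chevalley-type comparison of topologies on the ring of invariants -/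
theorem exists_pow_inf_le [Module.Finite B A] [IsNoetherianRing B] (n : ℕ) :
    ∃ j : ℕ, ∀ b : B, (b : A) ∈ maximalIdeal A ^ j → b ∈ 𝔫 ^ n := by
  obtain ⟨c, hc⟩ := exists_pow_le_map A G
  obtain ⟨c', hc'⟩ := Ideal.exists_pow_inf_eq_pow_smul (𝔫 : Ideal B) (M := A)
    (LinearMap.range (Algebra.linearMap B A))
  refine ⟨c * (n + c'), fun b hb => ?_⟩
  have h1 : (b : A) ∈ Ideal.map (FixedPoints.subring A G).subtype (𝔫 ^ (n + c')) := by
    rw [Ideal.map_pow]
    rw [pow_mul] at hb
    exact Ideal.pow_right_mono hc _ hb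
  have h2 : (b : A) ∈ ((𝔫 ^ (n + c') : Ideal B) • ⊤ : Submodule B A) := by
    rw [Ideal.smul_top_eq_map]
    exact h1
  have h3 : (b : A) ∈ ((𝔫 ^ (n + c') : Ideal B) • ⊤ : Submodule B A) ⊓
      LinearMap.range (Algebra.linearMap B A) := ⟨h2, ⟨b, rfl⟩⟩
  rw [hc' (n + c') (by omega), Nat.add_sub_cancel] at h3
  have h4 : ((𝔫 ^ n : Ideal B) • ((𝔫 ^ c' : Ideal B) • (⊤ : Submodule B A) ⊓
      LinearMap.range (Algebra.linearMap B A)) : Submodule B A) ≤
      Submodule.map (Algebra.linearMap B A) ((𝔫 ^ n : Ideal B) • (⊤ : Submodule B B)) := by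
    rw [Submodule.map_smul'', Submodule.map_top]
    exact Submodule.smul_mono le_rfl inf_le_right
  obtain ⟨b', hb', hbb'⟩ := h4 h3
  have : b' = b := Subtype.ext hbb'
  rw [← this]
  rwa [smul_eq_mul, Ideal.mul_top] at hb'

theorem isAdicComplete_fixed [Module.Finite B A] [IsNoetherianRing B] :
    IsAdicComplete 𝔫 B := by
  have hle : ∀ n, ∀ b : B, b ∈ 𝔫 ^ n → (b : A) ∈ maximalIdeal A ^ n := by
    intro n b hb
    have h1 := Ideal.mem_map_of_mem (FixedPoints.subring A G).subtype hb
    rw [Ideal.map_pow] at h1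
    exact Ideal.pow_right_mono Ideal.map_comap_le n h1
  haveI hH : IsHausdorff 𝔫 B := by
    refine ⟨fun b hb => ?_⟩
    apply Subtype.ext
    have hA : IsHausdorff (maximalIdeal A) A := inferInstance
    apply hA.haus'
    intro n
    have h1 := hb n
    rw [SModEq.zero, smul_eq_mul, Ideal.mul_top] at h1 ⊢
    exact hle n b h1
  haveI hP : IsPrecomplete 𝔫 B := by
    refine ⟨fun f hf => ?_⟩
    have hA : IsPrecomplete (maximalIdeal A) A := inferInstance
    obtain ⟨L, hL⟩ := hA.prec' (fun n => (f n : A)) (by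
      intro m n hmn
      have h1 := hf hmn
      rw [SModEq.sub_mem, smul_eq_mul, Ideal.mul_top] at h1 ⊢
      exact hle m _ h1)
    have hL' : ∀ n, (f n : A) - L ∈ maximalIdeal A ^ n := by
      intro n
      have h1 := hL n
      rwa [SModEq.sub_mem, smul_eq_mul, Ideal.mul_top] at h1
    have hLG : ∀ σ : G, σ • L = L := by
      intro σ
      have key : ∀ n, σ • L - L ∈ maximalIdeal A ^ n := by
        intro n
        have h1 : σ • L - L = (f n - L) - σ • ((f n : A) - L) := by
          rw [smul_sub, (f n).2 σ]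
          ring
        rw [h1]
        exact Ideal.sub_mem _ (hL' n) (smul_pow_mem A G σ n (hL' n))
      have h0 : σ • L - L ∈ (⨅ N, maximalIdeal A ^ N : Ideal A) := by
        rw [Ideal.mem_iInf]
        exact key
      rw [Ideal.iInf_pow_eq_bot_of_isLocalRing _ (maximalIdeal.isMaximal A).ne_top, Ideal.mem_bot,
        sub_eq_zero] at h0
      exact h0
    refine ⟨⟨L, hLG⟩, fun n => ?_⟩
    rw [SModEq.sub_mem, smul_eq_mul, Ideal.mul_top]
    obtain ⟨j, hj⟩ := exists_pow_inf_le A G n
    have h1 : f n - f (max n j) ∈ 𝔫 ^ n := by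
      have := hf (le_max_left n j)
      rwa [SModEq.sub_mem, smul_eq_mul, Ideal.mul_top] at this
    have h2 : f (max n j) - ⟨L, hLG⟩ ∈ 𝔫 ^ n := by
      apply hj
      exact Ideal.pow_le_pow_right (le_max_right n j) (hL' (max n j))
    have h3 : f n - ⟨L, hLG⟩ = (f n - f (max n j)) + (f (max n j) - ⟨L, hLG⟩) := by ring
    rw [h3]
    exact Ideal.add_mem _ h1 h2
  exact { toIsHausdorff := hH, toIsPrecomplete := hP }

end cpl

end Groth.Agent.Lib.Helper7.WQ
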