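import Mathlib

set_option autoImplicit false
set_option linter.unusedSectionVars false
set_option linter.style.haveILetI false
universe u v w

namespace Groth.Agent.Lib.Helper7.WQ

section normal

variable (A : Type u) [CommRing A] [IsDomain A] [IsIntegrallyClosed A]
  (G : Type w) [Group G] [MulSemiringAction G A]

theorem isIntegrallyClosed_fixed : IsIntegrallyClosed (FixedPoints.subring A G) := by
  let B := FixedPoints.subring A G
  let K := FractionRing B
  let L := FractionRing A
  rw [isIntegrallyClosed_iff K]
  intro x hx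
  let g : B →+* L := (algebraMap A L).comp B.subtype
  have hg : Function.Injective g :=
    (IsFractionRing.injective A L).comp Subtype.val_injective
  let φ : K →+* L := IsFractionRing.lift hg
  have hφ : ∀ b : B, φ (algebraMap B K b) = algebraMap A L (b : A) := fun b =>
    IsFractionRing.lift_algebraMap hg b
  obtain ⟨q, hq, hqx⟩ := hx
  have hint : IsIntegral A (φ x) := by
    refine ⟨q.map B.subtype, hq.map _, ?_⟩
    rw [Polynomial.eval₂_map]
    have h1 : (algebraMap A L).comp B.subtype = φ.comp (algebraMap B K) := by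
      ext b
      exact (hφ b).symm
    rw [h1, ← Polynomial.hom_eval₂, hqx, map_zero]
  obtain ⟨a, ha⟩ := IsIntegrallyClosed.algebraMap_eq_of_integral hint
  obtain ⟨⟨b1, b2⟩, hb⟩ := IsLocalization.mk'_surjective (nonZeroDivisors B) x
  have hb2 : (b2 : B) ≠ 0 := nonZeroDivisors.ne_zero b2.2
  have hx2 : x * algebraMap B K b2 = algebraMap B K b1 := by
    rw [← hb]
    exact IsLocalization.mk'_spec _ _ _
  have h2 : a * ((b2 : B) : A) = (b1 : A) := by
    apply IsFractionRing.injective A L
    rw [map_mul, ha, ← hφ, ← hφ, ← map_mul, hx2]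
  have hb2A : (((b2 : B) : A)) ≠ 0 := fun h => hb2 (Subtype.ext h)
  have haG : ∀ σ : G, σ • a = a := by
    intro σ
    have h3 : σ • a * ((b2 : B) : A) = (b1 : A) := by
      have := congrArg (fun z => σ • z) h2
      simp only [smul_mul'] at this
      rwa [(b2 : B).2 σ, b1.2 σ] at this
    have h4 : (σ • a - a) * ((b2 : B) : A) = 0 := by
      rw [sub_mul, h3, h2, sub_self]
    rcases mul_eq_zero.1 h4 with h5 | h5
    · exact sub_eq_zero.1 h5
    · exact absurd h5 hb2A
  refine ⟨⟨a, haG⟩, ?_⟩
  have hb2K : algebraMap B K b2 ≠ 0 := by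
    intro h
    apply hb2
    exact (IsFractionRing.injective B K) (by rw [h, map_zero])
  apply mul_right_cancel₀ hb2K
  rw [hx2, ← map_mul]
  congr 1
  exact Subtype.ext h2

end normal

end Groth.Agent.Lib.Helper7.WQ
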