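import Mathlib
import Groth.Agent.Lib.Helper7.WQ8
import Groth.Agent.Lib.Helper7.WQ9
import Groth.Agent.Lib.Helper18.MCMFree
import Groth.Agent.Lib.Helper10.RegularNormal

set_option autoImplicit false
set_option linter.unusedSectionVars false
set_option linter.style.haveILetI false
universe u v w
open IsLocalRing

namespace Groth.Agent.Lib.Helper7.WQ

section

variable {A : Type u} [CommRing A] [IsLocalRing A] {G : Type w} [Group G] [MulSemiringAction G A]

instance isLocalHom_fixed : IsLocalHom (algebraMap (FixedPoints.subring A G) A) := by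
  refine ⟨fun b hb => ?_⟩
  rw [isUnit_fixed_iff]
  exact hb

end

section main

variable (p : ℕ) (A : Type u) [CommRing A] [IsRegularLocalRing A] [CharP A p]
  [IsAdicComplete (IsLocalRing.maximalIdeal A) A]
  {k : Type v} [Field k] [Algebra k A]
  (G : Type w) [Group G] [Finite G] [MulSemiringAction G A]

theorem not_regular (hdim : 2 ≤ ringKrullDim A)
    (hk : Function.Surjective (IsLocalRing.residue A ∘ algebraMap k A))
    (hcard : Nat.card G = p)
    (hGk : ∀ (σ : G) (c : k), σ • algebraMap k A c = algebraMap k A c)
    (hram : ∀ P : Ideal A, P.IsPrime → P ≠ IsLocalRing.maximalIdeal A → P.inertia G = ⊥) :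
    ¬ IsRegularLocalRing (FixedPoints.subring A G) := by
  intro hreg
  obtain ⟨hfin, hnoeth⟩ := finite_and_noetherian A G hk hGk
  have h1 : LocCoh.depth (FixedPoints.subring A G) A = LocCoh.depth A A :=
    Groth.Agent.Lib.Helper18.CM.depth_eq_of_finite (A := FixedPoints.subring A G) (B := A) A
  have h2 := Groth.Agent.Lib.Helper18.CM.ringKrullDim_le_depth_of_free A A
  rw [← h1, ← ringKrullDim_fixed A G hk hGk] at h2
  haveI := Groth.Agent.Lib.Helper18.CM.free_of_le_depth (FixedPoints.subring A G) A h2
  exact not_flat p A G hdim hk hcard hGk hram inferInstance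

theorem all_props (hdim : 2 ≤ ringKrullDim A)
    (hk : Function.Surjective (IsLocalRing.residue A ∘ algebraMap k A))
    (hcard : Nat.card G = p)
    (hGk : ∀ (σ : G) (c : k), σ • algebraMap k A c = algebraMap k A c)
    (hram : ∀ P : Ideal A, P.IsPrime → P ≠ IsLocalRing.maximalIdeal A → P.inertia G = ⊥) :
    IsNoetherianRing (FixedPoints.subring A G) ∧ Module.Finite (FixedPoints.subring A G) A ∧
      IsIntegrallyClosed (FixedPoints.subring A G) ∧
      ringKrullDim (FixedPoints.subring A G) = ringKrullDim A ∧
      IsAdicComplete (Ideal.comap (FixedPoints.subring A G).subtype (IsLocalRing.maximalIdeal A))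
        (FixedPoints.subring A G) ∧
      ¬ IsRegularLocalRing (FixedPoints.subring A G) := by
  obtain ⟨hfin, hnoeth⟩ := finite_and_noetherian A G hk hGk
  haveI : IsDomain A := Groth.Agent.Lib.Helper21.isDomain_of_isRegularLocalRing A
  haveI : IsIntegrallyClosed A :=
    Groth.Agent.Lib.Helper10.RegularNormal.isIntegrallyClosed_of_isRegularLocalRing A
  exact ⟨hnoeth, hfin, isIntegrallyClosed_fixed A G, ringKrullDim_fixed A G hk hGk,
    isAdicComplete_fixed A G, not_regular p A G hdim hk hcard hGk hram⟩

end main

end Groth.Agent.Lib.Helper7.WQ
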