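import Mathlib

set_option autoImplicit false
set_option linter.unusedSectionVars false
set_option linter.style.haveILetI false
open TensorProduct

namespace Groth.Agent.Lib.Helper7.WQ

/-- over one ring: if `sA` kills `ker g` and is bijective on the flat module `M`, then `M ⊗ g` is
injective -/
theorem lTensor_injective_of_smul_ker {A M P Q : Type*} [CommRing A] [AddCommGroup M] [Module A M]
    [Module.Flat A M] [AddCommGroup P] [Module A P] [AddCommGroup Q] [Module A Q] (g : P →ₗ[A] Q)
    (sA : A) (hker : ∀ z, g z = 0 → sA • z = 0)
    (hM : Function.Bijective (fun m : M => sA • m)) : Function.Injective (g.lTensor M) := by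
  let eS : M ≃ₗ[A] M := LinearEquiv.ofBijective (LinearMap.lsmul A M sA) hM
  have heS : ∀ m, eS.symm (sA • m) = m := fun m => eS.symm_apply_apply m
  rw [injective_iff_map_eq_zero]
  intro w hw
  have hex : Function.Exact ((LinearMap.ker g).subtype.lTensor M) (g.lTensor M) :=
    Module.Flat.lTensor_exact M (LinearMap.exact_subtype_ker_map g)
  have h1 : ∀ w' : M ⊗[A] ↥(LinearMap.ker g), sA • w' = 0 := by
    intro w'
    induction w' using TensorProduct.induction_on with
    | zero => rw [smul_zero]
    | add x y hx hy => rw [smul_add, hx, hy, add_zero]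
    | tmul m z =>
      rw [← TensorProduct.tmul_smul]
      have : sA • z = 0 := by
        apply Subtype.ext
        rw [Submodule.coe_smul, Submodule.coe_zero]
        exact hker _ z.2
      rw [this, TensorProduct.tmul_zero]
  have h2 : ∀ y : M ⊗[A] P, (eS.symm.toLinearMap.rTensor _) (sA • y) = y := by
    intro y
    induction y using TensorProduct.induction_on with
    | zero => simp
    | add x y hx hy => rw [smul_add, map_add, hx, hy]
    | tmul m z =>
      rw [TensorProduct.smul_tmul', LinearMap.rTensor_tmul, LinearEquiv.coe_coe, heS]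
  obtain ⟨w', rfl⟩ := (hex w).1 hw
  rw [← h2 ((LinearMap.ker g).subtype.lTensor M w'), ← map_smul, h1, map_zero, map_zero]


section flat

variable {B A M F : Type*} [CommRing B] [CommRing A] [Algebra B A] [AddCommGroup M] [Module A M]
  [Module B M] [IsScalarTower B A M] [AddCommGroup F] [Module B F]

/-- Step 1: the kernel of `A ⊗ N' → A ⊗ N` is killed by `s`. -/
theorem smul_eq_zero_of_baseChange_eq_zero [Module.Flat B F] (i' : A →ₗ[B] F) (π' : F →ₗ[B] A)
    (s : B) (hs : ∀ a, π' (i' a) = s • a)
    {N' N : Type*} [AddCommGroup N'] [Module B N'] [AddCommGroup N] [Module B N]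
    (f : N' →ₗ[B] N) (hf : Function.Injective f) (z : A ⊗[B] N')
    (hz : f.lTensor A z = 0) : s • z = 0 := by
  have h1 : f.lTensor F (i'.rTensor N' z) = 0 := by
    rw [← LinearMap.comp_apply, LinearMap.lTensor_comp_rTensor, ← LinearMap.rTensor_comp_lTensor,
      LinearMap.comp_apply, hz, map_zero]
  have h2 : i'.rTensor N' z = 0 :=
    Module.Flat.lTensor_preserves_injective_linearMap f hf (by rw [h1, map_zero])
  have h3 : π'.rTensor N' (i'.rTensor N' z) = s • z := by
    rw [← LinearMap.comp_apply, ← LinearMap.rTensor_comp]
    have : π' ∘ₗ i' = s • LinearMap.id := by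
      apply LinearMap.ext
      intro a
      rw [LinearMap.comp_apply, hs]
      rfl
    rw [this, LinearMap.rTensor_smul, LinearMap.rTensor_id]
    rfl
  rw [← h3, h2, map_zero]

/-- flatness descends along `B → A` when `s • id_A` factors through a flat `B`-module and `s`
is invertible on the `A`-flat module `M` -/
theorem flat_of_factor [Module.Flat A M] [Module.Flat B F] (i' : A →ₗ[B] F) (π' : F →ₗ[B] A)
    (s : B) (hs : ∀ a, π' (i' a) = s • a)
    (hM : Function.Bijective (fun m : M => s • m)) : Module.Flat B M := by
  rw [Module.Flat.iff_lTensor_injective']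
  intro I
  let f : I →ₗ[B] B := I.subtype
  have hf : Function.Injective f := Subtype.val_injective
  let fA : A ⊗[B] I →ₗ[A] A ⊗[B] B := f.baseChange A
  have hfA : ∀ z, fA z = f.lTensor A z := fun z => rfl
  let sA : A := algebraMap B A s
  have hsA : ∀ m : M, sA • m = s • m := fun m => algebraMap_smul A s m
  have hM' : Function.Bijective (fun m : M => sA • m) := by
    have : (fun m : M => sA • m) = fun m : M => s • m := funext hsA
    rw [this]
    exact hM
  have hinjA : Function.Injective (fA.lTensor M) := by
    apply lTensor_injective_of_smul_ker fA sA _ hM'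
    intro z hz
    rw [hfA] at hz
    have := smul_eq_zero_of_baseChange_eq_zero i' π' s hs f hf z hz
    rw [← this]
    exact algebraMap_smul A s z
  -- transfer along `cancelBaseChange`
  let e₁ := TensorProduct.AlgebraTensorModule.cancelBaseChange B A A M I
  let e₂ := TensorProduct.AlgebraTensorModule.cancelBaseChange B A A M B
  have hnat : ∀ w, e₂ (fA.lTensor M w) = f.lTensor M (e₁ w) := by
    intro w
    induction w using TensorProduct.induction_on with
    | zero => simp
    | add x y hx hy => rw [map_add, map_add, map_add, map_add, hx, hy]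
    | tmul m z =>
      rw [LinearMap.lTensor_tmul]
      induction z using TensorProduct.induction_on with
      | zero => simp
      | add x y hx hy => rw [map_add, TensorProduct.tmul_add, TensorProduct.tmul_add, map_add, map_add,
          map_add, hx, hy]
      | tmul a x =>
        rw [hfA, LinearMap.lTensor_tmul]
        simp only [e₁, e₂, TensorProduct.AlgebraTensorModule.cancelBaseChange_tmul,
          LinearMap.lTensor_tmul]
  intro w₁ w₂ h
  have h1 : f.lTensor M (e₁ (e₁.symm w₁)) = f.lTensor M (e₁ (e₁.symm w₂)) := by
    rw [e₁.apply_symm_apply, e₁.apply_symm_apply]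
    exact h
  rw [← hnat, ← hnat] at h1
  have h2 := hinjA (e₂.injective h1)
  exact e₁.symm.injective h2

end flat

end Groth.Agent.Lib.Helper7.WQ
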