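import Mathlib
import Groth.Agent.Lib.Helper7.WQ7
import Groth.Agent.Lib.Helper7.WQ11
import Groth.Agent.Lib.Helper18.SerreReg2

set_option autoImplicit false
set_option linter.unusedSectionVars false
set_option linter.style.haveILetI false
universe u v w
open IsLocalRing

namespace Groth.Agent.Lib.Helper7.WQ

section flatloc

variable {A : Type u} [CommRing A] {G : Type w} [Group G] [Fintype G] [DecidableEq G]
  [MulSemiringAction G A]

/-- `a ↦ (tr (y_i a))_i` -/
noncomputable def iF (F : Finset (A × A)) : A →ₗ[FixedPoints.subring A G] (F → FixedPoints.subring A G) :=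
  LinearMap.pi fun i => (tr (G := G)).comp (LinearMap.mulLeft (FixedPoints.subring A G) (i : A × A).2)

/-- `c ↦ ∑ c_i x_i` -/
noncomputable def pF (F : Finset (A × A)) : (F → FixedPoints.subring A G) →ₗ[FixedPoints.subring A G] A :=
  Fintype.linearCombination (FixedPoints.subring A G) (fun i : F => (i : A × A).1)

theorem pF_iF (s : A) (F : Finset (A × A))
    (hF : ∀ τ : G, ∑ i ∈ F, i.1 * τ • i.2 = if τ = 1 then s else 0) (a : A) :
    pF (G := G) F (iF (G := G) F a) = s * a := by
  rw [smul_eq_sum_tr (G := G) s F hF a, pF, Fintype.linearCombination_apply]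
  rw [← Finset.sum_coe_sort F (fun i => i.1 * (tr (G := G) (i.2 * a) : A))]
  apply Finset.sum_congr rfl
  intro i _
  change (tr (G := G) ((i : A × A).2 * a) : A) * (i : A × A).1 = _
  rw [mul_comm]

/-- a localization of `A` at a prime over `P` is flat over the invariants, provided a Galois
partition exists away from `P` -/
theorem flat_localization_of_partition (Q : Ideal A) [Q.IsPrime] (s : FixedPoints.subring A G)
    (hsQ : (s : A) ∉ Q) (F : Finset (A × A))
    (hF : ∀ τ : G, ∑ i ∈ F, i.1 * τ • i.2 = if τ = 1 then (s : A) else 0) :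
    Module.Flat (FixedPoints.subring A G) (Localization.AtPrime Q) := by
  apply flat_of_factor (A := A) (iF (G := G) F) (pF (G := G) F) s
  · intro a
    rw [pF_iF (s : A) F hF a]
    rfl
  · have hu : IsUnit (algebraMap A (Localization.AtPrime Q) (s : A)) :=
      IsLocalization.map_units (M := Q.primeCompl) _ ⟨(s : A), hsQ⟩
    have h1 : (fun m : Localization.AtPrime Q => s • m) =
        fun m => algebraMap A (Localization.AtPrime Q) (s : A) * m := by
      funext m
      rw [← Algebra.smul_def]
      exact (algebraMap_smul A s m).symm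
    rw [h1]
    exact IsUnit.isUnit_iff_mulLeft_bijective.1 hu

end flatloc

end Groth.Agent.Lib.Helper7.WQ

namespace Groth.Agent.Lib.Helper7.WQ

section main

variable (A : Type u) [CommRing A] [IsRegularLocalRing A]
  [IsAdicComplete (IsLocalRing.maximalIdeal A) A]
  {k : Type v} [Field k] [Algebra k A]
  (G : Type w) [Group G] [Finite G] [MulSemiringAction G A]

theorem regular_localization
    (hk : Function.Surjective (IsLocalRing.residue A ∘ algebraMap k A))
    (hGk : ∀ (σ : G) (c : k), σ • algebraMap k A c = algebraMap k A c)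
    (hram : ∀ P : Ideal A, P.IsPrime → P ≠ IsLocalRing.maximalIdeal A → P.inertia G = ⊥)
    (P : Ideal (FixedPoints.subring A G)) [P.IsPrime] (hP : ¬ P.IsMaximal) :
    IsRegularLocalRing (Localization.AtPrime P) := by
  classical
  haveI : Fintype G := Fintype.ofFinite G
  obtain ⟨hfin, hnoeth⟩ := finite_and_noetherian A G hk hGk
  haveI := isIntegral_fixed A G hk hGk
  have hker : (⊥ : Ideal A).comap (algebraMap (FixedPoints.subring A G) A) ≤ P := by
    intro b hb
    rw [Ideal.mem_comap, Ideal.mem_bot] at hb
    have : b = 0 := Subtype.ext hb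
    rw [this]
    exact P.zero_mem
  obtain ⟨Q, -, hQ, hQP⟩ := Ideal.exists_ideal_over_prime_of_isIntegral P (⊥ : Ideal A) hker
  haveI : Q.LiesOver P := ⟨hQP.symm⟩
  obtain ⟨s, hsP, F, hF⟩ := exists_partition_of_not_isMaximal A G hram P hP
  have hsQ : (s : A) ∉ Q := by
    intro h
    apply hsP
    rw [← hQP]
    exact h
  have hflatB : Module.Flat (FixedPoints.subring A G) (Localization.AtPrime Q) :=
    flat_localization_of_partition Q s hsQ F hF
  letI := Localization.AtPrime.algebraOfLiesOver P Q
  haveI : IsLocalHom (algebraMap (Localization.AtPrime P) (Localization.AtPrime Q)) :=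
    Localization.isLocalHom_localRingHom _ _ _ _
  haveI : IsRegularLocalRing (Localization.AtPrime Q) :=
    Groth.Agent.Lib.Helper18.SerreReg.isRegularLocalRing_localization_atPrime A Q
  haveI : IsNoetherianRing (Localization.AtPrime P) :=
    IsLocalization.isNoetherianRing P.primeCompl _ hnoeth
  haveI : Module.Flat (Localization.AtPrime P) (Localization.AtPrime Q) :=
    (Module.flat_iff_of_isLocalization (Localization.AtPrime P) P.primeCompl
      (Localization.AtPrime Q)).2 hflatB
  exact Groth.Agent.Lib.Helper18.SerreReg.isRegularLocalRing_of_flat_of_isLocalHom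
    (Localization.AtPrime P) (Localization.AtPrime Q)

end main

end Groth.Agent.Lib.Helper7.WQ
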