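import Mathlib
import Groth.Agent.Lib.Helper7.WQ6

set_option autoImplicit false
set_option linter.unusedSectionVars false
set_option linter.style.haveILetI false
universe u v w
open IsLocalRing

namespace Groth.Agent.Lib.Helper7.WQ

section disc

variable {A : Type u} [CommRing A] [IsLocalRing A] {G : Type w} [Group G] [Fintype G] [DecidableEq G]
  [MulSemiringAction G A]

/-- If the invariants are Noetherian of dimension at least two, `A` is free over them and the
action is unramified away from the closed point, then the discriminant of the trace form is a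
unit. -/
theorem isUnit_det_gram [IsNoetherianRing (FixedPoints.subring A G)]
    (hdim : 2 ≤ ringKrullDim (FixedPoints.subring A G))
    (hram : ∀ P : Ideal A, P.IsPrime → P ≠ IsLocalRing.maximalIdeal A → P.inertia G = ⊥)
    {ι : Type*} [Fintype ι] [DecidableEq ι]
    (e : Module.Basis ι (FixedPoints.subring A G) A) :
    IsUnit (gram (G := G) e).det := by
  by_contra hnu
  set d := (gram (G := G) e).det with hd
  have hdn : d ∈ maximalIdeal (FixedPoints.subring A G) := by
    rw [mem_maximalIdeal, mem_nonunits_iff]
    exact hnu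
  have hmaxl : ∀ P : Ideal (FixedPoints.subring A G), P.IsPrime → d ∈ P → P.IsMaximal := by
    intro P hP hdP
    by_contra hPm
    have hex : ∃ s : FixedPoints.subring A G, s ∉ P ∧ ∃ F : Finset (A × A), ∀ τ : G,
        ∑ i ∈ F, i.1 * τ • i.2 = if τ = 1 then (s : A) else 0 := by
      apply exists_partition_at P
      intro Q hQ hQP
      apply hram Q hQ
      rintro rfl
      apply hPm
      rw [← maximalIdeal_fixed] at hQP
      have := (maximalIdeal.isMaximal (FixedPoints.subring A G)).eq_of_le (Ideal.IsPrime.ne_top') hQP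
      rw [← this]
      exact maximalIdeal.isMaximal _
    obtain ⟨s, hsP, F, hF⟩ := hex
    obtain ⟨c, hc⟩ := det_gram_dvd e s F hF
    have h1 : s ^ Fintype.card ι ∈ P := by
      rw [hc]
      exact Ideal.mul_mem_right _ _ hdP
    exact hsP (hP.mem_of_pow_mem _ h1)
  have hmin : maximalIdeal (FixedPoints.subring A G) ∈ (Ideal.span {d}).minimalPrimes := by
    refine ⟨⟨inferInstance, ?_⟩, ?_⟩
    · rw [Ideal.span_le, Set.singleton_subset_iff]
      exact hdn
    · rintro Q ⟨hQ, hdQ⟩ -
      have hQm := hmaxl Q hQ (hdQ (Ideal.subset_span rfl))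
      rw [IsLocalRing.eq_maximalIdeal hQm]
  have hht := Ideal.height_le_one_of_isPrincipal_of_mem_minimalPrimes _ _ hmin
  have h2 : (maximalIdeal (FixedPoints.subring A G)).height = ringKrullDim (FixedPoints.subring A G) :=
    IsLocalRing.maximalIdeal_height_eq_ringKrullDim
  have h3 : (2 : WithBot ℕ∞) ≤ ((maximalIdeal (FixedPoints.subring A G)).height : WithBot ℕ∞) := by
    rw [h2]; exact hdim
  have h4 : ((maximalIdeal (FixedPoints.subring A G)).height : WithBot ℕ∞) ≤ 1 := by
    exact_mod_cast hht
  have := h3.trans h4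
  norm_num at this

/-- the trace of an element of the maximal ideal lies in the maximal ideal -/
theorem tr_mem_of_mem {a : A} (ha : a ∈ maximalIdeal A) :
    tr (G := G) a ∈ maximalIdeal (FixedPoints.subring A G) := by
  rw [maximalIdeal_fixed, Ideal.mem_comap]
  change ∑ σ : G, σ • a ∈ maximalIdeal A
  apply Ideal.sum_mem
  intro σ _
  rw [mem_maximalIdeal, mem_nonunits_iff] at ha ⊢
  intro h
  apply ha
  have := h.map (MulSemiringAction.toRingHom G A σ⁻¹)
  simpa using this

/-- if the discriminant is a unit then `m_A = 𝔫 A` -/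
theorem repr_mem_of_isUnit_det {ι : Type*} [Fintype ι] [DecidableEq ι]
    (e : Module.Basis ι (FixedPoints.subring A G) A) (hu : IsUnit (gram (G := G) e).det)
    {a : A} (ha : a ∈ maximalIdeal A) (j : ι) :
    e.repr a j ∈ maximalIdeal (FixedPoints.subring A G) := by
  let M := gram (G := G) e
  let v : ι → FixedPoints.subring A G := fun j => e.repr a j
  have h1 : ∀ i, (Matrix.vecMul v M) i ∈ maximalIdeal (FixedPoints.subring A G) := by
    intro i
    have : Matrix.vecMul v M i = tr (G := G) (a * e i) := by
      conv_rhs => rw [← e.sum_repr a]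
      rw [Finset.sum_mul, map_sum]
      change ∑ j, v j * M j i = _
      apply Finset.sum_congr rfl
      intro j _
      rw [Algebra.smul_mul_assoc, map_smul, smul_eq_mul]
      rfl
    rw [this]
    exact tr_mem_of_mem (Ideal.mul_mem_right _ _ ha)
  have hM : IsUnit M := (Matrix.isUnit_iff_isUnit_det M).2 hu
  have h2 : v = Matrix.vecMul (Matrix.vecMul v M) M⁻¹ := by
    rw [Matrix.vecMul_vecMul, Matrix.mul_nonsing_inv M hu, Matrix.vecMul_one]
  change v j ∈ _
  rw [h2]
  change ∑ i, Matrix.vecMul v M i * M⁻¹ i j ∈ _
  exact Ideal.sum_mem _ fun i _ => Ideal.mul_mem_right _ _ (h1 i)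

end disc

end Groth.Agent.Lib.Helper7.WQ
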