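import Mathlib
import Groth.Agent.Lib.Helper7.WQ13
import Groth.Agent.Lib.Helper7.WQ10
import Groth.Agent.Lib.Helper18.SerreNormal
import Groth.Agent.Lib.Helper18.MCMFree
import Groth.Agent.Lib.Helper12.IntegralDim

set_option autoImplicit false
set_option linter.unusedSectionVars false
set_option linter.style.haveILetI false
universe u v w
open IsLocalRing

namespace Groth.Agent.Lib.Helper7.WQ

section purity

variable (A : Type v) [CommRing A] [IsDomain A] [IsIntegrallyClosed A] [IsLocalRing A]
  [IsNoetherianRing A]
  (H : Type w) [Group H] [Finite H] [MulSemiringAction H A] [FaithfulSMul H A]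

/-- **Purity in dimension two for Galois covers with trivial residue extension**: a finite
group acting faithfully on a two-dimensional normal local domain, with regular ring of invariants
over which `A` is finite with the same residue field, and with trivial inertia away from the closed
point, is trivial. -/
theorem subsingleton_of_unramified [IsRegularLocalRing (FixedPoints.subring A H)]
    [Module.Finite (FixedPoints.subring A H) A]
    (hres : Function.Surjective (IsLocalRing.residue A ∘ algebraMap (FixedPoints.subring A H) A))
    (hdim : ringKrullDim A = 2)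
    (hram : ∀ Q : Ideal A, Q.IsPrime → Q ≠ IsLocalRing.maximalIdeal A → Q.inertia H = ⊥) :
    Subsingleton H := by
  classical
  haveI : Fintype H := Fintype.ofFinite H
  haveI : Algebra.IsIntegral (FixedPoints.subring A H) A := Algebra.IsIntegral.of_finite _ _
  have hdimB : ringKrullDim (FixedPoints.subring A H) = 2 := by
    rw [← hdim]
    exact Groth.Agent.Lib.Helper12.ringKrullDim_eq_of_isIntegral_of_injective _ _
      Subtype.val_injective
  -- freeness
  have h1 : LocCoh.depth (FixedPoints.subring A H) A = LocCoh.depth A A :=
    Groth.Agent.Lib.Helper18.CM.depth_eq_of_finite (A := FixedPoints.subring A H) (B := A) A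
  have h2 := Groth.Agent.Lib.Helper18.Serre.min_two_dim_le_depth_of_normal A
  rw [hdim, ← h1] at h2
  have h3 : ringKrullDim (FixedPoints.subring A H) ≤
      ((LocCoh.depth (FixedPoints.subring A H) A : ℕ∞) : WithBot ℕ∞) := by
    rw [hdimB]
    simpa using h2
  haveI := Groth.Agent.Lib.Helper18.CM.free_of_le_depth (FixedPoints.subring A H) A h3
  let ι := Module.Free.ChooseBasisIndex (FixedPoints.subring A H) A
  let e : Module.Basis ι (FixedPoints.subring A H) A := Module.Free.chooseBasis _ _
  have hu : IsUnit (gram (G := H) e).det :=
    isUnit_det_gram (by rw [hdimB]) hram e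
  -- `m_A = 𝔫 A`
  have hm : (maximalIdeal A).restrictScalars (FixedPoints.subring A H) ≤
      maximalIdeal (FixedPoints.subring A H) • (⊤ : Submodule (FixedPoints.subring A H) A) := by
    intro a ha
    rw [← e.sum_repr a]
    apply Submodule.sum_mem
    intro j _
    exact Submodule.smul_mem_smul (repr_mem_of_isUnit_det e hu ha j) Submodule.mem_top
  -- Nakayama
  have htop : (⊤ : Submodule (FixedPoints.subring A H) A) ≤
      LinearMap.range (Algebra.linearMap (FixedPoints.subring A H) A) := by
    apply Submodule.le_of_le_smul_of_le_jacobson_bot (I := maximalIdeal (FixedPoints.subring A H))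
      (Module.Finite.fg_top) (IsLocalRing.maximalIdeal_le_jacobson _)
    intro a _
    obtain ⟨b, hb⟩ := hres (residue A a)
    have h4 : a - algebraMap (FixedPoints.subring A H) A b ∈ maximalIdeal A := by
      rw [← residue_eq_zero_iff, map_sub, sub_eq_zero]
      exact hb.symm
    have h5 : a = algebraMap (FixedPoints.subring A H) A b +
        (a - algebraMap (FixedPoints.subring A H) A b) := by ring
    rw [h5]
    exact Submodule.add_mem_sup ⟨b, rfl⟩ (hm h4)
  refine ⟨fun g h => ?_⟩
  have key : ∀ (g : H) (a : A), g • a = a := by
    intro g a
    obtain ⟨b, rfl⟩ := htop (Submodule.mem_top (x := a))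
    exact b.2 g
  apply FaithfulSMul.eq_of_smul_eq_smul (α := A)
  intro a
  rw [key, key]

end purity

end Groth.Agent.Lib.Helper7.WQ
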