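import Mathlib
import Groth.Agent.Lib.Helper7.WQ14

set_option autoImplicit false
set_option linter.unusedSectionVars false
set_option linter.style.haveILetI false
universe u v w
open IsLocalRing

namespace Groth.Agent.Lib.Helper7.WQ

section grp

variable {H : Type w} [Group H] [Finite H]

/-- in a cyclic group, a subgroup of prime order `p` contains every element killed by `p` -/
theorem mem_of_pow_eq_one_of_isCyclic [IsCyclic H] (p : ℕ) [hp : Fact p.Prime] (Γ : Subgroup H)
    (hΓ : Nat.card Γ = p) {x : H} (hx : x ^ p = 1) : x ∈ Γ := by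
  classical
  haveI : Fintype H := Fintype.ofFinite H
  let S : Finset H := Finset.univ.filter (fun a : H => a ^ p = 1)
  let T : Finset H := Finset.univ.filter (fun a : H => a ∈ Γ)
  have hS : S.card ≤ p := IsCyclic.card_pow_eq_one_le hp.out.pos
  have hT : T.card = p := by
    rw [← hΓ, Nat.card_eq_fintype_card, Fintype.card_subtype]
  have hTS : T ⊆ S := by
    intro a ha
    rw [Finset.mem_filter] at ha ⊢
    refine ⟨Finset.mem_univ _, ?_⟩
    have h1 : (⟨a, ha.2⟩ : Γ) ^ Nat.card Γ = 1 := pow_card_eq_one'
    rw [hΓ] at h1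
    exact congrArg Subtype.val h1
  have hEq : T = S := Finset.eq_of_subset_of_card_le hTS (by rw [hT]; exact hS)
  have : x ∈ S := Finset.mem_filter.2 ⟨Finset.mem_univ _, hx⟩
  rw [← hEq] at this
  exact (Finset.mem_filter.1 this).2

end grp

end Groth.Agent.Lib.Helper7.WQ

namespace Groth.Agent.Lib.Helper7.WQ

section main

theorem elementary_of_card_sq
    (p : ℕ) [Fact p.Prime] (R : Type u) [CommRing R] [IsRegularLocalRing R]
    (A : Type v) [CommRing A] [IsDomain A] [IsIntegrallyClosed A] [IsLocalRing A]
    [Algebra R A] [Module.Finite R A] (hinj : Function.Injective (algebraMap R A))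
    (hres : Function.Surjective (IsLocalRing.residue A ∘ algebraMap R A))
    (H : Type w) [Group H] [Finite H] [MulSemiringAction H A] [SMulCommClass H R A] [FaithfulSMul H A]
    (hfix : ∀ a : A, (∀ h : H, h • a = a) → a ∈ Set.range (algebraMap R A))
    (hdim : ringKrullDim A = 2) (hcard : Nat.card H = p ^ 2)
    (Γ : Subgroup H) (hΓ : Nat.card Γ = p)
    (hram : ∀ P : Ideal A, P.IsPrime → P ≠ IsLocalRing.maximalIdeal A → P.inertia H ⊓ Γ = ⊥) :
    (∀ P : Ideal A, P.IsPrime → P.height = 1 → P.inertia H ≠ ⊥ → Nat.card (P.inertia H) = p) ∧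
      (∀ g h : H, g * h = h * g) ∧ ∀ h : H, h ^ p = 1 := by
  classical
  have hp : p.Prime := Fact.out
  have hΓne : Γ ≠ ⊥ := by
    intro h
    rw [h, Subgroup.card_bot] at hΓ
    exact hp.one_lt.ne hΓ
  refine ⟨?_, fun g h => (IsPGroup.isMulCommutative_of_card_eq_prime_sq hcard).is_comm.comm g h, ?_⟩
  · intro P hP hht hne
    have hPm : P ≠ maximalIdeal A := by
      rintro rfl
      have h1 : ((maximalIdeal A).height : WithBot ℕ∞) = ringKrullDim A :=
        IsLocalRing.maximalIdeal_height_eq_ringKrullDim
      rw [hht, hdim] at h1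
      norm_num at h1
    have hdvd : Nat.card (P.inertia H) ∣ p ^ 2 := hcard ▸ Subgroup.card_subgroup_dvd_card _
    obtain ⟨i, hi, hci⟩ := (Nat.dvd_prime_pow hp).1 hdvd
    interval_cases i
    · exfalso
      apply hne
      rw [pow_zero] at hci
      exact Subgroup.card_eq_one.1 hci
    · rw [hci, pow_one]
    · exfalso
      have htop : P.inertia H = ⊤ := by
        apply Subgroup.eq_top_of_card_eq
        rw [hci, hcard]
      have := hram P hP hPm
      rw [htop, top_inf_eq] at this
      exact hΓne this
  · by_contra hcon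
    push_neg at hcon
    obtain ⟨h, hh⟩ := hcon
    -- `H` is cyclic
    have hord : orderOf h = p ^ 2 := by
      have hdvd : orderOf h ∣ p ^ 2 := hcard ▸ orderOf_dvd_natCard h
      obtain ⟨i, hi, hci⟩ := (Nat.dvd_prime_pow hp).1 hdvd
      interval_cases i
      · exfalso
        rw [pow_zero, orderOf_eq_one_iff] at hci
        rw [hci, one_pow] at hh
        exact hh rfl
      · exfalso
        rw [pow_one] at hci
        apply hh
        rw [← hci]
        exact pow_orderOf_eq_one h
      · exact hci
    haveI : IsCyclic H := isCyclic_of_orderOf_eq_card h (by rw [hord, hcard])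
    -- all inertia groups away from the closed point are trivial
    have hram' : ∀ Q : Ideal A, Q.IsPrime → Q ≠ IsLocalRing.maximalIdeal A → Q.inertia H = ⊥ := by
      intro Q hQ hQm
      rw [Subgroup.eq_bot_iff_forall]
      intro g hg
      by_contra hg1
      have hgcard : g ^ (p ^ 2) = 1 := by
        rw [← hcard]
        exact pow_card_eq_one'
      by_cases hgp : g ^ p = 1
      · have h1 : g ∈ Γ := mem_of_pow_eq_one_of_isCyclic p Γ hΓ hgp
        have h2 : g ∈ Q.inertia H ⊓ Γ := ⟨hg, h1⟩
        rw [hram Q hQ hQm, Subgroup.mem_bot] at h2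
        exact hg1 h2
      · have h0 : (g ^ p) ^ p = 1 := by rw [← pow_mul, ← sq]; exact hgcard
        have h1 : g ^ p ∈ Γ := mem_of_pow_eq_one_of_isCyclic p Γ hΓ h0
        have h2 : g ^ p ∈ Q.inertia H ⊓ Γ := ⟨Subgroup.pow_mem _ hg p, h1⟩
        rw [hram Q hQ hQm, Subgroup.mem_bot] at h2
        exact hgp h2
    -- transfer structure to the ring of invariants
    let f : R →+* FixedPoints.subring A H :=
      (algebraMap R A).codRestrict (FixedPoints.subring A H) (fun r h => smul_algebraMap h r)
    have hfbij : Function.Bijective f := by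
      constructor
      · intro a b hab
        exact hinj (congrArg Subtype.val hab)
      · intro b
        obtain ⟨r, hr⟩ := hfix (b : A) b.2
        exact ⟨r, Subtype.ext hr⟩
    let eRB : R ≃+* FixedPoints.subring A H := RingEquiv.ofBijective f hfbij
    haveI : IsRegularLocalRing (FixedPoints.subring A H) := IsRegularLocalRing.of_ringEquiv eRB
    letI : Algebra R (FixedPoints.subring A H) := f.toAlgebra
    haveI : IsScalarTower R (FixedPoints.subring A H) A := IsScalarTower.of_algebraMap_eq (fun x => rfl)
    haveI : Module.Finite (FixedPoints.subring A H) A := Module.Finite.of_restrictScalars_finite R _ A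
    haveI : IsNoetherianRing A := by
      have h1 : IsNoetherian R A := isNoetherian_of_isNoetherianRing_of_finite R A
      exact isNoetherian_of_tower R h1
    have hresB : Function.Surjective
        (IsLocalRing.residue A ∘ algebraMap (FixedPoints.subring A H) A) := by
      intro y
      obtain ⟨r, hr⟩ := hres y
      exact ⟨f r, hr⟩
    haveI := subsingleton_of_unramified A H hresB hdim hram'
    have h1 : Nat.card H = 1 := Nat.card_unique
    rw [hcard] at h1
    have h2 : 1 < p ^ 2 := Nat.one_lt_pow (by norm_num) hp.one_lt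
    omega

end main

end Groth.Agent.Lib.Helper7.WQ
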