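import Groth.Agent.Lib.Helper7.TH2
import Groth.Agent.Lib.Helper7.SLnReductive
import Groth.Agent.Lib.Helper7.HilbertFin
import Groth.Agent.Lib.Helper7.HopfLR

/-!
# Weitzenböck, I: the comodule algebra of a multiplicative matrix (helper7)
-/

set_option autoImplicit false

universe u v

open TensorProduct

namespace Groth.Agent.Lib.Helper7.WZ

open HopfRep

section MultMat

variable {k : Type u} [Field k] {A : Type u} [CommRing A] [Bialgebra k A]
  {ι : Type} [Fintype ι] [DecidableEq ι]

/-- a multiplicative matrix. -/
structure IsMultMat (Θ : Matrix ι ι A) : Prop where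
  comul : ∀ i j, Coalgebra.comul (R := k) (Θ i j) = ∑ l, Θ i l ⊗ₜ[k] Θ l j
  counit : ∀ i j, Coalgebra.counit (R := k) (Θ i j) = if i = j then 1 else 0

variable (k) in
/-- the coaction attached to a matrix. -/
noncomputable def matCoact (Θ : Matrix ι ι A) :
    MvPolynomial ι k →ₐ[k] MvPolynomial ι k ⊗[k] A :=
  MvPolynomial.aeval fun j => ∑ i, (MvPolynomial.X i : MvPolynomial ι k) ⊗ₜ[k] Θ i j

@[simp] lemma matCoact_X (Θ : Matrix ι ι A) (j : ι) :
    matCoact k Θ (MvPolynomial.X j) = ∑ i, (MvPolynomial.X i : MvPolynomial ι k) ⊗ₜ[k] Θ i j := by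
  simp [matCoact]

theorem matCoact_coassoc {Θ : Matrix ι ι A} (h : IsMultMat (k := k) Θ) :
    (Algebra.TensorProduct.assoc k k k (MvPolynomial ι k) A A).toAlgHom.comp
        ((Algebra.TensorProduct.map (matCoact k Θ) (AlgHom.id k A)).comp (matCoact k Θ)) =
      (Algebra.TensorProduct.map (AlgHom.id k _) (Bialgebra.comulAlgHom k A)).comp
        (matCoact k Θ) := by
  apply MvPolynomial.algHom_ext
  intro i
  simp only [AlgHom.comp_apply, matCoact_X, map_sum, Algebra.TensorProduct.map_tmul,
    AlgHom.id_apply, AlgHom.coe_coe, TensorProduct.sum_tmul, TensorProduct.tmul_sum,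
    Algebra.TensorProduct.assoc_tmul, Bialgebra.comulAlgHom_apply, h.comul]
  exact Finset.sum_comm

theorem matCoact_counit {Θ : Matrix ι ι A} (h : IsMultMat (k := k) Θ) :
    (Algebra.TensorProduct.rid k k (MvPolynomial ι k)).toAlgHom.comp
        ((Algebra.TensorProduct.map (AlgHom.id k _) (Bialgebra.counitAlgHom k A)).comp
          (matCoact k Θ)) = AlgHom.id k _ := by
  apply MvPolynomial.algHom_ext
  intro i
  simp [Bialgebra.counitAlgHom_apply, h.counit, Finset.sum_ite_eq', tmul_ite]

/-- the comodule structure on the polynomial ring. -/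
@[reducible] noncomputable def matComod {Θ : Matrix ι ι A} (h : IsMultMat (k := k) Θ) :
    Comod k A (MvPolynomial ι k) where
  coact := (matCoact k Θ).toLinearMap
  coassoc := by
    refine LinearMap.ext fun p => ?_
    exact congrArg (fun φ : MvPolynomial ι k →ₐ[k] _ => φ p) (matCoact_coassoc h)
  counit_comp := by
    refine LinearMap.ext fun p => ?_
    have h1 := congrArg (fun φ : MvPolynomial ι k →ₐ[k] _ => φ p) (matCoact_counit h)
    simp only [AlgHom.comp_apply, AlgHom.id_apply, AlgHom.coe_coe] at h1
    simp only [LinearMap.comp_apply, AlgHom.toLinearMap_apply, LinearMap.flip_apply,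
      TensorProduct.mk_apply]
    have h2 : ∀ z : MvPolynomial ι k ⊗[k] A,
        (Coalgebra.counit (R := k) (A := A)).lTensor (MvPolynomial ι k) z =
          (Algebra.TensorProduct.map (AlgHom.id k (MvPolynomial ι k))
            (Bialgebra.counitAlgHom k A)) z := by
      intro z
      induction z using TensorProduct.induction_on with
      | zero => simp
      | tmul x a => simp
      | add s t hs ht => simp only [map_add, hs, ht]
    rw [h2]
    apply (Algebra.TensorProduct.rid k k (MvPolynomial ι k)).injective
    refine (Eq.trans h1 ?_)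
    simp

theorem matIsCoactAlg {Θ : Matrix ι ι A} (h : IsMultMat (k := k) Θ) :
    @GLin.IsCoactAlg k _ A _ _ (MvPolynomial ι k) _ _ (matComod h) := by
  letI := matComod h
  constructor
  · exact map_one (matCoact k Θ)
  · intro f g
    exact map_mul (matCoact k Θ) f g

lemma matComod_coact {Θ : Matrix ι ι A} (h : IsMultMat (k := k) Θ) (p : MvPolynomial ι k) :
    (matComod h).coact p = matCoact k Θ p := rfl

end MultMat

end Groth.Agent.Lib.Helper7.WZ
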