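import Groth.Agent.Lib.Helper7.WZ8
import Groth.Prelude.Def_GLin6

/-!
# Weitzenböck, X: binary forms (helper7)
-/

set_option autoImplicit false

universe u v

open TensorProduct Polynomial

namespace Groth.Agent.Lib.Helper7.WZ

open HopfRep CoordGrp Groth.Agent.Lib.Helper7.SLnRed

section Forms

variable (k : Type u) [Field k]

/-- restriction from the matrix monoid to `SL₂`. -/
noncomputable def toSL : Mat 2 k →ₐc[k] H2 k := (SLn.mkHom 2 k).comp (Mat.toGLn 2 k)

lemma toSL_X (i j : Fin 2) : toSL k (Mat.X i j) = SLn.X i j := by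
  unfold toSL
  rw [BialgHom.comp_apply, Mat.toGLn_X]
  rfl

/-- the matrix of the representation on binary forms of degree `d`. -/
noncomputable def ThetaD (d : ℕ) : Matrix (Fin (d + 1)) (Fin (d + 1)) (H2 k) :=
  fun i j => toSL k (formCoeff k 2 d (binIdx d i) (binIdx d j))

lemma thetaD_multMat (d : ℕ) : IsMultMat (k := k) (ThetaD k d) := by
  constructor
  · intro i j
    unfold ThetaD
    rw [← CoalgHomClass.map_comp_comul_apply, comul_formCoeff, map_sum,
      ← (binEquiv d).sum_comp]
    simp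
  · intro i j
    unfold ThetaD
    rw [CoalgHomClass.counit_comp_apply, counit_formCoeff]
    by_cases h : i = j
    · subst h; simp
    · rw [if_neg h, if_neg]
      intro h'
      exact h (binIdx_injective d h')

variable {k}

lemma coeffT_map {A A' : Type u} [CommRing A] [Algebra k A] [CommRing A'] [Algebra k A']
    (φ : A →ₐ[k] A') (l : Fin 2 →₀ ℕ) (z : MvPolynomial (Fin 2) k ⊗[k] A) :
    φ (coeffT (k := k) l z) =
      coeffT (k := k) l (Algebra.TensorProduct.map (AlgHom.id k _) φ z) := by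
  induction z using TensorProduct.induction_on with
  | zero => simp
  | tmul x a => simp [coeffT_tmul]
  | add s t hs ht => simp only [map_add, hs, ht]

lemma map_piU_stdCoact :
    (Algebra.TensorProduct.map (AlgHom.id k (MvPolynomial (Fin 2) k))
      ((piU k).comp (toSL k : Mat 2 k →ₐ[k] H2 k))).comp (stdCoactAlg 2 k) =
      rhoU (slMat 2 k) := by
  apply MvPolynomial.algHom_ext
  intro i
  rw [AlgHom.comp_apply, stdCoactAlg_X, rhoU_X, map_sum]
  apply Finset.sum_congr rfl
  intro j _
  rw [Algebra.TensorProduct.map_tmul, AlgHom.id_apply, AlgHom.comp_apply]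
  congr 2
  exact toSL_X k j i

lemma coeff_coeffT (l : Fin 2 →₀ ℕ) (n : ℕ) (w : MvPolynomial (Fin 2) k ⊗[k] k[X]) :
    (coeffT (k := k) l w).coeff n =
      MvPolynomial.coeff l (((polyEquivTensor k (MvPolynomial (Fin 2) k)).symm w).coeff n) := by
  induction w using TensorProduct.induction_on with
  | zero => simp
  | tmul x a =>
    rw [coeffT_tmul, polyEquivTensor_symm_apply_tmul_eq_smul, Polynomial.coeff_smul,
      Polynomial.coeff_smul, Polynomial.coeff_map, smul_eq_mul, smul_eq_mul,
      MvPolynomial.algebraMap_eq, mul_comm x, MvPolynomial.coeff_C_mul, mul_comm]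
  | add s t hs ht => simp only [map_add, Polynomial.coeff_add, MvPolynomial.coeff_add, hs, ht]

lemma coeff_one_rhoP {ι : Type} [Fintype ι] [DecidableEq ι] {Θ : Matrix ι ι (H2 k)}
    (hΘ : IsMultMat (k := k) Θ) (f : MvPolynomial ι k) :
    (rhoP Θ f).coeff 1 = linDer (eMat Θ) f := by
  have h1 := congrArg (fun p => Polynomial.coeff p 0) (derivative_rhoP hΘ f)
  simp only [Polynomial.coeff_derivative, coeff_zero_rhoP hΘ] at h1
  rw [← h1]
  simp

lemma eMat_slMat (i j : Fin 2) :
    eMat (slMat 2 k) i j = (!![0, 1; 0, 0] : Matrix (Fin 2) (Fin 2) k) i j := by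
  unfold eMat pMat slMat
  rw [piU_X]
  fin_cases i <;> fin_cases j <;> simp [Polynomial.coeff_one]

lemma linDer_slMat_X0 : linDer (eMat (slMat 2 k)) (MvPolynomial.X 0) = 0 := by
  rw [linDer_X, Fin.sum_univ_two, eMat_slMat, eMat_slMat]
  simp

lemma linDer_slMat_X1 :
    linDer (eMat (slMat 2 k)) (MvPolynomial.X 1) = (MvPolynomial.X 0 : MvPolynomial (Fin 2) k) := by
  rw [linDer_X, Fin.sum_univ_two, eMat_slMat, eMat_slMat]
  simp

lemma monomial_bin (a b : ℕ) :
    (MvPolynomial.monomial (Finsupp.single (0 : Fin 2) a + Finsupp.single (1 : Fin 2) b) (1 : k)) =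
      MvPolynomial.X 0 ^ a * MvPolynomial.X 1 ^ b := by
  rw [MvPolynomial.monomial_single_add, MvPolynomial.X_pow_eq_monomial,
    MvPolynomial.X_pow_eq_monomial]

lemma linDer_monomial_bin (a b : ℕ) :
    linDer (eMat (slMat 2 k)) (MvPolynomial.X 0 ^ a * MvPolynomial.X 1 ^ b) =
      (b : k) • (MvPolynomial.X 0 ^ (a + 1) * MvPolynomial.X 1 ^ (b - 1) :
        MvPolynomial (Fin 2) k) := by
  rw [Derivation.leibniz, Derivation.leibniz_pow, Derivation.leibniz_pow, linDer_slMat_X0,
    linDer_slMat_X1]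
  simp only [smul_zero, add_zero, smul_eq_mul]
  rw [pow_succ, Nat.cast_smul_eq_nsmul]
  simp only [nsmul_eq_mul]
  ring

lemma bin_eq_iff (a b a' b' : ℕ) :
    (Finsupp.single (0 : Fin 2) a + Finsupp.single (1 : Fin 2) b =
      Finsupp.single (0 : Fin 2) a' + Finsupp.single (1 : Fin 2) b') ↔ a = a' ∧ b = b' := by
  constructor
  · intro h
    have h0 := DFunLike.congr_fun h 0
    have h1 := DFunLike.congr_fun h 1
    simp [Finsupp.single_apply] at h0 h1
    exact ⟨h0, h1⟩
  · rintro ⟨rfl, rfl⟩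
    rfl

/-- the infinitesimal generator of the unipotent subgroup on binary forms. -/
theorem eMat_thetaD (d : ℕ) (i j : Fin (d + 1)) :
    eMat (ThetaD k d) i j = if (i : ℕ) + 1 = (j : ℕ) then ((j : ℕ) : k) else 0 := by
  classical
  unfold eMat pMat ThetaD
  have h1 : piU k (toSL k (formCoeff k 2 d (binIdx d i) (binIdx d j))) =
      coeffT (k := k) (binIdx d i).1
        (rhoU (slMat 2 k) (MvPolynomial.monomial (binIdx d j).1 (1 : k))) := by
    have h2 := coeffT_map ((piU k).comp (toSL k : Mat 2 k →ₐ[k] H2 k)) (binIdx d i).1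
      (stdCoactAlg 2 k (MvPolynomial.monomial (binIdx d j).1 (1 : k)))
    rw [← AlgHom.comp_apply, map_piU_stdCoact] at h2
    exact h2
  rw [h1, coeff_coeffT]
  change MvPolynomial.coeff (binIdx d i).1
    ((rhoP (slMat 2 k) (MvPolynomial.monomial (binIdx d j).1 (1 : k))).coeff 1) = _
  rw [coeff_one_rhoP (slMultMat k)]
  change MvPolynomial.coeff
    (Finsupp.single (0 : Fin 2) (d - (i : ℕ)) + Finsupp.single (1 : Fin 2) (i : ℕ))
    (linDer (eMat (slMat 2 k)) (MvPolynomial.monomial
      (Finsupp.single (0 : Fin 2) (d - (j : ℕ)) + Finsupp.single (1 : Fin 2) (j : ℕ)) (1 : k))) = _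
  rw [monomial_bin, linDer_monomial_bin, MvPolynomial.coeff_smul, ← monomial_bin,
    MvPolynomial.coeff_monomial, smul_eq_mul]
  simp only [bin_eq_iff]
  have hi := i.2
  have hj := j.2
  by_cases h : (i : ℕ) + 1 = (j : ℕ)
  · rw [if_pos h, if_pos ⟨by omega, by omega⟩, mul_one]
  · rw [if_neg h]
    by_cases hj0 : (j : ℕ) = 0
    · rw [hj0]
      simp
    · rw [if_neg, mul_zero]
      rintro ⟨-, h2⟩
      omega

end Forms

end Groth.Agent.Lib.Helper7.WZ
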