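import Groth.Agent.Lib.Helper7.WZ10
import Mathlib.Data.Matrix.Block

/-!
# Weitzenböck, XI: block sums of binary forms (helper7)
-/

set_option autoImplicit false

universe u v

open TensorProduct Polynomial

namespace Groth.Agent.Lib.Helper7.WZ

open HopfRep CoordGrp Groth.Agent.Lib.Helper7.SLnRed

section Blocks

variable (k : Type u) [Field k]

/-- the matrix of the irreducible representation of dimension `e`. -/
noncomputable def ThetaE : (e : ℕ) → Matrix (Fin e) (Fin e) (H2 k)
  | 0 => fun i => i.elim0
  | (d + 1) => ThetaD k d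

lemma thetaE_multMat (e : ℕ) : IsMultMat (k := k) (ThetaE k e) := by
  cases e with
  | zero => exact ⟨fun i => i.elim0, fun i => i.elim0⟩
  | succ d => exact thetaD_multMat k d

variable {k} in
theorem eMat_thetaE (e : ℕ) (i j : Fin e) :
    eMat (ThetaE k e) i j = if (i : ℕ) + 1 = (j : ℕ) then ((j : ℕ) : k) else 0 := by
  cases e with
  | zero => exact i.elim0
  | succ d => exact eMat_thetaD d i j

variable {k} {A : Type u} [CommRing A] [Bialgebra k A] {r : ℕ} {e : Fin r → ℕ}

lemma isMultMat_blockDiagonal' (Θ : ∀ b : Fin r, Matrix (Fin (e b)) (Fin (e b)) A)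
    (h : ∀ b, IsMultMat (k := k) (Θ b)) : IsMultMat (k := k) (Matrix.blockDiagonal' Θ) := by
  classical
  constructor
  · rintro ⟨b, i⟩ ⟨b', j⟩
    rw [Fintype.sum_sigma]
    by_cases hb : b = b'
    · subst hb
      rw [Matrix.blockDiagonal'_apply_eq, (h b).comul, Finset.sum_eq_single b]
      · apply Finset.sum_congr rfl
        intro l _
        rw [Matrix.blockDiagonal'_apply_eq, Matrix.blockDiagonal'_apply_eq]
      · intro c _ hc
        apply Finset.sum_eq_zero
        intro l _
        rw [Matrix.blockDiagonal'_apply_ne _ _ _ (Ne.symm hc), TensorProduct.zero_tmul]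
      · intro hb
        exact absurd (Finset.mem_univ _) hb
    · rw [Matrix.blockDiagonal'_apply_ne _ _ _ hb, map_zero]
      symm
      apply Finset.sum_eq_zero
      intro c _
      apply Finset.sum_eq_zero
      intro l _
      by_cases hc : b = c
      · subst hc
        rw [Matrix.blockDiagonal'_apply_ne _ _ _ hb, TensorProduct.tmul_zero]
      · rw [Matrix.blockDiagonal'_apply_ne _ _ _ hc, TensorProduct.zero_tmul]
  · rintro ⟨b, i⟩ ⟨b', j⟩
    by_cases hb : b = b'
    · subst hb
      rw [Matrix.blockDiagonal'_apply_eq, (h b).counit]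
      by_cases hij : i = j
      · subst hij; simp
      · rw [if_neg hij, if_neg]
        intro h'
        apply hij
        simpa using h'
    · rw [Matrix.blockDiagonal'_apply_ne _ _ _ hb, map_zero, if_neg]
      intro h'
      apply hb
      exact congrArg Sigma.fst h'

end Blocks

section BlockMat

variable {k : Type u} [Field k] (r : ℕ) (e : Fin r → ℕ)

variable (k) in
/-- the block sum of irreducible representations. -/
noncomputable def blockMat : Matrix (Σ b : Fin r, Fin (e b)) (Σ b : Fin r, Fin (e b)) (H2 k) :=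
  Matrix.blockDiagonal' (fun b => ThetaE k (e b))

lemma blockMat_multMat : IsMultMat (k := k) (blockMat k r e) :=
  isMultMat_blockDiagonal' _ (fun b => thetaE_multMat k (e b))

theorem eMat_blockMat (x y : Σ b : Fin r, Fin (e b)) :
    eMat (blockMat k r e) x y =
      if x.1 = y.1 ∧ (x.2 : ℕ) + 1 = (y.2 : ℕ) then ((y.2 : ℕ) : k) else 0 := by
  obtain ⟨b, i⟩ := x
  obtain ⟨b', j⟩ := y
  unfold eMat pMat blockMat
  by_cases hb : b = b'
  · subst hb
    rw [Matrix.blockDiagonal'_apply_eq]
    have := eMat_thetaE (k := k) (e b) i j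
    unfold eMat pMat at this
    rw [this]
    simp
  · rw [Matrix.blockDiagonal'_apply_ne _ _ _ hb, map_zero, Polynomial.coeff_zero, if_neg]
    rintro ⟨h, -⟩
    exact hb h

end BlockMat

end Groth.Agent.Lib.Helper7.WZ
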