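import Mathlib.Algebra.Module.PID
import Mathlib.Algebra.Polynomial.Module.AEval
import Mathlib.LinearAlgebra.Finsupp.VectorSpace
import Mathlib.RingTheory.Polynomial.Basic
import Mathlib.LinearAlgebra.Basis.Basic

/-!
# Weitzenböck, IX: the Jordan normal form of a nilpotent endomorphism (helper7)
-/

set_option autoImplicit false

universe u v

open Polynomial Module

namespace Groth.Agent.Lib.Helper7.WZ

section QuotBasis

variable (k : Type u) [Field k]

/-- the quotient `k[X]/(X^e)`. -/
abbrev QX (e : ℕ) : Type u := k[X] ⧸ (Submodule.span k[X] {(X : k[X]) ^ e})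

lemma mk_eq_zero_iff (e : ℕ) (p : k[X]) :
    (Submodule.Quotient.mk p : QX k e) = 0 ↔ ∀ d < e, p.coeff d = 0 := by
  rw [Submodule.Quotient.mk_eq_zero, Submodule.mem_span_singleton]
  constructor
  · rintro ⟨q, rfl⟩
    exact X_pow_dvd_iff.1 ⟨q, by rw [smul_eq_mul, mul_comm]⟩
  · intro h
    obtain ⟨q, hq⟩ := X_pow_dvd_iff.2 h
    exact ⟨q, by rw [smul_eq_mul, mul_comm, hq]⟩

/-- the monomial basis of `k[X]/(X^e)`. -/
noncomputable def quotBasis (e : ℕ) : Basis (Fin e) k (QX k e) :=
  Basis.mk (v := fun m : Fin e => (Submodule.Quotient.mk ((X : k[X]) ^ (m : ℕ)) : QX k e))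
    (by
      rw [Fintype.linearIndependent_iff]
      intro c hc m
      have h1 : (Submodule.Quotient.mk (∑ i : Fin e, C (c i) * (X : k[X]) ^ (i : ℕ)) : QX k e)
          = 0 := by
        rw [← hc, ← Submodule.mkQ_apply, map_sum]
        apply Finset.sum_congr rfl
        intro i _
        rw [← smul_eq_C_mul, Submodule.mkQ_apply, Submodule.Quotient.mk_smul]
      have h2 := (mk_eq_zero_iff k e _).1 h1 m m.2
      rw [finsetSum_coeff] at h2
      simp only [coeff_C_mul, coeff_X_pow] at h2
      rw [Finset.sum_eq_single m] at h2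
      · simpa using h2
      · intro i _ hi
        rw [if_neg, mul_zero]
        intro h
        exact hi (Fin.ext h.symm)
      · intro h
        exact absurd (Finset.mem_univ _) h)
    (by
      rintro x -
      obtain ⟨p, rfl⟩ := Submodule.Quotient.mk_surjective _ x
      have h1 : (Submodule.Quotient.mk p : QX k e) =
          Submodule.Quotient.mk (∑ i : Fin e, C (p.coeff i) * (X : k[X]) ^ (i : ℕ)) := by
        rw [← sub_eq_zero, ← Submodule.Quotient.mk_sub, mk_eq_zero_iff]
        intro d hd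
        rw [coeff_sub, finsetSum_coeff]
        simp only [coeff_C_mul, coeff_X_pow]
        rw [Finset.sum_eq_single (⟨d, hd⟩ : Fin e)]
        · simp
        · intro i _ hi
          rw [if_neg, mul_zero]
          intro h
          exact hi (Fin.ext h.symm)
        · intro h
          exact absurd (Finset.mem_univ _) h
      rw [h1, ← Submodule.mkQ_apply, map_sum]
      refine Submodule.sum_mem _ fun i _ => ?_
      rw [← smul_eq_C_mul, Submodule.mkQ_apply, Submodule.Quotient.mk_smul]
      exact Submodule.smul_mem _ _ (Submodule.subset_span ⟨i, rfl⟩))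

lemma quotBasis_apply (e : ℕ) (m : Fin e) :
    quotBasis k e m = (Submodule.Quotient.mk ((X : k[X]) ^ (m : ℕ)) : QX k e) := by
  unfold quotBasis
  rw [Basis.mk_apply]

lemma quotBasis_X_smul (e : ℕ) (m : Fin e) :
    (X : k[X]) • quotBasis k e m =
      if h : (m : ℕ) + 1 < e then quotBasis k e ⟨(m : ℕ) + 1, h⟩ else 0 := by
  rw [quotBasis_apply, ← Submodule.Quotient.mk_smul, smul_eq_mul, ← pow_succ']
  split_ifs with h
  · rw [quotBasis_apply]
  · rw [Submodule.Quotient.mk_eq_zero, Submodule.mem_span_singleton]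
    have h1 : e = (m : ℕ) + 1 := by have := m.2; omega
    exact ⟨1, by rw [one_smul, ← h1]⟩

end QuotBasis

section DBasis

variable {k : Type u} [Field k] {ι : Type} [DecidableEq ι] {M : ι → Type u}
  [∀ i, AddCommGroup (M i)] [∀ i, Module k (M i)] {η : ι → Type}

lemma dfinsupp_basis_apply (b : ∀ i, Basis (η i) k (M i)) (i : ι) (x : η i) :
    DFinsupp.basis b ⟨i, x⟩ = DFinsupp.single i (b i x) := by
  classical
  rw [Basis.apply_eq_iff]
  unfold DFinsupp.basis
  simp only [Basis.coe_ofRepr, LinearEquiv.trans_apply, DFinsupp.mapRange.linearEquiv_apply,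
    DFinsupp.mapRange_single, Basis.repr_self]
  rw [LinearEquiv.symm_apply_eq]
  change _ = sigmaFinsuppEquivDFinsupp (Finsupp.single ⟨i, x⟩ (1 : k))
  rw [sigmaFinsuppEquivDFinsupp_single]

end DBasis

section JNF

variable {k : Type u} [Field k] {V : Type u} [AddCommGroup V] [Module k V] [Module.Finite k V]

/-- **Jordan normal form of a nilpotent endomorphism.** -/
theorem exists_jordan_basis (N : V →ₗ[k] V) (hN : IsNilpotent N) :
    ∃ (r : ℕ) (e : Fin r → ℕ) (B : Basis (Σ b : Fin r, Fin (e b)) k V),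
      ∀ (b : Fin r) (m : Fin (e b)),
        N (B ⟨b, m⟩) = if h : (m : ℕ) + 1 < e b then B ⟨b, ⟨(m : ℕ) + 1, h⟩⟩ else 0 := by
  classical
  obtain ⟨n, hn⟩ := hN
  have tors : Module.IsTorsion' (AEval' N) (Submonoid.powers (X : k[X])) := by
    intro x
    refine ⟨⟨X ^ n, n, rfl⟩, ?_⟩
    obtain ⟨v, rfl⟩ := (AEval'.of N).surjective x
    change (X ^ n : k[X]) • AEval'.of N v = 0
    rw [AEval'.X_pow_smul_of, hn]
    simp
  obtain ⟨r, e, ⟨Φ⟩⟩ := Module.torsion_by_prime_power_decomposition
    (Polynomial.irreducible_X (R := k)) tors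
  let B₀ : Basis (Σ b : Fin r, Fin (e b)) k (Π₀ b : Fin r, QX k (e b)) :=
    DFinsupp.basis fun b => quotBasis k (e b)
  let L : (Π₀ b : Fin r, QX k (e b)) ≃ₗ[k] V :=
    (Φ.symm.restrictScalars k).trans (AEval'.of N).symm
  refine ⟨r, e, B₀.map L, fun b m => ?_⟩
  have h1 : N ((B₀.map L) ⟨b, m⟩) = L ((X : k[X]) • B₀ ⟨b, m⟩) := by
    simp only [Basis.map_apply, L, LinearEquiv.trans_apply, LinearEquiv.restrictScalars_apply]
    rw [map_smul, AEval'.of_symm_X_smul]
  rw [h1, dfinsupp_basis_apply, ← DFinsupp.single_smul, quotBasis_X_smul]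
  split_ifs with h
  · rw [Basis.map_apply, dfinsupp_basis_apply]
  · rw [DFinsupp.single_zero, map_zero]

end JNF

end Groth.Agent.Lib.Helper7.WZ
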