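import Groth.Agent.Lib.Helper7.WZ11
import Groth.Agent.Lib.Helper7.WZ9

/-!
# Weitzenböck, XII: linear substitutions and the theorem (helper7)
-/

set_option autoImplicit false

universe u v

open TensorProduct Polynomial

namespace Groth.Agent.Lib.Helper7.WZ

open HopfRep CoordGrp Groth.Agent.Lib.Helper7.SLnRed

section LinSub

variable {k : Type u} [Field k] {l m n : Type} [Fintype l] [DecidableEq l] [Fintype m]
  [DecidableEq m] [Fintype n] [DecidableEq n]

/-- the linear substitution `X_j ↦ Σ_i Q i j • X_i`. -/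
noncomputable def linSub (Q : Matrix m n k) : MvPolynomial n k →ₐ[k] MvPolynomial m k :=
  MvPolynomial.aeval (fun j => ∑ i, Q i j • (MvPolynomial.X i : MvPolynomial m k))

lemma linSub_X (Q : Matrix m n k) (j : n) :
    linSub Q (MvPolynomial.X j) = ∑ i, Q i j • (MvPolynomial.X i : MvPolynomial m k) := by
  simp [linSub]

lemma linSub_comp (Q : Matrix l m k) (Q' : Matrix m n k) :
    (linSub Q).comp (linSub Q') = linSub (Q * Q') := by
  apply MvPolynomial.algHom_ext
  intro j
  rw [AlgHom.comp_apply, linSub_X, map_sum, linSub_X]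
  simp only [map_smul, linSub_X, Finset.smul_sum, smul_smul, Matrix.mul_apply, Finset.sum_smul]
  rw [Finset.sum_comm]
  apply Finset.sum_congr rfl
  intro a _
  apply Finset.sum_congr rfl
  intro b _
  rw [mul_comm]

lemma linSub_one : linSub (1 : Matrix n n k) = AlgHom.id k (MvPolynomial n k) := by
  apply MvPolynomial.algHom_ext
  intro j
  rw [linSub_X, AlgHom.id_apply]
  simp [Matrix.one_apply, Finset.sum_ite_eq']

theorem linDer_linSub (M : Matrix m m k) (E : Matrix n n k) (Q : Matrix m n k)
    (h : M * Q = Q * E) (f : MvPolynomial n k) :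
    linDer M (linSub Q f) = linSub Q (linDer E f) := by
  induction f using MvPolynomial.induction_on with
  | C a =>
    rw [← MvPolynomial.algebraMap_eq, AlgHom.commutes, Derivation.map_algebraMap,
      Derivation.map_algebraMap, map_zero]
  | add p q hp hq => rw [map_add, map_add, map_add, map_add, hp, hq]
  | mul_X p j hp =>
    have hX : linDer M (linSub Q (MvPolynomial.X j)) = linSub Q (linDer E (MvPolynomial.X j)) := by
      rw [linSub_X, linDer_X, map_sum, map_sum]
      simp only [Derivation.map_smul, map_smul, linDer_X, linSub_X, Finset.smul_sum, smul_smul]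
      rw [Finset.sum_comm]
      have h1 : ∀ a : m, ∑ b : m, (Q b j * M a b) • (MvPolynomial.X a : MvPolynomial m k) =
          ((M * Q) a j) • (MvPolynomial.X a : MvPolynomial m k) := by
        intro a
        rw [← Finset.sum_smul, Matrix.mul_apply]
        congr 1
        apply Finset.sum_congr rfl
        intro b _
        rw [mul_comm]
      have h2 : ∀ a : m, ∑ b : n, (E b j * Q a b) • (MvPolynomial.X a : MvPolynomial m k) =
          ((Q * E) a j) • (MvPolynomial.X a : MvPolynomial m k) := by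
        intro a
        rw [← Finset.sum_smul, Matrix.mul_apply]
        congr 1
        apply Finset.sum_congr rfl
        intro b _
        rw [mul_comm]
      rw [Finset.sum_congr rfl (fun a _ => h1 a)]
      conv_rhs => rw [Finset.sum_comm]
      rw [Finset.sum_congr rfl (fun a _ => h2 a), h]
    rw [map_mul, Derivation.leibniz, Derivation.leibniz, hp, hX, map_add, smul_eq_mul,
      smul_eq_mul, smul_eq_mul, smul_eq_mul, map_mul, map_mul]

end LinSub

section Similar

variable {k : Type u} [Field k] [CharZero k]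

/-- the column of the generator of a block sum. -/
lemma eMat_blockMat_mulVec_single (r : ℕ) (e : Fin r → ℕ) (b : Fin r) (j : Fin (e b)) :
    (eMat (blockMat k r e)).mulVec (Pi.single ⟨b, j⟩ 1) =
      if h : 0 < (j : ℕ) then
        ((j : ℕ) : k) • Pi.single (⟨b, ⟨(j : ℕ) - 1, by have := j.2; omega⟩⟩ :
          Σ b : Fin r, Fin (e b)) (1 : k)
      else 0 := by
  classical
  rw [Matrix.mulVec_single_one]
  funext x
  obtain ⟨b', i⟩ := x
  rw [Matrix.col_apply, eMat_blockMat]
  simp only
  split_ifs with h1 h2 h2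
  · obtain ⟨rfl, h3⟩ := h1
    rw [Pi.smul_apply, smul_eq_mul]
    have : (⟨b', i⟩ : Σ b : Fin r, Fin (e b)) = ⟨b', ⟨(j : ℕ) - 1, by have := j.2; omega⟩⟩ := by
      congr 1
      apply Fin.ext
      simp only
      omega
    rw [this, Pi.single_eq_same, mul_one]
  · exfalso
    omega
  · rw [Pi.smul_apply, smul_eq_mul, Pi.single_apply, if_neg, mul_zero]
    intro h3
    apply h1
    have h4 := congrArg Sigma.fst h3
    simp only at h4
    subst h4
    refine ⟨rfl, ?_⟩
    have h5 : i = ⟨(j : ℕ) - 1, by have := j.2; omega⟩ := by simpa using h3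
    rw [h5]
    simp only
    omega
  · rfl

/-- a nilpotent matrix is similar to the generator of a block sum of binary forms. -/
theorem exists_similar (n : ℕ) (M : Matrix (Fin n) (Fin n) k) (hM : IsNilpotent M) :
    ∃ (r : ℕ) (e : Fin r → ℕ) (Q : Matrix (Fin n) (Σ b : Fin r, Fin (e b)) k)
      (Q' : Matrix (Σ b : Fin r, Fin (e b)) (Fin n) k),
      Q * Q' = 1 ∧ Q' * Q = 1 ∧ M * Q = Q * eMat (blockMat k r e) := by
  classical
  have hN : IsNilpotent (Matrix.toLin' M) := by
    obtain ⟨p, hp⟩ := hM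
    refine ⟨p, ?_⟩
    rw [← Matrix.toLin'_pow, hp, map_zero]
  obtain ⟨r, e, B, hB⟩ := exists_jordan_basis (Matrix.toLin' M) hN
  let w : (Σ b : Fin r, Fin (e b)) → kˣ := fun x =>
    Units.mk0 ((((e x.1 - 1).descFactorial (x.2 : ℕ) : ℕ) : k)) (by
      rw [Nat.cast_ne_zero]
      have := x.2.2
      exact (Nat.descFactorial_eq_zero_iff_lt.not.2 (by omega)))
  let σ : (Σ b : Fin r, Fin (e b)) ≃ (Σ b : Fin r, Fin (e b)) :=
    Equiv.sigmaCongrRight (fun b => Fin.revPerm)
  let u : Module.Basis (Σ b : Fin r, Fin (e b)) k ((Σ b : Fin r, Fin (e b)) → k) :=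
    ((Pi.basisFun k (Σ b : Fin r, Fin (e b))).reindex σ).unitsSMul w
  have hu : ∀ (b : Fin r) (m : Fin (e b)),
      u ⟨b, m⟩ = (((e b - 1).descFactorial (m : ℕ) : ℕ) : k) •
        Pi.single (⟨b, Fin.rev m⟩ : Σ b : Fin r, Fin (e b)) (1 : k) := by
    intro b m
    simp only [u, Module.Basis.unitsSMul_apply, Module.Basis.reindex_apply, Pi.basisFun_apply]
    rfl
  have hEu : ∀ (b : Fin r) (m : Fin (e b)),
      Matrix.toLin' (eMat (blockMat k r e)) (u ⟨b, m⟩) =
        if h : (m : ℕ) + 1 < e b then u ⟨b, ⟨(m : ℕ) + 1, h⟩⟩ else 0 := by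
    intro b m
    rw [hu, map_smul, Matrix.toLin'_apply, eMat_blockMat_mulVec_single]
    have hm := m.2
    by_cases h : (m : ℕ) + 1 < e b
    · rw [dif_pos h, dif_pos (by rw [Fin.val_rev]; omega), hu, smul_smul]
      have h1 : (⟨b, ⟨((Fin.rev m : Fin (e b)) : ℕ) - 1, by rw [Fin.val_rev]; omega⟩⟩ :
          Σ b : Fin r, Fin (e b)) = ⟨b, Fin.rev ⟨(m : ℕ) + 1, h⟩⟩ := by
        congr 1
      rw [h1]
      congr 1
      rw [Fin.val_rev, ← Nat.cast_mul, Nat.descFactorial_succ, mul_comm]
      congr 2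
      omega
    · rw [dif_neg h, dif_neg (by rw [Fin.val_rev]; omega), smul_zero]
  let q : ((Σ b : Fin r, Fin (e b)) → k) ≃ₗ[k] (Fin n → k) := u.equiv B (Equiv.refl _)
  have hq : (Matrix.toLin' M) ∘ₗ q.toLinearMap =
      q.toLinearMap ∘ₗ Matrix.toLin' (eMat (blockMat k r e)) := by
    apply u.ext
    rintro ⟨b, m⟩
    simp only [LinearMap.comp_apply, LinearEquiv.coe_coe]
    rw [hEu]
    simp only [q, Module.Basis.equiv_apply, Equiv.refl_apply]
    rw [hB]
    split_ifs with h
    · rw [Module.Basis.equiv_apply, Equiv.refl_apply]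
    · rw [map_zero]
  refine ⟨r, e, LinearMap.toMatrix' q.toLinearMap, LinearMap.toMatrix' q.symm.toLinearMap,
    ?_, ?_, ?_⟩
  · rw [← LinearMap.toMatrix'_comp, ← LinearMap.toMatrix'_id]
    congr 1
    ext v
    simp
  · rw [← LinearMap.toMatrix'_comp, ← LinearMap.toMatrix'_id]
    congr 1
    ext v
    simp
  · have h1 := congrArg LinearMap.toMatrix' hq
    rw [LinearMap.toMatrix'_comp, LinearMap.toMatrix'_comp, LinearMap.toMatrix'_toLin',
      LinearMap.toMatrix'_toLin'] at h1
    exact h1

/-- **Weitzenböck's theorem**: the kernel of a linear locally nilpotent derivation of a polynomial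
ring over a field of characteristic zero is a finitely generated algebra. -/
theorem weitzenbock (n : ℕ) (M : Matrix (Fin n) (Fin n) k) (hM : IsNilpotent M) :
    ∃ S : Subalgebra k (MvPolynomial (Fin n) k), S.FG ∧ ∀ f, f ∈ S ↔ linDer M f = 0 := by
  classical
  obtain ⟨r, e, Q, Q', h1, h2, h3⟩ := exists_similar n M hM
  obtain ⟨S, hS, hmem⟩ := fg_ker_linDer_eMat (blockMat_multMat (k := k) r e)
  have hQQ' : ∀ f, linSub Q (linSub Q' f) = f := by
    intro f
    rw [← AlgHom.comp_apply, linSub_comp, h1, linSub_one, AlgHom.id_apply]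
  have hQ'Q : ∀ g, linSub Q' (linSub Q g) = g := by
    intro g
    rw [← AlgHom.comp_apply, linSub_comp, h2, linSub_one, AlgHom.id_apply]
  refine ⟨S.map (linSub Q), hS.map _, fun f => ?_⟩
  constructor
  · rintro ⟨g, hg, rfl⟩
    change linDer M (linSub Q g) = 0
    rw [linDer_linSub M _ Q h3, (hmem g).1 hg, map_zero]
  · intro hf
    refine ⟨linSub Q' f, (hmem _).2 ?_, hQQ' f⟩
    have h4 := linDer_linSub M _ Q h3 (linSub Q' f)
    rw [hQQ', hf] at h4
    have h5 := congrArg (linSub Q') h4
    rw [hQ'Q, map_zero] at h5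
    exact h5.symm

end Similar

end Groth.Agent.Lib.Helper7.WZ
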