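import Groth.Agent.Lib.Helper7.WZ1

/-!
# Weitzenböck, II: points of `SL₂`, the unipotent subgroup, invariants (helper7)
-/

set_option autoImplicit false

universe u v

open TensorProduct

namespace Groth.Agent.Lib.Helper7.WZ

open HopfRep CoordGrp Groth.Agent.Lib.Helper7.SLnRed

section Conv

variable {k : Type u} [Field k] {A : Type u} [CommRing A] [Bialgebra k A]
  {R : Type v} [CommRing R] [Algebra k R]

/-- the convolution of two points. -/
noncomputable def cv (p q : A →ₐ[k] R) : A →ₐ[k] R :=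
  (Algebra.TensorProduct.lift p q (fun _ _ => Commute.all _ _)).comp (Bialgebra.comulAlgHom k A)

lemma cv_apply (p q : A →ₐ[k] R) (a : A) :
    cv p q a = Algebra.TensorProduct.lift p q (fun _ _ => Commute.all _ _)
      (Coalgebra.comul (R := k) a) := rfl

variable {ι : Type} [Fintype ι] [DecidableEq ι]

lemma cv_multMat {Θ : Matrix ι ι A} (h : IsMultMat (k := k) Θ) (p q : A →ₐ[k] R) (i j : ι) :
    cv p q (Θ i j) = ∑ l, p (Θ i l) * q (Θ l j) := by
  rw [cv_apply, h.comul, map_sum]
  simp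

lemma lift_comp_map {B : Type u} [CommRing B] [Algebra k B] (p : A →ₐ[k] R) (f : B →ₐ[k] R)
    (π : A →ₐ[k] B) (z : A ⊗[k] A) :
    Algebra.TensorProduct.lift p (f.comp π) (fun _ _ => Commute.all _ _) z =
      Algebra.TensorProduct.lift p f (fun _ _ => Commute.all _ _)
        (Algebra.TensorProduct.map (AlgHom.id k A) π z) := by
  induction z using TensorProduct.induction_on with
  | zero => simp
  | tmul x a => simp
  | add s t hs ht => simp only [map_add, hs, ht]

end Conv

section SL2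

variable (k : Type u) [Field k]

/-- the coordinate ring of `SL₂`. -/
abbrev H2 : Type u := SLn 2 k

lemma slMultMat : IsMultMat (k := k) (slMat 2 k) :=
  ⟨fun i j => comul_X 2 k i j, fun i j => counit_X 2 k i j⟩

lemma sl_det : (SLn.X 0 0 : H2 k) * SLn.X 1 1 - SLn.X 0 1 * SLn.X 1 0 = 1 := by
  have h := slMat_det 2 k
  rw [Matrix.det_fin_two] at h
  exact h

variable {k} {R : Type v} [CommRing R] [Algebra k R]

lemma pt_eq (g : H2 k →ₐ[k] R) (M : Matrix (Fin 2) (Fin 2) R) (hM : M.det = 1)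
    (h : ∀ i j, g (SLn.X i j) = M i j) : g = SLn.pt 2 k M hM := by
  apply algHom_ext_X
  intro i j
  rw [h, SLn.pt_X]

lemma cv_pt (M₁ M₂ : Matrix (Fin 2) (Fin 2) R) (h₁ : M₁.det = 1) (h₂ : M₂.det = 1) :
    cv (SLn.pt 2 k M₁ h₁) (SLn.pt 2 k M₂ h₂) =
      SLn.pt 2 k (M₁ * M₂) (by rw [Matrix.det_mul, h₁, h₂, one_mul]) := by
  apply pt_eq
  intro i j
  have := cv_multMat (slMultMat k) (SLn.pt 2 k M₁ h₁) (SLn.pt 2 k M₂ h₂) i j
  simp only [slMat] at this
  rw [this, Matrix.mul_apply]
  simp

/-- the unipotent point. -/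
noncomputable def uPt (r : R) : H2 k →ₐ[k] R :=
  SLn.pt 2 k !![1, r; 0, 1] (by simp [Matrix.det_fin_two])

variable (k) in
/-- the restriction to the unipotent subgroup. -/
noncomputable def piU : H2 k →ₐ[k] Polynomial k := uPt Polynomial.X

lemma uPt_eq (r : R) : (uPt r : H2 k →ₐ[k] R) = (Polynomial.aeval r).comp (piU k) := by
  symm
  apply pt_eq
  intro i j
  unfold piU uPt
  rw [AlgHom.comp_apply, SLn.pt_X]
  fin_cases i <;> fin_cases j <;> simp

/-- right invariance under the unipotent subgroup. -/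
def IsUInv (h : H2 k) : Prop :=
  Algebra.TensorProduct.map (AlgHom.id k (H2 k)) (piU k) (Coalgebra.comul (R := k) h) =
    h ⊗ₜ[k] (1 : Polynomial k)

lemma cv_uPt_of_isUInv {h : H2 k} (hh : IsUInv h) (g : H2 k →ₐ[k] R) (r : R) :
    cv g (uPt r) h = g h := by
  rw [cv_apply, uPt_eq, lift_comp_map, hh]
  simp

/-- the inverse transpose of the generic matrix. -/
noncomputable def invT : Matrix (Fin 2) (Fin 2) (H2 k) :=
  !![SLn.X 1 1, -SLn.X 1 0; -SLn.X 0 1, SLn.X 0 0]

variable (k) in
lemma invT_multMat : IsMultMat (k := k) (invT (k := k)) := by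
  constructor
  · intro i j
    fin_cases i <;> fin_cases j <;>
      simp [invT, comul_X, Fin.sum_univ_two, TensorProduct.neg_tmul, TensorProduct.tmul_neg] <;>
      abel
  · intro i j
    fin_cases i <;> fin_cases j <;> simp [invT, counit_X]

end SL2

end Groth.Agent.Lib.Helper7.WZ
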