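import Groth.Agent.Lib.Helper7.WZ2
import Mathlib.RingTheory.Localization.Away.Basic
import Mathlib.Algebra.MvPolynomial.Division

/-!
# Weitzenböck, III: the functions on `SL₂` invariant under the unipotent subgroup (helper7)
-/

set_option autoImplicit false

universe u v

open TensorProduct

namespace Groth.Agent.Lib.Helper7.WZ

open HopfRep CoordGrp Groth.Agent.Lib.Helper7.SLnRed

section Crux

variable (k : Type u) [Field k]

/-- the polynomial ring in two variables. -/
abbrev P2 : Type u := MvPolynomial (Fin 2) k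

/-- the first column. -/
noncomputable def jm : P2 k →ₐ[k] H2 k := MvPolynomial.aeval (fun i => (SLn.X i 0 : H2 k))

@[simp] lemma jm_X (i : Fin 2) : jm k (MvPolynomial.X i) = SLn.X i 0 := by
  simp [jm]

variable {k}

lemma awayMap_algebraMap (z p : P2 k) :
    Localization.awayMapₐ (jm k) z (algebraMap (P2 k) (Localization.Away z) p) =
      algebraMap (H2 k) (Localization.Away (jm k z)) (jm k p) := by
  rw [IsLocalization.Away.mapₐ_apply]
  exact IsLocalization.map_eq _ _

lemma awayMap_algebraMap_X (z : P2 k) (i : Fin 2) :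
    Localization.awayMapₐ (jm k) z (algebraMap (P2 k) (Localization.Away z) (MvPolynomial.X i)) =
      algebraMap (H2 k) (Localization.Away (jm k z)) (SLn.X i 0) := by
  rw [awayMap_algebraMap]
  exact congrArg (algebraMap (H2 k) (Localization.Away (jm k z))) (jm_X k i)

theorem chart (z : P2 k) (G : Matrix (Fin 2) (Fin 2) (Localization.Away z)) (hG : G.det = 1)
    (T : Type u) [CommRing T] [Algebra k T] (φ : H2 k →ₐ[k] T)
    (lj : Localization.Away z →ₐ[k] T)
    (hlj : ∀ p, lj (algebraMap (P2 k) _ p) = φ (jm k p))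
    (hloc : ∀ x y, φ x = φ y → ∃ N' : ℕ, (jm k z) ^ N' * x = (jm k z) ^ N' * y)
    (r : T)
    (h00 : lj (G 0 0) = φ (SLn.X 0 0)) (h01 : lj (G 0 0) * r + lj (G 0 1) = φ (SLn.X 0 1))
    (h10 : lj (G 1 0) = φ (SLn.X 1 0)) (h11 : lj (G 1 0) * r + lj (G 1 1) = φ (SLn.X 1 1))
    {h : H2 k} (hh : IsUInv h) : ∃ (N : ℕ) (q : P2 k), (jm k z) ^ N * h = jm k q := by
  have hdet : (G.map lj).det = 1 := by
    have h1 := AlgHom.map_det lj G
    rw [hG, map_one] at h1
    exact h1.symm
  have h1 : φ = cv (SLn.pt 2 k (G.map lj) hdet) (uPt r) := by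
    unfold uPt
    rw [cv_pt]
    apply pt_eq
    intro i j
    fin_cases i <;> fin_cases j
    · simp [Matrix.mul_apply, Fin.sum_univ_two, h00]
    · simp [Matrix.mul_apply, Fin.sum_univ_two, h01]
    · simp [Matrix.mul_apply, Fin.sum_univ_two, h10]
    · simp [Matrix.mul_apply, Fin.sum_univ_two, h11]
  have h2 : φ h = SLn.pt 2 k (G.map lj) hdet h := by
    have := AlgHom.congr_fun h1 h
    rw [cv_uPt_of_isUInv hh] at this
    exact this
  have h3 : SLn.pt 2 k (G.map lj) hdet = lj.comp (SLn.pt 2 k G hG) := by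
    symm
    apply pt_eq
    intro i j
    simp
  obtain ⟨N, q, hq⟩ := IsLocalization.Away.surj z (SLn.pt 2 k G hG h)
  have h4 : φ (h * (jm k z) ^ N) = φ (jm k q) := by
    have h5 := congrArg lj hq
    rw [map_mul, map_pow, hlj, hlj] at h5
    rw [map_mul, map_pow, h2, h3]
    exact h5
  obtain ⟨N', hc⟩ := hloc _ _ h4
  refine ⟨N + N', z ^ N' * q, ?_⟩
  rw [map_mul, map_pow, ← hc]
  ring

lemma awayMap_mul_invSelf (z : P2 k) (w : H2 k) (hw : jm k z = w) :
    algebraMap (H2 k) (Localization.Away (jm k z)) w *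
      Localization.awayMapₐ (jm k) z (IsLocalization.Away.invSelf z) = 1 := by
  subst hw
  rw [← awayMap_algebraMap, ← map_mul, IsLocalization.Away.mul_invSelf, map_one]

lemma algebraMap_det (z : P2 k) :
    algebraMap (H2 k) (Localization.Away (jm k z)) (SLn.X 0 0) *
      algebraMap (H2 k) (Localization.Away (jm k z)) (SLn.X 1 1) -
      algebraMap (H2 k) (Localization.Away (jm k z)) (SLn.X 0 1) *
      algebraMap (H2 k) (Localization.Away (jm k z)) (SLn.X 1 0) = 1 := by
  rw [← map_mul, ← map_mul, ← map_sub, sl_det, map_one]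

lemma hloc_away (z : P2 k) (x y : H2 k)
    (h : IsScalarTower.toAlgHom k (H2 k) (Localization.Away (jm k z)) x =
      IsScalarTower.toAlgHom k (H2 k) (Localization.Away (jm k z)) y) :
    ∃ N' : ℕ, (jm k z) ^ N' * x = (jm k z) ^ N' * y := by
  obtain ⟨⟨_, N', rfl⟩, hc⟩ :=
    (IsLocalization.eq_iff_exists (Submonoid.powers (jm k z)) (Localization.Away (jm k z))).1 h
  exact ⟨N', hc⟩

theorem chart0 {h : H2 k} (hh : IsUInv h) :
    ∃ (N : ℕ) (q : P2 k), (SLn.X 0 0 : H2 k) ^ N * h = jm k q := by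
  have hv := awayMap_mul_invSelf (k := k) (MvPolynomial.X 0 : P2 k) (SLn.X 0 0) (jm_X k 0)
  have hd := algebraMap_det (k := k) (MvPolynomial.X 0 : P2 k)
  have key := chart (k := k) (MvPolynomial.X 0 : P2 k)
    !![algebraMap (P2 k) _ (MvPolynomial.X 0 : P2 k), 0;
       algebraMap (P2 k) _ (MvPolynomial.X 1 : P2 k),
        IsLocalization.Away.invSelf (MvPolynomial.X 0 : P2 k)]
    (by
      rw [Matrix.det_fin_two_of, IsLocalization.Away.mul_invSelf]
      simp)
    (Localization.Away (jm k (MvPolynomial.X 0 : P2 k)))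
    (IsScalarTower.toAlgHom k (H2 k) _)
    (Localization.awayMapₐ (jm k) (MvPolynomial.X 0 : P2 k))
    (fun p => awayMap_algebraMap _ p)
    (hloc_away _)
    (algebraMap (H2 k) _ (SLn.X 0 1) *
      Localization.awayMapₐ (jm k) (MvPolynomial.X 0 : P2 k)
        (IsLocalization.Away.invSelf (MvPolynomial.X 0 : P2 k)))
    (by
      change Localization.awayMapₐ (jm k) (MvPolynomial.X 0 : P2 k)
        (algebraMap (P2 k) _ (MvPolynomial.X 0 : P2 k)) = algebraMap (H2 k) _ (SLn.X 0 0)
      rw [awayMap_algebraMap_X])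
    (by
      change Localization.awayMapₐ (jm k) (MvPolynomial.X 0 : P2 k)
        (algebraMap (P2 k) _ (MvPolynomial.X 0 : P2 k)) * _ +
        Localization.awayMapₐ (jm k) (MvPolynomial.X 0 : P2 k) 0 = algebraMap (H2 k) _ (SLn.X 0 1)
      rw [awayMap_algebraMap_X, map_zero]
      linear_combination (algebraMap (H2 k) _ (SLn.X 0 1)) * hv)
    (by
      change Localization.awayMapₐ (jm k) (MvPolynomial.X 0 : P2 k)
        (algebraMap (P2 k) _ (MvPolynomial.X 1 : P2 k)) = algebraMap (H2 k) _ (SLn.X 1 0)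
      rw [awayMap_algebraMap_X])
    (by
      change Localization.awayMapₐ (jm k) (MvPolynomial.X 0 : P2 k)
        (algebraMap (P2 k) _ (MvPolynomial.X 1 : P2 k)) * _ +
        Localization.awayMapₐ (jm k) (MvPolynomial.X 0 : P2 k)
          (IsLocalization.Away.invSelf (MvPolynomial.X 0 : P2 k)) =
          algebraMap (H2 k) _ (SLn.X 1 1)
      rw [awayMap_algebraMap_X]
      linear_combination (algebraMap (H2 k) _ (SLn.X 1 1)) * hv -
          (Localization.awayMapₐ (jm k) (MvPolynomial.X 0 : P2 k)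
            (IsLocalization.Away.invSelf (MvPolynomial.X 0 : P2 k))) * hd)
    hh
  obtain ⟨N, q, hq⟩ := key
  exact ⟨N, q, by rw [← hq, jm_X]⟩

theorem chart1 {h : H2 k} (hh : IsUInv h) :
    ∃ (N : ℕ) (q : P2 k), (SLn.X 1 0 : H2 k) ^ N * h = jm k q := by
  have hv := awayMap_mul_invSelf (k := k) (MvPolynomial.X 1 : P2 k) (SLn.X 1 0) (jm_X k 1)
  have hd := algebraMap_det (k := k) (MvPolynomial.X 1 : P2 k)
  have key := chart (k := k) (MvPolynomial.X 1 : P2 k)
    !![algebraMap (P2 k) _ (MvPolynomial.X 0 : P2 k),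
        -IsLocalization.Away.invSelf (MvPolynomial.X 1 : P2 k);
       algebraMap (P2 k) _ (MvPolynomial.X 1 : P2 k), 0]
    (by
      rw [Matrix.det_fin_two_of]
      have := IsLocalization.Away.mul_invSelf (S := Localization.Away (MvPolynomial.X 1 : P2 k))
        (MvPolynomial.X 1 : P2 k)
      linear_combination this)
    (Localization.Away (jm k (MvPolynomial.X 1 : P2 k)))
    (IsScalarTower.toAlgHom k (H2 k) _)
    (Localization.awayMapₐ (jm k) (MvPolynomial.X 1 : P2 k))
    (fun p => awayMap_algebraMap _ p)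
    (hloc_away _)
    (algebraMap (H2 k) _ (SLn.X 1 1) *
      Localization.awayMapₐ (jm k) (MvPolynomial.X 1 : P2 k)
        (IsLocalization.Away.invSelf (MvPolynomial.X 1 : P2 k)))
    (by
      change Localization.awayMapₐ (jm k) (MvPolynomial.X 1 : P2 k)
        (algebraMap (P2 k) _ (MvPolynomial.X 0 : P2 k)) = algebraMap (H2 k) _ (SLn.X 0 0)
      rw [awayMap_algebraMap_X])
    (by
      change Localization.awayMapₐ (jm k) (MvPolynomial.X 1 : P2 k)
        (algebraMap (P2 k) _ (MvPolynomial.X 0 : P2 k)) * _ +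
        Localization.awayMapₐ (jm k) (MvPolynomial.X 1 : P2 k)
          (-IsLocalization.Away.invSelf (MvPolynomial.X 1 : P2 k)) =
          algebraMap (H2 k) _ (SLn.X 0 1)
      rw [awayMap_algebraMap_X, map_neg]
      linear_combination (Localization.awayMapₐ (jm k) (MvPolynomial.X 1 : P2 k)
            (IsLocalization.Away.invSelf (MvPolynomial.X 1 : P2 k))) * hd +
          (algebraMap (H2 k) _ (SLn.X 0 1)) * hv)
    (by
      change Localization.awayMapₐ (jm k) (MvPolynomial.X 1 : P2 k)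
        (algebraMap (P2 k) _ (MvPolynomial.X 1 : P2 k)) = algebraMap (H2 k) _ (SLn.X 1 0)
      rw [awayMap_algebraMap_X])
    (by
      change Localization.awayMapₐ (jm k) (MvPolynomial.X 1 : P2 k)
        (algebraMap (P2 k) _ (MvPolynomial.X 1 : P2 k)) * _ +
        Localization.awayMapₐ (jm k) (MvPolynomial.X 1 : P2 k) 0 =
          algebraMap (H2 k) _ (SLn.X 1 1)
      rw [awayMap_algebraMap_X, map_zero]
      linear_combination (algebraMap (H2 k) _ (SLn.X 1 1)) * hv)
    hh
  obtain ⟨N, q, hq⟩ := key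
  exact ⟨N, q, by rw [← hq, jm_X]⟩

theorem jm_injective : Function.Injective (jm k) := by
  have hG : (!![algebraMap (P2 k) (Localization.Away (MvPolynomial.X 0 : P2 k))
        (MvPolynomial.X 0 : P2 k), 0;
       algebraMap (P2 k) _ (MvPolynomial.X 1 : P2 k),
        IsLocalization.Away.invSelf (MvPolynomial.X 0 : P2 k)]).det = 1 := by
    rw [Matrix.det_fin_two_of, IsLocalization.Away.mul_invSelf]
    simp
  have hcomp : (SLn.pt 2 k _ hG).comp (jm k) =
      IsScalarTower.toAlgHom k (P2 k) (Localization.Away (MvPolynomial.X 0 : P2 k)) := by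
    apply MvPolynomial.algHom_ext
    intro i
    rw [AlgHom.comp_apply, jm_X, SLn.pt_X]
    fin_cases i <;> rfl
  have hinj : Function.Injective
      (algebraMap (P2 k) (Localization.Away (MvPolynomial.X 0 : P2 k))) :=
    IsLocalization.injective _
      (powers_le_nonZeroDivisors_of_noZeroDivisors (MvPolynomial.X_ne_zero (0 : Fin 2)))
  intro p q hpq
  apply hinj
  have h1 := AlgHom.congr_fun hcomp p
  have h2 := AlgHom.congr_fun hcomp q
  rw [AlgHom.comp_apply] at h1 h2
  change _ = algebraMap (P2 k) _ p at h1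
  change _ = algebraMap (P2 k) _ q at h2
  rw [← h1, ← h2, hpq]

/-- **The crux**: a function on `SL₂` invariant under right translation by the unipotent
subgroup is a polynomial in the first column. -/
theorem mem_range_of_isUInv {h : H2 k} (hh : IsUInv h) : h ∈ (jm k).range := by
  obtain ⟨N, q₁, h₁⟩ := chart0 hh
  obtain ⟨M, q₂, h₂⟩ := chart1 hh
  have e : (MvPolynomial.X 1 : P2 k) ^ M * q₁ = (MvPolynomial.X 0 : P2 k) ^ N * q₂ := by
    apply jm_injective
    rw [map_mul, map_mul, map_pow, map_pow, jm_X, jm_X, ← h₁, ← h₂]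
    ring
  have hd : (MvPolynomial.X 0 : P2 k) ^ N ∣ q₁ := by
    refine Prime.pow_dvd_of_dvd_mul_left MvPolynomial.X_prime N
      (a := (MvPolynomial.X 1 : P2 k) ^ M) ?_ ⟨q₂, e⟩
    intro hdv
    have h3 := (MvPolynomial.X_prime (R := k) (i := (0 : Fin 2))).dvd_of_dvd_pow hdv
    rw [MvPolynomial.X_dvd_X] at h3
    exact absurd h3 (by decide)
  obtain ⟨q, rfl⟩ := hd
  have e2 : q₂ = (MvPolynomial.X 1 : P2 k) ^ M * q := by
    have h3 : (MvPolynomial.X 0 : P2 k) ^ N * ((MvPolynomial.X 1 : P2 k) ^ M * q) =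
        (MvPolynomial.X 0 : P2 k) ^ N * q₂ := by
      rw [← e]
      ring
    exact (mul_left_cancel₀ (pow_ne_zero _ (MvPolynomial.X_ne_zero (0 : Fin 2))) h3).symm
  subst e2
  have w1 : (SLn.X 0 0 : H2 k) ^ N * (h - jm k q) = 0 := by
    rw [mul_sub, h₁, map_mul, map_pow, jm_X, sub_self]
  have w2 : (SLn.X 1 0 : H2 k) ^ M * (h - jm k q) = 0 := by
    rw [mul_sub, h₂, map_mul, map_pow, jm_X, sub_self]
  have htop : Ideal.span ({SLn.X 0 0, SLn.X 1 0} : Set (H2 k)) = ⊤ := by
    rw [Ideal.eq_top_iff_one, Ideal.mem_span_pair]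
    exact ⟨SLn.X 1 1, -SLn.X 0 1, by linear_combination sl_det k⟩
  have htop' := Ideal.span_pow_eq_top _ htop (N + M)
  rw [Set.image_pair] at htop'
  obtain ⟨α, β, hαβ⟩ := Ideal.mem_span_pair.1 ((Ideal.eq_top_iff_one _).1 htop')
  have hw : h - jm k q = 0 := by
    calc h - jm k q = (α * (SLn.X 0 0) ^ (N + M) + β * (SLn.X 1 0) ^ (N + M)) * (h - jm k q) := by
          rw [hαβ, one_mul]
      _ = α * (SLn.X 0 0) ^ M * ((SLn.X 0 0 : H2 k) ^ N * (h - jm k q)) +
          β * (SLn.X 1 0) ^ N * ((SLn.X 1 0 : H2 k) ^ M * (h - jm k q)) := by ring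
      _ = 0 := by rw [w1, w2]; ring
  exact ⟨q, (sub_eq_zero.1 hw).symm⟩

end Crux

end Groth.Agent.Lib.Helper7.WZ
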