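import Groth.Agent.Lib.Helper7.WZ3
import Mathlib.RingTheory.TensorProduct.MvPolynomial
import Mathlib.RingTheory.Flat.Equalizer

/-!
# Weitzenböck, IV: the transfer principle, set-up and the easy inclusion (helper7)
-/

set_option autoImplicit false

universe u v

open TensorProduct

namespace Groth.Agent.Lib.Helper7.WZ

open HopfRep CoordGrp Groth.Agent.Lib.Helper7.SLnRed

section Blocks

variable {k : Type u} [Field k] {A : Type u} [CommRing A] [Bialgebra k A]
  {ι κ : Type} [Fintype ι] [DecidableEq ι] [Fintype κ] [DecidableEq κ]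

lemma isMultMat_fromBlocks {Θ : Matrix ι ι A} {Θ' : Matrix κ κ A} (h : IsMultMat (k := k) Θ)
    (h' : IsMultMat (k := k) Θ') : IsMultMat (k := k) (Matrix.fromBlocks Θ 0 0 Θ') := by
  constructor
  · rintro (i | i) (j | j)
    · simp [Fintype.sum_sum_type, h.comul]
    · simp [Fintype.sum_sum_type]
    · simp [Fintype.sum_sum_type]
    · simp [Fintype.sum_sum_type, h'.comul]
  · rintro (i | i) (j | j)
    · simp [h.counit]
    · simp
    · simp
    · simp [h'.counit]

end Blocks

section Transfer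

variable {k : Type u} [Field k] {ι : Type} [Fintype ι] [DecidableEq ι]

/-- the restriction of the coaction to the unipotent subgroup. -/
noncomputable def rhoU (Θ : Matrix ι ι (H2 k)) :
    MvPolynomial ι k →ₐ[k] MvPolynomial ι k ⊗[k] Polynomial k :=
  (Algebra.TensorProduct.map (AlgHom.id k _) (piU k)).comp (matCoact k Θ)

lemma rhoU_X (Θ : Matrix ι ι (H2 k)) (j : ι) :
    rhoU Θ (MvPolynomial.X j) = ∑ i, (MvPolynomial.X i : MvPolynomial ι k) ⊗ₜ[k] piU k (Θ i j) := by
  simp [rhoU]

/-- the matrix of the big representation. -/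
noncomputable def bigMat (Θ : Matrix ι ι (H2 k)) : Matrix (ι ⊕ Fin 2) (ι ⊕ Fin 2) (H2 k) :=
  Matrix.fromBlocks Θ 0 0 invT

lemma bigMat_multMat {Θ : Matrix ι ι (H2 k)} (h : IsMultMat (k := k) Θ) :
    IsMultMat (k := k) (bigMat Θ) :=
  isMultMat_fromBlocks h (invT_multMat k)

variable (k ι) in
/-- evaluation at the first basis vector. -/
noncomputable def evB : MvPolynomial (ι ⊕ Fin 2) k →ₐ[k] MvPolynomial ι k :=
  MvPolynomial.aeval (Sum.elim (fun i => (MvPolynomial.X i : MvPolynomial ι k)) ![1, 0])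

@[simp] lemma evB_inl (i : ι) : evB k ι (MvPolynomial.X (Sum.inl i)) = MvPolynomial.X i := by
  simp [evB]

@[simp] lemma evB_inr (j : Fin 2) :
    evB k ι (MvPolynomial.X (Sum.inr j)) = (![1, 0] : Fin 2 → MvPolynomial ι k) j := by
  simp [evB]

lemma piU_X (i j : Fin 2) :
    piU k (SLn.X i j) = (!![1, Polynomial.X; 0, 1] : Matrix (Fin 2) (Fin 2) (Polynomial k)) i j := by
  unfold piU uPt
  rw [SLn.pt_X]

theorem map_evB_comp (Θ : Matrix ι ι (H2 k)) :
    (Algebra.TensorProduct.map (evB k ι) (piU k)).comp (matCoact k (bigMat Θ)) =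
      (rhoU Θ).comp (evB k ι) := by
  apply MvPolynomial.algHom_ext
  rintro (j | j)
  · simp [bigMat, Fintype.sum_sum_type, rhoU_X]
  · fin_cases j
    · simp [bigMat, Fintype.sum_sum_type, invT, piU_X, Algebra.TensorProduct.one_def]
    · simp [bigMat, Fintype.sum_sum_type, invT, piU_X]

/-- **Easy inclusion**: evaluating an invariant of the big representation at the first basis
vector gives an invariant of the unipotent subgroup. -/
theorem rhoU_evB_of_invariant {Θ : Matrix ι ι (H2 k)}
    {F : MvPolynomial (ι ⊕ Fin 2) k}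
    (hF : matCoact k (bigMat Θ) F = F ⊗ₜ[k] (1 : H2 k)) :
    rhoU Θ (evB k ι F) = evB k ι F ⊗ₜ[k] (1 : Polynomial k) := by
  have h := AlgHom.congr_fun (map_evB_comp Θ) F
  rw [AlgHom.comp_apply, AlgHom.comp_apply, hF] at h
  rw [← h]
  simp

end Transfer

end Groth.Agent.Lib.Helper7.WZ
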