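import Groth.Agent.Lib.Helper7.WZ4

/-!
# Weitzenböck, V: the transfer principle, the hard inclusion (helper7)
-/

set_option autoImplicit false

universe u v

open TensorProduct

namespace Groth.Agent.Lib.Helper7.WZ

open HopfRep CoordGrp Groth.Agent.Lib.Helper7.SLnRed

section Aux

variable {k : Type u} [Field k] {S R A B : Type u} [CommRing S] [Algebra k S] [CommRing R]
  [Algebra k R] [CommRing A] [Algebra k A] [CommRing B] [Algebra k B]

lemma map_eq_lTensor (f : A →ₐ[k] B) (z : S ⊗[k] A) :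
    Algebra.TensorProduct.map (AlgHom.id k S) f z = f.toLinearMap.lTensor S z := by
  induction z using TensorProduct.induction_on with
  | zero => simp
  | tmul x a => simp
  | add s t hs ht => simp only [map_add, hs, ht]

lemma map_eq_rTensor' (f : S →ₐ[k] R) (z : S ⊗[k] A) :
    Algebra.TensorProduct.map f (AlgHom.id k A) z = f.toLinearMap.rTensor A z := by
  induction z using TensorProduct.induction_on with
  | zero => simp
  | tmul x a => simp
  | add s t hs ht => simp only [map_add, hs, ht]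

end Aux

section Hard

variable {k : Type u} [Field k] {ι : Type} [Fintype ι] [DecidableEq ι]

variable (k ι) in
/-- the comparison map. -/
noncomputable def Jmap : MvPolynomial (ι ⊕ Fin 2) k →ₐ[k] MvPolynomial ι k ⊗[k] H2 k :=
  MvPolynomial.aeval
    (Sum.elim (fun i => (MvPolynomial.X i : MvPolynomial ι k) ⊗ₜ[k] (1 : H2 k))
      (fun j => (1 : MvPolynomial ι k) ⊗ₜ[k] (SLn.X j 0 : H2 k)))

@[simp] lemma Jmap_inl (i : ι) :
    Jmap k ι (MvPolynomial.X (Sum.inl i)) = (MvPolynomial.X i : MvPolynomial ι k) ⊗ₜ[k] (1 : H2 k) := by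
  simp [Jmap]

@[simp] lemma Jmap_inr (j : Fin 2) :
    Jmap k ι (MvPolynomial.X (Sum.inr j)) = (1 : MvPolynomial ι k) ⊗ₜ[k] (SLn.X j 0 : H2 k) := by
  simp [Jmap]

lemma Jmap_comp_equiv :
    (Jmap k ι).comp (MvPolynomial.tensorEquivSum k ι (Fin 2) k).toAlgHom =
      Algebra.TensorProduct.map (AlgHom.id k (MvPolynomial ι k)) (jm k) := by
  apply Algebra.TensorProduct.ext
  · apply MvPolynomial.algHom_ext
    intro i
    simp
  · apply MvPolynomial.algHom_ext
    intro j
    simp

lemma Jmap_equiv (z : MvPolynomial ι k ⊗[k] P2 k) :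
    Jmap k ι (MvPolynomial.tensorEquivSum k ι (Fin 2) k z) =
      (jm k).toLinearMap.lTensor (MvPolynomial ι k) z := by
  rw [← map_eq_lTensor, ← Jmap_comp_equiv]
  rfl

theorem Jmap_injective : Function.Injective (Jmap k ι) := by
  have h1 : Function.Injective ((jm k).toLinearMap.lTensor (MvPolynomial ι k)) :=
    Module.Flat.lTensor_preserves_injective_linearMap _ jm_injective
  intro x y hxy
  obtain ⟨x', rfl⟩ := (MvPolynomial.tensorEquivSum k ι (Fin 2) k).surjective x
  obtain ⟨y', rfl⟩ := (MvPolynomial.tensorEquivSum k ι (Fin 2) k).surjective y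
  rw [Jmap_equiv, Jmap_equiv] at hxy
  rw [h1 hxy]

lemma counit_Jmap :
    ((Algebra.TensorProduct.rid k k (MvPolynomial ι k)).toAlgHom.comp
      (Algebra.TensorProduct.map (AlgHom.id k _) (Bialgebra.counitAlgHom k (H2 k)))).comp
        (Jmap k ι) = evB k ι := by
  apply MvPolynomial.algHom_ext
  rintro (i | j)
  · simp
  · fin_cases j <;> simp [counit_X]

section GenericAdj

variable {R : Type u} [CommRing R] [Algebra k R] (g : H2 k →ₐ[k] R)

lemma det_of_algHom :
    g (SLn.X 0 0) * g (SLn.X 1 1) - g (SLn.X 0 1) * g (SLn.X 1 0) = 1 := by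
  rw [← map_mul, ← map_mul, ← map_sub, sl_det, map_one]

/-- the adjugate of a point. -/
noncomputable def adjMat : Matrix (Fin 2) (Fin 2) R :=
  !![g (SLn.X 1 1), -g (SLn.X 0 1); -g (SLn.X 1 0), g (SLn.X 0 0)]

lemma adjMat_det : (adjMat g).det = 1 := by
  unfold adjMat
  rw [Matrix.det_fin_two_of]
  linear_combination det_of_algHom g

lemma mapMat_det : ((slMat 2 k).map g).det = 1 := by
  rw [Matrix.det_fin_two]
  simp only [Matrix.map_apply, slMat]
  exact det_of_algHom g

lemma mapMat_mul_adjMat : (slMat 2 k).map g * adjMat g = 1 := by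
  have hd := det_of_algHom g
  ext a b
  fin_cases a <;> fin_cases b
  · simp [adjMat, slMat, Matrix.mul_apply, Fin.sum_univ_two]
    linear_combination hd
  · simp [adjMat, slMat, Matrix.mul_apply, Fin.sum_univ_two]
    ring
  · simp [adjMat, slMat, Matrix.mul_apply, Fin.sum_univ_two]
    ring
  · simp [adjMat, slMat, Matrix.mul_apply, Fin.sum_univ_two]
    linear_combination hd

lemma eq_pt_mapMat : g = SLn.pt 2 k ((slMat 2 k).map g) (mapMat_det g) := by
  apply pt_eq
  intro i j
  rfl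

variable (g' : H2 k →ₐ[k] R)

lemma adj_mul_det : (adjMat g * (slMat 2 k).map g').det = 1 := by
  rw [Matrix.det_mul, adjMat_det, mapMat_det, one_mul]

/-- the point `g⁻¹ g'`. -/
noncomputable def invMulPt : H2 k →ₐ[k] R := SLn.pt 2 k _ (adj_mul_det g g')

lemma cv_invMulPt : cv g (invMulPt g g') = g' := by
  have h := cv_pt (k := k) ((slMat 2 k).map g) (adjMat g * (slMat 2 k).map g') (mapMat_det g)
    (adj_mul_det g g')
  rw [← eq_pt_mapMat g] at h
  unfold invMulPt
  rw [h]
  symm
  apply pt_eq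
  intro i j
  rw [← Matrix.mul_assoc, mapMat_mul_adjMat, Matrix.one_mul]
  rfl

lemma adjMat_eq_invT (i j : Fin 2) : adjMat g i j = g (invT j i) := by
  fin_cases i <;> fin_cases j <;> simp [adjMat, invT]

end GenericAdj

section Psi

variable {R : Type u} [CommRing R] [Algebra k R]
  (α : MvPolynomial ι k ⊗[k] H2 k →ₐ[k] R) (γ : H2 k →ₐ[k] R) (Θ : Matrix ι ι (H2 k))

/-- first leg. -/
noncomputable def al1 : MvPolynomial ι k →ₐ[k] R := α.comp Algebra.TensorProduct.includeLeft

/-- second leg. -/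
noncomputable def al2 : H2 k →ₐ[k] R := α.comp Algebra.TensorProduct.includeRight

lemma al_tmul (x : MvPolynomial ι k) (h : H2 k) : α (x ⊗ₜ[k] h) = al1 α x * al2 α h := by
  unfold al1 al2
  rw [AlgHom.comp_apply, AlgHom.comp_apply, ← map_mul]
  simp

/-- the first component of `Ψ`. -/
noncomputable def psi1 : MvPolynomial ι k →ₐ[k] R :=
  (Algebra.TensorProduct.lift (al1 α) γ (fun _ _ => Commute.all _ _)).comp (matCoact k Θ)

lemma psi1_X (j : ι) :
    psi1 α γ Θ (MvPolynomial.X j) = ∑ l, al1 α (MvPolynomial.X l) * γ (Θ l j) := by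
  simp [psi1]

/-- the second component of `Ψ`. -/
noncomputable def psi2 : H2 k →ₐ[k] R := invMulPt γ (al2 α)

/-- the map `Ψ`. -/
noncomputable def Psi : MvPolynomial ι k ⊗[k] H2 k →ₐ[k] R :=
  Algebra.TensorProduct.lift (psi1 α γ Θ) (psi2 α γ) (fun _ _ => Commute.all _ _)

theorem Psi_comp_coact {Θ : Matrix ι ι (H2 k)} (hΘ : IsMultMat (k := k) Θ) :
    (Psi α γ Θ).comp (matCoact k Θ) = α.comp (matCoact k Θ) := by
  apply MvPolynomial.algHom_ext
  intro j
  simp only [AlgHom.comp_apply, matCoact_X, map_sum, Psi, Algebra.TensorProduct.lift_tmul,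
    psi1_X, al_tmul]
  simp only [Finset.sum_mul]
  rw [Finset.sum_comm]
  apply Finset.sum_congr rfl
  intro l _
  have h1 := cv_multMat hΘ γ (psi2 α γ) l j
  unfold psi2 at h1
  rw [cv_invMulPt] at h1
  simp only [mul_assoc]
  rw [← Finset.mul_sum]
  unfold psi2
  rw [← h1]

lemma al1_apply (x : MvPolynomial ι k) : al1 α x = α (x ⊗ₜ[k] (1 : H2 k)) := rfl

lemma al2_apply (h : H2 k) : al2 α h = α ((1 : MvPolynomial ι k) ⊗ₜ[k] h) := rfl

/-- the big comparison map. -/
noncomputable def bigL : MvPolynomial (ι ⊕ Fin 2) k ⊗[k] H2 k →ₐ[k] R :=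
  Algebra.TensorProduct.lift (α.comp (Jmap k ι)) γ (fun _ _ => Commute.all _ _)

lemma bigL_tmul (x : MvPolynomial (ι ⊕ Fin 2) k) (h : H2 k) :
    bigL α γ (x ⊗ₜ[k] h) = α (Jmap k ι x) * γ h := by
  simp [bigL]

lemma bigL_tmul_one (x : MvPolynomial (ι ⊕ Fin 2) k) :
    bigL α γ (x ⊗ₜ[k] (1 : H2 k)) = α (Jmap k ι x) := by
  simp [bigL]

theorem lift_Jmap_comp (Θ : Matrix ι ι (H2 k)) :
    (bigL α γ).comp (matCoact k (bigMat Θ)) = (Psi α γ Θ).comp (Jmap k ι) := by
  apply MvPolynomial.algHom_ext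
  unfold bigL
  rintro (j | j)
  · simp only [AlgHom.comp_apply, matCoact_X, Fintype.sum_sum_type, bigMat,
      Matrix.fromBlocks_apply₁₁, Matrix.fromBlocks_apply₂₁, Matrix.zero_apply,
      TensorProduct.tmul_zero, Finset.sum_const_zero, add_zero, map_sum,
      Algebra.TensorProduct.lift_tmul, Jmap_inl, Psi, psi1_X, map_one, mul_one, al1_apply]
  · simp only [AlgHom.comp_apply, matCoact_X, Fintype.sum_sum_type, bigMat,
      Matrix.fromBlocks_apply₁₂, Matrix.fromBlocks_apply₂₂, Matrix.zero_apply,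
      TensorProduct.tmul_zero, Finset.sum_const_zero, zero_add, map_sum,
      Algebra.TensorProduct.lift_tmul, Jmap_inr, Psi, map_one, one_mul]
    unfold psi2 invMulPt
    rw [SLn.pt_X, Matrix.mul_apply]
    apply Finset.sum_congr rfl
    intro m _
    rw [adjMat_eq_invT, Matrix.map_apply, al2_apply, mul_comm]
    rfl

end Psi

end Hard

end Groth.Agent.Lib.Helper7.WZ
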