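import Groth.Agent.Lib.Helper7.WZ5

/-!
# Weitzenböck, VI: the transfer principle (helper7)
-/

set_option autoImplicit false

universe u v

open TensorProduct

namespace Groth.Agent.Lib.Helper7.WZ

open HopfRep CoordGrp Groth.Agent.Lib.Helper7.SLnRed

section T2

variable {k : Type u} [Field k] {ι : Type} [Fintype ι] [DecidableEq ι]

variable (k) in
/-- comultiplication followed by restriction of the right factor. -/
noncomputable def dPi : H2 k →ₐ[k] H2 k ⊗[k] Polynomial k :=
  (Algebra.TensorProduct.map (AlgHom.id k (H2 k)) (piU k)).comp (Bialgebra.comulAlgHom k (H2 k))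

lemma isUInv_iff (h : H2 k) : IsUInv h ↔ dPi k h = h ⊗ₜ[k] (1 : Polynomial k) := Iff.rfl

theorem phi_eq {Θ : Matrix ι ι (H2 k)} (hΘ : IsMultMat (k := k) Θ) :
    (Algebra.TensorProduct.map (AlgHom.id k (MvPolynomial ι k)) (dPi k)).comp (matCoact k Θ) =
    (Algebra.TensorProduct.assoc k k k (MvPolynomial ι k) (H2 k) (Polynomial k)).toAlgHom.comp
      ((Algebra.TensorProduct.map (matCoact k Θ) (AlgHom.id k (Polynomial k))).comp
        (rhoU Θ)) := by
  apply MvPolynomial.algHom_ext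
  intro j
  simp only [AlgHom.comp_apply, matCoact_X, rhoU_X, map_sum, Algebra.TensorProduct.map_tmul,
    AlgHom.id_apply, dPi, Bialgebra.comulAlgHom_apply, hΘ.comul, TensorProduct.sum_tmul,
    TensorProduct.tmul_sum, AlgHom.coe_coe, Algebra.TensorProduct.assoc_tmul]
  exact Finset.sum_comm

lemma assoc_tmul_one (z : MvPolynomial ι k ⊗[k] H2 k) :
    (Algebra.TensorProduct.assoc k k k (MvPolynomial ι k) (H2 k) (Polynomial k))
      (z ⊗ₜ[k] (1 : Polynomial k)) =
    Algebra.TensorProduct.map (AlgHom.id k (MvPolynomial ι k))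
      (Algebra.TensorProduct.includeLeft : H2 k →ₐ[k] H2 k ⊗[k] Polynomial k) z := by
  induction z using TensorProduct.induction_on with
  | zero => simp
  | tmul x a => simp
  | add s t hs ht => simp only [map_add, TensorProduct.add_tmul, hs, ht]

/-- the big comparison map is the right tensor of the comparison map. -/
lemma bigL_eq_rTensor (z : MvPolynomial (ι ⊕ Fin 2) k ⊗[k] H2 k) :
    bigL (R := (MvPolynomial ι k ⊗[k] H2 k) ⊗[k] H2 k)
      (Algebra.TensorProduct.includeLeft :
        MvPolynomial ι k ⊗[k] H2 k →ₐ[k] (MvPolynomial ι k ⊗[k] H2 k) ⊗[k] H2 k)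
      (Algebra.TensorProduct.includeRight :
        H2 k →ₐ[k] (MvPolynomial ι k ⊗[k] H2 k) ⊗[k] H2 k) z =
      (Jmap k ι).toLinearMap.rTensor (H2 k) z := by
  induction z using TensorProduct.induction_on with
  | zero => rw [map_zero, map_zero]
  | tmul x a =>
    rw [bigL_tmul, LinearMap.rTensor_tmul]
    change ((Jmap k ι x) ⊗ₜ[k] (1 : H2 k)) * ((1 : MvPolynomial ι k ⊗[k] H2 k) ⊗ₜ[k] a) = _
    rw [Algebra.TensorProduct.tmul_mul_tmul, mul_one, one_mul]
    rfl
  | add s t hs ht => rw [map_add, map_add, hs, ht]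

/-- **Hard inclusion**: an invariant of the unipotent subgroup is the value at the first basis
vector of an invariant of the big representation. -/
theorem exists_invariant_of_rhoU {Θ : Matrix ι ι (H2 k)} (hΘ : IsMultMat (k := k) Θ)
    {f : MvPolynomial ι k} (hf : rhoU Θ f = f ⊗ₜ[k] (1 : Polynomial k)) :
    ∃ F : MvPolynomial (ι ⊕ Fin 2) k,
      matCoact k (bigMat Θ) F = F ⊗ₜ[k] (1 : H2 k) ∧ evB k ι F = f := by
  classical
  set f₁ : H2 k →ₗ[k] H2 k ⊗[k] Polynomial k := (dPi k).toLinearMap with hf₁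
  set f₂ : H2 k →ₗ[k] H2 k ⊗[k] Polynomial k :=
    (Algebra.TensorProduct.includeLeft : H2 k →ₐ[k] H2 k ⊗[k] Polynomial k).toLinearMap with hf₂
  have hz : f₁.lTensor (MvPolynomial ι k) (matCoact k Θ f) =
      f₂.lTensor (MvPolynomial ι k) (matCoact k Θ f) := by
    rw [hf₁, hf₂, ← map_eq_lTensor, ← map_eq_lTensor]
    have h1 := AlgHom.congr_fun (phi_eq hΘ) f
    simp only [AlgHom.comp_apply] at h1
    rw [h1, hf, Algebra.TensorProduct.map_tmul, map_one]
    exact assoc_tmul_one _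
  have hmem : matCoact k Θ f ∈ LinearMap.eqLocus
      (TensorProduct.AlgebraTensorModule.lTensor k (MvPolynomial ι k) f₁)
      (TensorProduct.AlgebraTensorModule.lTensor k (MvPolynomial ι k) f₂) := hz
  rw [Module.Flat.eqLocus_lTensor_eq] at hmem
  obtain ⟨w, hw⟩ := hmem
  -- the section
  have hE : ∀ e : LinearMap.eqLocus f₁ f₂,
      (LinearMap.eqLocus f₁ f₂).subtype e ∈ LinearMap.range (jm k).toLinearMap := by
    intro e
    have he : IsUInv (e : H2 k) := e.2
    obtain ⟨q, hq⟩ := mem_range_of_isUInv he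
    exact ⟨q, hq⟩
  let s : LinearMap.eqLocus f₁ f₂ →ₗ[k] P2 k :=
    (LinearEquiv.ofInjective (jm k).toLinearMap jm_injective).symm.toLinearMap ∘ₗ
      (LinearMap.codRestrict (LinearMap.range (jm k).toLinearMap)
        (LinearMap.eqLocus f₁ f₂).subtype hE)
  have hs : (jm k).toLinearMap ∘ₗ s = (LinearMap.eqLocus f₁ f₂).subtype := by
    apply LinearMap.ext
    intro e
    simp only [LinearMap.comp_apply, s, LinearEquiv.coe_coe]
    have := (LinearEquiv.ofInjective (jm k).toLinearMap jm_injective).apply_symm_apply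
      (LinearMap.codRestrict (LinearMap.range (jm k).toLinearMap)
        (LinearMap.eqLocus f₁ f₂).subtype hE e)
    exact congrArg Subtype.val this
  set F : MvPolynomial (ι ⊕ Fin 2) k :=
    MvPolynomial.tensorEquivSum k ι (Fin 2) k (s.lTensor (MvPolynomial ι k) w) with hF
  have hJF : Jmap k ι F = matCoact k Θ f := by
    rw [hF, Jmap_equiv, ← LinearMap.comp_apply, ← LinearMap.lTensor_comp, hs]
    exact hw
  refine ⟨F, ?_, ?_⟩
  · -- invariance
    have hinj : Function.Injective ((Jmap k ι).toLinearMap.rTensor (H2 k)) :=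
      Module.Flat.rTensor_preserves_injective_linearMap _ Jmap_injective
    apply hinj
    rw [← bigL_eq_rTensor, ← bigL_eq_rTensor]
    have h1 := AlgHom.congr_fun (lift_Jmap_comp (R := (MvPolynomial ι k ⊗[k] H2 k) ⊗[k] H2 k)
      (Algebra.TensorProduct.includeLeft :
        MvPolynomial ι k ⊗[k] H2 k →ₐ[k] (MvPolynomial ι k ⊗[k] H2 k) ⊗[k] H2 k)
      (Algebra.TensorProduct.includeRight :
        H2 k →ₐ[k] (MvPolynomial ι k ⊗[k] H2 k) ⊗[k] H2 k) Θ) F
    have h2 := AlgHom.congr_fun (Psi_comp_coact (R := (MvPolynomial ι k ⊗[k] H2 k) ⊗[k] H2 k)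
      (Algebra.TensorProduct.includeLeft :
        MvPolynomial ι k ⊗[k] H2 k →ₐ[k] (MvPolynomial ι k ⊗[k] H2 k) ⊗[k] H2 k)
      (Algebra.TensorProduct.includeRight :
        H2 k →ₐ[k] (MvPolynomial ι k ⊗[k] H2 k) ⊗[k] H2 k) hΘ) f
    rw [AlgHom.comp_apply, AlgHom.comp_apply] at h1 h2
    rw [h1, hJF, h2, ← hJF, bigL_tmul_one]
  · have h1 := AlgHom.congr_fun (counit_Jmap (k := k) (ι := ι)) F
    rw [AlgHom.comp_apply, hJF] at h1
    rw [← h1]
    exact AlgHom.congr_fun (matCoact_counit hΘ) f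

end T2

end Groth.Agent.Lib.Helper7.WZ
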