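import Groth.Agent.Lib.Helper7.WZ6
import Mathlib.RingTheory.PolynomialAlgebra
import Mathlib.Algebra.Polynomial.Taylor
import Mathlib.RingTheory.Polynomial.Tower
import Mathlib.Algebra.MvPolynomial.Derivation

/-!
# Weitzenböck, VII: invariants of the unipotent subgroup and the kernel of the derivation (helper7)
-/

set_option autoImplicit false

universe u v

open TensorProduct Polynomial

namespace Groth.Agent.Lib.Helper7.WZ

open HopfRep CoordGrp Groth.Agent.Lib.Helper7.SLnRed

section OneParam

variable {k : Type u} [Field k] {ι : Type} [Fintype ι] [DecidableEq ι]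

/-- the matrix of the one-parameter group. -/
noncomputable def pMat (Θ : Matrix ι ι (H2 k)) : Matrix ι ι k[X] := fun i j => piU k (Θ i j)

/-- its derivative at zero. -/
noncomputable def eMat (Θ : Matrix ι ι (H2 k)) : Matrix ι ι k := fun i j => (pMat Θ i j).coeff 1

lemma uPt_apply {R : Type u} [CommRing R] [Algebra k R] (r : R) (h : H2 k) :
    uPt r h = aeval r (piU k h) := by
  rw [uPt_eq]
  rfl

lemma uPt_add {R : Type u} [CommRing R] [Algebra k R] (r s : R) :
    (uPt (r + s) : H2 k →ₐ[k] R) = cv (uPt r) (uPt s) := by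
  unfold uPt
  rw [cv_pt]
  apply pt_eq
  intro i j
  rw [SLn.pt_X]
  fin_cases i <;> fin_cases j <;> simp [Matrix.mul_apply, Fin.sum_univ_two, add_comm]

lemma pMat_eval_zero {Θ : Matrix ι ι (H2 k)} (hΘ : IsMultMat (k := k) Θ) (i j : ι) :
    (pMat Θ i j).eval 0 = if i = j then 1 else 0 := by
  have h1 : (uPt (0 : k) : H2 k →ₐ[k] k) = Bialgebra.counitAlgHom k (H2 k) := by
    symm
    apply pt_eq
    intro a b
    rw [Bialgebra.counitAlgHom_apply, counit_X]
    fin_cases a <;> fin_cases b <;> simp
  have h2 := uPt_apply (0 : k) (Θ i j)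
  rw [h1, Bialgebra.counitAlgHom_apply, hΘ.counit] at h2
  rw [h2]
  rfl

theorem derivative_pMat {Θ : Matrix ι ι (H2 k)} (hΘ : IsMultMat (k := k) Θ) (i j : ι) :
    derivative (pMat Θ i j) = ∑ l, pMat Θ i l * C (eMat Θ l j) := by
  have h1 := cv_multMat hΘ (uPt (C (X : k[X]) : k[X][X])) (uPt (X : k[X][X])) i j
  rw [← uPt_add] at h1
  simp only [uPt_apply] at h1
  have h2 := congrArg (fun q : k[X][X] => q.coeff 1) h1
  have hL : (aeval (C (X : k[X]) + (X : k[X][X])) (piU k (Θ i j))).coeff 1 =
      derivative (pMat Θ i j) := by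
    have h3 : aeval (C (X : k[X]) + (X : k[X][X])) (piU k (Θ i j)) =
        taylor (X : k[X]) ((pMat Θ i j).map (algebraMap k k[X])) := by
      rw [taylor_apply, comp, eval₂_map, aeval_def, add_comm]
      rfl
    rw [h3, taylor_coeff_one, derivative_map, eval_map, ← aeval_def, aeval_X_left_apply]
  rw [hL] at h2
  rw [h2, finsetSum_coeff]
  apply Finset.sum_congr rfl
  intro l _
  have h4 : aeval (C (X : k[X]) : k[X][X]) (piU k (Θ i l)) = C (pMat Θ i l) := by
    have := aeval_algebraMap_apply (R := k) (A := k[X]) (B := k[X][X]) (X : k[X])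
      (piU k (Θ i l))
    rw [aeval_X_left_apply] at this
    exact this
  have h5 : aeval (X : k[X][X]) (piU k (Θ l j)) = (pMat Θ l j).map (algebraMap k k[X]) :=
    aeval_X_left_eq_map _
  rw [h4, h5, coeff_C_mul, coeff_map]
  rfl

/-- the linear derivation attached to a matrix. -/
noncomputable def linDer (E : Matrix ι ι k) : Derivation k (MvPolynomial ι k) (MvPolynomial ι k) :=
  MvPolynomial.mkDerivation k (fun j => ∑ i, E i j • (MvPolynomial.X i : MvPolynomial ι k))

lemma linDer_X (E : Matrix ι ι k) (j : ι) :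
    linDer E (MvPolynomial.X j) = ∑ i, E i j • (MvPolynomial.X i : MvPolynomial ι k) := by
  unfold linDer
  rw [MvPolynomial.mkDerivation_X]

/-- the coaction of the one-parameter group, with values in the polynomial ring. -/
noncomputable def rhoP (Θ : Matrix ι ι (H2 k)) : MvPolynomial ι k →ₐ[k] (MvPolynomial ι k)[X] :=
  (polyEquivTensor k (MvPolynomial ι k)).symm.toAlgHom.comp (rhoU Θ)

lemma rhoP_X (Θ : Matrix ι ι (H2 k)) (j : ι) :
    rhoP Θ (MvPolynomial.X j) =
      ∑ i, (MvPolynomial.X i : MvPolynomial ι k) •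
        (pMat Θ i j).map (algebraMap k (MvPolynomial ι k)) := by
  unfold rhoP
  rw [AlgHom.comp_apply, rhoU_X, map_sum]
  rfl

lemma rhoP_eq_C_iff (Θ : Matrix ι ι (H2 k)) (f : MvPolynomial ι k) :
    rhoP Θ f = C f ↔ rhoU Θ f = f ⊗ₜ[k] (1 : k[X]) := by
  have h1 : (polyEquivTensor k (MvPolynomial ι k)).symm (f ⊗ₜ[k] (1 : k[X])) = C f := by
    rw [polyEquivTensor_symm_apply_tmul_eq_smul, Polynomial.map_one, smul_eq_C_mul, mul_one]
  unfold rhoP
  rw [AlgHom.comp_apply, ← h1]
  exact (polyEquivTensor k (MvPolynomial ι k)).symm.injective.eq_iff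

theorem derivative_rhoP {Θ : Matrix ι ι (H2 k)} (hΘ : IsMultMat (k := k) Θ)
    (f : MvPolynomial ι k) :
    derivative (rhoP Θ f) = rhoP Θ (linDer (eMat Θ) f) := by
  induction f using MvPolynomial.induction_on with
  | C a =>
    have h1 : rhoP Θ (MvPolynomial.C a) = C (MvPolynomial.C a) := by
      rw [← MvPolynomial.algebraMap_eq, AlgHom.commutes]
      rfl
    rw [h1, derivative_C, ← MvPolynomial.algebraMap_eq, Derivation.map_algebraMap, map_zero]
  | add p q hp hq => rw [map_add, map_add, map_add, map_add, hp, hq]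
  | mul_X p j hp =>
    rw [map_mul, derivative_mul, hp, Derivation.leibniz, map_add, smul_eq_mul, smul_eq_mul,
      map_mul, map_mul]
    have hX : derivative (rhoP Θ (MvPolynomial.X j)) =
        rhoP Θ (linDer (eMat Θ) (MvPolynomial.X j)) := by
      rw [linDer_X, map_sum, rhoP_X, map_sum]
      simp only [derivative_smul, derivative_map, derivative_pMat hΘ, Polynomial.map_sum,
        Polynomial.map_mul, Polynomial.map_C, Finset.smul_sum]
      rw [Finset.sum_comm]
      apply Finset.sum_congr rfl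
      intro l _
      rw [map_smul, rhoP_X, Finset.smul_sum]
      apply Finset.sum_congr rfl
      intro i _
      rw [← smul_mul_assoc, mul_comm]
      rw [← algebraMap_smul (MvPolynomial ι k) (eMat Θ l j), Polynomial.smul_eq_C_mul]
      rw [Polynomial.smul_eq_C_mul]
    rw [hX]
    ring

lemma coeff_zero_rhoP {Θ : Matrix ι ι (H2 k)} (hΘ : IsMultMat (k := k) Θ)
    (f : MvPolynomial ι k) : (rhoP Θ f).coeff 0 = f := by
  have h : ((aeval (0 : MvPolynomial ι k)).restrictScalars k).comp (rhoP Θ) =
      AlgHom.id k (MvPolynomial ι k) := by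
    apply MvPolynomial.algHom_ext
    intro j
    rw [AlgHom.comp_apply, rhoP_X, AlgHom.restrictScalars_apply, map_sum]
    simp only [map_smul, aeval_def, eval₂_map, smul_eq_mul]
    have : ∀ i, (MvPolynomial.X i : MvPolynomial ι k) *
        eval₂ ((algebraMap (MvPolynomial ι k) (MvPolynomial ι k)).comp
          (algebraMap k (MvPolynomial ι k))) 0 (pMat Θ i j) =
        if i = j then MvPolynomial.X i else 0 := by
      intro i
      rw [eval₂_at_zero, coeff_zero_eq_eval_zero, pMat_eval_zero hΘ]
      split_ifs <;> simp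
    simp only [this]
    rw [Finset.sum_ite_eq' Finset.univ j]
    simp
  have h1 := AlgHom.congr_fun h f
  rw [AlgHom.comp_apply, AlgHom.restrictScalars_apply, AlgHom.id_apply,
    ← coeff_zero_eq_aeval_zero] at h1
  exact h1

/-- **Invariants of the one-parameter group are the kernel of its derivation.** -/
theorem rhoU_eq_iff_linDer [CharZero k] {Θ : Matrix ι ι (H2 k)} (hΘ : IsMultMat (k := k) Θ)
    (f : MvPolynomial ι k) :
    rhoU Θ f = f ⊗ₜ[k] (1 : k[X]) ↔ linDer (eMat Θ) f = 0 := by
  rw [← rhoP_eq_C_iff]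
  constructor
  · intro h
    have h1 := derivative_rhoP hΘ f
    rw [h, derivative_C] at h1
    have h2 := coeff_zero_rhoP hΘ (linDer (eMat Θ) f)
    rw [← h1, coeff_zero] at h2
    exact h2.symm
  · intro h
    have h1 := derivative_rhoP hΘ f
    rw [h, map_zero] at h1
    have h2 := eq_C_of_derivative_eq_zero h1
    rw [coeff_zero_rhoP hΘ] at h2
    exact h2

end OneParam

end Groth.Agent.Lib.Helper7.WZ
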