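import Groth.Agent.Lib.Helper7.WZ7

/-!
# Weitzenböck, VIII: finite generation for the derivation of a representation of `SL₂` (helper7)
-/

set_option autoImplicit false

universe u v

open TensorProduct Polynomial

namespace Groth.Agent.Lib.Helper7.WZ

open HopfRep CoordGrp Groth.Agent.Lib.Helper7.SLnRed Groth.Agent.Lib.Helper7.Comod

section Hilbert

variable {k : Type u} [Field k] [CharZero k] {κ : Type} [Fintype κ] [DecidableEq κ]

/-- **Hilbert's finiteness theorem** for a linear representation of `SL₂`. -/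
theorem invariants_fg {Ξ : Matrix κ κ (H2 k)} (hΞ : IsMultMat (k := k) Ξ) :
    ∃ S : Subalgebra k (MvPolynomial κ k), S.FG ∧
      ∀ F, F ∈ S ↔ matCoact k Ξ F = F ⊗ₜ[k] (1 : H2 k) := by
  classical
  letI := matComod hΞ
  haveI := matIsCoactAlg hΞ
  have hC : IsSemisimpleComod k (H2 k) (MvPolynomial κ k) :=
    isSemisimpleComod_of_isLinearlyReductive' (isLinearlyReductive_SLn 2 k) _
  haveI : IsNoetherianRing (⊥ : Subalgebra k (MvPolynomial κ k)) :=
    isNoetherianRing_of_ringEquiv k (Algebra.botEquiv k (MvPolynomial κ k)).symm.toRingEquiv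
  have hbot : IsSubcomod (k := k) (A := H2 k)
      (Subalgebra.toSubmodule (⊥ : Subalgebra k (MvPolynomial κ k))) := by
    rw [Algebra.toSubmodule_bot]
    exact isSubcomod_one
  have ht : Algebra.adjoin k (((⊥ : Subalgebra k (MvPolynomial κ k)) : Set (MvPolynomial κ k)) ∪
      ((Finset.univ.image (fun i : κ => (MvPolynomial.X i : MvPolynomial κ k)) : Finset _) :
        Set (MvPolynomial κ k))) = ⊤ := by
    rw [eq_top_iff, ← MvPolynomial.adjoin_range_X]
    apply Algebra.adjoin_mono
    rintro _ ⟨i, rfl⟩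
    right
    simp
  obtain ⟨s, hs1, hs2⟩ := exists_finset_invariants_adjoin hC ⊥ hbot _ ht
  refine ⟨GLin.invariants k (H2 k) (MvPolynomial κ k), ⟨s, ?_⟩, fun F => Iff.rfl⟩
  apply le_antisymm
  · exact Algebra.adjoin_le hs1
  · intro F hF
    have h1 := hs2 F hF
    refine Algebra.adjoin_le ?_ h1
    rintro c (⟨hc, -⟩ | hc)
    · obtain ⟨r, rfl⟩ := Algebra.mem_bot.1 hc
      exact Subalgebra.algebraMap_mem _ r
    · exact Algebra.subset_adjoin hc

end Hilbert

section Main

variable {k : Type u} [Field k] [CharZero k] {ι : Type} [Fintype ι] [DecidableEq ι]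

/-- **Weitzenböck's theorem** for the infinitesimal generator of the unipotent subgroup in a
representation of `SL₂`. -/
theorem fg_ker_linDer_eMat {Θ : Matrix ι ι (H2 k)} (hΘ : IsMultMat (k := k) Θ) :
    ∃ S : Subalgebra k (MvPolynomial ι k), S.FG ∧ ∀ f, f ∈ S ↔ linDer (eMat Θ) f = 0 := by
  obtain ⟨S, hS, hmem⟩ := invariants_fg (bigMat_multMat hΘ)
  refine ⟨S.map (evB k ι), hS.map _, fun f => ?_⟩
  rw [← rhoU_eq_iff_linDer hΘ]
  constructor
  · rintro ⟨F, hF, rfl⟩
    exact rhoU_evB_of_invariant ((hmem F).1 hF)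
  · intro hf
    obtain ⟨F, hF, rfl⟩ := exists_invariant_of_rhoU hΘ hf
    exact ⟨F, (hmem F).2 hF, rfl⟩

end Main

end Groth.Agent.Lib.Helper7.WZ
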